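import Cfsg.Agent.Helper17.FiR2TC.Lemmas

set_option autoImplicit false
set_option linter.all false

noncomputable section

namespace Cfsg.Agent.Helper17.FiR2TC

theorem F1 : act 0 n0 = n0 := d29_0 B0 
theorem F2 : act 1 n0 = n0 := d30_0 B1 
theorem F3 : act 2 n0 = n0 := d31_0 B2 
theorem F4 : act 3 n0 = n0 := d32_0 B3 
theorem F5 : act 4 n0 = n0 := d33_0 B4 
theorem F6 : act 5 n0 = n0 := d34_0 B5 
theorem F7 : act 6 n0 = n0 := d35_0 B6 
def n1 : Q := act 7 n0
theorem D1 : act 7 n0 = n1 := rfl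
theorem F8 : act 0 n1 = n1 := d6_1 D1 (iv D1) F1
theorem F9 : act 1 n1 = n1 := d12_1 D1 (iv D1) F2
theorem F10 : act 2 n1 = n1 := d17_1 D1 (iv D1) F3
theorem F11 : act 3 n1 = n1 := d21_1 D1 (iv D1) F4
theorem F12 : act 4 n1 = n1 := d24_1 D1 (iv D1) F5
theorem F13 : act 5 n1 = n1 := d26_1 D1 (iv D1) F6
def n2 : Q := act 6 n1
theorem D2 : act 6 n1 = n2 := rfl
theorem F14 : act 0 n2 = n2 := d5_1 D2 (iv D2) F8
theorem F15 : act 1 n2 = n2 := d11_1 D2 (iv D2) F9
theorem F16 : act 3 n2 = n2 := d20_1 D2 (iv D2) F11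
theorem F17 : act 4 n2 = n2 := d23_1 D2 (iv D2) F12
theorem F18 : act 5 n2 = n2 := d25_1 D2 (iv D2) F13
theorem F19 : act 7 n2 = n2 := d27_2 D1 D2 (iv D2) (iv D1) F7
def n3 : Q := act 2 n2
theorem D3 : act 2 n2 = n3 := rfl
theorem F20 : act 0 n3 = n3 := d1_1 D3 (iv D3) F14
theorem F21 : act 4 n3 = n3 := d14_2 F17 D3 (iv D3)
theorem F22 : act 5 n3 = n3 := d15_2 F18 D3 (iv D3)
theorem F23 : act 6 n3 = n3 := d16_2 D2 D3 (iv D3) (iv D2) F10
theorem F24 : act 7 n3 = n3 := d17_2 F19 D3 (iv D3)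
def n4 : Q := act 1 n3
theorem D4 : act 1 n3 = n4 := rfl
theorem F25 : act 2 n4 = n4 := d7_2 D3 D4 (iv D4) (iv D3) F15
theorem F26 : act 4 n4 = n4 := d9_2 F21 D4 (iv D4)
theorem F27 : act 5 n4 = n4 := d10_2 F22 D4 (iv D4)
theorem F28 : act 6 n4 = n4 := d11_2 F23 D4 (iv D4)
theorem F29 : act 7 n4 = n4 := d12_2 F24 D4 (iv D4)
def n5 : Q := act 3 n3
theorem D5 : act 3 n3 = n5 := rfl
theorem F30 : act 0 n5 = n5 := d2_1 D5 (iv D5) F20
theorem F31 : act 2 n5 = n5 := d13_1 D5 (iv D5) (iv D3) F16 D3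
theorem F32 : act 5 n5 = n5 := d19_2 F22 D5 (iv D5)
theorem F33 : act 6 n5 = n5 := d20_2 F23 D5 (iv D5)
theorem F34 : act 7 n5 = n5 := d21_2 F24 D5 (iv D5)
def n6 : Q := act 0 n4
theorem D6 : act 0 n4 = n6 := rfl
theorem F35 : act 1 n6 = n6 := d0_2 D4 D6 (iv D6) (iv D4) F20
theorem F36 : act 2 n6 = n6 := d1_2 F25 D6 (iv D6)
theorem F37 : act 4 n6 = n6 := d3_2 F26 D6 (iv D6)
theorem F38 : act 5 n6 = n6 := d4_2 F27 D6 (iv D6)
theorem F39 : act 6 n6 = n6 := d5_2 F28 D6 (iv D6)
theorem F40 : act 7 n6 = n6 := d6_2 F29 D6 (iv D6)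
def n7 : Q := act 3 n4
theorem D7 : act 3 n4 = n7 := rfl
theorem F41 : act 1 n7 = n5 := d8_1 D7 (iv D5) D4
theorem F42 : act 5 n7 = n7 := d19_2 F27 D7 (iv D7)
theorem F43 : act 6 n7 = n7 := d20_2 F28 D7 (iv D7)
theorem F44 : act 7 n7 = n7 := d21_2 F29 D7 (iv D7)
def n8 : Q := act 4 n5
theorem D8 : act 4 n5 = n8 := rfl
theorem F45 : act 0 n8 = n8 := d3_1 D8 (iv D8) F30
theorem F46 : act 2 n8 = n8 := d14_1 D8 (iv D8) F31
theorem F47 : act 3 n8 = n8 := d18_1 D8 (iv D8) (iv D5) F21 D5
theorem F48 : act 6 n8 = n8 := d23_2 F33 D8 (iv D8)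
theorem F49 : act 7 n8 = n8 := d24_2 F34 D8 (iv D8)
def n9 : Q := act 3 n6
theorem D9 : act 3 n6 = n9 := rfl
theorem F50 : act 0 n9 = n7 := d2_1 D9 (iv D7) D6
theorem F51 : act 1 n9 = n9 := d8_1 D9 (iv D9) F35
theorem F52 : act 5 n9 = n9 := d19_2 F38 D9 (iv D9)
theorem F53 : act 6 n9 = n9 := d20_2 F39 D9 (iv D9)
theorem F54 : act 7 n9 = n9 := d21_2 F40 D9 (iv D9)
def n10 : Q := act 2 n7
theorem D10 : act 2 n7 = n10 := rfl
theorem F55 : act 1 n10 = n10 := d7_1 D10 (iv D10) F41 F31 (iv F41)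
theorem F56 : act 3 n10 = n10 := d13_2 D7 D10 (iv D10) (iv D7) F25
theorem F57 : act 5 n10 = n10 := d15_2 F42 D10 (iv D10)
theorem F58 : act 7 n10 = n10 := d17_2 F44 D10 (iv D10)
def n11 : Q := act 4 n7
theorem D11 : act 4 n7 = n11 := rfl
theorem F59 : act 1 n11 = n8 := d9_1 D11 (iv D8) (iv F41)
theorem F60 : act 3 n11 = n11 := d18_1 D11 (iv D11) (iv D7) F26 D7
theorem F61 : act 6 n11 = n11 := d23_2 F43 D11 (iv D11)
theorem F62 : act 7 n11 = n11 := d24_2 F44 D11 (iv D11)
def n12 : Q := act 5 n8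
theorem D12 : act 5 n8 = n12 := rfl
theorem F63 : act 0 n12 = n12 := d4_1 D12 (iv D12) F45
theorem F64 : act 2 n12 = n12 := d15_1 D12 (iv D12) F46
theorem F65 : act 3 n12 = n12 := d19_1 D12 (iv D12) F47
theorem F66 : act 4 n12 = n12 := d22_1 D12 (iv D12) (iv D8) F32 D8
theorem F67 : act 6 n12 = n12 := d25_2 F48 D12 (iv D12)
theorem F68 : act 7 n12 = n12 := d26_2 F49 D12 (iv D12)
def n13 : Q := act 2 n9
theorem D13 : act 2 n9 = n13 := rfl
theorem F69 : act 0 n13 = n10 := d1_1 D13 (iv D10) (iv F50)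
theorem F70 : act 3 n13 = n13 := d13_2 D9 D13 (iv D13) (iv D9) F36
theorem F71 : act 5 n13 = n13 := d15_2 F52 D13 (iv D13)
theorem F72 : act 7 n13 = n13 := d17_2 F54 D13 (iv D13)
def n14 : Q := act 4 n9
theorem D14 : act 4 n9 = n14 := rfl
theorem F73 : act 0 n14 = n11 := d3_1 D14 (iv D11) (iv F50)
theorem F74 : act 1 n14 = n14 := d9_1 D14 (iv D14) F51
theorem F75 : act 3 n14 = n14 := d18_1 D14 (iv D14) (iv D9) F37 D9
theorem F76 : act 6 n14 = n14 := d23_2 F53 D14 (iv D14)
theorem F77 : act 7 n14 = n14 := d24_2 F54 D14 (iv D14)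
def n15 : Q := act 4 n10
theorem D15 : act 4 n10 = n15 := rfl
theorem F78 : act 1 n15 = n15 := d9_1 D15 (iv D15) F55
theorem F79 : act 2 n15 = n11 := d14_1 D15 (iv D11) D10
theorem F80 : act 7 n15 = n15 := d24_2 F58 D15 (iv D15)
def n16 : Q := act 6 n10
theorem D16 : act 6 n10 = n16 := rfl
theorem F81 : act 1 n16 = n16 := d11_1 D16 (iv D16) F55
theorem F82 : act 2 n16 = n16 := d16_1 D16 (iv D16) (iv D10) F43 D10
theorem F83 : act 3 n16 = n16 := d20_1 D16 (iv D16) F56
theorem F84 : act 5 n16 = n16 := d25_1 D16 (iv D16) F57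
def n17 : Q := act 5 n11
theorem D17 : act 5 n11 = n17 := rfl
theorem F85 : act 1 n17 = n12 := d10_1 D17 (iv D12) (iv F59)
theorem F86 : act 3 n17 = n17 := d19_1 D17 (iv D17) F60
theorem F87 : act 4 n17 = n17 := d22_1 D17 (iv D17) (iv D11) F42 D11
theorem F88 : act 6 n17 = n17 := d25_2 F61 D17 (iv D17)
theorem F89 : act 7 n17 = n17 := d26_2 F62 D17 (iv D17)
def n18 : Q := act 1 n13
theorem D18 : act 1 n13 = n18 := rfl
theorem F90 : act 0 n18 = n18 := d0_1 D18 (iv D18) F69 F55 (iv F69)
theorem F91 : act 2 n18 = n18 := d7_2 D13 D18 (iv D18) (iv D13) F51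
theorem F92 : act 3 n18 = n18 := d8_2 F70 D18 (iv D18)
theorem F93 : act 5 n18 = n18 := d10_2 F71 D18 (iv D18)
theorem F94 : act 7 n18 = n18 := d12_2 F72 D18 (iv D18)
def n19 : Q := act 4 n13
theorem D19 : act 4 n13 = n19 := rfl
theorem F95 : act 0 n19 = n15 := d3_1 D19 (iv D15) (iv F69)
theorem F96 : act 2 n19 = n14 := d14_1 D19 (iv D14) D13
theorem F97 : act 7 n19 = n19 := d24_2 F72 D19 (iv D19)
def n20 : Q := act 6 n13
theorem D20 : act 6 n13 = n20 := rfl
theorem F98 : act 0 n20 = n16 := d5_1 D20 (iv D16) (iv F69)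
theorem F99 : act 2 n20 = n20 := d16_1 D20 (iv D20) (iv D13) F53 D13
theorem F100 : act 3 n20 = n20 := d20_1 D20 (iv D20) F70
theorem F101 : act 5 n20 = n20 := d25_1 D20 (iv D20) F71
def n21 : Q := act 5 n14
theorem D21 : act 5 n14 = n21 := rfl
theorem F102 : act 0 n21 = n17 := d4_1 D21 (iv D17) (iv F73)
theorem F103 : act 1 n21 = n21 := d10_1 D21 (iv D21) F74
theorem F104 : act 3 n21 = n21 := d19_1 D21 (iv D21) F75
theorem F105 : act 4 n21 = n21 := d22_1 D21 (iv D21) (iv D14) F52 D14
theorem F106 : act 6 n21 = n21 := d25_2 F76 D21 (iv D21)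
theorem F107 : act 7 n21 = n21 := d26_2 F77 D21 (iv D21)
def n22 : Q := act 3 n15
theorem D22 : act 3 n15 = n22 := rfl
theorem F108 : act 1 n22 = n22 := d8_1 D22 (iv D22) F78
theorem F109 : act 2 n22 = n22 := d13_1 D22 (iv D22) F79 F60 (iv F79)
theorem F110 : act 4 n22 = n22 := d18_2 D15 D22 (iv D22) (iv D15) F56
theorem F111 : act 7 n22 = n22 := d21_2 F80 D22 (iv D22)
def n23 : Q := act 5 n15
theorem D23 : act 5 n15 = n23 := rfl
theorem F112 : act 1 n23 = n23 := d10_1 D23 (iv D23) F78
theorem F113 : act 2 n23 = n17 := d15_1 D23 (iv D17) (iv F79)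
theorem F114 : act 4 n23 = n23 := d22_1 D23 (iv D23) (iv D15) F57 D15
theorem F115 : act 7 n23 = n23 := d26_2 F80 D23 (iv D23)
def n24 : Q := act 6 n15
theorem D24 : act 6 n15 = n24 := rfl
theorem F116 : act 1 n24 = n24 := d11_1 D24 (iv D24) F78
theorem F117 : act 2 n24 = n24 := d16_1 D24 (iv D24) F79 F61 (iv F79)
theorem F118 : act 4 n24 = n16 := d23_1 D24 (iv D16) D15
def n25 : Q := act 7 n16
theorem D25 : act 7 n16 = n25 := rfl
theorem F119 : act 1 n25 = n25 := d12_1 D25 (iv D25) F81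
theorem F120 : act 2 n25 = n25 := d17_1 D25 (iv D25) F82
theorem F121 : act 3 n25 = n25 := d21_1 D25 (iv D25) F83
theorem F122 : act 5 n25 = n25 := d26_1 D25 (iv D25) F84
theorem F123 : act 6 n25 = n25 := d27_1 D25 (iv D25) (iv D16) F58 D16
def n26 : Q := act 4 n18
theorem D26 : act 4 n18 = n26 := rfl
theorem F124 : act 0 n26 = n26 := d3_1 D26 (iv D26) F90
theorem F125 : act 1 n26 = n19 := d9_1 D26 (iv D19) D18
theorem F126 : act 2 n26 = n26 := d14_1 D26 (iv D26) F91
theorem F127 : act 7 n26 = n26 := d24_2 F94 D26 (iv D26)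
def n27 : Q := act 6 n18
theorem D27 : act 6 n18 = n27 := rfl
theorem F128 : act 0 n27 = n27 := d5_1 D27 (iv D27) F90
theorem F129 : act 1 n27 = n20 := d11_1 D27 (iv D20) D18
theorem F130 : act 3 n27 = n27 := d20_1 D27 (iv D27) F92
theorem F131 : act 5 n27 = n27 := d25_1 D27 (iv D27) F93
def n28 : Q := act 3 n19
theorem D28 : act 3 n19 = n28 := rfl
theorem F132 : act 0 n28 = n22 := d2_1 D28 (iv D22) (iv F95)
theorem F133 : act 2 n28 = n28 := d13_1 D28 (iv D28) F96 F75 (iv F96)
theorem F134 : act 4 n28 = n28 := d18_2 D19 D28 (iv D28) (iv D19) F70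
theorem F135 : act 7 n28 = n28 := d21_2 F97 D28 (iv D28)
def n29 : Q := act 5 n19
theorem D29 : act 5 n19 = n29 := rfl
theorem F136 : act 0 n29 = n23 := d4_1 D29 (iv D23) (iv F95)
theorem F137 : act 2 n29 = n21 := d15_1 D29 (iv D21) (iv F96)
theorem F138 : act 4 n29 = n29 := d22_1 D29 (iv D29) (iv D19) F71 D19
theorem F139 : act 7 n29 = n29 := d26_2 F97 D29 (iv D29)
def n30 : Q := act 6 n19
theorem D30 : act 6 n19 = n30 := rfl
theorem F140 : act 0 n30 = n24 := d5_1 D30 (iv D24) (iv F95)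
theorem F141 : act 2 n30 = n30 := d16_1 D30 (iv D30) F96 F76 (iv F96)
theorem F142 : act 4 n30 = n20 := d23_1 D30 (iv D20) D19
def n31 : Q := act 7 n20
theorem D31 : act 7 n20 = n31 := rfl
theorem F143 : act 0 n31 = n25 := d6_1 D31 (iv D25) (iv F98)
theorem F144 : act 2 n31 = n31 := d17_1 D31 (iv D31) F99
theorem F145 : act 3 n31 = n31 := d21_1 D31 (iv D31) F100
theorem F146 : act 5 n31 = n31 := d26_1 D31 (iv D31) F101
theorem F147 : act 6 n31 = n31 := d27_1 D31 (iv D31) (iv D20) F72 D20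
def n32 : Q := act 5 n22
theorem D32 : act 5 n22 = n32 := rfl
theorem F148 : act 1 n32 = n32 := d10_1 D32 (iv D32) F108
theorem F149 : act 2 n32 = n32 := d15_1 D32 (iv D32) F109
theorem F150 : act 3 n32 = n23 := d19_1 D32 (iv D23) D22
theorem F151 : act 7 n32 = n32 := d26_2 F111 D32 (iv D32)
def n33 : Q := act 6 n22
theorem D33 : act 6 n22 = n33 := rfl
theorem F152 : act 1 n33 = n33 := d11_1 D33 (iv D33) F108
theorem F153 : act 3 n33 = n24 := d20_1 D33 (iv D24) D22
theorem F154 : act 4 n33 = n33 := d23_1 D33 (iv D33) F110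
def n34 : Q := act 6 n23
theorem D34 : act 6 n23 = n34 := rfl
theorem F155 : act 1 n34 = n34 := d11_1 D34 (iv D34) F112
theorem F156 : act 2 n34 = n34 := d16_1 D34 (iv D34) F113 F88 (iv F113)
theorem F157 : act 4 n34 = n34 := d23_1 D34 (iv D34) F114
theorem F158 : act 5 n34 = n24 := d25_1 D34 (iv D24) D23
def n35 : Q := act 7 n24
theorem D35 : act 7 n24 = n35 := rfl
theorem F159 : act 1 n35 = n35 := d12_1 D35 (iv D35) F116
theorem F160 : act 2 n35 = n35 := d17_1 D35 (iv D35) F117
theorem F161 : act 4 n35 = n25 := d24_1 D35 (iv D25) (iv F118)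
theorem F162 : act 6 n35 = n35 := d27_1 D35 (iv D35) (iv D24) F80 D24
def n36 : Q := act 3 n26
theorem D36 : act 3 n26 = n36 := rfl
theorem F163 : act 0 n36 = n36 := d2_1 D36 (iv D36) F124
theorem F164 : act 1 n36 = n28 := d8_1 D36 (iv D28) (iv F125)
theorem F165 : act 4 n36 = n36 := d18_2 D26 D36 (iv D36) (iv D26) F92
theorem F166 : act 7 n36 = n36 := d21_2 F127 D36 (iv D36)
def n37 : Q := act 5 n26
theorem D37 : act 5 n26 = n37 := rfl
theorem F167 : act 0 n37 = n37 := d4_1 D37 (iv D37) F124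
theorem F168 : act 1 n37 = n29 := d10_1 D37 (iv D29) (iv F125)
theorem F169 : act 2 n37 = n37 := d15_1 D37 (iv D37) F126
theorem F170 : act 4 n37 = n37 := d22_1 D37 (iv D37) (iv D26) F93 D26
theorem F171 : act 7 n37 = n37 := d26_2 F127 D37 (iv D37)
def n38 : Q := act 6 n26
theorem D38 : act 6 n26 = n38 := rfl
theorem F172 : act 0 n38 = n38 := d5_1 D38 (iv D38) F124
theorem F173 : act 1 n38 = n30 := d11_1 D38 (iv D30) (iv F125)
theorem F174 : act 4 n38 = n27 := d23_1 D38 (iv D27) D26
def n39 : Q := act 2 n27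
theorem D39 : act 2 n27 = n39 := rfl
theorem F175 : act 0 n39 = n39 := d1_1 D39 (iv D39) F128
theorem F176 : act 1 n39 = n39 := d7_1 D39 (iv D39) F129 F99 (iv F129)
theorem F177 : act 5 n39 = n39 := d15_2 F131 D39 (iv D39)
theorem F178 : act 6 n39 = n39 := d16_2 D27 D39 (iv D39) (iv D27) F91
def n40 : Q := act 7 n27
theorem D40 : act 7 n27 = n40 := rfl
theorem F179 : act 0 n40 = n40 := d6_1 D40 (iv D40) F128
theorem F180 : act 1 n40 = n31 := d12_1 D40 (iv D31) (iv F129)
theorem F181 : act 3 n40 = n40 := d21_1 D40 (iv D40) F130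
theorem F182 : act 5 n40 = n40 := d26_1 D40 (iv D40) F131
theorem F183 : act 6 n40 = n40 := d27_1 D40 (iv D40) (iv D27) F94 D27
def n41 : Q := act 5 n28
theorem D41 : act 5 n28 = n41 := rfl
theorem F184 : act 0 n41 = n32 := d4_1 D41 (iv D32) (iv F132)
theorem F185 : act 2 n41 = n41 := d15_1 D41 (iv D41) F133
theorem F186 : act 3 n41 = n29 := d19_1 D41 (iv D29) D28
theorem F187 : act 7 n41 = n41 := d26_2 F135 D41 (iv D41)
def n42 : Q := act 6 n28
theorem D42 : act 6 n28 = n42 := rfl
theorem F188 : act 0 n42 = n33 := d5_1 D42 (iv D33) (iv F132)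
theorem F189 : act 3 n42 = n30 := d20_1 D42 (iv D30) D28
theorem F190 : act 4 n42 = n42 := d23_1 D42 (iv D42) F134
def n43 : Q := act 6 n29
theorem D43 : act 6 n29 = n43 := rfl
theorem F191 : act 0 n43 = n34 := d5_1 D43 (iv D34) (iv F136)
theorem F192 : act 2 n43 = n43 := d16_1 D43 (iv D43) F137 F106 (iv F137)
theorem F193 : act 4 n43 = n43 := d23_1 D43 (iv D43) F138
theorem F194 : act 5 n43 = n30 := d25_1 D43 (iv D30) D29
def n44 : Q := act 7 n30
theorem D44 : act 7 n30 = n44 := rfl
theorem F195 : act 0 n44 = n35 := d6_1 D44 (iv D35) (iv F140)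
theorem F196 : act 2 n44 = n44 := d17_1 D44 (iv D44) F141
theorem F197 : act 4 n44 = n31 := d24_1 D44 (iv D31) (iv F142)
theorem F198 : act 6 n44 = n44 := d27_1 D44 (iv D44) (iv D30) F97 D30
def n45 : Q := act 4 n32
theorem D45 : act 4 n32 = n45 := rfl
theorem F199 : act 1 n45 = n45 := d9_1 D45 (iv D45) F148
theorem F200 : act 2 n45 = n45 := d14_1 D45 (iv D45) F149
theorem F201 : act 3 n45 = n45 := d18_1 D45 (iv D45) F150 F114 (iv F150)
theorem F202 : act 5 n45 = n45 := d22_2 D32 D45 (iv D45) (iv D32) F110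
theorem F203 : act 7 n45 = n45 := d24_2 F151 D45 (iv D45)
def n46 : Q := act 6 n32
theorem D46 : act 6 n32 = n46 := rfl
theorem F204 : act 1 n46 = n46 := d11_1 D46 (iv D46) F148
theorem F205 : act 3 n46 = n34 := d20_1 D46 (iv D34) (iv F150)
theorem F206 : act 5 n46 = n33 := d25_1 D46 (iv D33) D32
def n47 : Q := act 2 n33
theorem D47 : act 2 n33 = n47 := rfl
theorem F207 : act 3 n47 = n47 := d13_2 (iv F153) D47 (iv D47) F153 F117
theorem F208 : act 4 n47 = n47 := d14_2 F154 D47 (iv D47)
theorem F209 : act 6 n47 = n47 := d16_2 D33 D47 (iv D47) (iv D33) F109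
def n48 : Q := act 7 n33
theorem D48 : act 7 n33 = n48 := rfl
theorem F210 : act 1 n48 = n48 := d12_1 D48 (iv D48) F152
theorem F211 : act 3 n48 = n35 := d21_1 D48 (iv D35) (iv F153)
theorem F212 : act 4 n48 = n48 := d24_1 D48 (iv D48) F154
theorem F213 : act 6 n48 = n48 := d27_1 D48 (iv D48) (iv D33) F111 D33
def n49 : Q := act 7 n34
theorem D49 : act 7 n34 = n49 := rfl
theorem F214 : act 1 n49 = n49 := d12_1 D49 (iv D49) F155
theorem F215 : act 2 n49 = n49 := d17_1 D49 (iv D49) F156
theorem F216 : act 4 n49 = n49 := d24_1 D49 (iv D49) F157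
theorem F217 : act 5 n49 = n35 := d26_1 D49 (iv D35) (iv F158)
theorem F218 : act 6 n49 = n49 := d27_1 D49 (iv D49) (iv D34) F115 D34
def n50 : Q := act 2 n36
theorem D50 : act 2 n36 = n50 := rfl
theorem F219 : act 0 n50 = n50 := d1_1 D50 (iv D50) F163
theorem F220 : act 1 n50 = n50 := d7_1 D50 (iv D50) F164 F133 (iv F164)
theorem F221 : act 3 n50 = n50 := d13_2 D36 D50 (iv D50) (iv D36) F126
theorem F222 : act 4 n50 = n50 := d14_2 F165 D50 (iv D50)
theorem F223 : act 7 n50 = n50 := d17_2 F166 D50 (iv D50)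
def n51 : Q := act 5 n36
theorem D51 : act 5 n36 = n51 := rfl
theorem F224 : act 0 n51 = n51 := d4_1 D51 (iv D51) F163
theorem F225 : act 1 n51 = n41 := d10_1 D51 (iv D41) (iv F164)
theorem F226 : act 3 n51 = n37 := d19_1 D51 (iv D37) D36
theorem F227 : act 7 n51 = n51 := d26_2 F166 D51 (iv D51)
def n52 : Q := act 6 n36
theorem D52 : act 6 n36 = n52 := rfl
theorem F228 : act 0 n52 = n52 := d5_1 D52 (iv D52) F163
theorem F229 : act 1 n52 = n42 := d11_1 D52 (iv D42) (iv F164)
theorem F230 : act 3 n52 = n38 := d20_1 D52 (iv D38) D36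
theorem F231 : act 4 n52 = n52 := d23_1 D52 (iv D52) F165
def n53 : Q := act 6 n37
theorem D53 : act 6 n37 = n53 := rfl
theorem F232 : act 0 n53 = n53 := d5_1 D53 (iv D53) F167
theorem F233 : act 1 n53 = n43 := d11_1 D53 (iv D43) (iv F168)
theorem F234 : act 4 n53 = n53 := d23_1 D53 (iv D53) F170
theorem F235 : act 5 n53 = n38 := d25_1 D53 (iv D38) D37
def n54 : Q := act 2 n38
theorem D54 : act 2 n38 = n54 := rfl
theorem F236 : act 0 n54 = n54 := d1_1 D54 (iv D54) F172
theorem F237 : act 1 n54 = n54 := d7_1 D54 (iv D54) F173 F141 (iv F173)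
theorem F238 : act 4 n54 = n39 := d14_2 (iv F174) D54 (iv D39)
theorem F239 : act 6 n54 = n54 := d16_2 D38 D54 (iv D54) (iv D38) F126
def n55 : Q := act 7 n38
theorem D55 : act 7 n38 = n55 := rfl
theorem F240 : act 0 n55 = n55 := d6_1 D55 (iv D55) F172
theorem F241 : act 1 n55 = n44 := d12_1 D55 (iv D44) (iv F173)
theorem F242 : act 4 n55 = n40 := d24_1 D55 (iv D40) (iv F174)
theorem F243 : act 6 n55 = n55 := d27_1 D55 (iv D55) (iv D38) F127 D38
def n56 : Q := act 3 n39
theorem D56 : act 3 n39 = n56 := rfl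
theorem F244 : act 0 n56 = n56 := d2_1 D56 (iv D56) F175
theorem F245 : act 1 n56 = n56 := d8_1 D56 (iv D56) F176
theorem F246 : act 2 n56 = n56 := d13_1 D56 (iv D56) (iv D39) F130 D39
theorem F247 : act 5 n56 = n56 := d19_2 F177 D56 (iv D56)
theorem F248 : act 6 n56 = n56 := d20_2 F178 D56 (iv D56)
def n57 : Q := act 7 n39
theorem D57 : act 7 n39 = n57 := rfl
theorem F249 : act 0 n57 = n57 := d6_1 D57 (iv D57) F175
theorem F250 : act 1 n57 = n57 := d12_1 D57 (iv D57) F176
theorem F251 : act 2 n57 = n40 := d17_1 D57 (iv D40) D39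
theorem F252 : act 5 n57 = n57 := d26_1 D57 (iv D57) F177
def n58 : Q := act 4 n41
theorem D58 : act 4 n41 = n58 := rfl
theorem F253 : act 0 n58 = n45 := d3_1 D58 (iv D45) (iv F184)
theorem F254 : act 2 n58 = n58 := d14_1 D58 (iv D58) F185
theorem F255 : act 3 n58 = n58 := d18_1 D58 (iv D58) F186 F138 (iv F186)
theorem F256 : act 5 n58 = n58 := d22_2 D41 D58 (iv D58) (iv D41) F134
theorem F257 : act 7 n58 = n58 := d24_2 F187 D58 (iv D58)
def n59 : Q := act 6 n41
theorem D59 : act 6 n41 = n59 := rfl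
theorem F258 : act 0 n59 = n46 := d5_1 D59 (iv D46) (iv F184)
theorem F259 : act 3 n59 = n43 := d20_1 D59 (iv D43) (iv F186)
theorem F260 : act 5 n59 = n42 := d25_1 D59 (iv D42) D41
def n60 : Q := act 2 n42
theorem D60 : act 2 n42 = n60 := rfl
theorem F261 : act 0 n60 = n47 := d1_1 D60 (iv D47) (iv F188)
theorem F262 : act 3 n60 = n60 := d13_2 (iv F189) D60 (iv D60) F189 F141
theorem F263 : act 4 n60 = n60 := d14_2 F190 D60 (iv D60)
theorem F264 : act 6 n60 = n60 := d16_2 D42 D60 (iv D60) (iv D42) F133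
def n61 : Q := act 7 n42
theorem D61 : act 7 n42 = n61 := rfl
theorem F265 : act 0 n61 = n48 := d6_1 D61 (iv D48) (iv F188)
theorem F266 : act 3 n61 = n44 := d21_1 D61 (iv D44) (iv F189)
theorem F267 : act 4 n61 = n61 := d24_1 D61 (iv D61) F190
theorem F268 : act 6 n61 = n61 := d27_1 D61 (iv D61) (iv D42) F135 D42
def n62 : Q := act 7 n43
theorem D62 : act 7 n43 = n62 := rfl
theorem F269 : act 0 n62 = n49 := d6_1 D62 (iv D49) (iv F191)
theorem F270 : act 2 n62 = n62 := d17_1 D62 (iv D62) F192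
theorem F271 : act 4 n62 = n62 := d24_1 D62 (iv D62) F193
theorem F272 : act 5 n62 = n44 := d26_1 D62 (iv D44) (iv F194)
theorem F273 : act 6 n62 = n62 := d27_1 D62 (iv D62) (iv D43) F139 D43
def n63 : Q := act 6 n45
theorem D63 : act 6 n45 = n63 := rfl
theorem F274 : act 1 n63 = n63 := d11_1 D63 (iv D63) F199
theorem F275 : act 3 n63 = n63 := d20_1 D63 (iv D63) F201
theorem F276 : act 4 n63 = n46 := d23_1 D63 (iv D46) D45
theorem F277 : act 5 n63 = n63 := d25_1 D63 (iv D63) F202
def n64 : Q := act 2 n46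
theorem D64 : act 2 n46 = n64 := rfl
theorem F278 : act 3 n64 = n64 := d13_2 (iv F205) D64 (iv D64) F205 F156
theorem F279 : act 5 n64 = n47 := d15_2 (iv F206) D64 (iv D47)
theorem F280 : act 6 n64 = n64 := d16_2 D46 D64 (iv D64) (iv D46) F149
def n65 : Q := act 7 n46
theorem D65 : act 7 n46 = n65 := rfl
theorem F281 : act 1 n65 = n65 := d12_1 D65 (iv D65) F204
theorem F282 : act 3 n65 = n49 := d21_1 D65 (iv D49) (iv F205)
theorem F283 : act 5 n65 = n48 := d26_1 D65 (iv D48) (iv F206)
theorem F284 : act 6 n65 = n65 := d27_1 D65 (iv D65) (iv D46) F151 D46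
def n66 : Q := act 1 n47
theorem D66 : act 1 n47 = n66 := rfl
theorem F285 : act 2 n66 = n66 := d7_2 D47 D66 (iv D66) (iv D47) F152
theorem F286 : act 3 n66 = n66 := d8_2 F207 D66 (iv D66)
theorem F287 : act 4 n66 = n66 := d9_2 F208 D66 (iv D66)
theorem F288 : act 6 n66 = n66 := d11_2 F209 D66 (iv D66)
def n67 : Q := act 7 n47
theorem D67 : act 7 n47 = n67 := rfl
theorem F289 : act 2 n67 = n48 := d17_1 D67 (iv D48) D47
theorem F290 : act 3 n67 = n67 := d21_1 D67 (iv D67) F207
theorem F291 : act 4 n67 = n67 := d24_1 D67 (iv D67) F208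
def n68 : Q := act 5 n50
theorem D68 : act 5 n50 = n68 := rfl
theorem F292 : act 0 n68 = n68 := d4_1 D68 (iv D68) F219
theorem F293 : act 1 n68 = n68 := d10_1 D68 (iv D68) F220
theorem F294 : act 2 n68 = n51 := d15_1 D68 (iv D51) D50
theorem F295 : act 3 n68 = n68 := d19_1 D68 (iv D68) F221
theorem F296 : act 7 n68 = n68 := d26_2 F223 D68 (iv D68)
def n69 : Q := act 6 n50
theorem D69 : act 6 n50 = n69 := rfl
theorem F297 : act 0 n69 = n69 := d5_1 D69 (iv D69) F219
theorem F298 : act 1 n69 = n69 := d11_1 D69 (iv D69) F220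
theorem F299 : act 3 n69 = n69 := d20_1 D69 (iv D69) F221
theorem F300 : act 4 n69 = n69 := d23_1 D69 (iv D69) F222
def n70 : Q := act 4 n51
theorem D70 : act 4 n51 = n70 := rfl
theorem F301 : act 0 n70 = n70 := d3_1 D70 (iv D70) F224
theorem F302 : act 1 n70 = n58 := d9_1 D70 (iv D58) (iv F225)
theorem F303 : act 3 n70 = n70 := d18_1 D70 (iv D70) F226 F170 (iv F226)
theorem F304 : act 5 n70 = n70 := d22_2 D51 D70 (iv D70) (iv D51) F165
theorem F305 : act 7 n70 = n70 := d24_2 F227 D70 (iv D70)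
def n71 : Q := act 6 n51
theorem D71 : act 6 n51 = n71 := rfl
theorem F306 : act 0 n71 = n71 := d5_1 D71 (iv D71) F224
theorem F307 : act 1 n71 = n59 := d11_1 D71 (iv D59) (iv F225)
theorem F308 : act 3 n71 = n53 := d20_1 D71 (iv D53) (iv F226)
theorem F309 : act 5 n71 = n52 := d25_1 D71 (iv D52) D51
def n72 : Q := act 2 n52
theorem D72 : act 2 n52 = n72 := rfl
theorem F310 : act 0 n72 = n72 := d1_1 D72 (iv D72) F228
theorem F311 : act 4 n72 = n72 := d14_2 F231 D72 (iv D72)
def n73 : Q := act 7 n52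
theorem D73 : act 7 n52 = n73 := rfl
theorem F312 : act 0 n73 = n73 := d6_1 D73 (iv D73) F228
theorem F313 : act 1 n73 = n61 := d12_1 D73 (iv D61) (iv F229)
theorem F314 : act 3 n73 = n55 := d21_1 D73 (iv D55) (iv F230)
theorem F315 : act 4 n73 = n73 := d24_1 D73 (iv D73) F231
theorem F316 : act 6 n73 = n73 := d27_1 D73 (iv D73) (iv D52) F166 D52
def n74 : Q := act 2 n53
theorem D74 : act 2 n53 = n74 := rfl
theorem F317 : act 0 n74 = n74 := d1_1 D74 (iv D74) F232
theorem F318 : act 1 n74 = n74 := d7_1 D74 (iv D74) F233 F192 (iv F233)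
theorem F319 : act 4 n74 = n74 := d14_2 F234 D74 (iv D74)
theorem F320 : act 5 n74 = n54 := d15_2 (iv F235) D74 (iv D54)
theorem F321 : act 6 n74 = n74 := d16_2 D53 D74 (iv D74) (iv D53) F169
def n75 : Q := act 7 n53
theorem D75 : act 7 n53 = n75 := rfl
theorem F322 : act 0 n75 = n75 := d6_1 D75 (iv D75) F232
theorem F323 : act 1 n75 = n62 := d12_1 D75 (iv D62) (iv F233)
theorem F324 : act 4 n75 = n75 := d24_1 D75 (iv D75) F234
theorem F325 : act 5 n75 = n55 := d26_1 D75 (iv D55) (iv F235)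
theorem F326 : act 6 n75 = n75 := d27_1 D75 (iv D75) (iv D53) F171 D53
def n76 : Q := act 3 n54
theorem D76 : act 3 n54 = n76 := rfl
theorem F327 : act 0 n76 = n76 := d2_1 D76 (iv D76) F236
theorem F328 : act 1 n76 = n76 := d8_1 D76 (iv D76) F237
theorem F329 : act 6 n76 = n76 := d20_2 F239 D76 (iv D76)
def n77 : Q := act 7 n54
theorem D77 : act 7 n54 = n77 := rfl
theorem F330 : act 0 n77 = n77 := d6_1 D77 (iv D77) F236
theorem F331 : act 1 n77 = n77 := d12_1 D77 (iv D77) F237
theorem F332 : act 2 n77 = n55 := d17_1 D77 (iv D55) D54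
theorem F333 : act 4 n77 = n57 := d24_1 D77 (iv D57) (iv F238)
def n78 : Q := act 4 n56
theorem D78 : act 4 n56 = n78 := rfl
theorem F334 : act 0 n78 = n78 := d3_1 D78 (iv D78) F244
theorem F335 : act 1 n78 = n78 := d9_1 D78 (iv D78) F245
theorem F336 : act 2 n78 = n78 := d14_1 D78 (iv D78) F246
theorem F337 : act 6 n78 = n78 := d23_2 F248 D78 (iv D78)
def n79 : Q := act 7 n56
theorem D79 : act 7 n56 = n79 := rfl
theorem F338 : act 0 n79 = n79 := d6_1 D79 (iv D79) F244
theorem F339 : act 1 n79 = n79 := d12_1 D79 (iv D79) F245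
theorem F340 : act 2 n79 = n79 := d17_1 D79 (iv D79) F246
theorem F341 : act 3 n79 = n57 := d21_1 D79 (iv D57) D56
theorem F342 : act 5 n79 = n79 := d26_1 D79 (iv D79) F247
def n80 : Q := act 6 n57
theorem D80 : act 6 n57 = n80 := rfl
theorem F343 : act 0 n80 = n80 := d5_1 D80 (iv D80) F249
theorem F344 : act 1 n80 = n80 := d11_1 D80 (iv D80) F250
theorem F345 : act 2 n80 = n80 := d16_1 D80 (iv D80) F251 F183 (iv F251)
theorem F346 : act 5 n80 = n80 := d25_1 D80 (iv D80) F252
theorem F347 : act 7 n80 = n80 := d27_2 D57 D80 (iv D80) (iv D57) F178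
def n81 : Q := act 6 n58
theorem D81 : act 6 n58 = n81 := rfl
theorem F348 : act 0 n81 = n63 := d5_1 D81 (iv D63) (iv F253)
theorem F349 : act 3 n81 = n81 := d20_1 D81 (iv D81) F255
theorem F350 : act 4 n81 = n59 := d23_1 D81 (iv D59) D58
theorem F351 : act 5 n81 = n81 := d25_1 D81 (iv D81) F256
def n82 : Q := act 2 n59
theorem D82 : act 2 n59 = n82 := rfl
theorem F352 : act 0 n82 = n64 := d1_1 D82 (iv D64) (iv F258)
theorem F353 : act 3 n82 = n82 := d13_2 (iv F259) D82 (iv D82) F259 F192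
theorem F354 : act 5 n82 = n60 := d15_2 (iv F260) D82 (iv D60)
theorem F355 : act 6 n82 = n82 := d16_2 D59 D82 (iv D82) (iv D59) F185
def n83 : Q := act 7 n59
theorem D83 : act 7 n59 = n83 := rfl
theorem F356 : act 0 n83 = n65 := d6_1 D83 (iv D65) (iv F258)
theorem F357 : act 3 n83 = n62 := d21_1 D83 (iv D62) (iv F259)
theorem F358 : act 5 n83 = n61 := d26_1 D83 (iv D61) (iv F260)
theorem F359 : act 6 n83 = n83 := d27_1 D83 (iv D83) (iv D59) F187 D59
def n84 : Q := act 1 n60
theorem D84 : act 1 n60 = n84 := rfl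
theorem F360 : act 3 n84 = n84 := d8_2 F262 D84 (iv D84)
theorem F361 : act 4 n84 = n84 := d9_2 F263 D84 (iv D84)
theorem F362 : act 6 n84 = n84 := d11_2 F264 D84 (iv D84)
def n85 : Q := act 7 n60
theorem D85 : act 7 n60 = n85 := rfl
theorem F363 : act 0 n85 = n67 := d6_1 D85 (iv D67) (iv F261)
theorem F364 : act 2 n85 = n61 := d17_1 D85 (iv D61) D60
theorem F365 : act 3 n85 = n85 := d21_1 D85 (iv D85) F262
theorem F366 : act 4 n85 = n85 := d24_1 D85 (iv D85) F263
def n86 : Q := act 2 n63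
theorem D86 : act 2 n63 = n86 := rfl
theorem F367 : act 4 n86 = n64 := d14_2 (iv F276) D86 (iv D64)
theorem F368 : act 5 n86 = n86 := d15_2 F277 D86 (iv D86)
theorem F369 : act 6 n86 = n86 := d16_2 D63 D86 (iv D86) (iv D63) F200
def n87 : Q := act 7 n63
theorem D87 : act 7 n63 = n87 := rfl
theorem F370 : act 1 n87 = n87 := d12_1 D87 (iv D87) F274
theorem F371 : act 3 n87 = n87 := d21_1 D87 (iv D87) F275
theorem F372 : act 4 n87 = n65 := d24_1 D87 (iv D65) (iv F276)
theorem F373 : act 5 n87 = n87 := d26_1 D87 (iv D87) F277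
theorem F374 : act 6 n87 = n87 := d27_1 D87 (iv D87) (iv D63) F203 D63
def n88 : Q := act 1 n64
theorem D88 : act 1 n64 = n88 := rfl
theorem F375 : act 2 n88 = n88 := d7_2 D64 D88 (iv D88) (iv D64) F204
theorem F376 : act 3 n88 = n88 := d8_2 F278 D88 (iv D88)
theorem F377 : act 5 n88 = n66 := d10_2 (iv F279) D88 (iv D66)
theorem F378 : act 6 n88 = n88 := d11_2 F280 D88 (iv D88)
def n89 : Q := act 7 n64
theorem D89 : act 7 n64 = n89 := rfl
theorem F379 : act 2 n89 = n65 := d17_1 D89 (iv D65) D64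
theorem F380 : act 3 n89 = n89 := d21_1 D89 (iv D89) F278
theorem F381 : act 5 n89 = n67 := d26_1 D89 (iv D67) (iv F279)
def n90 : Q := act 0 n66
theorem D90 : act 0 n66 = n90 := rfl
theorem F382 : act 2 n90 = n90 := d1_2 F285 D90 (iv D90)
theorem F383 : act 3 n90 = n90 := d2_2 F286 D90 (iv D90)
theorem F384 : act 4 n90 = n90 := d3_2 F287 D90 (iv D90)
theorem F385 : act 6 n90 = n90 := d5_2 F288 D90 (iv D90)
def n91 : Q := act 7 n66
theorem D91 : act 7 n66 = n91 := rfl
theorem F386 : act 1 n91 = n67 := d12_1 D91 (iv D67) D66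
theorem F387 : act 2 n91 = n91 := d17_1 D91 (iv D91) F285
theorem F388 : act 3 n91 = n91 := d21_1 D91 (iv D91) F286
theorem F389 : act 4 n91 = n91 := d24_1 D91 (iv D91) F287
def n92 : Q := act 6 n67
theorem D92 : act 6 n67 = n92 := rfl
theorem F390 : act 2 n92 = n92 := d16_1 D92 (iv D92) F289 F213 (iv F289)
theorem F391 : act 3 n92 = n92 := d20_1 D92 (iv D92) F290
theorem F392 : act 4 n92 = n92 := d23_1 D92 (iv D92) F291
theorem F393 : act 7 n92 = n92 := d27_2 D67 D92 (iv D92) (iv D67) F209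
def n93 : Q := act 4 n68
theorem D93 : act 4 n68 = n93 := rfl
theorem F394 : act 0 n93 = n93 := d3_1 D93 (iv D93) F292
theorem F395 : act 1 n93 = n93 := d9_1 D93 (iv D93) F293
theorem F396 : act 2 n93 = n70 := d14_1 D93 (iv D70) (iv F294)
theorem F397 : act 5 n93 = n93 := d22_2 D68 D93 (iv D93) (iv D68) F222
theorem F398 : act 7 n93 = n93 := d24_2 F296 D93 (iv D93)
def n94 : Q := act 6 n68
theorem D94 : act 6 n68 = n94 := rfl
theorem F399 : act 0 n94 = n94 := d5_1 D94 (iv D94) F292
theorem F400 : act 1 n94 = n94 := d11_1 D94 (iv D94) F293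
theorem F401 : act 3 n94 = n94 := d20_1 D94 (iv D94) F295
theorem F402 : act 5 n94 = n69 := d25_1 D94 (iv D69) D68
def n95 : Q := act 2 n69
theorem D95 : act 2 n69 = n95 := rfl
theorem F403 : act 0 n95 = n95 := d1_1 D95 (iv D95) F297
theorem F404 : act 4 n95 = n95 := d14_2 F300 D95 (iv D95)
theorem F405 : act 6 n95 = n72 := d16_2 D69 D95 (iv D72) (iv D52) D50
def n96 : Q := act 7 n69
theorem D96 : act 7 n69 = n96 := rfl
theorem F406 : act 0 n96 = n96 := d6_1 D96 (iv D96) F297
theorem F407 : act 1 n96 = n96 := d12_1 D96 (iv D96) F298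
theorem F408 : act 3 n96 = n96 := d21_1 D96 (iv D96) F299
theorem F409 : act 4 n96 = n96 := d24_1 D96 (iv D96) F300
theorem F410 : act 6 n96 = n96 := d27_1 D96 (iv D96) (iv D69) F223 D69
def n97 : Q := act 6 n70
theorem D97 : act 6 n70 = n97 := rfl
theorem F411 : act 0 n97 = n97 := d5_1 D97 (iv D97) F301
theorem F412 : act 1 n97 = n81 := d11_1 D97 (iv D81) (iv F302)
theorem F413 : act 3 n97 = n97 := d20_1 D97 (iv D97) F303
theorem F414 : act 4 n97 = n71 := d23_1 D97 (iv D71) D70
theorem F415 : act 5 n97 = n97 := d25_1 D97 (iv D97) F304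
def n98 : Q := act 2 n71
theorem D98 : act 2 n71 = n98 := rfl
theorem F416 : act 0 n98 = n98 := d1_1 D98 (iv D98) F306
theorem F417 : act 5 n98 = n72 := d15_2 (iv F309) D98 (iv D72)
def n99 : Q := act 7 n71
theorem D99 : act 7 n71 = n99 := rfl
theorem F418 : act 0 n99 = n99 := d6_1 D99 (iv D99) F306
theorem F419 : act 1 n99 = n83 := d12_1 D99 (iv D83) (iv F307)
theorem F420 : act 3 n99 = n75 := d21_1 D99 (iv D75) (iv F308)
theorem F421 : act 5 n99 = n73 := d26_1 D99 (iv D73) (iv F309)
theorem F422 : act 6 n99 = n99 := d27_1 D99 (iv D99) (iv D71) F227 D71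
def n100 : Q := act 1 n72
theorem D100 : act 1 n72 = n100 := rfl
theorem F423 : act 2 n100 = n84 := d7_2 D72 D100 (iv D84) (iv D60) (iv F229)
theorem F424 : act 4 n100 = n100 := d9_2 F311 D100 (iv D100)
def n101 : Q := act 3 n72
theorem D101 : act 3 n72 = n101 := rfl
theorem F425 : act 0 n101 = n101 := d2_1 D101 (iv D101) F310
theorem F426 : act 2 n101 = n76 := d13_1 D101 (iv D76) (iv D54) (iv F230) D72
def n102 : Q := act 7 n72
theorem D102 : act 7 n72 = n102 := rfl
theorem F427 : act 0 n102 = n102 := d6_1 D102 (iv D102) F310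
theorem F428 : act 2 n102 = n73 := d17_1 D102 (iv D73) D72
theorem F429 : act 4 n102 = n102 := d24_1 D102 (iv D102) F311
def n103 : Q := act 3 n74
theorem D103 : act 3 n74 = n103 := rfl
theorem F430 : act 0 n103 = n103 := d2_1 D103 (iv D103) F317
theorem F431 : act 1 n103 = n103 := d8_1 D103 (iv D103) F318
theorem F432 : act 5 n103 = n76 := d19_2 (iv F320) D103 (iv D76)
theorem F433 : act 6 n103 = n103 := d20_2 F321 D103 (iv D103)
def n104 : Q := act 7 n74
theorem D104 : act 7 n74 = n104 := rfl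
theorem F434 : act 0 n104 = n104 := d6_1 D104 (iv D104) F317
theorem F435 : act 1 n104 = n104 := d12_1 D104 (iv D104) F318
theorem F436 : act 2 n104 = n75 := d17_1 D104 (iv D75) D74
theorem F437 : act 4 n104 = n104 := d24_1 D104 (iv D104) F319
theorem F438 : act 5 n104 = n77 := d26_1 D104 (iv D77) (iv F320)
def n105 : Q := act 4 n76
theorem D105 : act 4 n76 = n105 := rfl
theorem F439 : act 0 n105 = n105 := d3_1 D105 (iv D105) F327
theorem F440 : act 1 n105 = n105 := d9_1 D105 (iv D105) F328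
theorem F441 : act 3 n105 = n78 := d18_1 D105 (iv D78) (iv D56) (iv F238) D76
theorem F442 : act 6 n105 = n105 := d23_2 F329 D105 (iv D105)
def n106 : Q := act 7 n76
theorem D106 : act 7 n76 = n106 := rfl
theorem F443 : act 0 n106 = n106 := d6_1 D106 (iv D106) F327
theorem F444 : act 1 n106 = n106 := d12_1 D106 (iv D106) F328
theorem F445 : act 3 n106 = n77 := d21_1 D106 (iv D77) D76
def n107 : Q := act 6 n77
theorem D107 : act 6 n77 = n107 := rfl
theorem F446 : act 0 n107 = n107 := d5_1 D107 (iv D107) F330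
theorem F447 : act 1 n107 = n107 := d11_1 D107 (iv D107) F331
theorem F448 : act 2 n107 = n107 := d16_1 D107 (iv D107) F332 F243 (iv F332)
theorem F449 : act 4 n107 = n80 := d23_1 D107 (iv D80) (iv F333)
theorem F450 : act 7 n107 = n107 := d27_2 D77 D107 (iv D107) (iv D77) F239
def n108 : Q := act 5 n78
theorem D108 : act 5 n78 = n108 := rfl
theorem F451 : act 0 n108 = n108 := d4_1 D108 (iv D108) F334
theorem F452 : act 1 n108 = n108 := d10_1 D108 (iv D108) F335
theorem F453 : act 2 n108 = n108 := d15_1 D108 (iv D108) F336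
theorem F454 : act 4 n108 = n108 := d22_1 D108 (iv D108) (iv D78) F247 D78
theorem F455 : act 6 n108 = n108 := d25_2 F337 D108 (iv D108)
def n109 : Q := act 7 n78
theorem D109 : act 7 n78 = n109 := rfl
theorem F456 : act 0 n109 = n109 := d6_1 D109 (iv D109) F334
theorem F457 : act 1 n109 = n109 := d12_1 D109 (iv D109) F335
theorem F458 : act 2 n109 = n109 := d17_1 D109 (iv D109) F336
theorem F459 : act 4 n109 = n79 := d24_1 D109 (iv D79) D78
def n110 : Q := act 6 n79
theorem D110 : act 6 n79 = n110 := rfl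
theorem F460 : act 0 n110 = n110 := d5_1 D110 (iv D110) F338
theorem F461 : act 1 n110 = n110 := d11_1 D110 (iv D110) F339
theorem F462 : act 3 n110 = n80 := d20_1 D110 (iv D80) (iv F341)
theorem F463 : act 5 n110 = n110 := d25_1 D110 (iv D110) F342
theorem F464 : act 7 n110 = n110 := d27_2 D79 D110 (iv D110) (iv D79) F248
def n111 : Q := act 2 n81
theorem D111 : act 2 n81 = n111 := rfl
theorem F465 : act 0 n111 = n86 := d1_1 D111 (iv D86) (iv F348)
theorem F466 : act 4 n111 = n82 := d14_2 (iv F350) D111 (iv D82)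
theorem F467 : act 5 n111 = n111 := d15_2 F351 D111 (iv D111)
theorem F468 : act 6 n111 = n111 := d16_2 D81 D111 (iv D111) (iv D81) F254
def n112 : Q := act 7 n81
theorem D112 : act 7 n81 = n112 := rfl
theorem F469 : act 0 n112 = n87 := d6_1 D112 (iv D87) (iv F348)
theorem F470 : act 3 n112 = n112 := d21_1 D112 (iv D112) F349
theorem F471 : act 4 n112 = n83 := d24_1 D112 (iv D83) (iv F350)
theorem F472 : act 5 n112 = n112 := d26_1 D112 (iv D112) F351
theorem F473 : act 6 n112 = n112 := d27_1 D112 (iv D112) (iv D81) F257 D81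
def n113 : Q := act 1 n82
theorem D113 : act 1 n82 = n113 := rfl
theorem F474 : act 3 n113 = n113 := d8_2 F353 D113 (iv D113)
theorem F475 : act 5 n113 = n84 := d10_2 (iv F354) D113 (iv D84)
theorem F476 : act 6 n113 = n113 := d11_2 F355 D113 (iv D113)
def n114 : Q := act 7 n82
theorem D114 : act 7 n82 = n114 := rfl
theorem F477 : act 0 n114 = n89 := d6_1 D114 (iv D89) (iv F352)
theorem F478 : act 2 n114 = n83 := d17_1 D114 (iv D83) D82
theorem F479 : act 3 n114 = n114 := d21_1 D114 (iv D114) F353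
theorem F480 : act 5 n114 = n85 := d26_1 D114 (iv D85) (iv F354)
def n115 : Q := act 0 n84
theorem D115 : act 0 n84 = n115 := rfl
theorem F481 : act 1 n115 = n90 := d0_2 D84 D115 (iv D90) (iv D66) (iv F261)
theorem F482 : act 3 n115 = n115 := d2_2 F360 D115 (iv D115)
theorem F483 : act 4 n115 = n115 := d3_2 F361 D115 (iv D115)
theorem F484 : act 6 n115 = n115 := d5_2 F362 D115 (iv D115)
def n116 : Q := act 7 n84
theorem D116 : act 7 n84 = n116 := rfl
theorem F485 : act 1 n116 = n85 := d12_1 D116 (iv D85) D84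
theorem F486 : act 3 n116 = n116 := d21_1 D116 (iv D116) F360
theorem F487 : act 4 n116 = n116 := d24_1 D116 (iv D116) F361
def n117 : Q := act 6 n85
theorem D117 : act 6 n85 = n117 := rfl
theorem F488 : act 0 n117 = n92 := d5_1 D117 (iv D92) (iv F363)
theorem F489 : act 2 n117 = n117 := d16_1 D117 (iv D117) F364 F268 (iv F364)
theorem F490 : act 3 n117 = n117 := d20_1 D117 (iv D117) F365
theorem F491 : act 4 n117 = n117 := d23_1 D117 (iv D117) F366
theorem F492 : act 7 n117 = n117 := d27_2 D85 D117 (iv D117) (iv D85) F264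
def n118 : Q := act 1 n86
theorem D118 : act 1 n86 = n118 := rfl
theorem F493 : act 2 n118 = n118 := d7_2 D86 D118 (iv D118) (iv D86) F274
theorem F494 : act 4 n118 = n88 := d9_2 (iv F367) D118 (iv D88)
theorem F495 : act 5 n118 = n118 := d10_2 F368 D118 (iv D118)
theorem F496 : act 6 n118 = n118 := d11_2 F369 D118 (iv D118)
def n119 : Q := act 3 n86
theorem D119 : act 3 n86 = n119 := rfl
theorem F497 : act 2 n119 = n119 := d13_1 D119 (iv D119) (iv D86) F275 D86
theorem F498 : act 4 n119 = n119 := d18_2 (iv F367) D119 (iv D119) F367 F278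
theorem F499 : act 5 n119 = n119 := d19_2 F368 D119 (iv D119)
theorem F500 : act 6 n119 = n119 := d20_2 F369 D119 (iv D119)
def n120 : Q := act 7 n86
theorem D120 : act 7 n86 = n120 := rfl
theorem F501 : act 2 n120 = n87 := d17_1 D120 (iv D87) D86
theorem F502 : act 4 n120 = n89 := d24_1 D120 (iv D89) (iv F367)
theorem F503 : act 5 n120 = n120 := d26_1 D120 (iv D120) F368
def n121 : Q := act 0 n88
theorem D121 : act 0 n88 = n121 := rfl
theorem F504 : act 2 n121 = n121 := d1_2 F375 D121 (iv D121)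
theorem F505 : act 3 n121 = n121 := d2_2 F376 D121 (iv D121)
theorem F506 : act 5 n121 = n90 := d4_2 (iv F377) D121 (iv D90)
theorem F507 : act 6 n121 = n121 := d5_2 F378 D121 (iv D121)
def n122 : Q := act 7 n88
theorem D122 : act 7 n88 = n122 := rfl
theorem F508 : act 1 n122 = n89 := d12_1 D122 (iv D89) D88
theorem F509 : act 2 n122 = n122 := d17_1 D122 (iv D122) F375
theorem F510 : act 3 n122 = n122 := d21_1 D122 (iv D122) F376
theorem F511 : act 5 n122 = n91 := d26_1 D122 (iv D91) (iv F377)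
def n123 : Q := act 6 n89
theorem D123 : act 6 n89 = n123 := rfl
theorem F512 : act 2 n123 = n123 := d16_1 D123 (iv D123) F379 F284 (iv F379)
theorem F513 : act 3 n123 = n123 := d20_1 D123 (iv D123) F380
theorem F514 : act 5 n123 = n92 := d25_1 D123 (iv D92) (iv F381)
theorem F515 : act 7 n123 = n123 := d27_2 D89 D123 (iv D123) (iv D89) F280
def n124 : Q := act 7 n90
theorem D124 : act 7 n90 = n124 := rfl
theorem F516 : act 0 n124 = n91 := d6_1 D124 (iv D91) D90
theorem F517 : act 2 n124 = n124 := d17_1 D124 (iv D124) F382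
theorem F518 : act 3 n124 = n124 := d21_1 D124 (iv D124) F383
theorem F519 : act 4 n124 = n124 := d24_1 D124 (iv D124) F384
def n125 : Q := act 6 n91
theorem D125 : act 6 n91 = n125 := rfl
theorem F520 : act 1 n125 = n92 := d11_1 D125 (iv D92) (iv F386)
theorem F521 : act 3 n125 = n125 := d20_1 D125 (iv D125) F388
theorem F522 : act 4 n125 = n125 := d23_1 D125 (iv D125) F389
theorem F523 : act 7 n125 = n125 := d27_2 D91 D125 (iv D125) (iv D91) F288
def n126 : Q := act 3 n93
theorem D126 : act 3 n93 = n126 := rfl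
theorem F524 : act 0 n126 = n126 := d2_1 D126 (iv D126) F394
theorem F525 : act 1 n126 = n126 := d8_1 D126 (iv D126) F395
theorem F526 : act 2 n126 = n126 := d13_1 D126 (iv D126) F396 F303 (iv F396)
theorem F527 : act 4 n126 = n126 := d18_2 D93 D126 (iv D126) (iv D93) F295
theorem F528 : act 5 n126 = n126 := d19_2 F397 D126 (iv D126)
theorem F529 : act 7 n126 = n126 := d21_2 F398 D126 (iv D126)
def n127 : Q := act 6 n93
theorem D127 : act 6 n93 = n127 := rfl
theorem F530 : act 0 n127 = n127 := d5_1 D127 (iv D127) F394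
theorem F531 : act 1 n127 = n127 := d11_1 D127 (iv D127) F395
theorem F532 : act 4 n127 = n94 := d23_1 D127 (iv D94) D93
theorem F533 : act 5 n127 = n127 := d25_1 D127 (iv D127) F397
def n128 : Q := act 2 n94
theorem D128 : act 2 n94 = n128 := rfl
theorem F534 : act 0 n128 = n128 := d1_1 D128 (iv D128) F399
theorem F535 : act 5 n128 = n95 := d15_2 (iv F402) D128 (iv D95)
theorem F536 : act 6 n128 = n98 := d16_2 D94 D128 (iv D98) (iv D71) (iv F294)
def n129 : Q := act 7 n94
theorem D129 : act 7 n94 = n129 := rfl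
theorem F537 : act 0 n129 = n129 := d6_1 D129 (iv D129) F399
theorem F538 : act 1 n129 = n129 := d12_1 D129 (iv D129) F400
theorem F539 : act 3 n129 = n129 := d21_1 D129 (iv D129) F401
theorem F540 : act 5 n129 = n96 := d26_1 D129 (iv D96) (iv F402)
theorem F541 : act 6 n129 = n129 := d27_1 D129 (iv D129) (iv D94) F296 D94
def n130 : Q := act 1 n95
theorem D130 : act 1 n95 = n130 := rfl
theorem F542 : act 2 n130 = n130 := d7_2 D95 D130 (iv D130) (iv D95) F298
theorem F543 : act 4 n130 = n130 := d9_2 F404 D130 (iv D130)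
theorem F544 : act 6 n130 = n100 := d11_2 (iv F405) D130 (iv D100)
def n131 : Q := act 3 n95
theorem D131 : act 3 n95 = n131 := rfl
theorem F545 : act 0 n131 = n131 := d2_1 D131 (iv D131) F403
theorem F546 : act 2 n131 = n131 := d13_1 D131 (iv D131) (iv D95) F299 D95
theorem F547 : act 6 n131 = n101 := d20_2 (iv F405) D131 (iv D101)
def n132 : Q := act 7 n95
theorem D132 : act 7 n95 = n132 := rfl
theorem F548 : act 0 n132 = n132 := d6_1 D132 (iv D132) F403
theorem F549 : act 2 n132 = n96 := d17_1 D132 (iv D96) D95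
theorem F550 : act 4 n132 = n132 := d24_1 D132 (iv D132) F404
def n133 : Q := act 2 n97
theorem D133 : act 2 n97 = n133 := rfl
theorem F551 : act 0 n133 = n133 := d1_1 D133 (iv D133) F411
theorem F552 : act 4 n133 = n98 := d14_2 (iv F414) D133 (iv D98)
theorem F553 : act 5 n133 = n133 := d15_2 F415 D133 (iv D133)
def n134 : Q := act 7 n97
theorem D134 : act 7 n97 = n134 := rfl
theorem F554 : act 0 n134 = n134 := d6_1 D134 (iv D134) F411
theorem F555 : act 1 n134 = n112 := d12_1 D134 (iv D112) (iv F412)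
theorem F556 : act 3 n134 = n134 := d21_1 D134 (iv D134) F413
theorem F557 : act 4 n134 = n99 := d24_1 D134 (iv D99) (iv F414)
theorem F558 : act 5 n134 = n134 := d26_1 D134 (iv D134) F415
theorem F559 : act 6 n134 = n134 := d27_1 D134 (iv D134) (iv D97) F305 D97
def n135 : Q := act 1 n98
theorem D135 : act 1 n98 = n135 := rfl
theorem F560 : act 2 n135 = n113 := d7_2 D98 D135 (iv D113) (iv D82) (iv F307)
theorem F561 : act 5 n135 = n100 := d10_2 (iv F417) D135 (iv D100)
def n136 : Q := act 3 n98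
theorem D136 : act 3 n98 = n136 := rfl
theorem F562 : act 0 n136 = n136 := d2_1 D136 (iv D136) F416
theorem F563 : act 2 n136 = n103 := d13_1 D136 (iv D103) (iv D74) (iv F308) D98
theorem F564 : act 5 n136 = n101 := d19_2 (iv F417) D136 (iv D101)
def n137 : Q := act 7 n98
theorem D137 : act 7 n98 = n137 := rfl
theorem F565 : act 0 n137 = n137 := d6_1 D137 (iv D137) F416
theorem F566 : act 2 n137 = n99 := d17_1 D137 (iv D99) D98
theorem F567 : act 5 n137 = n102 := d26_1 D137 (iv D102) (iv F417)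
def n138 : Q := act 0 n100
theorem D138 : act 0 n100 = n138 := rfl
theorem F568 : act 1 n138 = n138 := d0_2 D100 D138 (iv D138) (iv D100) F310
theorem F569 : act 2 n138 = n115 := d1_2 (iv F423) D138 (iv D115)
theorem F570 : act 4 n138 = n138 := d3_2 F424 D138 (iv D138)
def n139 : Q := act 3 n100
theorem D139 : act 3 n100 = n139 := rfl
theorem F571 : act 1 n139 = n101 := d8_1 D139 (iv D101) D100
theorem F572 : act 2 n139 = n139 := d13_1 D139 (iv D139) F423 F360 (iv F423)
def n140 : Q := act 7 n100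
theorem D140 : act 7 n100 = n140 := rfl
theorem F573 : act 1 n140 = n102 := d12_1 D140 (iv D102) D100
theorem F574 : act 2 n140 = n116 := d17_1 D140 (iv D116) (iv F423)
theorem F575 : act 4 n140 = n140 := d24_1 D140 (iv D140) F424
def n141 : Q := act 4 n101
theorem D141 : act 4 n101 = n141 := rfl
theorem F576 : act 0 n141 = n141 := d3_1 D141 (iv D141) F425
theorem F577 : act 2 n141 = n105 := d14_1 D141 (iv D105) (iv F426)
theorem F578 : act 3 n141 = n141 := d18_1 D141 (iv D141) (iv D101) F311 D101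
def n142 : Q := act 7 n101
theorem D142 : act 7 n101 = n142 := rfl
theorem F579 : act 0 n142 = n142 := d6_1 D142 (iv D142) F425
theorem F580 : act 2 n142 = n106 := d17_1 D142 (iv D106) (iv F426)
theorem F581 : act 3 n142 = n102 := d21_1 D142 (iv D102) D101
def n143 : Q := act 6 n102
theorem D143 : act 6 n102 = n143 := rfl
theorem F582 : act 0 n143 = n143 := d5_1 D143 (iv D143) F427
theorem F583 : act 2 n143 = n143 := d16_1 D143 (iv D143) F428 F316 (iv F428)
theorem F584 : act 4 n143 = n143 := d23_1 D143 (iv D143) F429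
def n144 : Q := act 4 n103
theorem D144 : act 4 n103 = n144 := rfl
theorem F585 : act 0 n144 = n144 := d3_1 D144 (iv D144) F430
theorem F586 : act 1 n144 = n144 := d9_1 D144 (iv D144) F431
theorem F587 : act 3 n144 = n144 := d18_1 D144 (iv D144) (iv D103) F319 D103
theorem F588 : act 6 n144 = n144 := d23_2 F433 D144 (iv D144)
def n145 : Q := act 7 n103
theorem D145 : act 7 n103 = n145 := rfl
theorem F589 : act 0 n145 = n145 := d6_1 D145 (iv D145) F430
theorem F590 : act 1 n145 = n145 := d12_1 D145 (iv D145) F431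
theorem F591 : act 3 n145 = n104 := d21_1 D145 (iv D104) D103
theorem F592 : act 5 n145 = n106 := d26_1 D145 (iv D106) (iv F432)
def n146 : Q := act 6 n104
theorem D146 : act 6 n104 = n146 := rfl
theorem F593 : act 0 n146 = n146 := d5_1 D146 (iv D146) F434
theorem F594 : act 1 n146 = n146 := d11_1 D146 (iv D146) F435
theorem F595 : act 2 n146 = n146 := d16_1 D146 (iv D146) F436 F326 (iv F436)
theorem F596 : act 4 n146 = n146 := d23_1 D146 (iv D146) F437
theorem F597 : act 5 n146 = n107 := d25_1 D146 (iv D107) (iv F438)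
theorem F598 : act 7 n146 = n146 := d27_2 D104 D146 (iv D146) (iv D104) F321
def n147 : Q := act 5 n105
theorem D147 : act 5 n105 = n147 := rfl
theorem F599 : act 0 n147 = n147 := d4_1 D147 (iv D147) F439
theorem F600 : act 1 n147 = n147 := d10_1 D147 (iv D147) F440
theorem F601 : act 3 n147 = n108 := d19_1 D147 (iv D108) (iv F441)
theorem F602 : act 6 n147 = n147 := d25_2 F442 D147 (iv D147)
def n148 : Q := act 7 n105
theorem D148 : act 7 n105 = n148 := rfl
theorem F603 : act 0 n148 = n148 := d6_1 D148 (iv D148) F439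
theorem F604 : act 1 n148 = n148 := d12_1 D148 (iv D148) F440
theorem F605 : act 3 n148 = n109 := d21_1 D148 (iv D109) (iv F441)
theorem F606 : act 4 n148 = n106 := d24_1 D148 (iv D106) D105
def n149 : Q := act 6 n106
theorem D149 : act 6 n106 = n149 := rfl
theorem F607 : act 0 n149 = n149 := d5_1 D149 (iv D149) F443
theorem F608 : act 1 n149 = n149 := d11_1 D149 (iv D149) F444
theorem F609 : act 3 n149 = n107 := d20_1 D149 (iv D107) (iv F445)
theorem F610 : act 7 n149 = n149 := d27_2 D106 D149 (iv D149) (iv D106) F329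
def n150 : Q := act 7 n108
theorem D150 : act 7 n108 = n150 := rfl
theorem F611 : act 0 n150 = n150 := d6_1 D150 (iv D150) F451
theorem F612 : act 1 n150 = n150 := d12_1 D150 (iv D150) F452
theorem F613 : act 2 n150 = n150 := d17_1 D150 (iv D150) F453
theorem F614 : act 4 n150 = n150 := d24_1 D150 (iv D150) F454
theorem F615 : act 5 n150 = n109 := d26_1 D150 (iv D109) D108
def n151 : Q := act 6 n109
theorem D151 : act 6 n109 = n151 := rfl
theorem F616 : act 0 n151 = n151 := d5_1 D151 (iv D151) F456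
theorem F617 : act 1 n151 = n151 := d11_1 D151 (iv D151) F457
theorem F618 : act 4 n151 = n110 := d23_1 D151 (iv D110) (iv F459)
theorem F619 : act 7 n151 = n151 := d27_2 D109 D151 (iv D151) (iv D109) F337
def n152 : Q := act 2 n110
theorem D152 : act 2 n110 = n152 := rfl
theorem F620 : act 0 n152 = n152 := d1_1 D152 (iv D152) F460
theorem F621 : act 3 n152 = n152 := d13_2 (iv F462) D152 (iv D152) F462 F345
theorem F622 : act 5 n152 = n152 := d15_2 F463 D152 (iv D152)
theorem F623 : act 6 n152 = n152 := d16_2 D110 D152 (iv D152) (iv D110) F340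
theorem F624 : act 7 n152 = n152 := d17_2 F464 D152 (iv D152)
def n153 : Q := act 1 n111
theorem D153 : act 1 n111 = n153 := rfl
theorem F625 : act 4 n153 = n113 := d9_2 (iv F466) D153 (iv D113)
theorem F626 : act 5 n153 = n153 := d10_2 F467 D153 (iv D153)
theorem F627 : act 6 n153 = n153 := d11_2 F468 D153 (iv D153)
def n154 : Q := act 3 n111
theorem D154 : act 3 n111 = n154 := rfl
theorem F628 : act 0 n154 = n119 := d2_1 D154 (iv D119) (iv F465)
theorem F629 : act 2 n154 = n154 := d13_1 D154 (iv D154) (iv D111) F349 D111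
theorem F630 : act 4 n154 = n154 := d18_2 (iv F466) D154 (iv D154) F466 F353
theorem F631 : act 5 n154 = n154 := d19_2 F467 D154 (iv D154)
theorem F632 : act 6 n154 = n154 := d20_2 F468 D154 (iv D154)
def n155 : Q := act 7 n111
theorem D155 : act 7 n111 = n155 := rfl
theorem F633 : act 0 n155 = n120 := d6_1 D155 (iv D120) (iv F465)
theorem F634 : act 2 n155 = n112 := d17_1 D155 (iv D112) D111
theorem F635 : act 4 n155 = n114 := d24_1 D155 (iv D114) (iv F466)
theorem F636 : act 5 n155 = n155 := d26_1 D155 (iv D155) F467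
def n156 : Q := act 0 n113
theorem D156 : act 0 n113 = n156 := rfl
theorem F637 : act 1 n156 = n121 := d0_2 D113 D156 (iv D121) (iv D88) (iv F352)
theorem F638 : act 3 n156 = n156 := d2_2 F474 D156 (iv D156)
theorem F639 : act 5 n156 = n115 := d4_2 (iv F475) D156 (iv D115)
theorem F640 : act 6 n156 = n156 := d5_2 F476 D156 (iv D156)
def n157 : Q := act 7 n113
theorem D157 : act 7 n113 = n157 := rfl
theorem F641 : act 1 n157 = n114 := d12_1 D157 (iv D114) D113
theorem F642 : act 3 n157 = n157 := d21_1 D157 (iv D157) F474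
theorem F643 : act 5 n157 = n116 := d26_1 D157 (iv D116) (iv F475)
def n158 : Q := act 6 n114
theorem D158 : act 6 n114 = n158 := rfl
theorem F644 : act 0 n158 = n123 := d5_1 D158 (iv D123) (iv F477)
theorem F645 : act 2 n158 = n158 := d16_1 D158 (iv D158) F478 F359 (iv F478)
theorem F646 : act 3 n158 = n158 := d20_1 D158 (iv D158) F479
theorem F647 : act 5 n158 = n117 := d25_1 D158 (iv D117) (iv F480)
theorem F648 : act 7 n158 = n158 := d27_2 D114 D158 (iv D158) (iv D114) F355
def n159 : Q := act 7 n115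
theorem D159 : act 7 n115 = n159 := rfl
theorem F649 : act 0 n159 = n116 := d6_1 D159 (iv D116) D115
theorem F650 : act 1 n159 = n124 := d12_1 D159 (iv D124) (iv F481)
theorem F651 : act 3 n159 = n159 := d21_1 D159 (iv D159) F482
theorem F652 : act 4 n159 = n159 := d24_1 D159 (iv D159) F483
def n160 : Q := act 6 n116
theorem D160 : act 6 n116 = n160 := rfl
theorem F653 : act 1 n160 = n117 := d11_1 D160 (iv D117) (iv F485)
theorem F654 : act 3 n160 = n160 := d20_1 D160 (iv D160) F486
theorem F655 : act 4 n160 = n160 := d23_1 D160 (iv D160) F487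
theorem F656 : act 7 n160 = n160 := d27_2 D116 D160 (iv D160) (iv D116) F362
def n161 : Q := act 0 n118
theorem D161 : act 0 n118 = n161 := rfl
theorem F657 : act 2 n161 = n161 := d1_2 F493 D161 (iv D161)
theorem F658 : act 4 n161 = n121 := d3_2 (iv F494) D161 (iv D121)
theorem F659 : act 5 n161 = n161 := d4_2 F495 D161 (iv D161)
theorem F660 : act 6 n161 = n161 := d5_2 F496 D161 (iv D161)
def n162 : Q := act 3 n118
theorem D162 : act 3 n118 = n162 := rfl
theorem F661 : act 1 n162 = n119 := d8_1 D162 (iv D119) D118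
theorem F662 : act 4 n162 = n162 := d18_2 (iv F494) D162 (iv D162) F494 F376
theorem F663 : act 5 n162 = n162 := d19_2 F495 D162 (iv D162)
theorem F664 : act 6 n162 = n162 := d20_2 F496 D162 (iv D162)
def n163 : Q := act 7 n118
theorem D163 : act 7 n118 = n163 := rfl
theorem F665 : act 1 n163 = n120 := d12_1 D163 (iv D120) D118
theorem F666 : act 2 n163 = n163 := d17_1 D163 (iv D163) F493
theorem F667 : act 4 n163 = n122 := d24_1 D163 (iv D122) (iv F494)
theorem F668 : act 5 n163 = n163 := d26_1 D163 (iv D163) F495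
def n164 : Q := act 7 n119
theorem D164 : act 7 n119 = n164 := rfl
theorem F669 : act 2 n164 = n164 := d17_1 D164 (iv D164) F497
theorem F670 : act 3 n164 = n120 := d21_1 D164 (iv D120) D119
theorem F671 : act 4 n164 = n164 := d24_1 D164 (iv D164) F498
theorem F672 : act 5 n164 = n164 := d26_1 D164 (iv D164) F499
def n165 : Q := act 6 n120
theorem D165 : act 6 n120 = n165 := rfl
theorem F673 : act 2 n165 = n165 := d16_1 D165 (iv D165) F501 F374 (iv F501)
theorem F674 : act 4 n165 = n123 := d23_1 D165 (iv D123) (iv F502)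
theorem F675 : act 5 n165 = n165 := d25_1 D165 (iv D165) F503
theorem F676 : act 7 n165 = n165 := d27_2 D120 D165 (iv D165) (iv D120) F369
def n166 : Q := act 7 n121
theorem D166 : act 7 n121 = n166 := rfl
theorem F677 : act 0 n166 = n122 := d6_1 D166 (iv D122) D121
theorem F678 : act 2 n166 = n166 := d17_1 D166 (iv D166) F504
theorem F679 : act 3 n166 = n166 := d21_1 D166 (iv D166) F505
theorem F680 : act 5 n166 = n124 := d26_1 D166 (iv D124) (iv F506)
def n167 : Q := act 6 n122
theorem D167 : act 6 n122 = n167 := rfl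
theorem F681 : act 1 n167 = n123 := d11_1 D167 (iv D123) (iv F508)
theorem F682 : act 3 n167 = n167 := d20_1 D167 (iv D167) F510
theorem F683 : act 5 n167 = n125 := d25_1 D167 (iv D125) (iv F511)
theorem F684 : act 7 n167 = n167 := d27_2 D122 D167 (iv D167) (iv D122) F378
def n168 : Q := act 6 n124
theorem D168 : act 6 n124 = n168 := rfl
theorem F685 : act 0 n168 = n125 := d5_1 D168 (iv D125) (iv F516)
theorem F686 : act 3 n168 = n168 := d20_1 D168 (iv D168) F518
theorem F687 : act 4 n168 = n168 := d23_1 D168 (iv D168) F519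
theorem F688 : act 7 n168 = n168 := d27_2 D124 D168 (iv D168) (iv D124) F385
def n169 : Q := act 2 n125
theorem D169 : act 2 n125 = n169 := rfl
theorem F689 : act 1 n169 = n169 := d7_1 D169 (iv D169) F520 F390 (iv F520)
theorem F690 : act 4 n169 = n169 := d14_2 F522 D169 (iv D169)
theorem F691 : act 6 n169 = n169 := d16_2 D125 D169 (iv D169) (iv D125) F387
theorem F692 : act 7 n169 = n169 := d17_2 F523 D169 (iv D169)
def n170 : Q := act 6 n126
theorem D170 : act 6 n126 = n170 := rfl
theorem F693 : act 0 n170 = n170 := d5_1 D170 (iv D170) F524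
theorem F694 : act 1 n170 = n170 := d11_1 D170 (iv D170) F525
theorem F695 : act 3 n170 = n127 := d20_1 D170 (iv D127) D126
theorem F696 : act 4 n170 = n170 := d23_1 D170 (iv D170) F527
theorem F697 : act 5 n170 = n170 := d25_1 D170 (iv D170) F528
def n171 : Q := act 2 n127
theorem D171 : act 2 n127 = n171 := rfl
theorem F698 : act 0 n171 = n171 := d1_1 D171 (iv D171) F530
theorem F699 : act 4 n171 = n128 := d14_2 (iv F532) D171 (iv D128)
theorem F700 : act 5 n171 = n171 := d15_2 F533 D171 (iv D171)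
theorem F701 : act 6 n171 = n133 := d16_2 D127 D171 (iv D133) (iv D97) (iv F396)
def n172 : Q := act 7 n127
theorem D172 : act 7 n127 = n172 := rfl
theorem F702 : act 0 n172 = n172 := d6_1 D172 (iv D172) F530
theorem F703 : act 1 n172 = n172 := d12_1 D172 (iv D172) F531
theorem F704 : act 4 n172 = n129 := d24_1 D172 (iv D129) (iv F532)
theorem F705 : act 5 n172 = n172 := d26_1 D172 (iv D172) F533
theorem F706 : act 6 n172 = n172 := d27_1 D172 (iv D172) (iv D127) F398 D127
def n173 : Q := act 1 n128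
theorem D173 : act 1 n128 = n173 := rfl
theorem F707 : act 2 n173 = n173 := d7_2 D128 D173 (iv D173) (iv D128) F400
theorem F708 : act 5 n173 = n130 := d10_2 (iv F535) D173 (iv D130)
theorem F709 : act 6 n173 = n135 := d11_2 (iv F536) D173 (iv D135)
def n174 : Q := act 3 n128
theorem D174 : act 3 n128 = n174 := rfl
theorem F710 : act 0 n174 = n174 := d2_1 D174 (iv D174) F534
theorem F711 : act 2 n174 = n174 := d13_1 D174 (iv D174) (iv D128) F401 D128
theorem F712 : act 5 n174 = n131 := d19_2 (iv F535) D174 (iv D131)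
theorem F713 : act 6 n174 = n136 := d20_2 (iv F536) D174 (iv D136)
def n175 : Q := act 7 n128
theorem D175 : act 7 n128 = n175 := rfl
theorem F714 : act 0 n175 = n175 := d6_1 D175 (iv D175) F534
theorem F715 : act 2 n175 = n129 := d17_1 D175 (iv D129) D128
theorem F716 : act 5 n175 = n132 := d26_1 D175 (iv D132) (iv F535)
def n176 : Q := act 0 n130
theorem D176 : act 0 n130 = n176 := rfl
theorem F717 : act 1 n176 = n176 := d0_2 D130 D176 (iv D176) (iv D130) F403
theorem F718 : act 2 n176 = n176 := d1_2 F542 D176 (iv D176)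
theorem F719 : act 4 n176 = n176 := d3_2 F543 D176 (iv D176)
theorem F720 : act 6 n176 = n138 := d5_2 (iv F544) D176 (iv D138)
def n177 : Q := act 3 n130
theorem D177 : act 3 n130 = n177 := rfl
theorem F721 : act 1 n177 = n131 := d8_1 D177 (iv D131) D130
theorem F722 : act 6 n177 = n139 := d20_2 (iv F544) D177 (iv D139)
def n178 : Q := act 7 n130
theorem D178 : act 7 n130 = n178 := rfl
theorem F723 : act 1 n178 = n132 := d12_1 D178 (iv D132) D130
theorem F724 : act 2 n178 = n178 := d17_1 D178 (iv D178) F542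
theorem F725 : act 4 n178 = n178 := d24_1 D178 (iv D178) F543
def n179 : Q := act 4 n131
theorem D179 : act 4 n131 = n179 := rfl
theorem F726 : act 0 n179 = n179 := d3_1 D179 (iv D179) F545
theorem F727 : act 2 n179 = n179 := d14_1 D179 (iv D179) F546
theorem F728 : act 3 n179 = n179 := d18_1 D179 (iv D179) (iv D131) F404 D131
theorem F729 : act 6 n179 = n141 := d23_2 (iv F547) D179 (iv D141)
def n180 : Q := act 7 n131
theorem D180 : act 7 n131 = n180 := rfl
theorem F730 : act 0 n180 = n180 := d6_1 D180 (iv D180) F545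
theorem F731 : act 2 n180 = n180 := d17_1 D180 (iv D180) F546
theorem F732 : act 3 n180 = n132 := d21_1 D180 (iv D132) D131
def n181 : Q := act 6 n132
theorem D181 : act 6 n132 = n181 := rfl
theorem F733 : act 0 n181 = n181 := d5_1 D181 (iv D181) F548
theorem F734 : act 2 n181 = n181 := d16_1 D181 (iv D181) F549 F410 (iv F549)
theorem F735 : act 4 n181 = n181 := d23_1 D181 (iv D181) F550
theorem F736 : act 7 n181 = n143 := d27_2 D132 D181 (iv D143) (iv D102) (iv F405)
def n182 : Q := act 1 n133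
theorem D182 : act 1 n133 = n182 := rfl
theorem F737 : act 2 n182 = n153 := d7_2 D133 D182 (iv D153) (iv D111) (iv F412)
theorem F738 : act 4 n182 = n135 := d9_2 (iv F552) D182 (iv D135)
theorem F739 : act 5 n182 = n182 := d10_2 F553 D182 (iv D182)
def n183 : Q := act 3 n133
theorem D183 : act 3 n133 = n183 := rfl
theorem F740 : act 0 n183 = n183 := d2_1 D183 (iv D183) F551
theorem F741 : act 2 n183 = n183 := d13_1 D183 (iv D183) (iv D133) F413 D133
theorem F742 : act 5 n183 = n183 := d19_2 F553 D183 (iv D183)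
def n184 : Q := act 7 n133
theorem D184 : act 7 n133 = n184 := rfl
theorem F743 : act 0 n184 = n184 := d6_1 D184 (iv D184) F551
theorem F744 : act 2 n184 = n134 := d17_1 D184 (iv D134) D133
theorem F745 : act 4 n184 = n137 := d24_1 D184 (iv D137) (iv F552)
theorem F746 : act 5 n184 = n184 := d26_1 D184 (iv D184) F553
def n185 : Q := act 0 n135
theorem D185 : act 0 n135 = n185 := rfl
theorem F747 : act 1 n185 = n185 := d0_2 D135 D185 (iv D185) (iv D135) F416
theorem F748 : act 2 n185 = n156 := d1_2 (iv F560) D185 (iv D156)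
theorem F749 : act 5 n185 = n138 := d4_2 (iv F561) D185 (iv D138)
def n186 : Q := act 3 n135
theorem D186 : act 3 n135 = n186 := rfl
theorem F750 : act 1 n186 = n136 := d8_1 D186 (iv D136) D135
theorem F751 : act 2 n186 = n186 := d13_1 D186 (iv D186) F560 F474 (iv F560)
theorem F752 : act 5 n186 = n139 := d19_2 (iv F561) D186 (iv D139)
def n187 : Q := act 7 n135
theorem D187 : act 7 n135 = n187 := rfl
theorem F753 : act 1 n187 = n137 := d12_1 D187 (iv D137) D135
theorem F754 : act 2 n187 = n157 := d17_1 D187 (iv D157) (iv F560)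
theorem F755 : act 5 n187 = n140 := d26_1 D187 (iv D140) (iv F561)
def n188 : Q := act 4 n136
theorem D188 : act 4 n136 = n188 := rfl
theorem F756 : act 0 n188 = n188 := d3_1 D188 (iv D188) F562
theorem F757 : act 2 n188 = n144 := d14_1 D188 (iv D144) (iv F563)
def n189 : Q := act 7 n136
theorem D189 : act 7 n136 = n189 := rfl
theorem F758 : act 0 n189 = n189 := d6_1 D189 (iv D189) F562
theorem F759 : act 2 n189 = n145 := d17_1 D189 (iv D145) (iv F563)
theorem F760 : act 3 n189 = n137 := d21_1 D189 (iv D137) D136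
theorem F761 : act 5 n189 = n142 := d26_1 D189 (iv D142) (iv F564)
def n190 : Q := act 6 n137
theorem D190 : act 6 n137 = n190 := rfl
theorem F762 : act 0 n190 = n190 := d5_1 D190 (iv D190) F565
theorem F763 : act 2 n190 = n190 := d16_1 D190 (iv D190) F566 F422 (iv F566)
theorem F764 : act 5 n190 = n143 := d25_1 D190 (iv D143) (iv F567)
def n191 : Q := act 3 n138
theorem D191 : act 3 n138 = n191 := rfl
theorem F765 : act 0 n191 = n139 := d2_1 D191 (iv D139) D138
theorem F766 : act 1 n191 = n191 := d8_1 D191 (iv D191) F568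
theorem F767 : act 2 n191 = n191 := d13_1 D191 (iv D191) F569 F482 (iv F569)
def n192 : Q := act 7 n138
theorem D192 : act 7 n138 = n192 := rfl
theorem F768 : act 0 n192 = n140 := d6_1 D192 (iv D140) D138
theorem F769 : act 1 n192 = n192 := d12_1 D192 (iv D192) F568
theorem F770 : act 2 n192 = n159 := d17_1 D192 (iv D159) (iv F569)
theorem F771 : act 4 n192 = n192 := d24_1 D192 (iv D192) F570
def n193 : Q := act 4 n139
theorem D193 : act 4 n139 = n193 := rfl
theorem F772 : act 1 n193 = n141 := d9_1 D193 (iv D141) (iv F571)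
theorem F773 : act 2 n193 = n193 := d14_1 D193 (iv D193) F572
theorem F774 : act 3 n193 = n193 := d18_1 D193 (iv D193) (iv D139) F424 D139
def n194 : Q := act 7 n139
theorem D194 : act 7 n139 = n194 := rfl
theorem F775 : act 1 n194 = n142 := d12_1 D194 (iv D142) (iv F571)
theorem F776 : act 2 n194 = n194 := d17_1 D194 (iv D194) F572
theorem F777 : act 3 n194 = n140 := d21_1 D194 (iv D140) D139
def n195 : Q := act 6 n140
theorem D195 : act 6 n140 = n195 := rfl
theorem F778 : act 1 n195 = n143 := d11_1 D195 (iv D143) (iv F573)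
theorem F779 : act 4 n195 = n195 := d23_1 D195 (iv D195) F575
def n196 : Q := act 5 n141
theorem D196 : act 5 n141 = n196 := rfl
theorem F780 : act 0 n196 = n196 := d4_1 D196 (iv D196) F576
theorem F781 : act 2 n196 = n147 := d15_1 D196 (iv D147) (iv F577)
theorem F782 : act 3 n196 = n196 := d19_1 D196 (iv D196) F578
def n197 : Q := act 7 n141
theorem D197 : act 7 n141 = n197 := rfl
theorem F783 : act 0 n197 = n197 := d6_1 D197 (iv D197) F576
theorem F784 : act 2 n197 = n148 := d17_1 D197 (iv D148) (iv F577)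
theorem F785 : act 3 n197 = n197 := d21_1 D197 (iv D197) F578
theorem F786 : act 4 n197 = n142 := d24_1 D197 (iv D142) D141
def n198 : Q := act 6 n142
theorem D198 : act 6 n142 = n198 := rfl
theorem F787 : act 0 n198 = n198 := d5_1 D198 (iv D198) F579
theorem F788 : act 3 n198 = n143 := d20_1 D198 (iv D143) (iv F581)
def n199 : Q := act 5 n144
theorem D199 : act 5 n144 = n199 := rfl
theorem F789 : act 0 n199 = n199 := d4_1 D199 (iv D199) F585
theorem F790 : act 1 n199 = n199 := d10_1 D199 (iv D199) F586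
theorem F791 : act 3 n199 = n199 := d19_1 D199 (iv D199) F587
theorem F792 : act 4 n199 = n147 := d22_1 D199 (iv D147) (iv D105) (iv F432) D144
theorem F793 : act 6 n199 = n199 := d25_2 F588 D199 (iv D199)
def n200 : Q := act 7 n144
theorem D200 : act 7 n144 = n200 := rfl
theorem F794 : act 0 n200 = n200 := d6_1 D200 (iv D200) F585
theorem F795 : act 1 n200 = n200 := d12_1 D200 (iv D200) F586
theorem F796 : act 3 n200 = n200 := d21_1 D200 (iv D200) F587
theorem F797 : act 4 n200 = n145 := d24_1 D200 (iv D145) D144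
def n201 : Q := act 6 n145
theorem D201 : act 6 n145 = n201 := rfl
theorem F798 : act 0 n201 = n201 := d5_1 D201 (iv D201) F589
theorem F799 : act 1 n201 = n201 := d11_1 D201 (iv D201) F590
theorem F800 : act 3 n201 = n146 := d20_1 D201 (iv D146) (iv F591)
theorem F801 : act 5 n201 = n149 := d25_1 D201 (iv D149) (iv F592)
theorem F802 : act 7 n201 = n201 := d27_2 D145 D201 (iv D201) (iv D145) F433
def n202 : Q := act 7 n147
theorem D202 : act 7 n147 = n202 := rfl
theorem F803 : act 0 n202 = n202 := d6_1 D202 (iv D202) F599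
theorem F804 : act 1 n202 = n202 := d12_1 D202 (iv D202) F600
theorem F805 : act 3 n202 = n150 := d21_1 D202 (iv D150) (iv F601)
theorem F806 : act 5 n202 = n148 := d26_1 D202 (iv D148) D147
def n203 : Q := act 6 n148
theorem D203 : act 6 n148 = n203 := rfl
theorem F807 : act 0 n203 = n203 := d5_1 D203 (iv D203) F603
theorem F808 : act 1 n203 = n203 := d11_1 D203 (iv D203) F604
theorem F809 : act 3 n203 = n151 := d20_1 D203 (iv D151) (iv F605)
theorem F810 : act 4 n203 = n149 := d23_1 D203 (iv D149) (iv F606)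
theorem F811 : act 7 n203 = n203 := d27_2 D148 D203 (iv D203) (iv D148) F442
def n204 : Q := act 2 n149
theorem D204 : act 2 n149 = n204 := rfl
theorem F812 : act 0 n204 = n204 := d1_1 D204 (iv D204) F607
theorem F813 : act 3 n204 = n204 := d13_2 (iv F609) D204 (iv D204) F609 F448
theorem F814 : act 7 n204 = n204 := d17_2 F610 D204 (iv D204)
def n205 : Q := act 6 n150
theorem D205 : act 6 n150 = n205 := rfl
theorem F815 : act 0 n205 = n205 := d5_1 D205 (iv D205) F611
theorem F816 : act 1 n205 = n205 := d11_1 D205 (iv D205) F612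
theorem F817 : act 4 n205 = n205 := d23_1 D205 (iv D205) F614
theorem F818 : act 5 n205 = n151 := d25_1 D205 (iv D151) (iv F615)
theorem F819 : act 7 n205 = n205 := d27_2 D150 D205 (iv D205) (iv D150) F455
def n206 : Q := act 2 n151
theorem D206 : act 2 n151 = n206 := rfl
theorem F820 : act 0 n206 = n206 := d1_1 D206 (iv D206) F616
theorem F821 : act 4 n206 = n152 := d14_2 (iv F618) D206 (iv D152)
theorem F822 : act 6 n206 = n206 := d16_2 D151 D206 (iv D206) (iv D151) F458
theorem F823 : act 7 n206 = n206 := d17_2 F619 D206 (iv D206)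
def n207 : Q := act 1 n152
theorem D207 : act 1 n152 = n207 := rfl
theorem F824 : act 2 n207 = n207 := d7_2 D152 D207 (iv D207) (iv D152) F461
theorem F825 : act 3 n207 = n207 := d8_2 F621 D207 (iv D207)
theorem F826 : act 5 n207 = n207 := d10_2 F622 D207 (iv D207)
theorem F827 : act 6 n207 = n207 := d11_2 F623 D207 (iv D207)
theorem F828 : act 7 n207 = n207 := d12_2 F624 D207 (iv D207)
def n208 : Q := act 0 n153
theorem D208 : act 0 n153 = n208 := rfl
theorem F829 : act 1 n208 = n161 := d0_2 D153 D208 (iv D161) (iv D118) (iv F465)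
theorem F830 : act 4 n208 = n156 := d3_2 (iv F625) D208 (iv D156)
theorem F831 : act 5 n208 = n208 := d4_2 F626 D208 (iv D208)
theorem F832 : act 6 n208 = n208 := d5_2 F627 D208 (iv D208)
def n209 : Q := act 3 n153
theorem D209 : act 3 n153 = n209 := rfl
theorem F833 : act 1 n209 = n154 := d8_1 D209 (iv D154) D153
theorem F834 : act 4 n209 = n209 := d18_2 (iv F625) D209 (iv D209) F625 F474
theorem F835 : act 5 n209 = n209 := d19_2 F626 D209 (iv D209)
theorem F836 : act 6 n209 = n209 := d20_2 F627 D209 (iv D209)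
def n210 : Q := act 7 n153
theorem D210 : act 7 n153 = n210 := rfl
theorem F837 : act 1 n210 = n155 := d12_1 D210 (iv D155) D153
theorem F838 : act 4 n210 = n157 := d24_1 D210 (iv D157) (iv F625)
theorem F839 : act 5 n210 = n210 := d26_1 D210 (iv D210) F626
def n211 : Q := act 7 n154
theorem D211 : act 7 n154 = n211 := rfl
theorem F840 : act 0 n211 = n164 := d6_1 D211 (iv D164) (iv F628)
theorem F841 : act 2 n211 = n211 := d17_1 D211 (iv D211) F629
theorem F842 : act 3 n211 = n155 := d21_1 D211 (iv D155) D154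
theorem F843 : act 4 n211 = n211 := d24_1 D211 (iv D211) F630
theorem F844 : act 5 n211 = n211 := d26_1 D211 (iv D211) F631
def n212 : Q := act 6 n155
theorem D212 : act 6 n155 = n212 := rfl
theorem F845 : act 0 n212 = n165 := d5_1 D212 (iv D165) (iv F633)
theorem F846 : act 2 n212 = n212 := d16_1 D212 (iv D212) F634 F473 (iv F634)
theorem F847 : act 4 n212 = n158 := d23_1 D212 (iv D158) (iv F635)
theorem F848 : act 5 n212 = n212 := d25_1 D212 (iv D212) F636
theorem F849 : act 7 n212 = n212 := d27_2 D155 D212 (iv D212) (iv D155) F468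
def n213 : Q := act 7 n156
theorem D213 : act 7 n156 = n213 := rfl
theorem F850 : act 0 n213 = n157 := d6_1 D213 (iv D157) D156
theorem F851 : act 1 n213 = n166 := d12_1 D213 (iv D166) (iv F637)
theorem F852 : act 3 n213 = n213 := d21_1 D213 (iv D213) F638
theorem F853 : act 5 n213 = n159 := d26_1 D213 (iv D159) (iv F639)
def n214 : Q := act 6 n157
theorem D214 : act 6 n157 = n214 := rfl
theorem F854 : act 1 n214 = n158 := d11_1 D214 (iv D158) (iv F641)
theorem F855 : act 3 n214 = n214 := d20_1 D214 (iv D214) F642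
theorem F856 : act 5 n214 = n160 := d25_1 D214 (iv D160) (iv F643)
theorem F857 : act 7 n214 = n214 := d27_2 D157 D214 (iv D214) (iv D157) F476
def n215 : Q := act 6 n159
theorem D215 : act 6 n159 = n215 := rfl
theorem F858 : act 0 n215 = n160 := d5_1 D215 (iv D160) (iv F649)
theorem F859 : act 1 n215 = n168 := d11_1 D215 (iv D168) (iv F650)
theorem F860 : act 3 n215 = n215 := d20_1 D215 (iv D215) F651
theorem F861 : act 4 n215 = n215 := d23_1 D215 (iv D215) F652
theorem F862 : act 7 n215 = n215 := d27_2 D159 D215 (iv D215) (iv D159) F484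
def n216 : Q := act 2 n160
theorem D216 : act 2 n160 = n216 := rfl
theorem F863 : act 1 n216 = n216 := d7_1 D216 (iv D216) F653 F489 (iv F653)
theorem F864 : act 4 n216 = n216 := d14_2 F655 D216 (iv D216)
theorem F865 : act 7 n216 = n216 := d17_2 F656 D216 (iv D216)
def n217 : Q := act 3 n161
theorem D217 : act 3 n161 = n217 := rfl
theorem F866 : act 0 n217 = n162 := d2_1 D217 (iv D162) D161
theorem F867 : act 4 n217 = n217 := d18_2 (iv F658) D217 (iv D217) F658 F505
theorem F868 : act 5 n217 = n217 := d19_2 F659 D217 (iv D217)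
theorem F869 : act 6 n217 = n217 := d20_2 F660 D217 (iv D217)
def n218 : Q := act 7 n161
theorem D218 : act 7 n161 = n218 := rfl
theorem F870 : act 0 n218 = n163 := d6_1 D218 (iv D163) D161
theorem F871 : act 2 n218 = n218 := d17_1 D218 (iv D218) F657
theorem F872 : act 4 n218 = n166 := d24_1 D218 (iv D166) (iv F658)
theorem F873 : act 5 n218 = n218 := d26_1 D218 (iv D218) F659
def n219 : Q := act 2 n162
theorem D219 : act 2 n162 = n219 := rfl
theorem F874 : act 1 n219 = n219 := d7_1 D219 (iv D219) F661 F497 (iv F661)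
theorem F875 : act 3 n219 = n219 := d13_2 D162 D219 (iv D219) (iv D162) F493
theorem F876 : act 4 n219 = n219 := d14_2 F662 D219 (iv D219)
theorem F877 : act 5 n219 = n219 := d15_2 F663 D219 (iv D219)
def n220 : Q := act 7 n162
theorem D220 : act 7 n162 = n220 := rfl
theorem F878 : act 1 n220 = n164 := d12_1 D220 (iv D164) (iv F661)
theorem F879 : act 3 n220 = n163 := d21_1 D220 (iv D163) D162
theorem F880 : act 4 n220 = n220 := d24_1 D220 (iv D220) F662
theorem F881 : act 5 n220 = n220 := d26_1 D220 (iv D220) F663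
def n221 : Q := act 6 n163
theorem D221 : act 6 n163 = n221 := rfl
theorem F882 : act 1 n221 = n165 := d11_1 D221 (iv D165) (iv F665)
theorem F883 : act 4 n221 = n167 := d23_1 D221 (iv D167) (iv F667)
theorem F884 : act 5 n221 = n221 := d25_1 D221 (iv D221) F668
theorem F885 : act 7 n221 = n221 := d27_2 D163 D221 (iv D221) (iv D163) F496
def n222 : Q := act 6 n164
theorem D222 : act 6 n164 = n222 := rfl
theorem F886 : act 3 n222 = n165 := d20_1 D222 (iv D165) (iv F670)
theorem F887 : act 4 n222 = n222 := d23_1 D222 (iv D222) F671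
theorem F888 : act 5 n222 = n222 := d25_1 D222 (iv D222) F672
theorem F889 : act 7 n222 = n222 := d27_2 D164 D222 (iv D222) (iv D164) F500
def n223 : Q := act 6 n166
theorem D223 : act 6 n166 = n223 := rfl
theorem F890 : act 0 n223 = n167 := d5_1 D223 (iv D167) (iv F677)
theorem F891 : act 3 n223 = n223 := d20_1 D223 (iv D223) F679
theorem F892 : act 5 n223 = n168 := d25_1 D223 (iv D168) (iv F680)
theorem F893 : act 7 n223 = n223 := d27_2 D166 D223 (iv D223) (iv D166) F507
def n224 : Q := act 2 n167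
theorem D224 : act 2 n167 = n224 := rfl
theorem F894 : act 1 n224 = n224 := d7_1 D224 (iv D224) F681 F512 (iv F681)
theorem F895 : act 5 n224 = n169 := d15_2 (iv F683) D224 (iv D169)
theorem F896 : act 6 n224 = n224 := d16_2 D167 D224 (iv D224) (iv D167) F509
theorem F897 : act 7 n224 = n224 := d17_2 F684 D224 (iv D224)
def n225 : Q := act 2 n168
theorem D225 : act 2 n168 = n225 := rfl
theorem F898 : act 0 n225 = n169 := d1_1 D225 (iv D169) (iv F685)
theorem F899 : act 4 n225 = n225 := d14_2 F687 D225 (iv D225)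
theorem F900 : act 6 n225 = n225 := d16_2 D168 D225 (iv D225) (iv D168) F517
theorem F901 : act 7 n225 = n225 := d17_2 F688 D225 (iv D225)
def n226 : Q := act 3 n169
theorem D226 : act 3 n169 = n226 := rfl
theorem F902 : act 1 n226 = n226 := d8_1 D226 (iv D226) F689
theorem F903 : act 2 n226 = n226 := d13_1 D226 (iv D226) (iv D169) F521 D169
theorem F904 : act 6 n226 = n226 := d20_2 F691 D226 (iv D226)
theorem F905 : act 7 n226 = n226 := d21_2 F692 D226 (iv D226)
def n227 : Q := act 2 n170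
theorem D227 : act 2 n170 = n227 := rfl
theorem F906 : act 0 n227 = n227 := d1_1 D227 (iv D227) F693
theorem F907 : act 4 n227 = n227 := d14_2 F696 D227 (iv D227)
theorem F908 : act 5 n227 = n227 := d15_2 F697 D227 (iv D227)
theorem F909 : act 6 n227 = n227 := d16_2 D170 D227 (iv D227) (iv D170) F526
def n228 : Q := act 7 n170
theorem D228 : act 7 n170 = n228 := rfl
theorem F910 : act 0 n228 = n228 := d6_1 D228 (iv D228) F693
theorem F911 : act 1 n228 = n228 := d12_1 D228 (iv D228) F694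
theorem F912 : act 3 n228 = n172 := d21_1 D228 (iv D172) (iv F695)
theorem F913 : act 4 n228 = n228 := d24_1 D228 (iv D228) F696
theorem F914 : act 5 n228 = n228 := d26_1 D228 (iv D228) F697
theorem F915 : act 6 n228 = n228 := d27_1 D228 (iv D228) (iv D170) F529 D170
def n229 : Q := act 1 n171
theorem D229 : act 1 n171 = n229 := rfl
theorem F916 : act 2 n229 = n229 := d7_2 D171 D229 (iv D229) (iv D171) F531
theorem F917 : act 4 n229 = n173 := d9_2 (iv F699) D229 (iv D173)
theorem F918 : act 5 n229 = n229 := d10_2 F700 D229 (iv D229)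
theorem F919 : act 6 n229 = n182 := d11_2 (iv F701) D229 (iv D182)
def n230 : Q := act 3 n171
theorem D230 : act 3 n171 = n230 := rfl
theorem F920 : act 0 n230 = n230 := d2_1 D230 (iv D230) F698
theorem F921 : act 5 n230 = n230 := d19_2 F700 D230 (iv D230)
theorem F922 : act 6 n230 = n183 := d20_2 (iv F701) D230 (iv D183)
def n231 : Q := act 7 n171
theorem D231 : act 7 n171 = n231 := rfl
theorem F923 : act 0 n231 = n231 := d6_1 D231 (iv D231) F698
theorem F924 : act 2 n231 = n172 := d17_1 D231 (iv D172) D171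
theorem F925 : act 4 n231 = n175 := d24_1 D231 (iv D175) (iv F699)
theorem F926 : act 5 n231 = n231 := d26_1 D231 (iv D231) F700
def n232 : Q := act 0 n173
theorem D232 : act 0 n173 = n232 := rfl
theorem F927 : act 1 n232 = n232 := d0_2 D173 D232 (iv D232) (iv D173) F534
theorem F928 : act 2 n232 = n232 := d1_2 F707 D232 (iv D232)
theorem F929 : act 5 n232 = n176 := d4_2 (iv F708) D232 (iv D176)
theorem F930 : act 6 n232 = n185 := d5_2 (iv F709) D232 (iv D185)
def n233 : Q := act 3 n173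
theorem D233 : act 3 n173 = n233 := rfl
theorem F931 : act 1 n233 = n174 := d8_1 D233 (iv D174) D173
theorem F932 : act 5 n233 = n177 := d19_2 (iv F708) D233 (iv D177)
theorem F933 : act 6 n233 = n186 := d20_2 (iv F709) D233 (iv D186)
def n234 : Q := act 7 n173
theorem D234 : act 7 n173 = n234 := rfl
theorem F934 : act 1 n234 = n175 := d12_1 D234 (iv D175) D173
theorem F935 : act 2 n234 = n234 := d17_1 D234 (iv D234) F707
theorem F936 : act 5 n234 = n178 := d26_1 D234 (iv D178) (iv F708)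
def n235 : Q := act 4 n174
theorem D235 : act 4 n174 = n235 := rfl
theorem F937 : act 0 n235 = n235 := d3_1 D235 (iv D235) F710
theorem F938 : act 2 n235 = n235 := d14_1 D235 (iv D235) F711
theorem F939 : act 6 n235 = n188 := d23_2 (iv F713) D235 (iv D188)
def n236 : Q := act 7 n174
theorem D236 : act 7 n174 = n236 := rfl
theorem F940 : act 0 n236 = n236 := d6_1 D236 (iv D236) F710
theorem F941 : act 2 n236 = n236 := d17_1 D236 (iv D236) F711
theorem F942 : act 3 n236 = n175 := d21_1 D236 (iv D175) D174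
theorem F943 : act 5 n236 = n180 := d26_1 D236 (iv D180) (iv F712)
def n237 : Q := act 6 n175
theorem D237 : act 6 n175 = n237 := rfl
theorem F944 : act 0 n237 = n237 := d5_1 D237 (iv D237) F714
theorem F945 : act 2 n237 = n237 := d16_1 D237 (iv D237) F715 F541 (iv F715)
theorem F946 : act 5 n237 = n181 := d25_1 D237 (iv D181) (iv F716)
theorem F947 : act 7 n237 = n190 := d27_2 D175 D237 (iv D190) (iv D137) (iv F536)
def n238 : Q := act 3 n176
theorem D238 : act 3 n176 = n238 := rfl
theorem F948 : act 0 n238 = n177 := d2_1 D238 (iv D177) D176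
theorem F949 : act 1 n238 = n238 := d8_1 D238 (iv D238) F717
theorem F950 : act 6 n238 = n191 := d20_2 (iv F720) D238 (iv D191)
def n239 : Q := act 7 n176
theorem D239 : act 7 n176 = n239 := rfl
theorem F951 : act 0 n239 = n178 := d6_1 D239 (iv D178) D176
theorem F952 : act 1 n239 = n239 := d12_1 D239 (iv D239) F717
theorem F953 : act 2 n239 = n239 := d17_1 D239 (iv D239) F718
theorem F954 : act 4 n239 = n239 := d24_1 D239 (iv D239) F719
def n240 : Q := act 2 n177
theorem D240 : act 2 n177 = n240 := rfl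
theorem F955 : act 1 n240 = n240 := d7_1 D240 (iv D240) F721 F546 (iv F721)
theorem F956 : act 3 n240 = n240 := d13_2 D177 D240 (iv D240) (iv D177) F542
theorem F957 : act 6 n240 = n240 := d16_2 (iv F722) D240 (iv D240) F722 F572
def n241 : Q := act 4 n177
theorem D241 : act 4 n177 = n241 := rfl
theorem F958 : act 1 n241 = n179 := d9_1 D241 (iv D179) (iv F721)
theorem F959 : act 3 n241 = n241 := d18_1 D241 (iv D241) (iv D177) F543 D177
theorem F960 : act 6 n241 = n193 := d23_2 (iv F722) D241 (iv D193)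
def n242 : Q := act 7 n177
theorem D242 : act 7 n177 = n242 := rfl
theorem F961 : act 1 n242 = n180 := d12_1 D242 (iv D180) (iv F721)
theorem F962 : act 3 n242 = n178 := d21_1 D242 (iv D178) D177
def n243 : Q := act 6 n178
theorem D243 : act 6 n178 = n243 := rfl
theorem F963 : act 1 n243 = n181 := d11_1 D243 (iv D181) (iv F723)
theorem F964 : act 4 n243 = n243 := d23_1 D243 (iv D243) F725
theorem F965 : act 7 n243 = n195 := d27_2 D178 D243 (iv D195) (iv D140) (iv F544)
def n244 : Q := act 5 n179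
theorem D244 : act 5 n179 = n244 := rfl
theorem F966 : act 0 n244 = n244 := d4_1 D244 (iv D244) F726
theorem F967 : act 2 n244 = n244 := d15_1 D244 (iv D244) F727
theorem F968 : act 3 n244 = n244 := d19_1 D244 (iv D244) F728
theorem F969 : act 6 n244 = n196 := d25_2 (iv F729) D244 (iv D196)
def n245 : Q := act 7 n179
theorem D245 : act 7 n179 = n245 := rfl
theorem F970 : act 0 n245 = n245 := d6_1 D245 (iv D245) F726
theorem F971 : act 2 n245 = n245 := d17_1 D245 (iv D245) F727
theorem F972 : act 3 n245 = n245 := d21_1 D245 (iv D245) F728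
theorem F973 : act 4 n245 = n180 := d24_1 D245 (iv D180) D179
def n246 : Q := act 6 n180
theorem D246 : act 6 n180 = n246 := rfl
theorem F974 : act 0 n246 = n246 := d5_1 D246 (iv D246) F730
theorem F975 : act 3 n246 = n181 := d20_1 D246 (iv D181) (iv F732)
theorem F976 : act 7 n246 = n198 := d27_2 D180 D246 (iv D198) (iv D142) (iv F547)
def n247 : Q := act 0 n182
theorem D247 : act 0 n182 = n247 := rfl
theorem F977 : act 1 n247 = n247 := d0_2 D182 D247 (iv D247) (iv D182) F551
theorem F978 : act 2 n247 = n208 := d1_2 (iv F737) D247 (iv D208)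
theorem F979 : act 4 n247 = n185 := d3_2 (iv F738) D247 (iv D185)
theorem F980 : act 5 n247 = n247 := d4_2 F739 D247 (iv D247)
def n248 : Q := act 3 n182
theorem D248 : act 3 n182 = n248 := rfl
theorem F981 : act 1 n248 = n183 := d8_1 D248 (iv D183) D182
theorem F982 : act 5 n248 = n248 := d19_2 F739 D248 (iv D248)
def n249 : Q := act 7 n182
theorem D249 : act 7 n182 = n249 := rfl
theorem F983 : act 1 n249 = n184 := d12_1 D249 (iv D184) D182
theorem F984 : act 2 n249 = n210 := d17_1 D249 (iv D210) (iv F737)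
theorem F985 : act 4 n249 = n187 := d24_1 D249 (iv D187) (iv F738)
theorem F986 : act 5 n249 = n249 := d26_1 D249 (iv D249) F739
def n250 : Q := act 4 n183
theorem D250 : act 4 n183 = n250 := rfl
theorem F987 : act 0 n250 = n250 := d3_1 D250 (iv D250) F740
theorem F988 : act 2 n250 = n250 := d14_1 D250 (iv D250) F741
theorem F989 : act 3 n250 = n188 := d18_1 D250 (iv D188) (iv D136) (iv F552) D183
def n251 : Q := act 7 n183
theorem D251 : act 7 n183 = n251 := rfl
theorem F990 : act 0 n251 = n251 := d6_1 D251 (iv D251) F740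
theorem F991 : act 2 n251 = n251 := d17_1 D251 (iv D251) F741
theorem F992 : act 3 n251 = n184 := d21_1 D251 (iv D184) D183
theorem F993 : act 5 n251 = n251 := d26_1 D251 (iv D251) F742
def n252 : Q := act 6 n184
theorem D252 : act 6 n184 = n252 := rfl
theorem F994 : act 0 n252 = n252 := d5_1 D252 (iv D252) F743
theorem F995 : act 2 n252 = n252 := d16_1 D252 (iv D252) F744 F559 (iv F744)
theorem F996 : act 4 n252 = n190 := d23_1 D252 (iv D190) (iv F745)
theorem F997 : act 5 n252 = n252 := d25_1 D252 (iv D252) F746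
def n253 : Q := act 3 n185
theorem D253 : act 3 n185 = n253 := rfl
theorem F998 : act 0 n253 = n186 := d2_1 D253 (iv D186) D185
theorem F999 : act 1 n253 = n253 := d8_1 D253 (iv D253) F747
theorem F1000 : act 2 n253 = n253 := d13_1 D253 (iv D253) F748 F638 (iv F748)
theorem F1001 : act 5 n253 = n191 := d19_2 (iv F749) D253 (iv D191)
def n254 : Q := act 7 n185
theorem D254 : act 7 n185 = n254 := rfl
theorem F1002 : act 0 n254 = n187 := d6_1 D254 (iv D187) D185
theorem F1003 : act 1 n254 = n254 := d12_1 D254 (iv D254) F747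
theorem F1004 : act 2 n254 = n213 := d17_1 D254 (iv D213) (iv F748)
theorem F1005 : act 5 n254 = n192 := d26_1 D254 (iv D192) (iv F749)
def n255 : Q := act 4 n186
theorem D255 : act 4 n186 = n255 := rfl
theorem F1006 : act 1 n255 = n188 := d9_1 D255 (iv D188) (iv F750)
theorem F1007 : act 2 n255 = n255 := d14_1 D255 (iv D255) F751
def n256 : Q := act 7 n186
theorem D256 : act 7 n186 = n256 := rfl
theorem F1008 : act 1 n256 = n189 := d12_1 D256 (iv D189) (iv F750)
theorem F1009 : act 2 n256 = n256 := d17_1 D256 (iv D256) F751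
theorem F1010 : act 3 n256 = n187 := d21_1 D256 (iv D187) D186
theorem F1011 : act 5 n256 = n194 := d26_1 D256 (iv D194) (iv F752)
def n257 : Q := act 6 n187
theorem D257 : act 6 n187 = n257 := rfl
theorem F1012 : act 1 n257 = n190 := d11_1 D257 (iv D190) (iv F753)
theorem F1013 : act 5 n257 = n195 := d25_1 D257 (iv D195) (iv F755)
def n258 : Q := act 5 n188
theorem D258 : act 5 n188 = n258 := rfl
theorem F1014 : act 0 n258 = n258 := d4_1 D258 (iv D258) F756
theorem F1015 : act 2 n258 = n199 := d15_1 D258 (iv D199) (iv F757)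
theorem F1016 : act 4 n258 = n196 := d22_1 D258 (iv D196) (iv D141) (iv F564) D188
def n259 : Q := act 7 n188
theorem D259 : act 7 n188 = n259 := rfl
theorem F1017 : act 0 n259 = n259 := d6_1 D259 (iv D259) F756
theorem F1018 : act 2 n259 = n200 := d17_1 D259 (iv D200) (iv F757)
theorem F1019 : act 4 n259 = n189 := d24_1 D259 (iv D189) D188
def n260 : Q := act 6 n189
theorem D260 : act 6 n189 = n260 := rfl
theorem F1020 : act 0 n260 = n260 := d5_1 D260 (iv D260) F758
theorem F1021 : act 3 n260 = n190 := d20_1 D260 (iv D190) (iv F760)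
theorem F1022 : act 5 n260 = n198 := d25_1 D260 (iv D198) (iv F761)
def n261 : Q := act 4 n191
theorem D261 : act 4 n191 = n261 := rfl
theorem F1023 : act 0 n261 = n193 := d3_1 D261 (iv D193) (iv F765)
theorem F1024 : act 1 n261 = n261 := d9_1 D261 (iv D261) F766
theorem F1025 : act 2 n261 = n261 := d14_1 D261 (iv D261) F767
theorem F1026 : act 3 n261 = n261 := d18_1 D261 (iv D261) (iv D191) F570 D191
def n262 : Q := act 7 n191
theorem D262 : act 7 n191 = n262 := rfl
theorem F1027 : act 0 n262 = n194 := d6_1 D262 (iv D194) (iv F765)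
theorem F1028 : act 1 n262 = n262 := d12_1 D262 (iv D262) F766
theorem F1029 : act 2 n262 = n262 := d17_1 D262 (iv D262) F767
theorem F1030 : act 3 n262 = n192 := d21_1 D262 (iv D192) D191
def n263 : Q := act 6 n192
theorem D263 : act 6 n192 = n263 := rfl
theorem F1031 : act 0 n263 = n195 := d5_1 D263 (iv D195) (iv F768)
theorem F1032 : act 1 n263 = n263 := d11_1 D263 (iv D263) F769
theorem F1033 : act 4 n263 = n263 := d23_1 D263 (iv D263) F771
def n264 : Q := act 5 n193
theorem D264 : act 5 n193 = n264 := rfl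
theorem F1034 : act 1 n264 = n196 := d10_1 D264 (iv D196) (iv F772)
theorem F1035 : act 2 n264 = n264 := d15_1 D264 (iv D264) F773
theorem F1036 : act 3 n264 = n264 := d19_1 D264 (iv D264) F774
def n265 : Q := act 7 n193
theorem D265 : act 7 n193 = n265 := rfl
theorem F1037 : act 1 n265 = n197 := d12_1 D265 (iv D197) (iv F772)
theorem F1038 : act 2 n265 = n265 := d17_1 D265 (iv D265) F773
theorem F1039 : act 3 n265 = n265 := d21_1 D265 (iv D265) F774
theorem F1040 : act 4 n265 = n194 := d24_1 D265 (iv D194) D193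
def n266 : Q := act 6 n194
theorem D266 : act 6 n194 = n266 := rfl
theorem F1041 : act 1 n266 = n198 := d11_1 D266 (iv D198) (iv F775)
theorem F1042 : act 3 n266 = n195 := d20_1 D266 (iv D195) (iv F777)
def n267 : Q := act 2 n195
theorem D267 : act 2 n195 = n267 := rfl
theorem F1043 : act 1 n267 = n267 := d7_1 D267 (iv D267) F778 F583 (iv F778)
theorem F1044 : act 4 n267 = n267 := d14_2 F779 D267 (iv D267)
theorem F1045 : act 6 n267 = n216 := d16_2 D195 D267 (iv D216) (iv D160) (iv F574)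
def n268 : Q := act 7 n196
theorem D268 : act 7 n196 = n268 := rfl
theorem F1046 : act 0 n268 = n268 := d6_1 D268 (iv D268) F780
theorem F1047 : act 2 n268 = n202 := d17_1 D268 (iv D202) (iv F781)
theorem F1048 : act 3 n268 = n268 := d21_1 D268 (iv D268) F782
theorem F1049 : act 5 n268 = n197 := d26_1 D268 (iv D197) D196
def n269 : Q := act 6 n197
theorem D269 : act 6 n197 = n269 := rfl
theorem F1050 : act 0 n269 = n269 := d5_1 D269 (iv D269) F783
theorem F1051 : act 3 n269 = n269 := d20_1 D269 (iv D269) F785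
theorem F1052 : act 4 n269 = n198 := d23_1 D269 (iv D198) (iv F786)
def n270 : Q := act 2 n198
theorem D270 : act 2 n198 = n270 := rfl
theorem F1053 : act 0 n270 = n270 := d1_1 D270 (iv D270) F787
theorem F1054 : act 3 n270 = n270 := d13_2 (iv F788) D270 (iv D270) F788 F583
theorem F1055 : act 6 n270 = n204 := d16_2 D198 D270 (iv D204) (iv D149) (iv F580)
def n271 : Q := act 7 n199
theorem D271 : act 7 n199 = n271 := rfl
theorem F1056 : act 0 n271 = n271 := d6_1 D271 (iv D271) F789
theorem F1057 : act 1 n271 = n271 := d12_1 D271 (iv D271) F790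
theorem F1058 : act 3 n271 = n271 := d21_1 D271 (iv D271) F791
theorem F1059 : act 4 n271 = n202 := d24_1 D271 (iv D202) (iv F792)
theorem F1060 : act 5 n271 = n200 := d26_1 D271 (iv D200) D199
def n272 : Q := act 6 n200
theorem D272 : act 6 n200 = n272 := rfl
theorem F1061 : act 0 n272 = n272 := d5_1 D272 (iv D272) F794
theorem F1062 : act 1 n272 = n272 := d11_1 D272 (iv D272) F795
theorem F1063 : act 3 n272 = n272 := d20_1 D272 (iv D272) F796
theorem F1064 : act 4 n272 = n201 := d23_1 D272 (iv D201) (iv F797)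
theorem F1065 : act 7 n272 = n272 := d27_2 D200 D272 (iv D272) (iv D200) F588
def n273 : Q := act 2 n201
theorem D273 : act 2 n201 = n273 := rfl
theorem F1066 : act 0 n273 = n273 := d1_1 D273 (iv D273) F798
theorem F1067 : act 3 n273 = n273 := d13_2 (iv F800) D273 (iv D273) F800 F595
theorem F1068 : act 5 n273 = n204 := d15_2 (iv F801) D273 (iv D204)
theorem F1069 : act 7 n273 = n273 := d17_2 F802 D273 (iv D273)
def n274 : Q := act 6 n202
theorem D274 : act 6 n202 = n274 := rfl
theorem F1070 : act 0 n274 = n274 := d5_1 D274 (iv D274) F803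
theorem F1071 : act 1 n274 = n274 := d11_1 D274 (iv D274) F804
theorem F1072 : act 3 n274 = n205 := d20_1 D274 (iv D205) (iv F805)
theorem F1073 : act 5 n274 = n203 := d25_1 D274 (iv D203) (iv F806)
theorem F1074 : act 7 n274 = n274 := d27_2 D202 D274 (iv D274) (iv D202) F602
def n275 : Q := act 2 n203
theorem D275 : act 2 n203 = n275 := rfl
theorem F1075 : act 0 n275 = n275 := d1_1 D275 (iv D275) F807
theorem F1076 : act 4 n275 = n204 := d14_2 (iv F810) D275 (iv D204)
theorem F1077 : act 7 n275 = n275 := d17_2 F811 D275 (iv D275)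
def n276 : Q := act 1 n204
theorem D276 : act 1 n204 = n276 := rfl
theorem F1078 : act 2 n276 = n276 := d7_2 D204 D276 (iv D276) (iv D204) F608
theorem F1079 : act 3 n276 = n276 := d8_2 F813 D276 (iv D276)
theorem F1080 : act 7 n276 = n276 := d12_2 F814 D276 (iv D276)
def n277 : Q := act 2 n205
theorem D277 : act 2 n205 = n277 := rfl
theorem F1081 : act 0 n277 = n277 := d1_1 D277 (iv D277) F815
theorem F1082 : act 4 n277 = n277 := d14_2 F817 D277 (iv D277)
theorem F1083 : act 5 n277 = n206 := d15_2 (iv F818) D277 (iv D206)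
theorem F1084 : act 6 n277 = n277 := d16_2 D205 D277 (iv D277) (iv D205) F613
theorem F1085 : act 7 n277 = n277 := d17_2 F819 D277 (iv D277)
def n278 : Q := act 1 n206
theorem D278 : act 1 n206 = n278 := rfl
theorem F1086 : act 2 n278 = n278 := d7_2 D206 D278 (iv D278) (iv D206) F617
theorem F1087 : act 4 n278 = n207 := d9_2 (iv F821) D278 (iv D207)
theorem F1088 : act 6 n278 = n278 := d11_2 F822 D278 (iv D278)
theorem F1089 : act 7 n278 = n278 := d12_2 F823 D278 (iv D278)
def n279 : Q := act 3 n206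
theorem D279 : act 3 n206 = n279 := rfl
theorem F1090 : act 0 n279 = n279 := d2_1 D279 (iv D279) F820
theorem F1091 : act 4 n279 = n279 := d18_2 (iv F821) D279 (iv D279) F821 F621
theorem F1092 : act 6 n279 = n279 := d20_2 F822 D279 (iv D279)
theorem F1093 : act 7 n279 = n279 := d21_2 F823 D279 (iv D279)
def n280 : Q := act 0 n207
theorem D280 : act 0 n207 = n280 := rfl
theorem F1094 : act 1 n280 = n280 := d0_2 D207 D280 (iv D280) (iv D207) F620
theorem F1095 : act 2 n280 = n280 := d1_2 F824 D280 (iv D280)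
theorem F1096 : act 3 n280 = n280 := d2_2 F825 D280 (iv D280)
theorem F1097 : act 5 n280 = n280 := d4_2 F826 D280 (iv D280)
theorem F1098 : act 6 n280 = n280 := d5_2 F827 D280 (iv D280)
theorem F1099 : act 7 n280 = n280 := d6_2 F828 D280 (iv D280)
def n281 : Q := act 3 n208
theorem D281 : act 3 n208 = n281 := rfl
theorem F1100 : act 0 n281 = n209 := d2_1 D281 (iv D209) D208
theorem F1101 : act 1 n281 = n217 := d8_1 D281 (iv D217) (iv F829)
theorem F1102 : act 4 n281 = n281 := d18_2 (iv F830) D281 (iv D281) F830 F638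
theorem F1103 : act 5 n281 = n281 := d19_2 F831 D281 (iv D281)
theorem F1104 : act 6 n281 = n281 := d20_2 F832 D281 (iv D281)
def n282 : Q := act 7 n208
theorem D282 : act 7 n208 = n282 := rfl
theorem F1105 : act 0 n282 = n210 := d6_1 D282 (iv D210) D208
theorem F1106 : act 1 n282 = n218 := d12_1 D282 (iv D218) (iv F829)
theorem F1107 : act 4 n282 = n213 := d24_1 D282 (iv D213) (iv F830)
theorem F1108 : act 5 n282 = n282 := d26_1 D282 (iv D282) F831
def n283 : Q := act 2 n209
theorem D283 : act 2 n209 = n283 := rfl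
theorem F1109 : act 1 n283 = n283 := d7_1 D283 (iv D283) F833 F629 (iv F833)
theorem F1110 : act 4 n283 = n283 := d14_2 F834 D283 (iv D283)
theorem F1111 : act 5 n283 = n283 := d15_2 F835 D283 (iv D283)
def n284 : Q := act 7 n209
theorem D284 : act 7 n209 = n284 := rfl
theorem F1112 : act 1 n284 = n211 := d12_1 D284 (iv D211) (iv F833)
theorem F1113 : act 3 n284 = n210 := d21_1 D284 (iv D210) D209
theorem F1114 : act 4 n284 = n284 := d24_1 D284 (iv D284) F834
theorem F1115 : act 5 n284 = n284 := d26_1 D284 (iv D284) F835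
def n285 : Q := act 6 n210
theorem D285 : act 6 n210 = n285 := rfl
theorem F1116 : act 1 n285 = n212 := d11_1 D285 (iv D212) (iv F837)
theorem F1117 : act 4 n285 = n214 := d23_1 D285 (iv D214) (iv F838)
theorem F1118 : act 5 n285 = n285 := d25_1 D285 (iv D285) F839
theorem F1119 : act 7 n285 = n285 := d27_2 D210 D285 (iv D285) (iv D210) F627
def n286 : Q := act 6 n211
theorem D286 : act 6 n211 = n286 := rfl
theorem F1120 : act 0 n286 = n222 := d5_1 D286 (iv D222) (iv F840)
theorem F1121 : act 3 n286 = n212 := d20_1 D286 (iv D212) (iv F842)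
theorem F1122 : act 4 n286 = n286 := d23_1 D286 (iv D286) F843
theorem F1123 : act 5 n286 = n286 := d25_1 D286 (iv D286) F844
theorem F1124 : act 7 n286 = n286 := d27_2 D211 D286 (iv D286) (iv D211) F632
def n287 : Q := act 6 n213
theorem D287 : act 6 n213 = n287 := rfl
theorem F1125 : act 0 n287 = n214 := d5_1 D287 (iv D214) (iv F850)
theorem F1126 : act 1 n287 = n223 := d11_1 D287 (iv D223) (iv F851)
theorem F1127 : act 3 n287 = n287 := d20_1 D287 (iv D287) F852
theorem F1128 : act 5 n287 = n215 := d25_1 D287 (iv D215) (iv F853)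
theorem F1129 : act 7 n287 = n287 := d27_2 D213 D287 (iv D287) (iv D213) F640
def n288 : Q := act 2 n214
theorem D288 : act 2 n214 = n288 := rfl
theorem F1130 : act 1 n288 = n288 := d7_1 D288 (iv D288) F854 F645 (iv F854)
theorem F1131 : act 5 n288 = n216 := d15_2 (iv F856) D288 (iv D216)
theorem F1132 : act 7 n288 = n288 := d17_2 F857 D288 (iv D288)
def n289 : Q := act 2 n215
theorem D289 : act 2 n215 = n289 := rfl
theorem F1133 : act 0 n289 = n216 := d1_1 D289 (iv D216) (iv F858)
theorem F1134 : act 4 n289 = n289 := d14_2 F861 D289 (iv D289)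
theorem F1135 : act 7 n289 = n289 := d17_2 F862 D289 (iv D289)
def n290 : Q := act 3 n216
theorem D290 : act 3 n216 = n290 := rfl
theorem F1136 : act 1 n290 = n290 := d8_1 D290 (iv D290) F863
theorem F1137 : act 2 n290 = n290 := d13_1 D290 (iv D290) (iv D216) F654 D216
theorem F1138 : act 7 n290 = n290 := d21_2 F865 D290 (iv D290)
def n291 : Q := act 2 n217
theorem D291 : act 2 n217 = n291 := rfl
theorem F1139 : act 0 n291 = n219 := d1_1 D291 (iv D219) (iv F866)
theorem F1140 : act 3 n291 = n291 := d13_2 D217 D291 (iv D291) (iv D217) F657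
theorem F1141 : act 4 n291 = n291 := d14_2 F867 D291 (iv D291)
theorem F1142 : act 5 n291 = n291 := d15_2 F868 D291 (iv D291)
def n292 : Q := act 7 n217
theorem D292 : act 7 n217 = n292 := rfl
theorem F1143 : act 0 n292 = n220 := d6_1 D292 (iv D220) (iv F866)
theorem F1144 : act 3 n292 = n218 := d21_1 D292 (iv D218) D217
theorem F1145 : act 4 n292 = n292 := d24_1 D292 (iv D292) F867
theorem F1146 : act 5 n292 = n292 := d26_1 D292 (iv D292) F868
def n293 : Q := act 6 n218
theorem D293 : act 6 n218 = n293 := rfl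
theorem F1147 : act 0 n293 = n221 := d5_1 D293 (iv D221) (iv F870)
theorem F1148 : act 4 n293 = n223 := d23_1 D293 (iv D223) (iv F872)
theorem F1149 : act 5 n293 = n293 := d25_1 D293 (iv D293) F873
theorem F1150 : act 7 n293 = n293 := d27_2 D218 D293 (iv D293) (iv D218) F660
def n294 : Q := act 6 n219
theorem D294 : act 6 n219 = n294 := rfl
theorem F1151 : act 1 n294 = n294 := d11_1 D294 (iv D294) F874
theorem F1152 : act 2 n294 = n294 := d16_1 D294 (iv D294) (iv D219) F664 D219
theorem F1153 : act 3 n294 = n294 := d20_1 D294 (iv D294) F875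
theorem F1154 : act 4 n294 = n294 := d23_1 D294 (iv D294) F876
theorem F1155 : act 5 n294 = n294 := d25_1 D294 (iv D294) F877
def n295 : Q := act 7 n219
theorem D295 : act 7 n219 = n295 := rfl
theorem F1156 : act 1 n295 = n295 := d12_1 D295 (iv D295) F874
theorem F1157 : act 2 n295 = n220 := d17_1 D295 (iv D220) D219
theorem F1158 : act 3 n295 = n295 := d21_1 D295 (iv D295) F875
theorem F1159 : act 4 n295 = n295 := d24_1 D295 (iv D295) F876
theorem F1160 : act 5 n295 = n295 := d26_1 D295 (iv D295) F877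
def n296 : Q := act 6 n220
theorem D296 : act 6 n220 = n296 := rfl
theorem F1161 : act 1 n296 = n222 := d11_1 D296 (iv D222) (iv F878)
theorem F1162 : act 3 n296 = n221 := d20_1 D296 (iv D221) (iv F879)
theorem F1163 : act 4 n296 = n296 := d23_1 D296 (iv D296) F880
theorem F1164 : act 5 n296 = n296 := d25_1 D296 (iv D296) F881
theorem F1165 : act 7 n296 = n296 := d27_2 D220 D296 (iv D296) (iv D220) F664
def n297 : Q := act 2 n221
theorem D297 : act 2 n221 = n297 := rfl
theorem F1166 : act 1 n297 = n297 := d7_1 D297 (iv D297) F882 F673 (iv F882)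
theorem F1167 : act 4 n297 = n224 := d14_2 (iv F883) D297 (iv D224)
theorem F1168 : act 5 n297 = n297 := d15_2 F884 D297 (iv D297)
theorem F1169 : act 6 n297 = n297 := d16_2 D221 D297 (iv D297) (iv D221) F666
theorem F1170 : act 7 n297 = n297 := d17_2 F885 D297 (iv D297)
def n298 : Q := act 2 n222
theorem D298 : act 2 n222 = n298 := rfl
theorem F1171 : act 3 n298 = n298 := d13_2 (iv F886) D298 (iv D298) F886 F673
theorem F1172 : act 4 n298 = n298 := d14_2 F887 D298 (iv D298)
theorem F1173 : act 5 n298 = n298 := d15_2 F888 D298 (iv D298)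
theorem F1174 : act 6 n298 = n298 := d16_2 D222 D298 (iv D298) (iv D222) F669
theorem F1175 : act 7 n298 = n298 := d17_2 F889 D298 (iv D298)
def n299 : Q := act 2 n223
theorem D299 : act 2 n223 = n299 := rfl
theorem F1176 : act 0 n299 = n224 := d1_1 D299 (iv D224) (iv F890)
theorem F1177 : act 5 n299 = n225 := d15_2 (iv F892) D299 (iv D225)
theorem F1178 : act 6 n299 = n299 := d16_2 D223 D299 (iv D299) (iv D223) F678
theorem F1179 : act 7 n299 = n299 := d17_2 F893 D299 (iv D299)
def n300 : Q := act 3 n224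
theorem D300 : act 3 n224 = n300 := rfl
theorem F1180 : act 1 n300 = n300 := d8_1 D300 (iv D300) F894
theorem F1181 : act 2 n300 = n300 := d13_1 D300 (iv D300) (iv D224) F682 D224
theorem F1182 : act 5 n300 = n226 := d19_2 (iv F895) D300 (iv D226)
theorem F1183 : act 6 n300 = n300 := d20_2 F896 D300 (iv D300)
theorem F1184 : act 7 n300 = n300 := d21_2 F897 D300 (iv D300)
def n301 : Q := act 1 n225
theorem D301 : act 1 n225 = n301 := rfl
def n302 : Q := act 3 n225
theorem D302 : act 3 n225 = n302 := rfl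
theorem F1189 : act 0 n302 = n226 := d2_1 D302 (iv D226) (iv F898)
def n303 : Q := act 4 n226
theorem D303 : act 4 n226 = n303 := rfl
def n304 : Q := act 1 n227
theorem D304 : act 1 n227 = n304 := rfl
theorem F1198 : act 2 n304 = n304 := d7_2 D227 D304 (iv D304) (iv D227) F694
theorem F1199 : act 4 n304 = n304 := d9_2 F907 D304 (iv D304)
theorem F1200 : act 5 n304 = n304 := d10_2 F908 D304 (iv D304)
theorem F1201 : act 6 n304 = n304 := d11_2 F909 D304 (iv D304)
def n305 : Q := act 3 n227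
theorem D305 : act 3 n227 = n305 := rfl
theorem F1202 : act 0 n305 = n305 := d2_1 D305 (iv D305) F906
theorem F1203 : act 2 n305 = n230 := d13_1 D305 (iv D230) (iv D171) (iv F695) D227
theorem F1204 : act 5 n305 = n305 := d19_2 F908 D305 (iv D305)
theorem F1205 : act 6 n305 = n305 := d20_2 F909 D305 (iv D305)
def n306 : Q := act 7 n227
theorem D306 : act 7 n227 = n306 := rfl
theorem F1206 : act 0 n306 = n306 := d6_1 D306 (iv D306) F906
theorem F1207 : act 2 n306 = n228 := d17_1 D306 (iv D228) D227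
theorem F1208 : act 4 n306 = n306 := d24_1 D306 (iv D306) F907
theorem F1209 : act 5 n306 = n306 := d26_1 D306 (iv D306) F908
def n307 : Q := act 0 n229
theorem D307 : act 0 n229 = n307 := rfl
theorem F1210 : act 1 n307 = n307 := d0_2 D229 D307 (iv D307) (iv D229) F698
theorem F1211 : act 2 n307 = n307 := d1_2 F916 D307 (iv D307)
theorem F1212 : act 4 n307 = n232 := d3_2 (iv F917) D307 (iv D232)
theorem F1213 : act 5 n307 = n307 := d4_2 F918 D307 (iv D307)
theorem F1214 : act 6 n307 = n247 := d5_2 (iv F919) D307 (iv D247)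
def n308 : Q := act 3 n229
theorem D308 : act 3 n229 = n308 := rfl
theorem F1215 : act 1 n308 = n230 := d8_1 D308 (iv D230) D229
theorem F1216 : act 5 n308 = n308 := d19_2 F918 D308 (iv D308)
theorem F1217 : act 6 n308 = n248 := d20_2 (iv F919) D308 (iv D248)
def n309 : Q := act 7 n229
theorem D309 : act 7 n229 = n309 := rfl
theorem F1218 : act 1 n309 = n231 := d12_1 D309 (iv D231) D229
theorem F1219 : act 2 n309 = n309 := d17_1 D309 (iv D309) F916
theorem F1220 : act 4 n309 = n234 := d24_1 D309 (iv D234) (iv F917)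
theorem F1221 : act 5 n309 = n309 := d26_1 D309 (iv D309) F918
def n310 : Q := act 4 n230
theorem D310 : act 4 n230 = n310 := rfl
theorem F1222 : act 0 n310 = n310 := d3_1 D310 (iv D310) F920
theorem F1223 : act 3 n310 = n235 := d18_1 D310 (iv D235) (iv D174) (iv F699) D230
theorem F1224 : act 6 n310 = n250 := d23_2 (iv F922) D310 (iv D250)
def n311 : Q := act 7 n230
theorem D311 : act 7 n230 = n311 := rfl
theorem F1225 : act 0 n311 = n311 := d6_1 D311 (iv D311) F920
theorem F1226 : act 3 n311 = n231 := d21_1 D311 (iv D231) D230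
theorem F1227 : act 5 n311 = n311 := d26_1 D311 (iv D311) F921
def n312 : Q := act 6 n231
theorem D312 : act 6 n231 = n312 := rfl
theorem F1228 : act 0 n312 = n312 := d5_1 D312 (iv D312) F923
theorem F1229 : act 2 n312 = n312 := d16_1 D312 (iv D312) F924 F706 (iv F924)
theorem F1230 : act 4 n312 = n237 := d23_1 D312 (iv D237) (iv F925)
theorem F1231 : act 5 n312 = n312 := d25_1 D312 (iv D312) F926
theorem F1232 : act 7 n312 = n252 := d27_2 D231 D312 (iv D252) (iv D184) (iv F701)
def n313 : Q := act 3 n232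
theorem D313 : act 3 n232 = n313 := rfl
theorem F1233 : act 0 n313 = n233 := d2_1 D313 (iv D233) D232
theorem F1234 : act 1 n313 = n313 := d8_1 D313 (iv D313) F927
theorem F1235 : act 5 n313 = n238 := d19_2 (iv F929) D313 (iv D238)
theorem F1236 : act 6 n313 = n253 := d20_2 (iv F930) D313 (iv D253)
def n314 : Q := act 7 n232
theorem D314 : act 7 n232 = n314 := rfl
theorem F1237 : act 0 n314 = n234 := d6_1 D314 (iv D234) D232
theorem F1238 : act 1 n314 = n314 := d12_1 D314 (iv D314) F927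
theorem F1239 : act 2 n314 = n314 := d17_1 D314 (iv D314) F928
theorem F1240 : act 5 n314 = n239 := d26_1 D314 (iv D239) (iv F929)
def n315 : Q := act 2 n233
theorem D315 : act 2 n233 = n315 := rfl
theorem F1241 : act 1 n315 = n315 := d7_1 D315 (iv D315) F931 F711 (iv F931)
theorem F1242 : act 3 n315 = n315 := d13_2 D233 D315 (iv D315) (iv D233) F707
theorem F1243 : act 5 n315 = n240 := d15_2 (iv F932) D315 (iv D240)
theorem F1244 : act 6 n315 = n315 := d16_2 (iv F933) D315 (iv D315) F933 F751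
def n316 : Q := act 4 n233
theorem D316 : act 4 n233 = n316 := rfl
theorem F1245 : act 1 n316 = n235 := d9_1 D316 (iv D235) (iv F931)
theorem F1246 : act 6 n316 = n255 := d23_2 (iv F933) D316 (iv D255)
def n317 : Q := act 7 n233
theorem D317 : act 7 n233 = n317 := rfl
theorem F1247 : act 1 n317 = n236 := d12_1 D317 (iv D236) (iv F931)
theorem F1248 : act 3 n317 = n234 := d21_1 D317 (iv D234) D233
theorem F1249 : act 5 n317 = n242 := d26_1 D317 (iv D242) (iv F932)
def n318 : Q := act 6 n234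
theorem D318 : act 6 n234 = n318 := rfl
theorem F1250 : act 1 n318 = n237 := d11_1 D318 (iv D237) (iv F934)
theorem F1251 : act 5 n318 = n243 := d25_1 D318 (iv D243) (iv F936)
theorem F1252 : act 7 n318 = n257 := d27_2 D234 D318 (iv D257) (iv D187) (iv F709)
def n319 : Q := act 5 n235
theorem D319 : act 5 n235 = n319 := rfl
theorem F1253 : act 0 n319 = n319 := d4_1 D319 (iv D319) F937
theorem F1254 : act 2 n319 = n319 := d15_1 D319 (iv D319) F938
theorem F1255 : act 4 n319 = n244 := d22_1 D319 (iv D244) (iv D179) (iv F712) D235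
theorem F1256 : act 6 n319 = n258 := d25_2 (iv F939) D319 (iv D258)
def n320 : Q := act 7 n235
theorem D320 : act 7 n235 = n320 := rfl
theorem F1257 : act 0 n320 = n320 := d6_1 D320 (iv D320) F937
theorem F1258 : act 2 n320 = n320 := d17_1 D320 (iv D320) F938
theorem F1259 : act 4 n320 = n236 := d24_1 D320 (iv D236) D235
def n321 : Q := act 6 n236
theorem D321 : act 6 n236 = n321 := rfl
theorem F1260 : act 0 n321 = n321 := d5_1 D321 (iv D321) F940
theorem F1261 : act 3 n321 = n237 := d20_1 D321 (iv D237) (iv F942)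
theorem F1262 : act 5 n321 = n246 := d25_1 D321 (iv D246) (iv F943)
theorem F1263 : act 7 n321 = n260 := d27_2 D236 D321 (iv D260) (iv D189) (iv F713)
def n322 : Q := act 2 n238
theorem D322 : act 2 n238 = n322 := rfl
theorem F1264 : act 0 n322 = n240 := d1_1 D322 (iv D240) (iv F948)
theorem F1265 : act 3 n322 = n322 := d13_2 D238 D322 (iv D322) (iv D238) F718
theorem F1266 : act 6 n322 = n322 := d16_2 (iv F950) D322 (iv D322) F950 F767
def n323 : Q := act 4 n238
theorem D323 : act 4 n238 = n323 := rfl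
theorem F1267 : act 0 n323 = n241 := d3_1 D323 (iv D241) (iv F948)
theorem F1268 : act 1 n323 = n323 := d9_1 D323 (iv D323) F949
theorem F1269 : act 3 n323 = n323 := d18_1 D323 (iv D323) (iv D238) F719 D238
theorem F1270 : act 6 n323 = n261 := d23_2 (iv F950) D323 (iv D261)
def n324 : Q := act 7 n238
theorem D324 : act 7 n238 = n324 := rfl
theorem F1271 : act 0 n324 = n242 := d6_1 D324 (iv D242) (iv F948)
theorem F1272 : act 1 n324 = n324 := d12_1 D324 (iv D324) F949
theorem F1273 : act 3 n324 = n239 := d21_1 D324 (iv D239) D238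
def n325 : Q := act 6 n239
theorem D325 : act 6 n239 = n325 := rfl
theorem F1274 : act 0 n325 = n243 := d5_1 D325 (iv D243) (iv F951)
theorem F1275 : act 1 n325 = n325 := d11_1 D325 (iv D325) F952
theorem F1276 : act 4 n325 = n325 := d23_1 D325 (iv D325) F954
theorem F1277 : act 7 n325 = n263 := d27_2 D239 D325 (iv D263) (iv D192) (iv F720)
def n326 : Q := act 4 n240
theorem D326 : act 4 n240 = n326 := rfl
theorem F1278 : act 1 n326 = n326 := d9_1 D326 (iv D326) F955
theorem F1279 : act 2 n326 = n241 := d14_1 D326 (iv D241) D240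
theorem F1280 : act 6 n326 = n326 := d23_2 F957 D326 (iv D326)
def n327 : Q := act 7 n240
theorem D327 : act 7 n240 = n327 := rfl
theorem F1281 : act 1 n327 = n327 := d12_1 D327 (iv D327) F955
theorem F1282 : act 2 n327 = n242 := d17_1 D327 (iv D242) D240
theorem F1283 : act 3 n327 = n327 := d21_1 D327 (iv D327) F956
def n328 : Q := act 5 n241
theorem D328 : act 5 n241 = n328 := rfl
theorem F1284 : act 1 n328 = n244 := d10_1 D328 (iv D244) (iv F958)
theorem F1285 : act 3 n328 = n328 := d19_1 D328 (iv D328) F959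
theorem F1286 : act 6 n328 = n264 := d25_2 (iv F960) D328 (iv D264)
def n329 : Q := act 7 n241
theorem D329 : act 7 n241 = n329 := rfl
theorem F1287 : act 1 n329 = n245 := d12_1 D329 (iv D245) (iv F958)
theorem F1288 : act 3 n329 = n329 := d21_1 D329 (iv D329) F959
theorem F1289 : act 4 n329 = n242 := d24_1 D329 (iv D242) D241
def n330 : Q := act 6 n242
theorem D330 : act 6 n242 = n330 := rfl
theorem F1290 : act 1 n330 = n246 := d11_1 D330 (iv D246) (iv F961)
theorem F1291 : act 3 n330 = n243 := d20_1 D330 (iv D243) (iv F962)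
theorem F1292 : act 7 n330 = n266 := d27_2 D242 D330 (iv D266) (iv D194) (iv F722)
def n331 : Q := act 2 n243
theorem D331 : act 2 n243 = n331 := rfl
theorem F1293 : act 1 n331 = n331 := d7_1 D331 (iv D331) F963 F734 (iv F963)
theorem F1294 : act 4 n331 = n331 := d14_2 F964 D331 (iv D331)
theorem F1295 : act 6 n331 = n331 := d16_2 D243 D331 (iv D331) (iv D243) F724
theorem F1296 : act 7 n331 = n267 := d17_2 (iv F965) D331 (iv D267)
def n332 : Q := act 7 n244
theorem D332 : act 7 n244 = n332 := rfl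
theorem F1297 : act 0 n332 = n332 := d6_1 D332 (iv D332) F966
theorem F1298 : act 2 n332 = n332 := d17_1 D332 (iv D332) F967
theorem F1299 : act 3 n332 = n332 := d21_1 D332 (iv D332) F968
theorem F1300 : act 5 n332 = n245 := d26_1 D332 (iv D245) D244
def n333 : Q := act 6 n245
theorem D333 : act 6 n245 = n333 := rfl
theorem F1301 : act 0 n333 = n333 := d5_1 D333 (iv D333) F970
theorem F1302 : act 3 n333 = n333 := d20_1 D333 (iv D333) F972
theorem F1303 : act 4 n333 = n246 := d23_1 D333 (iv D246) (iv F973)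
theorem F1304 : act 7 n333 = n269 := d27_2 D245 D333 (iv D269) (iv D197) (iv F729)
def n334 : Q := act 2 n246
theorem D334 : act 2 n246 = n334 := rfl
theorem F1305 : act 0 n334 = n334 := d1_1 D334 (iv D334) F974
theorem F1306 : act 3 n334 = n334 := d13_2 (iv F975) D334 (iv D334) F975 F734
theorem F1307 : act 6 n334 = n334 := d16_2 D246 D334 (iv D334) (iv D246) F731
theorem F1308 : act 7 n334 = n270 := d17_2 (iv F976) D334 (iv D270)
def n335 : Q := act 3 n247
theorem D335 : act 3 n247 = n335 := rfl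
theorem F1309 : act 0 n335 = n248 := d2_1 D335 (iv D248) D247
theorem F1310 : act 1 n335 = n335 := d8_1 D335 (iv D335) F977
theorem F1311 : act 5 n335 = n335 := d19_2 F980 D335 (iv D335)
def n336 : Q := act 7 n247
theorem D336 : act 7 n247 = n336 := rfl
theorem F1312 : act 0 n336 = n249 := d6_1 D336 (iv D249) D247
theorem F1313 : act 1 n336 = n336 := d12_1 D336 (iv D336) F977
theorem F1314 : act 2 n336 = n282 := d17_1 D336 (iv D282) (iv F978)
theorem F1315 : act 4 n336 = n254 := d24_1 D336 (iv D254) (iv F979)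
theorem F1316 : act 5 n336 = n336 := d26_1 D336 (iv D336) F980
def n337 : Q := act 2 n248
theorem D337 : act 2 n248 = n337 := rfl
theorem F1317 : act 1 n337 = n337 := d7_1 D337 (iv D337) F981 F741 (iv F981)
theorem F1318 : act 3 n337 = n283 := d13_2 D248 D337 (iv D283) (iv D209) (iv F737)
theorem F1319 : act 5 n337 = n337 := d15_2 F982 D337 (iv D337)
def n338 : Q := act 4 n248
theorem D338 : act 4 n248 = n338 := rfl
theorem F1320 : act 1 n338 = n250 := d9_1 D338 (iv D250) (iv F981)
theorem F1321 : act 3 n338 = n255 := d18_1 D338 (iv D255) (iv D186) (iv F738) D248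
def n339 : Q := act 7 n248
theorem D339 : act 7 n248 = n339 := rfl
theorem F1322 : act 1 n339 = n251 := d12_1 D339 (iv D251) (iv F981)
theorem F1323 : act 3 n339 = n249 := d21_1 D339 (iv D249) D248
theorem F1324 : act 5 n339 = n339 := d26_1 D339 (iv D339) F982
def n340 : Q := act 6 n249
theorem D340 : act 6 n249 = n340 := rfl
theorem F1325 : act 1 n340 = n252 := d11_1 D340 (iv D252) (iv F983)
theorem F1326 : act 4 n340 = n257 := d23_1 D340 (iv D257) (iv F985)
theorem F1327 : act 5 n340 = n340 := d25_1 D340 (iv D340) F986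
def n341 : Q := act 5 n250
theorem D341 : act 5 n250 = n341 := rfl
theorem F1328 : act 0 n341 = n341 := d4_1 D341 (iv D341) F987
theorem F1329 : act 2 n341 = n341 := d15_1 D341 (iv D341) F988
theorem F1330 : act 3 n341 = n258 := d19_1 D341 (iv D258) (iv F989)
theorem F1331 : act 4 n341 = n341 := d22_1 D341 (iv D341) (iv D250) F742 D250
def n342 : Q := act 7 n250
theorem D342 : act 7 n250 = n342 := rfl
theorem F1332 : act 0 n342 = n342 := d6_1 D342 (iv D342) F987
theorem F1333 : act 2 n342 = n342 := d17_1 D342 (iv D342) F988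
theorem F1334 : act 3 n342 = n259 := d21_1 D342 (iv D259) (iv F989)
theorem F1335 : act 4 n342 = n251 := d24_1 D342 (iv D251) D250
def n343 : Q := act 6 n251
theorem D343 : act 6 n251 = n343 := rfl
theorem F1336 : act 0 n343 = n343 := d5_1 D343 (iv D343) F990
theorem F1337 : act 3 n343 = n252 := d20_1 D343 (iv D252) (iv F992)
theorem F1338 : act 5 n343 = n343 := d25_1 D343 (iv D343) F993
def n344 : Q := act 4 n253
theorem D344 : act 4 n253 = n344 := rfl
theorem F1339 : act 0 n344 = n255 := d3_1 D344 (iv D255) (iv F998)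
theorem F1340 : act 1 n344 = n344 := d9_1 D344 (iv D344) F999
theorem F1341 : act 2 n344 = n344 := d14_1 D344 (iv D344) F1000
def n345 : Q := act 7 n253
theorem D345 : act 7 n253 = n345 := rfl
theorem F1342 : act 0 n345 = n256 := d6_1 D345 (iv D256) (iv F998)
theorem F1343 : act 1 n345 = n345 := d12_1 D345 (iv D345) F999
theorem F1344 : act 2 n345 = n345 := d17_1 D345 (iv D345) F1000
theorem F1345 : act 3 n345 = n254 := d21_1 D345 (iv D254) D253
theorem F1346 : act 5 n345 = n262 := d26_1 D345 (iv D262) (iv F1001)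
def n346 : Q := act 6 n254
theorem D346 : act 6 n254 = n346 := rfl
theorem F1347 : act 0 n346 = n257 := d5_1 D346 (iv D257) (iv F1002)
theorem F1348 : act 1 n346 = n346 := d11_1 D346 (iv D346) F1003
theorem F1349 : act 5 n346 = n263 := d25_1 D346 (iv D263) (iv F1005)
def n347 : Q := act 5 n255
theorem D347 : act 5 n255 = n347 := rfl
theorem F1350 : act 1 n347 = n258 := d10_1 D347 (iv D258) (iv F1006)
theorem F1351 : act 2 n347 = n347 := d15_1 D347 (iv D347) F1007
theorem F1352 : act 4 n347 = n264 := d22_1 D347 (iv D264) (iv D193) (iv F752) D255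
def n348 : Q := act 7 n255
theorem D348 : act 7 n255 = n348 := rfl
theorem F1353 : act 1 n348 = n259 := d12_1 D348 (iv D259) (iv F1006)
theorem F1354 : act 2 n348 = n348 := d17_1 D348 (iv D348) F1007
theorem F1355 : act 4 n348 = n256 := d24_1 D348 (iv D256) D255
def n349 : Q := act 6 n256
theorem D349 : act 6 n256 = n349 := rfl
theorem F1356 : act 1 n349 = n260 := d11_1 D349 (iv D260) (iv F1008)
theorem F1357 : act 3 n349 = n257 := d20_1 D349 (iv D257) (iv F1010)
theorem F1358 : act 5 n349 = n266 := d25_1 D349 (iv D266) (iv F1011)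
def n350 : Q := act 2 n257
theorem D350 : act 2 n257 = n350 := rfl
theorem F1359 : act 1 n350 = n350 := d7_1 D350 (iv D350) F1012 F763 (iv F1012)
theorem F1360 : act 5 n350 = n267 := d15_2 (iv F1013) D350 (iv D267)
theorem F1361 : act 6 n350 = n288 := d16_2 D257 D350 (iv D288) (iv D214) (iv F754)
def n351 : Q := act 7 n258
theorem D351 : act 7 n258 = n351 := rfl
theorem F1362 : act 0 n351 = n351 := d6_1 D351 (iv D351) F1014
theorem F1363 : act 2 n351 = n271 := d17_1 D351 (iv D271) (iv F1015)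
theorem F1364 : act 4 n351 = n268 := d24_1 D351 (iv D268) (iv F1016)
theorem F1365 : act 5 n351 = n259 := d26_1 D351 (iv D259) D258
def n352 : Q := act 6 n259
theorem D352 : act 6 n259 = n352 := rfl
theorem F1366 : act 0 n352 = n352 := d5_1 D352 (iv D352) F1017
theorem F1367 : act 4 n352 = n260 := d23_1 D352 (iv D260) (iv F1019)
def n353 : Q := act 2 n260
theorem D353 : act 2 n260 = n353 := rfl
theorem F1368 : act 0 n353 = n353 := d1_1 D353 (iv D353) F1020
theorem F1369 : act 3 n353 = n353 := d13_2 (iv F1021) D353 (iv D353) F1021 F763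
theorem F1370 : act 5 n353 = n270 := d15_2 (iv F1022) D353 (iv D270)
theorem F1371 : act 6 n353 = n273 := d16_2 D260 D353 (iv D273) (iv D201) (iv F759)
def n354 : Q := act 5 n261
theorem D354 : act 5 n261 = n354 := rfl
theorem F1372 : act 0 n354 = n264 := d4_1 D354 (iv D264) (iv F1023)
theorem F1373 : act 1 n354 = n354 := d10_1 D354 (iv D354) F1024
theorem F1374 : act 2 n354 = n354 := d15_1 D354 (iv D354) F1025
theorem F1375 : act 3 n354 = n354 := d19_1 D354 (iv D354) F1026
def n355 : Q := act 7 n261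
theorem D355 : act 7 n261 = n355 := rfl
theorem F1376 : act 0 n355 = n265 := d6_1 D355 (iv D265) (iv F1023)
theorem F1377 : act 1 n355 = n355 := d12_1 D355 (iv D355) F1024
theorem F1378 : act 2 n355 = n355 := d17_1 D355 (iv D355) F1025
theorem F1379 : act 3 n355 = n355 := d21_1 D355 (iv D355) F1026
theorem F1380 : act 4 n355 = n262 := d24_1 D355 (iv D262) D261
def n356 : Q := act 6 n262
theorem D356 : act 6 n262 = n356 := rfl
theorem F1381 : act 0 n356 = n266 := d5_1 D356 (iv D266) (iv F1027)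
theorem F1382 : act 1 n356 = n356 := d11_1 D356 (iv D356) F1028
theorem F1383 : act 3 n356 = n263 := d20_1 D356 (iv D263) (iv F1030)
def n357 : Q := act 2 n263
theorem D357 : act 2 n263 = n357 := rfl
theorem F1384 : act 0 n357 = n267 := d1_1 D357 (iv D267) (iv F1031)
theorem F1385 : act 4 n357 = n357 := d14_2 F1033 D357 (iv D357)
theorem F1386 : act 6 n357 = n289 := d16_2 D263 D357 (iv D289) (iv D215) (iv F770)
def n358 : Q := act 7 n264
theorem D358 : act 7 n264 = n358 := rfl
theorem F1387 : act 1 n358 = n268 := d12_1 D358 (iv D268) (iv F1034)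
theorem F1388 : act 2 n358 = n358 := d17_1 D358 (iv D358) F1035
theorem F1389 : act 3 n358 = n358 := d21_1 D358 (iv D358) F1036
theorem F1390 : act 5 n358 = n265 := d26_1 D358 (iv D265) D264
def n359 : Q := act 6 n265
theorem D359 : act 6 n265 = n359 := rfl
theorem F1391 : act 1 n359 = n269 := d11_1 D359 (iv D269) (iv F1037)
theorem F1392 : act 3 n359 = n359 := d20_1 D359 (iv D359) F1039
theorem F1393 : act 4 n359 = n266 := d23_1 D359 (iv D266) (iv F1040)
def n360 : Q := act 2 n266
theorem D360 : act 2 n266 = n360 := rfl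
theorem F1394 : act 6 n360 = n360 := d16_2 D266 D360 (iv D360) (iv D266) F776
def n361 : Q := act 3 n267
theorem D361 : act 3 n267 = n361 := rfl
theorem F1395 : act 1 n361 = n361 := d8_1 D361 (iv D361) F1043
theorem F1396 : act 6 n361 = n290 := d20_2 (iv F1045) D361 (iv D290)
def n362 : Q := act 6 n268
theorem D362 : act 6 n268 = n362 := rfl
theorem F1397 : act 0 n362 = n362 := d5_1 D362 (iv D362) F1046
theorem F1398 : act 3 n362 = n362 := d20_1 D362 (iv D362) F1048
theorem F1399 : act 5 n362 = n269 := d25_1 D362 (iv D269) (iv F1049)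
def n363 : Q := act 2 n269
theorem D363 : act 2 n269 = n363 := rfl
theorem F1400 : act 0 n363 = n363 := d1_1 D363 (iv D363) F1050
theorem F1401 : act 4 n363 = n270 := d14_2 (iv F1052) D363 (iv D270)
theorem F1402 : act 6 n363 = n275 := d16_2 D269 D363 (iv D275) (iv D203) (iv F784)
def n364 : Q := act 1 n270
theorem D364 : act 1 n270 = n364 := rfl
theorem F1403 : act 3 n364 = n364 := d8_2 F1054 D364 (iv D364)
theorem F1404 : act 6 n364 = n276 := d11_2 (iv F1055) D364 (iv D276)
def n365 : Q := act 6 n271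
theorem D365 : act 6 n271 = n365 := rfl
theorem F1405 : act 0 n365 = n365 := d5_1 D365 (iv D365) F1056
theorem F1406 : act 1 n365 = n365 := d11_1 D365 (iv D365) F1057
theorem F1407 : act 3 n365 = n365 := d20_1 D365 (iv D365) F1058
theorem F1408 : act 4 n365 = n274 := d23_1 D365 (iv D274) (iv F1059)
theorem F1409 : act 5 n365 = n272 := d25_1 D365 (iv D272) (iv F1060)
theorem F1410 : act 7 n365 = n365 := d27_2 D271 D365 (iv D365) (iv D271) F793
def n366 : Q := act 2 n272
theorem D366 : act 2 n272 = n366 := rfl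
theorem F1411 : act 0 n366 = n366 := d1_1 D366 (iv D366) F1061
theorem F1412 : act 4 n366 = n273 := d14_2 (iv F1064) D366 (iv D273)
theorem F1413 : act 7 n366 = n366 := d17_2 F1065 D366 (iv D366)
def n367 : Q := act 1 n273
theorem D367 : act 1 n273 = n367 := rfl
theorem F1414 : act 2 n367 = n367 := d7_2 D273 D367 (iv D367) (iv D273) F799
theorem F1415 : act 3 n367 = n367 := d8_2 F1067 D367 (iv D367)
theorem F1416 : act 5 n367 = n276 := d10_2 (iv F1068) D367 (iv D276)
theorem F1417 : act 7 n367 = n367 := d12_2 F1069 D367 (iv D367)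
def n368 : Q := act 2 n274
theorem D368 : act 2 n274 = n368 := rfl
theorem F1418 : act 0 n368 = n368 := d1_1 D368 (iv D368) F1070
theorem F1419 : act 5 n368 = n275 := d15_2 (iv F1073) D368 (iv D275)
theorem F1420 : act 7 n368 = n368 := d17_2 F1074 D368 (iv D368)
def n369 : Q := act 1 n275
theorem D369 : act 1 n275 = n369 := rfl
theorem F1421 : act 2 n369 = n369 := d7_2 D275 D369 (iv D369) (iv D275) F808
theorem F1422 : act 4 n369 = n276 := d9_2 (iv F1076) D369 (iv D276)
theorem F1423 : act 7 n369 = n369 := d12_2 F1077 D369 (iv D369)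
def n370 : Q := act 3 n275
theorem D370 : act 3 n275 = n370 := rfl
theorem F1424 : act 0 n370 = n370 := d2_1 D370 (iv D370) F1075
theorem F1425 : act 2 n370 = n279 := d13_1 D370 (iv D279) (iv D206) (iv F809) D275
theorem F1426 : act 4 n370 = n370 := d18_2 (iv F1076) D370 (iv D370) F1076 F813
theorem F1427 : act 7 n370 = n370 := d21_2 F1077 D370 (iv D370)
def n371 : Q := act 0 n276
theorem D371 : act 0 n276 = n371 := rfl
theorem F1428 : act 1 n371 = n371 := d0_2 D276 D371 (iv D371) (iv D276) F812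
theorem F1429 : act 2 n371 = n371 := d1_2 F1078 D371 (iv D371)
theorem F1430 : act 3 n371 = n371 := d2_2 F1079 D371 (iv D371)
theorem F1431 : act 7 n371 = n371 := d6_2 F1080 D371 (iv D371)
def n372 : Q := act 1 n277
theorem D372 : act 1 n277 = n372 := rfl
theorem F1432 : act 2 n372 = n372 := d7_2 D277 D372 (iv D372) (iv D277) F816
theorem F1433 : act 4 n372 = n372 := d9_2 F1082 D372 (iv D372)
theorem F1434 : act 5 n372 = n278 := d10_2 (iv F1083) D372 (iv D278)
theorem F1435 : act 6 n372 = n372 := d11_2 F1084 D372 (iv D372)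
theorem F1436 : act 7 n372 = n372 := d12_2 F1085 D372 (iv D372)
def n373 : Q := act 3 n277
theorem D373 : act 3 n277 = n373 := rfl
theorem F1437 : act 0 n373 = n373 := d2_1 D373 (iv D373) F1081
theorem F1438 : act 5 n373 = n279 := d19_2 (iv F1083) D373 (iv D279)
theorem F1439 : act 6 n373 = n373 := d20_2 F1084 D373 (iv D373)
theorem F1440 : act 7 n373 = n373 := d21_2 F1085 D373 (iv D373)
def n374 : Q := act 0 n278
theorem D374 : act 0 n278 = n374 := rfl
theorem F1441 : act 1 n374 = n374 := d0_2 D278 D374 (iv D374) (iv D278) F820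
theorem F1442 : act 2 n374 = n374 := d1_2 F1086 D374 (iv D374)
theorem F1443 : act 4 n374 = n280 := d3_2 (iv F1087) D374 (iv D280)
theorem F1444 : act 6 n374 = n374 := d5_2 F1088 D374 (iv D374)
theorem F1445 : act 7 n374 = n374 := d6_2 F1089 D374 (iv D374)
def n375 : Q := act 3 n278
theorem D375 : act 3 n278 = n375 := rfl
theorem F1446 : act 1 n375 = n279 := d8_1 D375 (iv D279) D278
theorem F1447 : act 4 n375 = n375 := d18_2 (iv F1087) D375 (iv D375) F1087 F825
theorem F1448 : act 6 n375 = n375 := d20_2 F1088 D375 (iv D375)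
def n376 : Q := act 2 n281
theorem D376 : act 2 n281 = n376 := rfl
theorem F1450 : act 0 n376 = n283 := d1_1 D376 (iv D283) (iv F1100)
theorem F1451 : act 4 n376 = n376 := d14_2 F1102 D376 (iv D376)
theorem F1452 : act 5 n376 = n376 := d15_2 F1103 D376 (iv D376)
def n377 : Q := act 7 n281
theorem D377 : act 7 n281 = n377 := rfl
theorem F1453 : act 0 n377 = n284 := d6_1 D377 (iv D284) (iv F1100)
theorem F1454 : act 1 n377 = n292 := d12_1 D377 (iv D292) (iv F1101)
theorem F1455 : act 3 n377 = n282 := d21_1 D377 (iv D282) D281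
theorem F1456 : act 4 n377 = n377 := d24_1 D377 (iv D377) F1102
theorem F1457 : act 5 n377 = n377 := d26_1 D377 (iv D377) F1103
def n378 : Q := act 6 n282
theorem D378 : act 6 n282 = n378 := rfl
theorem F1458 : act 0 n378 = n285 := d5_1 D378 (iv D285) (iv F1105)
theorem F1459 : act 1 n378 = n293 := d11_1 D378 (iv D293) (iv F1106)
theorem F1460 : act 4 n378 = n287 := d23_1 D378 (iv D287) (iv F1107)
theorem F1461 : act 5 n378 = n378 := d25_1 D378 (iv D378) F1108
theorem F1462 : act 7 n378 = n378 := d27_2 D282 D378 (iv D378) (iv D282) F832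
def n379 : Q := act 6 n283
theorem D379 : act 6 n283 = n379 := rfl
theorem F1463 : act 1 n379 = n379 := d11_1 D379 (iv D379) F1109
theorem F1464 : act 2 n379 = n379 := d16_1 D379 (iv D379) (iv D283) F836 D283
theorem F1465 : act 4 n379 = n379 := d23_1 D379 (iv D379) F1110
theorem F1466 : act 5 n379 = n379 := d25_1 D379 (iv D379) F1111
def n380 : Q := act 7 n283
theorem D380 : act 7 n283 = n380 := rfl
theorem F1467 : act 1 n380 = n380 := d12_1 D380 (iv D380) F1109
theorem F1468 : act 2 n380 = n284 := d17_1 D380 (iv D284) D283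
theorem F1469 : act 4 n380 = n380 := d24_1 D380 (iv D380) F1110
theorem F1470 : act 5 n380 = n380 := d26_1 D380 (iv D380) F1111
def n381 : Q := act 6 n284
theorem D381 : act 6 n284 = n381 := rfl
theorem F1471 : act 1 n381 = n286 := d11_1 D381 (iv D286) (iv F1112)
theorem F1472 : act 3 n381 = n285 := d20_1 D381 (iv D285) (iv F1113)
theorem F1473 : act 4 n381 = n381 := d23_1 D381 (iv D381) F1114
theorem F1474 : act 5 n381 = n381 := d25_1 D381 (iv D381) F1115
theorem F1475 : act 7 n381 = n381 := d27_2 D284 D381 (iv D381) (iv D284) F836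
def n382 : Q := act 2 n285
theorem D382 : act 2 n285 = n382 := rfl
theorem F1476 : act 1 n382 = n382 := d7_1 D382 (iv D382) F1116 F846 (iv F1116)
theorem F1477 : act 4 n382 = n288 := d14_2 (iv F1117) D382 (iv D288)
theorem F1478 : act 5 n382 = n382 := d15_2 F1118 D382 (iv D382)
theorem F1479 : act 7 n382 = n382 := d17_2 F1119 D382 (iv D382)
def n383 : Q := act 2 n286
theorem D383 : act 2 n286 = n383 := rfl
theorem F1480 : act 0 n383 = n298 := d1_1 D383 (iv D298) (iv F1120)
theorem F1481 : act 3 n383 = n383 := d13_2 (iv F1121) D383 (iv D383) F1121 F846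
theorem F1482 : act 4 n383 = n383 := d14_2 F1122 D383 (iv D383)
theorem F1483 : act 5 n383 = n383 := d15_2 F1123 D383 (iv D383)
theorem F1484 : act 6 n383 = n383 := d16_2 D286 D383 (iv D383) (iv D286) F841
theorem F1485 : act 7 n383 = n383 := d17_2 F1124 D383 (iv D383)
def n384 : Q := act 2 n287
theorem D384 : act 2 n287 = n384 := rfl
theorem F1486 : act 0 n384 = n288 := d1_1 D384 (iv D288) (iv F1125)
theorem F1487 : act 5 n384 = n289 := d15_2 (iv F1128) D384 (iv D289)
theorem F1488 : act 7 n384 = n384 := d17_2 F1129 D384 (iv D384)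
def n385 : Q := act 3 n288
theorem D385 : act 3 n288 = n385 := rfl
theorem F1489 : act 1 n385 = n385 := d8_1 D385 (iv D385) F1130
theorem F1490 : act 2 n385 = n385 := d13_1 D385 (iv D385) (iv D288) F855 D288
theorem F1491 : act 5 n385 = n290 := d19_2 (iv F1131) D385 (iv D290)
theorem F1492 : act 7 n385 = n385 := d21_2 F1132 D385 (iv D385)
def n386 : Q := act 1 n289
theorem D386 : act 1 n289 = n386 := rfl
theorem F1494 : act 2 n386 = n301 := d7_2 D289 D386 (iv D301) (iv D225) (iv F859)
def n387 : Q := act 3 n289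
theorem D387 : act 3 n289 = n387 := rfl
def n388 : Q := act 4 n290
theorem D388 : act 4 n290 = n388 := rfl
def n389 : Q := act 1 n291
theorem D389 : act 1 n291 = n389 := rfl
theorem F1504 : act 0 n389 = n389 := d0_1 D389 (iv D389) F1139 F874 (iv F1139)
theorem F1505 : act 3 n389 = n389 := d8_2 F1140 D389 (iv D389)
theorem F1506 : act 4 n389 = n389 := d9_2 F1141 D389 (iv D389)
theorem F1507 : act 5 n389 = n389 := d10_2 F1142 D389 (iv D389)
def n390 : Q := act 6 n291
theorem D390 : act 6 n291 = n390 := rfl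
theorem F1508 : act 0 n390 = n294 := d5_1 D390 (iv D294) (iv F1139)
theorem F1509 : act 2 n390 = n390 := d16_1 D390 (iv D390) (iv D291) F869 D291
theorem F1510 : act 3 n390 = n390 := d20_1 D390 (iv D390) F1140
theorem F1511 : act 4 n390 = n390 := d23_1 D390 (iv D390) F1141
theorem F1512 : act 5 n390 = n390 := d25_1 D390 (iv D390) F1142
def n391 : Q := act 7 n291
theorem D391 : act 7 n291 = n391 := rfl
theorem F1513 : act 0 n391 = n295 := d6_1 D391 (iv D295) (iv F1139)
theorem F1514 : act 2 n391 = n292 := d17_1 D391 (iv D292) D291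
theorem F1515 : act 3 n391 = n391 := d21_1 D391 (iv D391) F1140
theorem F1516 : act 4 n391 = n391 := d24_1 D391 (iv D391) F1141
theorem F1517 : act 5 n391 = n391 := d26_1 D391 (iv D391) F1142
def n392 : Q := act 6 n292
theorem D392 : act 6 n292 = n392 := rfl
theorem F1518 : act 0 n392 = n296 := d5_1 D392 (iv D296) (iv F1143)
theorem F1519 : act 3 n392 = n293 := d20_1 D392 (iv D293) (iv F1144)
theorem F1520 : act 4 n392 = n392 := d23_1 D392 (iv D392) F1145
theorem F1521 : act 5 n392 = n392 := d25_1 D392 (iv D392) F1146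
theorem F1522 : act 7 n392 = n392 := d27_2 D292 D392 (iv D392) (iv D292) F869
def n393 : Q := act 2 n293
theorem D393 : act 2 n293 = n393 := rfl
theorem F1523 : act 0 n393 = n297 := d1_1 D393 (iv D297) (iv F1147)
theorem F1524 : act 4 n393 = n299 := d14_2 (iv F1148) D393 (iv D299)
theorem F1525 : act 5 n393 = n393 := d15_2 F1149 D393 (iv D393)
theorem F1526 : act 6 n393 = n393 := d16_2 D293 D393 (iv D393) (iv D293) F871
theorem F1527 : act 7 n393 = n393 := d17_2 F1150 D393 (iv D393)
def n394 : Q := act 7 n294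
theorem D394 : act 7 n294 = n394 := rfl
def n395 : Q := act 6 n295
theorem D395 : act 6 n295 = n395 := rfl
def n396 : Q := act 2 n296
theorem D396 : act 2 n296 = n396 := rfl
def n397 : Q := act 3 n297
theorem D397 : act 3 n297 = n397 := rfl
def n398 : Q := act 1 n298
theorem D398 : act 1 n298 = n398 := rfl
def n400 : Q := act 3 n299
theorem D400 : act 3 n299 = n400 := rfl
theorem F1553 : act 0 n400 = n300 := d2_1 D400 (iv D300) (iv F1176)
theorem F1555 : act 5 n400 = n302 := d19_2 (iv F1177) D400 (iv D302)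
def n401 : Q := act 4 n300
theorem D401 : act 4 n300 = n401 := rfl
def n402 : Q := act 3 n301
theorem D402 : act 3 n301 = n402 := rfl
theorem F1563 : act 1 n402 = n302 := d8_1 D402 (iv D302) D301
def n403 : Q := act 4 n302
theorem D403 : act 4 n302 = n403 := rfl
theorem F1566 : act 0 n403 = n303 := d3_1 D403 (iv D303) (iv F1189)
def n405 : Q := act 0 n304
theorem D405 : act 0 n304 = n405 := rfl
theorem F1576 : act 1 n405 = n405 := d0_2 D304 D405 (iv D405) (iv D304) F906
theorem F1577 : act 2 n405 = n405 := d1_2 F1198 D405 (iv D405)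
theorem F1578 : act 4 n405 = n405 := d3_2 F1199 D405 (iv D405)
theorem F1579 : act 5 n405 = n405 := d4_2 F1200 D405 (iv D405)
theorem F1580 : act 6 n405 = n405 := d5_2 F1201 D405 (iv D405)
def n406 : Q := act 3 n304
theorem D406 : act 3 n304 = n406 := rfl
theorem F1581 : act 1 n406 = n305 := d8_1 D406 (iv D305) D304
theorem F1582 : act 5 n406 = n406 := d19_2 F1200 D406 (iv D406)
theorem F1583 : act 6 n406 = n406 := d20_2 F1201 D406 (iv D406)
def n407 : Q := act 7 n304
theorem D407 : act 7 n304 = n407 := rfl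
theorem F1584 : act 1 n407 = n306 := d12_1 D407 (iv D306) D304
theorem F1585 : act 2 n407 = n407 := d17_1 D407 (iv D407) F1198
theorem F1586 : act 4 n407 = n407 := d24_1 D407 (iv D407) F1199
theorem F1587 : act 5 n407 = n407 := d26_1 D407 (iv D407) F1200
def n408 : Q := act 4 n305
theorem D408 : act 4 n305 = n408 := rfl
theorem F1588 : act 0 n408 = n408 := d3_1 D408 (iv D408) F1202
theorem F1589 : act 2 n408 = n310 := d14_1 D408 (iv D310) (iv F1203)
theorem F1590 : act 3 n408 = n408 := d18_1 D408 (iv D408) (iv D305) F907 D305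
theorem F1591 : act 6 n408 = n408 := d23_2 F1205 D408 (iv D408)
def n409 : Q := act 7 n305
theorem D409 : act 7 n305 = n409 := rfl
theorem F1592 : act 0 n409 = n409 := d6_1 D409 (iv D409) F1202
theorem F1593 : act 2 n409 = n311 := d17_1 D409 (iv D311) (iv F1203)
theorem F1594 : act 3 n409 = n306 := d21_1 D409 (iv D306) D305
theorem F1595 : act 5 n409 = n409 := d26_1 D409 (iv D409) F1204
def n410 : Q := act 6 n306
theorem D410 : act 6 n306 = n410 := rfl
theorem F1596 : act 0 n410 = n410 := d5_1 D410 (iv D410) F1206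
theorem F1597 : act 2 n410 = n410 := d16_1 D410 (iv D410) F1207 F915 (iv F1207)
theorem F1598 : act 4 n410 = n410 := d23_1 D410 (iv D410) F1208
theorem F1599 : act 5 n410 = n410 := d25_1 D410 (iv D410) F1209
theorem F1600 : act 7 n410 = n410 := d27_2 D306 D410 (iv D410) (iv D306) F909
def n411 : Q := act 3 n307
theorem D411 : act 3 n307 = n411 := rfl
theorem F1601 : act 0 n411 = n308 := d2_1 D411 (iv D308) D307
theorem F1602 : act 1 n411 = n411 := d8_1 D411 (iv D411) F1210
theorem F1603 : act 5 n411 = n411 := d19_2 F1213 D411 (iv D411)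
theorem F1604 : act 6 n411 = n335 := d20_2 (iv F1214) D411 (iv D335)
def n412 : Q := act 7 n307
theorem D412 : act 7 n307 = n412 := rfl
theorem F1605 : act 0 n412 = n309 := d6_1 D412 (iv D309) D307
theorem F1606 : act 1 n412 = n412 := d12_1 D412 (iv D412) F1210
theorem F1607 : act 2 n412 = n412 := d17_1 D412 (iv D412) F1211
theorem F1608 : act 4 n412 = n314 := d24_1 D412 (iv D314) (iv F1212)
theorem F1609 : act 5 n412 = n412 := d26_1 D412 (iv D412) F1213
def n413 : Q := act 2 n308
theorem D413 : act 2 n308 = n413 := rfl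
theorem F1610 : act 3 n413 = n413 := d13_2 D308 D413 (iv D413) (iv D308) F916
theorem F1611 : act 5 n413 = n413 := d15_2 F1216 D413 (iv D413)
def n414 : Q := act 4 n308
theorem D414 : act 4 n308 = n414 := rfl
theorem F1612 : act 1 n414 = n310 := d9_1 D414 (iv D310) (iv F1215)
theorem F1613 : act 3 n414 = n316 := d18_1 D414 (iv D316) (iv D233) (iv F917) D308
theorem F1614 : act 6 n414 = n338 := d23_2 (iv F1217) D414 (iv D338)
def n415 : Q := act 7 n308
theorem D415 : act 7 n308 = n415 := rfl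
theorem F1615 : act 1 n415 = n311 := d12_1 D415 (iv D311) (iv F1215)
theorem F1616 : act 3 n415 = n309 := d21_1 D415 (iv D309) D308
theorem F1617 : act 5 n415 = n415 := d26_1 D415 (iv D415) F1216
def n416 : Q := act 6 n309
theorem D416 : act 6 n309 = n416 := rfl
theorem F1618 : act 1 n416 = n312 := d11_1 D416 (iv D312) (iv F1218)
theorem F1619 : act 4 n416 = n318 := d23_1 D416 (iv D318) (iv F1220)
theorem F1620 : act 5 n416 = n416 := d25_1 D416 (iv D416) F1221
theorem F1621 : act 7 n416 = n340 := d27_2 D309 D416 (iv D340) (iv D249) (iv F919)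
def n417 : Q := act 5 n310
theorem D417 : act 5 n310 = n417 := rfl
theorem F1622 : act 0 n417 = n417 := d4_1 D417 (iv D417) F1222
theorem F1623 : act 3 n417 = n319 := d19_1 D417 (iv D319) (iv F1223)
theorem F1624 : act 4 n417 = n417 := d22_1 D417 (iv D417) (iv D310) F921 D310
theorem F1625 : act 6 n417 = n341 := d25_2 (iv F1224) D417 (iv D341)
def n418 : Q := act 7 n310
theorem D418 : act 7 n310 = n418 := rfl
theorem F1626 : act 0 n418 = n418 := d6_1 D418 (iv D418) F1222
theorem F1627 : act 3 n418 = n320 := d21_1 D418 (iv D320) (iv F1223)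
theorem F1628 : act 4 n418 = n311 := d24_1 D418 (iv D311) D310
def n419 : Q := act 6 n311
theorem D419 : act 6 n311 = n419 := rfl
theorem F1629 : act 0 n419 = n419 := d5_1 D419 (iv D419) F1225
theorem F1630 : act 3 n419 = n312 := d20_1 D419 (iv D312) (iv F1226)
theorem F1631 : act 5 n419 = n419 := d25_1 D419 (iv D419) F1227
theorem F1632 : act 7 n419 = n343 := d27_2 D311 D419 (iv D343) (iv D251) (iv F922)
def n420 : Q := act 2 n313
theorem D420 : act 2 n313 = n420 := rfl
theorem F1633 : act 0 n420 = n315 := d1_1 D420 (iv D315) (iv F1233)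
theorem F1634 : act 3 n420 = n420 := d13_2 D313 D420 (iv D420) (iv D313) F928
theorem F1635 : act 5 n420 = n322 := d15_2 (iv F1235) D420 (iv D322)
theorem F1636 : act 6 n420 = n420 := d16_2 (iv F1236) D420 (iv D420) F1236 F1000
def n421 : Q := act 4 n313
theorem D421 : act 4 n313 = n421 := rfl
theorem F1637 : act 0 n421 = n316 := d3_1 D421 (iv D316) (iv F1233)
theorem F1638 : act 1 n421 = n421 := d9_1 D421 (iv D421) F1234
theorem F1639 : act 6 n421 = n344 := d23_2 (iv F1236) D421 (iv D344)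
def n422 : Q := act 7 n313
theorem D422 : act 7 n313 = n422 := rfl
theorem F1640 : act 0 n422 = n317 := d6_1 D422 (iv D317) (iv F1233)
theorem F1641 : act 1 n422 = n422 := d12_1 D422 (iv D422) F1234
theorem F1642 : act 3 n422 = n314 := d21_1 D422 (iv D314) D313
theorem F1643 : act 5 n422 = n324 := d26_1 D422 (iv D324) (iv F1235)
def n423 : Q := act 6 n314
theorem D423 : act 6 n314 = n423 := rfl
theorem F1644 : act 0 n423 = n318 := d5_1 D423 (iv D318) (iv F1237)
theorem F1645 : act 1 n423 = n423 := d11_1 D423 (iv D423) F1238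
theorem F1646 : act 5 n423 = n325 := d25_1 D423 (iv D325) (iv F1240)
theorem F1647 : act 7 n423 = n346 := d27_2 D314 D423 (iv D346) (iv D254) (iv F930)
def n424 : Q := act 4 n315
theorem D424 : act 4 n315 = n424 := rfl
theorem F1648 : act 1 n424 = n424 := d9_1 D424 (iv D424) F1241
theorem F1649 : act 2 n424 = n316 := d14_1 D424 (iv D316) D315
theorem F1650 : act 6 n424 = n424 := d23_2 F1244 D424 (iv D424)
def n425 : Q := act 7 n315
theorem D425 : act 7 n315 = n425 := rfl
theorem F1651 : act 1 n425 = n425 := d12_1 D425 (iv D425) F1241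
theorem F1652 : act 2 n425 = n317 := d17_1 D425 (iv D317) D315
theorem F1653 : act 3 n425 = n425 := d21_1 D425 (iv D425) F1242
theorem F1654 : act 5 n425 = n327 := d26_1 D425 (iv D327) (iv F1243)
def n426 : Q := act 5 n316
theorem D426 : act 5 n316 = n426 := rfl
theorem F1655 : act 1 n426 = n319 := d10_1 D426 (iv D319) (iv F1245)
theorem F1656 : act 4 n426 = n328 := d22_1 D426 (iv D328) (iv D241) (iv F932) D316
theorem F1657 : act 6 n426 = n347 := d25_2 (iv F1246) D426 (iv D347)
def n427 : Q := act 7 n316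
theorem D427 : act 7 n316 = n427 := rfl
theorem F1658 : act 1 n427 = n320 := d12_1 D427 (iv D320) (iv F1245)
theorem F1659 : act 4 n427 = n317 := d24_1 D427 (iv D317) D316
def n428 : Q := act 6 n317
theorem D428 : act 6 n317 = n428 := rfl
theorem F1660 : act 1 n428 = n321 := d11_1 D428 (iv D321) (iv F1247)
theorem F1661 : act 3 n428 = n318 := d20_1 D428 (iv D318) (iv F1248)
theorem F1662 : act 5 n428 = n330 := d25_1 D428 (iv D330) (iv F1249)
theorem F1663 : act 7 n428 = n349 := d27_2 D317 D428 (iv D349) (iv D256) (iv F933)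
def n429 : Q := act 2 n318
theorem D429 : act 2 n318 = n429 := rfl
theorem F1664 : act 1 n429 = n429 := d7_1 D429 (iv D429) F1250 F945 (iv F1250)
theorem F1665 : act 5 n429 = n331 := d15_2 (iv F1251) D429 (iv D331)
theorem F1666 : act 6 n429 = n429 := d16_2 D318 D429 (iv D429) (iv D318) F935
theorem F1667 : act 7 n429 = n350 := d17_2 (iv F1252) D429 (iv D350)
def n430 : Q := act 7 n319
theorem D430 : act 7 n319 = n430 := rfl
theorem F1668 : act 0 n430 = n430 := d6_1 D430 (iv D430) F1253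
theorem F1669 : act 2 n430 = n430 := d17_1 D430 (iv D430) F1254
theorem F1670 : act 4 n430 = n332 := d24_1 D430 (iv D332) (iv F1255)
theorem F1671 : act 5 n430 = n320 := d26_1 D430 (iv D320) D319
def n431 : Q := act 6 n320
theorem D431 : act 6 n320 = n431 := rfl
theorem F1672 : act 0 n431 = n431 := d5_1 D431 (iv D431) F1257
theorem F1673 : act 4 n431 = n321 := d23_1 D431 (iv D321) (iv F1259)
theorem F1674 : act 7 n431 = n352 := d27_2 D320 D431 (iv D352) (iv D259) (iv F939)
def n432 : Q := act 2 n321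
theorem D432 : act 2 n321 = n432 := rfl
theorem F1675 : act 0 n432 = n432 := d1_1 D432 (iv D432) F1260
theorem F1676 : act 3 n432 = n432 := d13_2 (iv F1261) D432 (iv D432) F1261 F945
theorem F1677 : act 5 n432 = n334 := d15_2 (iv F1262) D432 (iv D334)
theorem F1678 : act 6 n432 = n432 := d16_2 D321 D432 (iv D432) (iv D321) F941
theorem F1679 : act 7 n432 = n353 := d17_2 (iv F1263) D432 (iv D353)
def n433 : Q := act 1 n322
theorem D433 : act 1 n322 = n433 := rfl
theorem F1680 : act 0 n433 = n433 := d0_1 D433 (iv D433) F1264 F955 (iv F1264)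
theorem F1681 : act 2 n433 = n433 := d7_2 D322 D433 (iv D433) (iv D322) F949
theorem F1682 : act 3 n433 = n433 := d8_2 F1265 D433 (iv D433)
theorem F1683 : act 6 n433 = n433 := d11_2 F1266 D433 (iv D433)
def n434 : Q := act 4 n322
theorem D434 : act 4 n322 = n434 := rfl
theorem F1684 : act 0 n434 = n326 := d3_1 D434 (iv D326) (iv F1264)
theorem F1685 : act 2 n434 = n323 := d14_1 D434 (iv D323) D322
theorem F1686 : act 6 n434 = n434 := d23_2 F1266 D434 (iv D434)
def n435 : Q := act 7 n322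
theorem D435 : act 7 n322 = n435 := rfl
theorem F1687 : act 0 n435 = n327 := d6_1 D435 (iv D327) (iv F1264)
theorem F1688 : act 2 n435 = n324 := d17_1 D435 (iv D324) D322
theorem F1689 : act 3 n435 = n435 := d21_1 D435 (iv D435) F1265
def n436 : Q := act 5 n323
theorem D436 : act 5 n323 = n436 := rfl
theorem F1690 : act 0 n436 = n328 := d4_1 D436 (iv D328) (iv F1267)
theorem F1691 : act 1 n436 = n436 := d10_1 D436 (iv D436) F1268
theorem F1692 : act 3 n436 = n436 := d19_1 D436 (iv D436) F1269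
theorem F1693 : act 6 n436 = n354 := d25_2 (iv F1270) D436 (iv D354)
def n437 : Q := act 7 n323
theorem D437 : act 7 n323 = n437 := rfl
theorem F1694 : act 0 n437 = n329 := d6_1 D437 (iv D329) (iv F1267)
theorem F1695 : act 1 n437 = n437 := d12_1 D437 (iv D437) F1268
theorem F1696 : act 3 n437 = n437 := d21_1 D437 (iv D437) F1269
theorem F1697 : act 4 n437 = n324 := d24_1 D437 (iv D324) D323
def n438 : Q := act 6 n324
theorem D438 : act 6 n324 = n438 := rfl
theorem F1698 : act 0 n438 = n330 := d5_1 D438 (iv D330) (iv F1271)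
theorem F1699 : act 1 n438 = n438 := d11_1 D438 (iv D438) F1272
theorem F1700 : act 3 n438 = n325 := d20_1 D438 (iv D325) (iv F1273)
theorem F1701 : act 7 n438 = n356 := d27_2 D324 D438 (iv D356) (iv D262) (iv F950)
def n439 : Q := act 2 n325
theorem D439 : act 2 n325 = n439 := rfl
theorem F1702 : act 0 n439 = n331 := d1_1 D439 (iv D331) (iv F1274)
theorem F1703 : act 4 n439 = n439 := d14_2 F1276 D439 (iv D439)
theorem F1704 : act 6 n439 = n439 := d16_2 D325 D439 (iv D439) (iv D325) F953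
theorem F1705 : act 7 n439 = n357 := d17_2 (iv F1277) D439 (iv D357)
def n440 : Q := act 3 n326
theorem D440 : act 3 n326 = n440 := rfl
theorem F1706 : act 1 n440 = n440 := d8_1 D440 (iv D440) F1278
theorem F1707 : act 2 n440 = n440 := d13_1 D440 (iv D440) F1279 F959 (iv F1279)
theorem F1708 : act 4 n440 = n440 := d18_2 D326 D440 (iv D440) (iv D326) F956
theorem F1709 : act 6 n440 = n440 := d20_2 F1280 D440 (iv D440)
def n441 : Q := act 5 n326
theorem D441 : act 5 n326 = n441 := rfl
theorem F1710 : act 1 n441 = n441 := d10_1 D441 (iv D441) F1278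
theorem F1711 : act 2 n441 = n328 := d15_1 D441 (iv D328) (iv F1279)
theorem F1712 : act 6 n441 = n441 := d25_2 F1280 D441 (iv D441)
def n442 : Q := act 7 n326
theorem D442 : act 7 n326 = n442 := rfl
theorem F1713 : act 1 n442 = n442 := d12_1 D442 (iv D442) F1278
theorem F1714 : act 2 n442 = n329 := d17_1 D442 (iv D329) (iv F1279)
theorem F1715 : act 4 n442 = n327 := d24_1 D442 (iv D327) D326
def n443 : Q := act 6 n327
theorem D443 : act 6 n327 = n443 := rfl
theorem F1716 : act 1 n443 = n443 := d11_1 D443 (iv D443) F1281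
theorem F1717 : act 3 n443 = n443 := d20_1 D443 (iv D443) F1283
theorem F1718 : act 7 n443 = n443 := d27_2 D327 D443 (iv D443) (iv D327) F957
def n444 : Q := act 7 n328
theorem D444 : act 7 n328 = n444 := rfl
theorem F1719 : act 1 n444 = n332 := d12_1 D444 (iv D332) (iv F1284)
theorem F1720 : act 3 n444 = n444 := d21_1 D444 (iv D444) F1285
theorem F1721 : act 5 n444 = n329 := d26_1 D444 (iv D329) D328
def n445 : Q := act 6 n329
theorem D445 : act 6 n329 = n445 := rfl
theorem F1722 : act 1 n445 = n333 := d11_1 D445 (iv D333) (iv F1287)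
theorem F1723 : act 3 n445 = n445 := d20_1 D445 (iv D445) F1288
theorem F1724 : act 4 n445 = n330 := d23_1 D445 (iv D330) (iv F1289)
theorem F1725 : act 7 n445 = n359 := d27_2 D329 D445 (iv D359) (iv D265) (iv F960)
def n446 : Q := act 2 n330
theorem D446 : act 2 n330 = n446 := rfl
theorem F1726 : act 7 n446 = n360 := d17_2 (iv F1292) D446 (iv D360)
def n447 : Q := act 3 n331
theorem D447 : act 3 n331 = n447 := rfl
theorem F1727 : act 1 n447 = n447 := d8_1 D447 (iv D447) F1293
theorem F1728 : act 6 n447 = n447 := d20_2 F1295 D447 (iv D447)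
theorem F1729 : act 7 n447 = n361 := d21_2 (iv F1296) D447 (iv D361)
def n448 : Q := act 6 n332
theorem D448 : act 6 n332 = n448 := rfl
theorem F1730 : act 0 n448 = n448 := d5_1 D448 (iv D448) F1297
theorem F1731 : act 3 n448 = n448 := d20_1 D448 (iv D448) F1299
theorem F1732 : act 5 n448 = n333 := d25_1 D448 (iv D333) (iv F1300)
theorem F1733 : act 7 n448 = n362 := d27_2 D332 D448 (iv D362) (iv D268) (iv F969)
def n449 : Q := act 2 n333
theorem D449 : act 2 n333 = n449 := rfl
theorem F1734 : act 0 n449 = n449 := d1_1 D449 (iv D449) F1301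
theorem F1735 : act 4 n449 = n334 := d14_2 (iv F1303) D449 (iv D334)
theorem F1736 : act 6 n449 = n449 := d16_2 D333 D449 (iv D449) (iv D333) F971
theorem F1737 : act 7 n449 = n363 := d17_2 (iv F1304) D449 (iv D363)
def n450 : Q := act 1 n334
theorem D450 : act 1 n334 = n450 := rfl
theorem F1738 : act 3 n450 = n450 := d8_2 F1306 D450 (iv D450)
theorem F1739 : act 6 n450 = n450 := d11_2 F1307 D450 (iv D450)
theorem F1740 : act 7 n450 = n364 := d12_2 (iv F1308) D450 (iv D364)
def n451 : Q := act 2 n335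
theorem D451 : act 2 n335 = n451 := rfl
theorem F1741 : act 0 n451 = n337 := d1_1 D451 (iv D337) (iv F1309)
theorem F1742 : act 3 n451 = n376 := d13_2 D335 D451 (iv D376) (iv D281) (iv F978)
theorem F1743 : act 5 n451 = n451 := d15_2 F1311 D451 (iv D451)
def n452 : Q := act 4 n335
theorem D452 : act 4 n335 = n452 := rfl
theorem F1744 : act 0 n452 = n338 := d3_1 D452 (iv D338) (iv F1309)
theorem F1745 : act 1 n452 = n452 := d9_1 D452 (iv D452) F1310
theorem F1746 : act 3 n452 = n344 := d18_1 D452 (iv D344) (iv D253) (iv F979) D335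
def n453 : Q := act 7 n335
theorem D453 : act 7 n335 = n453 := rfl
theorem F1747 : act 0 n453 = n339 := d6_1 D453 (iv D339) (iv F1309)
theorem F1748 : act 1 n453 = n453 := d12_1 D453 (iv D453) F1310
theorem F1749 : act 3 n453 = n336 := d21_1 D453 (iv D336) D335
theorem F1750 : act 5 n453 = n453 := d26_1 D453 (iv D453) F1311
def n454 : Q := act 6 n336
theorem D454 : act 6 n336 = n454 := rfl
theorem F1751 : act 0 n454 = n340 := d5_1 D454 (iv D340) (iv F1312)
theorem F1752 : act 1 n454 = n454 := d11_1 D454 (iv D454) F1313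
theorem F1753 : act 4 n454 = n346 := d23_1 D454 (iv D346) (iv F1315)
theorem F1754 : act 5 n454 = n454 := d25_1 D454 (iv D454) F1316
def n455 : Q := act 4 n337
theorem D455 : act 4 n337 = n455 := rfl
theorem F1755 : act 1 n455 = n455 := d9_1 D455 (iv D455) F1317
theorem F1756 : act 2 n455 = n338 := d14_1 D455 (iv D338) D337
theorem F1757 : act 3 n455 = n455 := d18_1 D455 (iv D455) F1318 F1110 (iv F1318)
def n456 : Q := act 6 n337
theorem D456 : act 6 n337 = n456 := rfl
theorem F1758 : act 1 n456 = n456 := d11_1 D456 (iv D456) F1317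
theorem F1759 : act 3 n456 = n379 := d20_1 D456 (iv D379) (iv F1318)
theorem F1760 : act 5 n456 = n456 := d25_1 D456 (iv D456) F1319
def n457 : Q := act 7 n337
theorem D457 : act 7 n337 = n457 := rfl
theorem F1761 : act 1 n457 = n457 := d12_1 D457 (iv D457) F1317
theorem F1762 : act 2 n457 = n339 := d17_1 D457 (iv D339) D337
theorem F1763 : act 3 n457 = n380 := d21_1 D457 (iv D380) (iv F1318)
theorem F1764 : act 5 n457 = n457 := d26_1 D457 (iv D457) F1319
def n458 : Q := act 5 n338
theorem D458 : act 5 n338 = n458 := rfl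
theorem F1765 : act 1 n458 = n341 := d10_1 D458 (iv D341) (iv F1320)
theorem F1766 : act 3 n458 = n347 := d19_1 D458 (iv D347) (iv F1321)
theorem F1767 : act 4 n458 = n458 := d22_1 D458 (iv D458) (iv D338) F982 D338
def n459 : Q := act 7 n338
theorem D459 : act 7 n338 = n459 := rfl
theorem F1768 : act 1 n459 = n342 := d12_1 D459 (iv D342) (iv F1320)
theorem F1769 : act 3 n459 = n348 := d21_1 D459 (iv D348) (iv F1321)
theorem F1770 : act 4 n459 = n339 := d24_1 D459 (iv D339) D338
def n460 : Q := act 6 n339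
theorem D460 : act 6 n339 = n460 := rfl
theorem F1771 : act 1 n460 = n343 := d11_1 D460 (iv D343) (iv F1322)
theorem F1772 : act 3 n460 = n340 := d20_1 D460 (iv D340) (iv F1323)
theorem F1773 : act 5 n460 = n460 := d25_1 D460 (iv D460) F1324
def n461 : Q := act 2 n340
theorem D461 : act 2 n340 = n461 := rfl
theorem F1774 : act 1 n461 = n461 := d7_1 D461 (iv D461) F1325 F995 (iv F1325)
theorem F1775 : act 4 n461 = n350 := d14_2 (iv F1326) D461 (iv D350)
theorem F1776 : act 5 n461 = n461 := d15_2 F1327 D461 (iv D461)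
theorem F1777 : act 6 n461 = n382 := d16_2 D340 D461 (iv D382) (iv D285) (iv F984)
def n462 : Q := act 7 n341
theorem D462 : act 7 n341 = n462 := rfl
theorem F1778 : act 0 n462 = n462 := d6_1 D462 (iv D462) F1328
theorem F1779 : act 2 n462 = n462 := d17_1 D462 (iv D462) F1329
theorem F1780 : act 3 n462 = n351 := d21_1 D462 (iv D351) (iv F1330)
theorem F1781 : act 4 n462 = n462 := d24_1 D462 (iv D462) F1331
theorem F1782 : act 5 n462 = n342 := d26_1 D462 (iv D342) D341
def n463 : Q := act 6 n342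
theorem D463 : act 6 n342 = n463 := rfl
theorem F1783 : act 0 n463 = n463 := d5_1 D463 (iv D463) F1332
theorem F1784 : act 3 n463 = n352 := d20_1 D463 (iv D352) (iv F1334)
theorem F1785 : act 4 n463 = n343 := d23_1 D463 (iv D343) (iv F1335)
def n464 : Q := act 2 n343
theorem D464 : act 2 n343 = n464 := rfl
theorem F1786 : act 0 n464 = n464 := d1_1 D464 (iv D464) F1336
theorem F1787 : act 3 n464 = n464 := d13_2 (iv F1337) D464 (iv D464) F1337 F995
theorem F1788 : act 5 n464 = n464 := d15_2 F1338 D464 (iv D464)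
theorem F1789 : act 6 n464 = n464 := d16_2 D343 D464 (iv D464) (iv D343) F991
def n465 : Q := act 5 n344
theorem D465 : act 5 n344 = n465 := rfl
theorem F1790 : act 0 n465 = n347 := d4_1 D465 (iv D347) (iv F1339)
theorem F1791 : act 1 n465 = n465 := d10_1 D465 (iv D465) F1340
theorem F1792 : act 2 n465 = n465 := d15_1 D465 (iv D465) F1341
theorem F1793 : act 4 n465 = n354 := d22_1 D465 (iv D354) (iv D261) (iv F1001) D344
def n466 : Q := act 7 n344
theorem D466 : act 7 n344 = n466 := rfl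
theorem F1794 : act 0 n466 = n348 := d6_1 D466 (iv D348) (iv F1339)
theorem F1795 : act 1 n466 = n466 := d12_1 D466 (iv D466) F1340
theorem F1796 : act 2 n466 = n466 := d17_1 D466 (iv D466) F1341
theorem F1797 : act 4 n466 = n345 := d24_1 D466 (iv D345) D344
def n467 : Q := act 6 n345
theorem D467 : act 6 n345 = n467 := rfl
theorem F1798 : act 0 n467 = n349 := d5_1 D467 (iv D349) (iv F1342)
theorem F1799 : act 1 n467 = n467 := d11_1 D467 (iv D467) F1343
theorem F1800 : act 3 n467 = n346 := d20_1 D467 (iv D346) (iv F1345)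
theorem F1801 : act 5 n467 = n356 := d25_1 D467 (iv D356) (iv F1346)
def n468 : Q := act 2 n346
theorem D468 : act 2 n346 = n468 := rfl
theorem F1802 : act 0 n468 = n350 := d1_1 D468 (iv D350) (iv F1347)
theorem F1803 : act 5 n468 = n357 := d15_2 (iv F1349) D468 (iv D357)
theorem F1804 : act 6 n468 = n384 := d16_2 D346 D468 (iv D384) (iv D287) (iv F1004)
def n469 : Q := act 7 n347
theorem D469 : act 7 n347 = n469 := rfl
theorem F1805 : act 1 n469 = n351 := d12_1 D469 (iv D351) (iv F1350)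
theorem F1806 : act 2 n469 = n469 := d17_1 D469 (iv D469) F1351
theorem F1807 : act 4 n469 = n358 := d24_1 D469 (iv D358) (iv F1352)
theorem F1808 : act 5 n469 = n348 := d26_1 D469 (iv D348) D347
def n470 : Q := act 6 n348
theorem D470 : act 6 n348 = n470 := rfl
theorem F1809 : act 1 n470 = n352 := d11_1 D470 (iv D352) (iv F1353)
theorem F1810 : act 4 n470 = n349 := d23_1 D470 (iv D349) (iv F1355)
def n471 : Q := act 2 n349
theorem D471 : act 2 n349 = n471 := rfl
theorem F1811 : act 5 n471 = n360 := d15_2 (iv F1358) D471 (iv D360)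
theorem F1812 : act 6 n471 = n471 := d16_2 D349 D471 (iv D471) (iv D349) F1009
def n472 : Q := act 3 n350
theorem D472 : act 3 n350 = n472 := rfl
theorem F1813 : act 1 n472 = n472 := d8_1 D472 (iv D472) F1359
theorem F1814 : act 5 n472 = n361 := d19_2 (iv F1360) D472 (iv D361)
theorem F1815 : act 6 n472 = n385 := d20_2 (iv F1361) D472 (iv D385)
def n473 : Q := act 6 n351
theorem D473 : act 6 n351 = n473 := rfl
theorem F1816 : act 0 n473 = n473 := d5_1 D473 (iv D473) F1362
theorem F1817 : act 4 n473 = n362 := d23_1 D473 (iv D362) (iv F1364)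
theorem F1818 : act 5 n473 = n352 := d25_1 D473 (iv D352) (iv F1365)
def n474 : Q := act 2 n352
theorem D474 : act 2 n352 = n474 := rfl
theorem F1819 : act 0 n474 = n474 := d1_1 D474 (iv D474) F1366
theorem F1820 : act 4 n474 = n353 := d14_2 (iv F1367) D474 (iv D353)
theorem F1821 : act 6 n474 = n366 := d16_2 D352 D474 (iv D366) (iv D272) (iv F1018)
def n475 : Q := act 1 n353
theorem D475 : act 1 n353 = n475 := rfl
theorem F1822 : act 3 n475 = n475 := d8_2 F1369 D475 (iv D475)
theorem F1823 : act 5 n475 = n364 := d10_2 (iv F1370) D475 (iv D364)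
theorem F1824 : act 6 n475 = n367 := d11_2 (iv F1371) D475 (iv D367)
def n476 : Q := act 7 n354
theorem D476 : act 7 n354 = n476 := rfl
theorem F1825 : act 0 n476 = n358 := d6_1 D476 (iv D358) (iv F1372)
theorem F1826 : act 1 n476 = n476 := d12_1 D476 (iv D476) F1373
theorem F1827 : act 2 n476 = n476 := d17_1 D476 (iv D476) F1374
theorem F1828 : act 3 n476 = n476 := d21_1 D476 (iv D476) F1375
theorem F1829 : act 5 n476 = n355 := d26_1 D476 (iv D355) D354
def n477 : Q := act 6 n355
theorem D477 : act 6 n355 = n477 := rfl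
theorem F1830 : act 0 n477 = n359 := d5_1 D477 (iv D359) (iv F1376)
theorem F1831 : act 1 n477 = n477 := d11_1 D477 (iv D477) F1377
theorem F1832 : act 3 n477 = n477 := d20_1 D477 (iv D477) F1379
theorem F1833 : act 4 n477 = n356 := d23_1 D477 (iv D356) (iv F1380)
def n478 : Q := act 2 n356
theorem D478 : act 2 n356 = n478 := rfl
theorem F1834 : act 0 n478 = n360 := d1_1 D478 (iv D360) (iv F1381)
theorem F1835 : act 6 n478 = n478 := d16_2 D356 D478 (iv D478) (iv D356) F1029
def n479 : Q := act 1 n357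
theorem D479 : act 1 n357 = n479 := rfl
theorem F1836 : act 0 n479 = n479 := d0_1 D479 (iv D479) F1384 F1043 (iv F1384)
theorem F1837 : act 2 n479 = n479 := d7_2 D357 D479 (iv D479) (iv D357) F1032
theorem F1838 : act 4 n479 = n479 := d9_2 F1385 D479 (iv D479)
theorem F1839 : act 6 n479 = n386 := d11_2 (iv F1386) D479 (iv D386)
def n480 : Q := act 3 n357
theorem D480 : act 3 n357 = n480 := rfl
theorem F1840 : act 0 n480 = n361 := d2_1 D480 (iv D361) (iv F1384)
theorem F1841 : act 6 n480 = n387 := d20_2 (iv F1386) D480 (iv D387)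
def n481 : Q := act 6 n358
theorem D481 : act 6 n358 = n481 := rfl
theorem F1842 : act 1 n481 = n362 := d11_1 D481 (iv D362) (iv F1387)
theorem F1843 : act 3 n481 = n481 := d20_1 D481 (iv D481) F1389
theorem F1844 : act 5 n481 = n359 := d25_1 D481 (iv D359) (iv F1390)
def n482 : Q := act 2 n359
theorem D482 : act 2 n359 = n482 := rfl
theorem F1845 : act 4 n482 = n360 := d14_2 (iv F1393) D482 (iv D360)
theorem F1846 : act 6 n482 = n482 := d16_2 D359 D482 (iv D482) (iv D359) F1038
def n483 : Q := act 1 n360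
theorem D483 : act 1 n360 = n483 := rfl
theorem F1847 : act 2 n483 = n364 := d7_2 D360 D483 (iv D364) (iv D270) (iv F1041)
theorem F1848 : act 6 n483 = n483 := d11_2 F1394 D483 (iv D483)
def n484 : Q := act 3 n360
theorem D484 : act 3 n360 = n484 := rfl
theorem F1849 : act 2 n484 = n361 := d13_1 D484 (iv D361) (iv D267) (iv F1042) D360
theorem F1850 : act 6 n484 = n484 := d20_2 F1394 D484 (iv D484)
def n485 : Q := act 4 n361
theorem D485 : act 4 n361 = n485 := rfl
theorem F1851 : act 1 n485 = n485 := d9_1 D485 (iv D485) F1395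
theorem F1852 : act 3 n485 = n485 := d18_1 D485 (iv D485) (iv D361) F1044 D361
theorem F1853 : act 6 n485 = n388 := d23_2 (iv F1396) D485 (iv D388)
def n486 : Q := act 2 n362
theorem D486 : act 2 n362 = n486 := rfl
theorem F1854 : act 0 n486 = n486 := d1_1 D486 (iv D486) F1397
theorem F1855 : act 5 n486 = n363 := d15_2 (iv F1399) D486 (iv D363)
theorem F1856 : act 6 n486 = n368 := d16_2 D362 D486 (iv D368) (iv D274) (iv F1047)
def n487 : Q := act 1 n363
theorem D487 : act 1 n363 = n487 := rfl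
theorem F1857 : act 4 n487 = n364 := d9_2 (iv F1401) D487 (iv D364)
theorem F1858 : act 6 n487 = n369 := d11_2 (iv F1402) D487 (iv D369)
def n488 : Q := act 3 n363
theorem D488 : act 3 n363 = n488 := rfl
def n489 : Q := act 0 n364
theorem D489 : act 0 n364 = n489 := rfl
theorem F1865 : act 6 n489 = n371 := d5_2 (iv F1404) D489 (iv D371)
def n490 : Q := act 2 n365
theorem D490 : act 2 n365 = n490 := rfl
theorem F1866 : act 0 n490 = n490 := d1_1 D490 (iv D490) F1405
theorem F1867 : act 4 n490 = n368 := d14_2 (iv F1408) D490 (iv D368)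
theorem F1868 : act 5 n490 = n366 := d15_2 (iv F1409) D490 (iv D366)
theorem F1869 : act 7 n490 = n490 := d17_2 F1410 D490 (iv D490)
def n491 : Q := act 1 n366
theorem D491 : act 1 n366 = n491 := rfl
theorem F1870 : act 2 n491 = n491 := d7_2 D366 D491 (iv D491) (iv D366) F1062
theorem F1871 : act 4 n491 = n367 := d9_2 (iv F1412) D491 (iv D367)
theorem F1872 : act 7 n491 = n491 := d12_2 F1413 D491 (iv D491)
def n492 : Q := act 3 n366
theorem D492 : act 3 n366 = n492 := rfl
theorem F1873 : act 0 n492 = n492 := d2_1 D492 (iv D492) F1411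
theorem F1874 : act 2 n492 = n492 := d13_1 D492 (iv D492) (iv D366) F1063 D366
theorem F1875 : act 4 n492 = n492 := d18_2 (iv F1412) D492 (iv D492) F1412 F1067
theorem F1876 : act 7 n492 = n492 := d21_2 F1413 D492 (iv D492)
def n493 : Q := act 0 n367
theorem D493 : act 0 n367 = n493 := rfl
theorem F1877 : act 1 n493 = n493 := d0_2 D367 D493 (iv D493) (iv D367) F1066
theorem F1878 : act 2 n493 = n493 := d1_2 F1414 D493 (iv D493)
theorem F1879 : act 3 n493 = n493 := d2_2 F1415 D493 (iv D493)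
theorem F1880 : act 5 n493 = n371 := d4_2 (iv F1416) D493 (iv D371)
theorem F1881 : act 7 n493 = n493 := d6_2 F1417 D493 (iv D493)
def n494 : Q := act 1 n368
theorem D494 : act 1 n368 = n494 := rfl
theorem F1882 : act 2 n494 = n494 := d7_2 D368 D494 (iv D494) (iv D368) F1071
theorem F1883 : act 5 n494 = n369 := d10_2 (iv F1419) D494 (iv D369)
theorem F1884 : act 7 n494 = n494 := d12_2 F1420 D494 (iv D494)
def n495 : Q := act 3 n368
theorem D495 : act 3 n368 = n495 := rfl
theorem F1885 : act 0 n495 = n495 := d2_1 D495 (iv D495) F1418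
theorem F1886 : act 2 n495 = n373 := d13_1 D495 (iv D373) (iv D277) (iv F1072) D368
theorem F1887 : act 5 n495 = n370 := d19_2 (iv F1419) D495 (iv D370)
theorem F1888 : act 7 n495 = n495 := d21_2 F1420 D495 (iv D495)
def n496 : Q := act 0 n369
theorem D496 : act 0 n369 = n496 := rfl
theorem F1891 : act 4 n496 = n371 := d3_2 (iv F1422) D496 (iv D371)
def n497 : Q := act 3 n369
theorem D497 : act 3 n369 = n497 := rfl
theorem F1893 : act 1 n497 = n370 := d8_1 D497 (iv D370) D369
def n498 : Q := act 0 n372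
theorem D498 : act 0 n372 = n498 := rfl
theorem F1898 : act 4 n498 = n498 := d3_2 F1433 D498 (iv D498)
theorem F1899 : act 5 n498 = n374 := d4_2 (iv F1434) D498 (iv D374)
def n499 : Q := act 3 n372
theorem D499 : act 3 n372 = n499 := rfl
theorem F1902 : act 1 n499 = n373 := d8_1 D499 (iv D373) D372
theorem F1903 : act 5 n499 = n375 := d19_2 (iv F1434) D499 (iv D375)
def n500 : Q := act 4 n373
theorem D500 : act 4 n373 = n500 := rfl
theorem F1906 : act 0 n500 = n500 := d3_1 D500 (iv D500) F1437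
theorem F1907 : act 3 n500 = n500 := d18_1 D500 (iv D500) (iv D373) F1082 D373
theorem F1908 : act 5 n500 = n500 := d22_2 (iv F1438) D500 (iv D500) F1438 F1091
theorem F1909 : act 6 n500 = n500 := d23_2 F1439 D500 (iv D500)
theorem F1910 : act 7 n500 = n500 := d24_2 F1440 D500 (iv D500)
def n501 : Q := act 3 n374
theorem D501 : act 3 n374 = n501 := rfl
theorem F1911 : act 0 n501 = n375 := d2_1 D501 (iv D375) D374
def n502 : Q := act 2 n375
theorem D502 : act 2 n375 = n502 := rfl
def n503 : Q := act 1 n376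
theorem D503 : act 1 n376 = n503 := rfl
theorem F1919 : act 0 n503 = n503 := d0_1 D503 (iv D503) F1450 F1109 (iv F1450)
theorem F1920 : act 2 n503 = n389 := d7_2 D376 D503 (iv D389) (iv D291) (iv F1101)
theorem F1921 : act 4 n503 = n503 := d9_2 F1451 D503 (iv D503)
theorem F1922 : act 5 n503 = n503 := d10_2 F1452 D503 (iv D503)
def n504 : Q := act 6 n376
theorem D504 : act 6 n376 = n504 := rfl
theorem F1923 : act 0 n504 = n379 := d5_1 D504 (iv D379) (iv F1450)
theorem F1924 : act 2 n504 = n504 := d16_1 D504 (iv D504) (iv D376) F1104 D376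
theorem F1925 : act 4 n504 = n504 := d23_1 D504 (iv D504) F1451
theorem F1926 : act 5 n504 = n504 := d25_1 D504 (iv D504) F1452
def n505 : Q := act 7 n376
theorem D505 : act 7 n376 = n505 := rfl
theorem F1927 : act 0 n505 = n380 := d6_1 D505 (iv D380) (iv F1450)
theorem F1928 : act 2 n505 = n377 := d17_1 D505 (iv D377) D376
theorem F1929 : act 4 n505 = n505 := d24_1 D505 (iv D505) F1451
theorem F1930 : act 5 n505 = n505 := d26_1 D505 (iv D505) F1452
def n506 : Q := act 6 n377
theorem D506 : act 6 n377 = n506 := rfl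
theorem F1931 : act 0 n506 = n381 := d5_1 D506 (iv D381) (iv F1453)
theorem F1932 : act 1 n506 = n392 := d11_1 D506 (iv D392) (iv F1454)
theorem F1933 : act 3 n506 = n378 := d20_1 D506 (iv D378) (iv F1455)
theorem F1934 : act 4 n506 = n506 := d23_1 D506 (iv D506) F1456
theorem F1935 : act 5 n506 = n506 := d25_1 D506 (iv D506) F1457
theorem F1936 : act 7 n506 = n506 := d27_2 D377 D506 (iv D506) (iv D377) F1104
def n507 : Q := act 2 n378
theorem D507 : act 2 n378 = n507 := rfl
theorem F1937 : act 0 n507 = n382 := d1_1 D507 (iv D382) (iv F1458)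
theorem F1938 : act 4 n507 = n384 := d14_2 (iv F1460) D507 (iv D384)
theorem F1939 : act 5 n507 = n507 := d15_2 F1461 D507 (iv D507)
theorem F1940 : act 7 n507 = n507 := d17_2 F1462 D507 (iv D507)
def n508 : Q := act 7 n379
theorem D508 : act 7 n379 = n508 := rfl
theorem F1941 : act 1 n508 = n508 := d12_1 D508 (iv D508) F1463
theorem F1942 : act 2 n508 = n508 := d17_1 D508 (iv D508) F1464
theorem F1943 : act 4 n508 = n508 := d24_1 D508 (iv D508) F1465
theorem F1944 : act 5 n508 = n508 := d26_1 D508 (iv D508) F1466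
def n509 : Q := act 6 n380
theorem D509 : act 6 n380 = n509 := rfl
theorem F1945 : act 1 n509 = n509 := d11_1 D509 (iv D509) F1467
theorem F1946 : act 4 n509 = n509 := d23_1 D509 (iv D509) F1469
theorem F1947 : act 5 n509 = n509 := d25_1 D509 (iv D509) F1470
def n510 : Q := act 2 n381
theorem D510 : act 2 n381 = n510 := rfl
theorem F1948 : act 4 n510 = n510 := d14_2 F1473 D510 (iv D510)
theorem F1949 : act 5 n510 = n510 := d15_2 F1474 D510 (iv D510)
theorem F1950 : act 7 n510 = n510 := d17_2 F1475 D510 (iv D510)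
def n511 : Q := act 3 n382
theorem D511 : act 3 n382 = n511 := rfl
theorem F1951 : act 1 n511 = n511 := d8_1 D511 (iv D511) F1476
theorem F1952 : act 5 n511 = n511 := d19_2 F1478 D511 (iv D511)
theorem F1953 : act 7 n511 = n511 := d21_2 F1479 D511 (iv D511)
def n512 : Q := act 1 n383
theorem D512 : act 1 n383 = n512 := rfl
theorem F1954 : act 3 n512 = n512 := d8_2 F1481 D512 (iv D512)
theorem F1955 : act 4 n512 = n512 := d9_2 F1482 D512 (iv D512)
theorem F1956 : act 5 n512 = n512 := d10_2 F1483 D512 (iv D512)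
theorem F1957 : act 6 n512 = n512 := d11_2 F1484 D512 (iv D512)
theorem F1958 : act 7 n512 = n512 := d12_2 F1485 D512 (iv D512)
def n513 : Q := act 1 n384
theorem D513 : act 1 n384 = n513 := rfl
theorem F1961 : act 5 n513 = n386 := d10_2 (iv F1487) D513 (iv D386)
def n514 : Q := act 3 n384
theorem D514 : act 3 n384 = n514 := rfl
def n515 : Q := act 4 n385
theorem D515 : act 4 n385 = n515 := rfl
theorem F1967 : act 1 n515 = n515 := d9_1 D515 (iv D515) F1489
theorem F1968 : act 2 n515 = n515 := d14_1 D515 (iv D515) F1490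
theorem F1969 : act 7 n515 = n515 := d24_2 F1492 D515 (iv D515)
def n516 : Q := act 3 n386
theorem D516 : act 3 n386 = n516 := rfl
def n519 : Q := act 6 n389
theorem D519 : act 6 n389 = n519 := rfl
theorem F1981 : act 0 n519 = n519 := d5_1 D519 (iv D519) F1504
theorem F1982 : act 1 n519 = n390 := d11_1 D519 (iv D390) D389
theorem F1983 : act 3 n519 = n519 := d20_1 D519 (iv D519) F1505
theorem F1984 : act 4 n519 = n519 := d23_1 D519 (iv D519) F1506
theorem F1985 : act 5 n519 = n519 := d25_1 D519 (iv D519) F1507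
def n520 : Q := act 7 n389
theorem D520 : act 7 n389 = n520 := rfl
theorem F1986 : act 0 n520 = n520 := d6_1 D520 (iv D520) F1504
theorem F1987 : act 1 n520 = n391 := d12_1 D520 (iv D391) D389
theorem F1988 : act 3 n520 = n520 := d21_1 D520 (iv D520) F1505
theorem F1989 : act 4 n520 = n520 := d24_1 D520 (iv D520) F1506
theorem F1990 : act 5 n520 = n520 := d26_1 D520 (iv D520) F1507
def n521 : Q := act 7 n390
theorem D521 : act 7 n390 = n521 := rfl
def n522 : Q := act 6 n391
theorem D522 : act 6 n391 = n522 := rfl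
def n523 : Q := act 2 n392
theorem D523 : act 2 n392 = n523 := rfl
def n525 : Q := act 3 n393
theorem D525 : act 3 n393 = n525 := rfl
def n526 : Q := act 6 n394
theorem D526 : act 6 n394 = n526 := rfl
theorem F2017 : act 7 n526 = n395 := d27_2 D394 D526 (iv D395) (iv D295) D294
def n535 : Q := act 2 n402
theorem D535 : act 2 n402 = n535 := rfl
def n536 : Q := act 4 n402
theorem D536 : act 4 n402 = n536 := rfl
theorem F2055 : act 1 n536 = n403 := d9_1 D536 (iv D403) (iv F1563)
def n538 : Q := act 3 n405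
theorem D538 : act 3 n405 = n538 := rfl
theorem F2064 : act 0 n538 = n406 := d2_1 D538 (iv D406) D405
theorem F2065 : act 1 n538 = n538 := d8_1 D538 (iv D538) F1576
theorem F2066 : act 5 n538 = n538 := d19_2 F1579 D538 (iv D538)
theorem F2067 : act 6 n538 = n538 := d20_2 F1580 D538 (iv D538)
def n539 : Q := act 7 n405
theorem D539 : act 7 n405 = n539 := rfl
theorem F2068 : act 0 n539 = n407 := d6_1 D539 (iv D407) D405
theorem F2069 : act 1 n539 = n539 := d12_1 D539 (iv D539) F1576
theorem F2070 : act 2 n539 = n539 := d17_1 D539 (iv D539) F1577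
theorem F2071 : act 4 n539 = n539 := d24_1 D539 (iv D539) F1578
theorem F2072 : act 5 n539 = n539 := d26_1 D539 (iv D539) F1579
def n540 : Q := act 2 n406
theorem D540 : act 2 n406 = n540 := rfl
theorem F2073 : act 1 n540 = n413 := d7_1 D540 (iv D413) F1215 (iv F1203) (iv F1581)
theorem F2074 : act 3 n540 = n540 := d13_2 D406 D540 (iv D540) (iv D406) F1198
theorem F2075 : act 5 n540 = n540 := d15_2 F1582 D540 (iv D540)
def n541 : Q := act 4 n406
theorem D541 : act 4 n406 = n541 := rfl
theorem F2076 : act 1 n541 = n408 := d9_1 D541 (iv D408) (iv F1581)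
theorem F2077 : act 3 n541 = n541 := d18_1 D541 (iv D541) (iv D406) F1199 D406
theorem F2078 : act 6 n541 = n541 := d23_2 F1583 D541 (iv D541)
def n542 : Q := act 7 n406
theorem D542 : act 7 n406 = n542 := rfl
theorem F2079 : act 1 n542 = n409 := d12_1 D542 (iv D409) (iv F1581)
theorem F2080 : act 3 n542 = n407 := d21_1 D542 (iv D407) D406
theorem F2081 : act 5 n542 = n542 := d26_1 D542 (iv D542) F1582
def n543 : Q := act 6 n407
theorem D543 : act 6 n407 = n543 := rfl
theorem F2082 : act 1 n543 = n410 := d11_1 D543 (iv D410) (iv F1584)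
theorem F2083 : act 4 n543 = n543 := d23_1 D543 (iv D543) F1586
theorem F2084 : act 5 n543 = n543 := d25_1 D543 (iv D543) F1587
theorem F2085 : act 7 n543 = n543 := d27_2 D407 D543 (iv D543) (iv D407) F1201
def n544 : Q := act 5 n408
theorem D544 : act 5 n408 = n544 := rfl
theorem F2086 : act 0 n544 = n544 := d4_1 D544 (iv D544) F1588
theorem F2087 : act 2 n544 = n417 := d15_1 D544 (iv D417) (iv F1589)
theorem F2088 : act 3 n544 = n544 := d19_1 D544 (iv D544) F1590
theorem F2089 : act 4 n544 = n544 := d22_1 D544 (iv D544) (iv D408) F1204 D408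
theorem F2090 : act 6 n544 = n544 := d25_2 F1591 D544 (iv D544)
def n545 : Q := act 7 n408
theorem D545 : act 7 n408 = n545 := rfl
theorem F2091 : act 0 n545 = n545 := d6_1 D545 (iv D545) F1588
theorem F2092 : act 2 n545 = n418 := d17_1 D545 (iv D418) (iv F1589)
theorem F2093 : act 3 n545 = n545 := d21_1 D545 (iv D545) F1590
theorem F2094 : act 4 n545 = n409 := d24_1 D545 (iv D409) D408
def n546 : Q := act 6 n409
theorem D546 : act 6 n409 = n546 := rfl
theorem F2095 : act 0 n546 = n546 := d5_1 D546 (iv D546) F1592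
theorem F2096 : act 3 n546 = n410 := d20_1 D546 (iv D410) (iv F1594)
theorem F2097 : act 5 n546 = n546 := d25_1 D546 (iv D546) F1595
theorem F2098 : act 7 n546 = n546 := d27_2 D409 D546 (iv D546) (iv D409) F1205
def n547 : Q := act 2 n411
theorem D547 : act 2 n411 = n547 := rfl
theorem F2099 : act 0 n547 = n413 := d1_1 D547 (iv D413) (iv F1601)
theorem F2100 : act 3 n547 = n547 := d13_2 D411 D547 (iv D547) (iv D411) F1211
theorem F2101 : act 5 n547 = n547 := d15_2 F1603 D547 (iv D547)
def n548 : Q := act 4 n411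
theorem D548 : act 4 n411 = n548 := rfl
theorem F2102 : act 0 n548 = n414 := d3_1 D548 (iv D414) (iv F1601)
theorem F2103 : act 1 n548 = n548 := d9_1 D548 (iv D548) F1602
theorem F2104 : act 3 n548 = n421 := d18_1 D548 (iv D421) (iv D313) (iv F1212) D411
theorem F2105 : act 6 n548 = n452 := d23_2 (iv F1604) D548 (iv D452)
def n549 : Q := act 7 n411
theorem D549 : act 7 n411 = n549 := rfl
theorem F2106 : act 0 n549 = n415 := d6_1 D549 (iv D415) (iv F1601)
theorem F2107 : act 1 n549 = n549 := d12_1 D549 (iv D549) F1602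
theorem F2108 : act 3 n549 = n412 := d21_1 D549 (iv D412) D411
theorem F2109 : act 5 n549 = n549 := d26_1 D549 (iv D549) F1603
def n550 : Q := act 6 n412
theorem D550 : act 6 n412 = n550 := rfl
theorem F2110 : act 0 n550 = n416 := d5_1 D550 (iv D416) (iv F1605)
theorem F2111 : act 1 n550 = n550 := d11_1 D550 (iv D550) F1606
theorem F2112 : act 4 n550 = n423 := d23_1 D550 (iv D423) (iv F1608)
theorem F2113 : act 5 n550 = n550 := d25_1 D550 (iv D550) F1609
theorem F2114 : act 7 n550 = n454 := d27_2 D412 D550 (iv D454) (iv D336) (iv F1214)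
def n551 : Q := act 4 n413
theorem D551 : act 4 n413 = n551 := rfl
theorem F2115 : act 2 n551 = n414 := d14_1 D551 (iv D414) D413
def n552 : Q := act 6 n413
theorem D552 : act 6 n413 = n552 := rfl
theorem F2116 : act 2 n552 = n456 := d16_1 D552 (iv D456) (iv D337) (iv F1217) D413
theorem F2117 : act 3 n552 = n552 := d20_1 D552 (iv D552) F1610
theorem F2118 : act 5 n552 = n552 := d25_1 D552 (iv D552) F1611
def n553 : Q := act 7 n413
theorem D553 : act 7 n413 = n553 := rfl
theorem F2119 : act 2 n553 = n415 := d17_1 D553 (iv D415) D413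
theorem F2120 : act 3 n553 = n553 := d21_1 D553 (iv D553) F1610
theorem F2121 : act 5 n553 = n553 := d26_1 D553 (iv D553) F1611
def n554 : Q := act 5 n414
theorem D554 : act 5 n414 = n554 := rfl
theorem F2122 : act 1 n554 = n417 := d10_1 D554 (iv D417) (iv F1612)
theorem F2123 : act 3 n554 = n426 := d19_1 D554 (iv D426) (iv F1613)
theorem F2124 : act 4 n554 = n554 := d22_1 D554 (iv D554) (iv D414) F1216 D414
theorem F2125 : act 6 n554 = n458 := d25_2 (iv F1614) D554 (iv D458)
def n555 : Q := act 7 n414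
theorem D555 : act 7 n414 = n555 := rfl
theorem F2126 : act 1 n555 = n418 := d12_1 D555 (iv D418) (iv F1612)
theorem F2127 : act 3 n555 = n427 := d21_1 D555 (iv D427) (iv F1613)
theorem F2128 : act 4 n555 = n415 := d24_1 D555 (iv D415) D414
def n556 : Q := act 6 n415
theorem D556 : act 6 n415 = n556 := rfl
theorem F2129 : act 1 n556 = n419 := d11_1 D556 (iv D419) (iv F1615)
theorem F2130 : act 3 n556 = n416 := d20_1 D556 (iv D416) (iv F1616)
theorem F2131 : act 5 n556 = n556 := d25_1 D556 (iv D556) F1617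
theorem F2132 : act 7 n556 = n460 := d27_2 D415 D556 (iv D460) (iv D339) (iv F1217)
def n557 : Q := act 2 n416
theorem D557 : act 2 n416 = n557 := rfl
theorem F2133 : act 1 n557 = n557 := d7_1 D557 (iv D557) F1618 F1229 (iv F1618)
theorem F2134 : act 4 n557 = n429 := d14_2 (iv F1619) D557 (iv D429)
theorem F2135 : act 5 n557 = n557 := d15_2 F1620 D557 (iv D557)
theorem F2136 : act 6 n557 = n557 := d16_2 D416 D557 (iv D557) (iv D416) F1219
theorem F2137 : act 7 n557 = n461 := d17_2 (iv F1621) D557 (iv D461)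
def n558 : Q := act 7 n417
theorem D558 : act 7 n417 = n558 := rfl
theorem F2138 : act 0 n558 = n558 := d6_1 D558 (iv D558) F1622
theorem F2139 : act 3 n558 = n430 := d21_1 D558 (iv D430) (iv F1623)
theorem F2140 : act 4 n558 = n558 := d24_1 D558 (iv D558) F1624
theorem F2141 : act 5 n558 = n418 := d26_1 D558 (iv D418) D417
def n559 : Q := act 6 n418
theorem D559 : act 6 n418 = n559 := rfl
theorem F2142 : act 0 n559 = n559 := d5_1 D559 (iv D559) F1626
theorem F2143 : act 3 n559 = n431 := d20_1 D559 (iv D431) (iv F1627)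
theorem F2144 : act 4 n559 = n419 := d23_1 D559 (iv D419) (iv F1628)
theorem F2145 : act 7 n559 = n463 := d27_2 D418 D559 (iv D463) (iv D342) (iv F1224)
def n560 : Q := act 2 n419
theorem D560 : act 2 n419 = n560 := rfl
theorem F2146 : act 0 n560 = n560 := d1_1 D560 (iv D560) F1629
theorem F2147 : act 3 n560 = n560 := d13_2 (iv F1630) D560 (iv D560) F1630 F1229
theorem F2148 : act 5 n560 = n560 := d15_2 F1631 D560 (iv D560)
theorem F2149 : act 7 n560 = n464 := d17_2 (iv F1632) D560 (iv D464)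
def n561 : Q := act 1 n420
theorem D561 : act 1 n420 = n561 := rfl
theorem F2150 : act 0 n561 = n561 := d0_1 D561 (iv D561) F1633 F1241 (iv F1633)
theorem F2151 : act 2 n561 = n561 := d7_2 D420 D561 (iv D561) (iv D420) F1234
theorem F2152 : act 3 n561 = n561 := d8_2 F1634 D561 (iv D561)
theorem F2153 : act 5 n561 = n433 := d10_2 (iv F1635) D561 (iv D433)
theorem F2154 : act 6 n561 = n561 := d11_2 F1636 D561 (iv D561)
def n562 : Q := act 4 n420
theorem D562 : act 4 n420 = n562 := rfl
theorem F2155 : act 0 n562 = n424 := d3_1 D562 (iv D424) (iv F1633)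
theorem F2156 : act 2 n562 = n421 := d14_1 D562 (iv D421) D420
theorem F2157 : act 6 n562 = n562 := d23_2 F1636 D562 (iv D562)
def n563 : Q := act 7 n420
theorem D563 : act 7 n420 = n563 := rfl
theorem F2158 : act 0 n563 = n425 := d6_1 D563 (iv D425) (iv F1633)
theorem F2159 : act 2 n563 = n422 := d17_1 D563 (iv D422) D420
theorem F2160 : act 3 n563 = n563 := d21_1 D563 (iv D563) F1634
theorem F2161 : act 5 n563 = n435 := d26_1 D563 (iv D435) (iv F1635)
def n564 : Q := act 5 n421
theorem D564 : act 5 n421 = n564 := rfl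
theorem F2162 : act 0 n564 = n426 := d4_1 D564 (iv D426) (iv F1637)
theorem F2163 : act 1 n564 = n564 := d10_1 D564 (iv D564) F1638
theorem F2164 : act 4 n564 = n436 := d22_1 D564 (iv D436) (iv D323) (iv F1235) D421
theorem F2165 : act 6 n564 = n465 := d25_2 (iv F1639) D564 (iv D465)
def n565 : Q := act 7 n421
theorem D565 : act 7 n421 = n565 := rfl
theorem F2166 : act 0 n565 = n427 := d6_1 D565 (iv D427) (iv F1637)
theorem F2167 : act 1 n565 = n565 := d12_1 D565 (iv D565) F1638
theorem F2168 : act 4 n565 = n422 := d24_1 D565 (iv D422) D421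
def n566 : Q := act 6 n422
theorem D566 : act 6 n422 = n566 := rfl
theorem F2169 : act 0 n566 = n428 := d5_1 D566 (iv D428) (iv F1640)
theorem F2170 : act 1 n566 = n566 := d11_1 D566 (iv D566) F1641
theorem F2171 : act 3 n566 = n423 := d20_1 D566 (iv D423) (iv F1642)
theorem F2172 : act 5 n566 = n438 := d25_1 D566 (iv D438) (iv F1643)
theorem F2173 : act 7 n566 = n467 := d27_2 D422 D566 (iv D467) (iv D345) (iv F1236)
def n567 : Q := act 2 n423
theorem D567 : act 2 n423 = n567 := rfl
theorem F2174 : act 0 n567 = n429 := d1_1 D567 (iv D429) (iv F1644)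
theorem F2175 : act 5 n567 = n439 := d15_2 (iv F1646) D567 (iv D439)
theorem F2176 : act 6 n567 = n567 := d16_2 D423 D567 (iv D567) (iv D423) F1239
theorem F2177 : act 7 n567 = n468 := d17_2 (iv F1647) D567 (iv D468)
def n568 : Q := act 3 n424
theorem D568 : act 3 n424 = n568 := rfl
theorem F2178 : act 1 n568 = n568 := d8_1 D568 (iv D568) F1648
theorem F2179 : act 4 n568 = n568 := d18_2 D424 D568 (iv D568) (iv D424) F1242
theorem F2180 : act 6 n568 = n568 := d20_2 F1650 D568 (iv D568)
def n569 : Q := act 5 n424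
theorem D569 : act 5 n424 = n569 := rfl
theorem F2181 : act 1 n569 = n569 := d10_1 D569 (iv D569) F1648
theorem F2182 : act 2 n569 = n426 := d15_1 D569 (iv D426) (iv F1649)
theorem F2183 : act 4 n569 = n441 := d22_1 D569 (iv D441) (iv D326) (iv F1243) D424
theorem F2184 : act 6 n569 = n569 := d25_2 F1650 D569 (iv D569)
def n570 : Q := act 7 n424
theorem D570 : act 7 n424 = n570 := rfl
theorem F2185 : act 1 n570 = n570 := d12_1 D570 (iv D570) F1648
theorem F2186 : act 2 n570 = n427 := d17_1 D570 (iv D427) (iv F1649)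
theorem F2187 : act 4 n570 = n425 := d24_1 D570 (iv D425) D424
def n571 : Q := act 6 n425
theorem D571 : act 6 n425 = n571 := rfl
theorem F2188 : act 1 n571 = n571 := d11_1 D571 (iv D571) F1651
theorem F2189 : act 3 n571 = n571 := d20_1 D571 (iv D571) F1653
theorem F2190 : act 5 n571 = n443 := d25_1 D571 (iv D443) (iv F1654)
theorem F2191 : act 7 n571 = n571 := d27_2 D425 D571 (iv D571) (iv D425) F1244
def n572 : Q := act 7 n426
theorem D572 : act 7 n426 = n572 := rfl
theorem F2192 : act 1 n572 = n430 := d12_1 D572 (iv D430) (iv F1655)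
theorem F2193 : act 4 n572 = n444 := d24_1 D572 (iv D444) (iv F1656)
theorem F2194 : act 5 n572 = n427 := d26_1 D572 (iv D427) D426
def n573 : Q := act 6 n427
theorem D573 : act 6 n427 = n573 := rfl
theorem F2195 : act 1 n573 = n431 := d11_1 D573 (iv D431) (iv F1658)
theorem F2196 : act 4 n573 = n428 := d23_1 D573 (iv D428) (iv F1659)
theorem F2197 : act 7 n573 = n470 := d27_2 D427 D573 (iv D470) (iv D348) (iv F1246)
def n574 : Q := act 2 n428
theorem D574 : act 2 n428 = n574 := rfl
theorem F2198 : act 5 n574 = n446 := d15_2 (iv F1662) D574 (iv D446)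
theorem F2199 : act 7 n574 = n471 := d17_2 (iv F1663) D574 (iv D471)
def n575 : Q := act 3 n429
theorem D575 : act 3 n429 = n575 := rfl
theorem F2200 : act 1 n575 = n575 := d8_1 D575 (iv D575) F1664
theorem F2201 : act 5 n575 = n447 := d19_2 (iv F1665) D575 (iv D447)
theorem F2202 : act 6 n575 = n575 := d20_2 F1666 D575 (iv D575)
theorem F2203 : act 7 n575 = n472 := d21_2 (iv F1667) D575 (iv D472)
def n576 : Q := act 6 n430
theorem D576 : act 6 n430 = n576 := rfl
theorem F2204 : act 0 n576 = n576 := d5_1 D576 (iv D576) F1668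
theorem F2205 : act 4 n576 = n448 := d23_1 D576 (iv D448) (iv F1670)
theorem F2206 : act 5 n576 = n431 := d25_1 D576 (iv D431) (iv F1671)
theorem F2207 : act 7 n576 = n473 := d27_2 D430 D576 (iv D473) (iv D351) (iv F1256)
def n577 : Q := act 2 n431
theorem D577 : act 2 n431 = n577 := rfl
theorem F2208 : act 0 n577 = n577 := d1_1 D577 (iv D577) F1672
theorem F2209 : act 4 n577 = n432 := d14_2 (iv F1673) D577 (iv D432)
theorem F2210 : act 6 n577 = n577 := d16_2 D431 D577 (iv D577) (iv D431) F1258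
theorem F2211 : act 7 n577 = n474 := d17_2 (iv F1674) D577 (iv D474)
def n578 : Q := act 1 n432
theorem D578 : act 1 n432 = n578 := rfl
theorem F2212 : act 3 n578 = n578 := d8_2 F1676 D578 (iv D578)
theorem F2213 : act 5 n578 = n450 := d10_2 (iv F1677) D578 (iv D450)
theorem F2214 : act 6 n578 = n578 := d11_2 F1678 D578 (iv D578)
theorem F2215 : act 7 n578 = n475 := d12_2 (iv F1679) D578 (iv D475)
def n579 : Q := act 4 n433
theorem D579 : act 4 n433 = n579 := rfl
theorem F2216 : act 0 n579 = n579 := d3_1 D579 (iv D579) F1680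
theorem F2217 : act 1 n579 = n434 := d9_1 D579 (iv D434) D433
theorem F2218 : act 2 n579 = n579 := d14_1 D579 (iv D579) F1681
theorem F2219 : act 6 n579 = n579 := d23_2 F1683 D579 (iv D579)
def n580 : Q := act 7 n433
theorem D580 : act 7 n433 = n580 := rfl
theorem F2220 : act 0 n580 = n580 := d6_1 D580 (iv D580) F1680
theorem F2221 : act 1 n580 = n435 := d12_1 D580 (iv D435) D433
theorem F2222 : act 2 n580 = n580 := d17_1 D580 (iv D580) F1681
theorem F2223 : act 3 n580 = n580 := d21_1 D580 (iv D580) F1682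
def n581 : Q := act 3 n434
theorem D581 : act 3 n434 = n581 := rfl
theorem F2224 : act 0 n581 = n440 := d2_1 D581 (iv D440) (iv F1684)
theorem F2225 : act 2 n581 = n581 := d13_1 D581 (iv D581) F1685 F1269 (iv F1685)
theorem F2226 : act 4 n581 = n581 := d18_2 D434 D581 (iv D581) (iv D434) F1265
theorem F2227 : act 6 n581 = n581 := d20_2 F1686 D581 (iv D581)
def n582 : Q := act 5 n434
theorem D582 : act 5 n434 = n582 := rfl
theorem F2228 : act 0 n582 = n441 := d4_1 D582 (iv D441) (iv F1684)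
theorem F2229 : act 2 n582 = n436 := d15_1 D582 (iv D436) (iv F1685)
theorem F2230 : act 6 n582 = n582 := d25_2 F1686 D582 (iv D582)
def n583 : Q := act 7 n434
theorem D583 : act 7 n434 = n583 := rfl
theorem F2231 : act 0 n583 = n442 := d6_1 D583 (iv D442) (iv F1684)
theorem F2232 : act 2 n583 = n437 := d17_1 D583 (iv D437) (iv F1685)
theorem F2233 : act 4 n583 = n435 := d24_1 D583 (iv D435) D434
def n584 : Q := act 6 n435
theorem D584 : act 6 n435 = n584 := rfl
theorem F2234 : act 0 n584 = n443 := d5_1 D584 (iv D443) (iv F1687)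
theorem F2235 : act 3 n584 = n584 := d20_1 D584 (iv D584) F1689
theorem F2236 : act 7 n584 = n584 := d27_2 D435 D584 (iv D584) (iv D435) F1266
def n585 : Q := act 7 n436
theorem D585 : act 7 n436 = n585 := rfl
theorem F2237 : act 0 n585 = n444 := d6_1 D585 (iv D444) (iv F1690)
theorem F2238 : act 1 n585 = n585 := d12_1 D585 (iv D585) F1691
theorem F2239 : act 3 n585 = n585 := d21_1 D585 (iv D585) F1692
theorem F2240 : act 5 n585 = n437 := d26_1 D585 (iv D437) D436
def n586 : Q := act 6 n437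
theorem D586 : act 6 n437 = n586 := rfl
theorem F2241 : act 0 n586 = n445 := d5_1 D586 (iv D445) (iv F1694)
theorem F2242 : act 1 n586 = n586 := d11_1 D586 (iv D586) F1695
theorem F2243 : act 3 n586 = n586 := d20_1 D586 (iv D586) F1696
theorem F2244 : act 4 n586 = n438 := d23_1 D586 (iv D438) (iv F1697)
theorem F2245 : act 7 n586 = n477 := d27_2 D437 D586 (iv D477) (iv D355) (iv F1270)
def n587 : Q := act 2 n438
theorem D587 : act 2 n438 = n587 := rfl
theorem F2246 : act 0 n587 = n446 := d1_1 D587 (iv D446) (iv F1698)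
theorem F2247 : act 7 n587 = n478 := d17_2 (iv F1701) D587 (iv D478)
def n588 : Q := act 1 n439
theorem D588 : act 1 n439 = n588 := rfl
theorem F2248 : act 0 n588 = n588 := d0_1 D588 (iv D588) F1702 F1293 (iv F1702)
theorem F2249 : act 2 n588 = n588 := d7_2 D439 D588 (iv D588) (iv D439) F1275
theorem F2250 : act 4 n588 = n588 := d9_2 F1703 D588 (iv D588)
theorem F2251 : act 6 n588 = n588 := d11_2 F1704 D588 (iv D588)
theorem F2252 : act 7 n588 = n479 := d12_2 (iv F1705) D588 (iv D479)
def n589 : Q := act 3 n439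
theorem D589 : act 3 n439 = n589 := rfl
theorem F2253 : act 0 n589 = n447 := d2_1 D589 (iv D447) (iv F1702)
theorem F2254 : act 6 n589 = n589 := d20_2 F1704 D589 (iv D589)
theorem F2255 : act 7 n589 = n480 := d21_2 (iv F1705) D589 (iv D480)
def n590 : Q := act 5 n440
theorem D590 : act 5 n440 = n590 := rfl
theorem F2256 : act 1 n590 = n590 := d10_1 D590 (iv D590) F1706
theorem F2257 : act 2 n590 = n590 := d15_1 D590 (iv D590) F1707
theorem F2258 : act 3 n590 = n441 := d19_1 D590 (iv D441) D440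
theorem F2259 : act 6 n590 = n590 := d25_2 F1709 D590 (iv D590)
def n591 : Q := act 7 n440
theorem D591 : act 7 n440 = n591 := rfl
theorem F2260 : act 1 n591 = n591 := d12_1 D591 (iv D591) F1706
theorem F2261 : act 2 n591 = n591 := d17_1 D591 (iv D591) F1707
theorem F2262 : act 3 n591 = n442 := d21_1 D591 (iv D442) D440
theorem F2263 : act 4 n591 = n591 := d24_1 D591 (iv D591) F1708
def n592 : Q := act 7 n441
theorem D592 : act 7 n441 = n592 := rfl
theorem F2264 : act 1 n592 = n592 := d12_1 D592 (iv D592) F1710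
theorem F2265 : act 2 n592 = n444 := d17_1 D592 (iv D444) (iv F1711)
theorem F2266 : act 5 n592 = n442 := d26_1 D592 (iv D442) D441
def n593 : Q := act 6 n442
theorem D593 : act 6 n442 = n593 := rfl
theorem F2267 : act 1 n593 = n593 := d11_1 D593 (iv D593) F1713
theorem F2268 : act 4 n593 = n443 := d23_1 D593 (iv D443) (iv F1715)
theorem F2269 : act 7 n593 = n593 := d27_2 D442 D593 (iv D593) (iv D442) F1280
def n594 : Q := act 2 n443
theorem D594 : act 2 n443 = n594 := rfl
theorem F2270 : act 6 n594 = n446 := d16_2 D443 D594 (iv D446) (iv D330) (iv F1282)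
theorem F2271 : act 7 n594 = n594 := d17_2 F1718 D594 (iv D594)
def n595 : Q := act 6 n444
theorem D595 : act 6 n444 = n595 := rfl
theorem F2272 : act 1 n595 = n448 := d11_1 D595 (iv D448) (iv F1719)
theorem F2273 : act 3 n595 = n595 := d20_1 D595 (iv D595) F1720
theorem F2274 : act 5 n595 = n445 := d25_1 D595 (iv D445) (iv F1721)
theorem F2275 : act 7 n595 = n481 := d27_2 D444 D595 (iv D481) (iv D358) (iv F1286)
def n596 : Q := act 2 n445
theorem D596 : act 2 n445 = n596 := rfl
theorem F2276 : act 4 n596 = n446 := d14_2 (iv F1724) D596 (iv D446)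
theorem F2277 : act 7 n596 = n482 := d17_2 (iv F1725) D596 (iv D482)
def n597 : Q := act 1 n446
theorem D597 : act 1 n446 = n597 := rfl
theorem F2278 : act 2 n597 = n450 := d7_2 D446 D597 (iv D450) (iv D334) (iv F1290)
theorem F2279 : act 7 n597 = n483 := d12_2 (iv F1726) D597 (iv D483)
def n598 : Q := act 3 n446
theorem D598 : act 3 n446 = n598 := rfl
theorem F2280 : act 2 n598 = n447 := d13_1 D598 (iv D447) (iv D331) (iv F1291) D446
theorem F2281 : act 7 n598 = n484 := d21_2 (iv F1726) D598 (iv D484)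
def n599 : Q := act 4 n447
theorem D599 : act 4 n447 = n599 := rfl
theorem F2282 : act 1 n599 = n599 := d9_1 D599 (iv D599) F1727
theorem F2283 : act 3 n599 = n599 := d18_1 D599 (iv D599) (iv D447) F1294 D447
theorem F2284 : act 6 n599 = n599 := d23_2 F1728 D599 (iv D599)
theorem F2285 : act 7 n599 = n485 := d24_2 (iv F1729) D599 (iv D485)
def n600 : Q := act 2 n448
theorem D600 : act 2 n448 = n600 := rfl
theorem F2286 : act 0 n600 = n600 := d1_1 D600 (iv D600) F1730
theorem F2287 : act 5 n600 = n449 := d15_2 (iv F1732) D600 (iv D449)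
theorem F2288 : act 6 n600 = n600 := d16_2 D448 D600 (iv D600) (iv D448) F1298
theorem F2289 : act 7 n600 = n486 := d17_2 (iv F1733) D600 (iv D486)
def n601 : Q := act 1 n449
theorem D601 : act 1 n449 = n601 := rfl
theorem F2290 : act 4 n601 = n450 := d9_2 (iv F1735) D601 (iv D450)
theorem F2291 : act 6 n601 = n601 := d11_2 F1736 D601 (iv D601)
theorem F2292 : act 7 n601 = n487 := d12_2 (iv F1737) D601 (iv D487)
def n602 : Q := act 3 n449
theorem D602 : act 3 n449 = n602 := rfl
theorem F2294 : act 2 n602 = n602 := d13_1 D602 (iv D602) (iv D449) F1302 D449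
def n603 : Q := act 0 n450
theorem D603 : act 0 n450 = n603 := rfl
theorem F2299 : act 3 n603 = n603 := d2_2 F1738 D603 (iv D603)
def n604 : Q := act 1 n451
theorem D604 : act 1 n451 = n604 := rfl
theorem F2302 : act 0 n604 = n604 := d0_1 D604 (iv D604) F1741 F1317 (iv F1741)
theorem F2303 : act 2 n604 = n604 := d7_2 D451 D604 (iv D604) (iv D451) F1310
theorem F2304 : act 3 n604 = n503 := d8_2 (iv F1742) D604 (iv D503)
theorem F2305 : act 5 n604 = n604 := d10_2 F1743 D604 (iv D604)
def n605 : Q := act 4 n451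
theorem D605 : act 4 n451 = n605 := rfl
theorem F2306 : act 0 n605 = n455 := d3_1 D605 (iv D455) (iv F1741)
theorem F2307 : act 2 n605 = n452 := d14_1 D605 (iv D452) D451
theorem F2308 : act 3 n605 = n605 := d18_1 D605 (iv D605) F1742 F1451 (iv F1742)
def n606 : Q := act 6 n451
theorem D606 : act 6 n451 = n606 := rfl
theorem F2309 : act 0 n606 = n456 := d5_1 D606 (iv D456) (iv F1741)
theorem F2310 : act 3 n606 = n504 := d20_1 D606 (iv D504) (iv F1742)
theorem F2311 : act 5 n606 = n606 := d25_1 D606 (iv D606) F1743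
def n607 : Q := act 7 n451
theorem D607 : act 7 n451 = n607 := rfl
theorem F2312 : act 0 n607 = n457 := d6_1 D607 (iv D457) (iv F1741)
theorem F2313 : act 2 n607 = n453 := d17_1 D607 (iv D453) D451
theorem F2314 : act 3 n607 = n505 := d21_1 D607 (iv D505) (iv F1742)
theorem F2315 : act 5 n607 = n607 := d26_1 D607 (iv D607) F1743
def n608 : Q := act 5 n452
theorem D608 : act 5 n452 = n608 := rfl
theorem F2316 : act 0 n608 = n458 := d4_1 D608 (iv D458) (iv F1744)
theorem F2317 : act 1 n608 = n608 := d10_1 D608 (iv D608) F1745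
theorem F2318 : act 3 n608 = n465 := d19_1 D608 (iv D465) (iv F1746)
theorem F2319 : act 4 n608 = n608 := d22_1 D608 (iv D608) (iv D452) F1311 D452
def n609 : Q := act 7 n452
theorem D609 : act 7 n452 = n609 := rfl
theorem F2320 : act 0 n609 = n459 := d6_1 D609 (iv D459) (iv F1744)
theorem F2321 : act 1 n609 = n609 := d12_1 D609 (iv D609) F1745
theorem F2322 : act 3 n609 = n466 := d21_1 D609 (iv D466) (iv F1746)
theorem F2323 : act 4 n609 = n453 := d24_1 D609 (iv D453) D452
def n610 : Q := act 6 n453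
theorem D610 : act 6 n453 = n610 := rfl
theorem F2324 : act 0 n610 = n460 := d5_1 D610 (iv D460) (iv F1747)
theorem F2325 : act 1 n610 = n610 := d11_1 D610 (iv D610) F1748
theorem F2326 : act 3 n610 = n454 := d20_1 D610 (iv D454) (iv F1749)
theorem F2327 : act 5 n610 = n610 := d25_1 D610 (iv D610) F1750
def n611 : Q := act 2 n454
theorem D611 : act 2 n454 = n611 := rfl
theorem F2328 : act 0 n611 = n461 := d1_1 D611 (iv D461) (iv F1751)
theorem F2329 : act 4 n611 = n468 := d14_2 (iv F1753) D611 (iv D468)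
theorem F2330 : act 5 n611 = n611 := d15_2 F1754 D611 (iv D611)
theorem F2331 : act 6 n611 = n507 := d16_2 D454 D611 (iv D507) (iv D378) (iv F1314)
def n612 : Q := act 5 n455
theorem D612 : act 5 n455 = n612 := rfl
theorem F2332 : act 1 n612 = n612 := d10_1 D612 (iv D612) F1755
theorem F2333 : act 2 n612 = n458 := d15_1 D612 (iv D458) (iv F1756)
theorem F2334 : act 3 n612 = n612 := d19_1 D612 (iv D612) F1757
theorem F2335 : act 4 n612 = n612 := d22_1 D612 (iv D612) (iv D455) F1319 D455
def n613 : Q := act 6 n455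
theorem D613 : act 6 n455 = n613 := rfl
theorem F2336 : act 1 n613 = n613 := d11_1 D613 (iv D613) F1755
theorem F2337 : act 3 n613 = n613 := d20_1 D613 (iv D613) F1757
theorem F2338 : act 4 n613 = n456 := d23_1 D613 (iv D456) D455
def n614 : Q := act 7 n455
theorem D614 : act 7 n455 = n614 := rfl
theorem F2339 : act 1 n614 = n614 := d12_1 D614 (iv D614) F1755
theorem F2340 : act 2 n614 = n459 := d17_1 D614 (iv D459) (iv F1756)
theorem F2341 : act 3 n614 = n614 := d21_1 D614 (iv D614) F1757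
theorem F2342 : act 4 n614 = n457 := d24_1 D614 (iv D457) D455
def n615 : Q := act 7 n456
theorem D615 : act 7 n456 = n615 := rfl
theorem F2343 : act 1 n615 = n615 := d12_1 D615 (iv D615) F1758
theorem F2344 : act 3 n615 = n508 := d21_1 D615 (iv D508) (iv F1759)
theorem F2345 : act 5 n615 = n615 := d26_1 D615 (iv D615) F1760
def n616 : Q := act 6 n457
theorem D616 : act 6 n457 = n616 := rfl
theorem F2346 : act 1 n616 = n616 := d11_1 D616 (iv D616) F1761
theorem F2347 : act 3 n616 = n509 := d20_1 D616 (iv D509) (iv F1763)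
theorem F2348 : act 5 n616 = n616 := d25_1 D616 (iv D616) F1764
def n617 : Q := act 7 n458
theorem D617 : act 7 n458 = n617 := rfl
theorem F2349 : act 1 n617 = n462 := d12_1 D617 (iv D462) (iv F1765)
theorem F2350 : act 3 n617 = n469 := d21_1 D617 (iv D469) (iv F1766)
theorem F2351 : act 4 n617 = n617 := d24_1 D617 (iv D617) F1767
theorem F2352 : act 5 n617 = n459 := d26_1 D617 (iv D459) D458
def n618 : Q := act 6 n459
theorem D618 : act 6 n459 = n618 := rfl
theorem F2353 : act 1 n618 = n463 := d11_1 D618 (iv D463) (iv F1768)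
theorem F2354 : act 3 n618 = n470 := d20_1 D618 (iv D470) (iv F1769)
theorem F2355 : act 4 n618 = n460 := d23_1 D618 (iv D460) (iv F1770)
def n619 : Q := act 2 n460
theorem D619 : act 2 n460 = n619 := rfl
theorem F2356 : act 5 n619 = n619 := d15_2 F1773 D619 (iv D619)
def n620 : Q := act 3 n461
theorem D620 : act 3 n461 = n620 := rfl
theorem F2357 : act 1 n620 = n620 := d8_1 D620 (iv D620) F1774
theorem F2358 : act 5 n620 = n620 := d19_2 F1776 D620 (iv D620)
theorem F2359 : act 6 n620 = n511 := d20_2 (iv F1777) D620 (iv D511)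
def n621 : Q := act 6 n462
theorem D621 : act 6 n462 = n621 := rfl
theorem F2360 : act 0 n621 = n621 := d5_1 D621 (iv D621) F1778
theorem F2361 : act 3 n621 = n473 := d20_1 D621 (iv D473) (iv F1780)
theorem F2362 : act 4 n621 = n621 := d23_1 D621 (iv D621) F1781
theorem F2363 : act 5 n621 = n463 := d25_1 D621 (iv D463) (iv F1782)
def n622 : Q := act 2 n463
theorem D622 : act 2 n463 = n622 := rfl
theorem F2364 : act 0 n622 = n622 := d1_1 D622 (iv D622) F1783
theorem F2365 : act 4 n622 = n464 := d14_2 (iv F1785) D622 (iv D464)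
theorem F2366 : act 6 n622 = n622 := d16_2 D463 D622 (iv D622) (iv D463) F1333
def n623 : Q := act 1 n464
theorem D623 : act 1 n464 = n623 := rfl
theorem F2367 : act 3 n623 = n623 := d8_2 F1787 D623 (iv D623)
theorem F2368 : act 5 n623 = n623 := d10_2 F1788 D623 (iv D623)
theorem F2369 : act 6 n623 = n623 := d11_2 F1789 D623 (iv D623)
def n624 : Q := act 7 n465
theorem D624 : act 7 n465 = n624 := rfl
theorem F2370 : act 0 n624 = n469 := d6_1 D624 (iv D469) (iv F1790)
theorem F2371 : act 1 n624 = n624 := d12_1 D624 (iv D624) F1791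
theorem F2372 : act 2 n624 = n624 := d17_1 D624 (iv D624) F1792
theorem F2373 : act 4 n624 = n476 := d24_1 D624 (iv D476) (iv F1793)
theorem F2374 : act 5 n624 = n466 := d26_1 D624 (iv D466) D465
def n625 : Q := act 6 n466
theorem D625 : act 6 n466 = n625 := rfl
theorem F2375 : act 0 n625 = n470 := d5_1 D625 (iv D470) (iv F1794)
theorem F2376 : act 1 n625 = n625 := d11_1 D625 (iv D625) F1795
theorem F2377 : act 4 n625 = n467 := d23_1 D625 (iv D467) (iv F1797)
def n626 : Q := act 2 n467
theorem D626 : act 2 n467 = n626 := rfl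
theorem F2378 : act 0 n626 = n471 := d1_1 D626 (iv D471) (iv F1798)
theorem F2379 : act 5 n626 = n478 := d15_2 (iv F1801) D626 (iv D478)
theorem F2380 : act 6 n626 = n626 := d16_2 D467 D626 (iv D626) (iv D467) F1344
def n627 : Q := act 1 n468
theorem D627 : act 1 n468 = n627 := rfl
theorem F2381 : act 0 n627 = n627 := d0_1 D627 (iv D627) F1802 F1359 (iv F1802)
theorem F2382 : act 2 n627 = n627 := d7_2 D468 D627 (iv D627) (iv D468) F1348
theorem F2383 : act 5 n627 = n479 := d10_2 (iv F1803) D627 (iv D479)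
theorem F2384 : act 6 n627 = n513 := d11_2 (iv F1804) D627 (iv D513)
def n628 : Q := act 3 n468
theorem D628 : act 3 n468 = n628 := rfl
theorem F2385 : act 0 n628 = n472 := d2_1 D628 (iv D472) (iv F1802)
theorem F2386 : act 5 n628 = n480 := d19_2 (iv F1803) D628 (iv D480)
theorem F2387 : act 6 n628 = n514 := d20_2 (iv F1804) D628 (iv D514)
def n629 : Q := act 6 n469
theorem D629 : act 6 n469 = n629 := rfl
theorem F2388 : act 1 n629 = n473 := d11_1 D629 (iv D473) (iv F1805)
theorem F2389 : act 4 n629 = n481 := d23_1 D629 (iv D481) (iv F1807)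
theorem F2390 : act 5 n629 = n470 := d25_1 D629 (iv D470) (iv F1808)
def n630 : Q := act 2 n470
theorem D630 : act 2 n470 = n630 := rfl
theorem F2391 : act 4 n630 = n471 := d14_2 (iv F1810) D630 (iv D471)
theorem F2392 : act 6 n630 = n630 := d16_2 D470 D630 (iv D630) (iv D470) F1354
def n631 : Q := act 1 n471
theorem D631 : act 1 n471 = n631 := rfl
theorem F2393 : act 2 n631 = n475 := d7_2 D471 D631 (iv D475) (iv D353) (iv F1356)
theorem F2394 : act 5 n631 = n483 := d10_2 (iv F1811) D631 (iv D483)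
theorem F2395 : act 6 n631 = n631 := d11_2 F1812 D631 (iv D631)
def n632 : Q := act 3 n471
theorem D632 : act 3 n471 = n632 := rfl
theorem F2396 : act 2 n632 = n472 := d13_1 D632 (iv D472) (iv D350) (iv F1357) D471
theorem F2397 : act 5 n632 = n484 := d19_2 (iv F1811) D632 (iv D484)
theorem F2398 : act 6 n632 = n632 := d20_2 F1812 D632 (iv D632)
def n633 : Q := act 4 n472
theorem D633 : act 4 n472 = n633 := rfl
theorem F2399 : act 1 n633 = n633 := d9_1 D633 (iv D633) F1813
theorem F2400 : act 6 n633 = n515 := d23_2 (iv F1815) D633 (iv D515)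
def n634 : Q := act 2 n473
theorem D634 : act 2 n473 = n634 := rfl
theorem F2401 : act 0 n634 = n634 := d1_1 D634 (iv D634) F1816
theorem F2402 : act 4 n634 = n486 := d14_2 (iv F1817) D634 (iv D486)
theorem F2403 : act 5 n634 = n474 := d15_2 (iv F1818) D634 (iv D474)
theorem F2404 : act 6 n634 = n490 := d16_2 D473 D634 (iv D490) (iv D365) (iv F1363)
def n635 : Q := act 1 n474
theorem D635 : act 1 n474 = n635 := rfl
theorem F2405 : act 4 n635 = n475 := d9_2 (iv F1820) D635 (iv D475)
theorem F2406 : act 6 n635 = n491 := d11_2 (iv F1821) D635 (iv D491)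
def n636 : Q := act 3 n474
theorem D636 : act 3 n474 = n636 := rfl
theorem F2407 : act 0 n636 = n636 := d2_1 D636 (iv D636) F1819
theorem F2408 : act 4 n636 = n636 := d18_2 (iv F1820) D636 (iv D636) F1820 F1369
theorem F2409 : act 6 n636 = n492 := d20_2 (iv F1821) D636 (iv D492)
def n637 : Q := act 0 n475
theorem D637 : act 0 n475 = n637 := rfl
theorem F2410 : act 1 n637 = n637 := d0_2 D475 D637 (iv D637) (iv D475) F1368
theorem F2411 : act 3 n637 = n637 := d2_2 F1822 D637 (iv D637)
theorem F2412 : act 5 n637 = n489 := d4_2 (iv F1823) D637 (iv D489)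
theorem F2413 : act 6 n637 = n493 := d5_2 (iv F1824) D637 (iv D493)
def n638 : Q := act 6 n476
theorem D638 : act 6 n476 = n638 := rfl
theorem F2414 : act 0 n638 = n481 := d5_1 D638 (iv D481) (iv F1825)
theorem F2415 : act 1 n638 = n638 := d11_1 D638 (iv D638) F1826
theorem F2416 : act 3 n638 = n638 := d20_1 D638 (iv D638) F1828
theorem F2417 : act 5 n638 = n477 := d25_1 D638 (iv D477) (iv F1829)
def n639 : Q := act 2 n477
theorem D639 : act 2 n477 = n639 := rfl
theorem F2418 : act 0 n639 = n482 := d1_1 D639 (iv D482) (iv F1830)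
theorem F2419 : act 4 n639 = n478 := d14_2 (iv F1833) D639 (iv D478)
theorem F2420 : act 6 n639 = n639 := d16_2 D477 D639 (iv D639) (iv D477) F1378
def n640 : Q := act 1 n478
theorem D640 : act 1 n478 = n640 := rfl
theorem F2421 : act 2 n640 = n640 := d7_2 D478 D640 (iv D640) (iv D478) F1382
theorem F2422 : act 6 n640 = n640 := d11_2 F1835 D640 (iv D640)
def n641 : Q := act 3 n478
theorem D641 : act 3 n478 = n641 := rfl
theorem F2423 : act 0 n641 = n484 := d2_1 D641 (iv D484) (iv F1834)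
theorem F2424 : act 2 n641 = n480 := d13_1 D641 (iv D480) (iv D357) (iv F1383) D478
theorem F2425 : act 6 n641 = n641 := d20_2 F1835 D641 (iv D641)
def n642 : Q := act 3 n479
theorem D642 : act 3 n479 = n642 := rfl
theorem F2427 : act 1 n642 = n480 := d8_1 D642 (iv D480) D479
theorem F2428 : act 6 n642 = n516 := d20_2 (iv F1839) D642 (iv D516)
def n644 : Q := act 2 n481
theorem D644 : act 2 n481 = n644 := rfl
theorem F2432 : act 5 n644 = n482 := d15_2 (iv F1844) D644 (iv D482)
theorem F2433 : act 6 n644 = n644 := d16_2 D481 D644 (iv D644) (iv D481) F1388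
def n645 : Q := act 1 n482
theorem D645 : act 1 n482 = n645 := rfl
theorem F2434 : act 2 n645 = n487 := d7_2 D482 D645 (iv D487) (iv D363) (iv F1391)
theorem F2435 : act 4 n645 = n483 := d9_2 (iv F1845) D645 (iv D483)
theorem F2436 : act 6 n645 = n645 := d11_2 F1846 D645 (iv D645)
def n646 : Q := act 3 n482
theorem D646 : act 3 n482 = n646 := rfl
def n647 : Q := act 0 n483
theorem D647 : act 0 n483 = n647 := rfl
theorem F2439 : act 2 n647 = n489 := d1_2 (iv F1847) D647 (iv D489)
theorem F2440 : act 6 n647 = n647 := d5_2 F1848 D647 (iv D647)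
def n648 : Q := act 3 n483
theorem D648 : act 3 n483 = n648 := rfl
theorem F2441 : act 1 n648 = n484 := d8_1 D648 (iv D484) D483
theorem F2442 : act 2 n648 = n648 := d13_1 D648 (iv D648) F1847 F1403 (iv F1847)
theorem F2443 : act 6 n648 = n648 := d20_2 F1848 D648 (iv D648)
def n649 : Q := act 4 n484
theorem D649 : act 4 n484 = n649 := rfl
theorem F2444 : act 2 n649 = n485 := d14_1 D649 (iv D485) (iv F1849)
def n650 : Q := act 5 n485
theorem D650 : act 5 n485 = n650 := rfl
def n651 : Q := act 1 n486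
theorem D651 : act 1 n486 = n651 := rfl
theorem F2450 : act 6 n651 = n494 := d11_2 (iv F1856) D651 (iv D494)
def n652 : Q := act 3 n486
theorem D652 : act 3 n486 = n652 := rfl
def n653 : Q := act 0 n487
theorem D653 : act 0 n487 = n653 := rfl
theorem F2457 : act 6 n653 = n496 := d5_2 (iv F1858) D653 (iv D496)
def n654 : Q := act 3 n487
theorem D654 : act 3 n487 = n654 := rfl
theorem F2460 : act 6 n654 = n497 := d20_2 (iv F1858) D654 (iv D497)
def n655 : Q := act 1 n490
theorem D655 : act 1 n490 = n655 := rfl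
theorem F2461 : act 2 n655 = n655 := d7_2 D490 D655 (iv D655) (iv D490) F1406
theorem F2462 : act 4 n655 = n494 := d9_2 (iv F1867) D655 (iv D494)
theorem F2463 : act 5 n655 = n491 := d10_2 (iv F1868) D655 (iv D491)
theorem F2464 : act 7 n655 = n655 := d12_2 F1869 D655 (iv D655)
def n656 : Q := act 3 n490
theorem D656 : act 3 n490 = n656 := rfl
theorem F2465 : act 0 n656 = n656 := d2_1 D656 (iv D656) F1866
theorem F2466 : act 2 n656 = n656 := d13_1 D656 (iv D656) (iv D490) F1407 D490
theorem F2467 : act 5 n656 = n492 := d19_2 (iv F1868) D656 (iv D492)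
theorem F2468 : act 7 n656 = n656 := d21_2 F1869 D656 (iv D656)
def n657 : Q := act 0 n491
theorem D657 : act 0 n491 = n657 := rfl
theorem F2469 : act 1 n657 = n657 := d0_2 D491 D657 (iv D657) (iv D491) F1411
theorem F2470 : act 2 n657 = n657 := d1_2 F1870 D657 (iv D657)
theorem F2471 : act 4 n657 = n493 := d3_2 (iv F1871) D657 (iv D493)
theorem F2472 : act 7 n657 = n657 := d6_2 F1872 D657 (iv D657)
def n658 : Q := act 3 n491
theorem D658 : act 3 n491 = n658 := rfl
theorem F2473 : act 1 n658 = n492 := d8_1 D658 (iv D492) D491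
theorem F2474 : act 4 n658 = n658 := d18_2 (iv F1871) D658 (iv D658) F1871 F1415
theorem F2475 : act 7 n658 = n658 := d21_2 F1872 D658 (iv D658)
def n659 : Q := act 0 n494
theorem D659 : act 0 n494 = n659 := rfl
theorem F2478 : act 5 n659 = n496 := d4_2 (iv F1883) D659 (iv D496)
def n660 : Q := act 3 n494
theorem D660 : act 3 n494 = n660 := rfl
theorem F2480 : act 1 n660 = n495 := d8_1 D660 (iv D495) D494
def n661 : Q := act 4 n495
theorem D661 : act 4 n495 = n661 := rfl
theorem F2483 : act 0 n661 = n661 := d3_1 D661 (iv D661) F1885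
theorem F2484 : act 2 n661 = n500 := d14_1 D661 (iv D500) (iv F1886)
theorem F2485 : act 5 n661 = n661 := d22_2 (iv F1887) D661 (iv D661) F1887 F1426
theorem F2486 : act 7 n661 = n661 := d24_2 F1888 D661 (iv D661)
def n662 : Q := act 3 n496
theorem D662 : act 3 n496 = n662 := rfl
theorem F2487 : act 0 n662 = n497 := d2_1 D662 (iv D497) D496
def n663 : Q := act 2 n497
theorem D663 : act 2 n497 = n663 := rfl
theorem F2491 : act 1 n663 = n502 := d7_1 D663 (iv D502) F1446 (iv F1425) (iv F1893)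
def n664 : Q := act 3 n498
theorem D664 : act 3 n498 = n664 := rfl
theorem F2495 : act 0 n664 = n499 := d2_1 D664 (iv D499) D498
theorem F2497 : act 5 n664 = n501 := d19_2 (iv F1899) D664 (iv D501)
def n665 : Q := act 2 n499
theorem D665 : act 2 n499 = n665 := rfl
def n666 : Q := act 4 n499
theorem D666 : act 4 n499 = n666 := rfl
theorem F2503 : act 1 n666 = n500 := d9_1 D666 (iv D500) (iv F1902)
theorem F2504 : act 3 n666 = n666 := d18_1 D666 (iv D666) (iv D499) F1433 D499
def n667 : Q := act 2 n501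
theorem D667 : act 2 n501 = n667 := rfl
theorem F2508 : act 0 n667 = n502 := d1_1 D667 (iv D502) (iv F1911)
def n668 : Q := act 6 n502
theorem D668 : act 6 n502 = n668 := rfl
theorem F2512 : act 2 n668 = n668 := d16_1 D668 (iv D668) (iv D502) F1448 D502
def n669 : Q := act 6 n503
theorem D669 : act 6 n503 = n669 := rfl
theorem F2515 : act 0 n669 = n669 := d5_1 D669 (iv D669) F1919
theorem F2516 : act 1 n669 = n504 := d11_1 D669 (iv D504) D503
theorem F2517 : act 4 n669 = n669 := d23_1 D669 (iv D669) F1921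
theorem F2518 : act 5 n669 = n669 := d25_1 D669 (iv D669) F1922
def n670 : Q := act 7 n503
theorem D670 : act 7 n503 = n670 := rfl
theorem F2519 : act 0 n670 = n670 := d6_1 D670 (iv D670) F1919
theorem F2520 : act 1 n670 = n505 := d12_1 D670 (iv D505) D503
theorem F2521 : act 2 n670 = n520 := d17_1 D670 (iv D520) (iv F1920)
theorem F2522 : act 4 n670 = n670 := d24_1 D670 (iv D670) F1921
theorem F2523 : act 5 n670 = n670 := d26_1 D670 (iv D670) F1922
def n671 : Q := act 7 n504
theorem D671 : act 7 n504 = n671 := rfl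
theorem F2524 : act 0 n671 = n508 := d6_1 D671 (iv D508) (iv F1923)
theorem F2525 : act 2 n671 = n671 := d17_1 D671 (iv D671) F1924
theorem F2526 : act 4 n671 = n671 := d24_1 D671 (iv D671) F1925
theorem F2527 : act 5 n671 = n671 := d26_1 D671 (iv D671) F1926
def n672 : Q := act 6 n505
theorem D672 : act 6 n505 = n672 := rfl
theorem F2528 : act 0 n672 = n509 := d5_1 D672 (iv D509) (iv F1927)
theorem F2529 : act 4 n672 = n672 := d23_1 D672 (iv D672) F1929
theorem F2530 : act 5 n672 = n672 := d25_1 D672 (iv D672) F1930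
def n673 : Q := act 2 n506
theorem D673 : act 2 n506 = n673 := rfl
theorem F2531 : act 0 n673 = n510 := d1_1 D673 (iv D510) (iv F1931)
theorem F2532 : act 4 n673 = n673 := d14_2 F1934 D673 (iv D673)
theorem F2533 : act 5 n673 = n673 := d15_2 F1935 D673 (iv D673)
theorem F2534 : act 7 n673 = n673 := d17_2 F1936 D673 (iv D673)
def n674 : Q := act 1 n507
theorem D674 : act 1 n507 = n674 := rfl
theorem F2537 : act 4 n674 = n513 := d9_2 (iv F1938) D674 (iv D513)
def n675 : Q := act 3 n507
theorem D675 : act 3 n507 = n675 := rfl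
theorem F2540 : act 0 n675 = n511 := d2_1 D675 (iv D511) (iv F1937)
theorem F2541 : act 5 n675 = n675 := d19_2 F1939 D675 (iv D675)
theorem F2542 : act 7 n675 = n675 := d21_2 F1940 D675 (iv D675)
def n676 : Q := act 6 n508
theorem D676 : act 6 n508 = n676 := rfl
theorem F2543 : act 1 n676 = n676 := d11_1 D676 (iv D676) F1941
theorem F2544 : act 4 n676 = n676 := d23_1 D676 (iv D676) F1943
theorem F2545 : act 5 n676 = n676 := d25_1 D676 (iv D676) F1944
theorem F2546 : act 7 n676 = n509 := d27_2 D508 D676 (iv D509) (iv D380) D379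
def n677 : Q := act 2 n509
theorem D677 : act 2 n509 = n677 := rfl
theorem F2547 : act 4 n677 = n677 := d14_2 F1946 D677 (iv D677)
theorem F2548 : act 5 n677 = n677 := d15_2 F1947 D677 (iv D677)
theorem F2549 : act 6 n677 = n510 := d16_2 D509 D677 (iv D510) (iv D381) (iv F1468)
def n678 : Q := act 1 n510
theorem D678 : act 1 n510 = n678 := rfl
theorem F2550 : act 2 n678 = n512 := d7_2 D510 D678 (iv D512) (iv D383) (iv F1471)
theorem F2551 : act 4 n678 = n678 := d9_2 F1948 D678 (iv D678)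
theorem F2552 : act 5 n678 = n678 := d10_2 F1949 D678 (iv D678)
theorem F2553 : act 7 n678 = n678 := d12_2 F1950 D678 (iv D678)
def n679 : Q := act 3 n510
theorem D679 : act 3 n510 = n679 := rfl
theorem F2554 : act 2 n679 = n511 := d13_1 D679 (iv D511) (iv D382) (iv F1472) D510
theorem F2555 : act 5 n679 = n679 := d19_2 F1949 D679 (iv D679)
theorem F2556 : act 7 n679 = n679 := d21_2 F1950 D679 (iv D679)
def n680 : Q := act 4 n511
theorem D680 : act 4 n511 = n680 := rfl
theorem F2557 : act 1 n680 = n680 := d9_1 D680 (iv D680) F1951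
theorem F2558 : act 3 n680 = n515 := d18_1 D680 (iv D515) (iv D385) (iv F1477) D511
theorem F2559 : act 7 n680 = n680 := d24_2 F1953 D680 (iv D680)
def n681 : Q := act 0 n512
theorem D681 : act 0 n512 = n681 := rfl
def n683 : Q := act 4 n514
theorem D683 : act 4 n514 = n683 := rfl
def n684 : Q := act 5 n515
theorem D684 : act 5 n515 = n684 := rfl
def n685 : Q := act 2 n516
theorem D685 : act 2 n516 = n685 := rfl
theorem F2579 : act 3 n685 = n535 := d13_2 D516 D685 (iv D535) (iv D402) (iv F1494)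
def n686 : Q := act 4 n516
theorem D686 : act 4 n516 = n686 := rfl
def n688 : Q := act 2 n519
theorem D688 : act 2 n519 = n688 := rfl
theorem F2589 : act 0 n688 = n688 := d1_1 D688 (iv D688) F1981
theorem F2590 : act 1 n688 = n688 := d7_1 D688 (iv D688) F1982 F1509 (iv F1982)
theorem F2591 : act 4 n688 = n688 := d14_2 F1984 D688 (iv D688)
theorem F2592 : act 5 n688 = n688 := d15_2 F1985 D688 (iv D688)
def n689 : Q := act 7 n519
theorem D689 : act 7 n519 = n689 := rfl
def n690 : Q := act 6 n520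
theorem D690 : act 6 n520 = n690 := rfl
def n691 : Q := act 6 n521
theorem D691 : act 6 n521 = n691 := rfl
theorem F2607 : act 7 n691 = n522 := d27_2 D521 D691 (iv D522) (iv D391) D390
def n707 : Q := act 4 n535
theorem D707 : act 4 n535 = n707 := rfl
theorem F2670 : act 2 n707 = n536 := d14_1 D707 (iv D536) D535
def n710 : Q := act 2 n538
theorem D710 : act 2 n538 = n710 := rfl
theorem F2680 : act 0 n710 = n540 := d1_1 D710 (iv D540) (iv F2064)
theorem F2681 : act 3 n710 = n710 := d13_2 D538 D710 (iv D710) (iv D538) F1577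
theorem F2682 : act 5 n710 = n710 := d15_2 F2066 D710 (iv D710)
def n711 : Q := act 4 n538
theorem D711 : act 4 n538 = n711 := rfl
theorem F2683 : act 0 n711 = n541 := d3_1 D711 (iv D541) (iv F2064)
theorem F2684 : act 1 n711 = n711 := d9_1 D711 (iv D711) F2065
theorem F2685 : act 3 n711 = n711 := d18_1 D711 (iv D711) (iv D538) F1578 D538
theorem F2686 : act 6 n711 = n711 := d23_2 F2067 D711 (iv D711)
def n712 : Q := act 7 n538
theorem D712 : act 7 n538 = n712 := rfl
theorem F2687 : act 0 n712 = n542 := d6_1 D712 (iv D542) (iv F2064)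
theorem F2688 : act 1 n712 = n712 := d12_1 D712 (iv D712) F2065
theorem F2689 : act 3 n712 = n539 := d21_1 D712 (iv D539) D538
theorem F2690 : act 5 n712 = n712 := d26_1 D712 (iv D712) F2066
def n713 : Q := act 6 n539
theorem D713 : act 6 n539 = n713 := rfl
theorem F2691 : act 0 n713 = n543 := d5_1 D713 (iv D543) (iv F2068)
theorem F2692 : act 1 n713 = n713 := d11_1 D713 (iv D713) F2069
theorem F2693 : act 4 n713 = n713 := d23_1 D713 (iv D713) F2071
theorem F2694 : act 5 n713 = n713 := d25_1 D713 (iv D713) F2072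
theorem F2695 : act 7 n713 = n713 := d27_2 D539 D713 (iv D713) (iv D539) F1580
def n714 : Q := act 4 n540
theorem D714 : act 4 n540 = n714 := rfl
theorem F2696 : act 1 n714 = n551 := d9_1 D714 (iv D551) (iv F2073)
theorem F2697 : act 2 n714 = n541 := d14_1 D714 (iv D541) D540
def n715 : Q := act 6 n540
theorem D715 : act 6 n540 = n715 := rfl
theorem F2698 : act 1 n715 = n552 := d11_1 D715 (iv D552) (iv F2073)
theorem F2699 : act 2 n715 = n715 := d16_1 D715 (iv D715) (iv D540) F1583 D540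
theorem F2700 : act 3 n715 = n715 := d20_1 D715 (iv D715) F2074
theorem F2701 : act 5 n715 = n715 := d25_1 D715 (iv D715) F2075
def n716 : Q := act 7 n540
theorem D716 : act 7 n540 = n716 := rfl
theorem F2702 : act 1 n716 = n553 := d12_1 D716 (iv D553) (iv F2073)
theorem F2703 : act 2 n716 = n542 := d17_1 D716 (iv D542) D540
theorem F2704 : act 3 n716 = n716 := d21_1 D716 (iv D716) F2074
theorem F2705 : act 5 n716 = n716 := d26_1 D716 (iv D716) F2075
def n717 : Q := act 5 n541
theorem D717 : act 5 n541 = n717 := rfl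
theorem F2706 : act 1 n717 = n544 := d10_1 D717 (iv D544) (iv F2076)
theorem F2707 : act 3 n717 = n717 := d19_1 D717 (iv D717) F2077
theorem F2708 : act 4 n717 = n717 := d22_1 D717 (iv D717) (iv D541) F1582 D541
theorem F2709 : act 6 n717 = n717 := d25_2 F2078 D717 (iv D717)
def n718 : Q := act 7 n541
theorem D718 : act 7 n541 = n718 := rfl
theorem F2710 : act 1 n718 = n545 := d12_1 D718 (iv D545) (iv F2076)
theorem F2711 : act 3 n718 = n718 := d21_1 D718 (iv D718) F2077
theorem F2712 : act 4 n718 = n542 := d24_1 D718 (iv D542) D541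
def n719 : Q := act 6 n542
theorem D719 : act 6 n542 = n719 := rfl
theorem F2713 : act 1 n719 = n546 := d11_1 D719 (iv D546) (iv F2079)
theorem F2714 : act 3 n719 = n543 := d20_1 D719 (iv D543) (iv F2080)
theorem F2715 : act 5 n719 = n719 := d25_1 D719 (iv D719) F2081
theorem F2716 : act 7 n719 = n719 := d27_2 D542 D719 (iv D719) (iv D542) F1583
def n720 : Q := act 2 n543
theorem D720 : act 2 n543 = n720 := rfl
theorem F2717 : act 1 n720 = n720 := d7_1 D720 (iv D720) F2082 F1597 (iv F2082)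
theorem F2718 : act 4 n720 = n720 := d14_2 F2083 D720 (iv D720)
theorem F2719 : act 5 n720 = n720 := d15_2 F2084 D720 (iv D720)
theorem F2720 : act 6 n720 = n720 := d16_2 D543 D720 (iv D720) (iv D543) F1585
theorem F2721 : act 7 n720 = n720 := d17_2 F2085 D720 (iv D720)
def n721 : Q := act 7 n544
theorem D721 : act 7 n544 = n721 := rfl
theorem F2722 : act 0 n721 = n721 := d6_1 D721 (iv D721) F2086
theorem F2723 : act 2 n721 = n558 := d17_1 D721 (iv D558) (iv F2087)
theorem F2724 : act 3 n721 = n721 := d21_1 D721 (iv D721) F2088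
theorem F2725 : act 4 n721 = n721 := d24_1 D721 (iv D721) F2089
theorem F2726 : act 5 n721 = n545 := d26_1 D721 (iv D545) D544
def n722 : Q := act 6 n545
theorem D722 : act 6 n545 = n722 := rfl
theorem F2727 : act 0 n722 = n722 := d5_1 D722 (iv D722) F2091
theorem F2728 : act 3 n722 = n722 := d20_1 D722 (iv D722) F2093
theorem F2729 : act 4 n722 = n546 := d23_1 D722 (iv D546) (iv F2094)
theorem F2730 : act 7 n722 = n722 := d27_2 D545 D722 (iv D722) (iv D545) F1591
def n723 : Q := act 2 n546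
theorem D723 : act 2 n546 = n723 := rfl
theorem F2731 : act 0 n723 = n723 := d1_1 D723 (iv D723) F2095
theorem F2732 : act 3 n723 = n723 := d13_2 (iv F2096) D723 (iv D723) F2096 F1597
theorem F2733 : act 5 n723 = n723 := d15_2 F2097 D723 (iv D723)
theorem F2734 : act 6 n723 = n560 := d16_2 D546 D723 (iv D560) (iv D419) (iv F1593)
theorem F2735 : act 7 n723 = n723 := d17_2 F2098 D723 (iv D723)
def n724 : Q := act 1 n547
theorem D724 : act 1 n547 = n724 := rfl
theorem F2736 : act 2 n724 = n724 := d7_2 D547 D724 (iv D724) (iv D547) F1602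
theorem F2737 : act 3 n724 = n724 := d8_2 F2100 D724 (iv D724)
theorem F2738 : act 5 n724 = n724 := d10_2 F2101 D724 (iv D724)
def n725 : Q := act 4 n547
theorem D725 : act 4 n547 = n725 := rfl
theorem F2739 : act 0 n725 = n551 := d3_1 D725 (iv D551) (iv F2099)
theorem F2740 : act 2 n725 = n548 := d14_1 D725 (iv D548) D547
def n726 : Q := act 6 n547
theorem D726 : act 6 n547 = n726 := rfl
theorem F2741 : act 0 n726 = n552 := d5_1 D726 (iv D552) (iv F2099)
theorem F2742 : act 2 n726 = n606 := d16_1 D726 (iv D606) (iv D451) (iv F1604) D547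
theorem F2743 : act 3 n726 = n726 := d20_1 D726 (iv D726) F2100
theorem F2744 : act 5 n726 = n726 := d25_1 D726 (iv D726) F2101
def n727 : Q := act 7 n547
theorem D727 : act 7 n547 = n727 := rfl
theorem F2745 : act 0 n727 = n553 := d6_1 D727 (iv D553) (iv F2099)
theorem F2746 : act 2 n727 = n549 := d17_1 D727 (iv D549) D547
theorem F2747 : act 3 n727 = n727 := d21_1 D727 (iv D727) F2100
theorem F2748 : act 5 n727 = n727 := d26_1 D727 (iv D727) F2101
def n728 : Q := act 5 n548
theorem D728 : act 5 n548 = n728 := rfl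
theorem F2749 : act 0 n728 = n554 := d4_1 D728 (iv D554) (iv F2102)
theorem F2750 : act 1 n728 = n728 := d10_1 D728 (iv D728) F2103
theorem F2751 : act 3 n728 = n564 := d19_1 D728 (iv D564) (iv F2104)
theorem F2752 : act 4 n728 = n728 := d22_1 D728 (iv D728) (iv D548) F1603 D548
theorem F2753 : act 6 n728 = n608 := d25_2 (iv F2105) D728 (iv D608)
def n729 : Q := act 7 n548
theorem D729 : act 7 n548 = n729 := rfl
theorem F2754 : act 0 n729 = n555 := d6_1 D729 (iv D555) (iv F2102)
theorem F2755 : act 1 n729 = n729 := d12_1 D729 (iv D729) F2103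
theorem F2756 : act 3 n729 = n565 := d21_1 D729 (iv D565) (iv F2104)
theorem F2757 : act 4 n729 = n549 := d24_1 D729 (iv D549) D548
def n730 : Q := act 6 n549
theorem D730 : act 6 n549 = n730 := rfl
theorem F2758 : act 0 n730 = n556 := d5_1 D730 (iv D556) (iv F2106)
theorem F2759 : act 1 n730 = n730 := d11_1 D730 (iv D730) F2107
theorem F2760 : act 3 n730 = n550 := d20_1 D730 (iv D550) (iv F2108)
theorem F2761 : act 5 n730 = n730 := d25_1 D730 (iv D730) F2109
theorem F2762 : act 7 n730 = n610 := d27_2 D549 D730 (iv D610) (iv D453) (iv F1604)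
def n731 : Q := act 2 n550
theorem D731 : act 2 n550 = n731 := rfl
theorem F2763 : act 0 n731 = n557 := d1_1 D731 (iv D557) (iv F2110)
theorem F2764 : act 4 n731 = n567 := d14_2 (iv F2112) D731 (iv D567)
theorem F2765 : act 5 n731 = n731 := d15_2 F2113 D731 (iv D731)
theorem F2766 : act 6 n731 = n731 := d16_2 D550 D731 (iv D731) (iv D550) F1607
theorem F2767 : act 7 n731 = n611 := d17_2 (iv F2114) D731 (iv D611)
def n732 : Q := act 3 n551
theorem D732 : act 3 n551 = n732 := rfl
theorem F2768 : act 2 n732 = n568 := d13_1 D732 (iv D568) F1649 (iv F1613) (iv F2115)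
theorem F2769 : act 4 n732 = n732 := d18_2 D551 D732 (iv D732) (iv D551) F1610
def n733 : Q := act 5 n551
theorem D733 : act 5 n551 = n733 := rfl
theorem F2770 : act 2 n733 = n554 := d15_1 D733 (iv D554) (iv F2115)
theorem F2771 : act 4 n733 = n733 := d22_1 D733 (iv D733) (iv D551) F1611 D551
def n734 : Q := act 6 n551
theorem D734 : act 6 n551 = n734 := rfl
theorem F2772 : act 2 n734 = n613 := d16_1 D734 (iv D613) F1756 (iv F1614) (iv F2115)
theorem F2773 : act 4 n734 = n552 := d23_1 D734 (iv D552) D551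
def n735 : Q := act 7 n551
theorem D735 : act 7 n551 = n735 := rfl
theorem F2774 : act 2 n735 = n555 := d17_1 D735 (iv D555) (iv F2115)
theorem F2775 : act 4 n735 = n553 := d24_1 D735 (iv D553) D551
def n736 : Q := act 7 n552
theorem D736 : act 7 n552 = n736 := rfl
theorem F2776 : act 2 n736 = n615 := d17_1 D736 (iv D615) (iv F2116)
theorem F2777 : act 3 n736 = n736 := d21_1 D736 (iv D736) F2117
theorem F2778 : act 5 n736 = n736 := d26_1 D736 (iv D736) F2118
def n737 : Q := act 6 n553
theorem D737 : act 6 n553 = n737 := rfl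
theorem F2779 : act 3 n737 = n737 := d20_1 D737 (iv D737) F2120
theorem F2780 : act 5 n737 = n737 := d25_1 D737 (iv D737) F2121
def n738 : Q := act 7 n554
theorem D738 : act 7 n554 = n738 := rfl
theorem F2781 : act 1 n738 = n558 := d12_1 D738 (iv D558) (iv F2122)
theorem F2782 : act 3 n738 = n572 := d21_1 D738 (iv D572) (iv F2123)
theorem F2783 : act 4 n738 = n738 := d24_1 D738 (iv D738) F2124
theorem F2784 : act 5 n738 = n555 := d26_1 D738 (iv D555) D554
def n739 : Q := act 6 n555
theorem D739 : act 6 n555 = n739 := rfl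
theorem F2785 : act 1 n739 = n559 := d11_1 D739 (iv D559) (iv F2126)
theorem F2786 : act 3 n739 = n573 := d20_1 D739 (iv D573) (iv F2127)
theorem F2787 : act 4 n739 = n556 := d23_1 D739 (iv D556) (iv F2128)
theorem F2788 : act 7 n739 = n618 := d27_2 D555 D739 (iv D618) (iv D459) (iv F1614)
def n740 : Q := act 2 n556
theorem D740 : act 2 n556 = n740 := rfl
theorem F2789 : act 5 n740 = n740 := d15_2 F2131 D740 (iv D740)
theorem F2790 : act 7 n740 = n619 := d17_2 (iv F2132) D740 (iv D619)
def n741 : Q := act 3 n557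
theorem D741 : act 3 n557 = n741 := rfl
theorem F2791 : act 1 n741 = n741 := d8_1 D741 (iv D741) F2133
theorem F2792 : act 5 n741 = n741 := d19_2 F2135 D741 (iv D741)
theorem F2793 : act 6 n741 = n741 := d20_2 F2136 D741 (iv D741)
theorem F2794 : act 7 n741 = n620 := d21_2 (iv F2137) D741 (iv D620)
def n742 : Q := act 6 n558
theorem D742 : act 6 n558 = n742 := rfl
theorem F2795 : act 0 n742 = n742 := d5_1 D742 (iv D742) F2138
theorem F2796 : act 3 n742 = n576 := d20_1 D742 (iv D576) (iv F2139)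
theorem F2797 : act 4 n742 = n742 := d23_1 D742 (iv D742) F2140
theorem F2798 : act 5 n742 = n559 := d25_1 D742 (iv D559) (iv F2141)
theorem F2799 : act 7 n742 = n621 := d27_2 D558 D742 (iv D621) (iv D462) (iv F1625)
def n743 : Q := act 2 n559
theorem D743 : act 2 n559 = n743 := rfl
theorem F2800 : act 0 n743 = n743 := d1_1 D743 (iv D743) F2142
theorem F2801 : act 4 n743 = n560 := d14_2 (iv F2144) D743 (iv D560)
theorem F2802 : act 7 n743 = n622 := d17_2 (iv F2145) D743 (iv D622)
def n744 : Q := act 1 n560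
theorem D744 : act 1 n560 = n744 := rfl
theorem F2803 : act 3 n744 = n744 := d8_2 F2147 D744 (iv D744)
theorem F2804 : act 5 n744 = n744 := d10_2 F2148 D744 (iv D744)
theorem F2805 : act 7 n744 = n623 := d12_2 (iv F2149) D744 (iv D623)
def n745 : Q := act 4 n561
theorem D745 : act 4 n561 = n745 := rfl
theorem F2806 : act 0 n745 = n745 := d3_1 D745 (iv D745) F2150
theorem F2807 : act 1 n745 = n562 := d9_1 D745 (iv D562) D561
theorem F2808 : act 2 n745 = n745 := d14_1 D745 (iv D745) F2151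
theorem F2809 : act 6 n745 = n745 := d23_2 F2154 D745 (iv D745)
def n746 : Q := act 7 n561
theorem D746 : act 7 n561 = n746 := rfl
theorem F2810 : act 0 n746 = n746 := d6_1 D746 (iv D746) F2150
theorem F2811 : act 1 n746 = n563 := d12_1 D746 (iv D563) D561
theorem F2812 : act 2 n746 = n746 := d17_1 D746 (iv D746) F2151
theorem F2813 : act 3 n746 = n746 := d21_1 D746 (iv D746) F2152
theorem F2814 : act 5 n746 = n580 := d26_1 D746 (iv D580) (iv F2153)
def n747 : Q := act 3 n562
theorem D747 : act 3 n562 = n747 := rfl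
theorem F2815 : act 0 n747 = n568 := d2_1 D747 (iv D568) (iv F2155)
theorem F2816 : act 4 n747 = n747 := d18_2 D562 D747 (iv D747) (iv D562) F1634
theorem F2817 : act 6 n747 = n747 := d20_2 F2157 D747 (iv D747)
def n748 : Q := act 5 n562
theorem D748 : act 5 n562 = n748 := rfl
theorem F2818 : act 0 n748 = n569 := d4_1 D748 (iv D569) (iv F2155)
theorem F2819 : act 2 n748 = n564 := d15_1 D748 (iv D564) (iv F2156)
theorem F2820 : act 4 n748 = n582 := d22_1 D748 (iv D582) (iv D434) (iv F1635) D562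
theorem F2821 : act 6 n748 = n748 := d25_2 F2157 D748 (iv D748)
def n749 : Q := act 7 n562
theorem D749 : act 7 n562 = n749 := rfl
theorem F2822 : act 0 n749 = n570 := d6_1 D749 (iv D570) (iv F2155)
theorem F2823 : act 2 n749 = n565 := d17_1 D749 (iv D565) (iv F2156)
theorem F2824 : act 4 n749 = n563 := d24_1 D749 (iv D563) D562
def n750 : Q := act 6 n563
theorem D750 : act 6 n563 = n750 := rfl
theorem F2825 : act 0 n750 = n571 := d5_1 D750 (iv D571) (iv F2158)
theorem F2826 : act 3 n750 = n750 := d20_1 D750 (iv D750) F2160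
theorem F2827 : act 5 n750 = n584 := d25_1 D750 (iv D584) (iv F2161)
theorem F2828 : act 7 n750 = n750 := d27_2 D563 D750 (iv D750) (iv D563) F1636
def n751 : Q := act 7 n564
theorem D751 : act 7 n564 = n751 := rfl
theorem F2829 : act 0 n751 = n572 := d6_1 D751 (iv D572) (iv F2162)
theorem F2830 : act 1 n751 = n751 := d12_1 D751 (iv D751) F2163
theorem F2831 : act 4 n751 = n585 := d24_1 D751 (iv D585) (iv F2164)
theorem F2832 : act 5 n751 = n565 := d26_1 D751 (iv D565) D564
def n752 : Q := act 6 n565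
theorem D752 : act 6 n565 = n752 := rfl
theorem F2833 : act 0 n752 = n573 := d5_1 D752 (iv D573) (iv F2166)
theorem F2834 : act 1 n752 = n752 := d11_1 D752 (iv D752) F2167
theorem F2835 : act 4 n752 = n566 := d23_1 D752 (iv D566) (iv F2168)
theorem F2836 : act 7 n752 = n625 := d27_2 D565 D752 (iv D625) (iv D466) (iv F1639)
def n753 : Q := act 2 n566
theorem D753 : act 2 n566 = n753 := rfl
theorem F2837 : act 0 n753 = n574 := d1_1 D753 (iv D574) (iv F2169)
theorem F2838 : act 5 n753 = n587 := d15_2 (iv F2172) D753 (iv D587)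
theorem F2839 : act 7 n753 = n626 := d17_2 (iv F2173) D753 (iv D626)
def n754 : Q := act 1 n567
theorem D754 : act 1 n567 = n754 := rfl
theorem F2840 : act 0 n754 = n754 := d0_1 D754 (iv D754) F2174 F1664 (iv F2174)
theorem F2841 : act 2 n754 = n754 := d7_2 D567 D754 (iv D754) (iv D567) F1645
theorem F2842 : act 5 n754 = n588 := d10_2 (iv F2175) D754 (iv D588)
theorem F2843 : act 6 n754 = n754 := d11_2 F2176 D754 (iv D754)
theorem F2844 : act 7 n754 = n627 := d12_2 (iv F2177) D754 (iv D627)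
def n755 : Q := act 3 n567
theorem D755 : act 3 n567 = n755 := rfl
theorem F2845 : act 0 n755 = n575 := d2_1 D755 (iv D575) (iv F2174)
theorem F2846 : act 5 n755 = n589 := d19_2 (iv F2175) D755 (iv D589)
theorem F2847 : act 6 n755 = n755 := d20_2 F2176 D755 (iv D755)
theorem F2848 : act 7 n755 = n628 := d21_2 (iv F2177) D755 (iv D628)
def n756 : Q := act 5 n568
theorem D756 : act 5 n568 = n756 := rfl
theorem F2849 : act 1 n756 = n756 := d10_1 D756 (iv D756) F2178
theorem F2850 : act 3 n756 = n569 := d19_1 D756 (iv D569) D568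
theorem F2851 : act 6 n756 = n756 := d25_2 F2180 D756 (iv D756)
def n757 : Q := act 7 n568
theorem D757 : act 7 n568 = n757 := rfl
theorem F2852 : act 1 n757 = n757 := d12_1 D757 (iv D757) F2178
theorem F2853 : act 3 n757 = n570 := d21_1 D757 (iv D570) D568
theorem F2854 : act 4 n757 = n757 := d24_1 D757 (iv D757) F2179
def n758 : Q := act 7 n569
theorem D758 : act 7 n569 = n758 := rfl
theorem F2855 : act 1 n758 = n758 := d12_1 D758 (iv D758) F2181
theorem F2856 : act 2 n758 = n572 := d17_1 D758 (iv D572) (iv F2182)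
theorem F2857 : act 4 n758 = n592 := d24_1 D758 (iv D592) (iv F2183)
theorem F2858 : act 5 n758 = n570 := d26_1 D758 (iv D570) D569
def n759 : Q := act 6 n570
theorem D759 : act 6 n570 = n759 := rfl
theorem F2859 : act 1 n759 = n759 := d11_1 D759 (iv D759) F2185
theorem F2860 : act 4 n759 = n571 := d23_1 D759 (iv D571) (iv F2187)
theorem F2861 : act 7 n759 = n759 := d27_2 D570 D759 (iv D759) (iv D570) F1650
def n760 : Q := act 2 n571
theorem D760 : act 2 n571 = n760 := rfl
theorem F2862 : act 5 n760 = n594 := d15_2 (iv F2190) D760 (iv D594)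
theorem F2863 : act 6 n760 = n574 := d16_2 D571 D760 (iv D574) (iv D428) (iv F1652)
theorem F2864 : act 7 n760 = n760 := d17_2 F2191 D760 (iv D760)
def n761 : Q := act 6 n572
theorem D761 : act 6 n572 = n761 := rfl
theorem F2865 : act 1 n761 = n576 := d11_1 D761 (iv D576) (iv F2192)
theorem F2866 : act 4 n761 = n595 := d23_1 D761 (iv D595) (iv F2193)
theorem F2867 : act 5 n761 = n573 := d25_1 D761 (iv D573) (iv F2194)
theorem F2868 : act 7 n761 = n629 := d27_2 D572 D761 (iv D629) (iv D469) (iv F1657)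
def n762 : Q := act 2 n573
theorem D762 : act 2 n573 = n762 := rfl
theorem F2869 : act 4 n762 = n574 := d14_2 (iv F2196) D762 (iv D574)
theorem F2870 : act 7 n762 = n630 := d17_2 (iv F2197) D762 (iv D630)
def n763 : Q := act 1 n574
theorem D763 : act 1 n574 = n763 := rfl
theorem F2871 : act 2 n763 = n578 := d7_2 D574 D763 (iv D578) (iv D432) (iv F1660)
theorem F2872 : act 5 n763 = n597 := d10_2 (iv F2198) D763 (iv D597)
theorem F2873 : act 7 n763 = n631 := d12_2 (iv F2199) D763 (iv D631)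
def n764 : Q := act 3 n574
theorem D764 : act 3 n574 = n764 := rfl
theorem F2874 : act 2 n764 = n575 := d13_1 D764 (iv D575) (iv D429) (iv F1661) D574
theorem F2875 : act 5 n764 = n598 := d19_2 (iv F2198) D764 (iv D598)
theorem F2876 : act 7 n764 = n632 := d21_2 (iv F2199) D764 (iv D632)
def n765 : Q := act 4 n575
theorem D765 : act 4 n575 = n765 := rfl
theorem F2877 : act 1 n765 = n765 := d9_1 D765 (iv D765) F2200
theorem F2878 : act 6 n765 = n765 := d23_2 F2202 D765 (iv D765)
theorem F2879 : act 7 n765 = n633 := d24_2 (iv F2203) D765 (iv D633)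
def n766 : Q := act 2 n576
theorem D766 : act 2 n576 = n766 := rfl
theorem F2880 : act 0 n766 = n766 := d1_1 D766 (iv D766) F2204
theorem F2881 : act 4 n766 = n600 := d14_2 (iv F2205) D766 (iv D600)
theorem F2882 : act 5 n766 = n577 := d15_2 (iv F2206) D766 (iv D577)
theorem F2883 : act 6 n766 = n766 := d16_2 D576 D766 (iv D766) (iv D576) F1669
theorem F2884 : act 7 n766 = n634 := d17_2 (iv F2207) D766 (iv D634)
def n767 : Q := act 1 n577
theorem D767 : act 1 n577 = n767 := rfl
theorem F2885 : act 4 n767 = n578 := d9_2 (iv F2209) D767 (iv D578)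
theorem F2886 : act 6 n767 = n767 := d11_2 F2210 D767 (iv D767)
theorem F2887 : act 7 n767 = n635 := d12_2 (iv F2211) D767 (iv D635)
def n768 : Q := act 3 n577
theorem D768 : act 3 n577 = n768 := rfl
theorem F2888 : act 0 n768 = n768 := d2_1 D768 (iv D768) F2208
theorem F2889 : act 4 n768 = n768 := d18_2 (iv F2209) D768 (iv D768) F2209 F1676
theorem F2890 : act 6 n768 = n768 := d20_2 F2210 D768 (iv D768)
theorem F2891 : act 7 n768 = n636 := d21_2 (iv F2211) D768 (iv D636)
def n769 : Q := act 0 n578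
theorem D769 : act 0 n578 = n769 := rfl
theorem F2892 : act 1 n769 = n769 := d0_2 D578 D769 (iv D769) (iv D578) F1675
theorem F2893 : act 3 n769 = n769 := d2_2 F2212 D769 (iv D769)
theorem F2894 : act 5 n769 = n603 := d4_2 (iv F2213) D769 (iv D603)
theorem F2895 : act 6 n769 = n769 := d5_2 F2214 D769 (iv D769)
theorem F2896 : act 7 n769 = n637 := d6_2 (iv F2215) D769 (iv D637)
def n770 : Q := act 3 n579
theorem D770 : act 3 n579 = n770 := rfl
theorem F2897 : act 0 n770 = n770 := d2_1 D770 (iv D770) F2216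
theorem F2898 : act 1 n770 = n581 := d8_1 D770 (iv D581) (iv F2217)
theorem F2899 : act 4 n770 = n770 := d18_2 D579 D770 (iv D770) (iv D579) F1682
theorem F2900 : act 6 n770 = n770 := d20_2 F2219 D770 (iv D770)
def n771 : Q := act 5 n579
theorem D771 : act 5 n579 = n771 := rfl
theorem F2901 : act 0 n771 = n771 := d4_1 D771 (iv D771) F2216
theorem F2902 : act 1 n771 = n582 := d10_1 D771 (iv D582) (iv F2217)
theorem F2903 : act 2 n771 = n771 := d15_1 D771 (iv D771) F2218
theorem F2904 : act 6 n771 = n771 := d25_2 F2219 D771 (iv D771)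
def n772 : Q := act 7 n579
theorem D772 : act 7 n579 = n772 := rfl
theorem F2905 : act 0 n772 = n772 := d6_1 D772 (iv D772) F2216
theorem F2906 : act 1 n772 = n583 := d12_1 D772 (iv D583) (iv F2217)
theorem F2907 : act 2 n772 = n772 := d17_1 D772 (iv D772) F2218
theorem F2908 : act 4 n772 = n580 := d24_1 D772 (iv D580) D579
def n773 : Q := act 6 n580
theorem D773 : act 6 n580 = n773 := rfl
theorem F2909 : act 0 n773 = n773 := d5_1 D773 (iv D773) F2220
theorem F2910 : act 1 n773 = n584 := d11_1 D773 (iv D584) (iv F2221)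
theorem F2911 : act 3 n773 = n773 := d20_1 D773 (iv D773) F2223
theorem F2912 : act 7 n773 = n773 := d27_2 D580 D773 (iv D773) (iv D580) F1683
def n774 : Q := act 5 n581
theorem D774 : act 5 n581 = n774 := rfl
theorem F2913 : act 0 n774 = n590 := d4_1 D774 (iv D590) (iv F2224)
theorem F2914 : act 2 n774 = n774 := d15_1 D774 (iv D774) F2225
theorem F2915 : act 3 n774 = n582 := d19_1 D774 (iv D582) D581
theorem F2916 : act 6 n774 = n774 := d25_2 F2227 D774 (iv D774)
def n775 : Q := act 7 n581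
theorem D775 : act 7 n581 = n775 := rfl
theorem F2917 : act 0 n775 = n591 := d6_1 D775 (iv D591) (iv F2224)
theorem F2918 : act 2 n775 = n775 := d17_1 D775 (iv D775) F2225
theorem F2919 : act 3 n775 = n583 := d21_1 D775 (iv D583) D581
theorem F2920 : act 4 n775 = n775 := d24_1 D775 (iv D775) F2226
def n776 : Q := act 7 n582
theorem D776 : act 7 n582 = n776 := rfl
theorem F2921 : act 0 n776 = n592 := d6_1 D776 (iv D592) (iv F2228)
theorem F2922 : act 2 n776 = n585 := d17_1 D776 (iv D585) (iv F2229)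
theorem F2923 : act 5 n776 = n583 := d26_1 D776 (iv D583) D582
def n777 : Q := act 6 n583
theorem D777 : act 6 n583 = n777 := rfl
theorem F2924 : act 0 n777 = n593 := d5_1 D777 (iv D593) (iv F2231)
theorem F2925 : act 4 n777 = n584 := d23_1 D777 (iv D584) (iv F2233)
theorem F2926 : act 7 n777 = n777 := d27_2 D583 D777 (iv D777) (iv D583) F1686
def n778 : Q := act 2 n584
theorem D778 : act 2 n584 = n778 := rfl
theorem F2927 : act 0 n778 = n594 := d1_1 D778 (iv D594) (iv F2234)
theorem F2928 : act 6 n778 = n587 := d16_2 D584 D778 (iv D587) (iv D438) (iv F1688)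
theorem F2929 : act 7 n778 = n778 := d17_2 F2236 D778 (iv D778)
def n779 : Q := act 6 n585
theorem D779 : act 6 n585 = n779 := rfl
theorem F2930 : act 0 n779 = n595 := d5_1 D779 (iv D595) (iv F2237)
theorem F2931 : act 1 n779 = n779 := d11_1 D779 (iv D779) F2238
theorem F2932 : act 3 n779 = n779 := d20_1 D779 (iv D779) F2239
theorem F2933 : act 5 n779 = n586 := d25_1 D779 (iv D586) (iv F2240)
theorem F2934 : act 7 n779 = n638 := d27_2 D585 D779 (iv D638) (iv D476) (iv F1693)
def n780 : Q := act 2 n586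
theorem D780 : act 2 n586 = n780 := rfl
theorem F2935 : act 0 n780 = n596 := d1_1 D780 (iv D596) (iv F2241)
theorem F2936 : act 4 n780 = n587 := d14_2 (iv F2244) D780 (iv D587)
theorem F2937 : act 7 n780 = n639 := d17_2 (iv F2245) D780 (iv D639)
def n781 : Q := act 1 n587
theorem D781 : act 1 n587 = n781 := rfl
theorem F2938 : act 2 n781 = n781 := d7_2 D587 D781 (iv D781) (iv D587) F1699
theorem F2939 : act 7 n781 = n640 := d12_2 (iv F2247) D781 (iv D640)
def n782 : Q := act 3 n587
theorem D782 : act 3 n587 = n782 := rfl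
theorem F2940 : act 0 n782 = n598 := d2_1 D782 (iv D598) (iv F2246)
theorem F2941 : act 2 n782 = n589 := d13_1 D782 (iv D589) (iv D439) (iv F1700) D587
theorem F2942 : act 7 n782 = n641 := d21_2 (iv F2247) D782 (iv D641)
def n783 : Q := act 3 n588
theorem D783 : act 3 n588 = n783 := rfl
theorem F2944 : act 1 n783 = n589 := d8_1 D783 (iv D589) D588
theorem F2946 : act 7 n783 = n642 := d21_2 (iv F2252) D783 (iv D642)
def n784 : Q := act 4 n589
theorem D784 : act 4 n589 = n784 := rfl
theorem F2947 : act 0 n784 = n599 := d3_1 D784 (iv D599) (iv F2253)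
def n785 : Q := act 4 n590
theorem D785 : act 4 n590 = n785 := rfl
theorem F2951 : act 1 n785 = n785 := d9_1 D785 (iv D785) F2256
theorem F2952 : act 2 n785 = n785 := d14_1 D785 (iv D785) F2257
theorem F2953 : act 5 n785 = n785 := d22_2 D590 D785 (iv D785) (iv D590) F1708
theorem F2954 : act 6 n785 = n785 := d23_2 F2259 D785 (iv D785)
def n786 : Q := act 7 n590
theorem D786 : act 7 n590 = n786 := rfl
theorem F2955 : act 1 n786 = n786 := d12_1 D786 (iv D786) F2256
theorem F2956 : act 2 n786 = n786 := d17_1 D786 (iv D786) F2257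
theorem F2957 : act 3 n786 = n592 := d21_1 D786 (iv D592) (iv F2258)
theorem F2958 : act 5 n786 = n591 := d26_1 D786 (iv D591) D590
def n787 : Q := act 6 n591
theorem D787 : act 6 n591 = n787 := rfl
theorem F2959 : act 1 n787 = n787 := d11_1 D787 (iv D787) F2260
theorem F2960 : act 3 n787 = n593 := d20_1 D787 (iv D593) (iv F2262)
theorem F2961 : act 4 n787 = n787 := d23_1 D787 (iv D787) F2263
theorem F2962 : act 7 n787 = n787 := d27_2 D591 D787 (iv D787) (iv D591) F1709
def n788 : Q := act 6 n592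
theorem D788 : act 6 n592 = n788 := rfl
theorem F2963 : act 1 n788 = n788 := d11_1 D788 (iv D788) F2264
theorem F2964 : act 5 n788 = n593 := d25_1 D788 (iv D593) (iv F2266)
theorem F2965 : act 7 n788 = n788 := d27_2 D592 D788 (iv D788) (iv D592) F1712
def n789 : Q := act 2 n593
theorem D789 : act 2 n593 = n789 := rfl
theorem F2966 : act 4 n789 = n594 := d14_2 (iv F2268) D789 (iv D594)
theorem F2967 : act 6 n789 = n596 := d16_2 D593 D789 (iv D596) (iv D445) (iv F1714)
theorem F2968 : act 7 n789 = n789 := d17_2 F2269 D789 (iv D789)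
def n790 : Q := act 1 n594
theorem D790 : act 1 n594 = n790 := rfl
theorem F2969 : act 2 n790 = n790 := d7_2 D594 D790 (iv D790) (iv D594) F1716
theorem F2970 : act 6 n790 = n597 := d11_2 (iv F2270) D790 (iv D597)
theorem F2971 : act 7 n790 = n790 := d12_2 F2271 D790 (iv D790)
def n791 : Q := act 3 n594
theorem D791 : act 3 n594 = n791 := rfl
theorem F2972 : act 2 n791 = n791 := d13_1 D791 (iv D791) (iv D594) F1717 D594
theorem F2973 : act 6 n791 = n598 := d20_2 (iv F2270) D791 (iv D598)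
theorem F2974 : act 7 n791 = n791 := d21_2 F2271 D791 (iv D791)
def n792 : Q := act 2 n595
theorem D792 : act 2 n595 = n792 := rfl
theorem F2975 : act 5 n792 = n596 := d15_2 (iv F2274) D792 (iv D596)
theorem F2976 : act 7 n792 = n644 := d17_2 (iv F2275) D792 (iv D644)
def n793 : Q := act 1 n596
theorem D793 : act 1 n596 = n793 := rfl
theorem F2977 : act 2 n793 = n601 := d7_2 D596 D793 (iv D601) (iv D449) (iv F1722)
theorem F2978 : act 4 n793 = n597 := d9_2 (iv F2276) D793 (iv D597)
theorem F2979 : act 7 n793 = n645 := d12_2 (iv F2277) D793 (iv D645)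
def n794 : Q := act 3 n596
theorem D794 : act 3 n596 = n794 := rfl
theorem F2980 : act 2 n794 = n794 := d13_1 D794 (iv D794) (iv D596) F1723 D596
theorem F2981 : act 7 n794 = n646 := d21_2 (iv F2277) D794 (iv D646)
def n795 : Q := act 0 n597
theorem D795 : act 0 n597 = n795 := rfl
theorem F2982 : act 2 n795 = n603 := d1_2 (iv F2278) D795 (iv D603)
theorem F2983 : act 7 n795 = n647 := d6_2 (iv F2279) D795 (iv D647)
def n796 : Q := act 3 n597
theorem D796 : act 3 n597 = n796 := rfl
theorem F2984 : act 1 n796 = n598 := d8_1 D796 (iv D598) D597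
theorem F2985 : act 2 n796 = n796 := d13_1 D796 (iv D796) F2278 F1738 (iv F2278)
theorem F2986 : act 7 n796 = n648 := d21_2 (iv F2279) D796 (iv D648)
def n797 : Q := act 4 n598
theorem D797 : act 4 n598 = n797 := rfl
theorem F2987 : act 2 n797 = n599 := d14_1 D797 (iv D599) (iv F2280)
def n798 : Q := act 5 n599
theorem D798 : act 5 n599 = n798 := rfl
def n799 : Q := act 1 n600
theorem D799 : act 1 n600 = n799 := rfl
theorem F2993 : act 5 n799 = n601 := d10_2 (iv F2287) D799 (iv D601)
theorem F2995 : act 7 n799 = n651 := d12_2 (iv F2289) D799 (iv D651)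
def n800 : Q := act 3 n600
theorem D800 : act 3 n600 = n800 := rfl
def n801 : Q := act 0 n601
theorem D801 : act 0 n601 = n801 := rfl
theorem F3003 : act 6 n801 = n801 := d5_2 F2291 D801 (iv D801)
theorem F3004 : act 7 n801 = n653 := d6_2 (iv F2292) D801 (iv D653)
def n802 : Q := act 3 n601
theorem D802 : act 3 n601 = n802 := rfl
theorem F3005 : act 1 n802 = n602 := d8_1 D802 (iv D602) D601
theorem F3007 : act 6 n802 = n802 := d20_2 F2291 D802 (iv D802)
theorem F3008 : act 7 n802 = n654 := d21_2 (iv F2292) D802 (iv D654)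
def n803 : Q := act 4 n604
theorem D803 : act 4 n604 = n803 := rfl
theorem F3009 : act 0 n803 = n803 := d3_1 D803 (iv D803) F2302
theorem F3010 : act 1 n803 = n605 := d9_1 D803 (iv D605) D604
theorem F3011 : act 2 n803 = n803 := d14_1 D803 (iv D803) F2303
theorem F3012 : act 3 n803 = n803 := d18_1 D803 (iv D803) F2304 F1921 (iv F2304)
def n804 : Q := act 6 n604
theorem D804 : act 6 n604 = n804 := rfl
theorem F3013 : act 0 n804 = n804 := d5_1 D804 (iv D804) F2302
theorem F3014 : act 1 n804 = n606 := d11_1 D804 (iv D606) D604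
theorem F3015 : act 3 n804 = n669 := d20_1 D804 (iv D669) (iv F2304)
theorem F3016 : act 5 n804 = n804 := d25_1 D804 (iv D804) F2305
def n805 : Q := act 7 n604
theorem D805 : act 7 n604 = n805 := rfl
theorem F3017 : act 0 n805 = n805 := d6_1 D805 (iv D805) F2302
theorem F3018 : act 1 n805 = n607 := d12_1 D805 (iv D607) D604
theorem F3019 : act 2 n805 = n805 := d17_1 D805 (iv D805) F2303
theorem F3020 : act 3 n805 = n670 := d21_1 D805 (iv D670) (iv F2304)
theorem F3021 : act 5 n805 = n805 := d26_1 D805 (iv D805) F2305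
def n806 : Q := act 5 n605
theorem D806 : act 5 n605 = n806 := rfl
theorem F3022 : act 0 n806 = n612 := d4_1 D806 (iv D612) (iv F2306)
theorem F3023 : act 2 n806 = n608 := d15_1 D806 (iv D608) (iv F2307)
theorem F3024 : act 3 n806 = n806 := d19_1 D806 (iv D806) F2308
theorem F3025 : act 4 n806 = n806 := d22_1 D806 (iv D806) (iv D605) F1743 D605
def n807 : Q := act 6 n605
theorem D807 : act 6 n605 = n807 := rfl
theorem F3026 : act 0 n807 = n613 := d5_1 D807 (iv D613) (iv F2306)
theorem F3027 : act 3 n807 = n807 := d20_1 D807 (iv D807) F2308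
theorem F3028 : act 4 n807 = n606 := d23_1 D807 (iv D606) D605
def n808 : Q := act 7 n605
theorem D808 : act 7 n605 = n808 := rfl
theorem F3029 : act 0 n808 = n614 := d6_1 D808 (iv D614) (iv F2306)
theorem F3030 : act 2 n808 = n609 := d17_1 D808 (iv D609) (iv F2307)
theorem F3031 : act 3 n808 = n808 := d21_1 D808 (iv D808) F2308
theorem F3032 : act 4 n808 = n607 := d24_1 D808 (iv D607) D605
def n809 : Q := act 7 n606
theorem D809 : act 7 n606 = n809 := rfl
theorem F3033 : act 0 n809 = n615 := d6_1 D809 (iv D615) (iv F2309)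
theorem F3034 : act 3 n809 = n671 := d21_1 D809 (iv D671) (iv F2310)
theorem F3035 : act 5 n809 = n809 := d26_1 D809 (iv D809) F2311
def n810 : Q := act 6 n607
theorem D810 : act 6 n607 = n810 := rfl
theorem F3036 : act 0 n810 = n616 := d5_1 D810 (iv D616) (iv F2312)
theorem F3037 : act 3 n810 = n672 := d20_1 D810 (iv D672) (iv F2314)
theorem F3038 : act 5 n810 = n810 := d25_1 D810 (iv D810) F2315
def n811 : Q := act 7 n608
theorem D811 : act 7 n608 = n811 := rfl
theorem F3039 : act 0 n811 = n617 := d6_1 D811 (iv D617) (iv F2316)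
theorem F3040 : act 1 n811 = n811 := d12_1 D811 (iv D811) F2317
theorem F3041 : act 3 n811 = n624 := d21_1 D811 (iv D624) (iv F2318)
theorem F3042 : act 4 n811 = n811 := d24_1 D811 (iv D811) F2319
theorem F3043 : act 5 n811 = n609 := d26_1 D811 (iv D609) D608
def n812 : Q := act 6 n609
theorem D812 : act 6 n609 = n812 := rfl
theorem F3044 : act 0 n812 = n618 := d5_1 D812 (iv D618) (iv F2320)
theorem F3045 : act 1 n812 = n812 := d11_1 D812 (iv D812) F2321
theorem F3046 : act 3 n812 = n625 := d20_1 D812 (iv D625) (iv F2322)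
theorem F3047 : act 4 n812 = n610 := d23_1 D812 (iv D610) (iv F2323)
def n813 : Q := act 2 n610
theorem D813 : act 2 n610 = n813 := rfl
theorem F3048 : act 0 n813 = n619 := d1_1 D813 (iv D619) (iv F2324)
theorem F3049 : act 5 n813 = n813 := d15_2 F2327 D813 (iv D813)
def n814 : Q := act 1 n611
theorem D814 : act 1 n611 = n814 := rfl
theorem F3050 : act 0 n814 = n814 := d0_1 D814 (iv D814) F2328 F1774 (iv F2328)
theorem F3051 : act 2 n814 = n814 := d7_2 D611 D814 (iv D814) (iv D611) F1752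
theorem F3052 : act 4 n814 = n627 := d9_2 (iv F2329) D814 (iv D627)
theorem F3053 : act 5 n814 = n814 := d10_2 F2330 D814 (iv D814)
theorem F3054 : act 6 n814 = n674 := d11_2 (iv F2331) D814 (iv D674)
def n815 : Q := act 3 n611
theorem D815 : act 3 n611 = n815 := rfl
theorem F3055 : act 0 n815 = n620 := d2_1 D815 (iv D620) (iv F2328)
theorem F3056 : act 5 n815 = n815 := d19_2 F2330 D815 (iv D815)
theorem F3057 : act 6 n815 = n675 := d20_2 (iv F2331) D815 (iv D675)
def n816 : Q := act 6 n612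
theorem D816 : act 6 n612 = n816 := rfl
theorem F3058 : act 1 n816 = n816 := d11_1 D816 (iv D816) F2332
theorem F3059 : act 3 n816 = n816 := d20_1 D816 (iv D816) F2334
theorem F3060 : act 4 n816 = n816 := d23_1 D816 (iv D816) F2335
theorem F3061 : act 5 n816 = n613 := d25_1 D816 (iv D613) D612
def n817 : Q := act 7 n612
theorem D817 : act 7 n612 = n817 := rfl
theorem F3062 : act 1 n817 = n817 := d12_1 D817 (iv D817) F2332
theorem F3063 : act 2 n817 = n617 := d17_1 D817 (iv D617) (iv F2333)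
theorem F3064 : act 3 n817 = n817 := d21_1 D817 (iv D817) F2334
theorem F3065 : act 4 n817 = n817 := d24_1 D817 (iv D817) F2335
theorem F3066 : act 5 n817 = n614 := d26_1 D817 (iv D614) D612
def n818 : Q := act 7 n613
theorem D818 : act 7 n613 = n818 := rfl
theorem F3067 : act 1 n818 = n818 := d12_1 D818 (iv D818) F2336
theorem F3068 : act 3 n818 = n818 := d21_1 D818 (iv D818) F2337
theorem F3069 : act 4 n818 = n615 := d24_1 D818 (iv D615) (iv F2338)
def n819 : Q := act 6 n614
theorem D819 : act 6 n614 = n819 := rfl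
theorem F3070 : act 1 n819 = n819 := d11_1 D819 (iv D819) F2339
theorem F3071 : act 3 n819 = n819 := d20_1 D819 (iv D819) F2341
theorem F3072 : act 4 n819 = n616 := d23_1 D819 (iv D616) (iv F2342)
def n820 : Q := act 6 n615
theorem D820 : act 6 n615 = n820 := rfl
theorem F3073 : act 1 n820 = n820 := d11_1 D820 (iv D820) F2343
theorem F3074 : act 3 n820 = n676 := d20_1 D820 (iv D676) (iv F2344)
theorem F3075 : act 5 n820 = n820 := d25_1 D820 (iv D820) F2345
theorem F3076 : act 7 n820 = n616 := d27_2 D615 D820 (iv D616) (iv D457) D456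
def n821 : Q := act 2 n616
theorem D821 : act 2 n616 = n821 := rfl
theorem F3077 : act 5 n821 = n821 := d15_2 F2348 D821 (iv D821)
theorem F3078 : act 6 n821 = n619 := d16_2 D616 D821 (iv D619) (iv D460) (iv F1762)
def n822 : Q := act 6 n617
theorem D822 : act 6 n617 = n822 := rfl
theorem F3079 : act 1 n822 = n621 := d11_1 D822 (iv D621) (iv F2349)
theorem F3080 : act 3 n822 = n629 := d20_1 D822 (iv D629) (iv F2350)
theorem F3081 : act 4 n822 = n822 := d23_1 D822 (iv D822) F2351
theorem F3082 : act 5 n822 = n618 := d25_1 D822 (iv D618) (iv F2352)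
def n823 : Q := act 2 n618
theorem D823 : act 2 n618 = n823 := rfl
theorem F3083 : act 4 n823 = n619 := d14_2 (iv F2355) D823 (iv D619)
def n824 : Q := act 1 n619
theorem D824 : act 1 n619 = n824 := rfl
theorem F3084 : act 2 n824 = n623 := d7_2 D619 D824 (iv D623) (iv D464) (iv F1771)
theorem F3085 : act 5 n824 = n824 := d10_2 F2356 D824 (iv D824)
def n825 : Q := act 3 n619
theorem D825 : act 3 n619 = n825 := rfl
theorem F3086 : act 2 n825 = n620 := d13_1 D825 (iv D620) (iv D461) (iv F1772) D619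
theorem F3087 : act 5 n825 = n825 := d19_2 F2356 D825 (iv D825)
def n826 : Q := act 4 n620
theorem D826 : act 4 n620 = n826 := rfl
theorem F3088 : act 1 n826 = n826 := d9_1 D826 (iv D826) F2357
theorem F3089 : act 3 n826 = n633 := d18_1 D826 (iv D633) (iv D472) (iv F1775) D620
theorem F3090 : act 6 n826 = n680 := d23_2 (iv F2359) D826 (iv D680)
def n827 : Q := act 2 n621
theorem D827 : act 2 n621 = n827 := rfl
theorem F3091 : act 0 n827 = n827 := d1_1 D827 (iv D827) F2360
theorem F3092 : act 4 n827 = n827 := d14_2 F2362 D827 (iv D827)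
theorem F3093 : act 5 n827 = n622 := d15_2 (iv F2363) D827 (iv D622)
theorem F3094 : act 6 n827 = n827 := d16_2 D621 D827 (iv D827) (iv D621) F1779
def n828 : Q := act 1 n622
theorem D828 : act 1 n622 = n828 := rfl
theorem F3095 : act 4 n828 = n623 := d9_2 (iv F2365) D828 (iv D623)
theorem F3096 : act 6 n828 = n828 := d11_2 F2366 D828 (iv D828)
def n829 : Q := act 3 n622
theorem D829 : act 3 n622 = n829 := rfl
theorem F3097 : act 0 n829 = n829 := d2_1 D829 (iv D829) F2364
theorem F3098 : act 2 n829 = n636 := d13_1 D829 (iv D636) (iv D474) (iv F1784) D622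
theorem F3099 : act 4 n829 = n829 := d18_2 (iv F2365) D829 (iv D829) F2365 F1787
theorem F3100 : act 6 n829 = n829 := d20_2 F2366 D829 (iv D829)
def n830 : Q := act 0 n623
theorem D830 : act 0 n623 = n830 := rfl
theorem F3101 : act 1 n830 = n830 := d0_2 D623 D830 (iv D830) (iv D623) F1786
theorem F3102 : act 3 n830 = n830 := d2_2 F2367 D830 (iv D830)
theorem F3103 : act 5 n830 = n830 := d4_2 F2368 D830 (iv D830)
theorem F3104 : act 6 n830 = n830 := d5_2 F2369 D830 (iv D830)
def n831 : Q := act 6 n624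
theorem D831 : act 6 n624 = n831 := rfl
theorem F3105 : act 0 n831 = n629 := d5_1 D831 (iv D629) (iv F2370)
theorem F3106 : act 1 n831 = n831 := d11_1 D831 (iv D831) F2371
theorem F3107 : act 4 n831 = n638 := d23_1 D831 (iv D638) (iv F2373)
theorem F3108 : act 5 n831 = n625 := d25_1 D831 (iv D625) (iv F2374)
def n832 : Q := act 2 n625
theorem D832 : act 2 n625 = n832 := rfl
theorem F3109 : act 0 n832 = n630 := d1_1 D832 (iv D630) (iv F2375)
theorem F3110 : act 4 n832 = n626 := d14_2 (iv F2377) D832 (iv D626)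
theorem F3111 : act 6 n832 = n832 := d16_2 D625 D832 (iv D832) (iv D625) F1796
def n833 : Q := act 1 n626
theorem D833 : act 1 n626 = n833 := rfl
theorem F3112 : act 2 n833 = n833 := d7_2 D626 D833 (iv D833) (iv D626) F1799
theorem F3113 : act 5 n833 = n640 := d10_2 (iv F2379) D833 (iv D640)
theorem F3114 : act 6 n833 = n833 := d11_2 F2380 D833 (iv D833)
def n834 : Q := act 3 n626
theorem D834 : act 3 n626 = n834 := rfl
theorem F3115 : act 0 n834 = n632 := d2_1 D834 (iv D632) (iv F2378)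
theorem F3116 : act 2 n834 = n628 := d13_1 D834 (iv D628) (iv D468) (iv F1800) D626
theorem F3117 : act 5 n834 = n641 := d19_2 (iv F2379) D834 (iv D641)
theorem F3118 : act 6 n834 = n834 := d20_2 F2380 D834 (iv D834)
def n835 : Q := act 3 n627
theorem D835 : act 3 n627 = n835 := rfl
theorem F3120 : act 1 n835 = n628 := d8_1 D835 (iv D628) D627
def n836 : Q := act 4 n628
theorem D836 : act 4 n628 = n836 := rfl
theorem F3123 : act 0 n836 = n633 := d3_1 D836 (iv D633) (iv F2385)
theorem F3124 : act 6 n836 = n683 := d23_2 (iv F2387) D836 (iv D683)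
def n837 : Q := act 2 n629
theorem D837 : act 2 n629 = n837 := rfl
theorem F3125 : act 4 n837 = n644 := d14_2 (iv F2389) D837 (iv D644)
theorem F3126 : act 5 n837 = n630 := d15_2 (iv F2390) D837 (iv D630)
theorem F3127 : act 6 n837 = n837 := d16_2 D629 D837 (iv D837) (iv D629) F1806
def n838 : Q := act 1 n630
theorem D838 : act 1 n630 = n838 := rfl
theorem F3128 : act 2 n838 = n635 := d7_2 D630 D838 (iv D635) (iv D474) (iv F1809)
theorem F3129 : act 4 n838 = n631 := d9_2 (iv F2391) D838 (iv D631)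
theorem F3130 : act 6 n838 = n838 := d11_2 F2392 D838 (iv D838)
def n839 : Q := act 3 n630
theorem D839 : act 3 n630 = n839 := rfl
theorem F3131 : act 6 n839 = n839 := d20_2 F2392 D839 (iv D839)
def n840 : Q := act 0 n631
theorem D840 : act 0 n631 = n840 := rfl
theorem F3132 : act 2 n840 = n637 := d1_2 (iv F2393) D840 (iv D637)
theorem F3133 : act 5 n840 = n647 := d4_2 (iv F2394) D840 (iv D647)
theorem F3134 : act 6 n840 = n840 := d5_2 F2395 D840 (iv D840)
def n841 : Q := act 3 n631
theorem D841 : act 3 n631 = n841 := rfl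
theorem F3135 : act 1 n841 = n632 := d8_1 D841 (iv D632) D631
theorem F3136 : act 2 n841 = n841 := d13_1 D841 (iv D841) F2393 F1822 (iv F2393)
theorem F3137 : act 5 n841 = n648 := d19_2 (iv F2394) D841 (iv D648)
theorem F3138 : act 6 n841 = n841 := d20_2 F2395 D841 (iv D841)
def n842 : Q := act 4 n632
theorem D842 : act 4 n632 = n842 := rfl
theorem F3139 : act 2 n842 = n633 := d14_1 D842 (iv D633) (iv F2396)
theorem F3140 : act 6 n842 = n842 := d23_2 F2398 D842 (iv D842)
def n843 : Q := act 5 n633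
theorem D843 : act 5 n633 = n843 := rfl
theorem F3141 : act 1 n843 = n843 := d10_1 D843 (iv D843) F2399
theorem F3142 : act 4 n843 = n650 := d22_1 D843 (iv D650) (iv D485) (iv F1814) D633
theorem F3143 : act 6 n843 = n684 := d25_2 (iv F2400) D843 (iv D684)
def n844 : Q := act 1 n634
theorem D844 : act 1 n634 = n844 := rfl
theorem F3144 : act 4 n844 = n651 := d9_2 (iv F2402) D844 (iv D651)
theorem F3145 : act 5 n844 = n635 := d10_2 (iv F2403) D844 (iv D635)
theorem F3146 : act 6 n844 = n655 := d11_2 (iv F2404) D844 (iv D655)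
def n845 : Q := act 3 n634
theorem D845 : act 3 n634 = n845 := rfl
theorem F3147 : act 0 n845 = n845 := d2_1 D845 (iv D845) F2401
theorem F3148 : act 5 n845 = n636 := d19_2 (iv F2403) D845 (iv D636)
theorem F3149 : act 6 n845 = n656 := d20_2 (iv F2404) D845 (iv D656)
def n846 : Q := act 0 n635
theorem D846 : act 0 n635 = n846 := rfl
theorem F3151 : act 4 n846 = n637 := d3_2 (iv F2405) D846 (iv D637)
theorem F3152 : act 6 n846 = n657 := d5_2 (iv F2406) D846 (iv D657)
def n847 : Q := act 3 n635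
theorem D847 : act 3 n635 = n847 := rfl
theorem F3153 : act 1 n847 = n636 := d8_1 D847 (iv D636) D635
theorem F3154 : act 4 n847 = n847 := d18_2 (iv F2405) D847 (iv D847) F2405 F1822
theorem F3155 : act 6 n847 = n658 := d20_2 (iv F2406) D847 (iv D658)
def n848 : Q := act 2 n638
theorem D848 : act 2 n638 = n848 := rfl
theorem F3156 : act 0 n848 = n644 := d1_1 D848 (iv D644) (iv F2414)
theorem F3157 : act 5 n848 = n639 := d15_2 (iv F2417) D848 (iv D639)
theorem F3158 : act 6 n848 = n848 := d16_2 D638 D848 (iv D848) (iv D638) F1827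
def n849 : Q := act 1 n639
theorem D849 : act 1 n639 = n849 := rfl
theorem F3159 : act 2 n849 = n849 := d7_2 D639 D849 (iv D849) (iv D639) F1831
theorem F3160 : act 4 n849 = n640 := d9_2 (iv F2419) D849 (iv D640)
theorem F3161 : act 6 n849 = n849 := d11_2 F2420 D849 (iv D849)
def n850 : Q := act 3 n639
theorem D850 : act 3 n639 = n850 := rfl
theorem F3162 : act 0 n850 = n646 := d2_1 D850 (iv D646) (iv F2418)
theorem F3163 : act 2 n850 = n850 := d13_1 D850 (iv D850) (iv D639) F1832 D639
theorem F3164 : act 6 n850 = n850 := d20_2 F2420 D850 (iv D850)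
def n851 : Q := act 0 n640
theorem D851 : act 0 n640 = n851 := rfl
theorem F3165 : act 1 n851 = n647 := d0_2 D640 D851 (iv D647) (iv D483) (iv F1834)
def n852 : Q := act 3 n640
theorem D852 : act 3 n640 = n852 := rfl
theorem F3168 : act 1 n852 = n641 := d8_1 D852 (iv D641) D640
def n853 : Q := act 4 n641
theorem D853 : act 4 n641 = n853 := rfl
def n854 : Q := act 2 n642
theorem D854 : act 2 n642 = n854 := rfl
def n855 : Q := act 4 n642
theorem D855 : act 4 n642 = n855 := rfl
theorem F3178 : act 6 n855 = n686 := d23_2 (iv F2428) D855 (iv D686)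
def n857 : Q := act 1 n644
theorem D857 : act 1 n644 = n857 := rfl
theorem F3182 : act 2 n857 = n651 := d7_2 D644 D857 (iv D651) (iv D486) (iv F1842)
def n858 : Q := act 3 n644
theorem D858 : act 3 n644 = n858 := rfl
theorem F3186 : act 5 n858 = n646 := d19_2 (iv F2432) D858 (iv D646)
def n859 : Q := act 0 n645
theorem D859 : act 0 n645 = n859 := rfl
theorem F3188 : act 2 n859 = n653 := d1_2 (iv F2434) D859 (iv D653)
theorem F3189 : act 4 n859 = n647 := d3_2 (iv F2435) D859 (iv D647)
theorem F3190 : act 6 n859 = n859 := d5_2 F2436 D859 (iv D859)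
def n860 : Q := act 3 n645
theorem D860 : act 3 n645 = n860 := rfl
theorem F3191 : act 1 n860 = n646 := d8_1 D860 (iv D646) D645
def n861 : Q := act 4 n646
theorem D861 : act 4 n646 = n861 := rfl
theorem F3194 : act 3 n861 = n649 := d18_1 D861 (iv D649) (iv D484) (iv F1845) D646
def n862 : Q := act 3 n647
theorem D862 : act 3 n647 = n862 := rfl
theorem F3196 : act 0 n862 = n648 := d2_1 D862 (iv D648) D647
def n863 : Q := act 4 n648
theorem D863 : act 4 n648 = n863 := rfl
def n864 : Q := act 5 n649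
theorem D864 : act 5 n649 = n864 := rfl
def n865 : Q := act 0 n651
theorem D865 : act 0 n651 = n865 := rfl
theorem F3206 : act 6 n865 = n659 := d5_2 (iv F2450) D865 (iv D659)
def n866 : Q := act 3 n651
theorem D866 : act 3 n651 = n866 := rfl
theorem F3209 : act 6 n866 = n660 := d20_2 (iv F2450) D866 (iv D660)
def n868 : Q := act 3 n653
theorem D868 : act 3 n653 = n868 := rfl
theorem F3214 : act 0 n868 = n654 := d2_1 D868 (iv D654) D653
theorem F3217 : act 6 n868 = n662 := d20_2 (iv F2457) D868 (iv D662)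
def n869 : Q := act 2 n654
theorem D869 : act 2 n654 = n869 := rfl
def n870 : Q := act 0 n655
theorem D870 : act 0 n655 = n870 := rfl
theorem F3222 : act 4 n870 = n659 := d3_2 (iv F2462) D870 (iv D659)
theorem F3223 : act 5 n870 = n657 := d4_2 (iv F2463) D870 (iv D657)
def n871 : Q := act 3 n655
theorem D871 : act 3 n655 = n871 := rfl
theorem F3225 : act 1 n871 = n656 := d8_1 D871 (iv D656) D655
theorem F3226 : act 5 n871 = n658 := d19_2 (iv F2463) D871 (iv D658)
theorem F3227 : act 7 n871 = n871 := d21_2 F2464 D871 (iv D871)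
def n872 : Q := act 4 n656
theorem D872 : act 4 n656 = n872 := rfl
theorem F3228 : act 0 n872 = n872 := d3_1 D872 (iv D872) F2465
theorem F3229 : act 2 n872 = n872 := d14_1 D872 (iv D872) F2466
theorem F3230 : act 3 n872 = n661 := d18_1 D872 (iv D661) (iv D495) (iv F1867) D656
theorem F3231 : act 5 n872 = n872 := d22_2 (iv F2467) D872 (iv D872) F2467 F1875
theorem F3232 : act 7 n872 = n872 := d24_2 F2468 D872 (iv D872)
def n873 : Q := act 3 n657
theorem D873 : act 3 n657 = n873 := rfl
theorem F3233 : act 0 n873 = n658 := d2_1 D873 (iv D658) D657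
theorem F3234 : act 1 n873 = n873 := d8_1 D873 (iv D873) F2469
theorem F3235 : act 4 n873 = n873 := d18_2 (iv F2471) D873 (iv D873) F2471 F1879
theorem F3236 : act 7 n873 = n873 := d21_2 F2472 D873 (iv D873)
def n874 : Q := act 2 n658
theorem D874 : act 2 n658 = n874 := rfl
theorem F3237 : act 1 n874 = n874 := d7_1 D874 (iv D874) F2473 F1874 (iv F2473)
theorem F3238 : act 3 n874 = n874 := d13_2 D658 D874 (iv D874) (iv D658) F1870
theorem F3239 : act 4 n874 = n874 := d14_2 F2474 D874 (iv D874)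
theorem F3240 : act 7 n874 = n874 := d17_2 F2475 D874 (iv D874)
def n875 : Q := act 3 n659
theorem D875 : act 3 n659 = n875 := rfl
theorem F3241 : act 0 n875 = n660 := d2_1 D875 (iv D660) D659
theorem F3243 : act 5 n875 = n662 := d19_2 (iv F2478) D875 (iv D662)
def n876 : Q := act 2 n660
theorem D876 : act 2 n660 = n876 := rfl
theorem F3245 : act 1 n876 = n665 := d7_1 D876 (iv D665) F1902 (iv F1886) (iv F2480)
def n877 : Q := act 4 n660
theorem D877 : act 4 n660 = n877 := rfl
def n878 : Q := act 2 n662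
theorem D878 : act 2 n662 = n878 := rfl
theorem F3252 : act 0 n878 = n663 := d1_1 D878 (iv D663) (iv F2487)
def n879 : Q := act 6 n663
theorem D879 : act 6 n663 = n879 := rfl
theorem F3256 : act 1 n879 = n668 := d11_1 D879 (iv D668) (iv F2491)
def n880 : Q := act 2 n664
theorem D880 : act 2 n664 = n880 := rfl
theorem F3259 : act 0 n880 = n665 := d1_1 D880 (iv D665) (iv F2495)
theorem F3261 : act 5 n880 = n667 := d15_2 (iv F2497) D880 (iv D667)
def n881 : Q := act 4 n664
theorem D881 : act 4 n664 = n881 := rfl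
theorem F3265 : act 3 n881 = n881 := d18_1 D881 (iv D881) (iv D664) F1898 D664
def n882 : Q := act 4 n665
theorem D882 : act 4 n665 = n882 := rfl
theorem F3269 : act 2 n882 = n666 := d14_1 D882 (iv D666) D665
def n883 : Q := act 6 n665
theorem D883 : act 6 n665 = n883 := rfl
def n884 : Q := act 1 n667
theorem D884 : act 1 n667 = n884 := rfl
def n886 : Q := act 7 n668
theorem D886 : act 7 n668 = n886 := rfl
theorem F3283 : act 2 n886 = n886 := d17_1 D886 (iv D886) F2512
def n887 : Q := act 2 n669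
theorem D887 : act 2 n669 = n887 := rfl
theorem F3287 : act 0 n887 = n887 := d1_1 D887 (iv D887) F2515
theorem F3288 : act 1 n887 = n887 := d7_1 D887 (iv D887) F2516 F1924 (iv F2516)
theorem F3289 : act 4 n887 = n887 := d14_2 F2517 D887 (iv D887)
theorem F3290 : act 5 n887 = n887 := d15_2 F2518 D887 (iv D887)
theorem F3291 : act 6 n887 = n688 := d16_2 D669 D887 (iv D688) (iv D519) (iv F1920)
def n888 : Q := act 7 n669
theorem D888 : act 7 n669 = n888 := rfl
theorem F3292 : act 0 n888 = n888 := d6_1 D888 (iv D888) F2515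
theorem F3293 : act 1 n888 = n671 := d12_1 D888 (iv D671) (iv F2516)
theorem F3294 : act 4 n888 = n888 := d24_1 D888 (iv D888) F2517
theorem F3295 : act 5 n888 = n888 := d26_1 D888 (iv D888) F2518
def n889 : Q := act 6 n670
theorem D889 : act 6 n670 = n889 := rfl
theorem F3296 : act 0 n889 = n889 := d5_1 D889 (iv D889) F2519
theorem F3297 : act 1 n889 = n672 := d11_1 D889 (iv D672) (iv F2520)
theorem F3298 : act 4 n889 = n889 := d23_1 D889 (iv D889) F2522
theorem F3299 : act 5 n889 = n889 := d25_1 D889 (iv D889) F2523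
def n890 : Q := act 6 n671
theorem D890 : act 6 n671 = n890 := rfl
theorem F3300 : act 0 n890 = n676 := d5_1 D890 (iv D676) (iv F2524)
theorem F3301 : act 4 n890 = n890 := d23_1 D890 (iv D890) F2526
theorem F3302 : act 5 n890 = n890 := d25_1 D890 (iv D890) F2527
theorem F3303 : act 7 n890 = n672 := d27_2 D671 D890 (iv D672) (iv D505) D504
def n891 : Q := act 2 n672
theorem D891 : act 2 n672 = n891 := rfl
theorem F3304 : act 0 n891 = n677 := d1_1 D891 (iv D677) (iv F2528)
theorem F3305 : act 4 n891 = n891 := d14_2 F2529 D891 (iv D891)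
theorem F3306 : act 5 n891 = n891 := d15_2 F2530 D891 (iv D891)
theorem F3307 : act 6 n891 = n673 := d16_2 D672 D891 (iv D673) (iv D506) (iv F1928)
def n892 : Q := act 1 n673
theorem D892 : act 1 n673 = n892 := rfl
def n893 : Q := act 3 n673
theorem D893 : act 3 n673 = n893 := rfl
theorem F3312 : act 0 n893 = n679 := d2_1 D893 (iv D679) (iv F2531)
theorem F3313 : act 2 n893 = n675 := d13_1 D893 (iv D675) (iv D507) (iv F1933) D673
theorem F3314 : act 5 n893 = n893 := d19_2 F2533 D893 (iv D893)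
theorem F3315 : act 7 n893 = n893 := d21_2 F2534 D893 (iv D893)
def n894 : Q := act 3 n674
theorem D894 : act 3 n674 = n894 := rfl
theorem F3317 : act 1 n894 = n675 := d8_1 D894 (iv D675) D674
def n895 : Q := act 4 n675
theorem D895 : act 4 n675 = n895 := rfl
def n896 : Q := act 2 n676
theorem D896 : act 2 n676 = n896 := rfl
theorem F3323 : act 4 n896 = n896 := d14_2 F2544 D896 (iv D896)
theorem F3324 : act 5 n896 = n896 := d15_2 F2545 D896 (iv D896)
theorem F3325 : act 6 n896 = n896 := d16_2 D676 D896 (iv D896) (iv D676) F1942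
theorem F3326 : act 7 n896 = n677 := d17_2 (iv F2546) D896 (iv D677)
def n897 : Q := act 1 n677
theorem D897 : act 1 n677 = n897 := rfl
theorem F3327 : act 2 n897 = n897 := d7_2 D677 D897 (iv D897) (iv D677) F1945
theorem F3328 : act 4 n897 = n897 := d9_2 F2547 D897 (iv D897)
theorem F3329 : act 5 n897 = n897 := d10_2 F2548 D897 (iv D897)
theorem F3330 : act 6 n897 = n678 := d11_2 (iv F2549) D897 (iv D678)
def n898 : Q := act 3 n677
theorem D898 : act 3 n677 = n898 := rfl
theorem F3331 : act 5 n898 = n898 := d19_2 F2548 D898 (iv D898)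
theorem F3332 : act 6 n898 = n679 := d20_2 (iv F2549) D898 (iv D679)
def n899 : Q := act 0 n678
theorem D899 : act 0 n678 = n899 := rfl
def n900 : Q := act 3 n678
theorem D900 : act 3 n678 = n900 := rfl
theorem F3337 : act 1 n900 = n679 := d8_1 D900 (iv D679) D678
theorem F3338 : act 2 n900 = n900 := d13_1 D900 (iv D900) F2550 F1954 (iv F2550)
theorem F3339 : act 5 n900 = n900 := d19_2 F2552 D900 (iv D900)
theorem F3340 : act 7 n900 = n900 := d21_2 F2553 D900 (iv D900)
def n901 : Q := act 4 n679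
theorem D901 : act 4 n679 = n901 := rfl
theorem F3341 : act 2 n901 = n680 := d14_1 D901 (iv D680) (iv F2554)
theorem F3342 : act 3 n901 = n901 := d18_1 D901 (iv D901) (iv D679) F1948 D679
theorem F3343 : act 7 n901 = n901 := d24_2 F2556 D901 (iv D901)
def n902 : Q := act 5 n680
theorem D902 : act 5 n680 = n902 := rfl
def n906 : Q := act 4 n685
theorem D906 : act 4 n685 = n906 := rfl
theorem F3362 : act 2 n906 = n686 := d14_1 D906 (iv D686) D685
def n909 : Q := act 3 n688
theorem D909 : act 3 n688 = n909 := rfl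
theorem F3371 : act 0 n909 = n909 := d2_1 D909 (iv D909) F2589
theorem F3372 : act 1 n909 = n909 := d8_1 D909 (iv D909) F2590
theorem F3373 : act 2 n909 = n909 := d13_1 D909 (iv D909) (iv D688) F1983 D688
theorem F3374 : act 5 n909 = n909 := d19_2 F2592 D909 (iv D909)
def n910 : Q := act 7 n688
theorem D910 : act 7 n688 = n910 := rfl
theorem F3377 : act 2 n910 = n689 := d17_1 D910 (iv D689) D688
def n911 : Q := act 6 n689
theorem D911 : act 6 n689 = n911 := rfl
theorem F3385 : act 7 n911 = n690 := d27_2 D689 D911 (iv D690) (iv D520) D519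
def n933 : Q := act 3 n707
theorem D933 : act 3 n707 = n933 := rfl
def n937 : Q := act 1 n710
theorem D937 : act 1 n710 = n937 := rfl
theorem F3485 : act 0 n937 = n724 := d0_1 D937 (iv D724) F2099 (iv F2073) (iv F2680)
theorem F3486 : act 2 n937 = n937 := d7_2 D710 D937 (iv D937) (iv D710) F2065
theorem F3487 : act 3 n937 = n937 := d8_2 F2681 D937 (iv D937)
theorem F3488 : act 5 n937 = n937 := d10_2 F2682 D937 (iv D937)
def n938 : Q := act 4 n710
theorem D938 : act 4 n710 = n938 := rfl
theorem F3489 : act 0 n938 = n714 := d3_1 D938 (iv D714) (iv F2680)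
theorem F3490 : act 2 n938 = n711 := d14_1 D938 (iv D711) D710
def n939 : Q := act 6 n710
theorem D939 : act 6 n710 = n939 := rfl
theorem F3491 : act 0 n939 = n715 := d5_1 D939 (iv D715) (iv F2680)
theorem F3492 : act 2 n939 = n939 := d16_1 D939 (iv D939) (iv D710) F2067 D710
theorem F3493 : act 3 n939 = n939 := d20_1 D939 (iv D939) F2681
theorem F3494 : act 5 n939 = n939 := d25_1 D939 (iv D939) F2682
def n940 : Q := act 7 n710
theorem D940 : act 7 n710 = n940 := rfl
theorem F3495 : act 0 n940 = n716 := d6_1 D940 (iv D716) (iv F2680)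
theorem F3496 : act 2 n940 = n712 := d17_1 D940 (iv D712) D710
theorem F3497 : act 3 n940 = n940 := d21_1 D940 (iv D940) F2681
theorem F3498 : act 5 n940 = n940 := d26_1 D940 (iv D940) F2682
def n941 : Q := act 5 n711
theorem D941 : act 5 n711 = n941 := rfl
theorem F3499 : act 0 n941 = n717 := d4_1 D941 (iv D717) (iv F2683)
theorem F3500 : act 1 n941 = n941 := d10_1 D941 (iv D941) F2684
theorem F3501 : act 3 n941 = n941 := d19_1 D941 (iv D941) F2685
theorem F3502 : act 4 n941 = n941 := d22_1 D941 (iv D941) (iv D711) F2066 D711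
theorem F3503 : act 6 n941 = n941 := d25_2 F2686 D941 (iv D941)
def n942 : Q := act 7 n711
theorem D942 : act 7 n711 = n942 := rfl
theorem F3504 : act 0 n942 = n718 := d6_1 D942 (iv D718) (iv F2683)
theorem F3505 : act 1 n942 = n942 := d12_1 D942 (iv D942) F2684
theorem F3506 : act 3 n942 = n942 := d21_1 D942 (iv D942) F2685
theorem F3507 : act 4 n942 = n712 := d24_1 D942 (iv D712) D711
def n943 : Q := act 6 n712
theorem D943 : act 6 n712 = n943 := rfl
theorem F3508 : act 0 n943 = n719 := d5_1 D943 (iv D719) (iv F2687)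
theorem F3509 : act 1 n943 = n943 := d11_1 D943 (iv D943) F2688
theorem F3510 : act 3 n943 = n713 := d20_1 D943 (iv D713) (iv F2689)
theorem F3511 : act 5 n943 = n943 := d25_1 D943 (iv D943) F2690
theorem F3512 : act 7 n943 = n943 := d27_2 D712 D943 (iv D943) (iv D712) F2067
def n944 : Q := act 2 n713
theorem D944 : act 2 n713 = n944 := rfl
theorem F3513 : act 0 n944 = n720 := d1_1 D944 (iv D720) (iv F2691)
theorem F3514 : act 4 n944 = n944 := d14_2 F2693 D944 (iv D944)
theorem F3515 : act 5 n944 = n944 := d15_2 F2694 D944 (iv D944)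
theorem F3516 : act 6 n944 = n944 := d16_2 D713 D944 (iv D944) (iv D713) F2070
theorem F3517 : act 7 n944 = n944 := d17_2 F2695 D944 (iv D944)
def n945 : Q := act 3 n714
theorem D945 : act 3 n714 = n945 := rfl
theorem F3518 : act 1 n945 = n732 := d8_1 D945 (iv D732) (iv F2696)
theorem F3519 : act 2 n945 = n945 := d13_1 D945 (iv D945) F2697 F2077 (iv F2697)
theorem F3520 : act 4 n945 = n945 := d18_2 D714 D945 (iv D945) (iv D714) F2074
def n946 : Q := act 5 n714
theorem D946 : act 5 n714 = n946 := rfl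
theorem F3521 : act 1 n946 = n733 := d10_1 D946 (iv D733) (iv F2696)
theorem F3522 : act 2 n946 = n717 := d15_1 D946 (iv D717) (iv F2697)
theorem F3523 : act 4 n946 = n946 := d22_1 D946 (iv D946) (iv D714) F2075 D714
def n947 : Q := act 6 n714
theorem D947 : act 6 n714 = n947 := rfl
theorem F3524 : act 1 n947 = n734 := d11_1 D947 (iv D734) (iv F2696)
theorem F3525 : act 2 n947 = n947 := d16_1 D947 (iv D947) F2697 F2078 (iv F2697)
theorem F3526 : act 4 n947 = n715 := d23_1 D947 (iv D715) D714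
def n948 : Q := act 7 n714
theorem D948 : act 7 n714 = n948 := rfl
theorem F3527 : act 1 n948 = n735 := d12_1 D948 (iv D735) (iv F2696)
theorem F3528 : act 2 n948 = n718 := d17_1 D948 (iv D718) (iv F2697)
theorem F3529 : act 4 n948 = n716 := d24_1 D948 (iv D716) D714
def n949 : Q := act 7 n715
theorem D949 : act 7 n715 = n949 := rfl
theorem F3530 : act 1 n949 = n736 := d12_1 D949 (iv D736) (iv F2698)
theorem F3531 : act 2 n949 = n949 := d17_1 D949 (iv D949) F2699
theorem F3532 : act 3 n949 = n949 := d21_1 D949 (iv D949) F2700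
theorem F3533 : act 5 n949 = n949 := d26_1 D949 (iv D949) F2701
def n950 : Q := act 6 n716
theorem D950 : act 6 n716 = n950 := rfl
theorem F3534 : act 1 n950 = n737 := d11_1 D950 (iv D737) (iv F2702)
theorem F3535 : act 3 n950 = n950 := d20_1 D950 (iv D950) F2704
theorem F3536 : act 5 n950 = n950 := d25_1 D950 (iv D950) F2705
def n951 : Q := act 7 n717
theorem D951 : act 7 n717 = n951 := rfl
theorem F3537 : act 1 n951 = n721 := d12_1 D951 (iv D721) (iv F2706)
theorem F3538 : act 3 n951 = n951 := d21_1 D951 (iv D951) F2707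
theorem F3539 : act 4 n951 = n951 := d24_1 D951 (iv D951) F2708
theorem F3540 : act 5 n951 = n718 := d26_1 D951 (iv D718) D717
def n952 : Q := act 6 n718
theorem D952 : act 6 n718 = n952 := rfl
theorem F3541 : act 1 n952 = n722 := d11_1 D952 (iv D722) (iv F2710)
theorem F3542 : act 3 n952 = n952 := d20_1 D952 (iv D952) F2711
theorem F3543 : act 4 n952 = n719 := d23_1 D952 (iv D719) (iv F2712)
theorem F3544 : act 7 n952 = n952 := d27_2 D718 D952 (iv D952) (iv D718) F2078
def n953 : Q := act 2 n719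
theorem D953 : act 2 n719 = n953 := rfl
theorem F3545 : act 5 n953 = n953 := d15_2 F2715 D953 (iv D953)
theorem F3546 : act 7 n953 = n953 := d17_2 F2716 D953 (iv D953)
def n954 : Q := act 3 n720
theorem D954 : act 3 n720 = n954 := rfl
theorem F3547 : act 1 n954 = n954 := d8_1 D954 (iv D954) F2717
theorem F3548 : act 5 n954 = n954 := d19_2 F2719 D954 (iv D954)
theorem F3549 : act 6 n954 = n954 := d20_2 F2720 D954 (iv D954)
theorem F3550 : act 7 n954 = n954 := d21_2 F2721 D954 (iv D954)
def n955 : Q := act 6 n721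
theorem D955 : act 6 n721 = n955 := rfl
theorem F3551 : act 0 n955 = n955 := d5_1 D955 (iv D955) F2722
theorem F3552 : act 3 n955 = n955 := d20_1 D955 (iv D955) F2724
theorem F3553 : act 4 n955 = n955 := d23_1 D955 (iv D955) F2725
theorem F3554 : act 5 n955 = n722 := d25_1 D955 (iv D722) (iv F2726)
theorem F3555 : act 7 n955 = n955 := d27_2 D721 D955 (iv D955) (iv D721) F2090
def n956 : Q := act 2 n722
theorem D956 : act 2 n722 = n956 := rfl
theorem F3556 : act 0 n956 = n956 := d1_1 D956 (iv D956) F2727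
theorem F3557 : act 4 n956 = n723 := d14_2 (iv F2729) D956 (iv D723)
theorem F3558 : act 6 n956 = n743 := d16_2 D722 D956 (iv D743) (iv D559) (iv F2092)
theorem F3559 : act 7 n956 = n956 := d17_2 F2730 D956 (iv D956)
def n957 : Q := act 1 n723
theorem D957 : act 1 n723 = n957 := rfl
theorem F3560 : act 3 n957 = n957 := d8_2 F2732 D957 (iv D957)
theorem F3561 : act 5 n957 = n957 := d10_2 F2733 D957 (iv D957)
theorem F3562 : act 6 n957 = n744 := d11_2 (iv F2734) D957 (iv D744)
theorem F3563 : act 7 n957 = n957 := d12_2 F2735 D957 (iv D957)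
def n958 : Q := act 4 n724
theorem D958 : act 4 n724 = n958 := rfl
theorem F3564 : act 1 n958 = n725 := d9_1 D958 (iv D725) D724
theorem F3565 : act 2 n958 = n958 := d14_1 D958 (iv D958) F2736
def n959 : Q := act 6 n724
theorem D959 : act 6 n724 = n959 := rfl
theorem F3566 : act 1 n959 = n726 := d11_1 D959 (iv D726) D724
theorem F3567 : act 3 n959 = n959 := d20_1 D959 (iv D959) F2737
theorem F3568 : act 5 n959 = n959 := d25_1 D959 (iv D959) F2738
def n960 : Q := act 7 n724
theorem D960 : act 7 n724 = n960 := rfl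
theorem F3569 : act 1 n960 = n727 := d12_1 D960 (iv D727) D724
theorem F3570 : act 2 n960 = n960 := d17_1 D960 (iv D960) F2736
theorem F3571 : act 3 n960 = n960 := d21_1 D960 (iv D960) F2737
theorem F3572 : act 5 n960 = n960 := d26_1 D960 (iv D960) F2738
def n961 : Q := act 3 n725
theorem D961 : act 3 n725 = n961 := rfl
theorem F3573 : act 0 n961 = n732 := d2_1 D961 (iv D732) (iv F2739)
theorem F3574 : act 2 n961 = n747 := d13_1 D961 (iv D747) F2156 (iv F2104) (iv F2740)
theorem F3575 : act 4 n961 = n961 := d18_2 D725 D961 (iv D961) (iv D725) F2100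
def n962 : Q := act 5 n725
theorem D962 : act 5 n725 = n962 := rfl
theorem F3576 : act 0 n962 = n733 := d4_1 D962 (iv D733) (iv F2739)
theorem F3577 : act 2 n962 = n728 := d15_1 D962 (iv D728) (iv F2740)
theorem F3578 : act 4 n962 = n962 := d22_1 D962 (iv D962) (iv D725) F2101 D725
def n963 : Q := act 6 n725
theorem D963 : act 6 n725 = n963 := rfl
theorem F3579 : act 0 n963 = n734 := d5_1 D963 (iv D734) (iv F2739)
theorem F3580 : act 2 n963 = n807 := d16_1 D963 (iv D807) F2307 (iv F2105) (iv F2740)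
theorem F3581 : act 4 n963 = n726 := d23_1 D963 (iv D726) D725
def n964 : Q := act 7 n725
theorem D964 : act 7 n725 = n964 := rfl
theorem F3582 : act 0 n964 = n735 := d6_1 D964 (iv D735) (iv F2739)
theorem F3583 : act 2 n964 = n729 := d17_1 D964 (iv D729) (iv F2740)
theorem F3584 : act 4 n964 = n727 := d24_1 D964 (iv D727) D725
def n965 : Q := act 7 n726
theorem D965 : act 7 n726 = n965 := rfl
theorem F3585 : act 0 n965 = n736 := d6_1 D965 (iv D736) (iv F2741)
theorem F3586 : act 2 n965 = n809 := d17_1 D965 (iv D809) (iv F2742)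
theorem F3587 : act 3 n965 = n965 := d21_1 D965 (iv D965) F2743
theorem F3588 : act 5 n965 = n965 := d26_1 D965 (iv D965) F2744
def n966 : Q := act 6 n727
theorem D966 : act 6 n727 = n966 := rfl
theorem F3589 : act 0 n966 = n737 := d5_1 D966 (iv D737) (iv F2745)
theorem F3590 : act 3 n966 = n966 := d20_1 D966 (iv D966) F2747
theorem F3591 : act 5 n966 = n966 := d25_1 D966 (iv D966) F2748
def n967 : Q := act 7 n728
theorem D967 : act 7 n728 = n967 := rfl
theorem F3592 : act 0 n967 = n738 := d6_1 D967 (iv D738) (iv F2749)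
theorem F3593 : act 1 n967 = n967 := d12_1 D967 (iv D967) F2750
theorem F3594 : act 3 n967 = n751 := d21_1 D967 (iv D751) (iv F2751)
theorem F3595 : act 4 n967 = n967 := d24_1 D967 (iv D967) F2752
theorem F3596 : act 5 n967 = n729 := d26_1 D967 (iv D729) D728
def n968 : Q := act 6 n729
theorem D968 : act 6 n729 = n968 := rfl
theorem F3597 : act 0 n968 = n739 := d5_1 D968 (iv D739) (iv F2754)
theorem F3598 : act 1 n968 = n968 := d11_1 D968 (iv D968) F2755
theorem F3599 : act 3 n968 = n752 := d20_1 D968 (iv D752) (iv F2756)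
theorem F3600 : act 4 n968 = n730 := d23_1 D968 (iv D730) (iv F2757)
theorem F3601 : act 7 n968 = n812 := d27_2 D729 D968 (iv D812) (iv D609) (iv F2105)
def n969 : Q := act 2 n730
theorem D969 : act 2 n730 = n969 := rfl
theorem F3602 : act 0 n969 = n740 := d1_1 D969 (iv D740) (iv F2758)
theorem F3603 : act 5 n969 = n969 := d15_2 F2761 D969 (iv D969)
theorem F3604 : act 7 n969 = n813 := d17_2 (iv F2762) D969 (iv D813)
def n970 : Q := act 1 n731
theorem D970 : act 1 n731 = n970 := rfl
theorem F3605 : act 0 n970 = n970 := d0_1 D970 (iv D970) F2763 F2133 (iv F2763)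
theorem F3606 : act 2 n970 = n970 := d7_2 D731 D970 (iv D970) (iv D731) F2111
theorem F3607 : act 4 n970 = n754 := d9_2 (iv F2764) D970 (iv D754)
theorem F3608 : act 5 n970 = n970 := d10_2 F2765 D970 (iv D970)
theorem F3609 : act 6 n970 = n970 := d11_2 F2766 D970 (iv D970)
theorem F3610 : act 7 n970 = n814 := d12_2 (iv F2767) D970 (iv D814)
def n971 : Q := act 3 n731
theorem D971 : act 3 n731 = n971 := rfl
theorem F3611 : act 0 n971 = n741 := d2_1 D971 (iv D741) (iv F2763)
theorem F3612 : act 5 n971 = n971 := d19_2 F2765 D971 (iv D971)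
theorem F3613 : act 6 n971 = n971 := d20_2 F2766 D971 (iv D971)
theorem F3614 : act 7 n971 = n815 := d21_2 (iv F2767) D971 (iv D815)
def n972 : Q := act 5 n732
theorem D972 : act 5 n732 = n972 := rfl
theorem F3615 : act 2 n972 = n756 := d15_1 D972 (iv D756) (iv F2768)
theorem F3616 : act 3 n972 = n733 := d19_1 D972 (iv D733) D732
def n973 : Q := act 6 n732
theorem D973 : act 6 n732 = n973 := rfl
theorem F3617 : act 2 n973 = n973 := d16_1 D973 (iv D973) F2768 F2180 (iv F2768)
theorem F3618 : act 3 n973 = n734 := d20_1 D973 (iv D734) D732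
theorem F3619 : act 4 n973 = n973 := d23_1 D973 (iv D973) F2769
def n974 : Q := act 7 n732
theorem D974 : act 7 n732 = n974 := rfl
theorem F3620 : act 2 n974 = n757 := d17_1 D974 (iv D757) (iv F2768)
theorem F3621 : act 3 n974 = n735 := d21_1 D974 (iv D735) D732
theorem F3622 : act 4 n974 = n974 := d24_1 D974 (iv D974) F2769
def n975 : Q := act 6 n733
theorem D975 : act 6 n733 = n975 := rfl
theorem F3623 : act 2 n975 = n816 := d16_1 D975 (iv D816) F2333 (iv F2125) (iv F2770)
theorem F3624 : act 4 n975 = n975 := d23_1 D975 (iv D975) F2771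
theorem F3625 : act 5 n975 = n734 := d25_1 D975 (iv D734) D733
def n976 : Q := act 7 n733
theorem D976 : act 7 n733 = n976 := rfl
theorem F3626 : act 2 n976 = n738 := d17_1 D976 (iv D738) (iv F2770)
theorem F3627 : act 4 n976 = n976 := d24_1 D976 (iv D976) F2771
theorem F3628 : act 5 n976 = n735 := d26_1 D976 (iv D735) D733
def n977 : Q := act 7 n734
theorem D977 : act 7 n734 = n977 := rfl
theorem F3629 : act 2 n977 = n818 := d17_1 D977 (iv D818) (iv F2772)
theorem F3630 : act 4 n977 = n736 := d24_1 D977 (iv D736) (iv F2773)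
def n978 : Q := act 6 n735
theorem D978 : act 6 n735 = n978 := rfl
theorem F3631 : act 4 n978 = n737 := d23_1 D978 (iv D737) (iv F2775)
def n979 : Q := act 6 n736
theorem D979 : act 6 n736 = n979 := rfl
theorem F3632 : act 3 n979 = n979 := d20_1 D979 (iv D979) F2777
theorem F3633 : act 5 n979 = n979 := d25_1 D979 (iv D979) F2778
theorem F3634 : act 7 n979 = n737 := d27_2 D736 D979 (iv D737) (iv D553) D552
def n980 : Q := act 2 n737
theorem D980 : act 2 n737 = n980 := rfl
theorem F3635 : act 5 n980 = n980 := d15_2 F2780 D980 (iv D980)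
theorem F3636 : act 6 n980 = n740 := d16_2 D737 D980 (iv D740) (iv D556) (iv F2119)
def n981 : Q := act 6 n738
theorem D981 : act 6 n738 = n981 := rfl
theorem F3637 : act 1 n981 = n742 := d11_1 D981 (iv D742) (iv F2781)
theorem F3638 : act 3 n981 = n761 := d20_1 D981 (iv D761) (iv F2782)
theorem F3639 : act 4 n981 = n981 := d23_1 D981 (iv D981) F2783
theorem F3640 : act 5 n981 = n739 := d25_1 D981 (iv D739) (iv F2784)
theorem F3641 : act 7 n981 = n822 := d27_2 D738 D981 (iv D822) (iv D617) (iv F2125)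
def n982 : Q := act 2 n739
theorem D982 : act 2 n739 = n982 := rfl
theorem F3642 : act 4 n982 = n740 := d14_2 (iv F2787) D982 (iv D740)
theorem F3643 : act 7 n982 = n823 := d17_2 (iv F2788) D982 (iv D823)
def n983 : Q := act 1 n740
theorem D983 : act 1 n740 = n983 := rfl
theorem F3644 : act 2 n983 = n744 := d7_2 D740 D983 (iv D744) (iv D560) (iv F2129)
theorem F3645 : act 5 n983 = n983 := d10_2 F2789 D983 (iv D983)
theorem F3646 : act 7 n983 = n824 := d12_2 (iv F2790) D983 (iv D824)
def n984 : Q := act 3 n740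
theorem D984 : act 3 n740 = n984 := rfl
theorem F3647 : act 2 n984 = n741 := d13_1 D984 (iv D741) (iv D557) (iv F2130) D740
theorem F3648 : act 5 n984 = n984 := d19_2 F2789 D984 (iv D984)
theorem F3649 : act 7 n984 = n825 := d21_2 (iv F2790) D984 (iv D825)
def n985 : Q := act 4 n741
theorem D985 : act 4 n741 = n985 := rfl
theorem F3650 : act 1 n985 = n985 := d9_1 D985 (iv D985) F2791
theorem F3651 : act 3 n985 = n765 := d18_1 D985 (iv D765) (iv D575) (iv F2134) D741
theorem F3652 : act 6 n985 = n985 := d23_2 F2793 D985 (iv D985)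
theorem F3653 : act 7 n985 = n826 := d24_2 (iv F2794) D985 (iv D826)
def n986 : Q := act 2 n742
theorem D986 : act 2 n742 = n986 := rfl
theorem F3654 : act 0 n986 = n986 := d1_1 D986 (iv D986) F2795
theorem F3655 : act 4 n986 = n986 := d14_2 F2797 D986 (iv D986)
theorem F3656 : act 5 n986 = n743 := d15_2 (iv F2798) D986 (iv D743)
theorem F3657 : act 7 n986 = n827 := d17_2 (iv F2799) D986 (iv D827)
def n987 : Q := act 1 n743
theorem D987 : act 1 n743 = n987 := rfl
theorem F3658 : act 4 n987 = n744 := d9_2 (iv F2801) D987 (iv D744)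
theorem F3659 : act 7 n987 = n828 := d12_2 (iv F2802) D987 (iv D828)
def n988 : Q := act 3 n743
theorem D988 : act 3 n743 = n988 := rfl
theorem F3660 : act 0 n988 = n988 := d2_1 D988 (iv D988) F2800
theorem F3661 : act 2 n988 = n768 := d13_1 D988 (iv D768) (iv D577) (iv F2143) D743
theorem F3662 : act 4 n988 = n988 := d18_2 (iv F2801) D988 (iv D988) F2801 F2147
theorem F3663 : act 7 n988 = n829 := d21_2 (iv F2802) D988 (iv D829)
def n989 : Q := act 0 n744
theorem D989 : act 0 n744 = n989 := rfl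
theorem F3664 : act 1 n989 = n989 := d0_2 D744 D989 (iv D989) (iv D744) F2146
theorem F3665 : act 3 n989 = n989 := d2_2 F2803 D989 (iv D989)
theorem F3666 : act 5 n989 = n989 := d4_2 F2804 D989 (iv D989)
theorem F3667 : act 7 n989 = n830 := d6_2 (iv F2805) D989 (iv D830)
def n990 : Q := act 3 n745
theorem D990 : act 3 n745 = n990 := rfl
theorem F3668 : act 0 n990 = n990 := d2_1 D990 (iv D990) F2806
theorem F3669 : act 1 n990 = n747 := d8_1 D990 (iv D747) (iv F2807)
theorem F3670 : act 4 n990 = n990 := d18_2 D745 D990 (iv D990) (iv D745) F2152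
theorem F3671 : act 6 n990 = n990 := d20_2 F2809 D990 (iv D990)
def n991 : Q := act 5 n745
theorem D991 : act 5 n745 = n991 := rfl
theorem F3672 : act 0 n991 = n991 := d4_1 D991 (iv D991) F2806
theorem F3673 : act 1 n991 = n748 := d10_1 D991 (iv D748) (iv F2807)
theorem F3674 : act 2 n991 = n991 := d15_1 D991 (iv D991) F2808
theorem F3675 : act 4 n991 = n771 := d22_1 D991 (iv D771) (iv D579) (iv F2153) D745
theorem F3676 : act 6 n991 = n991 := d25_2 F2809 D991 (iv D991)
def n992 : Q := act 7 n745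
theorem D992 : act 7 n745 = n992 := rfl
theorem F3677 : act 0 n992 = n992 := d6_1 D992 (iv D992) F2806
theorem F3678 : act 1 n992 = n749 := d12_1 D992 (iv D749) (iv F2807)
theorem F3679 : act 2 n992 = n992 := d17_1 D992 (iv D992) F2808
theorem F3680 : act 4 n992 = n746 := d24_1 D992 (iv D746) D745
def n993 : Q := act 6 n746
theorem D993 : act 6 n746 = n993 := rfl
theorem F3681 : act 0 n993 = n993 := d5_1 D993 (iv D993) F2810
theorem F3682 : act 1 n993 = n750 := d11_1 D993 (iv D750) (iv F2811)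
theorem F3683 : act 3 n993 = n993 := d20_1 D993 (iv D993) F2813
theorem F3684 : act 5 n993 = n773 := d25_1 D993 (iv D773) (iv F2814)
theorem F3685 : act 7 n993 = n993 := d27_2 D746 D993 (iv D993) (iv D746) F2154
def n994 : Q := act 5 n747
theorem D994 : act 5 n747 = n994 := rfl
theorem F3686 : act 0 n994 = n756 := d4_1 D994 (iv D756) (iv F2815)
theorem F3687 : act 3 n994 = n748 := d19_1 D994 (iv D748) D747
theorem F3688 : act 6 n994 = n994 := d25_2 F2817 D994 (iv D994)
def n995 : Q := act 7 n747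
theorem D995 : act 7 n747 = n995 := rfl
theorem F3689 : act 0 n995 = n757 := d6_1 D995 (iv D757) (iv F2815)
theorem F3690 : act 3 n995 = n749 := d21_1 D995 (iv D749) D747
theorem F3691 : act 4 n995 = n995 := d24_1 D995 (iv D995) F2816
def n996 : Q := act 7 n748
theorem D996 : act 7 n748 = n996 := rfl
theorem F3692 : act 0 n996 = n758 := d6_1 D996 (iv D758) (iv F2818)
theorem F3693 : act 2 n996 = n751 := d17_1 D996 (iv D751) (iv F2819)
theorem F3694 : act 4 n996 = n776 := d24_1 D996 (iv D776) (iv F2820)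
theorem F3695 : act 5 n996 = n749 := d26_1 D996 (iv D749) D748
def n997 : Q := act 6 n749
theorem D997 : act 6 n749 = n997 := rfl
theorem F3696 : act 0 n997 = n759 := d5_1 D997 (iv D759) (iv F2822)
theorem F3697 : act 4 n997 = n750 := d23_1 D997 (iv D750) (iv F2824)
theorem F3698 : act 7 n997 = n997 := d27_2 D749 D997 (iv D997) (iv D749) F2157
def n998 : Q := act 2 n750
theorem D998 : act 2 n750 = n998 := rfl
theorem F3699 : act 0 n998 = n760 := d1_1 D998 (iv D760) (iv F2825)
theorem F3700 : act 5 n998 = n778 := d15_2 (iv F2827) D998 (iv D778)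
theorem F3701 : act 6 n998 = n753 := d16_2 D750 D998 (iv D753) (iv D566) (iv F2159)
theorem F3702 : act 7 n998 = n998 := d17_2 F2828 D998 (iv D998)
def n999 : Q := act 6 n751
theorem D999 : act 6 n751 = n999 := rfl
theorem F3703 : act 0 n999 = n761 := d5_1 D999 (iv D761) (iv F2829)
theorem F3704 : act 1 n999 = n999 := d11_1 D999 (iv D999) F2830
theorem F3705 : act 4 n999 = n779 := d23_1 D999 (iv D779) (iv F2831)
theorem F3706 : act 5 n999 = n752 := d25_1 D999 (iv D752) (iv F2832)
theorem F3707 : act 7 n999 = n831 := d27_2 D751 D999 (iv D831) (iv D624) (iv F2165)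
def n1000 : Q := act 2 n752
theorem D1000 : act 2 n752 = n1000 := rfl
theorem F3708 : act 0 n1000 = n762 := d1_1 D1000 (iv D762) (iv F2833)
theorem F3709 : act 4 n1000 = n753 := d14_2 (iv F2835) D1000 (iv D753)
theorem F3710 : act 7 n1000 = n832 := d17_2 (iv F2836) D1000 (iv D832)
def n1001 : Q := act 1 n753
theorem D1001 : act 1 n753 = n1001 := rfl
theorem F3711 : act 2 n1001 = n1001 := d7_2 D753 D1001 (iv D1001) (iv D753) F2170
theorem F3712 : act 5 n1001 = n781 := d10_2 (iv F2838) D1001 (iv D781)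
theorem F3713 : act 7 n1001 = n833 := d12_2 (iv F2839) D1001 (iv D833)
def n1002 : Q := act 3 n753
theorem D1002 : act 3 n753 = n1002 := rfl
theorem F3714 : act 0 n1002 = n764 := d2_1 D1002 (iv D764) (iv F2837)
theorem F3715 : act 2 n1002 = n755 := d13_1 D1002 (iv D755) (iv D567) (iv F2171) D753
theorem F3716 : act 5 n1002 = n782 := d19_2 (iv F2838) D1002 (iv D782)
theorem F3717 : act 7 n1002 = n834 := d21_2 (iv F2839) D1002 (iv D834)
def n1003 : Q := act 3 n754
theorem D1003 : act 3 n754 = n1003 := rfl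
theorem F3719 : act 1 n1003 = n755 := d8_1 D1003 (iv D755) D754
theorem F3720 : act 5 n1003 = n783 := d19_2 (iv F2842) D1003 (iv D783)
theorem F3722 : act 7 n1003 = n835 := d21_2 (iv F2844) D1003 (iv D835)
def n1004 : Q := act 4 n755
theorem D1004 : act 4 n755 = n1004 := rfl
theorem F3723 : act 0 n1004 = n765 := d3_1 D1004 (iv D765) (iv F2845)
theorem F3724 : act 6 n1004 = n1004 := d23_2 F2847 D1004 (iv D1004)
theorem F3725 : act 7 n1004 = n836 := d24_2 (iv F2848) D1004 (iv D836)
def n1005 : Q := act 4 n756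
theorem D1005 : act 4 n756 = n1005 := rfl
theorem F3726 : act 1 n1005 = n1005 := d9_1 D1005 (iv D1005) F2849
theorem F3727 : act 3 n1005 = n785 := d18_1 D1005 (iv D785) F2258 (iv F2183) (iv F2850)
theorem F3728 : act 5 n1005 = n1005 := d22_2 D756 D1005 (iv D1005) (iv D756) F2179
theorem F3729 : act 6 n1005 = n1005 := d23_2 F2851 D1005 (iv D1005)
def n1006 : Q := act 7 n756
theorem D1006 : act 7 n756 = n1006 := rfl
theorem F3730 : act 1 n1006 = n1006 := d12_1 D1006 (iv D1006) F2849
theorem F3731 : act 3 n1006 = n758 := d21_1 D1006 (iv D758) (iv F2850)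
theorem F3732 : act 5 n1006 = n757 := d26_1 D1006 (iv D757) D756
def n1007 : Q := act 6 n757
theorem D1007 : act 6 n757 = n1007 := rfl
theorem F3733 : act 1 n1007 = n1007 := d11_1 D1007 (iv D1007) F2852
theorem F3734 : act 3 n1007 = n759 := d20_1 D1007 (iv D759) (iv F2853)
theorem F3735 : act 4 n1007 = n1007 := d23_1 D1007 (iv D1007) F2854
theorem F3736 : act 7 n1007 = n1007 := d27_2 D757 D1007 (iv D1007) (iv D757) F2180
def n1008 : Q := act 6 n758
theorem D1008 : act 6 n758 = n1008 := rfl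
theorem F3737 : act 1 n1008 = n1008 := d11_1 D1008 (iv D1008) F2855
theorem F3738 : act 4 n1008 = n788 := d23_1 D1008 (iv D788) (iv F2857)
theorem F3739 : act 5 n1008 = n759 := d25_1 D1008 (iv D759) (iv F2858)
theorem F3740 : act 7 n1008 = n1008 := d27_2 D758 D1008 (iv D1008) (iv D758) F2184
def n1009 : Q := act 2 n759
theorem D1009 : act 2 n759 = n1009 := rfl
theorem F3741 : act 4 n1009 = n760 := d14_2 (iv F2860) D1009 (iv D760)
theorem F3742 : act 6 n1009 = n762 := d16_2 D759 D1009 (iv D762) (iv D573) (iv F2186)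
theorem F3743 : act 7 n1009 = n1009 := d17_2 F2861 D1009 (iv D1009)
def n1010 : Q := act 1 n760
theorem D1010 : act 1 n760 = n1010 := rfl
theorem F3744 : act 2 n1010 = n1010 := d7_2 D760 D1010 (iv D1010) (iv D760) F2188
theorem F3745 : act 5 n1010 = n790 := d10_2 (iv F2862) D1010 (iv D790)
theorem F3746 : act 6 n1010 = n763 := d11_2 (iv F2863) D1010 (iv D763)
theorem F3747 : act 7 n1010 = n1010 := d12_2 F2864 D1010 (iv D1010)
def n1011 : Q := act 3 n760
theorem D1011 : act 3 n760 = n1011 := rfl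
theorem F3748 : act 2 n1011 = n1011 := d13_1 D1011 (iv D1011) (iv D760) F2189 D760
theorem F3749 : act 5 n1011 = n791 := d19_2 (iv F2862) D1011 (iv D791)
theorem F3750 : act 6 n1011 = n764 := d20_2 (iv F2863) D1011 (iv D764)
theorem F3751 : act 7 n1011 = n1011 := d21_2 F2864 D1011 (iv D1011)
def n1012 : Q := act 2 n761
theorem D1012 : act 2 n761 = n1012 := rfl
theorem F3752 : act 4 n1012 = n792 := d14_2 (iv F2866) D1012 (iv D792)
theorem F3753 : act 5 n1012 = n762 := d15_2 (iv F2867) D1012 (iv D762)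
theorem F3754 : act 7 n1012 = n837 := d17_2 (iv F2868) D1012 (iv D837)
def n1013 : Q := act 1 n762
theorem D1013 : act 1 n762 = n1013 := rfl
theorem F3755 : act 2 n1013 = n767 := d7_2 D762 D1013 (iv D767) (iv D577) (iv F2195)
theorem F3756 : act 4 n1013 = n763 := d9_2 (iv F2869) D1013 (iv D763)
theorem F3757 : act 7 n1013 = n838 := d12_2 (iv F2870) D1013 (iv D838)
def n1014 : Q := act 3 n762
theorem D1014 : act 3 n762 = n1014 := rfl
theorem F3758 : act 7 n1014 = n839 := d21_2 (iv F2870) D1014 (iv D839)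
def n1015 : Q := act 0 n763
theorem D1015 : act 0 n763 = n1015 := rfl
theorem F3759 : act 2 n1015 = n769 := d1_2 (iv F2871) D1015 (iv D769)
theorem F3760 : act 5 n1015 = n795 := d4_2 (iv F2872) D1015 (iv D795)
theorem F3761 : act 7 n1015 = n840 := d6_2 (iv F2873) D1015 (iv D840)
def n1016 : Q := act 3 n763
theorem D1016 : act 3 n763 = n1016 := rfl
theorem F3762 : act 1 n1016 = n764 := d8_1 D1016 (iv D764) D763
theorem F3763 : act 2 n1016 = n1016 := d13_1 D1016 (iv D1016) F2871 F2212 (iv F2871)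
theorem F3764 : act 5 n1016 = n796 := d19_2 (iv F2872) D1016 (iv D796)
theorem F3765 : act 7 n1016 = n841 := d21_2 (iv F2873) D1016 (iv D841)
def n1017 : Q := act 4 n764
theorem D1017 : act 4 n764 = n1017 := rfl
theorem F3766 : act 2 n1017 = n765 := d14_1 D1017 (iv D765) (iv F2874)
theorem F3767 : act 7 n1017 = n842 := d24_2 (iv F2876) D1017 (iv D842)
def n1018 : Q := act 5 n765
theorem D1018 : act 5 n765 = n1018 := rfl
theorem F3768 : act 1 n1018 = n1018 := d10_1 D1018 (iv D1018) F2877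
theorem F3769 : act 4 n1018 = n798 := d22_1 D1018 (iv D798) (iv D599) (iv F2201) D765
theorem F3770 : act 6 n1018 = n1018 := d25_2 F2878 D1018 (iv D1018)
theorem F3771 : act 7 n1018 = n843 := d26_2 (iv F2879) D1018 (iv D843)
def n1019 : Q := act 1 n766
theorem D1019 : act 1 n766 = n1019 := rfl
theorem F3772 : act 4 n1019 = n799 := d9_2 (iv F2881) D1019 (iv D799)
theorem F3773 : act 5 n1019 = n767 := d10_2 (iv F2882) D1019 (iv D767)
theorem F3775 : act 7 n1019 = n844 := d12_2 (iv F2884) D1019 (iv D844)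
def n1020 : Q := act 3 n766
theorem D1020 : act 3 n766 = n1020 := rfl
theorem F3776 : act 0 n1020 = n1020 := d2_1 D1020 (iv D1020) F2880
theorem F3777 : act 5 n1020 = n768 := d19_2 (iv F2882) D1020 (iv D768)
theorem F3778 : act 6 n1020 = n1020 := d20_2 F2883 D1020 (iv D1020)
theorem F3779 : act 7 n1020 = n845 := d21_2 (iv F2884) D1020 (iv D845)
def n1021 : Q := act 0 n767
theorem D1021 : act 0 n767 = n1021 := rfl
theorem F3781 : act 4 n1021 = n769 := d3_2 (iv F2885) D1021 (iv D769)
def n1022 : Q := act 3 n767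
theorem D1022 : act 3 n767 = n1022 := rfl
theorem F3784 : act 1 n1022 = n768 := d8_1 D1022 (iv D768) D767
theorem F3785 : act 4 n1022 = n1022 := d18_2 (iv F2885) D1022 (iv D1022) F2885 F2212
theorem F3786 : act 6 n1022 = n1022 := d20_2 F2886 D1022 (iv D1022)
theorem F3787 : act 7 n1022 = n847 := d21_2 (iv F2887) D1022 (iv D847)
def n1023 : Q := act 2 n770
theorem D1023 : act 2 n770 = n1023 := rfl
theorem F3788 : act 0 n1023 = n1023 := d1_1 D1023 (iv D1023) F2897
theorem F3789 : act 1 n1023 = n1023 := d7_1 D1023 (iv D1023) F2898 F2225 (iv F2898)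
theorem F3790 : act 3 n1023 = n1023 := d13_2 D770 D1023 (iv D1023) (iv D770) F2218
theorem F3791 : act 4 n1023 = n1023 := d14_2 F2899 D1023 (iv D1023)
def n1024 : Q := act 5 n770
theorem D1024 : act 5 n770 = n1024 := rfl
theorem F3792 : act 0 n1024 = n1024 := d4_1 D1024 (iv D1024) F2897
theorem F3793 : act 1 n1024 = n774 := d10_1 D1024 (iv D774) (iv F2898)
theorem F3794 : act 3 n1024 = n771 := d19_1 D1024 (iv D771) D770
theorem F3795 : act 6 n1024 = n1024 := d25_2 F2900 D1024 (iv D1024)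
def n1025 : Q := act 7 n770
theorem D1025 : act 7 n770 = n1025 := rfl
theorem F3796 : act 0 n1025 = n1025 := d6_1 D1025 (iv D1025) F2897
theorem F3797 : act 1 n1025 = n775 := d12_1 D1025 (iv D775) (iv F2898)
theorem F3798 : act 3 n1025 = n772 := d21_1 D1025 (iv D772) D770
theorem F3799 : act 4 n1025 = n1025 := d24_1 D1025 (iv D1025) F2899
def n1026 : Q := act 7 n771
theorem D1026 : act 7 n771 = n1026 := rfl
theorem F3800 : act 0 n1026 = n1026 := d6_1 D1026 (iv D1026) F2901
theorem F3801 : act 1 n1026 = n776 := d12_1 D1026 (iv D776) (iv F2902)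
theorem F3802 : act 2 n1026 = n1026 := d17_1 D1026 (iv D1026) F2903
theorem F3803 : act 5 n1026 = n772 := d26_1 D1026 (iv D772) D771
def n1027 : Q := act 6 n772
theorem D1027 : act 6 n772 = n1027 := rfl
theorem F3804 : act 0 n1027 = n1027 := d5_1 D1027 (iv D1027) F2905
theorem F3805 : act 1 n1027 = n777 := d11_1 D1027 (iv D777) (iv F2906)
theorem F3806 : act 4 n1027 = n773 := d23_1 D1027 (iv D773) (iv F2908)
theorem F3807 : act 7 n1027 = n1027 := d27_2 D772 D1027 (iv D1027) (iv D772) F2219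
def n1028 : Q := act 2 n773
theorem D1028 : act 2 n773 = n1028 := rfl
theorem F3808 : act 0 n1028 = n1028 := d1_1 D1028 (iv D1028) F2909
theorem F3809 : act 6 n1028 = n1028 := d16_2 D773 D1028 (iv D1028) (iv D773) F2222
theorem F3810 : act 7 n1028 = n1028 := d17_2 F2912 D1028 (iv D1028)
def n1029 : Q := act 4 n774
theorem D1029 : act 4 n774 = n1029 := rfl
theorem F3811 : act 0 n1029 = n785 := d3_1 D1029 (iv D785) (iv F2913)
theorem F3812 : act 2 n1029 = n1029 := d14_1 D1029 (iv D1029) F2914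
theorem F3813 : act 5 n1029 = n1029 := d22_2 D774 D1029 (iv D1029) (iv D774) F2226
theorem F3814 : act 6 n1029 = n1029 := d23_2 F2916 D1029 (iv D1029)
def n1030 : Q := act 7 n774
theorem D1030 : act 7 n774 = n1030 := rfl
theorem F3815 : act 0 n1030 = n786 := d6_1 D1030 (iv D786) (iv F2913)
theorem F3816 : act 2 n1030 = n1030 := d17_1 D1030 (iv D1030) F2914
theorem F3817 : act 3 n1030 = n776 := d21_1 D1030 (iv D776) (iv F2915)
theorem F3818 : act 5 n1030 = n775 := d26_1 D1030 (iv D775) D774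
def n1031 : Q := act 6 n775
theorem D1031 : act 6 n775 = n1031 := rfl
theorem F3819 : act 0 n1031 = n787 := d5_1 D1031 (iv D787) (iv F2917)
theorem F3820 : act 3 n1031 = n777 := d20_1 D1031 (iv D777) (iv F2919)
theorem F3821 : act 4 n1031 = n1031 := d23_1 D1031 (iv D1031) F2920
theorem F3822 : act 7 n1031 = n1031 := d27_2 D775 D1031 (iv D1031) (iv D775) F2227
def n1032 : Q := act 6 n776
theorem D1032 : act 6 n776 = n1032 := rfl
theorem F3823 : act 0 n1032 = n788 := d5_1 D1032 (iv D788) (iv F2921)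
theorem F3824 : act 5 n1032 = n777 := d25_1 D1032 (iv D777) (iv F2923)
theorem F3825 : act 7 n1032 = n1032 := d27_2 D776 D1032 (iv D1032) (iv D776) F2230
def n1033 : Q := act 2 n777
theorem D1033 : act 2 n777 = n1033 := rfl
theorem F3826 : act 0 n1033 = n789 := d1_1 D1033 (iv D789) (iv F2924)
theorem F3827 : act 4 n1033 = n778 := d14_2 (iv F2925) D1033 (iv D778)
theorem F3828 : act 6 n1033 = n780 := d16_2 D777 D1033 (iv D780) (iv D586) (iv F2232)
theorem F3829 : act 7 n1033 = n1033 := d17_2 F2926 D1033 (iv D1033)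
def n1034 : Q := act 1 n778
theorem D1034 : act 1 n778 = n1034 := rfl
theorem F3830 : act 6 n1034 = n781 := d11_2 (iv F2928) D1034 (iv D781)
theorem F3831 : act 7 n1034 = n1034 := d12_2 F2929 D1034 (iv D1034)
def n1035 : Q := act 3 n778
theorem D1035 : act 3 n778 = n1035 := rfl
theorem F3832 : act 0 n1035 = n791 := d2_1 D1035 (iv D791) (iv F2927)
theorem F3833 : act 2 n1035 = n1035 := d13_1 D1035 (iv D1035) (iv D778) F2235 D778
theorem F3834 : act 6 n1035 = n782 := d20_2 (iv F2928) D1035 (iv D782)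
theorem F3835 : act 7 n1035 = n1035 := d21_2 F2929 D1035 (iv D1035)
def n1036 : Q := act 2 n779
theorem D1036 : act 2 n779 = n1036 := rfl
theorem F3836 : act 0 n1036 = n792 := d1_1 D1036 (iv D792) (iv F2930)
theorem F3837 : act 5 n1036 = n780 := d15_2 (iv F2933) D1036 (iv D780)
theorem F3838 : act 7 n1036 = n848 := d17_2 (iv F2934) D1036 (iv D848)
def n1037 : Q := act 1 n780
theorem D1037 : act 1 n780 = n1037 := rfl
theorem F3839 : act 2 n1037 = n1037 := d7_2 D780 D1037 (iv D1037) (iv D780) F2242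
theorem F3840 : act 4 n1037 = n781 := d9_2 (iv F2936) D1037 (iv D781)
theorem F3841 : act 7 n1037 = n849 := d12_2 (iv F2937) D1037 (iv D849)
def n1038 : Q := act 3 n780
theorem D1038 : act 3 n780 = n1038 := rfl
theorem F3842 : act 0 n1038 = n794 := d2_1 D1038 (iv D794) (iv F2935)
theorem F3843 : act 2 n1038 = n1038 := d13_1 D1038 (iv D1038) (iv D780) F2243 D780
theorem F3844 : act 7 n1038 = n850 := d21_2 (iv F2937) D1038 (iv D850)
def n1039 : Q := act 0 n781
theorem D1039 : act 0 n781 = n1039 := rfl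
theorem F3845 : act 1 n1039 = n795 := d0_2 D781 D1039 (iv D795) (iv D597) (iv F2246)
theorem F3847 : act 7 n1039 = n851 := d6_2 (iv F2939) D1039 (iv D851)
def n1040 : Q := act 3 n781
theorem D1040 : act 3 n781 = n1040 := rfl
theorem F3848 : act 1 n1040 = n782 := d8_1 D1040 (iv D782) D781
theorem F3849 : act 7 n1040 = n852 := d21_2 (iv F2939) D1040 (iv D852)
def n1041 : Q := act 4 n782
theorem D1041 : act 4 n782 = n1041 := rfl
theorem F3851 : act 2 n1041 = n784 := d14_1 D1041 (iv D784) (iv F2941)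
def n1042 : Q := act 2 n783
theorem D1042 : act 2 n783 = n1042 := rfl
theorem F3855 : act 7 n1042 = n854 := d17_2 (iv F2946) D1042 (iv D854)
def n1043 : Q := act 4 n783
theorem D1043 : act 4 n783 = n1043 := rfl
theorem F3857 : act 1 n1043 = n784 := d9_1 D1043 (iv D784) (iv F2944)
theorem F3860 : act 7 n1043 = n855 := d24_2 (iv F2946) D1043 (iv D855)
def n1045 : Q := act 7 n785
theorem D1045 : act 7 n785 = n1045 := rfl
theorem F3865 : act 1 n1045 = n1045 := d12_1 D1045 (iv D1045) F2951
theorem F3866 : act 2 n1045 = n1045 := d17_1 D1045 (iv D1045) F2952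
theorem F3867 : act 4 n1045 = n786 := d24_1 D1045 (iv D786) D785
theorem F3868 : act 5 n1045 = n1045 := d26_1 D1045 (iv D1045) F2953
def n1046 : Q := act 6 n786
theorem D1046 : act 6 n786 = n1046 := rfl
theorem F3869 : act 1 n1046 = n1046 := d11_1 D1046 (iv D1046) F2955
theorem F3870 : act 3 n1046 = n788 := d20_1 D1046 (iv D788) (iv F2957)
theorem F3871 : act 5 n1046 = n787 := d25_1 D1046 (iv D787) (iv F2958)
theorem F3872 : act 7 n1046 = n1046 := d27_2 D786 D1046 (iv D1046) (iv D786) F2259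
def n1047 : Q := act 2 n787
theorem D1047 : act 2 n787 = n1047 := rfl
theorem F3873 : act 4 n1047 = n1047 := d14_2 F2961 D1047 (iv D1047)
theorem F3874 : act 6 n1047 = n1047 := d16_2 D787 D1047 (iv D1047) (iv D787) F2261
theorem F3875 : act 7 n1047 = n1047 := d17_2 F2962 D1047 (iv D1047)
def n1048 : Q := act 2 n788
theorem D1048 : act 2 n788 = n1048 := rfl
theorem F3876 : act 5 n1048 = n789 := d15_2 (iv F2964) D1048 (iv D789)
theorem F3877 : act 6 n1048 = n792 := d16_2 D788 D1048 (iv D792) (iv D595) (iv F2265)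
theorem F3878 : act 7 n1048 = n1048 := d17_2 F2965 D1048 (iv D1048)
def n1049 : Q := act 1 n789
theorem D1049 : act 1 n789 = n1049 := rfl
theorem F3879 : act 2 n1049 = n1049 := d7_2 D789 D1049 (iv D1049) (iv D789) F2267
theorem F3880 : act 4 n1049 = n790 := d9_2 (iv F2966) D1049 (iv D790)
theorem F3881 : act 6 n1049 = n793 := d11_2 (iv F2967) D1049 (iv D793)
theorem F3882 : act 7 n1049 = n1049 := d12_2 F2968 D1049 (iv D1049)
def n1050 : Q := act 3 n789
theorem D1050 : act 3 n789 = n1050 := rfl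
theorem F3883 : act 6 n1050 = n794 := d20_2 (iv F2967) D1050 (iv D794)
def n1051 : Q := act 0 n790
theorem D1051 : act 0 n790 = n1051 := rfl
theorem F3885 : act 2 n1051 = n1051 := d1_2 F2969 D1051 (iv D1051)
theorem F3886 : act 6 n1051 = n795 := d5_2 (iv F2970) D1051 (iv D795)
theorem F3887 : act 7 n1051 = n1051 := d6_2 F2971 D1051 (iv D1051)
def n1052 : Q := act 3 n790
theorem D1052 : act 3 n790 = n1052 := rfl
theorem F3888 : act 1 n1052 = n791 := d8_1 D1052 (iv D791) D790
theorem F3889 : act 6 n1052 = n796 := d20_2 (iv F2970) D1052 (iv D796)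
theorem F3890 : act 7 n1052 = n1052 := d21_2 F2971 D1052 (iv D1052)
def n1053 : Q := act 4 n791
theorem D1053 : act 4 n791 = n1053 := rfl
theorem F3892 : act 6 n1053 = n797 := d23_2 (iv F2973) D1053 (iv D797)
def n1054 : Q := act 1 n792
theorem D1054 : act 1 n792 = n1054 := rfl
theorem F3894 : act 2 n1054 = n799 := d7_2 D792 D1054 (iv D799) (iv D600) (iv F2272)
theorem F3895 : act 5 n1054 = n793 := d10_2 (iv F2975) D1054 (iv D793)
theorem F3896 : act 7 n1054 = n857 := d12_2 (iv F2976) D1054 (iv D857)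
def n1055 : Q := act 3 n792
theorem D1055 : act 3 n792 = n1055 := rfl
theorem F3898 : act 5 n1055 = n794 := d19_2 (iv F2975) D1055 (iv D794)
theorem F3899 : act 7 n1055 = n858 := d21_2 (iv F2976) D1055 (iv D858)
def n1056 : Q := act 0 n793
theorem D1056 : act 0 n793 = n1056 := rfl
theorem F3900 : act 2 n1056 = n801 := d1_2 (iv F2977) D1056 (iv D801)
theorem F3901 : act 4 n1056 = n795 := d3_2 (iv F2978) D1056 (iv D795)
theorem F3902 : act 7 n1056 = n859 := d6_2 (iv F2979) D1056 (iv D859)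
def n1057 : Q := act 3 n793
theorem D1057 : act 3 n793 = n1057 := rfl
theorem F3903 : act 1 n1057 = n794 := d8_1 D1057 (iv D794) D793
theorem F3904 : act 7 n1057 = n860 := d21_2 (iv F2979) D1057 (iv D860)
def n1058 : Q := act 4 n794
theorem D1058 : act 4 n794 = n1058 := rfl
theorem F3906 : act 3 n1058 = n797 := d18_1 D1058 (iv D797) (iv D598) (iv F2276) D794
theorem F3907 : act 7 n1058 = n861 := d24_2 (iv F2981) D1058 (iv D861)
def n1059 : Q := act 3 n795
theorem D1059 : act 3 n795 = n1059 := rfl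
theorem F3908 : act 0 n1059 = n796 := d2_1 D1059 (iv D796) D795
theorem F3909 : act 2 n1059 = n1059 := d13_1 D1059 (iv D1059) F2982 F2299 (iv F2982)
theorem F3910 : act 7 n1059 = n862 := d21_2 (iv F2983) D1059 (iv D862)
def n1060 : Q := act 4 n796
theorem D1060 : act 4 n796 = n1060 := rfl
theorem F3911 : act 1 n1060 = n797 := d9_1 D1060 (iv D797) (iv F2984)
theorem F3913 : act 7 n1060 = n863 := d24_2 (iv F2986) D1060 (iv D863)
def n1061 : Q := act 5 n797
theorem D1061 : act 5 n797 = n1061 := rfl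
def n1062 : Q := act 0 n799
theorem D1062 : act 0 n799 = n1062 := rfl
theorem F3917 : act 5 n1062 = n801 := d4_2 (iv F2993) D1062 (iv D801)
theorem F3919 : act 7 n1062 = n865 := d6_2 (iv F2995) D1062 (iv D865)
def n1063 : Q := act 3 n799
theorem D1063 : act 3 n799 = n1063 := rfl
theorem F3920 : act 1 n1063 = n800 := d8_1 D1063 (iv D800) D799
theorem F3921 : act 5 n1063 = n802 := d19_2 (iv F2993) D1063 (iv D802)
theorem F3923 : act 7 n1063 = n866 := d21_2 (iv F2995) D1063 (iv D866)
def n1065 : Q := act 3 n801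
theorem D1065 : act 3 n801 = n1065 := rfl
theorem F3929 : act 0 n1065 = n802 := d2_1 D1065 (iv D802) D801
theorem F3932 : act 6 n1065 = n1065 := d20_2 F3003 D1065 (iv D1065)
theorem F3933 : act 7 n1065 = n868 := d21_2 (iv F3004) D1065 (iv D868)
def n1066 : Q := act 2 n802
theorem D1066 : act 2 n802 = n1066 := rfl
theorem F3934 : act 1 n1066 = n1066 := d7_1 D1066 (iv D1066) F3005 F2294 (iv F3005)
theorem F3936 : act 7 n1066 = n869 := d17_2 (iv F3008) D1066 (iv D869)
def n1067 : Q := act 5 n803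
theorem D1067 : act 5 n803 = n1067 := rfl
theorem F3937 : act 0 n1067 = n1067 := d4_1 D1067 (iv D1067) F3009
theorem F3938 : act 1 n1067 = n806 := d10_1 D1067 (iv D806) (iv F3010)
theorem F3939 : act 2 n1067 = n1067 := d15_1 D1067 (iv D1067) F3011
theorem F3940 : act 3 n1067 = n1067 := d19_1 D1067 (iv D1067) F3012
theorem F3941 : act 4 n1067 = n1067 := d22_1 D1067 (iv D1067) (iv D803) F2305 D803
def n1068 : Q := act 6 n803
theorem D1068 : act 6 n803 = n1068 := rfl
theorem F3942 : act 0 n1068 = n1068 := d5_1 D1068 (iv D1068) F3009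
theorem F3943 : act 1 n1068 = n807 := d11_1 D1068 (iv D807) (iv F3010)
theorem F3944 : act 3 n1068 = n1068 := d20_1 D1068 (iv D1068) F3012
theorem F3945 : act 4 n1068 = n804 := d23_1 D1068 (iv D804) D803
def n1069 : Q := act 7 n803
theorem D1069 : act 7 n803 = n1069 := rfl
theorem F3946 : act 0 n1069 = n1069 := d6_1 D1069 (iv D1069) F3009
theorem F3947 : act 1 n1069 = n808 := d12_1 D1069 (iv D808) (iv F3010)
theorem F3948 : act 2 n1069 = n1069 := d17_1 D1069 (iv D1069) F3011
theorem F3949 : act 3 n1069 = n1069 := d21_1 D1069 (iv D1069) F3012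
theorem F3950 : act 4 n1069 = n805 := d24_1 D1069 (iv D805) D803
def n1070 : Q := act 2 n804
theorem D1070 : act 2 n804 = n1070 := rfl
theorem F3951 : act 0 n1070 = n1070 := d1_1 D1070 (iv D1070) F3013
theorem F3952 : act 5 n1070 = n1070 := d15_2 F3016 D1070 (iv D1070)
theorem F3953 : act 6 n1070 = n1070 := d16_2 D804 D1070 (iv D1070) (iv D804) F2303
def n1071 : Q := act 7 n804
theorem D1071 : act 7 n804 = n1071 := rfl
theorem F3954 : act 0 n1071 = n1071 := d6_1 D1071 (iv D1071) F3013
theorem F3955 : act 1 n1071 = n809 := d12_1 D1071 (iv D809) (iv F3014)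
theorem F3956 : act 3 n1071 = n888 := d21_1 D1071 (iv D888) (iv F3015)
theorem F3957 : act 5 n1071 = n1071 := d26_1 D1071 (iv D1071) F3016
def n1072 : Q := act 6 n805
theorem D1072 : act 6 n805 = n1072 := rfl
theorem F3958 : act 0 n1072 = n1072 := d5_1 D1072 (iv D1072) F3017
theorem F3959 : act 1 n1072 = n810 := d11_1 D1072 (iv D810) (iv F3018)
theorem F3960 : act 3 n1072 = n889 := d20_1 D1072 (iv D889) (iv F3020)
theorem F3961 : act 5 n1072 = n1072 := d25_1 D1072 (iv D1072) F3021
def n1073 : Q := act 6 n806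
theorem D1073 : act 6 n806 = n1073 := rfl
theorem F3962 : act 0 n1073 = n816 := d5_1 D1073 (iv D816) (iv F3022)
theorem F3963 : act 3 n1073 = n1073 := d20_1 D1073 (iv D1073) F3024
theorem F3964 : act 4 n1073 = n1073 := d23_1 D1073 (iv D1073) F3025
theorem F3965 : act 5 n1073 = n807 := d25_1 D1073 (iv D807) D806
def n1074 : Q := act 7 n806
theorem D1074 : act 7 n806 = n1074 := rfl
theorem F3966 : act 0 n1074 = n817 := d6_1 D1074 (iv D817) (iv F3022)
theorem F3967 : act 2 n1074 = n811 := d17_1 D1074 (iv D811) (iv F3023)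
theorem F3968 : act 3 n1074 = n1074 := d21_1 D1074 (iv D1074) F3024
theorem F3969 : act 4 n1074 = n1074 := d24_1 D1074 (iv D1074) F3025
theorem F3970 : act 5 n1074 = n808 := d26_1 D1074 (iv D808) D806
def n1075 : Q := act 7 n807
theorem D1075 : act 7 n807 = n1075 := rfl
theorem F3971 : act 0 n1075 = n818 := d6_1 D1075 (iv D818) (iv F3026)
theorem F3972 : act 3 n1075 = n1075 := d21_1 D1075 (iv D1075) F3027
theorem F3973 : act 4 n1075 = n809 := d24_1 D1075 (iv D809) (iv F3028)
def n1076 : Q := act 6 n808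
theorem D1076 : act 6 n808 = n1076 := rfl
theorem F3974 : act 0 n1076 = n819 := d5_1 D1076 (iv D819) (iv F3029)
theorem F3975 : act 3 n1076 = n1076 := d20_1 D1076 (iv D1076) F3031
theorem F3976 : act 4 n1076 = n810 := d23_1 D1076 (iv D810) (iv F3032)
def n1077 : Q := act 6 n809
theorem D1077 : act 6 n809 = n1077 := rfl
theorem F3977 : act 0 n1077 = n820 := d5_1 D1077 (iv D820) (iv F3033)
theorem F3978 : act 3 n1077 = n890 := d20_1 D1077 (iv D890) (iv F3034)
theorem F3979 : act 5 n1077 = n1077 := d25_1 D1077 (iv D1077) F3035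
theorem F3980 : act 7 n1077 = n810 := d27_2 D809 D1077 (iv D810) (iv D607) D606
def n1078 : Q := act 2 n810
theorem D1078 : act 2 n810 = n1078 := rfl
theorem F3981 : act 0 n1078 = n821 := d1_1 D1078 (iv D821) (iv F3036)
theorem F3982 : act 5 n1078 = n1078 := d15_2 F3038 D1078 (iv D1078)
theorem F3983 : act 6 n1078 = n813 := d16_2 D810 D1078 (iv D813) (iv D610) (iv F2313)
def n1079 : Q := act 6 n811
theorem D1079 : act 6 n811 = n1079 := rfl
theorem F3984 : act 0 n1079 = n822 := d5_1 D1079 (iv D822) (iv F3039)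
theorem F3985 : act 1 n1079 = n1079 := d11_1 D1079 (iv D1079) F3040
theorem F3986 : act 3 n1079 = n831 := d20_1 D1079 (iv D831) (iv F3041)
theorem F3987 : act 4 n1079 = n1079 := d23_1 D1079 (iv D1079) F3042
theorem F3988 : act 5 n1079 = n812 := d25_1 D1079 (iv D812) (iv F3043)
def n1080 : Q := act 2 n812
theorem D1080 : act 2 n812 = n1080 := rfl
theorem F3989 : act 0 n1080 = n823 := d1_1 D1080 (iv D823) (iv F3044)
theorem F3990 : act 4 n1080 = n813 := d14_2 (iv F3047) D1080 (iv D813)
def n1081 : Q := act 1 n813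
theorem D1081 : act 1 n813 = n1081 := rfl
theorem F3991 : act 2 n1081 = n1081 := d7_2 D813 D1081 (iv D1081) (iv D813) F2325
theorem F3992 : act 5 n1081 = n1081 := d10_2 F3049 D1081 (iv D1081)
def n1082 : Q := act 3 n813
theorem D1082 : act 3 n813 = n1082 := rfl
theorem F3993 : act 0 n1082 = n825 := d2_1 D1082 (iv D825) (iv F3048)
theorem F3994 : act 2 n1082 = n815 := d13_1 D1082 (iv D815) (iv D611) (iv F2326) D813
theorem F3995 : act 5 n1082 = n1082 := d19_2 F3049 D1082 (iv D1082)
def n1083 : Q := act 3 n814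
theorem D1083 : act 3 n814 = n1083 := rfl
theorem F3996 : act 0 n1083 = n1083 := d2_1 D1083 (iv D1083) F3050
theorem F3997 : act 1 n1083 = n815 := d8_1 D1083 (iv D815) D814
theorem F3998 : act 5 n1083 = n1083 := d19_2 F3053 D1083 (iv D1083)
theorem F3999 : act 6 n1083 = n894 := d20_2 (iv F3054) D1083 (iv D894)
def n1084 : Q := act 4 n815
theorem D1084 : act 4 n815 = n1084 := rfl
theorem F4000 : act 0 n1084 = n826 := d3_1 D1084 (iv D826) (iv F3055)
theorem F4001 : act 3 n1084 = n836 := d18_1 D1084 (iv D836) (iv D628) (iv F2329) D815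
theorem F4002 : act 6 n1084 = n895 := d23_2 (iv F3057) D1084 (iv D895)
def n1085 : Q := act 7 n816
theorem D1085 : act 7 n816 = n1085 := rfl
theorem F4003 : act 1 n1085 = n1085 := d12_1 D1085 (iv D1085) F3058
theorem F4004 : act 3 n1085 = n1085 := d21_1 D1085 (iv D1085) F3059
theorem F4005 : act 4 n1085 = n1085 := d24_1 D1085 (iv D1085) F3060
theorem F4006 : act 5 n1085 = n818 := d26_1 D1085 (iv D818) (iv F3061)
def n1086 : Q := act 6 n817
theorem D1086 : act 6 n817 = n1086 := rfl
theorem F4007 : act 1 n1086 = n1086 := d11_1 D1086 (iv D1086) F3062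
theorem F4008 : act 3 n1086 = n1086 := d20_1 D1086 (iv D1086) F3064
theorem F4009 : act 4 n1086 = n1086 := d23_1 D1086 (iv D1086) F3065
theorem F4010 : act 5 n1086 = n819 := d25_1 D1086 (iv D819) (iv F3066)
def n1087 : Q := act 6 n818
theorem D1087 : act 6 n818 = n1087 := rfl
theorem F4011 : act 1 n1087 = n1087 := d11_1 D1087 (iv D1087) F3067
theorem F4012 : act 3 n1087 = n1087 := d20_1 D1087 (iv D1087) F3068
theorem F4013 : act 4 n1087 = n820 := d23_1 D1087 (iv D820) (iv F3069)
theorem F4014 : act 7 n1087 = n819 := d27_2 D818 D1087 (iv D819) (iv D614) D613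
def n1088 : Q := act 2 n819
theorem D1088 : act 2 n819 = n1088 := rfl
theorem F4015 : act 4 n1088 = n821 := d14_2 (iv F3072) D1088 (iv D821)
theorem F4016 : act 6 n1088 = n823 := d16_2 D819 D1088 (iv D823) (iv D618) (iv F2340)
def n1089 : Q := act 2 n820
theorem D1089 : act 2 n820 = n1089 := rfl
theorem F4017 : act 5 n1089 = n1089 := d15_2 F3075 D1089 (iv D1089)
theorem F4018 : act 7 n1089 = n821 := d17_2 (iv F3076) D1089 (iv D821)
def n1090 : Q := act 1 n821
theorem D1090 : act 1 n821 = n1090 := rfl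
theorem F4019 : act 2 n1090 = n1090 := d7_2 D821 D1090 (iv D1090) (iv D821) F2346
theorem F4020 : act 5 n1090 = n1090 := d10_2 F3077 D1090 (iv D1090)
theorem F4021 : act 6 n1090 = n824 := d11_2 (iv F3078) D1090 (iv D824)
def n1091 : Q := act 3 n821
theorem D1091 : act 3 n821 = n1091 := rfl
theorem F4022 : act 2 n1091 = n898 := d13_1 D1091 (iv D898) (iv D677) (iv F2347) D821
theorem F4023 : act 5 n1091 = n1091 := d19_2 F3077 D1091 (iv D1091)
theorem F4024 : act 6 n1091 = n825 := d20_2 (iv F3078) D1091 (iv D825)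
def n1092 : Q := act 2 n822
theorem D1092 : act 2 n822 = n1092 := rfl
theorem F4025 : act 4 n1092 = n1092 := d14_2 F3081 D1092 (iv D1092)
theorem F4026 : act 5 n1092 = n823 := d15_2 (iv F3082) D1092 (iv D823)
def n1093 : Q := act 1 n823
theorem D1093 : act 1 n823 = n1093 := rfl
theorem F4027 : act 2 n1093 = n828 := d7_2 D823 D1093 (iv D828) (iv D622) (iv F2353)
theorem F4028 : act 4 n1093 = n824 := d9_2 (iv F3083) D1093 (iv D824)
def n1094 : Q := act 3 n823
theorem D1094 : act 3 n823 = n1094 := rfl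
theorem F4029 : act 2 n1094 = n839 := d13_1 D1094 (iv D839) (iv D630) (iv F2354) D823
def n1095 : Q := act 0 n824
theorem D1095 : act 0 n824 = n1095 := rfl
theorem F4030 : act 2 n1095 = n830 := d1_2 (iv F3084) D1095 (iv D830)
theorem F4031 : act 5 n1095 = n1095 := d4_2 F3085 D1095 (iv D1095)
def n1096 : Q := act 3 n824
theorem D1096 : act 3 n824 = n1096 := rfl
theorem F4032 : act 1 n1096 = n825 := d8_1 D1096 (iv D825) D824
theorem F4033 : act 2 n1096 = n1096 := d13_1 D1096 (iv D1096) F3084 F2367 (iv F3084)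
theorem F4034 : act 5 n1096 = n1096 := d19_2 F3085 D1096 (iv D1096)
def n1097 : Q := act 4 n825
theorem D1097 : act 4 n825 = n1097 := rfl
theorem F4035 : act 2 n1097 = n826 := d14_1 D1097 (iv D826) (iv F3086)
def n1098 : Q := act 5 n826
theorem D1098 : act 5 n826 = n1098 := rfl
theorem F4036 : act 1 n1098 = n1098 := d10_1 D1098 (iv D1098) F3088
theorem F4037 : act 3 n1098 = n843 := d19_1 D1098 (iv D843) (iv F3089)
theorem F4038 : act 4 n1098 = n1098 := d22_1 D1098 (iv D1098) (iv D826) F2358 D826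
theorem F4039 : act 6 n1098 = n902 := d25_2 (iv F3090) D1098 (iv D902)
def n1099 : Q := act 1 n827
theorem D1099 : act 1 n827 = n1099 := rfl
theorem F4040 : act 4 n1099 = n1099 := d9_2 F3092 D1099 (iv D1099)
theorem F4041 : act 5 n1099 = n828 := d10_2 (iv F3093) D1099 (iv D828)
theorem F4042 : act 6 n1099 = n1099 := d11_2 F3094 D1099 (iv D1099)
def n1100 : Q := act 3 n827
theorem D1100 : act 3 n827 = n1100 := rfl
theorem F4043 : act 0 n1100 = n1100 := d2_1 D1100 (iv D1100) F3091
theorem F4044 : act 2 n1100 = n845 := d13_1 D1100 (iv D845) (iv D634) (iv F2361) D827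
theorem F4045 : act 5 n1100 = n829 := d19_2 (iv F3093) D1100 (iv D829)
theorem F4046 : act 6 n1100 = n1100 := d20_2 F3094 D1100 (iv D1100)
def n1101 : Q := act 0 n828
theorem D1101 : act 0 n828 = n1101 := rfl
theorem F4047 : act 1 n1101 = n1101 := d0_2 D828 D1101 (iv D1101) (iv D828) F2364
theorem F4048 : act 4 n1101 = n830 := d3_2 (iv F3095) D1101 (iv D830)
theorem F4049 : act 6 n1101 = n1101 := d5_2 F3096 D1101 (iv D1101)
def n1102 : Q := act 3 n828
theorem D1102 : act 3 n828 = n1102 := rfl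
theorem F4050 : act 1 n1102 = n829 := d8_1 D1102 (iv D829) D828
theorem F4051 : act 4 n1102 = n1102 := d18_2 (iv F3095) D1102 (iv D1102) F3095 F2367
theorem F4052 : act 6 n1102 = n1102 := d20_2 F3096 D1102 (iv D1102)
def n1103 : Q := act 2 n831
theorem D1103 : act 2 n831 = n1103 := rfl
theorem F4053 : act 0 n1103 = n837 := d1_1 D1103 (iv D837) (iv F3105)
theorem F4054 : act 4 n1103 = n848 := d14_2 (iv F3107) D1103 (iv D848)
theorem F4055 : act 5 n1103 = n832 := d15_2 (iv F3108) D1103 (iv D832)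
theorem F4056 : act 6 n1103 = n1103 := d16_2 D831 D1103 (iv D1103) (iv D831) F2372
def n1104 : Q := act 1 n832
theorem D1104 : act 1 n832 = n1104 := rfl
theorem F4057 : act 2 n1104 = n1104 := d7_2 D832 D1104 (iv D1104) (iv D832) F2376
theorem F4058 : act 4 n1104 = n833 := d9_2 (iv F3110) D1104 (iv D833)
theorem F4059 : act 6 n1104 = n1104 := d11_2 F3111 D1104 (iv D1104)
def n1105 : Q := act 3 n832
theorem D1105 : act 3 n832 = n1105 := rfl
theorem F4060 : act 0 n1105 = n839 := d2_1 D1105 (iv D839) (iv F3109)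
theorem F4061 : act 6 n1105 = n1105 := d20_2 F3111 D1105 (iv D1105)
def n1106 : Q := act 0 n833
theorem D1106 : act 0 n833 = n1106 := rfl
theorem F4062 : act 1 n1106 = n840 := d0_2 D833 D1106 (iv D840) (iv D631) (iv F2378)
theorem F4063 : act 2 n1106 = n1106 := d1_2 F3112 D1106 (iv D1106)
theorem F4065 : act 6 n1106 = n1106 := d5_2 F3114 D1106 (iv D1106)
def n1107 : Q := act 3 n833
theorem D1107 : act 3 n833 = n1107 := rfl
theorem F4066 : act 1 n1107 = n834 := d8_1 D1107 (iv D834) D833
def n1108 : Q := act 4 n834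
theorem D1108 : act 4 n834 = n1108 := rfl
theorem F4069 : act 0 n1108 = n842 := d3_1 D1108 (iv D842) (iv F3115)
theorem F4070 : act 2 n1108 = n836 := d14_1 D1108 (iv D836) (iv F3116)
theorem F4071 : act 6 n1108 = n1108 := d23_2 F3118 D1108 (iv D1108)
def n1110 : Q := act 4 n835
theorem D1110 : act 4 n835 = n1110 := rfl
theorem F4076 : act 1 n1110 = n836 := d9_1 D1110 (iv D836) (iv F3120)
def n1112 : Q := act 1 n837
theorem D1112 : act 1 n837 = n1112 := rfl
theorem F4082 : act 4 n1112 = n857 := d9_2 (iv F3125) D1112 (iv D857)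
theorem F4083 : act 5 n1112 = n838 := d10_2 (iv F3126) D1112 (iv D838)
def n1113 : Q := act 3 n837
theorem D1113 : act 3 n837 = n1113 := rfl
theorem F4085 : act 5 n1113 = n839 := d19_2 (iv F3126) D1113 (iv D839)
theorem F4086 : act 6 n1113 = n1113 := d20_2 F3127 D1113 (iv D1113)
def n1114 : Q := act 0 n838
theorem D1114 : act 0 n838 = n1114 := rfl
theorem F4087 : act 2 n1114 = n846 := d1_2 (iv F3128) D1114 (iv D846)
theorem F4088 : act 4 n1114 = n840 := d3_2 (iv F3129) D1114 (iv D840)
theorem F4089 : act 6 n1114 = n1114 := d5_2 F3130 D1114 (iv D1114)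
def n1115 : Q := act 3 n838
theorem D1115 : act 3 n838 = n1115 := rfl
theorem F4090 : act 1 n1115 = n839 := d8_1 D1115 (iv D839) D838
theorem F4091 : act 6 n1115 = n1115 := d20_2 F3130 D1115 (iv D1115)
def n1116 : Q := act 4 n839
theorem D1116 : act 4 n839 = n1116 := rfl
theorem F4092 : act 3 n1116 = n842 := d18_1 D1116 (iv D842) (iv D632) (iv F2391) D839
theorem F4093 : act 6 n1116 = n1116 := d23_2 F3131 D1116 (iv D1116)
def n1117 : Q := act 3 n840
theorem D1117 : act 3 n840 = n1117 := rfl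
theorem F4094 : act 0 n1117 = n841 := d2_1 D1117 (iv D841) D840
theorem F4095 : act 2 n1117 = n1117 := d13_1 D1117 (iv D1117) F3132 F2411 (iv F3132)
theorem F4096 : act 5 n1117 = n862 := d19_2 (iv F3133) D1117 (iv D862)
theorem F4097 : act 6 n1117 = n1117 := d20_2 F3134 D1117 (iv D1117)
def n1118 : Q := act 4 n841
theorem D1118 : act 4 n841 = n1118 := rfl
theorem F4098 : act 1 n1118 = n842 := d9_1 D1118 (iv D842) (iv F3135)
theorem F4099 : act 2 n1118 = n1118 := d14_1 D1118 (iv D1118) F3136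
theorem F4100 : act 6 n1118 = n1118 := d23_2 F3138 D1118 (iv D1118)
def n1119 : Q := act 5 n842
theorem D1119 : act 5 n842 = n1119 := rfl
theorem F4102 : act 4 n1119 = n864 := d22_1 D1119 (iv D864) (iv D649) (iv F2397) D842
def n1120 : Q := act 0 n844
theorem D1120 : act 0 n844 = n1120 := rfl
theorem F4105 : act 4 n1120 = n865 := d3_2 (iv F3144) D1120 (iv D865)
def n1121 : Q := act 3 n844
theorem D1121 : act 3 n844 = n1121 := rfl
theorem F4108 : act 1 n1121 = n845 := d8_1 D1121 (iv D845) D844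
theorem F4109 : act 5 n1121 = n847 := d19_2 (iv F3145) D1121 (iv D847)
theorem F4110 : act 6 n1121 = n871 := d20_2 (iv F3146) D1121 (iv D871)
def n1122 : Q := act 4 n845
theorem D1122 : act 4 n845 = n1122 := rfl
theorem F4114 : act 6 n1122 = n872 := d23_2 (iv F3149) D1122 (iv D872)
def n1123 : Q := act 3 n846
theorem D1123 : act 3 n846 = n1123 := rfl
theorem F4115 : act 0 n1123 = n847 := d2_1 D1123 (iv D847) D846
theorem F4118 : act 6 n1123 = n873 := d20_2 (iv F3152) D1123 (iv D873)
def n1124 : Q := act 2 n847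
theorem D1124 : act 2 n847 = n1124 := rfl
theorem F4119 : act 4 n1124 = n1124 := d14_2 F3154 D1124 (iv D1124)
def n1125 : Q := act 1 n848
theorem D1125 : act 1 n848 = n1125 := rfl
theorem F4121 : act 5 n1125 = n849 := d10_2 (iv F3157) D1125 (iv D849)
def n1126 : Q := act 3 n848
theorem D1126 : act 3 n848 = n1126 := rfl
theorem F4123 : act 0 n1126 = n858 := d2_1 D1126 (iv D858) (iv F3156)
theorem F4125 : act 5 n1126 = n850 := d19_2 (iv F3157) D1126 (iv D850)
def n1127 : Q := act 0 n849
theorem D1127 : act 0 n849 = n1127 := rfl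
theorem F4127 : act 1 n1127 = n859 := d0_2 D849 D1127 (iv D859) (iv D645) (iv F2418)
theorem F4129 : act 4 n1127 = n851 := d3_2 (iv F3160) D1127 (iv D851)
def n1128 : Q := act 3 n849
theorem D1128 : act 3 n849 = n1128 := rfl
theorem F4131 : act 1 n1128 = n850 := d8_1 D1128 (iv D850) D849
def n1129 : Q := act 4 n850
theorem D1129 : act 4 n850 = n1129 := rfl
theorem F4133 : act 0 n1129 = n861 := d3_1 D1129 (iv D861) (iv F3162)
theorem F4135 : act 3 n1129 = n853 := d18_1 D1129 (iv D853) (iv D641) (iv F2419) D850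
def n1130 : Q := act 3 n851
theorem D1130 : act 3 n851 = n1130 := rfl
theorem F4137 : act 0 n1130 = n852 := d2_1 D1130 (iv D852) D851
theorem F4138 : act 1 n1130 = n862 := d8_1 D1130 (iv D862) (iv F3165)
def n1131 : Q := act 2 n852
theorem D1131 : act 2 n852 = n1131 := rfl
theorem F4140 : act 1 n1131 = n854 := d7_1 D1131 (iv D854) F2427 (iv F2424) (iv F3168)
def n1132 : Q := act 4 n852
theorem D1132 : act 4 n852 = n1132 := rfl
theorem F4142 : act 1 n1132 = n853 := d9_1 D1132 (iv D853) (iv F3168)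
def n1134 : Q := act 4 n854
theorem D1134 : act 4 n854 = n1134 := rfl
def n1136 : Q := act 5 n855
theorem D1136 : act 5 n855 = n1136 := rfl
def n1137 : Q := act 0 n857
theorem D1137 : act 0 n857 = n1137 := rfl
theorem F4156 : act 2 n1137 = n865 := d1_2 (iv F3182) D1137 (iv D865)
def n1138 : Q := act 3 n857
theorem D1138 : act 3 n857 = n1138 := rfl
def n1139 : Q := act 4 n858
theorem D1139 : act 4 n858 = n1139 := rfl
def n1140 : Q := act 3 n859
theorem D1140 : act 3 n859 = n1140 := rfl
theorem F4164 : act 0 n1140 = n860 := d2_1 D1140 (iv D860) D859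
theorem F4165 : act 6 n1140 = n1140 := d20_2 F3190 D1140 (iv D1140)
def n1141 : Q := act 2 n860
theorem D1141 : act 2 n860 = n1141 := rfl
def n1143 : Q := act 5 n861
theorem D1143 : act 5 n861 = n1143 := rfl
def n1144 : Q := act 4 n862
theorem D1144 : act 4 n862 = n1144 := rfl
theorem F4174 : act 0 n1144 = n863 := d3_1 D1144 (iv D863) (iv F3196)
def n1145 : Q := act 5 n863
theorem D1145 : act 5 n863 = n1145 := rfl
def n1146 : Q := act 3 n865
theorem D1146 : act 3 n865 = n1146 := rfl
theorem F4180 : act 0 n1146 = n866 := d2_1 D1146 (iv D866) D865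
theorem F4183 : act 6 n1146 = n875 := d20_2 (iv F3206) D1146 (iv D875)
def n1147 : Q := act 2 n866
theorem D1147 : act 2 n866 = n1147 := rfl
def n1148 : Q := act 4 n866
theorem D1148 : act 4 n866 = n1148 := rfl
theorem F4188 : act 6 n1148 = n877 := d23_2 (iv F3209) D1148 (iv D877)
def n1149 : Q := act 2 n868
theorem D1149 : act 2 n868 = n1149 := rfl
def n1150 : Q := act 6 n869
theorem D1150 : act 6 n869 = n1150 := rfl
def n1151 : Q := act 3 n870
theorem D1151 : act 3 n870 = n1151 := rfl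
theorem F4194 : act 0 n1151 = n871 := d2_1 D1151 (iv D871) D870
theorem F4196 : act 5 n1151 = n873 := d19_2 (iv F3223) D1151 (iv D873)
def n1152 : Q := act 2 n871
theorem D1152 : act 2 n871 = n1152 := rfl
theorem F4198 : act 1 n1152 = n1152 := d7_1 D1152 (iv D1152) F3225 F2466 (iv F3225)
theorem F4199 : act 3 n1152 = n1152 := d13_2 D871 D1152 (iv D1152) (iv D871) F2461
theorem F4200 : act 5 n1152 = n874 := d15_2 (iv F3226) D1152 (iv D874)
theorem F4201 : act 7 n1152 = n1152 := d17_2 F3227 D1152 (iv D1152)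
def n1153 : Q := act 4 n871
theorem D1153 : act 4 n871 = n1153 := rfl
theorem F4203 : act 3 n1153 = n877 := d18_1 D1153 (iv D877) (iv D660) (iv F2462) D871
def n1154 : Q := act 2 n873
theorem D1154 : act 2 n873 = n1154 := rfl
theorem F4206 : act 0 n1154 = n874 := d1_1 D1154 (iv D874) (iv F3233)
theorem F4207 : act 3 n1154 = n1154 := d13_2 D873 D1154 (iv D1154) (iv D873) F2470
theorem F4208 : act 4 n1154 = n1154 := d14_2 F3235 D1154 (iv D1154)
theorem F4209 : act 7 n1154 = n1154 := d17_2 F3236 D1154 (iv D1154)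
def n1155 : Q := act 6 n874
theorem D1155 : act 6 n874 = n1155 := rfl
theorem F4210 : act 1 n1155 = n1155 := d11_1 D1155 (iv D1155) F3237
theorem F4211 : act 3 n1155 = n1155 := d20_1 D1155 (iv D1155) F3238
theorem F4212 : act 4 n1155 = n1155 := d23_1 D1155 (iv D1155) F3239
def n1156 : Q := act 2 n875
theorem D1156 : act 2 n875 = n1156 := rfl
theorem F4213 : act 0 n1156 = n876 := d1_1 D1156 (iv D876) (iv F3241)
theorem F4215 : act 5 n1156 = n878 := d15_2 (iv F3243) D1156 (iv D878)
def n1157 : Q := act 4 n875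
theorem D1157 : act 4 n875 = n1157 := rfl
theorem F4217 : act 0 n1157 = n877 := d3_1 D1157 (iv D877) (iv F3241)
def n1158 : Q := act 4 n876
theorem D1158 : act 4 n876 = n1158 := rfl
theorem F4221 : act 1 n1158 = n882 := d9_1 D1158 (iv D882) (iv F3245)
theorem F4222 : act 2 n1158 = n877 := d14_1 D1158 (iv D877) D876
def n1159 : Q := act 6 n876
theorem D1159 : act 6 n876 = n1159 := rfl
theorem F4225 : act 1 n1159 = n883 := d11_1 D1159 (iv D883) (iv F3245)
def n1160 : Q := act 1 n878
theorem D1160 : act 1 n878 = n1160 := rfl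
theorem F4228 : act 0 n1160 = n884 := d0_1 D1160 (iv D884) F2508 (iv F2491) (iv F3252)
def n1161 : Q := act 6 n878
theorem D1161 : act 6 n878 = n1161 := rfl
theorem F4233 : act 0 n1161 = n879 := d5_1 D1161 (iv D879) (iv F3252)
def n1162 : Q := act 7 n879
theorem D1162 : act 7 n879 = n1162 := rfl
theorem F4236 : act 1 n1162 = n886 := d12_1 D1162 (iv D886) (iv F3256)
def n1163 : Q := act 1 n880
theorem D1163 : act 1 n880 = n1163 := rfl
theorem F4242 : act 5 n1163 = n884 := d10_2 (iv F3261) D1163 (iv D884)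
def n1164 : Q := act 4 n880
theorem D1164 : act 4 n880 = n1164 := rfl
theorem F4244 : act 0 n1164 = n882 := d3_1 D1164 (iv D882) (iv F3259)
theorem F4245 : act 2 n1164 = n881 := d14_1 D1164 (iv D881) D880
def n1165 : Q := act 6 n880
theorem D1165 : act 6 n880 = n1165 := rfl
theorem F4248 : act 0 n1165 = n883 := d5_1 D1165 (iv D883) (iv F3259)
def n1166 : Q := act 3 n882
theorem D1166 : act 3 n882 = n1166 := rfl
theorem F4252 : act 2 n1166 = n1166 := d13_1 D1166 (iv D1166) F3269 F2504 (iv F3269)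
def n1167 : Q := act 6 n882
theorem D1167 : act 6 n882 = n1167 := rfl
def n1168 : Q := act 7 n883
theorem D1168 : act 7 n883 = n1168 := rfl
def n1169 : Q := act 6 n884
theorem D1169 : act 6 n884 = n1169 := rfl
def n1171 : Q := act 3 n887
theorem D1171 : act 3 n887 = n1171 := rfl
theorem F4271 : act 0 n1171 = n1171 := d2_1 D1171 (iv D1171) F3287
theorem F4272 : act 1 n1171 = n1171 := d8_1 D1171 (iv D1171) F3288
theorem F4273 : act 5 n1171 = n1171 := d19_2 F3290 D1171 (iv D1171)
theorem F4274 : act 6 n1171 = n909 := d20_2 (iv F3291) D1171 (iv D909)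
def n1172 : Q := act 7 n887
theorem D1172 : act 7 n887 = n1172 := rfl
theorem F4275 : act 0 n1172 = n1172 := d6_1 D1172 (iv D1172) F3287
theorem F4276 : act 1 n1172 = n1172 := d12_1 D1172 (iv D1172) F3288
theorem F4277 : act 2 n1172 = n888 := d17_1 D1172 (iv D888) D887
theorem F4278 : act 4 n1172 = n1172 := d24_1 D1172 (iv D1172) F3289
theorem F4279 : act 5 n1172 = n1172 := d26_1 D1172 (iv D1172) F3290
def n1173 : Q := act 6 n888
theorem D1173 : act 6 n888 = n1173 := rfl
theorem F4280 : act 0 n1173 = n1173 := d5_1 D1173 (iv D1173) F3292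
theorem F4281 : act 1 n1173 = n890 := d11_1 D1173 (iv D890) (iv F3293)
theorem F4282 : act 4 n1173 = n1173 := d23_1 D1173 (iv D1173) F3294
theorem F4283 : act 5 n1173 = n1173 := d25_1 D1173 (iv D1173) F3295
theorem F4284 : act 7 n1173 = n889 := d27_2 D888 D1173 (iv D889) (iv D670) D669
def n1174 : Q := act 2 n889
theorem D1174 : act 2 n889 = n1174 := rfl
def n1175 : Q := act 2 n890
theorem D1175 : act 2 n890 = n1175 := rfl
theorem F4289 : act 0 n1175 = n896 := d1_1 D1175 (iv D896) (iv F3300)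
theorem F4290 : act 4 n1175 = n1175 := d14_2 F3301 D1175 (iv D1175)
theorem F4291 : act 5 n1175 = n1175 := d15_2 F3302 D1175 (iv D1175)
theorem F4292 : act 6 n1175 = n1175 := d16_2 D890 D1175 (iv D1175) (iv D890) F2525
theorem F4293 : act 7 n1175 = n891 := d17_2 (iv F3303) D1175 (iv D891)
def n1176 : Q := act 1 n891
theorem D1176 : act 1 n891 = n1176 := rfl
def n1177 : Q := act 3 n891
theorem D1177 : act 3 n891 = n1177 := rfl
theorem F4297 : act 0 n1177 = n898 := d2_1 D1177 (iv D898) (iv F3304)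
theorem F4298 : act 5 n1177 = n1177 := d19_2 F3306 D1177 (iv D1177)
theorem F4299 : act 6 n1177 = n893 := d20_2 (iv F3307) D1177 (iv D893)
def n1179 : Q := act 3 n892
theorem D1179 : act 3 n892 = n1179 := rfl
theorem F4305 : act 1 n1179 = n893 := d8_1 D1179 (iv D893) D892
def n1184 : Q := act 1 n896
theorem D1184 : act 1 n896 = n1184 := rfl
theorem F4324 : act 2 n1184 = n1184 := d7_2 D896 D1184 (iv D1184) (iv D896) F2543
theorem F4325 : act 4 n1184 = n1184 := d9_2 F3323 D1184 (iv D1184)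
theorem F4326 : act 5 n1184 = n1184 := d10_2 F3324 D1184 (iv D1184)
theorem F4327 : act 6 n1184 = n1184 := d11_2 F3325 D1184 (iv D1184)
theorem F4328 : act 7 n1184 = n897 := d12_2 (iv F3326) D1184 (iv D897)
def n1185 : Q := act 3 n896
theorem D1185 : act 3 n896 = n1185 := rfl
theorem F4329 : act 5 n1185 = n1185 := d19_2 F3324 D1185 (iv D1185)
theorem F4330 : act 6 n1185 = n1185 := d20_2 F3325 D1185 (iv D1185)
theorem F4331 : act 7 n1185 = n898 := d21_2 (iv F3326) D1185 (iv D898)
def n1186 : Q := act 0 n897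
theorem D1186 : act 0 n897 = n1186 := rfl
theorem F4335 : act 6 n1186 = n899 := d5_2 (iv F3330) D1186 (iv D899)
def n1187 : Q := act 3 n897
theorem D1187 : act 3 n897 = n1187 := rfl
theorem F4336 : act 1 n1187 = n898 := d8_1 D1187 (iv D898) D897
theorem F4337 : act 5 n1187 = n1187 := d19_2 F3329 D1187 (iv D1187)
theorem F4338 : act 6 n1187 = n900 := d20_2 (iv F3330) D1187 (iv D900)
def n1188 : Q := act 4 n898
theorem D1188 : act 4 n898 = n1188 := rfl
theorem F4339 : act 3 n1188 = n1188 := d18_1 D1188 (iv D1188) (iv D898) F2547 D898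
theorem F4340 : act 6 n1188 = n901 := d23_2 (iv F3332) D1188 (iv D901)
def n1189 : Q := act 3 n899
theorem D1189 : act 3 n899 = n1189 := rfl
theorem F4341 : act 0 n1189 = n900 := d2_1 D1189 (iv D900) D899
def n1190 : Q := act 4 n900
theorem D1190 : act 4 n900 = n1190 := rfl
theorem F4345 : act 1 n1190 = n901 := d9_1 D1190 (iv D901) (iv F3337)
theorem F4346 : act 2 n1190 = n1190 := d14_1 D1190 (iv D1190) F3338
theorem F4347 : act 3 n1190 = n1190 := d18_1 D1190 (iv D1190) (iv D900) F2551 D900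
theorem F4348 : act 7 n1190 = n1190 := d24_2 F3340 D1190 (iv D1190)
def n1195 : Q := act 3 n906
theorem D1195 : act 3 n906 = n1195 := rfl
theorem F4368 : act 4 n1195 = n933 := d18_2 D906 D1195 (iv D933) (iv D707) (iv F2579)
def n1199 : Q := act 4 n909
theorem D1199 : act 4 n909 = n1199 := rfl
theorem F4381 : act 0 n1199 = n1199 := d3_1 D1199 (iv D1199) F3371
theorem F4382 : act 1 n1199 = n1199 := d9_1 D1199 (iv D1199) F3372
theorem F4383 : act 2 n1199 = n1199 := d14_1 D1199 (iv D1199) F3373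
theorem F4384 : act 3 n1199 = n1199 := d18_1 D1199 (iv D1199) (iv D909) F2591 D909
def n1200 : Q := act 7 n909
theorem D1200 : act 7 n909 = n1200 := rfl
theorem F4388 : act 3 n1200 = n910 := d21_1 D1200 (iv D910) D909
def n1234 : Q := act 4 n937
theorem D1234 : act 4 n937 = n1234 := rfl
theorem F4521 : act 0 n1234 = n958 := d3_1 D1234 (iv D958) (iv F3485)
theorem F4522 : act 1 n1234 = n938 := d9_1 D1234 (iv D938) D937
theorem F4523 : act 2 n1234 = n1234 := d14_1 D1234 (iv D1234) F3486
def n1235 : Q := act 6 n937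
theorem D1235 : act 6 n937 = n1235 := rfl
theorem F4524 : act 0 n1235 = n959 := d5_1 D1235 (iv D959) (iv F3485)
theorem F4525 : act 1 n1235 = n939 := d11_1 D1235 (iv D939) D937
theorem F4526 : act 3 n1235 = n1235 := d20_1 D1235 (iv D1235) F3487
theorem F4527 : act 5 n1235 = n1235 := d25_1 D1235 (iv D1235) F3488
def n1236 : Q := act 7 n937
theorem D1236 : act 7 n937 = n1236 := rfl
theorem F4528 : act 0 n1236 = n960 := d6_1 D1236 (iv D960) (iv F3485)
theorem F4529 : act 1 n1236 = n940 := d12_1 D1236 (iv D940) D937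
theorem F4530 : act 2 n1236 = n1236 := d17_1 D1236 (iv D1236) F3486
theorem F4531 : act 3 n1236 = n1236 := d21_1 D1236 (iv D1236) F3487
theorem F4532 : act 5 n1236 = n1236 := d26_1 D1236 (iv D1236) F3488
def n1237 : Q := act 3 n938
theorem D1237 : act 3 n938 = n1237 := rfl
theorem F4533 : act 0 n1237 = n945 := d2_1 D1237 (iv D945) (iv F3489)
theorem F4534 : act 2 n1237 = n1237 := d13_1 D1237 (iv D1237) F3490 F2685 (iv F3490)
theorem F4535 : act 4 n1237 = n1237 := d18_2 D938 D1237 (iv D1237) (iv D938) F2681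
def n1238 : Q := act 5 n938
theorem D1238 : act 5 n938 = n1238 := rfl
theorem F4536 : act 0 n1238 = n946 := d4_1 D1238 (iv D946) (iv F3489)
theorem F4537 : act 2 n1238 = n941 := d15_1 D1238 (iv D941) (iv F3490)
theorem F4538 : act 4 n1238 = n1238 := d22_1 D1238 (iv D1238) (iv D938) F2682 D938
def n1239 : Q := act 6 n938
theorem D1239 : act 6 n938 = n1239 := rfl
theorem F4539 : act 0 n1239 = n947 := d5_1 D1239 (iv D947) (iv F3489)
theorem F4540 : act 2 n1239 = n1239 := d16_1 D1239 (iv D1239) F3490 F2686 (iv F3490)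
theorem F4541 : act 4 n1239 = n939 := d23_1 D1239 (iv D939) D938
def n1240 : Q := act 7 n938
theorem D1240 : act 7 n938 = n1240 := rfl
theorem F4542 : act 0 n1240 = n948 := d6_1 D1240 (iv D948) (iv F3489)
theorem F4543 : act 2 n1240 = n942 := d17_1 D1240 (iv D942) (iv F3490)
theorem F4544 : act 4 n1240 = n940 := d24_1 D1240 (iv D940) D938
def n1241 : Q := act 7 n939
theorem D1241 : act 7 n939 = n1241 := rfl
theorem F4545 : act 0 n1241 = n949 := d6_1 D1241 (iv D949) (iv F3491)
theorem F4546 : act 2 n1241 = n1241 := d17_1 D1241 (iv D1241) F3492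
theorem F4547 : act 3 n1241 = n1241 := d21_1 D1241 (iv D1241) F3493
theorem F4548 : act 5 n1241 = n1241 := d26_1 D1241 (iv D1241) F3494
def n1242 : Q := act 6 n940
theorem D1242 : act 6 n940 = n1242 := rfl
theorem F4549 : act 0 n1242 = n950 := d5_1 D1242 (iv D950) (iv F3495)
theorem F4550 : act 3 n1242 = n1242 := d20_1 D1242 (iv D1242) F3497
theorem F4551 : act 5 n1242 = n1242 := d25_1 D1242 (iv D1242) F3498
def n1243 : Q := act 7 n941
theorem D1243 : act 7 n941 = n1243 := rfl
theorem F4552 : act 0 n1243 = n951 := d6_1 D1243 (iv D951) (iv F3499)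
theorem F4553 : act 1 n1243 = n1243 := d12_1 D1243 (iv D1243) F3500
theorem F4554 : act 3 n1243 = n1243 := d21_1 D1243 (iv D1243) F3501
theorem F4555 : act 4 n1243 = n1243 := d24_1 D1243 (iv D1243) F3502
theorem F4556 : act 5 n1243 = n942 := d26_1 D1243 (iv D942) D941
def n1244 : Q := act 6 n942
theorem D1244 : act 6 n942 = n1244 := rfl
theorem F4557 : act 0 n1244 = n952 := d5_1 D1244 (iv D952) (iv F3504)
theorem F4558 : act 1 n1244 = n1244 := d11_1 D1244 (iv D1244) F3505
theorem F4559 : act 3 n1244 = n1244 := d20_1 D1244 (iv D1244) F3506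
theorem F4560 : act 4 n1244 = n943 := d23_1 D1244 (iv D943) (iv F3507)
theorem F4561 : act 7 n1244 = n1244 := d27_2 D942 D1244 (iv D1244) (iv D942) F2686
def n1245 : Q := act 2 n943
theorem D1245 : act 2 n943 = n1245 := rfl
theorem F4562 : act 0 n1245 = n953 := d1_1 D1245 (iv D953) (iv F3508)
theorem F4563 : act 5 n1245 = n1245 := d15_2 F3511 D1245 (iv D1245)
theorem F4564 : act 7 n1245 = n1245 := d17_2 F3512 D1245 (iv D1245)
def n1246 : Q := act 1 n944
theorem D1246 : act 1 n944 = n1246 := rfl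
theorem F4565 : act 0 n1246 = n1246 := d0_1 D1246 (iv D1246) F3513 F2717 (iv F3513)
theorem F4566 : act 2 n1246 = n1246 := d7_2 D944 D1246 (iv D1246) (iv D944) F2692
theorem F4567 : act 4 n1246 = n1246 := d9_2 F3514 D1246 (iv D1246)
theorem F4568 : act 5 n1246 = n1246 := d10_2 F3515 D1246 (iv D1246)
theorem F4569 : act 6 n1246 = n1246 := d11_2 F3516 D1246 (iv D1246)
theorem F4570 : act 7 n1246 = n1246 := d12_2 F3517 D1246 (iv D1246)
def n1247 : Q := act 3 n944
theorem D1247 : act 3 n944 = n1247 := rfl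
theorem F4571 : act 0 n1247 = n954 := d2_1 D1247 (iv D954) (iv F3513)
theorem F4572 : act 5 n1247 = n1247 := d19_2 F3515 D1247 (iv D1247)
theorem F4573 : act 6 n1247 = n1247 := d20_2 F3516 D1247 (iv D1247)
theorem F4574 : act 7 n1247 = n1247 := d21_2 F3517 D1247 (iv D1247)
def n1248 : Q := act 5 n945
theorem D1248 : act 5 n945 = n1248 := rfl
theorem F4575 : act 1 n1248 = n972 := d10_1 D1248 (iv D972) (iv F3518)
theorem F4577 : act 3 n1248 = n946 := d19_1 D1248 (iv D946) D945
def n1249 : Q := act 6 n945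
theorem D1249 : act 6 n945 = n1249 := rfl
theorem F4578 : act 1 n1249 = n973 := d11_1 D1249 (iv D973) (iv F3518)
theorem F4579 : act 3 n1249 = n947 := d20_1 D1249 (iv D947) D945
theorem F4580 : act 4 n1249 = n1249 := d23_1 D1249 (iv D1249) F3520
def n1250 : Q := act 7 n945
theorem D1250 : act 7 n945 = n1250 := rfl
theorem F4581 : act 1 n1250 = n974 := d12_1 D1250 (iv D974) (iv F3518)
theorem F4582 : act 2 n1250 = n1250 := d17_1 D1250 (iv D1250) F3519
theorem F4583 : act 3 n1250 = n948 := d21_1 D1250 (iv D948) D945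
theorem F4584 : act 4 n1250 = n1250 := d24_1 D1250 (iv D1250) F3520
def n1251 : Q := act 6 n946
theorem D1251 : act 6 n946 = n1251 := rfl
theorem F4585 : act 1 n1251 = n975 := d11_1 D1251 (iv D975) (iv F3521)
theorem F4588 : act 5 n1251 = n947 := d25_1 D1251 (iv D947) D946
def n1252 : Q := act 7 n946
theorem D1252 : act 7 n946 = n1252 := rfl
theorem F4589 : act 1 n1252 = n976 := d12_1 D1252 (iv D976) (iv F3521)
theorem F4590 : act 2 n1252 = n951 := d17_1 D1252 (iv D951) (iv F3522)
theorem F4591 : act 4 n1252 = n1252 := d24_1 D1252 (iv D1252) F3523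
theorem F4592 : act 5 n1252 = n948 := d26_1 D1252 (iv D948) D946
def n1253 : Q := act 7 n947
theorem D1253 : act 7 n947 = n1253 := rfl
theorem F4593 : act 1 n1253 = n977 := d12_1 D1253 (iv D977) (iv F3524)
theorem F4594 : act 2 n1253 = n1253 := d17_1 D1253 (iv D1253) F3525
theorem F4595 : act 4 n1253 = n949 := d24_1 D1253 (iv D949) (iv F3526)
def n1254 : Q := act 6 n948
theorem D1254 : act 6 n948 = n1254 := rfl
theorem F4596 : act 1 n1254 = n978 := d11_1 D1254 (iv D978) (iv F3527)
theorem F4597 : act 4 n1254 = n950 := d23_1 D1254 (iv D950) (iv F3529)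
def n1255 : Q := act 6 n949
theorem D1255 : act 6 n949 = n1255 := rfl
theorem F4598 : act 1 n1255 = n979 := d11_1 D1255 (iv D979) (iv F3530)
theorem F4599 : act 3 n1255 = n1255 := d20_1 D1255 (iv D1255) F3532
theorem F4600 : act 5 n1255 = n1255 := d25_1 D1255 (iv D1255) F3533
theorem F4601 : act 7 n1255 = n950 := d27_2 D949 D1255 (iv D950) (iv D716) D715
def n1256 : Q := act 2 n950
theorem D1256 : act 2 n950 = n1256 := rfl
theorem F4602 : act 5 n1256 = n1256 := d15_2 F3536 D1256 (iv D1256)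
theorem F4603 : act 6 n1256 = n953 := d16_2 D950 D1256 (iv D953) (iv D719) (iv F2703)
def n1257 : Q := act 6 n951
theorem D1257 : act 6 n951 = n1257 := rfl
theorem F4604 : act 1 n1257 = n955 := d11_1 D1257 (iv D955) (iv F3537)
theorem F4605 : act 3 n1257 = n1257 := d20_1 D1257 (iv D1257) F3538
theorem F4606 : act 4 n1257 = n1257 := d23_1 D1257 (iv D1257) F3539
theorem F4607 : act 5 n1257 = n952 := d25_1 D1257 (iv D952) (iv F3540)
theorem F4608 : act 7 n1257 = n1257 := d27_2 D951 D1257 (iv D1257) (iv D951) F2709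
def n1258 : Q := act 2 n952
theorem D1258 : act 2 n952 = n1258 := rfl
theorem F4609 : act 4 n1258 = n953 := d14_2 (iv F3543) D1258 (iv D953)
theorem F4610 : act 7 n1258 = n1258 := d17_2 F3544 D1258 (iv D1258)
def n1259 : Q := act 1 n953
theorem D1259 : act 1 n953 = n1259 := rfl
theorem F4611 : act 2 n1259 = n957 := d7_2 D953 D1259 (iv D957) (iv D723) (iv F2713)
theorem F4612 : act 5 n1259 = n1259 := d10_2 F3545 D1259 (iv D1259)
theorem F4613 : act 7 n1259 = n1259 := d12_2 F3546 D1259 (iv D1259)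
def n1260 : Q := act 3 n953
theorem D1260 : act 3 n953 = n1260 := rfl
theorem F4614 : act 2 n1260 = n954 := d13_1 D1260 (iv D954) (iv D720) (iv F2714) D953
theorem F4615 : act 5 n1260 = n1260 := d19_2 F3545 D1260 (iv D1260)
theorem F4616 : act 7 n1260 = n1260 := d21_2 F3546 D1260 (iv D1260)
def n1261 : Q := act 4 n954
theorem D1261 : act 4 n954 = n1261 := rfl
theorem F4617 : act 1 n1261 = n1261 := d9_1 D1261 (iv D1261) F3547
theorem F4618 : act 3 n1261 = n1261 := d18_1 D1261 (iv D1261) (iv D954) F2718 D954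
theorem F4619 : act 6 n1261 = n1261 := d23_2 F3549 D1261 (iv D1261)
theorem F4620 : act 7 n1261 = n1261 := d24_2 F3550 D1261 (iv D1261)
def n1262 : Q := act 2 n955
theorem D1262 : act 2 n955 = n1262 := rfl
theorem F4621 : act 0 n1262 = n1262 := d1_1 D1262 (iv D1262) F3551
theorem F4622 : act 4 n1262 = n1262 := d14_2 F3553 D1262 (iv D1262)
theorem F4623 : act 5 n1262 = n956 := d15_2 (iv F3554) D1262 (iv D956)
theorem F4624 : act 6 n1262 = n986 := d16_2 D955 D1262 (iv D986) (iv D742) (iv F2723)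
theorem F4625 : act 7 n1262 = n1262 := d17_2 F3555 D1262 (iv D1262)
def n1263 : Q := act 1 n956
theorem D1263 : act 1 n956 = n1263 := rfl
theorem F4626 : act 4 n1263 = n957 := d9_2 (iv F3557) D1263 (iv D957)
theorem F4627 : act 6 n1263 = n987 := d11_2 (iv F3558) D1263 (iv D987)
theorem F4628 : act 7 n1263 = n1263 := d12_2 F3559 D1263 (iv D1263)
def n1264 : Q := act 3 n956
theorem D1264 : act 3 n956 = n1264 := rfl
theorem F4629 : act 0 n1264 = n1264 := d2_1 D1264 (iv D1264) F3556
theorem F4630 : act 2 n1264 = n1264 := d13_1 D1264 (iv D1264) (iv D956) F2728 D956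
theorem F4631 : act 4 n1264 = n1264 := d18_2 (iv F3557) D1264 (iv D1264) F3557 F2732
theorem F4632 : act 6 n1264 = n988 := d20_2 (iv F3558) D1264 (iv D988)
theorem F4633 : act 7 n1264 = n1264 := d21_2 F3559 D1264 (iv D1264)
def n1265 : Q := act 0 n957
theorem D1265 : act 0 n957 = n1265 := rfl
theorem F4634 : act 1 n1265 = n1265 := d0_2 D957 D1265 (iv D1265) (iv D957) F2731
theorem F4635 : act 3 n1265 = n1265 := d2_2 F3560 D1265 (iv D1265)
theorem F4636 : act 5 n1265 = n1265 := d4_2 F3561 D1265 (iv D1265)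
theorem F4637 : act 6 n1265 = n989 := d5_2 (iv F3562) D1265 (iv D989)
theorem F4638 : act 7 n1265 = n1265 := d6_2 F3563 D1265 (iv D1265)
def n1266 : Q := act 3 n958
theorem D1266 : act 3 n958 = n1266 := rfl
theorem F4639 : act 1 n1266 = n961 := d8_1 D1266 (iv D961) (iv F3564)
theorem F4640 : act 4 n1266 = n1266 := d18_2 D958 D1266 (iv D1266) (iv D958) F2737
def n1267 : Q := act 5 n958
theorem D1267 : act 5 n958 = n1267 := rfl
theorem F4641 : act 1 n1267 = n962 := d10_1 D1267 (iv D962) (iv F3564)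
theorem F4642 : act 2 n1267 = n1267 := d15_1 D1267 (iv D1267) F3565
theorem F4643 : act 4 n1267 = n1267 := d22_1 D1267 (iv D1267) (iv D958) F2738 D958
def n1268 : Q := act 6 n958
theorem D1268 : act 6 n958 = n1268 := rfl
theorem F4644 : act 1 n1268 = n963 := d11_1 D1268 (iv D963) (iv F3564)
theorem F4645 : act 4 n1268 = n959 := d23_1 D1268 (iv D959) D958
def n1269 : Q := act 7 n958
theorem D1269 : act 7 n958 = n1269 := rfl
theorem F4646 : act 1 n1269 = n964 := d12_1 D1269 (iv D964) (iv F3564)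
theorem F4647 : act 2 n1269 = n1269 := d17_1 D1269 (iv D1269) F3565
theorem F4648 : act 4 n1269 = n960 := d24_1 D1269 (iv D960) D958
def n1270 : Q := act 2 n959
theorem D1270 : act 2 n959 = n1270 := rfl
theorem F4649 : act 1 n1270 = n1070 := d7_1 D1270 (iv D1070) F3014 (iv F2742) (iv F3566)
theorem F4650 : act 5 n1270 = n1270 := d15_2 F3568 D1270 (iv D1270)
theorem F4651 : act 6 n1270 = n1270 := d16_2 D959 D1270 (iv D1270) (iv D959) F2736
def n1271 : Q := act 7 n959
theorem D1271 : act 7 n959 = n1271 := rfl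
theorem F4652 : act 1 n1271 = n965 := d12_1 D1271 (iv D965) (iv F3566)
theorem F4653 : act 3 n1271 = n1271 := d21_1 D1271 (iv D1271) F3567
theorem F4654 : act 5 n1271 = n1271 := d26_1 D1271 (iv D1271) F3568
def n1272 : Q := act 6 n960
theorem D1272 : act 6 n960 = n1272 := rfl
theorem F4655 : act 1 n1272 = n966 := d11_1 D1272 (iv D966) (iv F3569)
theorem F4656 : act 3 n1272 = n1272 := d20_1 D1272 (iv D1272) F3571
theorem F4657 : act 5 n1272 = n1272 := d25_1 D1272 (iv D1272) F3572
def n1273 : Q := act 5 n961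
theorem D1273 : act 5 n961 = n1273 := rfl
theorem F4658 : act 0 n1273 = n972 := d4_1 D1273 (iv D972) (iv F3573)
theorem F4659 : act 2 n1273 = n994 := d15_1 D1273 (iv D994) (iv F3574)
theorem F4660 : act 3 n1273 = n962 := d19_1 D1273 (iv D962) D961
def n1274 : Q := act 6 n961
theorem D1274 : act 6 n961 = n1274 := rfl
theorem F4661 : act 0 n1274 = n973 := d5_1 D1274 (iv D973) (iv F3573)
theorem F4663 : act 3 n1274 = n963 := d20_1 D1274 (iv D963) D961
def n1275 : Q := act 7 n961
theorem D1275 : act 7 n961 = n1275 := rfl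
theorem F4665 : act 0 n1275 = n974 := d6_1 D1275 (iv D974) (iv F3573)
theorem F4666 : act 2 n1275 = n995 := d17_1 D1275 (iv D995) (iv F3574)
theorem F4667 : act 3 n1275 = n964 := d21_1 D1275 (iv D964) D961
theorem F4668 : act 4 n1275 = n1275 := d24_1 D1275 (iv D1275) F3575
def n1276 : Q := act 6 n962
theorem D1276 : act 6 n962 = n1276 := rfl
theorem F4669 : act 0 n1276 = n975 := d5_1 D1276 (iv D975) (iv F3576)
theorem F4670 : act 2 n1276 = n1073 := d16_1 D1276 (iv D1073) F3023 (iv F2753) (iv F3577)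
theorem F4672 : act 5 n1276 = n963 := d25_1 D1276 (iv D963) D962
def n1277 : Q := act 7 n962
theorem D1277 : act 7 n962 = n1277 := rfl
theorem F4673 : act 0 n1277 = n976 := d6_1 D1277 (iv D976) (iv F3576)
theorem F4674 : act 2 n1277 = n967 := d17_1 D1277 (iv D967) (iv F3577)
theorem F4675 : act 4 n1277 = n1277 := d24_1 D1277 (iv D1277) F3578
theorem F4676 : act 5 n1277 = n964 := d26_1 D1277 (iv D964) D962
def n1278 : Q := act 7 n963
theorem D1278 : act 7 n963 = n1278 := rfl
theorem F4677 : act 0 n1278 = n977 := d6_1 D1278 (iv D977) (iv F3579)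
theorem F4678 : act 2 n1278 = n1075 := d17_1 D1278 (iv D1075) (iv F3580)
theorem F4679 : act 4 n1278 = n965 := d24_1 D1278 (iv D965) (iv F3581)
def n1279 : Q := act 6 n964
theorem D1279 : act 6 n964 = n1279 := rfl
theorem F4680 : act 0 n1279 = n978 := d5_1 D1279 (iv D978) (iv F3582)
theorem F4681 : act 4 n1279 = n966 := d23_1 D1279 (iv D966) (iv F3584)
def n1280 : Q := act 6 n965
theorem D1280 : act 6 n965 = n1280 := rfl
theorem F4682 : act 0 n1280 = n979 := d5_1 D1280 (iv D979) (iv F3585)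
theorem F4683 : act 3 n1280 = n1280 := d20_1 D1280 (iv D1280) F3587
theorem F4684 : act 5 n1280 = n1280 := d25_1 D1280 (iv D1280) F3588
theorem F4685 : act 7 n1280 = n966 := d27_2 D965 D1280 (iv D966) (iv D727) D726
def n1281 : Q := act 2 n966
theorem D1281 : act 2 n966 = n1281 := rfl
theorem F4686 : act 0 n1281 = n980 := d1_1 D1281 (iv D980) (iv F3589)
theorem F4687 : act 5 n1281 = n1281 := d15_2 F3591 D1281 (iv D1281)
theorem F4688 : act 6 n1281 = n969 := d16_2 D966 D1281 (iv D969) (iv D730) (iv F2746)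
def n1282 : Q := act 6 n967
theorem D1282 : act 6 n967 = n1282 := rfl
theorem F4689 : act 0 n1282 = n981 := d5_1 D1282 (iv D981) (iv F3592)
theorem F4690 : act 1 n1282 = n1282 := d11_1 D1282 (iv D1282) F3593
theorem F4691 : act 3 n1282 = n999 := d20_1 D1282 (iv D999) (iv F3594)
theorem F4692 : act 4 n1282 = n1282 := d23_1 D1282 (iv D1282) F3595
theorem F4693 : act 5 n1282 = n968 := d25_1 D1282 (iv D968) (iv F3596)
theorem F4694 : act 7 n1282 = n1079 := d27_2 D967 D1282 (iv D1079) (iv D811) (iv F2753)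
def n1283 : Q := act 2 n968
theorem D1283 : act 2 n968 = n1283 := rfl
theorem F4695 : act 0 n1283 = n982 := d1_1 D1283 (iv D982) (iv F3597)
theorem F4696 : act 4 n1283 = n969 := d14_2 (iv F3600) D1283 (iv D969)
theorem F4697 : act 7 n1283 = n1080 := d17_2 (iv F3601) D1283 (iv D1080)
def n1284 : Q := act 1 n969
theorem D1284 : act 1 n969 = n1284 := rfl
theorem F4698 : act 2 n1284 = n1284 := d7_2 D969 D1284 (iv D1284) (iv D969) F2759
theorem F4699 : act 5 n1284 = n1284 := d10_2 F3603 D1284 (iv D1284)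
theorem F4700 : act 7 n1284 = n1081 := d12_2 (iv F3604) D1284 (iv D1081)
def n1285 : Q := act 3 n969
theorem D1285 : act 3 n969 = n1285 := rfl
theorem F4701 : act 0 n1285 = n984 := d2_1 D1285 (iv D984) (iv F3602)
theorem F4702 : act 2 n1285 = n971 := d13_1 D1285 (iv D971) (iv D731) (iv F2760) D969
theorem F4703 : act 5 n1285 = n1285 := d19_2 F3603 D1285 (iv D1285)
theorem F4704 : act 7 n1285 = n1082 := d21_2 (iv F3604) D1285 (iv D1082)
def n1286 : Q := act 3 n970
theorem D1286 : act 3 n970 = n1286 := rfl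
theorem F4705 : act 0 n1286 = n1286 := d2_1 D1286 (iv D1286) F3605
theorem F4706 : act 1 n1286 = n971 := d8_1 D1286 (iv D971) D970
theorem F4707 : act 5 n1286 = n1286 := d19_2 F3608 D1286 (iv D1286)
theorem F4708 : act 6 n1286 = n1286 := d20_2 F3609 D1286 (iv D1286)
theorem F4709 : act 7 n1286 = n1083 := d21_2 (iv F3610) D1286 (iv D1083)
def n1287 : Q := act 4 n971
theorem D1287 : act 4 n971 = n1287 := rfl
theorem F4710 : act 0 n1287 = n985 := d3_1 D1287 (iv D985) (iv F3611)
theorem F4711 : act 3 n1287 = n1004 := d18_1 D1287 (iv D1004) (iv D755) (iv F2764) D971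
theorem F4712 : act 6 n1287 = n1287 := d23_2 F3613 D1287 (iv D1287)
theorem F4713 : act 7 n1287 = n1084 := d24_2 (iv F3614) D1287 (iv D1084)
def n1288 : Q := act 4 n972
theorem D1288 : act 4 n972 = n1288 := rfl
theorem F4714 : act 2 n1288 = n1005 := d14_1 D1288 (iv D1005) (iv F3615)
def n1289 : Q := act 6 n972
theorem D1289 : act 6 n972 = n1289 := rfl
theorem F4718 : act 3 n1289 = n975 := d20_1 D1289 (iv D975) (iv F3616)
theorem F4719 : act 5 n1289 = n973 := d25_1 D1289 (iv D973) D972
def n1290 : Q := act 7 n972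
theorem D1290 : act 7 n972 = n1290 := rfl
theorem F4720 : act 2 n1290 = n1006 := d17_1 D1290 (iv D1006) (iv F3615)
theorem F4721 : act 3 n1290 = n976 := d21_1 D1290 (iv D976) (iv F3616)
theorem F4722 : act 5 n1290 = n974 := d26_1 D1290 (iv D974) D972
def n1291 : Q := act 7 n973
theorem D1291 : act 7 n973 = n1291 := rfl
theorem F4723 : act 2 n1291 = n1291 := d17_1 D1291 (iv D1291) F3617
theorem F4724 : act 3 n1291 = n977 := d21_1 D1291 (iv D977) (iv F3618)
theorem F4725 : act 4 n1291 = n1291 := d24_1 D1291 (iv D1291) F3619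
def n1292 : Q := act 6 n974
theorem D1292 : act 6 n974 = n1292 := rfl
theorem F4726 : act 3 n1292 = n978 := d20_1 D1292 (iv D978) (iv F3621)
theorem F4727 : act 4 n1292 = n1292 := d23_1 D1292 (iv D1292) F3622
def n1293 : Q := act 7 n975
theorem D1293 : act 7 n975 = n1293 := rfl
theorem F4728 : act 2 n1293 = n1085 := d17_1 D1293 (iv D1085) (iv F3623)
theorem F4729 : act 4 n1293 = n1293 := d24_1 D1293 (iv D1293) F3624
theorem F4730 : act 5 n1293 = n977 := d26_1 D1293 (iv D977) (iv F3625)
def n1294 : Q := act 6 n976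
theorem D1294 : act 6 n976 = n1294 := rfl
theorem F4731 : act 4 n1294 = n1294 := d23_1 D1294 (iv D1294) F3627
theorem F4732 : act 5 n1294 = n978 := d25_1 D1294 (iv D978) (iv F3628)
def n1295 : Q := act 6 n977
theorem D1295 : act 6 n977 = n1295 := rfl
theorem F4733 : act 4 n1295 = n979 := d23_1 D1295 (iv D979) (iv F3630)
theorem F4734 : act 7 n1295 = n978 := d27_2 D977 D1295 (iv D978) (iv D735) D734
def n1296 : Q := act 2 n978
theorem D1296 : act 2 n978 = n1296 := rfl
theorem F4735 : act 4 n1296 = n980 := d14_2 (iv F3631) D1296 (iv D980)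
theorem F4736 : act 6 n1296 = n982 := d16_2 D978 D1296 (iv D982) (iv D739) (iv F2774)
def n1297 : Q := act 2 n979
theorem D1297 : act 2 n979 = n1297 := rfl
theorem F4737 : act 5 n1297 = n1297 := d15_2 F3633 D1297 (iv D1297)
theorem F4738 : act 6 n1297 = n1089 := d16_2 D979 D1297 (iv D1089) (iv D820) (iv F2776)
theorem F4739 : act 7 n1297 = n980 := d17_2 (iv F3634) D1297 (iv D980)
def n1298 : Q := act 1 n980
theorem D1298 : act 1 n980 = n1298 := rfl
theorem F4740 : act 5 n1298 = n1298 := d10_2 F3635 D1298 (iv D1298)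
theorem F4741 : act 6 n1298 = n983 := d11_2 (iv F3636) D1298 (iv D983)
def n1299 : Q := act 3 n980
theorem D1299 : act 3 n980 = n1299 := rfl
theorem F4742 : act 2 n1299 = n1299 := d13_1 D1299 (iv D1299) (iv D980) F2779 D980
theorem F4743 : act 5 n1299 = n1299 := d19_2 F3635 D1299 (iv D1299)
theorem F4744 : act 6 n1299 = n984 := d20_2 (iv F3636) D1299 (iv D984)
def n1300 : Q := act 2 n981
theorem D1300 : act 2 n981 = n1300 := rfl
theorem F4745 : act 4 n1300 = n1300 := d14_2 F3639 D1300 (iv D1300)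
theorem F4746 : act 5 n1300 = n982 := d15_2 (iv F3640) D1300 (iv D982)
theorem F4747 : act 7 n1300 = n1092 := d17_2 (iv F3641) D1300 (iv D1092)
def n1301 : Q := act 1 n982
theorem D1301 : act 1 n982 = n1301 := rfl
theorem F4748 : act 2 n1301 = n987 := d7_2 D982 D1301 (iv D987) (iv D743) (iv F2785)
theorem F4749 : act 4 n1301 = n983 := d9_2 (iv F3642) D1301 (iv D983)
theorem F4750 : act 7 n1301 = n1093 := d12_2 (iv F3643) D1301 (iv D1093)
def n1302 : Q := act 3 n982
theorem D1302 : act 3 n982 = n1302 := rfl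
theorem F4751 : act 2 n1302 = n1014 := d13_1 D1302 (iv D1014) (iv D762) (iv F2786) D982
theorem F4752 : act 7 n1302 = n1094 := d21_2 (iv F3643) D1302 (iv D1094)
def n1303 : Q := act 0 n983
theorem D1303 : act 0 n983 = n1303 := rfl
theorem F4753 : act 2 n1303 = n989 := d1_2 (iv F3644) D1303 (iv D989)
theorem F4754 : act 5 n1303 = n1303 := d4_2 F3645 D1303 (iv D1303)
theorem F4755 : act 7 n1303 = n1095 := d6_2 (iv F3646) D1303 (iv D1095)
def n1304 : Q := act 3 n983
theorem D1304 : act 3 n983 = n1304 := rfl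
theorem F4756 : act 1 n1304 = n984 := d8_1 D1304 (iv D984) D983
theorem F4757 : act 2 n1304 = n1304 := d13_1 D1304 (iv D1304) F3644 F2803 (iv F3644)
theorem F4758 : act 5 n1304 = n1304 := d19_2 F3645 D1304 (iv D1304)
theorem F4759 : act 7 n1304 = n1096 := d21_2 (iv F3646) D1304 (iv D1096)
def n1305 : Q := act 4 n984
theorem D1305 : act 4 n984 = n1305 := rfl
theorem F4760 : act 2 n1305 = n985 := d14_1 D1305 (iv D985) (iv F3647)
theorem F4761 : act 7 n1305 = n1097 := d24_2 (iv F3649) D1305 (iv D1097)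
def n1306 : Q := act 5 n985
theorem D1306 : act 5 n985 = n1306 := rfl
theorem F4762 : act 1 n1306 = n1306 := d10_1 D1306 (iv D1306) F3650
theorem F4763 : act 3 n1306 = n1018 := d19_1 D1306 (iv D1018) (iv F3651)
theorem F4764 : act 4 n1306 = n1306 := d22_1 D1306 (iv D1306) (iv D985) F2792 D985
theorem F4765 : act 6 n1306 = n1306 := d25_2 F3652 D1306 (iv D1306)
theorem F4766 : act 7 n1306 = n1098 := d26_2 (iv F3653) D1306 (iv D1098)
def n1307 : Q := act 1 n986
theorem D1307 : act 1 n986 = n1307 := rfl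
theorem F4767 : act 4 n1307 = n1307 := d9_2 F3655 D1307 (iv D1307)
theorem F4768 : act 5 n1307 = n987 := d10_2 (iv F3656) D1307 (iv D987)
theorem F4769 : act 7 n1307 = n1099 := d12_2 (iv F3657) D1307 (iv D1099)
def n1308 : Q := act 3 n986
theorem D1308 : act 3 n986 = n1308 := rfl
theorem F4770 : act 0 n1308 = n1308 := d2_1 D1308 (iv D1308) F3654
theorem F4771 : act 2 n1308 = n1020 := d13_1 D1308 (iv D1020) (iv D766) (iv F2796) D986
theorem F4772 : act 5 n1308 = n988 := d19_2 (iv F3656) D1308 (iv D988)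
theorem F4773 : act 7 n1308 = n1100 := d21_2 (iv F3657) D1308 (iv D1100)
def n1309 : Q := act 0 n987
theorem D1309 : act 0 n987 = n1309 := rfl
theorem F4774 : act 1 n1309 = n1309 := d0_2 D987 D1309 (iv D1309) (iv D987) F2800
theorem F4775 : act 4 n1309 = n989 := d3_2 (iv F3658) D1309 (iv D989)
theorem F4776 : act 7 n1309 = n1101 := d6_2 (iv F3659) D1309 (iv D1101)
def n1310 : Q := act 3 n987
theorem D1310 : act 3 n987 = n1310 := rfl
theorem F4777 : act 1 n1310 = n988 := d8_1 D1310 (iv D988) D987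
theorem F4778 : act 4 n1310 = n1310 := d18_2 (iv F3658) D1310 (iv D1310) F3658 F2803
theorem F4779 : act 7 n1310 = n1102 := d21_2 (iv F3659) D1310 (iv D1102)
def n1311 : Q := act 2 n990
theorem D1311 : act 2 n990 = n1311 := rfl
theorem F4780 : act 0 n1311 = n1311 := d1_1 D1311 (iv D1311) F3668
theorem F4781 : act 3 n1311 = n1311 := d13_2 D990 D1311 (iv D1311) (iv D990) F2808
theorem F4782 : act 4 n1311 = n1311 := d14_2 F3670 D1311 (iv D1311)
def n1312 : Q := act 5 n990
theorem D1312 : act 5 n990 = n1312 := rfl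
theorem F4783 : act 0 n1312 = n1312 := d4_1 D1312 (iv D1312) F3668
theorem F4784 : act 1 n1312 = n994 := d10_1 D1312 (iv D994) (iv F3669)
theorem F4785 : act 3 n1312 = n991 := d19_1 D1312 (iv D991) D990
theorem F4786 : act 6 n1312 = n1312 := d25_2 F3671 D1312 (iv D1312)
def n1313 : Q := act 7 n990
theorem D1313 : act 7 n990 = n1313 := rfl
theorem F4787 : act 0 n1313 = n1313 := d6_1 D1313 (iv D1313) F3668
theorem F4788 : act 1 n1313 = n995 := d12_1 D1313 (iv D995) (iv F3669)
theorem F4789 : act 3 n1313 = n992 := d21_1 D1313 (iv D992) D990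
theorem F4790 : act 4 n1313 = n1313 := d24_1 D1313 (iv D1313) F3670
def n1314 : Q := act 7 n991
theorem D1314 : act 7 n991 = n1314 := rfl
theorem F4791 : act 0 n1314 = n1314 := d6_1 D1314 (iv D1314) F3672
theorem F4792 : act 1 n1314 = n996 := d12_1 D1314 (iv D996) (iv F3673)
theorem F4793 : act 2 n1314 = n1314 := d17_1 D1314 (iv D1314) F3674
theorem F4794 : act 4 n1314 = n1026 := d24_1 D1314 (iv D1026) (iv F3675)
theorem F4795 : act 5 n1314 = n992 := d26_1 D1314 (iv D992) D991
def n1315 : Q := act 6 n992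
theorem D1315 : act 6 n992 = n1315 := rfl
theorem F4796 : act 0 n1315 = n1315 := d5_1 D1315 (iv D1315) F3677
theorem F4797 : act 1 n1315 = n997 := d11_1 D1315 (iv D997) (iv F3678)
theorem F4798 : act 4 n1315 = n993 := d23_1 D1315 (iv D993) (iv F3680)
theorem F4799 : act 7 n1315 = n1315 := d27_2 D992 D1315 (iv D1315) (iv D992) F2809
def n1316 : Q := act 2 n993
theorem D1316 : act 2 n993 = n1316 := rfl
theorem F4800 : act 0 n1316 = n1316 := d1_1 D1316 (iv D1316) F3681
theorem F4801 : act 5 n1316 = n1028 := d15_2 (iv F3684) D1316 (iv D1028)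
theorem F4802 : act 6 n1316 = n1316 := d16_2 D993 D1316 (iv D1316) (iv D993) F2812
theorem F4803 : act 7 n1316 = n1316 := d17_2 F3685 D1316 (iv D1316)
def n1317 : Q := act 4 n994
theorem D1317 : act 4 n994 = n1317 := rfl
theorem F4804 : act 0 n1317 = n1005 := d3_1 D1317 (iv D1005) (iv F3686)
theorem F4805 : act 3 n1317 = n1029 := d18_1 D1317 (iv D1029) F2915 (iv F2820) (iv F3687)
def n1318 : Q := act 7 n994
theorem D1318 : act 7 n994 = n1318 := rfl
theorem F4808 : act 0 n1318 = n1006 := d6_1 D1318 (iv D1006) (iv F3686)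
theorem F4809 : act 3 n1318 = n996 := d21_1 D1318 (iv D996) (iv F3687)
theorem F4810 : act 5 n1318 = n995 := d26_1 D1318 (iv D995) D994
def n1319 : Q := act 6 n995
theorem D1319 : act 6 n995 = n1319 := rfl
theorem F4811 : act 0 n1319 = n1007 := d5_1 D1319 (iv D1007) (iv F3689)
theorem F4812 : act 3 n1319 = n997 := d20_1 D1319 (iv D997) (iv F3690)
theorem F4813 : act 4 n1319 = n1319 := d23_1 D1319 (iv D1319) F3691
theorem F4814 : act 7 n1319 = n1319 := d27_2 D995 D1319 (iv D1319) (iv D995) F2817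
def n1320 : Q := act 6 n996
theorem D1320 : act 6 n996 = n1320 := rfl
theorem F4815 : act 0 n1320 = n1008 := d5_1 D1320 (iv D1008) (iv F3692)
theorem F4816 : act 4 n1320 = n1032 := d23_1 D1320 (iv D1032) (iv F3694)
theorem F4817 : act 5 n1320 = n997 := d25_1 D1320 (iv D997) (iv F3695)
theorem F4818 : act 7 n1320 = n1320 := d27_2 D996 D1320 (iv D1320) (iv D996) F2821
def n1321 : Q := act 2 n997
theorem D1321 : act 2 n997 = n1321 := rfl
theorem F4819 : act 0 n1321 = n1009 := d1_1 D1321 (iv D1009) (iv F3696)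
theorem F4820 : act 4 n1321 = n998 := d14_2 (iv F3697) D1321 (iv D998)
theorem F4821 : act 6 n1321 = n1000 := d16_2 D997 D1321 (iv D1000) (iv D752) (iv F2823)
theorem F4822 : act 7 n1321 = n1321 := d17_2 F3698 D1321 (iv D1321)
def n1322 : Q := act 1 n998
theorem D1322 : act 1 n998 = n1322 := rfl
theorem F4823 : act 5 n1322 = n1034 := d10_2 (iv F3700) D1322 (iv D1034)
theorem F4824 : act 6 n1322 = n1001 := d11_2 (iv F3701) D1322 (iv D1001)
theorem F4825 : act 7 n1322 = n1322 := d12_2 F3702 D1322 (iv D1322)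
def n1323 : Q := act 3 n998
theorem D1323 : act 3 n998 = n1323 := rfl
theorem F4826 : act 0 n1323 = n1011 := d2_1 D1323 (iv D1011) (iv F3699)
theorem F4827 : act 2 n1323 = n1323 := d13_1 D1323 (iv D1323) (iv D998) F2826 D998
theorem F4828 : act 5 n1323 = n1035 := d19_2 (iv F3700) D1323 (iv D1035)
theorem F4829 : act 6 n1323 = n1002 := d20_2 (iv F3701) D1323 (iv D1002)
theorem F4830 : act 7 n1323 = n1323 := d21_2 F3702 D1323 (iv D1323)
def n1324 : Q := act 2 n999
theorem D1324 : act 2 n999 = n1324 := rfl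
theorem F4831 : act 0 n1324 = n1012 := d1_1 D1324 (iv D1012) (iv F3703)
theorem F4832 : act 4 n1324 = n1036 := d14_2 (iv F3705) D1324 (iv D1036)
theorem F4833 : act 5 n1324 = n1000 := d15_2 (iv F3706) D1324 (iv D1000)
theorem F4834 : act 7 n1324 = n1103 := d17_2 (iv F3707) D1324 (iv D1103)
def n1325 : Q := act 1 n1000
theorem D1325 : act 1 n1000 = n1325 := rfl
theorem F4835 : act 2 n1325 = n1325 := d7_2 D1000 D1325 (iv D1325) (iv D1000) F2834
theorem F4836 : act 4 n1325 = n1001 := d9_2 (iv F3709) D1325 (iv D1001)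
theorem F4837 : act 7 n1325 = n1104 := d12_2 (iv F3710) D1325 (iv D1104)
def n1326 : Q := act 3 n1000
theorem D1326 : act 3 n1000 = n1326 := rfl
theorem F4838 : act 0 n1326 = n1014 := d2_1 D1326 (iv D1014) (iv F3708)
theorem F4839 : act 7 n1326 = n1105 := d21_2 (iv F3710) D1326 (iv D1105)
def n1327 : Q := act 0 n1001
theorem D1327 : act 0 n1001 = n1327 := rfl
theorem F4840 : act 1 n1327 = n1015 := d0_2 D1001 D1327 (iv D1015) (iv D763) (iv F2837)
theorem F4841 : act 2 n1327 = n1327 := d1_2 F3711 D1327 (iv D1327)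
theorem F4842 : act 5 n1327 = n1039 := d4_2 (iv F3712) D1327 (iv D1039)
theorem F4843 : act 7 n1327 = n1106 := d6_2 (iv F3713) D1327 (iv D1106)
def n1328 : Q := act 3 n1001
theorem D1328 : act 3 n1001 = n1328 := rfl
theorem F4844 : act 1 n1328 = n1002 := d8_1 D1328 (iv D1002) D1001
theorem F4845 : act 5 n1328 = n1040 := d19_2 (iv F3712) D1328 (iv D1040)
theorem F4846 : act 7 n1328 = n1107 := d21_2 (iv F3713) D1328 (iv D1107)
def n1329 : Q := act 4 n1002
theorem D1329 : act 4 n1002 = n1329 := rfl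
theorem F4847 : act 0 n1329 = n1017 := d3_1 D1329 (iv D1017) (iv F3714)
theorem F4848 : act 2 n1329 = n1004 := d14_1 D1329 (iv D1004) (iv F3715)
theorem F4849 : act 7 n1329 = n1108 := d24_2 (iv F3717) D1329 (iv D1108)
def n1331 : Q := act 4 n1003
theorem D1331 : act 4 n1003 = n1331 := rfl
theorem F4855 : act 1 n1331 = n1004 := d9_1 D1331 (iv D1004) (iv F3719)
theorem F4857 : act 7 n1331 = n1110 := d24_2 (iv F3722) D1331 (iv D1110)
def n1333 : Q := act 7 n1005
theorem D1333 : act 7 n1005 = n1333 := rfl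
theorem F4862 : act 1 n1333 = n1333 := d12_1 D1333 (iv D1333) F3726
theorem F4863 : act 3 n1333 = n1045 := d21_1 D1333 (iv D1045) (iv F3727)
theorem F4864 : act 4 n1333 = n1006 := d24_1 D1333 (iv D1006) D1005
theorem F4865 : act 5 n1333 = n1333 := d26_1 D1333 (iv D1333) F3728
def n1334 : Q := act 6 n1006
theorem D1334 : act 6 n1006 = n1334 := rfl
theorem F4866 : act 1 n1334 = n1334 := d11_1 D1334 (iv D1334) F3730
theorem F4867 : act 3 n1334 = n1008 := d20_1 D1334 (iv D1008) (iv F3731)
theorem F4868 : act 5 n1334 = n1007 := d25_1 D1334 (iv D1007) (iv F3732)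
theorem F4869 : act 7 n1334 = n1334 := d27_2 D1006 D1334 (iv D1334) (iv D1006) F2851
def n1335 : Q := act 2 n1007
theorem D1335 : act 2 n1007 = n1335 := rfl
theorem F4870 : act 4 n1335 = n1335 := d14_2 F3735 D1335 (iv D1335)
theorem F4871 : act 7 n1335 = n1335 := d17_2 F3736 D1335 (iv D1335)
def n1336 : Q := act 2 n1008
theorem D1336 : act 2 n1008 = n1336 := rfl
theorem F4872 : act 4 n1336 = n1048 := d14_2 (iv F3738) D1336 (iv D1048)
theorem F4873 : act 5 n1336 = n1009 := d15_2 (iv F3739) D1336 (iv D1009)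
theorem F4874 : act 6 n1336 = n1012 := d16_2 D1008 D1336 (iv D1012) (iv D761) (iv F2856)
theorem F4875 : act 7 n1336 = n1336 := d17_2 F3740 D1336 (iv D1336)
def n1337 : Q := act 1 n1009
theorem D1337 : act 1 n1009 = n1337 := rfl
theorem F4876 : act 2 n1337 = n1337 := d7_2 D1009 D1337 (iv D1337) (iv D1009) F2859
theorem F4877 : act 4 n1337 = n1010 := d9_2 (iv F3741) D1337 (iv D1010)
theorem F4878 : act 6 n1337 = n1013 := d11_2 (iv F3742) D1337 (iv D1013)
theorem F4879 : act 7 n1337 = n1337 := d12_2 F3743 D1337 (iv D1337)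
def n1338 : Q := act 3 n1009
theorem D1338 : act 3 n1009 = n1338 := rfl
theorem F4880 : act 6 n1338 = n1014 := d20_2 (iv F3742) D1338 (iv D1014)
theorem F4881 : act 7 n1338 = n1338 := d21_2 F3743 D1338 (iv D1338)
def n1339 : Q := act 0 n1010
theorem D1339 : act 0 n1010 = n1339 := rfl
theorem F4882 : act 2 n1339 = n1339 := d1_2 F3744 D1339 (iv D1339)
theorem F4883 : act 5 n1339 = n1051 := d4_2 (iv F3745) D1339 (iv D1051)
theorem F4884 : act 6 n1339 = n1015 := d5_2 (iv F3746) D1339 (iv D1015)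
theorem F4885 : act 7 n1339 = n1339 := d6_2 F3747 D1339 (iv D1339)
def n1340 : Q := act 3 n1010
theorem D1340 : act 3 n1010 = n1340 := rfl
theorem F4886 : act 1 n1340 = n1011 := d8_1 D1340 (iv D1011) D1010
theorem F4887 : act 5 n1340 = n1052 := d19_2 (iv F3745) D1340 (iv D1052)
theorem F4888 : act 6 n1340 = n1016 := d20_2 (iv F3746) D1340 (iv D1016)
theorem F4889 : act 7 n1340 = n1340 := d21_2 F3747 D1340 (iv D1340)
def n1341 : Q := act 4 n1011
theorem D1341 : act 4 n1011 = n1341 := rfl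
theorem F4890 : act 2 n1341 = n1341 := d14_1 D1341 (iv D1341) F3748
theorem F4891 : act 6 n1341 = n1017 := d23_2 (iv F3750) D1341 (iv D1017)
theorem F4892 : act 7 n1341 = n1341 := d24_2 F3751 D1341 (iv D1341)
def n1342 : Q := act 1 n1012
theorem D1342 : act 1 n1012 = n1342 := rfl
theorem F4893 : act 2 n1342 = n1019 := d7_2 D1012 D1342 (iv D1019) (iv D766) (iv F2865)
theorem F4894 : act 4 n1342 = n1054 := d9_2 (iv F3752) D1342 (iv D1054)
theorem F4895 : act 5 n1342 = n1013 := d10_2 (iv F3753) D1342 (iv D1013)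
theorem F4896 : act 7 n1342 = n1112 := d12_2 (iv F3754) D1342 (iv D1112)
def n1343 : Q := act 3 n1012
theorem D1343 : act 3 n1012 = n1343 := rfl
theorem F4897 : act 5 n1343 = n1014 := d19_2 (iv F3753) D1343 (iv D1014)
theorem F4898 : act 7 n1343 = n1113 := d21_2 (iv F3754) D1343 (iv D1113)
def n1344 : Q := act 0 n1013
theorem D1344 : act 0 n1013 = n1344 := rfl
theorem F4899 : act 2 n1344 = n1021 := d1_2 (iv F3755) D1344 (iv D1021)
theorem F4900 : act 4 n1344 = n1015 := d3_2 (iv F3756) D1344 (iv D1015)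
theorem F4901 : act 7 n1344 = n1114 := d6_2 (iv F3757) D1344 (iv D1114)
def n1345 : Q := act 3 n1013
theorem D1345 : act 3 n1013 = n1345 := rfl
theorem F4902 : act 1 n1345 = n1014 := d8_1 D1345 (iv D1014) D1013
theorem F4903 : act 7 n1345 = n1115 := d21_2 (iv F3757) D1345 (iv D1115)
def n1346 : Q := act 4 n1014
theorem D1346 : act 4 n1014 = n1346 := rfl
theorem F4904 : act 3 n1346 = n1017 := d18_1 D1346 (iv D1017) (iv D764) (iv F2869) D1014
theorem F4905 : act 7 n1346 = n1116 := d24_2 (iv F3758) D1346 (iv D1116)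
def n1347 : Q := act 3 n1015
theorem D1347 : act 3 n1015 = n1347 := rfl
theorem F4906 : act 0 n1347 = n1016 := d2_1 D1347 (iv D1016) D1015
theorem F4907 : act 2 n1347 = n1347 := d13_1 D1347 (iv D1347) F3759 F2893 (iv F3759)
theorem F4908 : act 5 n1347 = n1059 := d19_2 (iv F3760) D1347 (iv D1059)
theorem F4909 : act 7 n1347 = n1117 := d21_2 (iv F3761) D1347 (iv D1117)
def n1348 : Q := act 4 n1016
theorem D1348 : act 4 n1016 = n1348 := rfl
theorem F4910 : act 1 n1348 = n1017 := d9_1 D1348 (iv D1017) (iv F3762)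
theorem F4911 : act 2 n1348 = n1348 := d14_1 D1348 (iv D1348) F3763
theorem F4912 : act 7 n1348 = n1118 := d24_2 (iv F3765) D1348 (iv D1118)
def n1349 : Q := act 5 n1017
theorem D1349 : act 5 n1017 = n1349 := rfl
theorem F4914 : act 4 n1349 = n1061 := d22_1 D1349 (iv D1061) (iv D797) (iv F2875) D1017
def n1350 : Q := act 0 n1019
theorem D1350 : act 0 n1019 = n1350 := rfl
theorem F4917 : act 4 n1350 = n1062 := d3_2 (iv F3772) D1350 (iv D1062)
def n1351 : Q := act 3 n1019
theorem D1351 : act 3 n1019 = n1351 := rfl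
theorem F4921 : act 1 n1351 = n1020 := d8_1 D1351 (iv D1020) D1019
theorem F4922 : act 5 n1351 = n1022 := d19_2 (iv F3773) D1351 (iv D1022)
theorem F4924 : act 7 n1351 = n1121 := d21_2 (iv F3775) D1351 (iv D1121)
def n1352 : Q := act 4 n1020
theorem D1352 : act 4 n1020 = n1352 := rfl
theorem F4929 : act 7 n1352 = n1122 := d24_2 (iv F3779) D1352 (iv D1122)
def n1353 : Q := act 3 n1021
theorem D1353 : act 3 n1021 = n1353 := rfl
theorem F4930 : act 0 n1353 = n1022 := d2_1 D1353 (iv D1022) D1021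
def n1354 : Q := act 2 n1022
theorem D1354 : act 2 n1022 = n1354 := rfl
theorem F4935 : act 4 n1354 = n1354 := d14_2 F3785 D1354 (iv D1354)
theorem F4936 : act 7 n1354 = n1124 := d17_2 (iv F3787) D1354 (iv D1124)
def n1355 : Q := act 5 n1023
theorem D1355 : act 5 n1023 = n1355 := rfl
theorem F4937 : act 0 n1355 = n1355 := d4_1 D1355 (iv D1355) F3788
theorem F4938 : act 1 n1355 = n1355 := d10_1 D1355 (iv D1355) F3789
theorem F4939 : act 2 n1355 = n1024 := d15_1 D1355 (iv D1024) D1023
theorem F4940 : act 3 n1355 = n1355 := d19_1 D1355 (iv D1355) F3790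
def n1356 : Q := act 6 n1023
theorem D1356 : act 6 n1023 = n1356 := rfl
theorem F4941 : act 0 n1356 = n1356 := d5_1 D1356 (iv D1356) F3788
theorem F4942 : act 1 n1356 = n1356 := d11_1 D1356 (iv D1356) F3789
theorem F4943 : act 2 n1356 = n1356 := d16_1 D1356 (iv D1356) (iv D1023) F2900 D1023
theorem F4944 : act 3 n1356 = n1356 := d20_1 D1356 (iv D1356) F3790
theorem F4945 : act 4 n1356 = n1356 := d23_1 D1356 (iv D1356) F3791
def n1357 : Q := act 7 n1023
theorem D1357 : act 7 n1023 = n1357 := rfl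
theorem F4946 : act 0 n1357 = n1357 := d6_1 D1357 (iv D1357) F3788
theorem F4947 : act 1 n1357 = n1357 := d12_1 D1357 (iv D1357) F3789
theorem F4948 : act 2 n1357 = n1025 := d17_1 D1357 (iv D1025) D1023
theorem F4949 : act 3 n1357 = n1357 := d21_1 D1357 (iv D1357) F3790
theorem F4950 : act 4 n1357 = n1357 := d24_1 D1357 (iv D1357) F3791
def n1358 : Q := act 4 n1024
theorem D1358 : act 4 n1024 = n1358 := rfl
theorem F4951 : act 0 n1358 = n1358 := d3_1 D1358 (iv D1358) F3792
theorem F4952 : act 1 n1358 = n1029 := d9_1 D1358 (iv D1029) (iv F3793)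
theorem F4953 : act 5 n1358 = n1358 := d22_2 D1024 D1358 (iv D1358) (iv D1024) F2899
theorem F4954 : act 6 n1358 = n1358 := d23_2 F3795 D1358 (iv D1358)
def n1359 : Q := act 7 n1024
theorem D1359 : act 7 n1024 = n1359 := rfl
theorem F4955 : act 0 n1359 = n1359 := d6_1 D1359 (iv D1359) F3792
theorem F4956 : act 1 n1359 = n1030 := d12_1 D1359 (iv D1030) (iv F3793)
theorem F4957 : act 3 n1359 = n1026 := d21_1 D1359 (iv D1026) (iv F3794)
theorem F4958 : act 5 n1359 = n1025 := d26_1 D1359 (iv D1025) D1024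
def n1360 : Q := act 6 n1025
theorem D1360 : act 6 n1025 = n1360 := rfl
theorem F4959 : act 0 n1360 = n1360 := d5_1 D1360 (iv D1360) F3796
theorem F4960 : act 1 n1360 = n1031 := d11_1 D1360 (iv D1031) (iv F3797)
theorem F4961 : act 3 n1360 = n1027 := d20_1 D1360 (iv D1027) (iv F3798)
theorem F4962 : act 4 n1360 = n1360 := d23_1 D1360 (iv D1360) F3799
theorem F4963 : act 7 n1360 = n1360 := d27_2 D1025 D1360 (iv D1360) (iv D1025) F2900
def n1361 : Q := act 6 n1026
theorem D1361 : act 6 n1026 = n1361 := rfl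
theorem F4964 : act 0 n1361 = n1361 := d5_1 D1361 (iv D1361) F3800
theorem F4965 : act 1 n1361 = n1032 := d11_1 D1361 (iv D1032) (iv F3801)
theorem F4966 : act 5 n1361 = n1027 := d25_1 D1361 (iv D1027) (iv F3803)
theorem F4967 : act 7 n1361 = n1361 := d27_2 D1026 D1361 (iv D1361) (iv D1026) F2904
def n1362 : Q := act 2 n1027
theorem D1362 : act 2 n1027 = n1362 := rfl
theorem F4968 : act 0 n1362 = n1362 := d1_1 D1362 (iv D1362) F3804
theorem F4969 : act 4 n1362 = n1028 := d14_2 (iv F3806) D1362 (iv D1028)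
theorem F4970 : act 6 n1362 = n1362 := d16_2 D1027 D1362 (iv D1362) (iv D1027) F2907
theorem F4971 : act 7 n1362 = n1362 := d17_2 F3807 D1362 (iv D1362)
def n1363 : Q := act 1 n1028
theorem D1363 : act 1 n1028 = n1363 := rfl
theorem F4972 : act 2 n1363 = n1034 := d7_2 D1028 D1363 (iv D1034) (iv D778) (iv F2910)
theorem F4973 : act 6 n1363 = n1363 := d11_2 F3809 D1363 (iv D1363)
theorem F4974 : act 7 n1363 = n1363 := d12_2 F3810 D1363 (iv D1363)
def n1364 : Q := act 3 n1028
theorem D1364 : act 3 n1028 = n1364 := rfl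
theorem F4975 : act 0 n1364 = n1364 := d2_1 D1364 (iv D1364) F3808
theorem F4976 : act 2 n1364 = n1364 := d13_1 D1364 (iv D1364) (iv D1028) F2911 D1028
theorem F4977 : act 6 n1364 = n1364 := d20_2 F3809 D1364 (iv D1364)
theorem F4978 : act 7 n1364 = n1364 := d21_2 F3810 D1364 (iv D1364)
def n1365 : Q := act 7 n1029
theorem D1365 : act 7 n1029 = n1365 := rfl
theorem F4979 : act 0 n1365 = n1045 := d6_1 D1365 (iv D1045) (iv F3811)
theorem F4980 : act 2 n1365 = n1365 := d17_1 D1365 (iv D1365) F3812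
theorem F4981 : act 4 n1365 = n1030 := d24_1 D1365 (iv D1030) D1029
theorem F4982 : act 5 n1365 = n1365 := d26_1 D1365 (iv D1365) F3813
def n1366 : Q := act 6 n1030
theorem D1366 : act 6 n1030 = n1366 := rfl
theorem F4983 : act 0 n1366 = n1046 := d5_1 D1366 (iv D1046) (iv F3815)
theorem F4984 : act 3 n1366 = n1032 := d20_1 D1366 (iv D1032) (iv F3817)
theorem F4985 : act 5 n1366 = n1031 := d25_1 D1366 (iv D1031) (iv F3818)
theorem F4986 : act 7 n1366 = n1366 := d27_2 D1030 D1366 (iv D1366) (iv D1030) F2916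
def n1367 : Q := act 2 n1031
theorem D1367 : act 2 n1031 = n1367 := rfl
theorem F4987 : act 0 n1367 = n1047 := d1_1 D1367 (iv D1047) (iv F3819)
theorem F4988 : act 4 n1367 = n1367 := d14_2 F3821 D1367 (iv D1367)
theorem F4989 : act 6 n1367 = n1367 := d16_2 D1031 D1367 (iv D1367) (iv D1031) F2918
theorem F4990 : act 7 n1367 = n1367 := d17_2 F3822 D1367 (iv D1367)
def n1368 : Q := act 2 n1032
theorem D1368 : act 2 n1032 = n1368 := rfl
theorem F4991 : act 0 n1368 = n1048 := d1_1 D1368 (iv D1048) (iv F3823)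
theorem F4992 : act 5 n1368 = n1033 := d15_2 (iv F3824) D1368 (iv D1033)
theorem F4993 : act 6 n1368 = n1036 := d16_2 D1032 D1368 (iv D1036) (iv D779) (iv F2922)
theorem F4994 : act 7 n1368 = n1368 := d17_2 F3825 D1368 (iv D1368)
def n1369 : Q := act 1 n1033
theorem D1369 : act 1 n1033 = n1369 := rfl
theorem F4995 : act 4 n1369 = n1034 := d9_2 (iv F3827) D1369 (iv D1034)
theorem F4996 : act 6 n1369 = n1037 := d11_2 (iv F3828) D1369 (iv D1037)
theorem F4997 : act 7 n1369 = n1369 := d12_2 F3829 D1369 (iv D1369)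
def n1370 : Q := act 3 n1033
theorem D1370 : act 3 n1033 = n1370 := rfl
theorem F4998 : act 0 n1370 = n1050 := d2_1 D1370 (iv D1050) (iv F3826)
theorem F4999 : act 6 n1370 = n1038 := d20_2 (iv F3828) D1370 (iv D1038)
theorem F5000 : act 7 n1370 = n1370 := d21_2 F3829 D1370 (iv D1370)
def n1371 : Q := act 0 n1034
theorem D1371 : act 0 n1034 = n1371 := rfl
theorem F5001 : act 1 n1371 = n1051 := d0_2 D1034 D1371 (iv D1051) (iv D790) (iv F2927)
theorem F5002 : act 6 n1371 = n1039 := d5_2 (iv F3830) D1371 (iv D1039)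
def n1372 : Q := act 3 n1034
theorem D1372 : act 3 n1034 = n1372 := rfl
theorem F5004 : act 1 n1372 = n1035 := d8_1 D1372 (iv D1035) D1034
theorem F5005 : act 6 n1372 = n1040 := d20_2 (iv F3830) D1372 (iv D1040)
def n1373 : Q := act 4 n1035
theorem D1373 : act 4 n1035 = n1373 := rfl
def n1374 : Q := act 1 n1036
theorem D1374 : act 1 n1036 = n1374 := rfl
theorem F5012 : act 5 n1374 = n1037 := d10_2 (iv F3837) D1374 (iv D1037)
theorem F5013 : act 7 n1374 = n1125 := d12_2 (iv F3838) D1374 (iv D1125)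
def n1375 : Q := act 3 n1036
theorem D1375 : act 3 n1036 = n1375 := rfl
theorem F5014 : act 0 n1375 = n1055 := d2_1 D1375 (iv D1055) (iv F3836)
theorem F5016 : act 5 n1375 = n1038 := d19_2 (iv F3837) D1375 (iv D1038)
def n1376 : Q := act 0 n1037
theorem D1376 : act 0 n1037 = n1376 := rfl
theorem F5018 : act 1 n1376 = n1056 := d0_2 D1037 D1376 (iv D1056) (iv D793) (iv F2935)
theorem F5020 : act 4 n1376 = n1039 := d3_2 (iv F3840) D1376 (iv D1039)
theorem F5021 : act 7 n1376 = n1127 := d6_2 (iv F3841) D1376 (iv D1127)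
def n1377 : Q := act 3 n1037
theorem D1377 : act 3 n1037 = n1377 := rfl
theorem F5022 : act 1 n1377 = n1038 := d8_1 D1377 (iv D1038) D1037
theorem F5023 : act 7 n1377 = n1128 := d21_2 (iv F3841) D1377 (iv D1128)
def n1378 : Q := act 4 n1038
theorem D1378 : act 4 n1038 = n1378 := rfl
theorem F5024 : act 0 n1378 = n1058 := d3_1 D1378 (iv D1058) (iv F3842)
theorem F5026 : act 3 n1378 = n1041 := d18_1 D1378 (iv D1041) (iv D782) (iv F2936) D1038
def n1379 : Q := act 3 n1039
theorem D1379 : act 3 n1039 = n1379 := rfl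
theorem F5028 : act 0 n1379 = n1040 := d2_1 D1379 (iv D1040) D1039
theorem F5029 : act 1 n1379 = n1059 := d8_1 D1379 (iv D1059) (iv F3845)
theorem F5030 : act 7 n1379 = n1130 := d21_2 (iv F3847) D1379 (iv D1130)
def n1380 : Q := act 2 n1040
theorem D1380 : act 2 n1040 = n1380 := rfl
theorem F5031 : act 1 n1380 = n1042 := d7_1 D1380 (iv D1042) F2944 (iv F2941) (iv F3848)
theorem F5033 : act 7 n1380 = n1131 := d17_2 (iv F3849) D1380 (iv D1131)
def n1381 : Q := act 4 n1040
theorem D1381 : act 4 n1040 = n1381 := rfl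
theorem F5034 : act 1 n1381 = n1041 := d9_1 D1381 (iv D1041) (iv F3848)
theorem F5035 : act 7 n1381 = n1132 := d24_2 (iv F3849) D1381 (iv D1132)
def n1382 : Q := act 5 n1041
theorem D1382 : act 5 n1041 = n1382 := rfl
def n1383 : Q := act 4 n1042
theorem D1383 : act 4 n1042 = n1383 := rfl
theorem F5041 : act 7 n1383 = n1134 := d24_2 (iv F3855) D1383 (iv D1134)
def n1385 : Q := act 5 n1043
theorem D1385 : act 5 n1043 = n1385 := rfl
theorem F5049 : act 7 n1385 = n1136 := d26_2 (iv F3860) D1385 (iv D1136)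
def n1386 : Q := act 6 n1045
theorem D1386 : act 6 n1045 = n1386 := rfl
theorem F5050 : act 1 n1386 = n1386 := d11_1 D1386 (iv D1386) F3865
theorem F5051 : act 4 n1386 = n1046 := d23_1 D1386 (iv D1046) (iv F3867)
theorem F5052 : act 5 n1386 = n1386 := d25_1 D1386 (iv D1386) F3868
theorem F5053 : act 7 n1386 = n1386 := d27_2 D1045 D1386 (iv D1386) (iv D1045) F2954
def n1387 : Q := act 2 n1046
theorem D1387 : act 2 n1046 = n1387 := rfl
theorem F5054 : act 5 n1387 = n1047 := d15_2 (iv F3871) D1387 (iv D1047)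
theorem F5055 : act 6 n1387 = n1387 := d16_2 D1046 D1387 (iv D1387) (iv D1046) F2956
theorem F5056 : act 7 n1387 = n1387 := d17_2 F3872 D1387 (iv D1387)
def n1388 : Q := act 1 n1047
theorem D1388 : act 1 n1047 = n1388 := rfl
theorem F5057 : act 2 n1388 = n1388 := d7_2 D1047 D1388 (iv D1388) (iv D1047) F2959
theorem F5059 : act 6 n1388 = n1388 := d11_2 F3874 D1388 (iv D1388)
theorem F5060 : act 7 n1388 = n1388 := d12_2 F3875 D1388 (iv D1388)
def n1389 : Q := act 3 n1047
theorem D1389 : act 3 n1047 = n1389 := rfl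
theorem F5061 : act 2 n1389 = n1050 := d13_1 D1389 (iv D1050) (iv D789) (iv F2960) D1047
def n1390 : Q := act 1 n1048
theorem D1390 : act 1 n1048 = n1390 := rfl
theorem F5065 : act 5 n1390 = n1049 := d10_2 (iv F3876) D1390 (iv D1049)
theorem F5066 : act 6 n1390 = n1054 := d11_2 (iv F3877) D1390 (iv D1054)
def n1391 : Q := act 3 n1048
theorem D1391 : act 3 n1048 = n1391 := rfl
theorem F5068 : act 5 n1391 = n1050 := d19_2 (iv F3876) D1391 (iv D1050)
def n1392 : Q := act 0 n1049
theorem D1392 : act 0 n1049 = n1392 := rfl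
theorem F5071 : act 2 n1392 = n1392 := d1_2 F3879 D1392 (iv D1392)
theorem F5072 : act 4 n1392 = n1051 := d3_2 (iv F3880) D1392 (iv D1051)
theorem F5073 : act 6 n1392 = n1056 := d5_2 (iv F3881) D1392 (iv D1056)
def n1393 : Q := act 3 n1049
theorem D1393 : act 3 n1049 = n1393 := rfl
theorem F5075 : act 1 n1393 = n1050 := d8_1 D1393 (iv D1050) D1049
theorem F5076 : act 6 n1393 = n1057 := d20_2 (iv F3881) D1393 (iv D1057)
theorem F5077 : act 7 n1393 = n1393 := d21_2 F3882 D1393 (iv D1393)
def n1394 : Q := act 4 n1050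
theorem D1394 : act 4 n1050 = n1394 := rfl
theorem F5078 : act 3 n1394 = n1053 := d18_1 D1394 (iv D1053) (iv D791) (iv F2966) D1050
theorem F5079 : act 6 n1394 = n1058 := d23_2 (iv F3883) D1394 (iv D1058)
def n1395 : Q := act 3 n1051
theorem D1395 : act 3 n1051 = n1395 := rfl
theorem F5081 : act 0 n1395 = n1052 := d2_1 D1395 (iv D1052) D1051
theorem F5082 : act 6 n1395 = n1059 := d20_2 (iv F3886) D1395 (iv D1059)
theorem F5083 : act 7 n1395 = n1395 := d21_2 F3887 D1395 (iv D1395)
def n1396 : Q := act 2 n1052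
theorem D1396 : act 2 n1052 = n1396 := rfl
theorem F5084 : act 1 n1396 = n1396 := d7_1 D1396 (iv D1396) F3888 F2972 (iv F3888)
theorem F5085 : act 3 n1396 = n1396 := d13_2 D1052 D1396 (iv D1396) (iv D1052) F2969
theorem F5086 : act 6 n1396 = n1396 := d16_2 (iv F3889) D1396 (iv D1396) F3889 F2985
theorem F5087 : act 7 n1396 = n1396 := d17_2 F3890 D1396 (iv D1396)
def n1397 : Q := act 4 n1052
theorem D1397 : act 4 n1052 = n1397 := rfl
def n1399 : Q := act 0 n1054
theorem D1399 : act 0 n1054 = n1399 := rfl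
theorem F5094 : act 2 n1399 = n1062 := d1_2 (iv F3894) D1399 (iv D1062)
theorem F5095 : act 5 n1399 = n1056 := d4_2 (iv F3895) D1399 (iv D1056)
theorem F5096 : act 7 n1399 = n1137 := d6_2 (iv F3896) D1399 (iv D1137)
def n1400 : Q := act 3 n1054
theorem D1400 : act 3 n1054 = n1400 := rfl
theorem F5097 : act 1 n1400 = n1055 := d8_1 D1400 (iv D1055) D1054
theorem F5098 : act 5 n1400 = n1057 := d19_2 (iv F3895) D1400 (iv D1057)
theorem F5099 : act 7 n1400 = n1138 := d21_2 (iv F3896) D1400 (iv D1138)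
def n1401 : Q := act 4 n1055
theorem D1401 : act 4 n1055 = n1401 := rfl
theorem F5101 : act 7 n1401 = n1139 := d24_2 (iv F3899) D1401 (iv D1139)
def n1402 : Q := act 3 n1056
theorem D1402 : act 3 n1056 = n1402 := rfl
theorem F5102 : act 0 n1402 = n1057 := d2_1 D1402 (iv D1057) D1056
theorem F5103 : act 7 n1402 = n1140 := d21_2 (iv F3902) D1402 (iv D1140)
def n1403 : Q := act 2 n1057
theorem D1403 : act 2 n1057 = n1403 := rfl
theorem F5104 : act 1 n1403 = n1403 := d7_1 D1403 (iv D1403) F3903 F2980 (iv F3903)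
theorem F5105 : act 3 n1403 = n1066 := d13_2 D1057 D1403 (iv D1066) (iv D802) (iv F2977)
theorem F5106 : act 7 n1403 = n1141 := d17_2 (iv F3904) D1403 (iv D1141)
def n1404 : Q := act 4 n1057
theorem D1404 : act 4 n1057 = n1404 := rfl
theorem F5107 : act 1 n1404 = n1058 := d9_1 D1404 (iv D1058) (iv F3903)
theorem F5108 : act 3 n1404 = n1060 := d18_1 D1404 (iv D1060) (iv D796) (iv F2978) D1057
def n1405 : Q := act 5 n1058
theorem D1405 : act 5 n1058 = n1405 := rfl
def n1406 : Q := act 4 n1059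
theorem D1406 : act 4 n1059 = n1406 := rfl
theorem F5113 : act 0 n1406 = n1060 := d3_1 D1406 (iv D1060) (iv F3908)
theorem F5115 : act 7 n1406 = n1144 := d24_2 (iv F3910) D1406 (iv D1144)
def n1407 : Q := act 5 n1060
theorem D1407 : act 5 n1060 = n1407 := rfl
theorem F5118 : act 7 n1407 = n1145 := d26_2 (iv F3913) D1407 (iv D1145)
def n1408 : Q := act 3 n1062
theorem D1408 : act 3 n1062 = n1408 := rfl
theorem F5119 : act 0 n1408 = n1063 := d2_1 D1408 (iv D1063) D1062
theorem F5121 : act 5 n1408 = n1065 := d19_2 (iv F3917) D1408 (iv D1065)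
theorem F5123 : act 7 n1408 = n1146 := d21_2 (iv F3919) D1408 (iv D1146)
def n1409 : Q := act 2 n1063
theorem D1409 : act 2 n1063 = n1409 := rfl
theorem F5125 : act 5 n1409 = n1066 := d15_2 (iv F3921) D1409 (iv D1066)
theorem F5126 : act 7 n1409 = n1147 := d17_2 (iv F3923) D1409 (iv D1147)
def n1410 : Q := act 4 n1063
theorem D1410 : act 4 n1063 = n1410 := rfl
def n1411 : Q := act 2 n1065
theorem D1411 : act 2 n1065 = n1411 := rfl
theorem F5131 : act 0 n1411 = n1066 := d1_1 D1411 (iv D1066) (iv F3929)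
theorem F5133 : act 7 n1411 = n1149 := d17_2 (iv F3933) D1411 (iv D1149)
def n1412 : Q := act 6 n1066
theorem D1412 : act 6 n1066 = n1412 := rfl
theorem F5135 : act 2 n1412 = n1412 := d16_1 D1412 (iv D1412) (iv D1066) F3007 D1066
def n1413 : Q := act 6 n1067
theorem D1413 : act 6 n1067 = n1413 := rfl
theorem F5138 : act 1 n1413 = n1073 := d11_1 D1413 (iv D1073) (iv F3938)
theorem F5141 : act 5 n1413 = n1068 := d25_1 D1413 (iv D1068) D1067
def n1414 : Q := act 7 n1067
theorem D1414 : act 7 n1067 = n1414 := rfl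
theorem F5142 : act 0 n1414 = n1414 := d6_1 D1414 (iv D1414) F3937
theorem F5143 : act 1 n1414 = n1074 := d12_1 D1414 (iv D1074) (iv F3938)
theorem F5144 : act 2 n1414 = n1414 := d17_1 D1414 (iv D1414) F3939
theorem F5145 : act 3 n1414 = n1414 := d21_1 D1414 (iv D1414) F3940
theorem F5146 : act 4 n1414 = n1414 := d24_1 D1414 (iv D1414) F3941
theorem F5147 : act 5 n1414 = n1069 := d26_1 D1414 (iv D1069) D1067
def n1415 : Q := act 2 n1068
theorem D1415 : act 2 n1068 = n1415 := rfl
theorem F5149 : act 4 n1415 = n1070 := d14_2 (iv F3945) D1415 (iv D1070)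
def n1416 : Q := act 7 n1068
theorem D1416 : act 7 n1068 = n1416 := rfl
theorem F5151 : act 0 n1416 = n1416 := d6_1 D1416 (iv D1416) F3942
theorem F5152 : act 1 n1416 = n1075 := d12_1 D1416 (iv D1075) (iv F3943)
theorem F5153 : act 3 n1416 = n1416 := d21_1 D1416 (iv D1416) F3944
theorem F5154 : act 4 n1416 = n1071 := d24_1 D1416 (iv D1071) (iv F3945)
def n1417 : Q := act 6 n1069
theorem D1417 : act 6 n1069 = n1417 := rfl
theorem F5155 : act 0 n1417 = n1417 := d5_1 D1417 (iv D1417) F3946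
theorem F5156 : act 1 n1417 = n1076 := d11_1 D1417 (iv D1076) (iv F3947)
theorem F5157 : act 3 n1417 = n1417 := d20_1 D1417 (iv D1417) F3949
theorem F5158 : act 4 n1417 = n1072 := d23_1 D1417 (iv D1072) (iv F3950)
def n1418 : Q := act 3 n1070
theorem D1418 : act 3 n1070 = n1418 := rfl
theorem F5160 : act 2 n1418 = n1171 := d13_1 D1418 (iv D1171) (iv D887) (iv F3015) D1070
def n1419 : Q := act 7 n1070
theorem D1419 : act 7 n1070 = n1419 := rfl
theorem F5163 : act 0 n1419 = n1419 := d6_1 D1419 (iv D1419) F3951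
theorem F5164 : act 2 n1419 = n1071 := d17_1 D1419 (iv D1071) D1070
theorem F5165 : act 5 n1419 = n1419 := d26_1 D1419 (iv D1419) F3952
def n1420 : Q := act 6 n1071
theorem D1420 : act 6 n1071 = n1420 := rfl
theorem F5166 : act 0 n1420 = n1420 := d5_1 D1420 (iv D1420) F3954
theorem F5167 : act 1 n1420 = n1077 := d11_1 D1420 (iv D1077) (iv F3955)
theorem F5168 : act 3 n1420 = n1173 := d20_1 D1420 (iv D1173) (iv F3956)
theorem F5169 : act 5 n1420 = n1420 := d25_1 D1420 (iv D1420) F3957
theorem F5170 : act 7 n1420 = n1072 := d27_2 D1071 D1420 (iv D1072) (iv D805) D804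
def n1421 : Q := act 2 n1072
theorem D1421 : act 2 n1072 = n1421 := rfl
theorem F5171 : act 0 n1421 = n1421 := d1_1 D1421 (iv D1421) F3958
theorem F5172 : act 5 n1421 = n1421 := d15_2 F3961 D1421 (iv D1421)
theorem F5173 : act 6 n1421 = n1421 := d16_2 D1072 D1421 (iv D1421) (iv D1072) F3019
def n1422 : Q := act 7 n1073
theorem D1422 : act 7 n1073 = n1422 := rfl
theorem F5174 : act 0 n1422 = n1085 := d6_1 D1422 (iv D1085) (iv F3962)
theorem F5175 : act 3 n1422 = n1422 := d21_1 D1422 (iv D1422) F3963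
theorem F5176 : act 4 n1422 = n1422 := d24_1 D1422 (iv D1422) F3964
theorem F5177 : act 5 n1422 = n1075 := d26_1 D1422 (iv D1075) (iv F3965)
def n1423 : Q := act 6 n1074
theorem D1423 : act 6 n1074 = n1423 := rfl
theorem F5178 : act 0 n1423 = n1086 := d5_1 D1423 (iv D1086) (iv F3966)
theorem F5179 : act 3 n1423 = n1423 := d20_1 D1423 (iv D1423) F3968
theorem F5180 : act 4 n1423 = n1423 := d23_1 D1423 (iv D1423) F3969
theorem F5181 : act 5 n1423 = n1076 := d25_1 D1423 (iv D1076) (iv F3970)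
def n1424 : Q := act 6 n1075
theorem D1424 : act 6 n1075 = n1424 := rfl
theorem F5182 : act 0 n1424 = n1087 := d5_1 D1424 (iv D1087) (iv F3971)
theorem F5183 : act 3 n1424 = n1424 := d20_1 D1424 (iv D1424) F3972
theorem F5184 : act 4 n1424 = n1077 := d23_1 D1424 (iv D1077) (iv F3973)
theorem F5185 : act 7 n1424 = n1076 := d27_2 D1075 D1424 (iv D1076) (iv D808) D807
def n1425 : Q := act 2 n1076
theorem D1425 : act 2 n1076 = n1425 := rfl
theorem F5186 : act 0 n1425 = n1088 := d1_1 D1425 (iv D1088) (iv F3974)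
theorem F5187 : act 4 n1425 = n1078 := d14_2 (iv F3976) D1425 (iv D1078)
theorem F5188 : act 6 n1425 = n1080 := d16_2 D1076 D1425 (iv D1080) (iv D812) (iv F3030)
def n1426 : Q := act 2 n1077
theorem D1426 : act 2 n1077 = n1426 := rfl
theorem F5189 : act 0 n1426 = n1089 := d1_1 D1426 (iv D1089) (iv F3977)
theorem F5190 : act 5 n1426 = n1426 := d15_2 F3979 D1426 (iv D1426)
theorem F5191 : act 7 n1426 = n1078 := d17_2 (iv F3980) D1426 (iv D1078)
def n1427 : Q := act 1 n1078
theorem D1427 : act 1 n1078 = n1427 := rfl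
theorem F5192 : act 5 n1427 = n1427 := d10_2 F3982 D1427 (iv D1427)
theorem F5193 : act 6 n1427 = n1081 := d11_2 (iv F3983) D1427 (iv D1081)
def n1428 : Q := act 3 n1078
theorem D1428 : act 3 n1078 = n1428 := rfl
theorem F5194 : act 0 n1428 = n1091 := d2_1 D1428 (iv D1091) (iv F3981)
theorem F5195 : act 2 n1428 = n1177 := d13_1 D1428 (iv D1177) (iv D891) (iv F3037) D1078
theorem F5196 : act 5 n1428 = n1428 := d19_2 F3982 D1428 (iv D1428)
theorem F5197 : act 6 n1428 = n1082 := d20_2 (iv F3983) D1428 (iv D1082)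
def n1429 : Q := act 2 n1079
theorem D1429 : act 2 n1079 = n1429 := rfl
theorem F5198 : act 0 n1429 = n1092 := d1_1 D1429 (iv D1092) (iv F3984)
theorem F5199 : act 4 n1429 = n1429 := d14_2 F3987 D1429 (iv D1429)
theorem F5200 : act 5 n1429 = n1080 := d15_2 (iv F3988) D1429 (iv D1080)
def n1430 : Q := act 1 n1080
theorem D1430 : act 1 n1080 = n1430 := rfl
theorem F5201 : act 2 n1430 = n1430 := d7_2 D1080 D1430 (iv D1430) (iv D1080) F3045
theorem F5202 : act 4 n1430 = n1081 := d9_2 (iv F3990) D1430 (iv D1081)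
def n1431 : Q := act 3 n1080
theorem D1431 : act 3 n1080 = n1431 := rfl
theorem F5203 : act 0 n1431 = n1094 := d2_1 D1431 (iv D1094) (iv F3989)
theorem F5204 : act 2 n1431 = n1105 := d13_1 D1431 (iv D1105) (iv D832) (iv F3046) D1080
def n1432 : Q := act 0 n1081
theorem D1432 : act 0 n1081 = n1432 := rfl
theorem F5205 : act 1 n1432 = n1095 := d0_2 D1081 D1432 (iv D1095) (iv D824) (iv F3048)
theorem F5206 : act 2 n1432 = n1432 := d1_2 F3991 D1432 (iv D1432)
theorem F5207 : act 5 n1432 = n1432 := d4_2 F3992 D1432 (iv D1432)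
def n1433 : Q := act 3 n1081
theorem D1433 : act 3 n1081 = n1433 := rfl
theorem F5208 : act 1 n1433 = n1082 := d8_1 D1433 (iv D1082) D1081
theorem F5209 : act 5 n1433 = n1433 := d19_2 F3992 D1433 (iv D1433)
def n1434 : Q := act 4 n1082
theorem D1434 : act 4 n1082 = n1434 := rfl
theorem F5210 : act 0 n1434 = n1097 := d3_1 D1434 (iv D1097) (iv F3993)
theorem F5211 : act 2 n1434 = n1084 := d14_1 D1434 (iv D1084) (iv F3994)
def n1435 : Q := act 2 n1083
theorem D1435 : act 2 n1083 = n1435 := rfl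
theorem F5212 : act 0 n1435 = n1435 := d1_1 D1435 (iv D1435) F3996
theorem F5213 : act 3 n1435 = n1435 := d13_2 D1083 D1435 (iv D1435) (iv D1083) F3051
theorem F5214 : act 5 n1435 = n1435 := d15_2 F3998 D1435 (iv D1435)
def n1436 : Q := act 4 n1083
theorem D1436 : act 4 n1083 = n1436 := rfl
theorem F5216 : act 1 n1436 = n1084 := d9_1 D1436 (iv D1084) (iv F3997)
def n1438 : Q := act 6 n1085
theorem D1438 : act 6 n1085 = n1438 := rfl
theorem F5223 : act 1 n1438 = n1438 := d11_1 D1438 (iv D1438) F4003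
theorem F5224 : act 3 n1438 = n1438 := d20_1 D1438 (iv D1438) F4004
theorem F5225 : act 4 n1438 = n1438 := d23_1 D1438 (iv D1438) F4005
theorem F5226 : act 5 n1438 = n1087 := d25_1 D1438 (iv D1087) (iv F4006)
theorem F5227 : act 7 n1438 = n1086 := d27_2 D1085 D1438 (iv D1086) (iv D817) D816
def n1439 : Q := act 2 n1086
theorem D1439 : act 2 n1086 = n1439 := rfl
theorem F5228 : act 4 n1439 = n1439 := d14_2 F4009 D1439 (iv D1439)
theorem F5229 : act 5 n1439 = n1088 := d15_2 (iv F4010) D1439 (iv D1088)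
theorem F5230 : act 6 n1439 = n1092 := d16_2 D1086 D1439 (iv D1092) (iv D822) (iv F3063)
def n1440 : Q := act 2 n1087
theorem D1440 : act 2 n1087 = n1440 := rfl
theorem F5231 : act 4 n1440 = n1089 := d14_2 (iv F4013) D1440 (iv D1089)
theorem F5232 : act 7 n1440 = n1088 := d17_2 (iv F4014) D1440 (iv D1088)
def n1441 : Q := act 1 n1088
theorem D1441 : act 1 n1088 = n1441 := rfl
theorem F5233 : act 2 n1441 = n1441 := d7_2 D1088 D1441 (iv D1441) (iv D1088) F3070
theorem F5234 : act 4 n1441 = n1090 := d9_2 (iv F4015) D1441 (iv D1090)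
theorem F5235 : act 6 n1441 = n1093 := d11_2 (iv F4016) D1441 (iv D1093)
def n1442 : Q := act 3 n1088
theorem D1442 : act 3 n1088 = n1442 := rfl
theorem F5236 : act 2 n1442 = n1442 := d13_1 D1442 (iv D1442) (iv D1088) F3071 D1088
theorem F5237 : act 6 n1442 = n1094 := d20_2 (iv F4016) D1442 (iv D1094)
def n1443 : Q := act 1 n1089
theorem D1443 : act 1 n1089 = n1443 := rfl
theorem F5238 : act 2 n1443 = n1443 := d7_2 D1089 D1443 (iv D1443) (iv D1089) F3073
theorem F5239 : act 5 n1443 = n1443 := d10_2 F4017 D1443 (iv D1443)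
theorem F5240 : act 7 n1443 = n1090 := d12_2 (iv F4018) D1443 (iv D1090)
def n1444 : Q := act 3 n1089
theorem D1444 : act 3 n1089 = n1444 := rfl
theorem F5241 : act 2 n1444 = n1185 := d13_1 D1444 (iv D1185) (iv D896) (iv F3074) D1089
theorem F5242 : act 5 n1444 = n1444 := d19_2 F4017 D1444 (iv D1444)
theorem F5243 : act 7 n1444 = n1091 := d21_2 (iv F4018) D1444 (iv D1091)
def n1445 : Q := act 0 n1090
theorem D1445 : act 0 n1090 = n1445 := rfl
theorem F5244 : act 2 n1445 = n1445 := d1_2 F4019 D1445 (iv D1445)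
theorem F5245 : act 5 n1445 = n1445 := d4_2 F4020 D1445 (iv D1445)
theorem F5246 : act 6 n1445 = n1095 := d5_2 (iv F4021) D1445 (iv D1095)
def n1446 : Q := act 3 n1090
theorem D1446 : act 3 n1090 = n1446 := rfl
theorem F5247 : act 1 n1446 = n1091 := d8_1 D1446 (iv D1091) D1090
theorem F5248 : act 5 n1446 = n1446 := d19_2 F4020 D1446 (iv D1446)
theorem F5249 : act 6 n1446 = n1096 := d20_2 (iv F4021) D1446 (iv D1096)
def n1447 : Q := act 4 n1091
theorem D1447 : act 4 n1091 = n1447 := rfl
theorem F5250 : act 2 n1447 = n1188 := d14_1 D1447 (iv D1188) (iv F4022)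
theorem F5251 : act 6 n1447 = n1097 := d23_2 (iv F4024) D1447 (iv D1097)
def n1448 : Q := act 1 n1092
theorem D1448 : act 1 n1092 = n1448 := rfl
theorem F5252 : act 2 n1448 = n1099 := d7_2 D1092 D1448 (iv D1099) (iv D827) (iv F3079)
theorem F5253 : act 4 n1448 = n1448 := d9_2 F4025 D1448 (iv D1448)
theorem F5254 : act 5 n1448 = n1093 := d10_2 (iv F4026) D1448 (iv D1093)
def n1449 : Q := act 3 n1092
theorem D1449 : act 3 n1092 = n1449 := rfl
theorem F5255 : act 2 n1449 = n1113 := d13_1 D1449 (iv D1113) (iv D837) (iv F3080) D1092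
theorem F5256 : act 5 n1449 = n1094 := d19_2 (iv F4026) D1449 (iv D1094)
def n1450 : Q := act 0 n1093
theorem D1450 : act 0 n1093 = n1450 := rfl
theorem F5257 : act 2 n1450 = n1101 := d1_2 (iv F4027) D1450 (iv D1101)
theorem F5258 : act 4 n1450 = n1095 := d3_2 (iv F4028) D1450 (iv D1095)
def n1451 : Q := act 3 n1093
theorem D1451 : act 3 n1093 = n1451 := rfl
theorem F5259 : act 1 n1451 = n1094 := d8_1 D1451 (iv D1094) D1093
def n1452 : Q := act 4 n1094
theorem D1452 : act 4 n1094 = n1452 := rfl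
theorem F5260 : act 2 n1452 = n1116 := d14_1 D1452 (iv D1116) (iv F4029)
theorem F5261 : act 3 n1452 = n1097 := d18_1 D1452 (iv D1097) (iv D825) (iv F3083) D1094
def n1453 : Q := act 3 n1095
theorem D1453 : act 3 n1095 = n1453 := rfl
theorem F5262 : act 0 n1453 = n1096 := d2_1 D1453 (iv D1096) D1095
theorem F5263 : act 2 n1453 = n1453 := d13_1 D1453 (iv D1453) F4030 F3102 (iv F4030)
theorem F5264 : act 5 n1453 = n1453 := d19_2 F4031 D1453 (iv D1453)
def n1454 : Q := act 4 n1096
theorem D1454 : act 4 n1096 = n1454 := rfl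
theorem F5265 : act 1 n1454 = n1097 := d9_1 D1454 (iv D1097) (iv F4032)
theorem F5266 : act 2 n1454 = n1454 := d14_1 D1454 (iv D1454) F4033
def n1455 : Q := act 5 n1097
theorem D1455 : act 5 n1097 = n1455 := rfl
theorem F5267 : act 2 n1455 = n1098 := d15_1 D1455 (iv D1098) (iv F4035)
theorem F5268 : act 4 n1455 = n1455 := d22_1 D1455 (iv D1455) (iv D1097) F3087 D1097
def n1456 : Q := act 0 n1099
theorem D1456 : act 0 n1099 = n1456 := rfl
theorem F5269 : act 1 n1456 = n1456 := d0_2 D1099 D1456 (iv D1456) (iv D1099) F3091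
theorem F5270 : act 4 n1456 = n1456 := d3_2 F4040 D1456 (iv D1456)
theorem F5271 : act 5 n1456 = n1101 := d4_2 (iv F4041) D1456 (iv D1101)
theorem F5272 : act 6 n1456 = n1456 := d5_2 F4042 D1456 (iv D1456)
def n1457 : Q := act 3 n1099
theorem D1457 : act 3 n1099 = n1457 := rfl
theorem F5273 : act 1 n1457 = n1100 := d8_1 D1457 (iv D1100) D1099
theorem F5274 : act 5 n1457 = n1102 := d19_2 (iv F4041) D1457 (iv D1102)
theorem F5275 : act 6 n1457 = n1457 := d20_2 F4042 D1457 (iv D1457)
def n1458 : Q := act 4 n1100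
theorem D1458 : act 4 n1100 = n1458 := rfl
theorem F5280 : act 6 n1458 = n1458 := d23_2 F4046 D1458 (iv D1458)
def n1459 : Q := act 3 n1101
theorem D1459 : act 3 n1101 = n1459 := rfl
theorem F5281 : act 0 n1459 = n1102 := d2_1 D1459 (iv D1102) D1101
theorem F5282 : act 1 n1459 = n1459 := d8_1 D1459 (iv D1459) F4047
theorem F5283 : act 4 n1459 = n1459 := d18_2 (iv F4048) D1459 (iv D1459) F4048 F3102
theorem F5284 : act 6 n1459 = n1459 := d20_2 F4049 D1459 (iv D1459)
def n1460 : Q := act 2 n1102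
theorem D1460 : act 2 n1102 = n1460 := rfl
theorem F5285 : act 1 n1460 = n1124 := d7_1 D1460 (iv D1124) F3153 (iv F3098) (iv F4050)
theorem F5286 : act 4 n1460 = n1460 := d14_2 F4051 D1460 (iv D1460)
def n1461 : Q := act 1 n1103
theorem D1461 : act 1 n1103 = n1461 := rfl
theorem F5287 : act 2 n1461 = n1461 := d7_2 D1103 D1461 (iv D1461) (iv D1103) F3106
theorem F5288 : act 4 n1461 = n1125 := d9_2 (iv F4054) D1461 (iv D1125)
theorem F5289 : act 5 n1461 = n1104 := d10_2 (iv F4055) D1461 (iv D1104)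
theorem F5290 : act 6 n1461 = n1461 := d11_2 F4056 D1461 (iv D1461)
def n1462 : Q := act 3 n1103
theorem D1462 : act 3 n1103 = n1462 := rfl
theorem F5291 : act 0 n1462 = n1113 := d2_1 D1462 (iv D1113) (iv F4053)
theorem F5292 : act 5 n1462 = n1105 := d19_2 (iv F4055) D1462 (iv D1105)
theorem F5293 : act 6 n1462 = n1462 := d20_2 F4056 D1462 (iv D1462)
def n1463 : Q := act 0 n1104
theorem D1463 : act 0 n1104 = n1463 := rfl
theorem F5294 : act 1 n1463 = n1114 := d0_2 D1104 D1463 (iv D1114) (iv D838) (iv F3109)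
theorem F5295 : act 2 n1463 = n1463 := d1_2 F4057 D1463 (iv D1463)
theorem F5296 : act 4 n1463 = n1106 := d3_2 (iv F4058) D1463 (iv D1106)
theorem F5297 : act 6 n1463 = n1463 := d5_2 F4059 D1463 (iv D1463)
def n1464 : Q := act 3 n1104
theorem D1464 : act 3 n1104 = n1464 := rfl
theorem F5298 : act 1 n1464 = n1105 := d8_1 D1464 (iv D1105) D1104
theorem F5299 : act 6 n1464 = n1464 := d20_2 F4059 D1464 (iv D1464)
def n1465 : Q := act 4 n1105
theorem D1465 : act 4 n1105 = n1465 := rfl
theorem F5300 : act 0 n1465 = n1116 := d3_1 D1465 (iv D1116) (iv F4060)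
theorem F5301 : act 3 n1465 = n1108 := d18_1 D1465 (iv D1108) (iv D834) (iv F3110) D1105
theorem F5302 : act 6 n1465 = n1465 := d23_2 F4061 D1465 (iv D1465)
def n1466 : Q := act 3 n1106
theorem D1466 : act 3 n1106 = n1466 := rfl
theorem F5304 : act 1 n1466 = n1117 := d8_1 D1466 (iv D1117) (iv F4062)
def n1467 : Q := act 2 n1107
theorem D1467 : act 2 n1107 = n1467 := rfl
def n1468 : Q := act 4 n1107
theorem D1468 : act 4 n1107 = n1468 := rfl
theorem F5310 : act 1 n1468 = n1108 := d9_1 D1468 (iv D1108) (iv F4066)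
def n1469 : Q := act 5 n1108
theorem D1469 : act 5 n1108 = n1469 := rfl
def n1473 : Q := act 0 n1112
theorem D1473 : act 0 n1112 = n1473 := rfl
theorem F5327 : act 4 n1473 = n1137 := d3_2 (iv F4082) D1473 (iv D1137)
theorem F5328 : act 5 n1473 = n1114 := d4_2 (iv F4083) D1473 (iv D1114)
def n1474 : Q := act 3 n1112
theorem D1474 : act 3 n1112 = n1474 := rfl
theorem F5330 : act 1 n1474 = n1113 := d8_1 D1474 (iv D1113) D1112
def n1475 : Q := act 4 n1113
theorem D1475 : act 4 n1113 = n1475 := rfl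
theorem F5333 : act 3 n1475 = n1139 := d18_1 D1475 (iv D1139) (iv D858) (iv F3125) D1113
def n1476 : Q := act 3 n1114
theorem D1476 : act 3 n1114 = n1476 := rfl
theorem F5335 : act 0 n1476 = n1115 := d2_1 D1476 (iv D1115) D1114
theorem F5336 : act 6 n1476 = n1476 := d20_2 F4089 D1476 (iv D1476)
def n1477 : Q := act 2 n1115
theorem D1477 : act 2 n1115 = n1477 := rfl
theorem F5337 : act 3 n1477 = n1124 := d13_2 D1115 D1477 (iv D1124) (iv D847) (iv F3128)
def n1478 : Q := act 4 n1115
theorem D1478 : act 4 n1115 = n1478 := rfl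
theorem F5338 : act 1 n1478 = n1116 := d9_1 D1478 (iv D1116) (iv F4090)
theorem F5339 : act 3 n1478 = n1118 := d18_1 D1478 (iv D1118) (iv D841) (iv F3129) D1115
theorem F5340 : act 6 n1478 = n1478 := d23_2 F4091 D1478 (iv D1478)
def n1479 : Q := act 5 n1116
theorem D1479 : act 5 n1116 = n1479 := rfl
theorem F5341 : act 3 n1479 = n1119 := d19_1 D1479 (iv D1119) (iv F4092)
def n1480 : Q := act 4 n1117
theorem D1480 : act 4 n1117 = n1480 := rfl
theorem F5343 : act 0 n1480 = n1118 := d3_1 D1480 (iv D1118) (iv F4094)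
def n1481 : Q := act 5 n1118
theorem D1481 : act 5 n1118 = n1481 := rfl
def n1482 : Q := act 3 n1120
theorem D1482 : act 3 n1120 = n1482 := rfl
theorem F5350 : act 0 n1482 = n1121 := d2_1 D1482 (iv D1121) D1120
def n1483 : Q := act 2 n1121
theorem D1483 : act 2 n1121 = n1483 := rfl
theorem F5354 : act 5 n1483 = n1124 := d15_2 (iv F4109) D1483 (iv D1124)
def n1484 : Q := act 4 n1121
theorem D1484 : act 4 n1121 = n1484 := rfl
theorem F5356 : act 3 n1484 = n1148 := d18_1 D1484 (iv D1148) (iv D866) (iv F3144) D1121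
theorem F5358 : act 6 n1484 = n1153 := d23_2 (iv F4110) D1484 (iv D1153)
def n1485 : Q := act 2 n1123
theorem D1485 : act 2 n1123 = n1485 := rfl
theorem F5359 : act 0 n1485 = n1124 := d1_1 D1485 (iv D1124) (iv F4115)
def n1486 : Q := act 6 n1124
theorem D1486 : act 6 n1124 = n1486 := rfl
theorem F5361 : act 2 n1486 = n1155 := d16_1 D1486 (iv D1155) (iv D874) (iv F3155) D1124
theorem F5362 : act 4 n1486 = n1486 := d23_1 D1486 (iv D1486) F4119
def n1487 : Q := act 0 n1125
theorem D1487 : act 0 n1125 = n1487 := rfl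
theorem F5363 : act 1 n1487 = n1137 := d0_2 D1125 D1487 (iv D1137) (iv D857) (iv F3156)
theorem F5365 : act 5 n1487 = n1127 := d4_2 (iv F4121) D1487 (iv D1127)
def n1488 : Q := act 3 n1125
theorem D1488 : act 3 n1125 = n1488 := rfl
theorem F5368 : act 5 n1488 = n1128 := d19_2 (iv F4121) D1488 (iv D1128)
def n1489 : Q := act 4 n1126
theorem D1489 : act 4 n1126 = n1489 := rfl
def n1490 : Q := act 3 n1127
theorem D1490 : act 3 n1127 = n1490 := rfl
theorem F5373 : act 0 n1490 = n1128 := d2_1 D1490 (iv D1128) D1127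
theorem F5374 : act 1 n1490 = n1140 := d8_1 D1490 (iv D1140) (iv F4127)
def n1491 : Q := act 2 n1128
theorem D1491 : act 2 n1128 = n1491 := rfl
def n1492 : Q := act 4 n1128
theorem D1492 : act 4 n1128 = n1492 := rfl
theorem F5379 : act 3 n1492 = n1132 := d18_1 D1492 (iv D1132) (iv D852) (iv F3160) D1128
def n1493 : Q := act 5 n1129
theorem D1493 : act 5 n1129 = n1493 := rfl
def n1494 : Q := act 2 n1130
theorem D1494 : act 2 n1130 = n1494 := rfl
def n1495 : Q := act 4 n1130
theorem D1495 : act 4 n1130 = n1495 := rfl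
theorem F5388 : act 0 n1495 = n1132 := d3_1 D1495 (iv D1132) (iv F4137)
theorem F5389 : act 1 n1495 = n1144 := d9_1 D1495 (iv D1144) (iv F4138)
def n1496 : Q := act 4 n1131
theorem D1496 : act 4 n1131 = n1496 := rfl
theorem F5391 : act 1 n1496 = n1134 := d9_1 D1496 (iv D1134) (iv F4140)
theorem F5392 : act 2 n1496 = n1132 := d14_1 D1496 (iv D1132) D1131
def n1498 : Q := act 5 n1132
theorem D1498 : act 5 n1132 = n1498 := rfl
def n1499 : Q := act 3 n1134
theorem D1499 : act 3 n1134 = n1499 := rfl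
def n1500 : Q := act 5 n1134
theorem D1500 : act 5 n1134 = n1500 := rfl
def n1503 : Q := act 3 n1137
theorem D1503 : act 3 n1137 = n1503 := rfl
def n1504 : Q := act 2 n1138
theorem D1504 : act 2 n1138 = n1504 := rfl
def n1505 : Q := act 4 n1138
theorem D1505 : act 4 n1138 = n1505 := rfl
def n1506 : Q := act 5 n1139
theorem D1506 : act 5 n1139 = n1506 := rfl
theorem F5418 : act 4 n1506 = n1143 := d22_1 D1506 (iv D1143) (iv D861) (iv F3186) D1139
def n1507 : Q := act 2 n1140
theorem D1507 : act 2 n1140 = n1507 := rfl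
theorem F5421 : act 3 n1507 = n1149 := d13_2 D1140 D1507 (iv D1149) (iv D868) (iv F3188)
def n1508 : Q := act 4 n1140
theorem D1508 : act 4 n1140 = n1508 := rfl
theorem F5423 : act 3 n1508 = n1144 := d18_1 D1508 (iv D1144) (iv D862) (iv F3189) D1140
theorem F5424 : act 6 n1508 = n1508 := d23_2 F4165 D1508 (iv D1508)
def n1510 : Q := act 6 n1141
theorem D1510 : act 6 n1141 = n1510 := rfl
def n1512 : Q := act 5 n1144
theorem D1512 : act 5 n1144 = n1512 := rfl
theorem F5434 : act 0 n1512 = n1145 := d4_1 D1512 (iv D1145) (iv F4174)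
def n1513 : Q := act 2 n1146
theorem D1513 : act 2 n1146 = n1513 := rfl
theorem F5437 : act 0 n1513 = n1147 := d1_1 D1513 (iv D1147) (iv F4180)
def n1514 : Q := act 4 n1146
theorem D1514 : act 4 n1146 = n1514 := rfl
theorem F5442 : act 6 n1514 = n1157 := d23_2 (iv F4183) D1514 (iv D1157)
def n1515 : Q := act 4 n1147
theorem D1515 : act 4 n1147 = n1515 := rfl
theorem F5444 : act 2 n1515 = n1148 := d14_1 D1515 (iv D1148) D1147
def n1516 : Q := act 6 n1147
theorem D1516 : act 6 n1147 = n1516 := rfl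
theorem F5447 : act 2 n1516 = n1159 := d16_1 D1516 (iv D1159) (iv D876) (iv F3209) D1147
def n1517 : Q := act 1 n1149
theorem D1517 : act 1 n1149 = n1517 := rfl
def n1518 : Q := act 6 n1149
theorem D1518 : act 6 n1149 = n1518 := rfl
theorem F5453 : act 2 n1518 = n1161 := d16_1 D1518 (iv D1161) (iv D878) (iv F3217) D1149
def n1519 : Q := act 7 n1150
theorem D1519 : act 7 n1150 = n1519 := rfl
def n1520 : Q := act 2 n1151
theorem D1520 : act 2 n1151 = n1520 := rfl
theorem F5458 : act 0 n1520 = n1152 := d1_1 D1520 (iv D1152) (iv F4194)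
theorem F5460 : act 5 n1520 = n1154 := d15_2 (iv F4196) D1520 (iv D1154)
def n1521 : Q := act 4 n1151
theorem D1521 : act 4 n1151 = n1521 := rfl
theorem F5464 : act 3 n1521 = n1157 := d18_1 D1521 (iv D1157) (iv D875) (iv F3222) D1151
def n1522 : Q := act 4 n1152
theorem D1522 : act 4 n1152 = n1522 := rfl
theorem F5467 : act 1 n1522 = n1522 := d9_1 D1522 (iv D1522) F4198
theorem F5468 : act 2 n1522 = n1153 := d14_1 D1522 (iv D1153) D1152
def n1523 : Q := act 6 n1152
theorem D1523 : act 6 n1152 = n1523 := rfl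
theorem F5471 : act 1 n1523 = n1523 := d11_1 D1523 (iv D1523) F4198
theorem F5472 : act 3 n1523 = n1523 := d20_1 D1523 (iv D1523) F4199
theorem F5473 : act 5 n1523 = n1155 := d25_1 D1523 (iv D1155) (iv F4200)
def n1524 : Q := act 1 n1154
theorem D1524 : act 1 n1154 = n1524 := rfl
theorem F5474 : act 0 n1524 = n1524 := d0_1 D1524 (iv D1524) F4206 F3237 (iv F4206)
theorem F5475 : act 2 n1524 = n1524 := d7_2 D1154 D1524 (iv D1524) (iv D1154) F3234
theorem F5476 : act 3 n1524 = n1524 := d8_2 F4207 D1524 (iv D1524)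
theorem F5477 : act 4 n1524 = n1524 := d9_2 F4208 D1524 (iv D1524)
theorem F5478 : act 7 n1524 = n1524 := d12_2 F4209 D1524 (iv D1524)
def n1525 : Q := act 6 n1154
theorem D1525 : act 6 n1154 = n1525 := rfl
theorem F5479 : act 0 n1525 = n1155 := d5_1 D1525 (iv D1155) (iv F4206)
theorem F5480 : act 3 n1525 = n1525 := d20_1 D1525 (iv D1525) F4207
theorem F5481 : act 4 n1525 = n1525 := d23_1 D1525 (iv D1525) F4208
def n1526 : Q := act 7 n1155
theorem D1526 : act 7 n1155 = n1526 := rfl
theorem F5482 : act 1 n1526 = n1526 := d12_1 D1526 (iv D1526) F4210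
theorem F5483 : act 3 n1526 = n1526 := d21_1 D1526 (iv D1526) F4211
theorem F5484 : act 4 n1526 = n1526 := d24_1 D1526 (iv D1526) F4212
theorem F5485 : act 6 n1526 = n1526 := d27_1 D1526 (iv D1526) (iv D1155) F3240 D1155
def n1527 : Q := act 1 n1156
theorem D1527 : act 1 n1156 = n1527 := rfl
theorem F5486 : act 0 n1527 = n1163 := d0_1 D1527 (iv D1163) F3259 (iv F3245) (iv F4213)
theorem F5489 : act 5 n1527 = n1160 := d10_2 (iv F4215) D1527 (iv D1160)
def n1528 : Q := act 4 n1156
theorem D1528 : act 4 n1156 = n1528 := rfl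
theorem F5491 : act 0 n1528 = n1158 := d3_1 D1528 (iv D1158) (iv F4213)
theorem F5492 : act 2 n1528 = n1157 := d14_1 D1528 (iv D1157) D1156
def n1529 : Q := act 6 n1156
theorem D1529 : act 6 n1156 = n1529 := rfl
def n1530 : Q := act 3 n1158
theorem D1530 : act 3 n1158 = n1530 := rfl
theorem F5498 : act 1 n1530 = n1166 := d8_1 D1530 (iv D1166) (iv F4221)
def n1531 : Q := act 6 n1158
theorem D1531 : act 6 n1158 = n1531 := rfl
theorem F5502 : act 1 n1531 = n1167 := d11_1 D1531 (iv D1167) (iv F4221)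
def n1532 : Q := act 7 n1159
theorem D1532 : act 7 n1159 = n1532 := rfl
theorem F5505 : act 1 n1532 = n1168 := d12_1 D1532 (iv D1168) (iv F4225)
def n1533 : Q := act 6 n1160
theorem D1533 : act 6 n1160 = n1533 := rfl
theorem F5509 : act 0 n1533 = n1169 := d5_1 D1533 (iv D1169) (iv F4228)
theorem F5510 : act 1 n1533 = n1161 := d11_1 D1533 (iv D1161) D1160
def n1534 : Q := act 7 n1161
theorem D1534 : act 7 n1161 = n1534 := rfl
theorem F5513 : act 0 n1534 = n1162 := d6_1 D1534 (iv D1162) (iv F4233)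
def n1535 : Q := act 4 n1163
theorem D1535 : act 4 n1163 = n1535 := rfl
theorem F5517 : act 1 n1535 = n1164 := d9_1 D1535 (iv D1164) D1163
def n1536 : Q := act 6 n1163
theorem D1536 : act 6 n1163 = n1536 := rfl
def n1537 : Q := act 3 n1164
theorem D1537 : act 3 n1164 = n1537 := rfl
theorem F5525 : act 2 n1537 = n1537 := d13_1 D1537 (iv D1537) F4245 F3265 (iv F4245)
def n1538 : Q := act 6 n1164
theorem D1538 : act 6 n1164 = n1538 := rfl
theorem F5529 : act 0 n1538 = n1167 := d5_1 D1538 (iv D1167) (iv F4244)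
def n1539 : Q := act 7 n1165
theorem D1539 : act 7 n1165 = n1539 := rfl
theorem F5533 : act 0 n1539 = n1168 := d6_1 D1539 (iv D1168) (iv F4248)
def n1540 : Q := act 6 n1166
theorem D1540 : act 6 n1166 = n1540 := rfl
theorem F5538 : act 3 n1540 = n1167 := d20_1 D1540 (iv D1167) D1166
def n1541 : Q := act 7 n1167
theorem D1541 : act 7 n1167 = n1541 := rfl
def n1543 : Q := act 7 n1169
theorem D1543 : act 7 n1169 = n1543 := rfl
def n1544 : Q := act 4 n1171
theorem D1544 : act 4 n1171 = n1544 := rfl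
theorem F5555 : act 6 n1544 = n1199 := d23_2 (iv F4274) D1544 (iv D1199)
def n1545 : Q := act 7 n1171
theorem D1545 : act 7 n1171 = n1545 := rfl
theorem F5556 : act 0 n1545 = n1545 := d6_1 D1545 (iv D1545) F4271
theorem F5557 : act 1 n1545 = n1545 := d12_1 D1545 (iv D1545) F4272
theorem F5558 : act 3 n1545 = n1172 := d21_1 D1545 (iv D1172) D1171
theorem F5559 : act 5 n1545 = n1545 := d26_1 D1545 (iv D1545) F4273
def n1546 : Q := act 6 n1172
theorem D1546 : act 6 n1172 = n1546 := rfl
def n1547 : Q := act 2 n1173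
theorem D1547 : act 2 n1173 = n1547 := rfl
def n1550 : Q := act 1 n1175
theorem D1550 : act 1 n1175 = n1550 := rfl
theorem F5579 : act 7 n1550 = n1176 := d12_2 (iv F4293) D1550 (iv D1176)
def n1551 : Q := act 3 n1175
theorem D1551 : act 3 n1175 = n1551 := rfl
theorem F5580 : act 0 n1551 = n1185 := d2_1 D1551 (iv D1185) (iv F4289)
theorem F5581 : act 5 n1551 = n1551 := d19_2 F4291 D1551 (iv D1551)
theorem F5582 : act 6 n1551 = n1551 := d20_2 F4292 D1551 (iv D1551)
theorem F5583 : act 7 n1551 = n1177 := d21_2 (iv F4293) D1551 (iv D1177)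
def n1553 : Q := act 3 n1176
theorem D1553 : act 3 n1176 = n1553 := rfl
theorem F5588 : act 1 n1553 = n1177 := d8_1 D1553 (iv D1177) D1176
def n1554 : Q := act 4 n1177
theorem D1554 : act 4 n1177 = n1554 := rfl
def n1562 : Q := act 0 n1184
theorem D1562 : act 0 n1184 = n1562 := rfl
theorem F5625 : act 7 n1562 = n1186 := d6_2 (iv F4328) D1562 (iv D1186)
def n1563 : Q := act 3 n1184
theorem D1563 : act 3 n1184 = n1563 := rfl
theorem F5626 : act 1 n1563 = n1185 := d8_1 D1563 (iv D1185) D1184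
theorem F5627 : act 5 n1563 = n1563 := d19_2 F4326 D1563 (iv D1563)
theorem F5628 : act 6 n1563 = n1563 := d20_2 F4327 D1563 (iv D1563)
theorem F5629 : act 7 n1563 = n1187 := d21_2 (iv F4328) D1563 (iv D1187)
def n1564 : Q := act 4 n1185
theorem D1564 : act 4 n1185 = n1564 := rfl
theorem F5630 : act 3 n1564 = n1564 := d18_1 D1564 (iv D1564) (iv D1185) F3323 D1185
theorem F5631 : act 6 n1564 = n1564 := d23_2 F4330 D1564 (iv D1564)
theorem F5632 : act 7 n1564 = n1188 := d24_2 (iv F4331) D1564 (iv D1188)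
def n1565 : Q := act 3 n1186
theorem D1565 : act 3 n1186 = n1565 := rfl
theorem F5633 : act 0 n1565 = n1187 := d2_1 D1565 (iv D1187) D1186
theorem F5635 : act 6 n1565 = n1189 := d20_2 (iv F4335) D1565 (iv D1189)
def n1566 : Q := act 2 n1187
theorem D1566 : act 2 n1187 = n1566 := rfl
theorem F5636 : act 3 n1566 = n1566 := d13_2 D1187 D1566 (iv D1566) (iv D1187) F3327
theorem F5637 : act 5 n1566 = n1566 := d15_2 F4337 D1566 (iv D1566)
theorem F5638 : act 6 n1566 = n1566 := d16_2 (iv F4338) D1566 (iv D1566) F4338 F3338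
def n1567 : Q := act 4 n1187
theorem D1567 : act 4 n1187 = n1567 := rfl
theorem F5639 : act 1 n1567 = n1188 := d9_1 D1567 (iv D1188) (iv F4336)
theorem F5640 : act 3 n1567 = n1567 := d18_1 D1567 (iv D1567) (iv D1187) F3328 D1187
theorem F5641 : act 6 n1567 = n1190 := d23_2 (iv F4338) D1567 (iv D1190)
def n1568 : Q := act 5 n1188
theorem D1568 : act 5 n1188 = n1568 := rfl
def n1569 : Q := act 4 n1189
theorem D1569 : act 4 n1189 = n1569 := rfl
theorem F5645 : act 0 n1569 = n1190 := d3_1 D1569 (iv D1190) (iv F4341)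
def n1579 : Q := act 5 n1199
theorem D1579 : act 5 n1199 = n1579 := rfl
def n1580 : Q := act 7 n1199
theorem D1580 : act 7 n1199 = n1580 := rfl
theorem F5696 : act 4 n1580 = n1200 := d24_1 D1580 (iv D1200) D1199
def n1622 : Q := act 3 n1234
theorem D1622 : act 3 n1234 = n1622 := rfl
theorem F5854 : act 0 n1622 = n1266 := d2_1 D1622 (iv D1266) (iv F4521)
theorem F5855 : act 1 n1622 = n1237 := d8_1 D1622 (iv D1237) (iv F4522)
def n1623 : Q := act 5 n1234
theorem D1623 : act 5 n1234 = n1623 := rfl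
theorem F5857 : act 0 n1623 = n1267 := d4_1 D1623 (iv D1267) (iv F4521)
theorem F5858 : act 1 n1623 = n1238 := d10_1 D1623 (iv D1238) (iv F4522)
def n1624 : Q := act 6 n1234
theorem D1624 : act 6 n1234 = n1624 := rfl
theorem F5861 : act 0 n1624 = n1268 := d5_1 D1624 (iv D1268) (iv F4521)
theorem F5862 : act 1 n1624 = n1239 := d11_1 D1624 (iv D1239) (iv F4522)
theorem F5863 : act 4 n1624 = n1235 := d23_1 D1624 (iv D1235) D1234
def n1625 : Q := act 7 n1234
theorem D1625 : act 7 n1234 = n1625 := rfl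
theorem F5864 : act 0 n1625 = n1269 := d6_1 D1625 (iv D1269) (iv F4521)
theorem F5865 : act 1 n1625 = n1240 := d12_1 D1625 (iv D1240) (iv F4522)
theorem F5866 : act 2 n1625 = n1625 := d17_1 D1625 (iv D1625) F4523
theorem F5867 : act 4 n1625 = n1236 := d24_1 D1625 (iv D1236) D1234
def n1626 : Q := act 2 n1235
theorem D1626 : act 2 n1235 = n1626 := rfl
theorem F5868 : act 0 n1626 = n1270 := d1_1 D1626 (iv D1270) (iv F4524)
def n1627 : Q := act 7 n1235
theorem D1627 : act 7 n1235 = n1627 := rfl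
theorem F5872 : act 0 n1627 = n1271 := d6_1 D1627 (iv D1271) (iv F4524)
theorem F5873 : act 1 n1627 = n1241 := d12_1 D1627 (iv D1241) (iv F4525)
theorem F5874 : act 3 n1627 = n1627 := d21_1 D1627 (iv D1627) F4526
theorem F5875 : act 5 n1627 = n1627 := d26_1 D1627 (iv D1627) F4527
def n1628 : Q := act 6 n1236
theorem D1628 : act 6 n1236 = n1628 := rfl
theorem F5876 : act 0 n1628 = n1272 := d5_1 D1628 (iv D1272) (iv F4528)
theorem F5877 : act 1 n1628 = n1242 := d11_1 D1628 (iv D1242) (iv F4529)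
theorem F5878 : act 3 n1628 = n1628 := d20_1 D1628 (iv D1628) F4531
theorem F5879 : act 5 n1628 = n1628 := d25_1 D1628 (iv D1628) F4532
def n1629 : Q := act 5 n1237
theorem D1629 : act 5 n1237 = n1629 := rfl
theorem F5880 : act 0 n1629 = n1248 := d4_1 D1629 (iv D1248) (iv F4533)
theorem F5882 : act 3 n1629 = n1238 := d19_1 D1629 (iv D1238) D1237
def n1630 : Q := act 6 n1237
theorem D1630 : act 6 n1237 = n1630 := rfl
theorem F5883 : act 0 n1630 = n1249 := d5_1 D1630 (iv D1249) (iv F4533)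
theorem F5884 : act 3 n1630 = n1239 := d20_1 D1630 (iv D1239) D1237
def n1631 : Q := act 7 n1237
theorem D1631 : act 7 n1237 = n1631 := rfl
theorem F5886 : act 0 n1631 = n1250 := d6_1 D1631 (iv D1250) (iv F4533)
theorem F5887 : act 2 n1631 = n1631 := d17_1 D1631 (iv D1631) F4534
theorem F5888 : act 3 n1631 = n1240 := d21_1 D1631 (iv D1240) D1237
theorem F5889 : act 4 n1631 = n1631 := d24_1 D1631 (iv D1631) F4535
def n1632 : Q := act 6 n1238
theorem D1632 : act 6 n1238 = n1632 := rfl
theorem F5890 : act 0 n1632 = n1251 := d5_1 D1632 (iv D1251) (iv F4536)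
theorem F5893 : act 5 n1632 = n1239 := d25_1 D1632 (iv D1239) D1238
def n1633 : Q := act 7 n1238
theorem D1633 : act 7 n1238 = n1633 := rfl
theorem F5894 : act 0 n1633 = n1252 := d6_1 D1633 (iv D1252) (iv F4536)
theorem F5895 : act 2 n1633 = n1243 := d17_1 D1633 (iv D1243) (iv F4537)
theorem F5896 : act 4 n1633 = n1633 := d24_1 D1633 (iv D1633) F4538
theorem F5897 : act 5 n1633 = n1240 := d26_1 D1633 (iv D1240) D1238
def n1634 : Q := act 7 n1239
theorem D1634 : act 7 n1239 = n1634 := rfl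
theorem F5898 : act 0 n1634 = n1253 := d6_1 D1634 (iv D1253) (iv F4539)
theorem F5899 : act 2 n1634 = n1634 := d17_1 D1634 (iv D1634) F4540
theorem F5900 : act 4 n1634 = n1241 := d24_1 D1634 (iv D1241) (iv F4541)
def n1635 : Q := act 6 n1240
theorem D1635 : act 6 n1240 = n1635 := rfl
theorem F5901 : act 0 n1635 = n1254 := d5_1 D1635 (iv D1254) (iv F4542)
theorem F5902 : act 4 n1635 = n1242 := d23_1 D1635 (iv D1242) (iv F4544)
def n1636 : Q := act 6 n1241
theorem D1636 : act 6 n1241 = n1636 := rfl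
theorem F5903 : act 0 n1636 = n1255 := d5_1 D1636 (iv D1255) (iv F4545)
theorem F5904 : act 3 n1636 = n1636 := d20_1 D1636 (iv D1636) F4547
theorem F5905 : act 5 n1636 = n1636 := d25_1 D1636 (iv D1636) F4548
theorem F5906 : act 7 n1636 = n1242 := d27_2 D1241 D1636 (iv D1242) (iv D940) D939
def n1637 : Q := act 2 n1242
theorem D1637 : act 2 n1242 = n1637 := rfl
theorem F5907 : act 0 n1637 = n1256 := d1_1 D1637 (iv D1256) (iv F4549)
theorem F5908 : act 5 n1637 = n1637 := d15_2 F4551 D1637 (iv D1637)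
theorem F5909 : act 6 n1637 = n1245 := d16_2 D1242 D1637 (iv D1245) (iv D943) (iv F3496)
def n1638 : Q := act 6 n1243
theorem D1638 : act 6 n1243 = n1638 := rfl
theorem F5910 : act 0 n1638 = n1257 := d5_1 D1638 (iv D1257) (iv F4552)
theorem F5911 : act 1 n1638 = n1638 := d11_1 D1638 (iv D1638) F4553
theorem F5912 : act 3 n1638 = n1638 := d20_1 D1638 (iv D1638) F4554
theorem F5913 : act 4 n1638 = n1638 := d23_1 D1638 (iv D1638) F4555
theorem F5914 : act 5 n1638 = n1244 := d25_1 D1638 (iv D1244) (iv F4556)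
theorem F5915 : act 7 n1638 = n1638 := d27_2 D1243 D1638 (iv D1638) (iv D1243) F3503
def n1639 : Q := act 2 n1244
theorem D1639 : act 2 n1244 = n1639 := rfl
theorem F5916 : act 0 n1639 = n1258 := d1_1 D1639 (iv D1258) (iv F4557)
theorem F5917 : act 4 n1639 = n1245 := d14_2 (iv F4560) D1639 (iv D1245)
theorem F5918 : act 7 n1639 = n1639 := d17_2 F4561 D1639 (iv D1639)
def n1640 : Q := act 1 n1245
theorem D1640 : act 1 n1245 = n1640 := rfl
theorem F5919 : act 2 n1640 = n1640 := d7_2 D1245 D1640 (iv D1640) (iv D1245) F3509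
theorem F5920 : act 5 n1640 = n1640 := d10_2 F4563 D1640 (iv D1640)
theorem F5921 : act 7 n1640 = n1640 := d12_2 F4564 D1640 (iv D1640)
def n1641 : Q := act 3 n1245
theorem D1641 : act 3 n1245 = n1641 := rfl
theorem F5922 : act 0 n1641 = n1260 := d2_1 D1641 (iv D1260) (iv F4562)
theorem F5923 : act 2 n1641 = n1247 := d13_1 D1641 (iv D1247) (iv D944) (iv F3510) D1245
theorem F5924 : act 5 n1641 = n1641 := d19_2 F4563 D1641 (iv D1641)
theorem F5925 : act 7 n1641 = n1641 := d21_2 F4564 D1641 (iv D1641)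
def n1642 : Q := act 3 n1246
theorem D1642 : act 3 n1246 = n1642 := rfl
theorem F5926 : act 0 n1642 = n1642 := d2_1 D1642 (iv D1642) F4565
theorem F5927 : act 1 n1642 = n1247 := d8_1 D1642 (iv D1247) D1246
theorem F5928 : act 5 n1642 = n1642 := d19_2 F4568 D1642 (iv D1642)
theorem F5929 : act 6 n1642 = n1642 := d20_2 F4569 D1642 (iv D1642)
theorem F5930 : act 7 n1642 = n1642 := d21_2 F4570 D1642 (iv D1642)
def n1643 : Q := act 4 n1247
theorem D1643 : act 4 n1247 = n1643 := rfl
theorem F5931 : act 0 n1643 = n1261 := d3_1 D1643 (iv D1261) (iv F4571)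
theorem F5932 : act 3 n1643 = n1643 := d18_1 D1643 (iv D1643) (iv D1247) F3514 D1247
theorem F5933 : act 6 n1643 = n1643 := d23_2 F4573 D1643 (iv D1643)
theorem F5934 : act 7 n1643 = n1643 := d24_2 F4574 D1643 (iv D1643)
def n1645 : Q := act 6 n1248
theorem D1645 : act 6 n1248 = n1645 := rfl
theorem F5941 : act 5 n1645 = n1249 := d25_1 D1645 (iv D1249) D1248
def n1646 : Q := act 7 n1248
theorem D1646 : act 7 n1248 = n1646 := rfl
theorem F5942 : act 1 n1646 = n1290 := d12_1 D1646 (iv D1290) (iv F4575)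
theorem F5944 : act 3 n1646 = n1252 := d21_1 D1646 (iv D1252) (iv F4577)
theorem F5945 : act 5 n1646 = n1250 := d26_1 D1646 (iv D1250) D1248
def n1647 : Q := act 2 n1249
theorem D1647 : act 2 n1249 = n1647 := rfl
theorem F5946 : act 1 n1647 = n1647 := d7_1 D1647 (iv D1647) F4578 F3617 (iv F4578)
theorem F5949 : act 6 n1647 = n1647 := d16_2 D1249 D1647 (iv D1647) (iv D1249) F3519
def n1648 : Q := act 7 n1249
theorem D1648 : act 7 n1249 = n1648 := rfl
theorem F5950 : act 1 n1648 = n1291 := d12_1 D1648 (iv D1291) (iv F4578)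
theorem F5951 : act 3 n1648 = n1253 := d21_1 D1648 (iv D1253) (iv F4579)
theorem F5952 : act 4 n1648 = n1648 := d24_1 D1648 (iv D1648) F4580
def n1649 : Q := act 6 n1250
theorem D1649 : act 6 n1250 = n1649 := rfl
theorem F5953 : act 1 n1649 = n1292 := d11_1 D1649 (iv D1292) (iv F4581)
theorem F5954 : act 3 n1649 = n1254 := d20_1 D1649 (iv D1254) (iv F4583)
theorem F5955 : act 4 n1649 = n1649 := d23_1 D1649 (iv D1649) F4584
def n1650 : Q := act 7 n1251
theorem D1650 : act 7 n1251 = n1650 := rfl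
theorem F5956 : act 1 n1650 = n1293 := d12_1 D1650 (iv D1293) (iv F4585)
theorem F5959 : act 5 n1650 = n1253 := d26_1 D1650 (iv D1253) (iv F4588)
def n1651 : Q := act 6 n1252
theorem D1651 : act 6 n1252 = n1651 := rfl
theorem F5960 : act 1 n1651 = n1294 := d11_1 D1651 (iv D1294) (iv F4589)
theorem F5961 : act 4 n1651 = n1651 := d23_1 D1651 (iv D1651) F4591
theorem F5962 : act 5 n1651 = n1254 := d25_1 D1651 (iv D1254) (iv F4592)
def n1652 : Q := act 6 n1253
theorem D1652 : act 6 n1253 = n1652 := rfl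
theorem F5963 : act 1 n1652 = n1295 := d11_1 D1652 (iv D1295) (iv F4593)
theorem F5964 : act 4 n1652 = n1255 := d23_1 D1652 (iv D1255) (iv F4595)
theorem F5965 : act 7 n1652 = n1254 := d27_2 D1253 D1652 (iv D1254) (iv D948) D947
def n1653 : Q := act 2 n1254
theorem D1653 : act 2 n1254 = n1653 := rfl
theorem F5966 : act 4 n1653 = n1256 := d14_2 (iv F4597) D1653 (iv D1256)
theorem F5967 : act 6 n1653 = n1258 := d16_2 D1254 D1653 (iv D1258) (iv D952) (iv F3528)
def n1654 : Q := act 2 n1255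
theorem D1654 : act 2 n1255 = n1654 := rfl
theorem F5968 : act 5 n1654 = n1654 := d15_2 F4600 D1654 (iv D1654)
theorem F5969 : act 6 n1654 = n1654 := d16_2 D1255 D1654 (iv D1654) (iv D1255) F3531
theorem F5970 : act 7 n1654 = n1256 := d17_2 (iv F4601) D1654 (iv D1256)
def n1655 : Q := act 1 n1256
theorem D1655 : act 1 n1256 = n1655 := rfl
theorem F5971 : act 2 n1655 = n1298 := d7_2 D1256 D1655 (iv D1298) (iv D980) (iv F3534)
theorem F5972 : act 5 n1655 = n1655 := d10_2 F4602 D1655 (iv D1655)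
theorem F5973 : act 6 n1655 = n1259 := d11_2 (iv F4603) D1655 (iv D1259)
def n1656 : Q := act 3 n1256
theorem D1656 : act 3 n1256 = n1656 := rfl
theorem F5974 : act 2 n1656 = n1656 := d13_1 D1656 (iv D1656) (iv D1256) F3535 D1256
theorem F5975 : act 5 n1656 = n1656 := d19_2 F4602 D1656 (iv D1656)
theorem F5976 : act 6 n1656 = n1260 := d20_2 (iv F4603) D1656 (iv D1260)
def n1657 : Q := act 2 n1257
theorem D1657 : act 2 n1257 = n1657 := rfl
theorem F5977 : act 4 n1657 = n1657 := d14_2 F4606 D1657 (iv D1657)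
theorem F5978 : act 5 n1657 = n1258 := d15_2 (iv F4607) D1657 (iv D1258)
theorem F5979 : act 7 n1657 = n1657 := d17_2 F4608 D1657 (iv D1657)
def n1658 : Q := act 1 n1258
theorem D1658 : act 1 n1258 = n1658 := rfl
theorem F5980 : act 2 n1658 = n1263 := d7_2 D1258 D1658 (iv D1263) (iv D956) (iv F3541)
theorem F5981 : act 4 n1658 = n1259 := d9_2 (iv F4609) D1658 (iv D1259)
theorem F5982 : act 7 n1658 = n1658 := d12_2 F4610 D1658 (iv D1658)
def n1659 : Q := act 3 n1258
theorem D1659 : act 3 n1258 = n1659 := rfl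
theorem F5983 : act 2 n1659 = n1659 := d13_1 D1659 (iv D1659) (iv D1258) F3542 D1258
theorem F5984 : act 7 n1659 = n1659 := d21_2 F4610 D1659 (iv D1659)
def n1660 : Q := act 0 n1259
theorem D1660 : act 0 n1259 = n1660 := rfl
theorem F5985 : act 2 n1660 = n1265 := d1_2 (iv F4611) D1660 (iv D1265)
theorem F5986 : act 5 n1660 = n1660 := d4_2 F4612 D1660 (iv D1660)
theorem F5987 : act 7 n1660 = n1660 := d6_2 F4613 D1660 (iv D1660)
def n1661 : Q := act 3 n1259
theorem D1661 : act 3 n1259 = n1661 := rfl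
theorem F5988 : act 1 n1661 = n1260 := d8_1 D1661 (iv D1260) D1259
theorem F5989 : act 2 n1661 = n1661 := d13_1 D1661 (iv D1661) F4611 F3560 (iv F4611)
theorem F5990 : act 5 n1661 = n1661 := d19_2 F4612 D1661 (iv D1661)
theorem F5991 : act 7 n1661 = n1661 := d21_2 F4613 D1661 (iv D1661)
def n1662 : Q := act 4 n1260
theorem D1662 : act 4 n1260 = n1662 := rfl
theorem F5992 : act 2 n1662 = n1261 := d14_1 D1662 (iv D1261) (iv F4614)
theorem F5993 : act 7 n1662 = n1662 := d24_2 F4616 D1662 (iv D1662)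
def n1663 : Q := act 5 n1261
theorem D1663 : act 5 n1261 = n1663 := rfl
theorem F5994 : act 1 n1663 = n1663 := d10_1 D1663 (iv D1663) F4617
theorem F5995 : act 3 n1663 = n1663 := d19_1 D1663 (iv D1663) F4618
theorem F5996 : act 4 n1663 = n1663 := d22_1 D1663 (iv D1663) (iv D1261) F3548 D1261
theorem F5997 : act 6 n1663 = n1663 := d25_2 F4619 D1663 (iv D1663)
theorem F5998 : act 7 n1663 = n1663 := d26_2 F4620 D1663 (iv D1663)
def n1664 : Q := act 1 n1262
theorem D1664 : act 1 n1262 = n1664 := rfl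
theorem F5999 : act 4 n1664 = n1664 := d9_2 F4622 D1664 (iv D1664)
theorem F6000 : act 5 n1664 = n1263 := d10_2 (iv F4623) D1664 (iv D1263)
theorem F6001 : act 6 n1664 = n1307 := d11_2 (iv F4624) D1664 (iv D1307)
theorem F6002 : act 7 n1664 = n1664 := d12_2 F4625 D1664 (iv D1664)
def n1665 : Q := act 3 n1262
theorem D1665 : act 3 n1262 = n1665 := rfl
theorem F6003 : act 0 n1665 = n1665 := d2_1 D1665 (iv D1665) F4621
theorem F6004 : act 2 n1665 = n1665 := d13_1 D1665 (iv D1665) (iv D1262) F3552 D1262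
theorem F6005 : act 5 n1665 = n1264 := d19_2 (iv F4623) D1665 (iv D1264)
theorem F6006 : act 6 n1665 = n1308 := d20_2 (iv F4624) D1665 (iv D1308)
theorem F6007 : act 7 n1665 = n1665 := d21_2 F4625 D1665 (iv D1665)
def n1666 : Q := act 0 n1263
theorem D1666 : act 0 n1263 = n1666 := rfl
theorem F6008 : act 1 n1666 = n1666 := d0_2 D1263 D1666 (iv D1666) (iv D1263) F3556
theorem F6009 : act 4 n1666 = n1265 := d3_2 (iv F4626) D1666 (iv D1265)
theorem F6010 : act 6 n1666 = n1309 := d5_2 (iv F4627) D1666 (iv D1309)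
theorem F6011 : act 7 n1666 = n1666 := d6_2 F4628 D1666 (iv D1666)
def n1667 : Q := act 3 n1263
theorem D1667 : act 3 n1263 = n1667 := rfl
theorem F6012 : act 1 n1667 = n1264 := d8_1 D1667 (iv D1264) D1263
theorem F6013 : act 4 n1667 = n1667 := d18_2 (iv F4626) D1667 (iv D1667) F4626 F3560
theorem F6014 : act 6 n1667 = n1310 := d20_2 (iv F4627) D1667 (iv D1310)
theorem F6015 : act 7 n1667 = n1667 := d21_2 F4628 D1667 (iv D1667)
def n1668 : Q := act 2 n1266
theorem D1668 : act 2 n1266 = n1668 := rfl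
theorem F6016 : act 1 n1668 = n1311 := d7_1 D1668 (iv D1311) F3669 (iv F3574) (iv F4639)
def n1669 : Q := act 5 n1266
theorem D1669 : act 5 n1266 = n1669 := rfl
theorem F6019 : act 1 n1669 = n1273 := d10_1 D1669 (iv D1273) (iv F4639)
theorem F6020 : act 3 n1669 = n1267 := d19_1 D1669 (iv D1267) D1266
def n1670 : Q := act 6 n1266
theorem D1670 : act 6 n1266 = n1670 := rfl
theorem F6021 : act 1 n1670 = n1274 := d11_1 D1670 (iv D1274) (iv F4639)
theorem F6022 : act 3 n1670 = n1268 := d20_1 D1670 (iv D1268) D1266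
def n1671 : Q := act 7 n1266
theorem D1671 : act 7 n1266 = n1671 := rfl
theorem F6024 : act 1 n1671 = n1275 := d12_1 D1671 (iv D1275) (iv F4639)
theorem F6025 : act 3 n1671 = n1269 := d21_1 D1671 (iv D1269) D1266
theorem F6026 : act 4 n1671 = n1671 := d24_1 D1671 (iv D1671) F4640
def n1672 : Q := act 6 n1267
theorem D1672 : act 6 n1267 = n1672 := rfl
theorem F6027 : act 1 n1672 = n1276 := d11_1 D1672 (iv D1276) (iv F4641)
theorem F6029 : act 5 n1672 = n1268 := d25_1 D1672 (iv D1268) D1267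
def n1673 : Q := act 7 n1267
theorem D1673 : act 7 n1267 = n1673 := rfl
theorem F6030 : act 1 n1673 = n1277 := d12_1 D1673 (iv D1277) (iv F4641)
theorem F6031 : act 2 n1673 = n1673 := d17_1 D1673 (iv D1673) F4642
theorem F6032 : act 4 n1673 = n1673 := d24_1 D1673 (iv D1673) F4643
theorem F6033 : act 5 n1673 = n1269 := d26_1 D1673 (iv D1269) D1267
def n1674 : Q := act 2 n1268
theorem D1674 : act 2 n1268 = n1674 := rfl
theorem F6034 : act 1 n1674 = n1415 := d7_1 D1674 (iv D1415) F3943 (iv F3580) (iv F4644)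
theorem F6035 : act 4 n1674 = n1270 := d14_2 (iv F4645) D1674 (iv D1270)
def n1675 : Q := act 7 n1268
theorem D1675 : act 7 n1268 = n1675 := rfl
theorem F6037 : act 1 n1675 = n1278 := d12_1 D1675 (iv D1278) (iv F4644)
theorem F6038 : act 4 n1675 = n1271 := d24_1 D1675 (iv D1271) (iv F4645)
def n1676 : Q := act 6 n1269
theorem D1676 : act 6 n1269 = n1676 := rfl
theorem F6039 : act 1 n1676 = n1279 := d11_1 D1676 (iv D1279) (iv F4646)
theorem F6040 : act 4 n1676 = n1272 := d23_1 D1676 (iv D1272) (iv F4648)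
def n1677 : Q := act 3 n1270
theorem D1677 : act 3 n1270 = n1677 := rfl
def n1678 : Q := act 7 n1270
theorem D1678 : act 7 n1270 = n1678 := rfl
theorem F6045 : act 1 n1678 = n1419 := d12_1 D1678 (iv D1419) (iv F4649)
theorem F6046 : act 2 n1678 = n1271 := d17_1 D1678 (iv D1271) D1270
theorem F6047 : act 5 n1678 = n1678 := d26_1 D1678 (iv D1678) F4650
def n1679 : Q := act 6 n1271
theorem D1679 : act 6 n1271 = n1679 := rfl
theorem F6048 : act 1 n1679 = n1280 := d11_1 D1679 (iv D1280) (iv F4652)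
theorem F6049 : act 3 n1679 = n1679 := d20_1 D1679 (iv D1679) F4653
theorem F6050 : act 5 n1679 = n1679 := d25_1 D1679 (iv D1679) F4654
theorem F6051 : act 7 n1679 = n1272 := d27_2 D1271 D1679 (iv D1272) (iv D960) D959
def n1680 : Q := act 2 n1272
theorem D1680 : act 2 n1272 = n1680 := rfl
theorem F6052 : act 5 n1680 = n1680 := d15_2 F4657 D1680 (iv D1680)
theorem F6053 : act 6 n1680 = n1680 := d16_2 D1272 D1680 (iv D1680) (iv D1272) F3570
def n1681 : Q := act 4 n1273
theorem D1681 : act 4 n1273 = n1681 := rfl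
theorem F6054 : act 0 n1681 = n1288 := d3_1 D1681 (iv D1288) (iv F4658)
theorem F6055 : act 2 n1681 = n1317 := d14_1 D1681 (iv D1317) (iv F4659)
def n1682 : Q := act 6 n1273
theorem D1682 : act 6 n1273 = n1682 := rfl
theorem F6058 : act 0 n1682 = n1289 := d5_1 D1682 (iv D1289) (iv F4658)
theorem F6060 : act 3 n1682 = n1276 := d20_1 D1682 (iv D1276) (iv F4660)
def n1683 : Q := act 7 n1273
theorem D1683 : act 7 n1273 = n1683 := rfl
theorem F6062 : act 0 n1683 = n1290 := d6_1 D1683 (iv D1290) (iv F4658)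
theorem F6063 : act 2 n1683 = n1318 := d17_1 D1683 (iv D1318) (iv F4659)
theorem F6064 : act 3 n1683 = n1277 := d21_1 D1683 (iv D1277) (iv F4660)
theorem F6065 : act 5 n1683 = n1275 := d26_1 D1683 (iv D1275) D1273
def n1684 : Q := act 7 n1274
theorem D1684 : act 7 n1274 = n1684 := rfl
theorem F6066 : act 0 n1684 = n1291 := d6_1 D1684 (iv D1291) (iv F4661)
theorem F6068 : act 3 n1684 = n1278 := d21_1 D1684 (iv D1278) (iv F4663)
def n1685 : Q := act 6 n1275
theorem D1685 : act 6 n1275 = n1685 := rfl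
theorem F6070 : act 0 n1685 = n1292 := d5_1 D1685 (iv D1292) (iv F4665)
theorem F6071 : act 3 n1685 = n1279 := d20_1 D1685 (iv D1279) (iv F4667)
theorem F6072 : act 4 n1685 = n1685 := d23_1 D1685 (iv D1685) F4668
def n1686 : Q := act 7 n1276
theorem D1686 : act 7 n1276 = n1686 := rfl
theorem F6073 : act 0 n1686 = n1293 := d6_1 D1686 (iv D1293) (iv F4669)
theorem F6074 : act 2 n1686 = n1422 := d17_1 D1686 (iv D1422) (iv F4670)
theorem F6076 : act 5 n1686 = n1278 := d26_1 D1686 (iv D1278) (iv F4672)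
def n1687 : Q := act 6 n1277
theorem D1687 : act 6 n1277 = n1687 := rfl
theorem F6077 : act 0 n1687 = n1294 := d5_1 D1687 (iv D1294) (iv F4673)
theorem F6078 : act 4 n1687 = n1687 := d23_1 D1687 (iv D1687) F4675
theorem F6079 : act 5 n1687 = n1279 := d25_1 D1687 (iv D1279) (iv F4676)
def n1688 : Q := act 6 n1278
theorem D1688 : act 6 n1278 = n1688 := rfl
theorem F6080 : act 0 n1688 = n1295 := d5_1 D1688 (iv D1295) (iv F4677)
theorem F6081 : act 4 n1688 = n1280 := d23_1 D1688 (iv D1280) (iv F4679)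
theorem F6082 : act 7 n1688 = n1279 := d27_2 D1278 D1688 (iv D1279) (iv D964) D963
def n1689 : Q := act 2 n1279
theorem D1689 : act 2 n1279 = n1689 := rfl
theorem F6083 : act 0 n1689 = n1296 := d1_1 D1689 (iv D1296) (iv F4680)
theorem F6084 : act 4 n1689 = n1281 := d14_2 (iv F4681) D1689 (iv D1281)
theorem F6085 : act 6 n1689 = n1283 := d16_2 D1279 D1689 (iv D1283) (iv D968) (iv F3583)
def n1690 : Q := act 2 n1280
theorem D1690 : act 2 n1280 = n1690 := rfl
theorem F6086 : act 0 n1690 = n1297 := d1_1 D1690 (iv D1297) (iv F4682)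
theorem F6087 : act 5 n1690 = n1690 := d15_2 F4684 D1690 (iv D1690)
theorem F6088 : act 6 n1690 = n1426 := d16_2 D1280 D1690 (iv D1426) (iv D1077) (iv F3586)
theorem F6089 : act 7 n1690 = n1281 := d17_2 (iv F4685) D1690 (iv D1281)
def n1691 : Q := act 1 n1281
theorem D1691 : act 1 n1281 = n1691 := rfl
theorem F6090 : act 5 n1691 = n1691 := d10_2 F4687 D1691 (iv D1691)
theorem F6091 : act 6 n1691 = n1284 := d11_2 (iv F4688) D1691 (iv D1284)
def n1692 : Q := act 3 n1281
theorem D1692 : act 3 n1281 = n1692 := rfl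
theorem F6092 : act 0 n1692 = n1299 := d2_1 D1692 (iv D1299) (iv F4686)
theorem F6093 : act 2 n1692 = n1692 := d13_1 D1692 (iv D1692) (iv D1281) F3590 D1281
theorem F6094 : act 5 n1692 = n1692 := d19_2 F4687 D1692 (iv D1692)
theorem F6095 : act 6 n1692 = n1285 := d20_2 (iv F4688) D1692 (iv D1285)
def n1693 : Q := act 2 n1282
theorem D1693 : act 2 n1282 = n1693 := rfl
theorem F6096 : act 0 n1693 = n1300 := d1_1 D1693 (iv D1300) (iv F4689)
theorem F6097 : act 4 n1693 = n1693 := d14_2 F4692 D1693 (iv D1693)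
theorem F6098 : act 5 n1693 = n1283 := d15_2 (iv F4693) D1693 (iv D1283)
theorem F6099 : act 7 n1693 = n1429 := d17_2 (iv F4694) D1693 (iv D1429)
def n1694 : Q := act 1 n1283
theorem D1694 : act 1 n1283 = n1694 := rfl
theorem F6100 : act 2 n1694 = n1694 := d7_2 D1283 D1694 (iv D1694) (iv D1283) F3598
theorem F6101 : act 4 n1694 = n1284 := d9_2 (iv F4696) D1694 (iv D1284)
theorem F6102 : act 7 n1694 = n1430 := d12_2 (iv F4697) D1694 (iv D1430)
def n1695 : Q := act 3 n1283
theorem D1695 : act 3 n1283 = n1695 := rfl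
theorem F6103 : act 0 n1695 = n1302 := d2_1 D1695 (iv D1302) (iv F4695)
theorem F6104 : act 2 n1695 = n1326 := d13_1 D1695 (iv D1326) (iv D1000) (iv F3599) D1283
theorem F6105 : act 7 n1695 = n1431 := d21_2 (iv F4697) D1695 (iv D1431)
def n1696 : Q := act 0 n1284
theorem D1696 : act 0 n1284 = n1696 := rfl
theorem F6106 : act 1 n1696 = n1303 := d0_2 D1284 D1696 (iv D1303) (iv D983) (iv F3602)
theorem F6107 : act 2 n1696 = n1696 := d1_2 F4698 D1696 (iv D1696)
theorem F6108 : act 5 n1696 = n1696 := d4_2 F4699 D1696 (iv D1696)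
theorem F6109 : act 7 n1696 = n1432 := d6_2 (iv F4700) D1696 (iv D1432)
def n1697 : Q := act 3 n1284
theorem D1697 : act 3 n1284 = n1697 := rfl
theorem F6110 : act 1 n1697 = n1285 := d8_1 D1697 (iv D1285) D1284
theorem F6111 : act 5 n1697 = n1697 := d19_2 F4699 D1697 (iv D1697)
theorem F6112 : act 7 n1697 = n1433 := d21_2 (iv F4700) D1697 (iv D1433)
def n1698 : Q := act 4 n1285
theorem D1698 : act 4 n1285 = n1698 := rfl
theorem F6113 : act 0 n1698 = n1305 := d3_1 D1698 (iv D1305) (iv F4701)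
theorem F6114 : act 2 n1698 = n1287 := d14_1 D1698 (iv D1287) (iv F4702)
theorem F6115 : act 7 n1698 = n1434 := d24_2 (iv F4704) D1698 (iv D1434)
def n1699 : Q := act 2 n1286
theorem D1699 : act 2 n1286 = n1699 := rfl
theorem F6116 : act 0 n1699 = n1699 := d1_1 D1699 (iv D1699) F4705
theorem F6117 : act 3 n1699 = n1699 := d13_2 D1286 D1699 (iv D1699) (iv D1286) F3606
theorem F6118 : act 5 n1699 = n1699 := d15_2 F4707 D1699 (iv D1699)
theorem F6119 : act 7 n1699 = n1435 := d17_2 (iv F4709) D1699 (iv D1435)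
def n1700 : Q := act 4 n1286
theorem D1700 : act 4 n1286 = n1700 := rfl
theorem F6121 : act 1 n1700 = n1287 := d9_1 D1700 (iv D1287) (iv F4706)
theorem F6122 : act 3 n1700 = n1331 := d18_1 D1700 (iv D1331) (iv D1003) (iv F3607) D1286
theorem F6124 : act 7 n1700 = n1436 := d24_2 (iv F4709) D1700 (iv D1436)
def n1702 : Q := act 6 n1288
theorem D1702 : act 6 n1288 = n1702 := rfl
def n1703 : Q := act 7 n1288
theorem D1703 : act 7 n1288 = n1703 := rfl
theorem F6134 : act 2 n1703 = n1333 := d17_1 D1703 (iv D1333) (iv F4714)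
theorem F6136 : act 4 n1703 = n1290 := d24_1 D1703 (iv D1290) D1288
def n1704 : Q := act 7 n1289
theorem D1704 : act 7 n1289 = n1704 := rfl
theorem F6139 : act 3 n1704 = n1293 := d21_1 D1704 (iv D1293) (iv F4718)
theorem F6140 : act 5 n1704 = n1291 := d26_1 D1704 (iv D1291) (iv F4719)
def n1705 : Q := act 6 n1290
theorem D1705 : act 6 n1290 = n1705 := rfl
theorem F6141 : act 3 n1705 = n1294 := d20_1 D1705 (iv D1294) (iv F4721)
theorem F6142 : act 5 n1705 = n1292 := d25_1 D1705 (iv D1292) (iv F4722)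
def n1706 : Q := act 6 n1291
theorem D1706 : act 6 n1291 = n1706 := rfl
theorem F6143 : act 3 n1706 = n1295 := d20_1 D1706 (iv D1295) (iv F4724)
theorem F6144 : act 4 n1706 = n1706 := d23_1 D1706 (iv D1706) F4725
theorem F6145 : act 7 n1706 = n1292 := d27_2 D1291 D1706 (iv D1292) (iv D974) D973
def n1707 : Q := act 2 n1292
theorem D1707 : act 2 n1292 = n1707 := rfl
theorem F6146 : act 4 n1707 = n1707 := d14_2 F4727 D1707 (iv D1707)
theorem F6147 : act 6 n1707 = n1335 := d16_2 D1292 D1707 (iv D1335) (iv D1007) (iv F3620)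
def n1708 : Q := act 6 n1293
theorem D1708 : act 6 n1293 = n1708 := rfl
theorem F6148 : act 4 n1708 = n1708 := d23_1 D1708 (iv D1708) F4729
theorem F6149 : act 5 n1708 = n1295 := d25_1 D1708 (iv D1295) (iv F4730)
theorem F6150 : act 7 n1708 = n1294 := d27_2 D1293 D1708 (iv D1294) (iv D976) D975
def n1709 : Q := act 2 n1294
theorem D1709 : act 2 n1294 = n1709 := rfl
theorem F6151 : act 4 n1709 = n1709 := d14_2 F4731 D1709 (iv D1709)
theorem F6152 : act 5 n1709 = n1296 := d15_2 (iv F4732) D1709 (iv D1296)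
theorem F6153 : act 6 n1709 = n1300 := d16_2 D1294 D1709 (iv D1300) (iv D981) (iv F3626)
def n1710 : Q := act 2 n1295
theorem D1710 : act 2 n1295 = n1710 := rfl
theorem F6154 : act 4 n1710 = n1297 := d14_2 (iv F4733) D1710 (iv D1297)
theorem F6155 : act 6 n1710 = n1440 := d16_2 D1295 D1710 (iv D1440) (iv D1087) (iv F3629)
theorem F6156 : act 7 n1710 = n1296 := d17_2 (iv F4734) D1710 (iv D1296)
def n1711 : Q := act 1 n1296
theorem D1711 : act 1 n1296 = n1711 := rfl
theorem F6157 : act 4 n1711 = n1298 := d9_2 (iv F4735) D1711 (iv D1298)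
theorem F6158 : act 6 n1711 = n1301 := d11_2 (iv F4736) D1711 (iv D1301)
def n1712 : Q := act 3 n1296
theorem D1712 : act 3 n1296 = n1712 := rfl
theorem F6159 : act 6 n1712 = n1302 := d20_2 (iv F4736) D1712 (iv D1302)
def n1713 : Q := act 1 n1297
theorem D1713 : act 1 n1297 = n1713 := rfl
theorem F6160 : act 5 n1713 = n1713 := d10_2 F4737 D1713 (iv D1713)
theorem F6161 : act 6 n1713 = n1443 := d11_2 (iv F4738) D1713 (iv D1443)
theorem F6162 : act 7 n1713 = n1298 := d12_2 (iv F4739) D1713 (iv D1298)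
def n1714 : Q := act 3 n1297
theorem D1714 : act 3 n1297 = n1714 := rfl
theorem F6163 : act 2 n1714 = n1714 := d13_1 D1714 (iv D1714) (iv D1297) F3632 D1297
theorem F6164 : act 5 n1714 = n1714 := d19_2 F4737 D1714 (iv D1714)
theorem F6165 : act 6 n1714 = n1444 := d20_2 (iv F4738) D1714 (iv D1444)
theorem F6166 : act 7 n1714 = n1299 := d21_2 (iv F4739) D1714 (iv D1299)
def n1715 : Q := act 0 n1298
theorem D1715 : act 0 n1298 = n1715 := rfl
theorem F6167 : act 5 n1715 = n1715 := d4_2 F4740 D1715 (iv D1715)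
theorem F6168 : act 6 n1715 = n1303 := d5_2 (iv F4741) D1715 (iv D1303)
def n1716 : Q := act 3 n1298
theorem D1716 : act 3 n1298 = n1716 := rfl
theorem F6169 : act 1 n1716 = n1299 := d8_1 D1716 (iv D1299) D1298
theorem F6170 : act 5 n1716 = n1716 := d19_2 F4740 D1716 (iv D1716)
theorem F6171 : act 6 n1716 = n1304 := d20_2 (iv F4741) D1716 (iv D1304)
def n1717 : Q := act 4 n1299
theorem D1717 : act 4 n1299 = n1717 := rfl
theorem F6172 : act 2 n1717 = n1717 := d14_1 D1717 (iv D1717) F4742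
theorem F6173 : act 6 n1717 = n1305 := d23_2 (iv F4744) D1717 (iv D1305)
def n1718 : Q := act 1 n1300
theorem D1718 : act 1 n1300 = n1718 := rfl
theorem F6174 : act 2 n1718 = n1307 := d7_2 D1300 D1718 (iv D1307) (iv D986) (iv F3637)
theorem F6175 : act 4 n1718 = n1718 := d9_2 F4745 D1718 (iv D1718)
theorem F6176 : act 5 n1718 = n1301 := d10_2 (iv F4746) D1718 (iv D1301)
theorem F6177 : act 7 n1718 = n1448 := d12_2 (iv F4747) D1718 (iv D1448)
def n1719 : Q := act 3 n1300
theorem D1719 : act 3 n1300 = n1719 := rfl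
theorem F6178 : act 2 n1719 = n1343 := d13_1 D1719 (iv D1343) (iv D1012) (iv F3638) D1300
theorem F6179 : act 5 n1719 = n1302 := d19_2 (iv F4746) D1719 (iv D1302)
theorem F6180 : act 7 n1719 = n1449 := d21_2 (iv F4747) D1719 (iv D1449)
def n1720 : Q := act 0 n1301
theorem D1720 : act 0 n1301 = n1720 := rfl
theorem F6181 : act 2 n1720 = n1309 := d1_2 (iv F4748) D1720 (iv D1309)
theorem F6182 : act 4 n1720 = n1303 := d3_2 (iv F4749) D1720 (iv D1303)
theorem F6183 : act 7 n1720 = n1450 := d6_2 (iv F4750) D1720 (iv D1450)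
def n1721 : Q := act 3 n1301
theorem D1721 : act 3 n1301 = n1721 := rfl
theorem F6184 : act 1 n1721 = n1302 := d8_1 D1721 (iv D1302) D1301
theorem F6185 : act 7 n1721 = n1451 := d21_2 (iv F4750) D1721 (iv D1451)
def n1722 : Q := act 4 n1302
theorem D1722 : act 4 n1302 = n1722 := rfl
theorem F6186 : act 2 n1722 = n1346 := d14_1 D1722 (iv D1346) (iv F4751)
theorem F6187 : act 3 n1722 = n1305 := d18_1 D1722 (iv D1305) (iv D984) (iv F3642) D1302
theorem F6188 : act 7 n1722 = n1452 := d24_2 (iv F4752) D1722 (iv D1452)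
def n1723 : Q := act 3 n1303
theorem D1723 : act 3 n1303 = n1723 := rfl
theorem F6189 : act 0 n1723 = n1304 := d2_1 D1723 (iv D1304) D1303
theorem F6190 : act 2 n1723 = n1723 := d13_1 D1723 (iv D1723) F4753 F3665 (iv F4753)
theorem F6191 : act 5 n1723 = n1723 := d19_2 F4754 D1723 (iv D1723)
theorem F6192 : act 7 n1723 = n1453 := d21_2 (iv F4755) D1723 (iv D1453)
def n1724 : Q := act 4 n1304
theorem D1724 : act 4 n1304 = n1724 := rfl
theorem F6193 : act 1 n1724 = n1305 := d9_1 D1724 (iv D1305) (iv F4756)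
theorem F6194 : act 2 n1724 = n1724 := d14_1 D1724 (iv D1724) F4757
theorem F6195 : act 7 n1724 = n1454 := d24_2 (iv F4759) D1724 (iv D1454)
def n1725 : Q := act 5 n1305
theorem D1725 : act 5 n1305 = n1725 := rfl
theorem F6196 : act 2 n1725 = n1306 := d15_1 D1725 (iv D1306) (iv F4760)
theorem F6197 : act 4 n1725 = n1725 := d22_1 D1725 (iv D1725) (iv D1305) F3648 D1305
theorem F6198 : act 7 n1725 = n1455 := d26_2 (iv F4761) D1725 (iv D1455)
def n1726 : Q := act 0 n1307
theorem D1726 : act 0 n1307 = n1726 := rfl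
theorem F6199 : act 1 n1726 = n1726 := d0_2 D1307 D1726 (iv D1726) (iv D1307) F3654
theorem F6200 : act 4 n1726 = n1726 := d3_2 F4767 D1726 (iv D1726)
theorem F6201 : act 5 n1726 = n1309 := d4_2 (iv F4768) D1726 (iv D1309)
theorem F6202 : act 7 n1726 = n1456 := d6_2 (iv F4769) D1726 (iv D1456)
def n1727 : Q := act 3 n1307
theorem D1727 : act 3 n1307 = n1727 := rfl
theorem F6203 : act 1 n1727 = n1308 := d8_1 D1727 (iv D1308) D1307
theorem F6204 : act 5 n1727 = n1310 := d19_2 (iv F4768) D1727 (iv D1310)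
theorem F6205 : act 7 n1727 = n1457 := d21_2 (iv F4769) D1727 (iv D1457)
def n1728 : Q := act 4 n1308
theorem D1728 : act 4 n1308 = n1728 := rfl
theorem F6210 : act 7 n1728 = n1458 := d24_2 (iv F4773) D1728 (iv D1458)
def n1729 : Q := act 3 n1309
theorem D1729 : act 3 n1309 = n1729 := rfl
theorem F6211 : act 0 n1729 = n1310 := d2_1 D1729 (iv D1310) D1309
theorem F6212 : act 1 n1729 = n1729 := d8_1 D1729 (iv D1729) F4774
theorem F6213 : act 4 n1729 = n1729 := d18_2 (iv F4775) D1729 (iv D1729) F4775 F3665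
theorem F6214 : act 7 n1729 = n1459 := d21_2 (iv F4776) D1729 (iv D1459)
def n1730 : Q := act 2 n1310
theorem D1730 : act 2 n1310 = n1730 := rfl
theorem F6215 : act 1 n1730 = n1354 := d7_1 D1730 (iv D1354) F3784 (iv F3661) (iv F4777)
theorem F6216 : act 4 n1730 = n1730 := d14_2 F4778 D1730 (iv D1730)
theorem F6217 : act 7 n1730 = n1460 := d17_2 (iv F4779) D1730 (iv D1460)
def n1731 : Q := act 5 n1311
theorem D1731 : act 5 n1311 = n1731 := rfl
theorem F6219 : act 2 n1731 = n1312 := d15_1 D1731 (iv D1312) D1311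
def n1733 : Q := act 7 n1311
theorem D1733 : act 7 n1311 = n1733 := rfl
theorem F6225 : act 0 n1733 = n1733 := d6_1 D1733 (iv D1733) F4780
theorem F6226 : act 2 n1733 = n1313 := d17_1 D1733 (iv D1313) D1311
theorem F6227 : act 3 n1733 = n1733 := d21_1 D1733 (iv D1733) F4781
theorem F6228 : act 4 n1733 = n1733 := d24_1 D1733 (iv D1733) F4782
def n1734 : Q := act 4 n1312
theorem D1734 : act 4 n1312 = n1734 := rfl
theorem F6230 : act 1 n1734 = n1317 := d9_1 D1734 (iv D1317) (iv F4784)
def n1735 : Q := act 7 n1312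
theorem D1735 : act 7 n1312 = n1735 := rfl
theorem F6234 : act 0 n1735 = n1735 := d6_1 D1735 (iv D1735) F4783
theorem F6235 : act 1 n1735 = n1318 := d12_1 D1735 (iv D1318) (iv F4784)
theorem F6236 : act 3 n1735 = n1314 := d21_1 D1735 (iv D1314) (iv F4785)
theorem F6237 : act 5 n1735 = n1313 := d26_1 D1735 (iv D1313) D1312
def n1736 : Q := act 6 n1313
theorem D1736 : act 6 n1313 = n1736 := rfl
theorem F6238 : act 0 n1736 = n1736 := d5_1 D1736 (iv D1736) F4787
theorem F6239 : act 1 n1736 = n1319 := d11_1 D1736 (iv D1319) (iv F4788)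
theorem F6240 : act 3 n1736 = n1315 := d20_1 D1736 (iv D1315) (iv F4789)
theorem F6241 : act 4 n1736 = n1736 := d23_1 D1736 (iv D1736) F4790
theorem F6242 : act 7 n1736 = n1736 := d27_2 D1313 D1736 (iv D1736) (iv D1313) F3671
def n1737 : Q := act 6 n1314
theorem D1737 : act 6 n1314 = n1737 := rfl
theorem F6243 : act 0 n1737 = n1737 := d5_1 D1737 (iv D1737) F4791
theorem F6244 : act 1 n1737 = n1320 := d11_1 D1737 (iv D1320) (iv F4792)
theorem F6245 : act 4 n1737 = n1361 := d23_1 D1737 (iv D1361) (iv F4794)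
theorem F6246 : act 5 n1737 = n1315 := d25_1 D1737 (iv D1315) (iv F4795)
theorem F6247 : act 7 n1737 = n1737 := d27_2 D1314 D1737 (iv D1737) (iv D1314) F3676
def n1738 : Q := act 2 n1315
theorem D1738 : act 2 n1315 = n1738 := rfl
theorem F6248 : act 0 n1738 = n1738 := d1_1 D1738 (iv D1738) F4796
theorem F6249 : act 4 n1738 = n1316 := d14_2 (iv F4798) D1738 (iv D1316)
theorem F6250 : act 6 n1738 = n1738 := d16_2 D1315 D1738 (iv D1738) (iv D1315) F3679
theorem F6251 : act 7 n1738 = n1738 := d17_2 F4799 D1738 (iv D1738)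
def n1739 : Q := act 1 n1316
theorem D1739 : act 1 n1316 = n1739 := rfl
theorem F6252 : act 2 n1739 = n1322 := d7_2 D1316 D1739 (iv D1322) (iv D998) (iv F3682)
theorem F6253 : act 5 n1739 = n1363 := d10_2 (iv F4801) D1739 (iv D1363)
theorem F6254 : act 6 n1739 = n1739 := d11_2 F4802 D1739 (iv D1739)
theorem F6255 : act 7 n1739 = n1739 := d12_2 F4803 D1739 (iv D1739)
def n1740 : Q := act 3 n1316
theorem D1740 : act 3 n1316 = n1740 := rfl
theorem F6256 : act 0 n1740 = n1740 := d2_1 D1740 (iv D1740) F4800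
theorem F6257 : act 2 n1740 = n1740 := d13_1 D1740 (iv D1740) (iv D1316) F3683 D1316
theorem F6258 : act 5 n1740 = n1364 := d19_2 (iv F4801) D1740 (iv D1364)
theorem F6259 : act 6 n1740 = n1740 := d20_2 F4802 D1740 (iv D1740)
theorem F6260 : act 7 n1740 = n1740 := d21_2 F4803 D1740 (iv D1740)
def n1741 : Q := act 7 n1317
theorem D1741 : act 7 n1317 = n1741 := rfl
theorem F6261 : act 0 n1741 = n1333 := d6_1 D1741 (iv D1333) (iv F4804)
theorem F6262 : act 3 n1741 = n1365 := d21_1 D1741 (iv D1365) (iv F4805)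
theorem F6263 : act 4 n1741 = n1318 := d24_1 D1741 (iv D1318) D1317
def n1742 : Q := act 6 n1318
theorem D1742 : act 6 n1318 = n1742 := rfl
theorem F6265 : act 0 n1742 = n1334 := d5_1 D1742 (iv D1334) (iv F4808)
theorem F6266 : act 3 n1742 = n1320 := d20_1 D1742 (iv D1320) (iv F4809)
theorem F6267 : act 5 n1742 = n1319 := d25_1 D1742 (iv D1319) (iv F4810)
theorem F6268 : act 7 n1742 = n1742 := d27_2 D1318 D1742 (iv D1742) (iv D1318) F3688
def n1743 : Q := act 2 n1319
theorem D1743 : act 2 n1319 = n1743 := rfl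
theorem F6269 : act 0 n1743 = n1335 := d1_1 D1743 (iv D1335) (iv F4811)
theorem F6270 : act 4 n1743 = n1743 := d14_2 F4813 D1743 (iv D1743)
theorem F6271 : act 7 n1743 = n1743 := d17_2 F4814 D1743 (iv D1743)
def n1744 : Q := act 2 n1320
theorem D1744 : act 2 n1320 = n1744 := rfl
theorem F6272 : act 0 n1744 = n1336 := d1_1 D1744 (iv D1336) (iv F4815)
theorem F6273 : act 4 n1744 = n1368 := d14_2 (iv F4816) D1744 (iv D1368)
theorem F6274 : act 5 n1744 = n1321 := d15_2 (iv F4817) D1744 (iv D1321)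
theorem F6275 : act 6 n1744 = n1324 := d16_2 D1320 D1744 (iv D1324) (iv D999) (iv F3693)
theorem F6276 : act 7 n1744 = n1744 := d17_2 F4818 D1744 (iv D1744)
def n1745 : Q := act 1 n1321
theorem D1745 : act 1 n1321 = n1745 := rfl
theorem F6277 : act 4 n1745 = n1322 := d9_2 (iv F4820) D1745 (iv D1322)
theorem F6278 : act 6 n1745 = n1325 := d11_2 (iv F4821) D1745 (iv D1325)
theorem F6279 : act 7 n1745 = n1745 := d12_2 F4822 D1745 (iv D1745)
def n1746 : Q := act 3 n1321
theorem D1746 : act 3 n1321 = n1746 := rfl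
theorem F6280 : act 0 n1746 = n1338 := d2_1 D1746 (iv D1338) (iv F4819)
theorem F6281 : act 6 n1746 = n1326 := d20_2 (iv F4821) D1746 (iv D1326)
theorem F6282 : act 7 n1746 = n1746 := d21_2 F4822 D1746 (iv D1746)
def n1747 : Q := act 0 n1322
theorem D1747 : act 0 n1322 = n1747 := rfl
theorem F6283 : act 1 n1747 = n1339 := d0_2 D1322 D1747 (iv D1339) (iv D1010) (iv F3699)
theorem F6284 : act 5 n1747 = n1371 := d4_2 (iv F4823) D1747 (iv D1371)
theorem F6285 : act 6 n1747 = n1327 := d5_2 (iv F4824) D1747 (iv D1327)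
theorem F6286 : act 7 n1747 = n1747 := d6_2 F4825 D1747 (iv D1747)
def n1748 : Q := act 3 n1322
theorem D1748 : act 3 n1322 = n1748 := rfl
theorem F6288 : act 5 n1748 = n1372 := d19_2 (iv F4823) D1748 (iv D1372)
def n1749 : Q := act 4 n1323
theorem D1749 : act 4 n1323 = n1749 := rfl
theorem F6291 : act 0 n1749 = n1341 := d3_1 D1749 (iv D1341) (iv F4826)
theorem F6292 : act 2 n1749 = n1749 := d14_1 D1749 (iv D1749) F4827
theorem F6293 : act 6 n1749 = n1329 := d23_2 (iv F4829) D1749 (iv D1329)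
theorem F6294 : act 7 n1749 = n1749 := d24_2 F4830 D1749 (iv D1749)
def n1750 : Q := act 1 n1324
theorem D1750 : act 1 n1324 = n1750 := rfl
theorem F6295 : act 2 n1750 = n1750 := d7_2 D1324 D1750 (iv D1750) (iv D1324) F3704
theorem F6296 : act 4 n1750 = n1374 := d9_2 (iv F4832) D1750 (iv D1374)
theorem F6297 : act 5 n1750 = n1325 := d10_2 (iv F4833) D1750 (iv D1325)
theorem F6298 : act 7 n1750 = n1461 := d12_2 (iv F4834) D1750 (iv D1461)
def n1751 : Q := act 3 n1324
theorem D1751 : act 3 n1324 = n1751 := rfl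
theorem F6299 : act 0 n1751 = n1343 := d2_1 D1751 (iv D1343) (iv F4831)
theorem F6300 : act 5 n1751 = n1326 := d19_2 (iv F4833) D1751 (iv D1326)
theorem F6301 : act 7 n1751 = n1462 := d21_2 (iv F4834) D1751 (iv D1462)
def n1752 : Q := act 0 n1325
theorem D1752 : act 0 n1325 = n1752 := rfl
theorem F6302 : act 1 n1752 = n1344 := d0_2 D1325 D1752 (iv D1344) (iv D1013) (iv F3708)
theorem F6303 : act 2 n1752 = n1752 := d1_2 F4835 D1752 (iv D1752)
theorem F6304 : act 4 n1752 = n1327 := d3_2 (iv F4836) D1752 (iv D1327)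
theorem F6305 : act 7 n1752 = n1463 := d6_2 (iv F4837) D1752 (iv D1463)
def n1753 : Q := act 3 n1325
theorem D1753 : act 3 n1325 = n1753 := rfl
theorem F6306 : act 1 n1753 = n1326 := d8_1 D1753 (iv D1326) D1325
theorem F6307 : act 7 n1753 = n1464 := d21_2 (iv F4837) D1753 (iv D1464)
def n1754 : Q := act 4 n1326
theorem D1754 : act 4 n1326 = n1754 := rfl
theorem F6308 : act 0 n1754 = n1346 := d3_1 D1754 (iv D1346) (iv F4838)
theorem F6309 : act 3 n1754 = n1329 := d18_1 D1754 (iv D1329) (iv D1002) (iv F3709) D1326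
theorem F6310 : act 7 n1754 = n1465 := d24_2 (iv F4839) D1754 (iv D1465)
def n1755 : Q := act 3 n1327
theorem D1755 : act 3 n1327 = n1755 := rfl
theorem F6311 : act 0 n1755 = n1328 := d2_1 D1755 (iv D1328) D1327
theorem F6312 : act 1 n1755 = n1347 := d8_1 D1755 (iv D1347) (iv F4840)
theorem F6313 : act 5 n1755 = n1379 := d19_2 (iv F4842) D1755 (iv D1379)
theorem F6314 : act 7 n1755 = n1466 := d21_2 (iv F4843) D1755 (iv D1466)
def n1756 : Q := act 2 n1328
theorem D1756 : act 2 n1328 = n1756 := rfl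
theorem F6317 : act 5 n1756 = n1380 := d15_2 (iv F4845) D1756 (iv D1380)
theorem F6318 : act 7 n1756 = n1467 := d17_2 (iv F4846) D1756 (iv D1467)
def n1757 : Q := act 4 n1328
theorem D1757 : act 4 n1328 = n1757 := rfl
theorem F6319 : act 1 n1757 = n1329 := d9_1 D1757 (iv D1329) (iv F4844)
theorem F6320 : act 7 n1757 = n1468 := d24_2 (iv F4846) D1757 (iv D1468)
def n1758 : Q := act 5 n1329
theorem D1758 : act 5 n1329 = n1758 := rfl
theorem F6324 : act 7 n1758 = n1469 := d26_2 (iv F4849) D1758 (iv D1469)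
def n1761 : Q := act 5 n1331
theorem D1761 : act 5 n1331 = n1761 := rfl
theorem F6334 : act 4 n1761 = n1385 := d22_1 D1761 (iv D1385) (iv D1043) (iv F3720) D1331
def n1762 : Q := act 6 n1333
theorem D1762 : act 6 n1333 = n1762 := rfl
theorem F6337 : act 1 n1762 = n1762 := d11_1 D1762 (iv D1762) F4862
theorem F6338 : act 3 n1762 = n1386 := d20_1 D1762 (iv D1386) (iv F4863)
theorem F6339 : act 4 n1762 = n1334 := d23_1 D1762 (iv D1334) (iv F4864)
theorem F6340 : act 5 n1762 = n1762 := d25_1 D1762 (iv D1762) F4865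
theorem F6341 : act 7 n1762 = n1762 := d27_2 D1333 D1762 (iv D1762) (iv D1333) F3729
def n1763 : Q := act 2 n1334
theorem D1763 : act 2 n1334 = n1763 := rfl
theorem F6342 : act 5 n1763 = n1335 := d15_2 (iv F4868) D1763 (iv D1335)
theorem F6343 : act 7 n1763 = n1763 := d17_2 F4869 D1763 (iv D1763)
def n1764 : Q := act 1 n1335
theorem D1764 : act 1 n1335 = n1764 := rfl
theorem F6344 : act 2 n1764 = n1764 := d7_2 D1335 D1764 (iv D1764) (iv D1335) F3733
theorem F6345 : act 4 n1764 = n1764 := d9_2 F4870 D1764 (iv D1764)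
theorem F6346 : act 7 n1764 = n1764 := d12_2 F4871 D1764 (iv D1764)
def n1765 : Q := act 3 n1335
theorem D1765 : act 3 n1335 = n1765 := rfl
theorem F6347 : act 2 n1765 = n1338 := d13_1 D1765 (iv D1338) (iv D1009) (iv F3734) D1335
theorem F6348 : act 7 n1765 = n1765 := d21_2 F4871 D1765 (iv D1765)
def n1766 : Q := act 1 n1336
theorem D1766 : act 1 n1336 = n1766 := rfl
theorem F6350 : act 4 n1766 = n1390 := d9_2 (iv F4872) D1766 (iv D1390)
theorem F6351 : act 5 n1766 = n1337 := d10_2 (iv F4873) D1766 (iv D1337)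
theorem F6352 : act 6 n1766 = n1342 := d11_2 (iv F4874) D1766 (iv D1342)
def n1767 : Q := act 3 n1336
theorem D1767 : act 3 n1336 = n1767 := rfl
theorem F6354 : act 5 n1767 = n1338 := d19_2 (iv F4873) D1767 (iv D1338)
theorem F6355 : act 6 n1767 = n1343 := d20_2 (iv F4874) D1767 (iv D1343)
theorem F6356 : act 7 n1767 = n1767 := d21_2 F4875 D1767 (iv D1767)
def n1768 : Q := act 0 n1337
theorem D1768 : act 0 n1337 = n1768 := rfl
theorem F6357 : act 2 n1768 = n1768 := d1_2 F4876 D1768 (iv D1768)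
theorem F6358 : act 4 n1768 = n1339 := d3_2 (iv F4877) D1768 (iv D1339)
theorem F6359 : act 6 n1768 = n1344 := d5_2 (iv F4878) D1768 (iv D1344)
theorem F6360 : act 7 n1768 = n1768 := d6_2 F4879 D1768 (iv D1768)
def n1769 : Q := act 3 n1337
theorem D1769 : act 3 n1337 = n1769 := rfl
theorem F6361 : act 1 n1769 = n1338 := d8_1 D1769 (iv D1338) D1337
theorem F6362 : act 6 n1769 = n1345 := d20_2 (iv F4878) D1769 (iv D1345)
theorem F6363 : act 7 n1769 = n1769 := d21_2 F4879 D1769 (iv D1769)
def n1770 : Q := act 4 n1338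
theorem D1770 : act 4 n1338 = n1770 := rfl
theorem F6364 : act 3 n1770 = n1341 := d18_1 D1770 (iv D1341) (iv D1011) (iv F3741) D1338
theorem F6365 : act 6 n1770 = n1346 := d23_2 (iv F4880) D1770 (iv D1346)
theorem F6366 : act 7 n1770 = n1770 := d24_2 F4881 D1770 (iv D1770)
def n1771 : Q := act 3 n1339
theorem D1771 : act 3 n1339 = n1771 := rfl
theorem F6367 : act 0 n1771 = n1340 := d2_1 D1771 (iv D1340) D1339
theorem F6368 : act 5 n1771 = n1395 := d19_2 (iv F4883) D1771 (iv D1395)
theorem F6369 : act 6 n1771 = n1347 := d20_2 (iv F4884) D1771 (iv D1347)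
theorem F6370 : act 7 n1771 = n1771 := d21_2 F4885 D1771 (iv D1771)
def n1772 : Q := act 2 n1340
theorem D1772 : act 2 n1340 = n1772 := rfl
theorem F6371 : act 1 n1772 = n1772 := d7_1 D1772 (iv D1772) F4886 F3748 (iv F4886)
theorem F6372 : act 3 n1772 = n1772 := d13_2 D1340 D1772 (iv D1772) (iv D1340) F3744
theorem F6373 : act 5 n1772 = n1396 := d15_2 (iv F4887) D1772 (iv D1396)
theorem F6374 : act 6 n1772 = n1772 := d16_2 (iv F4888) D1772 (iv D1772) F4888 F3763
theorem F6375 : act 7 n1772 = n1772 := d17_2 F4889 D1772 (iv D1772)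
def n1773 : Q := act 4 n1340
theorem D1773 : act 4 n1340 = n1773 := rfl
theorem F6376 : act 1 n1773 = n1341 := d9_1 D1773 (iv D1341) (iv F4886)
theorem F6377 : act 6 n1773 = n1348 := d23_2 (iv F4888) D1773 (iv D1348)
theorem F6378 : act 7 n1773 = n1773 := d24_2 F4889 D1773 (iv D1773)
def n1775 : Q := act 0 n1342
theorem D1775 : act 0 n1342 = n1775 := rfl
theorem F6383 : act 2 n1775 = n1350 := d1_2 (iv F4893) D1775 (iv D1350)
theorem F6384 : act 4 n1775 = n1399 := d3_2 (iv F4894) D1775 (iv D1399)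
theorem F6385 : act 5 n1775 = n1344 := d4_2 (iv F4895) D1775 (iv D1344)
theorem F6386 : act 7 n1775 = n1473 := d6_2 (iv F4896) D1775 (iv D1473)
def n1776 : Q := act 3 n1342
theorem D1776 : act 3 n1342 = n1776 := rfl
theorem F6387 : act 1 n1776 = n1343 := d8_1 D1776 (iv D1343) D1342
theorem F6388 : act 5 n1776 = n1345 := d19_2 (iv F4895) D1776 (iv D1345)
theorem F6389 : act 7 n1776 = n1474 := d21_2 (iv F4896) D1776 (iv D1474)
def n1777 : Q := act 4 n1343
theorem D1777 : act 4 n1343 = n1777 := rfl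
theorem F6390 : act 3 n1777 = n1401 := d18_1 D1777 (iv D1401) (iv D1055) (iv F3752) D1343
def n1778 : Q := act 3 n1344
theorem D1778 : act 3 n1344 = n1778 := rfl
theorem F6392 : act 0 n1778 = n1345 := d2_1 D1778 (iv D1345) D1344
theorem F6393 : act 7 n1778 = n1476 := d21_2 (iv F4901) D1778 (iv D1476)
def n1779 : Q := act 2 n1345
theorem D1779 : act 2 n1345 = n1779 := rfl
theorem F6394 : act 3 n1779 = n1354 := d13_2 D1345 D1779 (iv D1354) (iv D1022) (iv F3755)
theorem F6395 : act 7 n1779 = n1477 := d17_2 (iv F4903) D1779 (iv D1477)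
def n1780 : Q := act 4 n1345
theorem D1780 : act 4 n1345 = n1780 := rfl
theorem F6396 : act 1 n1780 = n1346 := d9_1 D1780 (iv D1346) (iv F4902)
theorem F6397 : act 3 n1780 = n1348 := d18_1 D1780 (iv D1348) (iv D1016) (iv F3756) D1345
theorem F6398 : act 7 n1780 = n1478 := d24_2 (iv F4903) D1780 (iv D1478)
def n1781 : Q := act 5 n1346
theorem D1781 : act 5 n1346 = n1781 := rfl
theorem F6399 : act 3 n1781 = n1349 := d19_1 D1781 (iv D1349) (iv F4904)
def n1782 : Q := act 4 n1347
theorem D1782 : act 4 n1347 = n1782 := rfl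
theorem F6401 : act 0 n1782 = n1348 := d3_1 D1782 (iv D1348) (iv F4906)
theorem F6403 : act 7 n1782 = n1480 := d24_2 (iv F4909) D1782 (iv D1480)
def n1783 : Q := act 5 n1348
theorem D1783 : act 5 n1348 = n1783 := rfl
theorem F6406 : act 4 n1783 = n1407 := d22_1 D1783 (iv D1407) (iv D1060) (iv F3764) D1348
theorem F6407 : act 7 n1783 = n1481 := d26_2 (iv F4912) D1783 (iv D1481)
def n1784 : Q := act 3 n1350
theorem D1784 : act 3 n1350 = n1784 := rfl
theorem F6408 : act 0 n1784 = n1351 := d2_1 D1784 (iv D1351) D1350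
def n1785 : Q := act 2 n1351
theorem D1785 : act 2 n1351 = n1785 := rfl
theorem F6413 : act 5 n1785 = n1354 := d15_2 (iv F4922) D1785 (iv D1354)
theorem F6414 : act 7 n1785 = n1483 := d17_2 (iv F4924) D1785 (iv D1483)
def n1786 : Q := act 4 n1351
theorem D1786 : act 4 n1351 = n1786 := rfl
theorem F6416 : act 3 n1786 = n1410 := d18_1 D1786 (iv D1410) (iv D1063) (iv F3772) D1351
def n1787 : Q := act 2 n1353
theorem D1787 : act 2 n1353 = n1787 := rfl
theorem F6420 : act 0 n1787 = n1354 := d1_1 D1787 (iv D1354) (iv F4930)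
def n1788 : Q := act 6 n1354
theorem D1788 : act 6 n1354 = n1788 := rfl
theorem F6423 : act 2 n1788 = n1788 := d16_1 D1788 (iv D1788) (iv D1354) F3786 D1354
theorem F6424 : act 4 n1788 = n1788 := d23_1 D1788 (iv D1788) F4935
def n1789 : Q := act 4 n1355
theorem D1789 : act 4 n1355 = n1789 := rfl
theorem F6427 : act 2 n1789 = n1358 := d14_1 D1789 (iv D1358) (iv F4939)
def n1790 : Q := act 6 n1355
theorem D1790 : act 6 n1355 = n1790 := rfl
def n1791 : Q := act 7 n1355
theorem D1791 : act 7 n1355 = n1791 := rfl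
theorem F6434 : act 0 n1791 = n1791 := d6_1 D1791 (iv D1791) F4937
theorem F6435 : act 1 n1791 = n1791 := d12_1 D1791 (iv D1791) F4938
theorem F6436 : act 2 n1791 = n1359 := d17_1 D1791 (iv D1359) (iv F4939)
theorem F6437 : act 3 n1791 = n1791 := d21_1 D1791 (iv D1791) F4940
theorem F6438 : act 5 n1791 = n1357 := d26_1 D1791 (iv D1357) D1355
def n1792 : Q := act 7 n1356
theorem D1792 : act 7 n1356 = n1792 := rfl
def n1793 : Q := act 6 n1357
theorem D1793 : act 6 n1357 = n1793 := rfl
def n1794 : Q := act 7 n1358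
theorem D1794 : act 7 n1358 = n1794 := rfl
theorem F6448 : act 0 n1794 = n1794 := d6_1 D1794 (iv D1794) F4951
theorem F6449 : act 1 n1794 = n1365 := d12_1 D1794 (iv D1365) (iv F4952)
theorem F6450 : act 4 n1794 = n1359 := d24_1 D1794 (iv D1359) D1358
theorem F6451 : act 5 n1794 = n1794 := d26_1 D1794 (iv D1794) F4953
def n1795 : Q := act 6 n1359
theorem D1795 : act 6 n1359 = n1795 := rfl
theorem F6452 : act 0 n1795 = n1795 := d5_1 D1795 (iv D1795) F4955
theorem F6453 : act 1 n1795 = n1366 := d11_1 D1795 (iv D1366) (iv F4956)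
theorem F6454 : act 3 n1795 = n1361 := d20_1 D1795 (iv D1361) (iv F4957)
theorem F6455 : act 5 n1795 = n1360 := d25_1 D1795 (iv D1360) (iv F4958)
theorem F6456 : act 7 n1795 = n1795 := d27_2 D1359 D1795 (iv D1795) (iv D1359) F3795
def n1796 : Q := act 2 n1360
theorem D1796 : act 2 n1360 = n1796 := rfl
def n1797 : Q := act 2 n1361
theorem D1797 : act 2 n1361 = n1797 := rfl
theorem F6460 : act 0 n1797 = n1797 := d1_1 D1797 (iv D1797) F4964
theorem F6461 : act 5 n1797 = n1362 := d15_2 (iv F4966) D1797 (iv D1362)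
theorem F6462 : act 6 n1797 = n1797 := d16_2 D1361 D1797 (iv D1797) (iv D1361) F3802
theorem F6463 : act 7 n1797 = n1797 := d17_2 F4967 D1797 (iv D1797)
def n1798 : Q := act 1 n1362
theorem D1798 : act 1 n1362 = n1798 := rfl
theorem F6464 : act 2 n1798 = n1369 := d7_2 D1362 D1798 (iv D1369) (iv D1033) (iv F3805)
theorem F6465 : act 4 n1798 = n1363 := d9_2 (iv F4969) D1798 (iv D1363)
theorem F6466 : act 6 n1798 = n1798 := d11_2 F4970 D1798 (iv D1798)
theorem F6467 : act 7 n1798 = n1798 := d12_2 F4971 D1798 (iv D1798)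
def n1799 : Q := act 3 n1362
theorem D1799 : act 3 n1362 = n1799 := rfl
def n1800 : Q := act 0 n1363
theorem D1800 : act 0 n1363 = n1800 := rfl
theorem F6471 : act 1 n1800 = n1800 := d0_2 D1363 D1800 (iv D1800) (iv D1363) F3808
theorem F6472 : act 2 n1800 = n1371 := d1_2 (iv F4972) D1800 (iv D1371)
theorem F6473 : act 6 n1800 = n1800 := d5_2 F4973 D1800 (iv D1800)
theorem F6474 : act 7 n1800 = n1800 := d6_2 F4974 D1800 (iv D1800)
def n1801 : Q := act 3 n1363
theorem D1801 : act 3 n1363 = n1801 := rfl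
theorem F6475 : act 1 n1801 = n1364 := d8_1 D1801 (iv D1364) D1363
def n1802 : Q := act 4 n1364
theorem D1802 : act 4 n1364 = n1802 := rfl
def n1803 : Q := act 6 n1365
theorem D1803 : act 6 n1365 = n1803 := rfl
theorem F6482 : act 0 n1803 = n1386 := d5_1 D1803 (iv D1386) (iv F4979)
theorem F6483 : act 4 n1803 = n1366 := d23_1 D1803 (iv D1366) (iv F4981)
theorem F6484 : act 5 n1803 = n1803 := d25_1 D1803 (iv D1803) F4982
theorem F6485 : act 7 n1803 = n1803 := d27_2 D1365 D1803 (iv D1803) (iv D1365) F3814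
def n1804 : Q := act 2 n1366
theorem D1804 : act 2 n1366 = n1804 := rfl
theorem F6486 : act 0 n1804 = n1387 := d1_1 D1804 (iv D1387) (iv F4983)
theorem F6487 : act 5 n1804 = n1367 := d15_2 (iv F4985) D1804 (iv D1367)
theorem F6488 : act 6 n1804 = n1804 := d16_2 D1366 D1804 (iv D1804) (iv D1366) F3816
theorem F6489 : act 7 n1804 = n1804 := d17_2 F4986 D1804 (iv D1804)
def n1805 : Q := act 1 n1367
theorem D1805 : act 1 n1367 = n1805 := rfl
def n1806 : Q := act 3 n1367
theorem D1806 : act 3 n1367 = n1806 := rfl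
theorem F6493 : act 0 n1806 = n1389 := d2_1 D1806 (iv D1389) (iv F4987)
theorem F6494 : act 2 n1806 = n1370 := d13_1 D1806 (iv D1370) (iv D1033) (iv F3820) D1367
def n1807 : Q := act 1 n1368
theorem D1807 : act 1 n1368 = n1807 := rfl
theorem F6497 : act 5 n1807 = n1369 := d10_2 (iv F4992) D1807 (iv D1369)
theorem F6498 : act 6 n1807 = n1374 := d11_2 (iv F4993) D1807 (iv D1374)
def n1808 : Q := act 3 n1368
theorem D1808 : act 3 n1368 = n1808 := rfl
theorem F6500 : act 0 n1808 = n1391 := d2_1 D1808 (iv D1391) (iv F4991)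
theorem F6501 : act 5 n1808 = n1370 := d19_2 (iv F4992) D1808 (iv D1370)
def n1809 : Q := act 0 n1369
theorem D1809 : act 0 n1369 = n1809 := rfl
theorem F6504 : act 1 n1809 = n1392 := d0_2 D1369 D1809 (iv D1392) (iv D1049) (iv F3826)
theorem F6505 : act 4 n1809 = n1371 := d3_2 (iv F4995) D1809 (iv D1371)
def n1810 : Q := act 3 n1369
theorem D1810 : act 3 n1369 = n1810 := rfl
theorem F6508 : act 1 n1810 = n1370 := d8_1 D1810 (iv D1370) D1369
theorem F6509 : act 6 n1810 = n1377 := d20_2 (iv F4996) D1810 (iv D1377)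
def n1811 : Q := act 4 n1370
theorem D1811 : act 4 n1370 = n1811 := rfl
theorem F6511 : act 0 n1811 = n1394 := d3_1 D1811 (iv D1394) (iv F4998)
theorem F6513 : act 6 n1811 = n1378 := d23_2 (iv F4999) D1811 (iv D1378)
def n1812 : Q := act 3 n1371
theorem D1812 : act 3 n1371 = n1812 := rfl
theorem F6515 : act 0 n1812 = n1372 := d2_1 D1812 (iv D1372) D1371
theorem F6516 : act 1 n1812 = n1395 := d8_1 D1812 (iv D1395) (iv F5001)
theorem F6517 : act 6 n1812 = n1379 := d20_2 (iv F5002) D1812 (iv D1379)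
def n1813 : Q := act 2 n1372
theorem D1813 : act 2 n1372 = n1813 := rfl
def n1814 : Q := act 4 n1372
theorem D1814 : act 4 n1372 = n1814 := rfl
theorem F6521 : act 1 n1814 = n1373 := d9_1 D1814 (iv D1373) (iv F5004)
theorem F6522 : act 6 n1814 = n1381 := d23_2 (iv F5005) D1814 (iv D1381)
def n1816 : Q := act 0 n1374
theorem D1816 : act 0 n1374 = n1816 := rfl
theorem F6528 : act 1 n1816 = n1399 := d0_2 D1374 D1816 (iv D1399) (iv D1054) (iv F3836)
theorem F6530 : act 5 n1816 = n1376 := d4_2 (iv F5012) D1816 (iv D1376)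
theorem F6531 : act 7 n1816 = n1487 := d6_2 (iv F5013) D1816 (iv D1487)
def n1817 : Q := act 3 n1374
theorem D1817 : act 3 n1374 = n1817 := rfl
theorem F6533 : act 5 n1817 = n1377 := d19_2 (iv F5012) D1817 (iv D1377)
def n1818 : Q := act 4 n1375
theorem D1818 : act 4 n1375 = n1818 := rfl
theorem F6535 : act 0 n1818 = n1401 := d3_1 D1818 (iv D1401) (iv F5014)
def n1819 : Q := act 3 n1376
theorem D1819 : act 3 n1376 = n1819 := rfl
theorem F6538 : act 0 n1819 = n1377 := d2_1 D1819 (iv D1377) D1376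
theorem F6539 : act 1 n1819 = n1402 := d8_1 D1819 (iv D1402) (iv F5018)
theorem F6540 : act 7 n1819 = n1490 := d21_2 (iv F5021) D1819 (iv D1490)
def n1820 : Q := act 2 n1377
theorem D1820 : act 2 n1377 = n1820 := rfl
theorem F6543 : act 7 n1820 = n1491 := d17_2 (iv F5023) D1820 (iv D1491)
def n1821 : Q := act 4 n1377
theorem D1821 : act 4 n1377 = n1821 := rfl
theorem F6545 : act 3 n1821 = n1381 := d18_1 D1821 (iv D1381) (iv D1040) (iv F3840) D1377
theorem F6546 : act 7 n1821 = n1492 := d24_2 (iv F5023) D1821 (iv D1492)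
def n1822 : Q := act 5 n1378
theorem D1822 : act 5 n1378 = n1822 := rfl
def n1823 : Q := act 2 n1379
theorem D1823 : act 2 n1379 = n1823 := rfl
theorem F6554 : act 7 n1823 = n1494 := d17_2 (iv F5030) D1823 (iv D1494)
def n1824 : Q := act 4 n1379
theorem D1824 : act 4 n1379 = n1824 := rfl
theorem F6555 : act 0 n1824 = n1381 := d3_1 D1824 (iv D1381) (iv F5028)
theorem F6556 : act 1 n1824 = n1406 := d9_1 D1824 (iv D1406) (iv F5029)
def n1825 : Q := act 4 n1380
theorem D1825 : act 4 n1380 = n1825 := rfl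
theorem F6558 : act 1 n1825 = n1383 := d9_1 D1825 (iv D1383) (iv F5031)
theorem F6559 : act 2 n1825 = n1381 := d14_1 D1825 (iv D1381) D1380
theorem F6560 : act 7 n1825 = n1496 := d24_2 (iv F5033) D1825 (iv D1496)
def n1826 : Q := act 6 n1380
theorem D1826 : act 6 n1380 = n1826 := rfl
def n1827 : Q := act 5 n1381
theorem D1827 : act 5 n1381 = n1827 := rfl
theorem F6563 : act 1 n1827 = n1382 := d10_1 D1827 (iv D1382) (iv F5034)
theorem F6564 : act 7 n1827 = n1498 := d26_2 (iv F5035) D1827 (iv D1498)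
def n1828 : Q := act 3 n1383
theorem D1828 : act 3 n1383 = n1828 := rfl
theorem F6568 : act 7 n1828 = n1499 := d21_2 (iv F5041) D1828 (iv D1499)
def n1829 : Q := act 5 n1383
theorem D1829 : act 5 n1383 = n1829 := rfl
theorem F6571 : act 7 n1829 = n1500 := d26_2 (iv F5041) D1829 (iv D1500)
def n1832 : Q := act 2 n1386
theorem D1832 : act 2 n1386 = n1832 := rfl
theorem F6579 : act 4 n1832 = n1387 := d14_2 (iv F5051) D1832 (iv D1387)
theorem F6580 : act 5 n1832 = n1832 := d15_2 F5052 D1832 (iv D1832)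
theorem F6581 : act 6 n1832 = n1832 := d16_2 D1386 D1832 (iv D1832) (iv D1386) F3866
theorem F6582 : act 7 n1832 = n1832 := d17_2 F5053 D1832 (iv D1832)
def n1833 : Q := act 1 n1387
theorem D1833 : act 1 n1387 = n1833 := rfl
theorem F6584 : act 5 n1833 = n1388 := d10_2 (iv F5054) D1833 (iv D1388)
theorem F6585 : act 6 n1833 = n1833 := d11_2 F5055 D1833 (iv D1833)
theorem F6586 : act 7 n1833 = n1833 := d12_2 F5056 D1833 (iv D1833)
def n1834 : Q := act 3 n1387
theorem D1834 : act 3 n1387 = n1834 := rfl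
theorem F6587 : act 2 n1834 = n1391 := d13_1 D1834 (iv D1391) (iv D1048) (iv F3870) D1387
def n1835 : Q := act 0 n1388
theorem D1835 : act 0 n1388 = n1835 := rfl
theorem F6591 : act 2 n1835 = n1835 := d1_2 F5057 D1835 (iv D1835)
def n1836 : Q := act 3 n1388
theorem D1836 : act 3 n1388 = n1836 := rfl
theorem F6595 : act 1 n1836 = n1389 := d8_1 D1836 (iv D1389) D1388
theorem F6596 : act 6 n1836 = n1836 := d20_2 F5059 D1836 (iv D1836)
theorem F6597 : act 7 n1836 = n1836 := d21_2 F5060 D1836 (iv D1836)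
def n1837 : Q := act 4 n1389
theorem D1837 : act 4 n1389 = n1837 := rfl
def n1838 : Q := act 0 n1390
theorem D1838 : act 0 n1390 = n1838 := rfl
theorem F6603 : act 5 n1838 = n1392 := d4_2 (iv F5065) D1838 (iv D1392)
theorem F6604 : act 6 n1838 = n1399 := d5_2 (iv F5066) D1838 (iv D1399)
def n1839 : Q := act 3 n1390
theorem D1839 : act 3 n1390 = n1839 := rfl
theorem F6606 : act 1 n1839 = n1391 := d8_1 D1839 (iv D1391) D1390
theorem F6607 : act 5 n1839 = n1393 := d19_2 (iv F5065) D1839 (iv D1393)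
def n1840 : Q := act 4 n1391
theorem D1840 : act 4 n1391 = n1840 := rfl
def n1841 : Q := act 3 n1392
theorem D1841 : act 3 n1392 = n1841 := rfl
theorem F6612 : act 0 n1841 = n1393 := d2_1 D1841 (iv D1393) D1392
theorem F6613 : act 6 n1841 = n1402 := d20_2 (iv F5073) D1841 (iv D1402)
def n1842 : Q := act 2 n1393
theorem D1842 : act 2 n1393 = n1842 := rfl
theorem F6615 : act 3 n1842 = n1842 := d13_2 D1393 D1842 (iv D1842) (iv D1393) F3879
theorem F6616 : act 7 n1842 = n1842 := d17_2 F5077 D1842 (iv D1842)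
def n1843 : Q := act 4 n1393
theorem D1843 : act 4 n1393 = n1843 := rfl
theorem F6618 : act 3 n1843 = n1397 := d18_1 D1843 (iv D1397) (iv D1052) (iv F3880) D1393
theorem F6619 : act 6 n1843 = n1404 := d23_2 (iv F5076) D1843 (iv D1404)
def n1844 : Q := act 5 n1394
theorem D1844 : act 5 n1394 = n1844 := rfl
theorem F6622 : act 6 n1844 = n1405 := d25_2 (iv F5079) D1844 (iv D1405)
def n1845 : Q := act 2 n1395
theorem D1845 : act 2 n1395 = n1845 := rfl
theorem F6624 : act 0 n1845 = n1396 := d1_1 D1845 (iv D1396) (iv F5081)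
theorem F6626 : act 6 n1845 = n1845 := d16_2 (iv F5082) D1845 (iv D1845) F5082 F3909
theorem F6627 : act 7 n1845 = n1845 := d17_2 F5083 D1845 (iv D1845)
def n1846 : Q := act 4 n1395
theorem D1846 : act 4 n1395 = n1846 := rfl
theorem F6628 : act 0 n1846 = n1397 := d3_1 D1846 (iv D1397) (iv F5081)
def n1847 : Q := act 4 n1396
theorem D1847 : act 4 n1396 = n1847 := rfl
theorem F6632 : act 2 n1847 = n1397 := d14_1 D1847 (iv D1397) D1396
def n1848 : Q := act 5 n1397
theorem D1848 : act 5 n1397 = n1848 := rfl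
def n1849 : Q := act 3 n1399
theorem D1849 : act 3 n1399 = n1849 := rfl
theorem F6638 : act 0 n1849 = n1400 := d2_1 D1849 (iv D1400) D1399
theorem F6639 : act 5 n1849 = n1402 := d19_2 (iv F5095) D1849 (iv D1402)
theorem F6640 : act 7 n1849 = n1503 := d21_2 (iv F5096) D1849 (iv D1503)
def n1850 : Q := act 2 n1400
theorem D1850 : act 2 n1400 = n1850 := rfl
theorem F6643 : act 5 n1850 = n1403 := d15_2 (iv F5098) D1850 (iv D1403)
theorem F6644 : act 7 n1850 = n1504 := d17_2 (iv F5099) D1850 (iv D1504)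
def n1851 : Q := act 4 n1400
theorem D1851 : act 4 n1400 = n1851 := rfl
def n1852 : Q := act 5 n1401
theorem D1852 : act 5 n1401 = n1852 := rfl
theorem F6648 : act 4 n1852 = n1405 := d22_1 D1852 (iv D1405) (iv D1058) (iv F3898) D1401
def n1853 : Q := act 2 n1402
theorem D1853 : act 2 n1402 = n1853 := rfl
theorem F6650 : act 0 n1853 = n1403 := d1_1 D1853 (iv D1403) (iv F5102)
theorem F6651 : act 3 n1853 = n1411 := d13_2 D1402 D1853 (iv D1411) (iv D1065) (iv F3900)
theorem F6652 : act 7 n1853 = n1507 := d17_2 (iv F5103) D1853 (iv D1507)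
def n1854 : Q := act 4 n1402
theorem D1854 : act 4 n1402 = n1854 := rfl
theorem F6654 : act 3 n1854 = n1406 := d18_1 D1854 (iv D1406) (iv D1059) (iv F3901) D1402
def n1855 : Q := act 4 n1403
theorem D1855 : act 4 n1403 = n1855 := rfl
theorem F6656 : act 1 n1855 = n1855 := d9_1 D1855 (iv D1855) F5104
theorem F6657 : act 2 n1855 = n1404 := d14_1 D1855 (iv D1404) D1403
def n1856 : Q := act 6 n1403
theorem D1856 : act 6 n1403 = n1856 := rfl
theorem F6660 : act 1 n1856 = n1856 := d11_1 D1856 (iv D1856) F5104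
theorem F6661 : act 3 n1856 = n1412 := d20_1 D1856 (iv D1412) (iv F5105)
def n1857 : Q := act 5 n1404
theorem D1857 : act 5 n1404 = n1857 := rfl
def n1858 : Q := act 5 n1406
theorem D1858 : act 5 n1406 = n1858 := rfl
theorem F6665 : act 0 n1858 = n1407 := d4_1 D1858 (iv D1407) (iv F5113)
theorem F6667 : act 7 n1858 = n1512 := d26_2 (iv F5115) D1858 (iv D1512)
def n1859 : Q := act 2 n1408
theorem D1859 : act 2 n1408 = n1859 := rfl
theorem F6669 : act 5 n1859 = n1411 := d15_2 (iv F5121) D1859 (iv D1411)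
theorem F6670 : act 7 n1859 = n1513 := d17_2 (iv F5123) D1859 (iv D1513)
def n1860 : Q := act 4 n1408
theorem D1860 : act 4 n1408 = n1860 := rfl
theorem F6675 : act 7 n1860 = n1514 := d24_2 (iv F5123) D1860 (iv D1514)
def n1861 : Q := act 4 n1409
theorem D1861 : act 4 n1409 = n1861 := rfl
theorem F6677 : act 2 n1861 = n1410 := d14_1 D1861 (iv D1410) D1409
theorem F6679 : act 7 n1861 = n1515 := d24_2 (iv F5126) D1861 (iv D1515)
def n1862 : Q := act 6 n1409
theorem D1862 : act 6 n1409 = n1862 := rfl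
theorem F6682 : act 5 n1862 = n1412 := d25_1 D1862 (iv D1412) (iv F5125)
def n1863 : Q := act 1 n1411
theorem D1863 : act 1 n1411 = n1863 := rfl
theorem F6683 : act 0 n1863 = n1863 := d0_1 D1863 (iv D1863) F5131 F3934 (iv F5131)
theorem F6686 : act 7 n1863 = n1517 := d12_2 (iv F5133) D1863 (iv D1517)
def n1864 : Q := act 6 n1411
theorem D1864 : act 6 n1411 = n1864 := rfl
theorem F6688 : act 2 n1864 = n1864 := d16_1 D1864 (iv D1864) (iv D1411) F3932 D1411
def n1865 : Q := act 7 n1412
theorem D1865 : act 7 n1412 = n1865 := rfl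
theorem F6691 : act 2 n1865 = n1865 := d17_1 D1865 (iv D1865) F5135
theorem F6693 : act 6 n1865 = n1519 := d27_1 D1865 (iv D1519) (iv D1150) (iv F3936) D1412
def n1866 : Q := act 2 n1413
theorem D1866 : act 2 n1413 = n1866 := rfl
theorem F6696 : act 5 n1866 = n1415 := d15_2 (iv F5141) D1866 (iv D1415)
def n1867 : Q := act 7 n1413
theorem D1867 : act 7 n1413 = n1867 := rfl
theorem F6699 : act 1 n1867 = n1422 := d12_1 D1867 (iv D1422) (iv F5138)
theorem F6702 : act 5 n1867 = n1416 := d26_1 D1867 (iv D1416) (iv F5141)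
def n1868 : Q := act 6 n1414
theorem D1868 : act 6 n1414 = n1868 := rfl
theorem F6703 : act 0 n1868 = n1868 := d5_1 D1868 (iv D1868) F5142
theorem F6704 : act 1 n1868 = n1423 := d11_1 D1868 (iv D1423) (iv F5143)
theorem F6705 : act 3 n1868 = n1868 := d20_1 D1868 (iv D1868) F5145
theorem F6706 : act 4 n1868 = n1868 := d23_1 D1868 (iv D1868) F5146
theorem F6707 : act 5 n1868 = n1417 := d25_1 D1868 (iv D1417) (iv F5147)
def n1869 : Q := act 3 n1415
theorem D1869 : act 3 n1415 = n1869 := rfl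
def n1870 : Q := act 7 n1415
theorem D1870 : act 7 n1415 = n1870 := rfl
theorem F6712 : act 2 n1870 = n1416 := d17_1 D1870 (iv D1416) D1415
theorem F6713 : act 4 n1870 = n1419 := d24_1 D1870 (iv D1419) (iv F5149)
def n1871 : Q := act 6 n1416
theorem D1871 : act 6 n1416 = n1871 := rfl
theorem F6714 : act 0 n1871 = n1871 := d5_1 D1871 (iv D1871) F5151
theorem F6715 : act 1 n1871 = n1424 := d11_1 D1871 (iv D1424) (iv F5152)
theorem F6716 : act 3 n1871 = n1871 := d20_1 D1871 (iv D1871) F5153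
theorem F6717 : act 4 n1871 = n1420 := d23_1 D1871 (iv D1420) (iv F5154)
theorem F6718 : act 7 n1871 = n1417 := d27_2 D1416 D1871 (iv D1417) (iv D1069) D1068
def n1872 : Q := act 2 n1417
theorem D1872 : act 2 n1417 = n1872 := rfl
theorem F6719 : act 0 n1872 = n1872 := d1_1 D1872 (iv D1872) F5155
theorem F6720 : act 4 n1872 = n1421 := d14_2 (iv F5158) D1872 (iv D1421)
theorem F6721 : act 6 n1872 = n1872 := d16_2 D1417 D1872 (iv D1872) (iv D1417) F3948
def n1873 : Q := act 4 n1418
theorem D1873 : act 4 n1418 = n1873 := rfl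
theorem F6723 : act 2 n1873 = n1544 := d14_1 D1873 (iv D1544) (iv F5160)
def n1874 : Q := act 7 n1418
theorem D1874 : act 7 n1418 = n1874 := rfl
theorem F6726 : act 2 n1874 = n1545 := d17_1 D1874 (iv D1545) (iv F5160)
theorem F6727 : act 3 n1874 = n1419 := d21_1 D1874 (iv D1419) D1418
def n1875 : Q := act 6 n1419
theorem D1875 : act 6 n1419 = n1875 := rfl
theorem F6729 : act 0 n1875 = n1875 := d5_1 D1875 (iv D1875) F5163
theorem F6730 : act 5 n1875 = n1875 := d25_1 D1875 (iv D1875) F5165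
theorem F6731 : act 7 n1875 = n1875 := d27_2 D1419 D1875 (iv D1875) (iv D1419) F3953
def n1876 : Q := act 2 n1420
theorem D1876 : act 2 n1420 = n1876 := rfl
theorem F6732 : act 0 n1876 = n1876 := d1_1 D1876 (iv D1876) F5166
theorem F6733 : act 5 n1876 = n1876 := d15_2 F5169 D1876 (iv D1876)
theorem F6734 : act 7 n1876 = n1421 := d17_2 (iv F5170) D1876 (iv D1421)
def n1877 : Q := act 1 n1421
theorem D1877 : act 1 n1421 = n1877 := rfl
theorem F6735 : act 2 n1877 = n1427 := d7_2 D1421 D1877 (iv D1427) (iv D1078) (iv F3959)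
theorem F6736 : act 5 n1877 = n1877 := d10_2 F5172 D1877 (iv D1877)
theorem F6737 : act 6 n1877 = n1877 := d11_2 F5173 D1877 (iv D1877)
def n1878 : Q := act 3 n1421
theorem D1878 : act 3 n1421 = n1878 := rfl
def n1879 : Q := act 6 n1422
theorem D1879 : act 6 n1422 = n1879 := rfl
theorem F6742 : act 0 n1879 = n1438 := d5_1 D1879 (iv D1438) (iv F5174)
theorem F6743 : act 3 n1879 = n1879 := d20_1 D1879 (iv D1879) F5175
theorem F6744 : act 4 n1879 = n1879 := d23_1 D1879 (iv D1879) F5176
theorem F6745 : act 5 n1879 = n1424 := d25_1 D1879 (iv D1424) (iv F5177)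
theorem F6746 : act 7 n1879 = n1423 := d27_2 D1422 D1879 (iv D1423) (iv D1074) D1073
def n1880 : Q := act 2 n1423
theorem D1880 : act 2 n1423 = n1880 := rfl
theorem F6747 : act 0 n1880 = n1439 := d1_1 D1880 (iv D1439) (iv F5178)
theorem F6748 : act 4 n1880 = n1880 := d14_2 F5180 D1880 (iv D1880)
theorem F6749 : act 5 n1880 = n1425 := d15_2 (iv F5181) D1880 (iv D1425)
theorem F6750 : act 6 n1880 = n1429 := d16_2 D1423 D1880 (iv D1429) (iv D1079) (iv F3967)
def n1881 : Q := act 2 n1424
theorem D1881 : act 2 n1424 = n1881 := rfl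
theorem F6751 : act 0 n1881 = n1440 := d1_1 D1881 (iv D1440) (iv F5182)
theorem F6752 : act 4 n1881 = n1426 := d14_2 (iv F5184) D1881 (iv D1426)
theorem F6753 : act 7 n1881 = n1425 := d17_2 (iv F5185) D1881 (iv D1425)
def n1882 : Q := act 1 n1425
theorem D1882 : act 1 n1425 = n1882 := rfl
theorem F6754 : act 4 n1882 = n1427 := d9_2 (iv F5187) D1882 (iv D1427)
theorem F6755 : act 6 n1882 = n1430 := d11_2 (iv F5188) D1882 (iv D1430)
def n1883 : Q := act 3 n1425
theorem D1883 : act 3 n1425 = n1883 := rfl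
theorem F6756 : act 0 n1883 = n1442 := d2_1 D1883 (iv D1442) (iv F5186)
theorem F6757 : act 2 n1883 = n1883 := d13_1 D1883 (iv D1883) (iv D1425) F3975 D1425
theorem F6758 : act 6 n1883 = n1431 := d20_2 (iv F5188) D1883 (iv D1431)
def n1884 : Q := act 1 n1426
theorem D1884 : act 1 n1426 = n1884 := rfl
theorem F6759 : act 5 n1884 = n1884 := d10_2 F5190 D1884 (iv D1884)
theorem F6760 : act 7 n1884 = n1427 := d12_2 (iv F5191) D1884 (iv D1427)
def n1885 : Q := act 3 n1426
theorem D1885 : act 3 n1426 = n1885 := rfl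
theorem F6761 : act 0 n1885 = n1444 := d2_1 D1885 (iv D1444) (iv F5189)
theorem F6762 : act 2 n1885 = n1551 := d13_1 D1885 (iv D1551) (iv D1175) (iv F3978) D1426
theorem F6763 : act 5 n1885 = n1885 := d19_2 F5190 D1885 (iv D1885)
theorem F6764 : act 7 n1885 = n1428 := d21_2 (iv F5191) D1885 (iv D1428)
def n1886 : Q := act 0 n1427
theorem D1886 : act 0 n1427 = n1886 := rfl
theorem F6765 : act 1 n1886 = n1445 := d0_2 D1427 D1886 (iv D1445) (iv D1090) (iv F3981)
theorem F6766 : act 5 n1886 = n1886 := d4_2 F5192 D1886 (iv D1886)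
theorem F6767 : act 6 n1886 = n1432 := d5_2 (iv F5193) D1886 (iv D1432)
def n1887 : Q := act 3 n1427
theorem D1887 : act 3 n1427 = n1887 := rfl
theorem F6768 : act 1 n1887 = n1428 := d8_1 D1887 (iv D1428) D1427
theorem F6769 : act 5 n1887 = n1887 := d19_2 F5192 D1887 (iv D1887)
theorem F6770 : act 6 n1887 = n1433 := d20_2 (iv F5193) D1887 (iv D1433)
def n1888 : Q := act 4 n1428
theorem D1888 : act 4 n1428 = n1888 := rfl
theorem F6771 : act 0 n1888 = n1447 := d3_1 D1888 (iv D1447) (iv F5194)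
theorem F6772 : act 2 n1888 = n1554 := d14_1 D1888 (iv D1554) (iv F5195)
theorem F6773 : act 6 n1888 = n1434 := d23_2 (iv F5197) D1888 (iv D1434)
def n1889 : Q := act 1 n1429
theorem D1889 : act 1 n1429 = n1889 := rfl
theorem F6774 : act 2 n1889 = n1889 := d7_2 D1429 D1889 (iv D1889) (iv D1429) F3985
theorem F6775 : act 4 n1889 = n1889 := d9_2 F5199 D1889 (iv D1889)
theorem F6776 : act 5 n1889 = n1430 := d10_2 (iv F5200) D1889 (iv D1430)
def n1890 : Q := act 3 n1429
theorem D1890 : act 3 n1429 = n1890 := rfl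
theorem F6777 : act 0 n1890 = n1449 := d2_1 D1890 (iv D1449) (iv F5198)
theorem F6778 : act 2 n1890 = n1462 := d13_1 D1890 (iv D1462) (iv D1103) (iv F3986) D1429
theorem F6779 : act 5 n1890 = n1431 := d19_2 (iv F5200) D1890 (iv D1431)
def n1891 : Q := act 0 n1430
theorem D1891 : act 0 n1430 = n1891 := rfl
theorem F6780 : act 1 n1891 = n1450 := d0_2 D1430 D1891 (iv D1450) (iv D1093) (iv F3989)
theorem F6781 : act 2 n1891 = n1891 := d1_2 F5201 D1891 (iv D1891)
theorem F6782 : act 4 n1891 = n1432 := d3_2 (iv F5202) D1891 (iv D1432)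
def n1892 : Q := act 3 n1430
theorem D1892 : act 3 n1430 = n1892 := rfl
theorem F6783 : act 1 n1892 = n1431 := d8_1 D1892 (iv D1431) D1430
def n1893 : Q := act 4 n1431
theorem D1893 : act 4 n1431 = n1893 := rfl
theorem F6784 : act 0 n1893 = n1452 := d3_1 D1893 (iv D1452) (iv F5203)
theorem F6785 : act 2 n1893 = n1465 := d14_1 D1893 (iv D1465) (iv F5204)
theorem F6786 : act 3 n1893 = n1434 := d18_1 D1893 (iv D1434) (iv D1082) (iv F3990) D1431
def n1894 : Q := act 3 n1432
theorem D1894 : act 3 n1432 = n1894 := rfl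
theorem F6787 : act 0 n1894 = n1433 := d2_1 D1894 (iv D1433) D1432
theorem F6788 : act 1 n1894 = n1453 := d8_1 D1894 (iv D1453) (iv F5205)
theorem F6789 : act 5 n1894 = n1894 := d19_2 F5207 D1894 (iv D1894)
def n1895 : Q := act 2 n1433
theorem D1895 : act 2 n1433 = n1895 := rfl
theorem F6790 : act 1 n1895 = n1435 := d7_1 D1895 (iv D1435) F3997 (iv F3994) (iv F5208)
theorem F6791 : act 3 n1895 = n1895 := d13_2 D1433 D1895 (iv D1895) (iv D1433) F3991
theorem F6792 : act 5 n1895 = n1895 := d15_2 F5209 D1895 (iv D1895)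
def n1896 : Q := act 4 n1433
theorem D1896 : act 4 n1433 = n1896 := rfl
theorem F6793 : act 1 n1896 = n1434 := d9_1 D1896 (iv D1434) (iv F5208)
def n1899 : Q := act 6 n1435
theorem D1899 : act 6 n1435 = n1899 := rfl
def n1901 : Q := act 2 n1438
theorem D1901 : act 2 n1438 = n1901 := rfl
theorem F6808 : act 4 n1901 = n1901 := d14_2 F5225 D1901 (iv D1901)
theorem F6809 : act 5 n1901 = n1440 := d15_2 (iv F5226) D1901 (iv D1440)
theorem F6810 : act 7 n1901 = n1439 := d17_2 (iv F5227) D1901 (iv D1439)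
def n1902 : Q := act 1 n1439
theorem D1902 : act 1 n1439 = n1902 := rfl
theorem F6811 : act 2 n1902 = n1902 := d7_2 D1439 D1902 (iv D1902) (iv D1439) F4007
theorem F6812 : act 4 n1902 = n1902 := d9_2 F5228 D1902 (iv D1902)
theorem F6813 : act 5 n1902 = n1441 := d10_2 (iv F5229) D1902 (iv D1441)
theorem F6814 : act 6 n1902 = n1448 := d11_2 (iv F5230) D1902 (iv D1448)
def n1903 : Q := act 3 n1439
theorem D1903 : act 3 n1439 = n1903 := rfl
theorem F6815 : act 2 n1903 = n1903 := d13_1 D1903 (iv D1903) (iv D1439) F4008 D1439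
theorem F6816 : act 5 n1903 = n1442 := d19_2 (iv F5229) D1903 (iv D1442)
theorem F6817 : act 6 n1903 = n1449 := d20_2 (iv F5230) D1903 (iv D1449)
def n1904 : Q := act 1 n1440
theorem D1904 : act 1 n1440 = n1904 := rfl
theorem F6818 : act 2 n1904 = n1904 := d7_2 D1440 D1904 (iv D1904) (iv D1440) F4011
theorem F6819 : act 4 n1904 = n1443 := d9_2 (iv F5231) D1904 (iv D1443)
theorem F6820 : act 7 n1904 = n1441 := d12_2 (iv F5232) D1904 (iv D1441)
def n1905 : Q := act 3 n1440
theorem D1905 : act 3 n1440 = n1905 := rfl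
theorem F6821 : act 2 n1905 = n1905 := d13_1 D1905 (iv D1905) (iv D1440) F4012 D1440
theorem F6822 : act 7 n1905 = n1442 := d21_2 (iv F5232) D1905 (iv D1442)
def n1906 : Q := act 0 n1441
theorem D1906 : act 0 n1441 = n1906 := rfl
theorem F6823 : act 2 n1906 = n1906 := d1_2 F5233 D1906 (iv D1906)
theorem F6824 : act 4 n1906 = n1445 := d3_2 (iv F5234) D1906 (iv D1445)
theorem F6825 : act 6 n1906 = n1450 := d5_2 (iv F5235) D1906 (iv D1450)
def n1907 : Q := act 3 n1441
theorem D1907 : act 3 n1441 = n1907 := rfl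
theorem F6826 : act 1 n1907 = n1442 := d8_1 D1907 (iv D1442) D1441
theorem F6827 : act 6 n1907 = n1451 := d20_2 (iv F5235) D1907 (iv D1451)
def n1908 : Q := act 4 n1442
theorem D1908 : act 4 n1442 = n1908 := rfl
theorem F6828 : act 2 n1908 = n1908 := d14_1 D1908 (iv D1908) F5236
theorem F6829 : act 3 n1908 = n1447 := d18_1 D1908 (iv D1447) (iv D1091) (iv F4015) D1442
theorem F6830 : act 6 n1908 = n1452 := d23_2 (iv F5237) D1908 (iv D1452)
def n1909 : Q := act 0 n1443
theorem D1909 : act 0 n1443 = n1909 := rfl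
theorem F6831 : act 2 n1909 = n1909 := d1_2 F5238 D1909 (iv D1909)
theorem F6832 : act 5 n1909 = n1909 := d4_2 F5239 D1909 (iv D1909)
theorem F6833 : act 7 n1909 = n1445 := d6_2 (iv F5240) D1909 (iv D1445)
def n1910 : Q := act 3 n1443
theorem D1910 : act 3 n1443 = n1910 := rfl
theorem F6834 : act 1 n1910 = n1444 := d8_1 D1910 (iv D1444) D1443
theorem F6835 : act 5 n1910 = n1910 := d19_2 F5239 D1910 (iv D1910)
theorem F6836 : act 7 n1910 = n1446 := d21_2 (iv F5240) D1910 (iv D1446)
def n1911 : Q := act 4 n1444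
theorem D1911 : act 4 n1444 = n1911 := rfl
theorem F6837 : act 2 n1911 = n1564 := d14_1 D1911 (iv D1564) (iv F5241)
theorem F6838 : act 7 n1911 = n1447 := d24_2 (iv F5243) D1911 (iv D1447)
def n1912 : Q := act 3 n1445
theorem D1912 : act 3 n1445 = n1912 := rfl
theorem F6839 : act 0 n1912 = n1446 := d2_1 D1912 (iv D1446) D1445
theorem F6840 : act 5 n1912 = n1912 := d19_2 F5245 D1912 (iv D1912)
theorem F6841 : act 6 n1912 = n1453 := d20_2 (iv F5246) D1912 (iv D1453)
def n1913 : Q := act 2 n1446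
theorem D1913 : act 2 n1446 = n1913 := rfl
theorem F6842 : act 1 n1913 = n1566 := d7_1 D1913 (iv D1566) F4336 (iv F4022) (iv F5247)
theorem F6843 : act 3 n1913 = n1913 := d13_2 D1446 D1913 (iv D1913) (iv D1446) F4019
theorem F6844 : act 5 n1913 = n1913 := d15_2 F5248 D1913 (iv D1913)
theorem F6845 : act 6 n1913 = n1913 := d16_2 (iv F5249) D1913 (iv D1913) F5249 F4033
def n1914 : Q := act 4 n1446
theorem D1914 : act 4 n1446 = n1914 := rfl
theorem F6846 : act 1 n1914 = n1447 := d9_1 D1914 (iv D1447) (iv F5247)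
theorem F6847 : act 6 n1914 = n1454 := d23_2 (iv F5249) D1914 (iv D1454)
def n1915 : Q := act 5 n1447
theorem D1915 : act 5 n1447 = n1915 := rfl
theorem F6848 : act 2 n1915 = n1568 := d15_1 D1915 (iv D1568) (iv F5250)
theorem F6849 : act 4 n1915 = n1915 := d22_1 D1915 (iv D1915) (iv D1447) F4023 D1447
theorem F6850 : act 6 n1915 = n1455 := d25_2 (iv F5251) D1915 (iv D1455)
def n1916 : Q := act 0 n1448
theorem D1916 : act 0 n1448 = n1916 := rfl
theorem F6851 : act 2 n1916 = n1456 := d1_2 (iv F5252) D1916 (iv D1456)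
theorem F6852 : act 4 n1916 = n1916 := d3_2 F5253 D1916 (iv D1916)
theorem F6853 : act 5 n1916 = n1450 := d4_2 (iv F5254) D1916 (iv D1450)
def n1917 : Q := act 3 n1448
theorem D1917 : act 3 n1448 = n1917 := rfl
theorem F6854 : act 1 n1917 = n1449 := d8_1 D1917 (iv D1449) D1448
theorem F6855 : act 5 n1917 = n1451 := d19_2 (iv F5254) D1917 (iv D1451)
def n1918 : Q := act 4 n1449
theorem D1918 : act 4 n1449 = n1918 := rfl
theorem F6856 : act 2 n1918 = n1475 := d14_1 D1918 (iv D1475) (iv F5255)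
theorem F6857 : act 3 n1918 = n1918 := d18_1 D1918 (iv D1918) (iv D1449) F4025 D1449
def n1919 : Q := act 3 n1450
theorem D1919 : act 3 n1450 = n1919 := rfl
theorem F6858 : act 0 n1919 = n1451 := d2_1 D1919 (iv D1451) D1450
def n1920 : Q := act 2 n1451
theorem D1920 : act 2 n1451 = n1920 := rfl
theorem F6859 : act 1 n1920 = n1477 := d7_1 D1920 (iv D1477) F4090 (iv F4029) (iv F5259)
theorem F6860 : act 3 n1920 = n1460 := d13_2 D1451 D1920 (iv D1460) (iv D1102) (iv F4027)
def n1921 : Q := act 4 n1451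
theorem D1921 : act 4 n1451 = n1921 := rfl
theorem F6861 : act 1 n1921 = n1452 := d9_1 D1921 (iv D1452) (iv F5259)
theorem F6862 : act 3 n1921 = n1454 := d18_1 D1921 (iv D1454) (iv D1096) (iv F4028) D1451
def n1922 : Q := act 5 n1452
theorem D1922 : act 5 n1452 = n1922 := rfl
theorem F6863 : act 2 n1922 = n1479 := d15_1 D1922 (iv D1479) (iv F5260)
theorem F6864 : act 3 n1922 = n1455 := d19_1 D1922 (iv D1455) (iv F5261)
def n1923 : Q := act 4 n1453
theorem D1923 : act 4 n1453 = n1923 := rfl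
theorem F6865 : act 0 n1923 = n1454 := d3_1 D1923 (iv D1454) (iv F5262)
theorem F6866 : act 2 n1923 = n1923 := d14_1 D1923 (iv D1923) F5263
def n1924 : Q := act 5 n1454
theorem D1924 : act 5 n1454 = n1924 := rfl
theorem F6867 : act 1 n1924 = n1455 := d10_1 D1924 (iv D1455) (iv F5265)
theorem F6868 : act 2 n1924 = n1924 := d15_1 D1924 (iv D1924) F5266
theorem F6869 : act 4 n1924 = n1924 := d22_1 D1924 (iv D1924) (iv D1454) F4034 D1454
def n1925 : Q := act 3 n1456
theorem D1925 : act 3 n1456 = n1925 := rfl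
theorem F6870 : act 0 n1925 = n1457 := d2_1 D1925 (iv D1457) D1456
theorem F6871 : act 1 n1925 = n1925 := d8_1 D1925 (iv D1925) F5269
theorem F6872 : act 5 n1925 = n1459 := d19_2 (iv F5271) D1925 (iv D1459)
theorem F6873 : act 6 n1925 = n1925 := d20_2 F5272 D1925 (iv D1925)
def n1926 : Q := act 2 n1457
theorem D1926 : act 2 n1457 = n1926 := rfl
theorem F6874 : act 1 n1926 = n1483 := d7_1 D1926 (iv D1483) F4108 (iv F4044) (iv F5273)
theorem F6875 : act 5 n1926 = n1460 := d15_2 (iv F5274) D1926 (iv D1460)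
def n1927 : Q := act 4 n1457
theorem D1927 : act 4 n1457 = n1927 := rfl
theorem F6879 : act 6 n1927 = n1927 := d23_2 F5275 D1927 (iv D1927)
def n1928 : Q := act 2 n1459
theorem D1928 : act 2 n1459 = n1928 := rfl
theorem F6880 : act 0 n1928 = n1460 := d1_1 D1928 (iv D1460) (iv F5281)
theorem F6881 : act 4 n1928 = n1928 := d14_2 F5283 D1928 (iv D1928)
def n1929 : Q := act 6 n1460
theorem D1929 : act 6 n1460 = n1929 := rfl
theorem F6882 : act 1 n1929 = n1486 := d11_1 D1929 (iv D1486) (iv F5285)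
theorem F6883 : act 2 n1929 = n1929 := d16_1 D1929 (iv D1929) (iv D1460) F4052 D1460
theorem F6884 : act 4 n1929 = n1929 := d23_1 D1929 (iv D1929) F5286
def n1930 : Q := act 0 n1461
theorem D1930 : act 0 n1461 = n1930 := rfl
theorem F6887 : act 4 n1930 = n1487 := d3_2 (iv F5288) D1930 (iv D1487)
def n1931 : Q := act 3 n1461
theorem D1931 : act 3 n1461 = n1931 := rfl
theorem F6890 : act 1 n1931 = n1462 := d8_1 D1931 (iv D1462) D1461
theorem F6891 : act 5 n1931 = n1464 := d19_2 (iv F5289) D1931 (iv D1464)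
theorem F6892 : act 6 n1931 = n1931 := d20_2 F5290 D1931 (iv D1931)
def n1932 : Q := act 4 n1462
theorem D1932 : act 4 n1462 = n1932 := rfl
theorem F6893 : act 0 n1932 = n1475 := d3_1 D1932 (iv D1475) (iv F5291)
theorem F6894 : act 3 n1932 = n1489 := d18_1 D1932 (iv D1489) (iv D1126) (iv F4054) D1462
theorem F6895 : act 6 n1932 = n1932 := d23_2 F5293 D1932 (iv D1932)
def n1933 : Q := act 3 n1463
theorem D1933 : act 3 n1463 = n1933 := rfl
theorem F6896 : act 0 n1933 = n1464 := d2_1 D1933 (iv D1464) D1463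
theorem F6897 : act 1 n1933 = n1476 := d8_1 D1933 (iv D1476) (iv F5294)
def n1934 : Q := act 2 n1464
theorem D1934 : act 2 n1464 = n1934 := rfl
def n1935 : Q := act 4 n1464
theorem D1935 : act 4 n1464 = n1935 := rfl
theorem F6900 : act 1 n1935 = n1465 := d9_1 D1935 (iv D1465) (iv F5298)
theorem F6901 : act 3 n1935 = n1468 := d18_1 D1935 (iv D1468) (iv D1107) (iv F4058) D1464
def n1936 : Q := act 5 n1465
theorem D1936 : act 5 n1465 = n1936 := rfl
def n1937 : Q := act 2 n1466
theorem D1937 : act 2 n1466 = n1937 := rfl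
def n1938 : Q := act 4 n1466
theorem D1938 : act 4 n1466 = n1938 := rfl
def n1939 : Q := act 4 n1467
theorem D1939 : act 4 n1467 = n1939 := rfl
theorem F6914 : act 2 n1939 = n1468 := d14_1 D1939 (iv D1468) D1467
def n1941 : Q := act 5 n1468
theorem D1941 : act 5 n1468 = n1941 := rfl
def n1946 : Q := act 3 n1473
theorem D1946 : act 3 n1473 = n1946 := rfl
theorem F6935 : act 5 n1946 = n1476 := d19_2 (iv F5328) D1946 (iv D1476)
def n1947 : Q := act 2 n1474
theorem D1947 : act 2 n1474 = n1947 := rfl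
def n1948 : Q := act 4 n1474
theorem D1948 : act 4 n1474 = n1948 := rfl
theorem F6939 : act 1 n1948 = n1475 := d9_1 D1948 (iv D1475) (iv F5330)
theorem F6940 : act 3 n1948 = n1505 := d18_1 D1948 (iv D1505) (iv D1138) (iv F4082) D1474
def n1949 : Q := act 5 n1475
theorem D1949 : act 5 n1475 = n1949 := rfl
theorem F6942 : act 3 n1949 = n1506 := d19_1 D1949 (iv D1506) (iv F5333)
theorem F6943 : act 4 n1949 = n1479 := d22_1 D1949 (iv D1479) (iv D1116) (iv F4085) D1475
def n1950 : Q := act 2 n1476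
theorem D1950 : act 2 n1476 = n1950 := rfl
theorem F6945 : act 0 n1950 = n1477 := d1_1 D1950 (iv D1477) (iv F5335)
def n1951 : Q := act 4 n1476
theorem D1951 : act 4 n1476 = n1951 := rfl
theorem F6948 : act 3 n1951 = n1480 := d18_1 D1951 (iv D1480) (iv D1117) (iv F4088) D1476
def n1952 : Q := act 4 n1477
theorem D1952 : act 4 n1477 = n1952 := rfl
theorem F6950 : act 2 n1952 = n1478 := d14_1 D1952 (iv D1478) D1477
theorem F6951 : act 3 n1952 = n1952 := d18_1 D1952 (iv D1952) F5337 F4119 (iv F5337)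
def n1953 : Q := act 6 n1477
theorem D1953 : act 6 n1477 = n1953 := rfl
theorem F6952 : act 2 n1953 = n1953 := d16_1 D1953 (iv D1953) (iv D1477) F4091 D1477
theorem F6953 : act 3 n1953 = n1486 := d20_1 D1953 (iv D1486) (iv F5337)
def n1954 : Q := act 5 n1478
theorem D1954 : act 5 n1478 = n1954 := rfl
theorem F6955 : act 3 n1954 = n1481 := d19_1 D1954 (iv D1481) (iv F5339)
def n1955 : Q := act 5 n1480
theorem D1955 : act 5 n1480 = n1955 := rfl
def n1956 : Q := act 2 n1482
theorem D1956 : act 2 n1482 = n1956 := rfl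
theorem F6961 : act 0 n1956 = n1483 := d1_1 D1956 (iv D1483) (iv F5350)
def n1957 : Q := act 4 n1482
theorem D1957 : act 4 n1482 = n1957 := rfl
theorem F6963 : act 0 n1957 = n1484 := d3_1 D1957 (iv D1484) (iv F5350)
def n1958 : Q := act 4 n1483
theorem D1958 : act 4 n1483 = n1958 := rfl
theorem F6968 : act 2 n1958 = n1484 := d14_1 D1958 (iv D1484) D1483
def n1959 : Q := act 6 n1483
theorem D1959 : act 6 n1483 = n1959 := rfl
theorem F6971 : act 5 n1959 = n1486 := d25_1 D1959 (iv D1486) (iv F5354)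
def n1960 : Q := act 1 n1485
theorem D1960 : act 1 n1485 = n1960 := rfl
def n1961 : Q := act 6 n1485
theorem D1961 : act 6 n1485 = n1961 := rfl
theorem F6974 : act 0 n1961 = n1486 := d5_1 D1961 (iv D1486) (iv F5359)
theorem F6975 : act 2 n1961 = n1525 := d16_1 D1961 (iv D1525) (iv D1154) (iv F4118) D1485
def n1962 : Q := act 7 n1486
theorem D1962 : act 7 n1486 = n1962 := rfl
theorem F6977 : act 2 n1962 = n1526 := d17_1 D1962 (iv D1526) (iv F5361)
theorem F6978 : act 4 n1962 = n1962 := d24_1 D1962 (iv D1962) F5362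
def n1963 : Q := act 3 n1487
theorem D1963 : act 3 n1487 = n1963 := rfl
theorem F6979 : act 0 n1963 = n1488 := d2_1 D1963 (iv D1488) D1487
theorem F6980 : act 1 n1963 = n1503 := d8_1 D1963 (iv D1503) (iv F5363)
theorem F6981 : act 5 n1963 = n1490 := d19_2 (iv F5365) D1963 (iv D1490)
def n1964 : Q := act 2 n1488
theorem D1964 : act 2 n1488 = n1964 := rfl
theorem F6985 : act 5 n1964 = n1491 := d15_2 (iv F5368) D1964 (iv D1491)
def n1965 : Q := act 4 n1488
theorem D1965 : act 4 n1488 = n1965 := rfl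
def n1966 : Q := act 5 n1489
theorem D1966 : act 5 n1489 = n1966 := rfl
theorem F6990 : act 4 n1966 = n1493 := d22_1 D1966 (iv D1493) (iv D1129) (iv F4125) D1489
def n1967 : Q := act 2 n1490
theorem D1967 : act 2 n1490 = n1967 := rfl
theorem F6992 : act 0 n1967 = n1491 := d1_1 D1967 (iv D1491) (iv F5373)
def n1968 : Q := act 4 n1490
theorem D1968 : act 4 n1490 = n1968 := rfl
theorem F6994 : act 0 n1968 = n1492 := d3_1 D1968 (iv D1492) (iv F5373)
theorem F6996 : act 3 n1968 = n1495 := d18_1 D1968 (iv D1495) (iv D1130) (iv F4129) D1490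
def n1969 : Q := act 4 n1491
theorem D1969 : act 4 n1491 = n1969 := rfl
theorem F6999 : act 2 n1969 = n1492 := d14_1 D1969 (iv D1492) D1491
def n1971 : Q := act 5 n1492
theorem D1971 : act 5 n1492 = n1971 := rfl
theorem F7004 : act 3 n1971 = n1498 := d19_1 D1971 (iv D1498) (iv F5379)
def n1972 : Q := act 4 n1494
theorem D1972 : act 4 n1494 = n1972 := rfl
theorem F7008 : act 2 n1972 = n1495 := d14_1 D1972 (iv D1495) D1494
def n1975 : Q := act 3 n1496
theorem D1975 : act 3 n1496 = n1975 := rfl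
theorem F7016 : act 1 n1975 = n1499 := d8_1 D1975 (iv D1499) (iv F5391)
def n1979 : Q := act 5 n1499
theorem D1979 : act 5 n1499 = n1979 := rfl
def n1980 : Q := act 6 n1499
theorem D1980 : act 6 n1499 = n1980 := rfl
def n1981 : Q := act 6 n1500
theorem D1981 : act 6 n1500 = n1981 := rfl
def n1983 : Q := act 2 n1503
theorem D1983 : act 2 n1503 = n1983 := rfl
theorem F7039 : act 3 n1983 = n1513 := d13_2 D1503 D1983 (iv D1513) (iv D1146) (iv F4156)
def n1984 : Q := act 4 n1503
theorem D1984 : act 4 n1503 = n1984 := rfl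
def n1985 : Q := act 4 n1504
theorem D1985 : act 4 n1504 = n1985 := rfl
theorem F7044 : act 2 n1985 = n1505 := d14_1 D1985 (iv D1505) D1504
def n1988 : Q := act 1 n1507
theorem D1988 : act 1 n1507 = n1988 := rfl
def n1989 : Q := act 4 n1507
theorem D1989 : act 4 n1507 = n1989 := rfl
theorem F7055 : act 2 n1989 = n1508 := d14_1 D1989 (iv D1508) D1507
def n1990 : Q := act 6 n1507
theorem D1990 : act 6 n1507 = n1990 := rfl
theorem F7059 : act 3 n1990 = n1518 := d20_1 D1990 (iv D1518) (iv F5421)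
def n1991 : Q := act 5 n1508
theorem D1991 : act 5 n1508 = n1991 := rfl
theorem F7061 : act 3 n1991 = n1512 := d19_1 D1991 (iv D1512) (iv F5423)
def n1994 : Q := act 7 n1510
theorem D1994 : act 7 n1510 = n1994 := rfl
def n1995 : Q := act 1 n1513
theorem D1995 : act 1 n1513 = n1995 := rfl
def n1996 : Q := act 4 n1513
theorem D1996 : act 4 n1513 = n1996 := rfl
theorem F7076 : act 0 n1996 = n1515 := d3_1 D1996 (iv D1515) (iv F5437)
theorem F7077 : act 2 n1996 = n1514 := d14_1 D1996 (iv D1514) D1513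
def n1997 : Q := act 6 n1513
theorem D1997 : act 6 n1513 = n1997 := rfl
theorem F7080 : act 2 n1997 = n1529 := d16_1 D1997 (iv D1529) (iv D1156) (iv F4183) D1513
def n1998 : Q := act 3 n1515
theorem D1998 : act 3 n1515 = n1998 := rfl
def n1999 : Q := act 6 n1515
theorem D1999 : act 6 n1515 = n1999 := rfl
theorem F7085 : act 2 n1999 = n1531 := d16_1 D1999 (iv D1531) F4222 (iv F4188) (iv F5444)
def n2000 : Q := act 7 n1516
theorem D2000 : act 7 n1516 = n2000 := rfl
theorem F7089 : act 2 n2000 = n1532 := d17_1 D2000 (iv D1532) (iv F5447)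
def n2001 : Q := act 6 n1517
theorem D2001 : act 6 n1517 = n2001 := rfl
theorem F7092 : act 1 n2001 = n1518 := d11_1 D2001 (iv D1518) D1517
def n2002 : Q := act 7 n1518
theorem D2002 : act 7 n1518 = n2002 := rfl
theorem F7095 : act 2 n2002 = n1534 := d17_1 D2002 (iv D1534) (iv F5453)
def n2003 : Q := act 1 n1520
theorem D2003 : act 1 n1520 = n2003 := rfl
theorem F7097 : act 0 n2003 = n2003 := d0_1 D2003 (iv D2003) F5458 F4198 (iv F5458)
theorem F7100 : act 5 n2003 = n1524 := d10_2 (iv F5460) D2003 (iv D1524)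
def n2004 : Q := act 4 n1520
theorem D2004 : act 4 n1520 = n2004 := rfl
theorem F7102 : act 0 n2004 = n1522 := d3_1 D2004 (iv D1522) (iv F5458)
theorem F7103 : act 2 n2004 = n1521 := d14_1 D2004 (iv D1521) D1520
def n2005 : Q := act 6 n1520
theorem D2005 : act 6 n1520 = n2005 := rfl
theorem F7106 : act 0 n2005 = n1523 := d5_1 D2005 (iv D1523) (iv F5458)
theorem F7108 : act 5 n2005 = n1525 := d25_1 D2005 (iv D1525) (iv F5460)
def n2006 : Q := act 3 n1522
theorem D2006 : act 3 n1522 = n2006 := rfl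
theorem F7109 : act 1 n2006 = n2006 := d8_1 D2006 (iv D2006) F5467
theorem F7110 : act 2 n2006 = n1530 := d13_1 D2006 (iv D1530) F4222 (iv F4203) (iv F5468)
def n2007 : Q := act 6 n1522
theorem D2007 : act 6 n1522 = n2007 := rfl
theorem F7114 : act 1 n2007 = n2007 := d11_1 D2007 (iv D2007) F5467
theorem F7115 : act 4 n2007 = n1523 := d23_1 D2007 (iv D1523) D1522
def n2008 : Q := act 7 n1523
theorem D2008 : act 7 n1523 = n2008 := rfl
theorem F7117 : act 1 n2008 = n2008 := d12_1 D2008 (iv D2008) F5471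
theorem F7118 : act 3 n2008 = n2008 := d21_1 D2008 (iv D2008) F5472
theorem F7119 : act 5 n2008 = n1526 := d26_1 D2008 (iv D1526) (iv F5473)
theorem F7120 : act 6 n2008 = n2008 := d27_1 D2008 (iv D2008) (iv D1523) F4201 D1523
def n2009 : Q := act 6 n1524
theorem D2009 : act 6 n1524 = n2009 := rfl
theorem F7121 : act 0 n2009 = n2009 := d5_1 D2009 (iv D2009) F5474
theorem F7122 : act 1 n2009 = n1525 := d11_1 D2009 (iv D1525) D1524
theorem F7123 : act 3 n2009 = n2009 := d20_1 D2009 (iv D2009) F5476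
theorem F7124 : act 4 n2009 = n2009 := d23_1 D2009 (iv D2009) F5477
def n2010 : Q := act 7 n1525
theorem D2010 : act 7 n1525 = n2010 := rfl
theorem F7125 : act 0 n2010 = n1526 := d6_1 D2010 (iv D1526) (iv F5479)
theorem F7126 : act 3 n2010 = n2010 := d21_1 D2010 (iv D2010) F5480
theorem F7127 : act 4 n2010 = n2010 := d24_1 D2010 (iv D2010) F5481
theorem F7128 : act 6 n2010 = n2010 := d27_1 D2010 (iv D2010) (iv D1525) F4209 D1525
def n2011 : Q := act 4 n1527
theorem D2011 : act 4 n1527 = n2011 := rfl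
theorem F7129 : act 0 n2011 = n1535 := d3_1 D2011 (iv D1535) (iv F5486)
theorem F7130 : act 1 n2011 = n1528 := d9_1 D2011 (iv D1528) D1527
def n2012 : Q := act 6 n1527
theorem D2012 : act 6 n1527 = n2012 := rfl
theorem F7134 : act 0 n2012 = n1536 := d5_1 D2012 (iv D1536) (iv F5486)
theorem F7135 : act 1 n2012 = n1529 := d11_1 D2012 (iv D1529) D1527
theorem F7137 : act 5 n2012 = n1533 := d25_1 D2012 (iv D1533) (iv F5489)
def n2013 : Q := act 3 n1528
theorem D2013 : act 3 n1528 = n2013 := rfl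
theorem F7138 : act 0 n2013 = n1530 := d2_1 D2013 (iv D1530) (iv F5491)
def n2014 : Q := act 6 n1528
theorem D2014 : act 6 n1528 = n2014 := rfl
def n2015 : Q := act 7 n1529
theorem D2015 : act 7 n1529 = n2015 := rfl
def n2016 : Q := act 6 n1530
theorem D2016 : act 6 n1530 = n2016 := rfl
theorem F7149 : act 1 n2016 = n1540 := d11_1 D2016 (iv D1540) (iv F5498)
theorem F7150 : act 3 n2016 = n1531 := d20_1 D2016 (iv D1531) D1530
def n2017 : Q := act 7 n1531
theorem D2017 : act 7 n1531 = n2017 := rfl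
theorem F7153 : act 1 n2017 = n1541 := d12_1 D2017 (iv D1541) (iv F5502)
def n2018 : Q := act 2 n1533
theorem D2018 : act 2 n1533 = n2018 := rfl
def n2019 : Q := act 7 n1533
theorem D2019 : act 7 n1533 = n2019 := rfl
theorem F7160 : act 0 n2019 = n1543 := d6_1 D2019 (iv D1543) (iv F5509)
theorem F7161 : act 1 n2019 = n1534 := d12_1 D2019 (iv D1534) (iv F5510)
def n2020 : Q := act 3 n1535
theorem D2020 : act 3 n1535 = n2020 := rfl
theorem F7165 : act 1 n2020 = n1537 := d8_1 D2020 (iv D1537) (iv F5517)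
def n2021 : Q := act 6 n1535
theorem D2021 : act 6 n1535 = n2021 := rfl
def n2023 : Q := act 7 n1536
theorem D2023 : act 7 n1536 = n2023 := rfl
def n2024 : Q := act 6 n1537
theorem D2024 : act 6 n1537 = n2024 := rfl
def n2025 : Q := act 7 n1538
theorem D2025 : act 7 n1538 = n2025 := rfl
theorem F7183 : act 0 n2025 = n1541 := d6_1 D2025 (iv D1541) (iv F5529)
def n2026 : Q := act 2 n1540
theorem D2026 : act 2 n1540 = n2026 := rfl
theorem F7191 : act 6 n2026 = n2026 := d16_2 D1540 D2026 (iv D2026) (iv D1540) F4252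
def n2030 : Q := act 5 n1544
theorem D2030 : act 5 n1544 = n2030 := rfl
theorem F7206 : act 6 n2030 = n1579 := d25_2 (iv F5555) D2030 (iv D1579)
def n2031 : Q := act 7 n1544
theorem D2031 : act 7 n1544 = n2031 := rfl
theorem F7210 : act 4 n2031 = n1545 := d24_1 D2031 (iv D1545) D1544
def n2032 : Q := act 6 n1545
theorem D2032 : act 6 n1545 = n2032 := rfl
def n2040 : Q := act 3 n1550
theorem D2040 : act 3 n1550 = n2040 := rfl
theorem F7244 : act 1 n2040 = n1551 := d8_1 D2040 (iv D1551) D1550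
def n2041 : Q := act 4 n1551
theorem D2041 : act 4 n1551 = n2041 := rfl
def n2055 : Q := act 3 n1562
theorem D2055 : act 3 n1562 = n2055 := rfl
theorem F7297 : act 0 n2055 = n1563 := d2_1 D2055 (iv D1563) D1562
theorem F7300 : act 7 n2055 = n1565 := d21_2 (iv F5625) D2055 (iv D1565)
def n2056 : Q := act 2 n1563
theorem D2056 : act 2 n1563 = n2056 := rfl
theorem F7301 : act 3 n2056 = n2056 := d13_2 D1563 D2056 (iv D2056) (iv D1563) F4324
theorem F7302 : act 5 n2056 = n2056 := d15_2 F5627 D2056 (iv D2056)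
theorem F7303 : act 7 n2056 = n1566 := d17_2 (iv F5629) D2056 (iv D1566)
def n2057 : Q := act 4 n1563
theorem D2057 : act 4 n1563 = n2057 := rfl
theorem F7304 : act 1 n2057 = n1564 := d9_1 D2057 (iv D1564) (iv F5626)
theorem F7305 : act 3 n2057 = n2057 := d18_1 D2057 (iv D2057) (iv D1563) F4325 D1563
theorem F7306 : act 6 n2057 = n2057 := d23_2 F5628 D2057 (iv D2057)
theorem F7307 : act 7 n2057 = n1567 := d24_2 (iv F5629) D2057 (iv D1567)
def n2058 : Q := act 5 n1564
theorem D2058 : act 5 n1564 = n2058 := rfl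
theorem F7311 : act 7 n2058 = n1568 := d26_2 (iv F5632) D2058 (iv D1568)
def n2059 : Q := act 2 n1565
theorem D2059 : act 2 n1565 = n2059 := rfl
theorem F7312 : act 0 n2059 = n1566 := d1_1 D2059 (iv D1566) (iv F5633)
def n2060 : Q := act 4 n1565
theorem D2060 : act 4 n1565 = n2060 := rfl
theorem F7316 : act 0 n2060 = n1567 := d3_1 D2060 (iv D1567) (iv F5633)
def n2061 : Q := act 4 n1566
theorem D2061 : act 4 n1566 = n2061 := rfl
theorem F7319 : act 2 n2061 = n1567 := d14_1 D2061 (iv D1567) D1566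
theorem F7320 : act 6 n2061 = n2061 := d23_2 F5638 D2061 (iv D2061)
def n2126 : Q := act 5 n1622
theorem D2126 : act 5 n1622 = n2126 := rfl
theorem F7565 : act 1 n2126 = n1629 := d10_1 D2126 (iv D1629) (iv F5855)
theorem F7566 : act 3 n2126 = n1623 := d19_1 D2126 (iv D1623) D1622
def n2127 : Q := act 6 n1622
theorem D2127 : act 6 n1622 = n2127 := rfl
theorem F7567 : act 0 n2127 = n1670 := d5_1 D2127 (iv D1670) (iv F5854)
theorem F7568 : act 1 n2127 = n1630 := d11_1 D2127 (iv D1630) (iv F5855)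
theorem F7569 : act 3 n2127 = n1624 := d20_1 D2127 (iv D1624) D1622
def n2128 : Q := act 7 n1622
theorem D2128 : act 7 n1622 = n2128 := rfl
theorem F7571 : act 0 n2128 = n1671 := d6_1 D2128 (iv D1671) (iv F5854)
theorem F7572 : act 1 n2128 = n1631 := d12_1 D2128 (iv D1631) (iv F5855)
theorem F7573 : act 3 n2128 = n1625 := d21_1 D2128 (iv D1625) D1622
def n2129 : Q := act 6 n1623
theorem D2129 : act 6 n1623 = n2129 := rfl
theorem F7576 : act 1 n2129 = n1632 := d11_1 D2129 (iv D1632) (iv F5858)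
theorem F7578 : act 5 n2129 = n1624 := d25_1 D2129 (iv D1624) D1623
def n2130 : Q := act 7 n1623
theorem D2130 : act 7 n1623 = n2130 := rfl
theorem F7579 : act 0 n2130 = n1673 := d6_1 D2130 (iv D1673) (iv F5857)
theorem F7580 : act 1 n2130 = n1633 := d12_1 D2130 (iv D1633) (iv F5858)
theorem F7583 : act 5 n2130 = n1625 := d26_1 D2130 (iv D1625) D1623
def n2131 : Q := act 2 n1624
theorem D2131 : act 2 n1624 = n2131 := rfl
theorem F7584 : act 0 n2131 = n1674 := d1_1 D2131 (iv D1674) (iv F5861)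
theorem F7586 : act 4 n2131 = n1626 := d14_2 (iv F5863) D2131 (iv D1626)
def n2132 : Q := act 7 n1624
theorem D2132 : act 7 n1624 = n2132 := rfl
theorem F7588 : act 0 n2132 = n1675 := d6_1 D2132 (iv D1675) (iv F5861)
theorem F7589 : act 1 n2132 = n1634 := d12_1 D2132 (iv D1634) (iv F5862)
theorem F7590 : act 4 n2132 = n1627 := d24_1 D2132 (iv D1627) (iv F5863)
def n2133 : Q := act 6 n1625
theorem D2133 : act 6 n1625 = n2133 := rfl
theorem F7591 : act 0 n2133 = n1676 := d5_1 D2133 (iv D1676) (iv F5864)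
theorem F7592 : act 1 n2133 = n1635 := d11_1 D2133 (iv D1635) (iv F5865)
theorem F7593 : act 4 n2133 = n1628 := d23_1 D2133 (iv D1628) (iv F5867)
def n2134 : Q := act 3 n1626
theorem D2134 : act 3 n1626 = n2134 := rfl
theorem F7594 : act 0 n2134 = n1677 := d2_1 D2134 (iv D1677) (iv F5868)
def n2135 : Q := act 7 n1626
theorem D2135 : act 7 n1626 = n2135 := rfl
theorem F7599 : act 0 n2135 = n1678 := d6_1 D2135 (iv D1678) (iv F5868)
theorem F7601 : act 2 n2135 = n1627 := d17_1 D2135 (iv D1627) D1626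
def n2136 : Q := act 6 n1627
theorem D2136 : act 6 n1627 = n2136 := rfl
theorem F7603 : act 0 n2136 = n1679 := d5_1 D2136 (iv D1679) (iv F5872)
theorem F7604 : act 1 n2136 = n1636 := d11_1 D2136 (iv D1636) (iv F5873)
theorem F7605 : act 3 n2136 = n2136 := d20_1 D2136 (iv D2136) F5874
theorem F7606 : act 5 n2136 = n2136 := d25_1 D2136 (iv D2136) F5875
theorem F7607 : act 7 n2136 = n1628 := d27_2 D1627 D2136 (iv D1628) (iv D1236) D1235
def n2137 : Q := act 2 n1628
theorem D2137 : act 2 n1628 = n2137 := rfl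
theorem F7608 : act 0 n2137 = n1680 := d1_1 D2137 (iv D1680) (iv F5876)
theorem F7609 : act 5 n2137 = n2137 := d15_2 F5879 D2137 (iv D2137)
theorem F7610 : act 6 n2137 = n2137 := d16_2 D1628 D2137 (iv D2137) (iv D1628) F4530
def n2139 : Q := act 6 n1629
theorem D2139 : act 6 n1629 = n2139 := rfl
theorem F7616 : act 3 n2139 = n1632 := d20_1 D2139 (iv D1632) (iv F5882)
def n2140 : Q := act 7 n1629
theorem D2140 : act 7 n1629 = n2140 := rfl
theorem F7618 : act 0 n2140 = n1646 := d6_1 D2140 (iv D1646) (iv F5880)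
theorem F7620 : act 3 n2140 = n1633 := d21_1 D2140 (iv D1633) (iv F5882)
theorem F7621 : act 5 n2140 = n1631 := d26_1 D2140 (iv D1631) D1629
def n2141 : Q := act 2 n1630
theorem D2141 : act 2 n1630 = n2141 := rfl
theorem F7622 : act 0 n2141 = n1647 := d1_1 D2141 (iv D1647) (iv F5883)
theorem F7623 : act 3 n2141 = n2141 := d13_2 (iv F5884) D2141 (iv D2141) F5884 F4540
def n2142 : Q := act 7 n1630
theorem D2142 : act 7 n1630 = n2142 := rfl
theorem F7626 : act 0 n2142 = n1648 := d6_1 D2142 (iv D1648) (iv F5883)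
theorem F7627 : act 3 n2142 = n1634 := d21_1 D2142 (iv D1634) (iv F5884)
def n2143 : Q := act 6 n1631
theorem D2143 : act 6 n1631 = n2143 := rfl
theorem F7629 : act 0 n2143 = n1649 := d5_1 D2143 (iv D1649) (iv F5886)
theorem F7630 : act 3 n2143 = n1635 := d20_1 D2143 (iv D1635) (iv F5888)
theorem F7631 : act 4 n2143 = n2143 := d23_1 D2143 (iv D2143) F5889
def n2144 : Q := act 7 n1632
theorem D2144 : act 7 n1632 = n2144 := rfl
theorem F7632 : act 0 n2144 = n1650 := d6_1 D2144 (iv D1650) (iv F5890)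
theorem F7635 : act 5 n2144 = n1634 := d26_1 D2144 (iv D1634) (iv F5893)
def n2145 : Q := act 6 n1633
theorem D2145 : act 6 n1633 = n2145 := rfl
theorem F7636 : act 0 n2145 = n1651 := d5_1 D2145 (iv D1651) (iv F5894)
theorem F7637 : act 4 n2145 = n2145 := d23_1 D2145 (iv D2145) F5896
theorem F7638 : act 5 n2145 = n1635 := d25_1 D2145 (iv D1635) (iv F5897)
def n2146 : Q := act 6 n1634
theorem D2146 : act 6 n1634 = n2146 := rfl
theorem F7639 : act 0 n2146 = n1652 := d5_1 D2146 (iv D1652) (iv F5898)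
theorem F7640 : act 4 n2146 = n1636 := d23_1 D2146 (iv D1636) (iv F5900)
theorem F7641 : act 7 n2146 = n1635 := d27_2 D1634 D2146 (iv D1635) (iv D1240) D1239
def n2147 : Q := act 2 n1635
theorem D2147 : act 2 n1635 = n2147 := rfl
theorem F7642 : act 0 n2147 = n1653 := d1_1 D2147 (iv D1653) (iv F5901)
theorem F7643 : act 4 n2147 = n1637 := d14_2 (iv F5902) D2147 (iv D1637)
theorem F7644 : act 6 n2147 = n1639 := d16_2 D1635 D2147 (iv D1639) (iv D1244) (iv F4543)
def n2148 : Q := act 2 n1636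
theorem D2148 : act 2 n1636 = n2148 := rfl
theorem F7645 : act 0 n2148 = n1654 := d1_1 D2148 (iv D1654) (iv F5903)
theorem F7646 : act 5 n2148 = n2148 := d15_2 F5905 D2148 (iv D2148)
theorem F7647 : act 6 n2148 = n2148 := d16_2 D1636 D2148 (iv D2148) (iv D1636) F4546
theorem F7648 : act 7 n2148 = n1637 := d17_2 (iv F5906) D2148 (iv D1637)
def n2149 : Q := act 1 n1637
theorem D2149 : act 1 n1637 = n2149 := rfl
theorem F7649 : act 5 n2149 = n2149 := d10_2 F5908 D2149 (iv D2149)
theorem F7650 : act 6 n2149 = n1640 := d11_2 (iv F5909) D2149 (iv D1640)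
def n2150 : Q := act 3 n1637
theorem D2150 : act 3 n1637 = n2150 := rfl
theorem F7651 : act 0 n2150 = n1656 := d2_1 D2150 (iv D1656) (iv F5907)
theorem F7652 : act 2 n2150 = n2150 := d13_1 D2150 (iv D2150) (iv D1637) F4550 D1637
theorem F7653 : act 5 n2150 = n2150 := d19_2 F5908 D2150 (iv D2150)
theorem F7654 : act 6 n2150 = n1641 := d20_2 (iv F5909) D2150 (iv D1641)
def n2151 : Q := act 2 n1638
theorem D2151 : act 2 n1638 = n2151 := rfl
theorem F7655 : act 0 n2151 = n1657 := d1_1 D2151 (iv D1657) (iv F5910)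
theorem F7656 : act 4 n2151 = n2151 := d14_2 F5913 D2151 (iv D2151)
theorem F7657 : act 5 n2151 = n1639 := d15_2 (iv F5914) D2151 (iv D1639)
theorem F7658 : act 7 n2151 = n2151 := d17_2 F5915 D2151 (iv D2151)
def n2152 : Q := act 1 n1639
theorem D2152 : act 1 n1639 = n2152 := rfl
theorem F7659 : act 2 n2152 = n2152 := d7_2 D1639 D2152 (iv D2152) (iv D1639) F4558
theorem F7660 : act 4 n2152 = n1640 := d9_2 (iv F5917) D2152 (iv D1640)
theorem F7661 : act 7 n2152 = n2152 := d12_2 F5918 D2152 (iv D2152)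
def n2153 : Q := act 3 n1639
theorem D2153 : act 3 n1639 = n2153 := rfl
theorem F7662 : act 0 n2153 = n1659 := d2_1 D2153 (iv D1659) (iv F5916)
theorem F7663 : act 2 n2153 = n2153 := d13_1 D2153 (iv D2153) (iv D1639) F4559 D1639
theorem F7664 : act 7 n2153 = n2153 := d21_2 F5918 D2153 (iv D2153)
def n2154 : Q := act 0 n1640
theorem D2154 : act 0 n1640 = n2154 := rfl
theorem F7665 : act 1 n2154 = n1660 := d0_2 D1640 D2154 (iv D1660) (iv D1259) (iv F4562)
theorem F7666 : act 2 n2154 = n2154 := d1_2 F5919 D2154 (iv D2154)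
theorem F7667 : act 5 n2154 = n2154 := d4_2 F5920 D2154 (iv D2154)
theorem F7668 : act 7 n2154 = n2154 := d6_2 F5921 D2154 (iv D2154)
def n2155 : Q := act 3 n1640
theorem D2155 : act 3 n1640 = n2155 := rfl
theorem F7669 : act 1 n2155 = n1641 := d8_1 D2155 (iv D1641) D1640
theorem F7670 : act 5 n2155 = n2155 := d19_2 F5920 D2155 (iv D2155)
theorem F7671 : act 7 n2155 = n2155 := d21_2 F5921 D2155 (iv D2155)
def n2156 : Q := act 4 n1641
theorem D2156 : act 4 n1641 = n2156 := rfl
theorem F7672 : act 0 n2156 = n1662 := d3_1 D2156 (iv D1662) (iv F5922)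
theorem F7673 : act 2 n2156 = n1643 := d14_1 D2156 (iv D1643) (iv F5923)
theorem F7674 : act 7 n2156 = n2156 := d24_2 F5925 D2156 (iv D2156)
def n2157 : Q := act 2 n1642
theorem D2157 : act 2 n1642 = n2157 := rfl
theorem F7675 : act 0 n2157 = n2157 := d1_1 D2157 (iv D2157) F5926
theorem F7676 : act 3 n2157 = n2157 := d13_2 D1642 D2157 (iv D2157) (iv D1642) F4566
theorem F7677 : act 5 n2157 = n2157 := d15_2 F5928 D2157 (iv D2157)
theorem F7678 : act 7 n2157 = n2157 := d17_2 F5930 D2157 (iv D2157)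
def n2158 : Q := act 4 n1642
theorem D2158 : act 4 n1642 = n2158 := rfl
theorem F7679 : act 0 n2158 = n2158 := d3_1 D2158 (iv D2158) F5926
theorem F7680 : act 1 n2158 = n1643 := d9_1 D2158 (iv D1643) (iv F5927)
theorem F7681 : act 3 n2158 = n2158 := d18_1 D2158 (iv D2158) (iv D1642) F4567 D1642
theorem F7682 : act 6 n2158 = n2158 := d23_2 F5929 D2158 (iv D2158)
theorem F7683 : act 7 n2158 = n2158 := d24_2 F5930 D2158 (iv D2158)
def n2159 : Q := act 5 n1643
theorem D2159 : act 5 n1643 = n2159 := rfl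
theorem F7684 : act 0 n2159 = n1663 := d4_1 D2159 (iv D1663) (iv F5931)
theorem F7685 : act 3 n2159 = n2159 := d19_1 D2159 (iv D2159) F5932
theorem F7686 : act 4 n2159 = n2159 := d22_1 D2159 (iv D2159) (iv D1643) F4572 D1643
theorem F7687 : act 6 n2159 = n2159 := d25_2 F5933 D2159 (iv D2159)
theorem F7688 : act 7 n2159 = n2159 := d26_2 F5934 D2159 (iv D2159)
def n2163 : Q := act 7 n1645
theorem D2163 : act 7 n1645 = n2163 := rfl
theorem F7704 : act 5 n2163 = n1648 := d26_1 D2163 (iv D1648) (iv F5941)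
def n2164 : Q := act 6 n1646
theorem D2164 : act 6 n1646 = n2164 := rfl
theorem F7705 : act 1 n2164 = n1705 := d11_1 D2164 (iv D1705) (iv F5942)
theorem F7706 : act 3 n2164 = n1651 := d20_1 D2164 (iv D1651) (iv F5944)
theorem F7707 : act 5 n2164 = n1649 := d25_1 D2164 (iv D1649) (iv F5945)
def n2165 : Q := act 7 n1647
theorem D2165 : act 7 n1647 = n2165 := rfl
theorem F7708 : act 1 n2165 = n2165 := d12_1 D2165 (iv D2165) F5946
theorem F7709 : act 2 n2165 = n1648 := d17_1 D2165 (iv D1648) D1647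
def n2166 : Q := act 6 n1648
theorem D2166 : act 6 n1648 = n2166 := rfl
theorem F7712 : act 1 n2166 = n1706 := d11_1 D2166 (iv D1706) (iv F5950)
theorem F7713 : act 3 n2166 = n1652 := d20_1 D2166 (iv D1652) (iv F5951)
theorem F7714 : act 4 n2166 = n2166 := d23_1 D2166 (iv D2166) F5952
theorem F7715 : act 7 n2166 = n1649 := d27_2 D1648 D2166 (iv D1649) (iv D1250) D1249
def n2167 : Q := act 2 n1649
theorem D2167 : act 2 n1649 = n2167 := rfl
theorem F7716 : act 4 n2167 = n2167 := d14_2 F5955 D2167 (iv D2167)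
theorem F7717 : act 6 n2167 = n2167 := d16_2 D1649 D2167 (iv D2167) (iv D1649) F4582
def n2168 : Q := act 6 n1650
theorem D2168 : act 6 n1650 = n2168 := rfl
theorem F7718 : act 1 n2168 = n1708 := d11_1 D2168 (iv D1708) (iv F5956)
theorem F7720 : act 5 n2168 = n1652 := d25_1 D2168 (iv D1652) (iv F5959)
theorem F7721 : act 7 n2168 = n1651 := d27_2 D1650 D2168 (iv D1651) (iv D1252) D1251
def n2169 : Q := act 2 n1651
theorem D2169 : act 2 n1651 = n2169 := rfl
theorem F7722 : act 4 n2169 = n2169 := d14_2 F5961 D2169 (iv D2169)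
theorem F7723 : act 5 n2169 = n1653 := d15_2 (iv F5962) D2169 (iv D1653)
theorem F7724 : act 6 n2169 = n1657 := d16_2 D1651 D2169 (iv D1657) (iv D1257) (iv F4590)
def n2170 : Q := act 2 n1652
theorem D2170 : act 2 n1652 = n2170 := rfl
theorem F7725 : act 4 n2170 = n1654 := d14_2 (iv F5964) D2170 (iv D1654)
theorem F7726 : act 6 n2170 = n2170 := d16_2 D1652 D2170 (iv D2170) (iv D1652) F4594
theorem F7727 : act 7 n2170 = n1653 := d17_2 (iv F5965) D2170 (iv D1653)
def n2171 : Q := act 1 n1653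
theorem D2171 : act 1 n1653 = n2171 := rfl
theorem F7728 : act 2 n2171 = n1711 := d7_2 D1653 D2171 (iv D1711) (iv D1296) (iv F4596)
theorem F7729 : act 4 n2171 = n1655 := d9_2 (iv F5966) D2171 (iv D1655)
theorem F7730 : act 6 n2171 = n1658 := d11_2 (iv F5967) D2171 (iv D1658)
def n2172 : Q := act 3 n1653
theorem D2172 : act 3 n1653 = n2172 := rfl
theorem F7731 : act 6 n2172 = n1659 := d20_2 (iv F5967) D2172 (iv D1659)
def n2173 : Q := act 1 n1654
theorem D2173 : act 1 n1654 = n2173 := rfl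
theorem F7732 : act 2 n2173 = n1713 := d7_2 D1654 D2173 (iv D1713) (iv D1297) (iv F4598)
theorem F7733 : act 5 n2173 = n2173 := d10_2 F5968 D2173 (iv D2173)
theorem F7734 : act 6 n2173 = n2173 := d11_2 F5969 D2173 (iv D2173)
theorem F7735 : act 7 n2173 = n1655 := d12_2 (iv F5970) D2173 (iv D1655)
def n2174 : Q := act 3 n1654
theorem D2174 : act 3 n1654 = n2174 := rfl
theorem F7736 : act 2 n2174 = n2174 := d13_1 D2174 (iv D2174) (iv D1654) F4599 D1654
theorem F7737 : act 5 n2174 = n2174 := d19_2 F5968 D2174 (iv D2174)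
theorem F7738 : act 6 n2174 = n2174 := d20_2 F5969 D2174 (iv D2174)
theorem F7739 : act 7 n2174 = n1656 := d21_2 (iv F5970) D2174 (iv D1656)
def n2175 : Q := act 0 n1655
theorem D2175 : act 0 n1655 = n2175 := rfl
theorem F7740 : act 2 n2175 = n1715 := d1_2 (iv F5971) D2175 (iv D1715)
theorem F7741 : act 5 n2175 = n2175 := d4_2 F5972 D2175 (iv D2175)
theorem F7742 : act 6 n2175 = n1660 := d5_2 (iv F5973) D2175 (iv D1660)
def n2176 : Q := act 3 n1655
theorem D2176 : act 3 n1655 = n2176 := rfl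
theorem F7743 : act 1 n2176 = n1656 := d8_1 D2176 (iv D1656) D1655
theorem F7744 : act 5 n2176 = n2176 := d19_2 F5972 D2176 (iv D2176)
theorem F7745 : act 6 n2176 = n1661 := d20_2 (iv F5973) D2176 (iv D1661)
def n2177 : Q := act 4 n1656
theorem D2177 : act 4 n1656 = n2177 := rfl
theorem F7746 : act 2 n2177 = n2177 := d14_1 D2177 (iv D2177) F5974
theorem F7747 : act 6 n2177 = n1662 := d23_2 (iv F5976) D2177 (iv D1662)
def n2178 : Q := act 1 n1657
theorem D2178 : act 1 n1657 = n2178 := rfl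
theorem F7748 : act 2 n2178 = n1664 := d7_2 D1657 D2178 (iv D1664) (iv D1262) (iv F4604)
theorem F7749 : act 4 n2178 = n2178 := d9_2 F5977 D2178 (iv D2178)
theorem F7750 : act 5 n2178 = n1658 := d10_2 (iv F5978) D2178 (iv D1658)
theorem F7751 : act 7 n2178 = n2178 := d12_2 F5979 D2178 (iv D2178)
def n2179 : Q := act 3 n1657
theorem D2179 : act 3 n1657 = n2179 := rfl
theorem F7752 : act 2 n2179 = n2179 := d13_1 D2179 (iv D2179) (iv D1657) F4605 D1657
theorem F7753 : act 5 n2179 = n1659 := d19_2 (iv F5978) D2179 (iv D1659)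
theorem F7754 : act 7 n2179 = n2179 := d21_2 F5979 D2179 (iv D2179)
def n2180 : Q := act 0 n1658
theorem D2180 : act 0 n1658 = n2180 := rfl
theorem F7755 : act 2 n2180 = n1666 := d1_2 (iv F5980) D2180 (iv D1666)
theorem F7756 : act 4 n2180 = n1660 := d3_2 (iv F5981) D2180 (iv D1660)
theorem F7757 : act 7 n2180 = n2180 := d6_2 F5982 D2180 (iv D2180)
def n2181 : Q := act 3 n1658
theorem D2181 : act 3 n1658 = n2181 := rfl
theorem F7758 : act 1 n2181 = n1659 := d8_1 D2181 (iv D1659) D1658
theorem F7759 : act 7 n2181 = n2181 := d21_2 F5982 D2181 (iv D2181)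
def n2182 : Q := act 4 n1659
theorem D2182 : act 4 n1659 = n2182 := rfl
theorem F7760 : act 2 n2182 = n2182 := d14_1 D2182 (iv D2182) F5983
theorem F7761 : act 3 n2182 = n1662 := d18_1 D2182 (iv D1662) (iv D1260) (iv F4609) D1659
theorem F7762 : act 7 n2182 = n2182 := d24_2 F5984 D2182 (iv D2182)
def n2183 : Q := act 3 n1660
theorem D2183 : act 3 n1660 = n2183 := rfl
theorem F7763 : act 0 n2183 = n1661 := d2_1 D2183 (iv D1661) D1660
theorem F7764 : act 2 n2183 = n2183 := d13_1 D2183 (iv D2183) F5985 F4635 (iv F5985)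
theorem F7765 : act 5 n2183 = n2183 := d19_2 F5986 D2183 (iv D2183)
theorem F7766 : act 7 n2183 = n2183 := d21_2 F5987 D2183 (iv D2183)
def n2184 : Q := act 4 n1661
theorem D2184 : act 4 n1661 = n2184 := rfl
theorem F7767 : act 1 n2184 = n1662 := d9_1 D2184 (iv D1662) (iv F5988)
theorem F7768 : act 2 n2184 = n2184 := d14_1 D2184 (iv D2184) F5989
theorem F7769 : act 7 n2184 = n2184 := d24_2 F5991 D2184 (iv D2184)
def n2185 : Q := act 5 n1662
theorem D2185 : act 5 n1662 = n2185 := rfl
theorem F7770 : act 2 n2185 = n1663 := d15_1 D2185 (iv D1663) (iv F5992)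
theorem F7771 : act 4 n2185 = n2185 := d22_1 D2185 (iv D2185) (iv D1662) F4615 D1662
theorem F7772 : act 7 n2185 = n2185 := d26_2 F5993 D2185 (iv D2185)
def n2186 : Q := act 0 n1664
theorem D2186 : act 0 n1664 = n2186 := rfl
theorem F7773 : act 1 n2186 = n2186 := d0_2 D1664 D2186 (iv D2186) (iv D1664) F4621
theorem F7774 : act 4 n2186 = n2186 := d3_2 F5999 D2186 (iv D2186)
theorem F7775 : act 5 n2186 = n1666 := d4_2 (iv F6000) D2186 (iv D1666)
theorem F7776 : act 6 n2186 = n1726 := d5_2 (iv F6001) D2186 (iv D1726)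
theorem F7777 : act 7 n2186 = n2186 := d6_2 F6002 D2186 (iv D2186)
def n2187 : Q := act 3 n1664
theorem D2187 : act 3 n1664 = n2187 := rfl
theorem F7778 : act 1 n2187 = n1665 := d8_1 D2187 (iv D1665) D1664
theorem F7779 : act 5 n2187 = n1667 := d19_2 (iv F6000) D2187 (iv D1667)
theorem F7780 : act 6 n2187 = n1727 := d20_2 (iv F6001) D2187 (iv D1727)
theorem F7781 : act 7 n2187 = n2187 := d21_2 F6002 D2187 (iv D2187)
def n2188 : Q := act 4 n1665
theorem D2188 : act 4 n1665 = n2188 := rfl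
theorem F7782 : act 0 n2188 = n2188 := d3_1 D2188 (iv D2188) F6003
theorem F7783 : act 2 n2188 = n2188 := d14_1 D2188 (iv D2188) F6004
theorem F7784 : act 3 n2188 = n2188 := d18_1 D2188 (iv D2188) (iv D1665) F4622 D1665
theorem F7785 : act 5 n2188 = n2188 := d22_2 (iv F6005) D2188 (iv D2188) F6005 F4631
theorem F7786 : act 6 n2188 = n1728 := d23_2 (iv F6006) D2188 (iv D1728)
theorem F7787 : act 7 n2188 = n2188 := d24_2 F6007 D2188 (iv D2188)
def n2189 : Q := act 3 n1666
theorem D2189 : act 3 n1666 = n2189 := rfl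
theorem F7788 : act 0 n2189 = n1667 := d2_1 D2189 (iv D1667) D1666
theorem F7789 : act 1 n2189 = n2189 := d8_1 D2189 (iv D2189) F6008
theorem F7790 : act 4 n2189 = n2189 := d18_2 (iv F6009) D2189 (iv D2189) F6009 F4635
theorem F7791 : act 6 n2189 = n1729 := d20_2 (iv F6010) D2189 (iv D1729)
theorem F7792 : act 7 n2189 = n2189 := d21_2 F6011 D2189 (iv D2189)
def n2190 : Q := act 2 n1667
theorem D2190 : act 2 n1667 = n2190 := rfl
theorem F7793 : act 1 n2190 = n2190 := d7_1 D2190 (iv D2190) F6012 F4630 (iv F6012)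
theorem F7794 : act 4 n2190 = n2190 := d14_2 F6013 D2190 (iv D2190)
theorem F7795 : act 7 n2190 = n2190 := d17_2 F6015 D2190 (iv D2190)
def n2191 : Q := act 5 n1668
theorem D2191 : act 5 n1668 = n2191 := rfl
theorem F7796 : act 1 n2191 = n1731 := d10_1 D2191 (iv D1731) (iv F6016)
theorem F7797 : act 2 n2191 = n1669 := d15_1 D2191 (iv D1669) D1668
def n2193 : Q := act 7 n1668
theorem D2193 : act 7 n1668 = n2193 := rfl
theorem F7802 : act 1 n2193 = n1733 := d12_1 D2193 (iv D1733) (iv F6016)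
theorem F7803 : act 2 n2193 = n1671 := d17_1 D2193 (iv D1671) D1668
def n2194 : Q := act 4 n1669
theorem D2194 : act 4 n1669 = n2194 := rfl
theorem F7806 : act 1 n2194 = n1681 := d9_1 D2194 (iv D1681) (iv F6019)
def n2195 : Q := act 6 n1669
theorem D2195 : act 6 n1669 = n2195 := rfl
theorem F7809 : act 1 n2195 = n1682 := d11_1 D2195 (iv D1682) (iv F6019)
theorem F7810 : act 3 n2195 = n1672 := d20_1 D2195 (iv D1672) (iv F6020)
theorem F7811 : act 5 n2195 = n1670 := d25_1 D2195 (iv D1670) D1669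
def n2196 : Q := act 7 n1669
theorem D2196 : act 7 n1669 = n2196 := rfl
theorem F7812 : act 1 n2196 = n1683 := d12_1 D2196 (iv D1683) (iv F6019)
theorem F7813 : act 3 n2196 = n1673 := d21_1 D2196 (iv D1673) (iv F6020)
theorem F7814 : act 5 n2196 = n1671 := d26_1 D2196 (iv D1671) D1669
def n2197 : Q := act 2 n1670
theorem D2197 : act 2 n1670 = n2197 := rfl
def n2198 : Q := act 7 n1670
theorem D2198 : act 7 n1670 = n2198 := rfl
theorem F7817 : act 1 n2198 = n1684 := d12_1 D2198 (iv D1684) (iv F6021)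
theorem F7818 : act 3 n2198 = n1675 := d21_1 D2198 (iv D1675) (iv F6022)
def n2199 : Q := act 6 n1671
theorem D2199 : act 6 n1671 = n2199 := rfl
theorem F7820 : act 1 n2199 = n1685 := d11_1 D2199 (iv D1685) (iv F6024)
theorem F7821 : act 3 n2199 = n1676 := d20_1 D2199 (iv D1676) (iv F6025)
theorem F7822 : act 4 n2199 = n2199 := d23_1 D2199 (iv D2199) F6026
def n2200 : Q := act 2 n1672
theorem D2200 : act 2 n1672 = n2200 := rfl
theorem F7823 : act 1 n2200 = n1866 := d7_1 D2200 (iv D1866) F5138 (iv F4670) (iv F6027)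
theorem F7825 : act 5 n2200 = n1674 := d15_2 (iv F6029) D2200 (iv D1674)
def n2201 : Q := act 7 n1672
theorem D2201 : act 7 n1672 = n2201 := rfl
theorem F7829 : act 5 n2201 = n1675 := d26_1 D2201 (iv D1675) (iv F6029)
def n2202 : Q := act 6 n1673
theorem D2202 : act 6 n1673 = n2202 := rfl
theorem F7830 : act 1 n2202 = n1687 := d11_1 D2202 (iv D1687) (iv F6030)
theorem F7831 : act 4 n2202 = n2202 := d23_1 D2202 (iv D2202) F6032
theorem F7832 : act 5 n2202 = n1676 := d25_1 D2202 (iv D1676) (iv F6033)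
def n2203 : Q := act 3 n1674
theorem D2203 : act 3 n1674 = n2203 := rfl
theorem F7833 : act 1 n2203 = n1869 := d8_1 D2203 (iv D1869) (iv F6034)
def n2204 : Q := act 7 n1674
theorem D2204 : act 7 n1674 = n2204 := rfl
theorem F7835 : act 1 n2204 = n1870 := d12_1 D2204 (iv D1870) (iv F6034)
theorem F7836 : act 2 n2204 = n1675 := d17_1 D2204 (iv D1675) D1674
theorem F7837 : act 4 n2204 = n1678 := d24_1 D2204 (iv D1678) (iv F6035)
def n2205 : Q := act 6 n1675
theorem D2205 : act 6 n1675 = n2205 := rfl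
theorem F7838 : act 1 n2205 = n1688 := d11_1 D2205 (iv D1688) (iv F6037)
theorem F7839 : act 4 n2205 = n1679 := d23_1 D2205 (iv D1679) (iv F6038)
theorem F7840 : act 7 n2205 = n1676 := d27_2 D1675 D2205 (iv D1676) (iv D1269) D1268
def n2206 : Q := act 2 n1676
theorem D2206 : act 2 n1676 = n2206 := rfl
theorem F7841 : act 4 n2206 = n1680 := d14_2 (iv F6040) D2206 (iv D1680)
theorem F7842 : act 6 n2206 = n2206 := d16_2 D1676 D2206 (iv D2206) (iv D1676) F4647
def n2207 : Q := act 4 n1677
theorem D2207 : act 4 n1677 = n2207 := rfl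
def n2208 : Q := act 7 n1677
theorem D2208 : act 7 n1677 = n2208 := rfl
theorem F7848 : act 3 n2208 = n1678 := d21_1 D2208 (iv D1678) D1677
def n2209 : Q := act 6 n1678
theorem D2209 : act 6 n1678 = n2209 := rfl
theorem F7850 : act 1 n2209 = n1875 := d11_1 D2209 (iv D1875) (iv F6045)
theorem F7851 : act 5 n2209 = n2209 := d25_1 D2209 (iv D2209) F6047
theorem F7852 : act 7 n2209 = n2209 := d27_2 D1678 D2209 (iv D2209) (iv D1678) F4651
def n2210 : Q := act 2 n1679
theorem D2210 : act 2 n1679 = n2210 := rfl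
theorem F7853 : act 5 n2210 = n2210 := d15_2 F6050 D2210 (iv D2210)
theorem F7854 : act 7 n2210 = n1680 := d17_2 (iv F6051) D2210 (iv D1680)
def n2211 : Q := act 1 n1680
theorem D2211 : act 1 n1680 = n2211 := rfl
theorem F7855 : act 2 n2211 = n1691 := d7_2 D1680 D2211 (iv D1691) (iv D1281) (iv F4655)
theorem F7856 : act 5 n2211 = n2211 := d10_2 F6052 D2211 (iv D2211)
theorem F7857 : act 6 n2211 = n2211 := d11_2 F6053 D2211 (iv D2211)
def n2212 : Q := act 3 n1680
theorem D2212 : act 3 n1680 = n2212 := rfl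
theorem F7858 : act 2 n2212 = n2212 := d13_1 D2212 (iv D2212) (iv D1680) F4656 D1680
theorem F7859 : act 5 n2212 = n2212 := d19_2 F6052 D2212 (iv D2212)
theorem F7860 : act 6 n2212 = n2212 := d20_2 F6053 D2212 (iv D2212)
def n2213 : Q := act 6 n1681
theorem D2213 : act 6 n1681 = n2213 := rfl
theorem F7861 : act 0 n2213 = n1702 := d5_1 D2213 (iv D1702) (iv F6054)
def n2214 : Q := act 7 n1681
theorem D2214 : act 7 n1681 = n2214 := rfl
theorem F7867 : act 2 n2214 = n1741 := d17_1 D2214 (iv D1741) (iv F6055)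
def n2215 : Q := act 7 n1682
theorem D2215 : act 7 n1682 = n2215 := rfl
theorem F7871 : act 0 n2215 = n1704 := d6_1 D2215 (iv D1704) (iv F6058)
theorem F7873 : act 3 n2215 = n1686 := d21_1 D2215 (iv D1686) (iv F6060)
def n2216 : Q := act 6 n1683
theorem D2216 : act 6 n1683 = n2216 := rfl
theorem F7875 : act 0 n2216 = n1705 := d5_1 D2216 (iv D1705) (iv F6062)
theorem F7876 : act 3 n2216 = n1687 := d20_1 D2216 (iv D1687) (iv F6064)
theorem F7877 : act 5 n2216 = n1685 := d25_1 D2216 (iv D1685) (iv F6065)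
def n2217 : Q := act 6 n1684
theorem D2217 : act 6 n1684 = n2217 := rfl
theorem F7878 : act 0 n2217 = n1706 := d5_1 D2217 (iv D1706) (iv F6066)
theorem F7879 : act 3 n2217 = n1688 := d20_1 D2217 (iv D1688) (iv F6068)
theorem F7881 : act 7 n2217 = n1685 := d27_2 D1684 D2217 (iv D1685) (iv D1275) D1274
def n2218 : Q := act 2 n1685
theorem D2218 : act 2 n1685 = n2218 := rfl
theorem F7882 : act 0 n2218 = n1707 := d1_1 D2218 (iv D1707) (iv F6070)
theorem F7883 : act 4 n2218 = n2218 := d14_2 F6072 D2218 (iv D2218)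
theorem F7884 : act 6 n2218 = n1743 := d16_2 D1685 D2218 (iv D1743) (iv D1319) (iv F4666)
def n2219 : Q := act 6 n1686
theorem D2219 : act 6 n1686 = n2219 := rfl
theorem F7885 : act 0 n2219 = n1708 := d5_1 D2219 (iv D1708) (iv F6073)
theorem F7887 : act 5 n2219 = n1688 := d25_1 D2219 (iv D1688) (iv F6076)
theorem F7888 : act 7 n2219 = n1687 := d27_2 D1686 D2219 (iv D1687) (iv D1277) D1276
def n2220 : Q := act 2 n1687
theorem D2220 : act 2 n1687 = n2220 := rfl
theorem F7889 : act 0 n2220 = n1709 := d1_1 D2220 (iv D1709) (iv F6077)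
theorem F7890 : act 4 n2220 = n2220 := d14_2 F6078 D2220 (iv D2220)
theorem F7891 : act 5 n2220 = n1689 := d15_2 (iv F6079) D2220 (iv D1689)
theorem F7892 : act 6 n2220 = n1693 := d16_2 D1687 D2220 (iv D1693) (iv D1282) (iv F4674)
def n2221 : Q := act 2 n1688
theorem D2221 : act 2 n1688 = n2221 := rfl
theorem F7893 : act 0 n2221 = n1710 := d1_1 D2221 (iv D1710) (iv F6080)
theorem F7894 : act 4 n2221 = n1690 := d14_2 (iv F6081) D2221 (iv D1690)
theorem F7895 : act 6 n2221 = n1881 := d16_2 D1688 D2221 (iv D1881) (iv D1424) (iv F4678)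
theorem F7896 : act 7 n2221 = n1689 := d17_2 (iv F6082) D2221 (iv D1689)
def n2222 : Q := act 1 n1689
theorem D2222 : act 1 n1689 = n2222 := rfl
theorem F7897 : act 4 n2222 = n1691 := d9_2 (iv F6084) D2222 (iv D1691)
theorem F7898 : act 6 n2222 = n1694 := d11_2 (iv F6085) D2222 (iv D1694)
def n2223 : Q := act 3 n1689
theorem D2223 : act 3 n1689 = n2223 := rfl
theorem F7899 : act 0 n2223 = n1712 := d2_1 D2223 (iv D1712) (iv F6083)
theorem F7900 : act 6 n2223 = n1695 := d20_2 (iv F6085) D2223 (iv D1695)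
def n2224 : Q := act 1 n1690
theorem D2224 : act 1 n1690 = n2224 := rfl
theorem F7901 : act 5 n2224 = n2224 := d10_2 F6087 D2224 (iv D2224)
theorem F7902 : act 6 n2224 = n1884 := d11_2 (iv F6088) D2224 (iv D1884)
theorem F7903 : act 7 n2224 = n1691 := d12_2 (iv F6089) D2224 (iv D1691)
def n2225 : Q := act 3 n1690
theorem D2225 : act 3 n1690 = n2225 := rfl
theorem F7904 : act 0 n2225 = n1714 := d2_1 D2225 (iv D1714) (iv F6086)
theorem F7905 : act 2 n2225 = n2225 := d13_1 D2225 (iv D2225) (iv D1690) F4683 D1690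
theorem F7906 : act 5 n2225 = n2225 := d19_2 F6087 D2225 (iv D2225)
theorem F7907 : act 6 n2225 = n1885 := d20_2 (iv F6088) D2225 (iv D1885)
theorem F7908 : act 7 n2225 = n1692 := d21_2 (iv F6089) D2225 (iv D1692)
def n2226 : Q := act 0 n1691
theorem D2226 : act 0 n1691 = n2226 := rfl
theorem F7909 : act 1 n2226 = n1715 := d0_2 D1691 D2226 (iv D1715) (iv D1298) (iv F4686)
theorem F7910 : act 5 n2226 = n2226 := d4_2 F6090 D2226 (iv D2226)
theorem F7911 : act 6 n2226 = n1696 := d5_2 (iv F6091) D2226 (iv D1696)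
def n2227 : Q := act 3 n1691
theorem D2227 : act 3 n1691 = n2227 := rfl
theorem F7912 : act 1 n2227 = n1692 := d8_1 D2227 (iv D1692) D1691
theorem F7913 : act 5 n2227 = n2227 := d19_2 F6090 D2227 (iv D2227)
theorem F7914 : act 6 n2227 = n1697 := d20_2 (iv F6091) D2227 (iv D1697)
def n2228 : Q := act 4 n1692
theorem D2228 : act 4 n1692 = n2228 := rfl
theorem F7915 : act 0 n2228 = n1717 := d3_1 D2228 (iv D1717) (iv F6092)
theorem F7916 : act 2 n2228 = n2228 := d14_1 D2228 (iv D2228) F6093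
theorem F7917 : act 6 n2228 = n1698 := d23_2 (iv F6095) D2228 (iv D1698)
def n2229 : Q := act 1 n1693
theorem D2229 : act 1 n1693 = n2229 := rfl
theorem F7918 : act 2 n2229 = n2229 := d7_2 D1693 D2229 (iv D2229) (iv D1693) F4690
theorem F7919 : act 4 n2229 = n2229 := d9_2 F6097 D2229 (iv D2229)
theorem F7920 : act 5 n2229 = n1694 := d10_2 (iv F6098) D2229 (iv D1694)
theorem F7921 : act 7 n2229 = n1889 := d12_2 (iv F6099) D2229 (iv D1889)
def n2230 : Q := act 3 n1693
theorem D2230 : act 3 n1693 = n2230 := rfl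
theorem F7922 : act 0 n2230 = n1719 := d2_1 D2230 (iv D1719) (iv F6096)
theorem F7923 : act 2 n2230 = n1751 := d13_1 D2230 (iv D1751) (iv D1324) (iv F4691) D1693
theorem F7924 : act 5 n2230 = n1695 := d19_2 (iv F6098) D2230 (iv D1695)
theorem F7925 : act 7 n2230 = n1890 := d21_2 (iv F6099) D2230 (iv D1890)
def n2231 : Q := act 0 n1694
theorem D2231 : act 0 n1694 = n2231 := rfl
theorem F7926 : act 1 n2231 = n1720 := d0_2 D1694 D2231 (iv D1720) (iv D1301) (iv F4695)
theorem F7927 : act 2 n2231 = n2231 := d1_2 F6100 D2231 (iv D2231)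
theorem F7928 : act 4 n2231 = n1696 := d3_2 (iv F6101) D2231 (iv D1696)
theorem F7929 : act 7 n2231 = n1891 := d6_2 (iv F6102) D2231 (iv D1891)
def n2232 : Q := act 3 n1694
theorem D2232 : act 3 n1694 = n2232 := rfl
theorem F7930 : act 1 n2232 = n1695 := d8_1 D2232 (iv D1695) D1694
theorem F7931 : act 7 n2232 = n1892 := d21_2 (iv F6102) D2232 (iv D1892)
def n2233 : Q := act 4 n1695
theorem D2233 : act 4 n1695 = n2233 := rfl
theorem F7932 : act 0 n2233 = n1722 := d3_1 D2233 (iv D1722) (iv F6103)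
theorem F7933 : act 2 n2233 = n1754 := d14_1 D2233 (iv D1754) (iv F6104)
theorem F7934 : act 3 n2233 = n1698 := d18_1 D2233 (iv D1698) (iv D1285) (iv F4696) D1695
theorem F7935 : act 7 n2233 = n1893 := d24_2 (iv F6105) D2233 (iv D1893)
def n2234 : Q := act 3 n1696
theorem D2234 : act 3 n1696 = n2234 := rfl
theorem F7936 : act 0 n2234 = n1697 := d2_1 D2234 (iv D1697) D1696
theorem F7937 : act 1 n2234 = n1723 := d8_1 D2234 (iv D1723) (iv F6106)
theorem F7938 : act 5 n2234 = n2234 := d19_2 F6108 D2234 (iv D2234)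
theorem F7939 : act 7 n2234 = n1894 := d21_2 (iv F6109) D2234 (iv D1894)
def n2235 : Q := act 2 n1697
theorem D2235 : act 2 n1697 = n2235 := rfl
theorem F7940 : act 1 n2235 = n1699 := d7_1 D2235 (iv D1699) F4706 (iv F4702) (iv F6110)
theorem F7941 : act 3 n2235 = n2235 := d13_2 D1697 D2235 (iv D2235) (iv D1697) F4698
theorem F7942 : act 5 n2235 = n2235 := d15_2 F6111 D2235 (iv D2235)
theorem F7943 : act 7 n2235 = n1895 := d17_2 (iv F6112) D2235 (iv D1895)
def n2236 : Q := act 4 n1697
theorem D2236 : act 4 n1697 = n2236 := rfl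
theorem F7944 : act 1 n2236 = n1698 := d9_1 D2236 (iv D1698) (iv F6110)
theorem F7945 : act 7 n2236 = n1896 := d24_2 (iv F6112) D2236 (iv D1896)
def n2238 : Q := act 4 n1699
theorem D2238 : act 4 n1699 = n2238 := rfl
theorem F7951 : act 2 n2238 = n1700 := d14_1 D2238 (iv D1700) D1699
def n2239 : Q := act 6 n1699
theorem D2239 : act 6 n1699 = n2239 := rfl
def n2240 : Q := act 5 n1700
theorem D2240 : act 5 n1700 = n2240 := rfl
theorem F7959 : act 3 n2240 = n1761 := d19_1 D2240 (iv D1761) (iv F6122)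
def n2241 : Q := act 7 n1702
theorem D2241 : act 7 n1702 = n2241 := rfl
def n2242 : Q := act 6 n1703
theorem D2242 : act 6 n1703 = n2242 := rfl
theorem F7968 : act 4 n2242 = n1705 := d23_1 D2242 (iv D1705) (iv F6136)
def n2243 : Q := act 6 n1704
theorem D2243 : act 6 n1704 = n2243 := rfl
theorem F7970 : act 3 n2243 = n1708 := d20_1 D2243 (iv D1708) (iv F6139)
theorem F7971 : act 5 n2243 = n1706 := d25_1 D2243 (iv D1706) (iv F6140)
theorem F7972 : act 7 n2243 = n1705 := d27_2 D1704 D2243 (iv D1705) (iv D1290) D1289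
def n2244 : Q := act 2 n1705
theorem D2244 : act 2 n1705 = n2244 := rfl
theorem F7973 : act 5 n2244 = n1707 := d15_2 (iv F6142) D2244 (iv D1707)
theorem F7974 : act 6 n2244 = n1763 := d16_2 D1705 D2244 (iv D1763) (iv D1334) (iv F4720)
def n2245 : Q := act 2 n1706
theorem D2245 : act 2 n1706 = n2245 := rfl
theorem F7975 : act 4 n2245 = n2245 := d14_2 F6144 D2245 (iv D2245)
theorem F7976 : act 6 n2245 = n2245 := d16_2 D1706 D2245 (iv D2245) (iv D1706) F4723
theorem F7977 : act 7 n2245 = n1707 := d17_2 (iv F6145) D2245 (iv D1707)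
def n2246 : Q := act 1 n1707
theorem D2246 : act 1 n1707 = n2246 := rfl
theorem F7978 : act 4 n2246 = n2246 := d9_2 F6146 D2246 (iv D2246)
theorem F7979 : act 6 n2246 = n1764 := d11_2 (iv F6147) D2246 (iv D1764)
def n2247 : Q := act 3 n1707
theorem D2247 : act 3 n1707 = n2247 := rfl
theorem F7980 : act 2 n2247 = n1712 := d13_1 D2247 (iv D1712) (iv D1296) (iv F4726) D1707
theorem F7981 : act 6 n2247 = n1765 := d20_2 (iv F6147) D2247 (iv D1765)
def n2248 : Q := act 2 n1708
theorem D2248 : act 2 n1708 = n2248 := rfl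
theorem F7982 : act 4 n2248 = n2248 := d14_2 F6148 D2248 (iv D2248)
theorem F7983 : act 5 n2248 = n1710 := d15_2 (iv F6149) D2248 (iv D1710)
theorem F7984 : act 6 n2248 = n1901 := d16_2 D1708 D2248 (iv D1901) (iv D1438) (iv F4728)
theorem F7985 : act 7 n2248 = n1709 := d17_2 (iv F6150) D2248 (iv D1709)
def n2249 : Q := act 1 n1709
theorem D2249 : act 1 n1709 = n2249 := rfl
theorem F7986 : act 4 n2249 = n2249 := d9_2 F6151 D2249 (iv D2249)
theorem F7987 : act 5 n2249 = n1711 := d10_2 (iv F6152) D2249 (iv D1711)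
theorem F7988 : act 6 n2249 = n1718 := d11_2 (iv F6153) D2249 (iv D1718)
def n2250 : Q := act 3 n1709
theorem D2250 : act 3 n1709 = n2250 := rfl
theorem F7989 : act 5 n2250 = n1712 := d19_2 (iv F6152) D2250 (iv D1712)
theorem F7990 : act 6 n2250 = n1719 := d20_2 (iv F6153) D2250 (iv D1719)
def n2251 : Q := act 1 n1710
theorem D2251 : act 1 n1710 = n2251 := rfl
theorem F7991 : act 4 n2251 = n1713 := d9_2 (iv F6154) D2251 (iv D1713)
theorem F7992 : act 6 n2251 = n1904 := d11_2 (iv F6155) D2251 (iv D1904)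
theorem F7993 : act 7 n2251 = n1711 := d12_2 (iv F6156) D2251 (iv D1711)
def n2252 : Q := act 3 n1710
theorem D2252 : act 3 n1710 = n2252 := rfl
theorem F7994 : act 6 n2252 = n1905 := d20_2 (iv F6155) D2252 (iv D1905)
theorem F7995 : act 7 n2252 = n1712 := d21_2 (iv F6156) D2252 (iv D1712)
def n2253 : Q := act 0 n1711
theorem D2253 : act 0 n1711 = n2253 := rfl
theorem F7996 : act 4 n2253 = n1715 := d3_2 (iv F6157) D2253 (iv D1715)
theorem F7997 : act 6 n2253 = n1720 := d5_2 (iv F6158) D2253 (iv D1720)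
def n2254 : Q := act 3 n1711
theorem D2254 : act 3 n1711 = n2254 := rfl
theorem F7998 : act 1 n2254 = n1712 := d8_1 D2254 (iv D1712) D1711
theorem F7999 : act 6 n2254 = n1721 := d20_2 (iv F6158) D2254 (iv D1721)
def n2255 : Q := act 4 n1712
theorem D2255 : act 4 n1712 = n2255 := rfl
theorem F8000 : act 3 n2255 = n1717 := d18_1 D2255 (iv D1717) (iv D1299) (iv F4735) D1712
theorem F8001 : act 6 n2255 = n1722 := d23_2 (iv F6159) D2255 (iv D1722)
def n2256 : Q := act 0 n1713
theorem D2256 : act 0 n1713 = n2256 := rfl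
theorem F8002 : act 5 n2256 = n2256 := d4_2 F6160 D2256 (iv D2256)
theorem F8003 : act 6 n2256 = n1909 := d5_2 (iv F6161) D2256 (iv D1909)
theorem F8004 : act 7 n2256 = n1715 := d6_2 (iv F6162) D2256 (iv D1715)
def n2257 : Q := act 3 n1713
theorem D2257 : act 3 n1713 = n2257 := rfl
theorem F8005 : act 1 n2257 = n1714 := d8_1 D2257 (iv D1714) D1713
theorem F8006 : act 5 n2257 = n2257 := d19_2 F6160 D2257 (iv D2257)
theorem F8007 : act 6 n2257 = n1910 := d20_2 (iv F6161) D2257 (iv D1910)
theorem F8008 : act 7 n2257 = n1716 := d21_2 (iv F6162) D2257 (iv D1716)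
def n2258 : Q := act 4 n1714
theorem D2258 : act 4 n1714 = n2258 := rfl
theorem F8009 : act 2 n2258 = n2258 := d14_1 D2258 (iv D2258) F6163
theorem F8010 : act 6 n2258 = n1911 := d23_2 (iv F6165) D2258 (iv D1911)
theorem F8011 : act 7 n2258 = n1717 := d24_2 (iv F6166) D2258 (iv D1717)
def n2259 : Q := act 3 n1715
theorem D2259 : act 3 n1715 = n2259 := rfl
theorem F8012 : act 0 n2259 = n1716 := d2_1 D2259 (iv D1716) D1715
theorem F8013 : act 5 n2259 = n2259 := d19_2 F6167 D2259 (iv D2259)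
theorem F8014 : act 6 n2259 = n1723 := d20_2 (iv F6168) D2259 (iv D1723)
def n2260 : Q := act 2 n1716
theorem D2260 : act 2 n1716 = n2260 := rfl
theorem F8015 : act 1 n2260 = n2260 := d7_1 D2260 (iv D2260) F6169 F4742 (iv F6169)
theorem F8016 : act 5 n2260 = n2260 := d15_2 F6170 D2260 (iv D2260)
theorem F8017 : act 6 n2260 = n2260 := d16_2 (iv F6171) D2260 (iv D2260) F6171 F4757
def n2261 : Q := act 4 n1716
theorem D2261 : act 4 n1716 = n2261 := rfl
theorem F8018 : act 1 n2261 = n1717 := d9_1 D2261 (iv D1717) (iv F6169)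
theorem F8019 : act 6 n2261 = n1724 := d23_2 (iv F6171) D2261 (iv D1724)
def n2262 : Q := act 5 n1717
theorem D2262 : act 5 n1717 = n2262 := rfl
theorem F8020 : act 2 n2262 = n2262 := d15_1 D2262 (iv D2262) F6172
theorem F8021 : act 4 n2262 = n2262 := d22_1 D2262 (iv D2262) (iv D1717) F4743 D1717
theorem F8022 : act 6 n2262 = n1725 := d25_2 (iv F6173) D2262 (iv D1725)
def n2263 : Q := act 0 n1718
theorem D2263 : act 0 n1718 = n2263 := rfl
theorem F8023 : act 2 n2263 = n1726 := d1_2 (iv F6174) D2263 (iv D1726)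
theorem F8024 : act 4 n2263 = n2263 := d3_2 F6175 D2263 (iv D2263)
theorem F8025 : act 5 n2263 = n1720 := d4_2 (iv F6176) D2263 (iv D1720)
theorem F8026 : act 7 n2263 = n1916 := d6_2 (iv F6177) D2263 (iv D1916)
def n2264 : Q := act 3 n1718
theorem D2264 : act 3 n1718 = n2264 := rfl
theorem F8027 : act 1 n2264 = n1719 := d8_1 D2264 (iv D1719) D1718
theorem F8028 : act 5 n2264 = n1721 := d19_2 (iv F6176) D2264 (iv D1721)
theorem F8029 : act 7 n2264 = n1917 := d21_2 (iv F6177) D2264 (iv D1917)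
def n2265 : Q := act 4 n1719
theorem D2265 : act 4 n1719 = n2265 := rfl
theorem F8030 : act 2 n2265 = n1777 := d14_1 D2265 (iv D1777) (iv F6178)
theorem F8031 : act 3 n2265 = n2265 := d18_1 D2265 (iv D2265) (iv D1719) F4745 D1719
theorem F8032 : act 7 n2265 = n1918 := d24_2 (iv F6180) D2265 (iv D1918)
def n2266 : Q := act 3 n1720
theorem D2266 : act 3 n1720 = n2266 := rfl
theorem F8033 : act 0 n2266 = n1721 := d2_1 D2266 (iv D1721) D1720
theorem F8034 : act 7 n2266 = n1919 := d21_2 (iv F6183) D2266 (iv D1919)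
def n2267 : Q := act 2 n1721
theorem D2267 : act 2 n1721 = n2267 := rfl
theorem F8035 : act 1 n2267 = n1779 := d7_1 D2267 (iv D1779) F4902 (iv F4751) (iv F6184)
theorem F8036 : act 3 n2267 = n1730 := d13_2 D1721 D2267 (iv D1730) (iv D1310) (iv F4748)
theorem F8037 : act 7 n2267 = n1920 := d17_2 (iv F6185) D2267 (iv D1920)
def n2268 : Q := act 4 n1721
theorem D2268 : act 4 n1721 = n2268 := rfl
theorem F8038 : act 1 n2268 = n1722 := d9_1 D2268 (iv D1722) (iv F6184)
theorem F8039 : act 3 n2268 = n1724 := d18_1 D2268 (iv D1724) (iv D1304) (iv F4749) D1721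
theorem F8040 : act 7 n2268 = n1921 := d24_2 (iv F6185) D2268 (iv D1921)
def n2269 : Q := act 5 n1722
theorem D2269 : act 5 n1722 = n2269 := rfl
theorem F8041 : act 2 n2269 = n1781 := d15_1 D2269 (iv D1781) (iv F6186)
theorem F8042 : act 3 n2269 = n1725 := d19_1 D2269 (iv D1725) (iv F6187)
theorem F8043 : act 7 n2269 = n1922 := d26_2 (iv F6188) D2269 (iv D1922)
def n2270 : Q := act 4 n1723
theorem D2270 : act 4 n1723 = n2270 := rfl
theorem F8044 : act 0 n2270 = n1724 := d3_1 D2270 (iv D1724) (iv F6189)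
theorem F8045 : act 2 n2270 = n2270 := d14_1 D2270 (iv D2270) F6190
theorem F8046 : act 7 n2270 = n1923 := d24_2 (iv F6192) D2270 (iv D1923)
def n2271 : Q := act 5 n1724
theorem D2271 : act 5 n1724 = n2271 := rfl
theorem F8047 : act 1 n2271 = n1725 := d10_1 D2271 (iv D1725) (iv F6193)
theorem F8048 : act 2 n2271 = n2271 := d15_1 D2271 (iv D2271) F6194
theorem F8049 : act 4 n2271 = n2271 := d22_1 D2271 (iv D2271) (iv D1724) F4758 D1724
theorem F8050 : act 7 n2271 = n1924 := d26_2 (iv F6195) D2271 (iv D1924)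
def n2272 : Q := act 3 n1726
theorem D2272 : act 3 n1726 = n2272 := rfl
theorem F8051 : act 0 n2272 = n1727 := d2_1 D2272 (iv D1727) D1726
theorem F8052 : act 1 n2272 = n2272 := d8_1 D2272 (iv D2272) F6199
theorem F8053 : act 5 n2272 = n1729 := d19_2 (iv F6201) D2272 (iv D1729)
theorem F8054 : act 7 n2272 = n1925 := d21_2 (iv F6202) D2272 (iv D1925)
def n2273 : Q := act 2 n1727
theorem D2273 : act 2 n1727 = n2273 := rfl
theorem F8055 : act 1 n2273 = n1785 := d7_1 D2273 (iv D1785) F4921 (iv F4771) (iv F6203)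
theorem F8056 : act 5 n2273 = n1730 := d15_2 (iv F6204) D2273 (iv D1730)
theorem F8057 : act 7 n2273 = n1926 := d17_2 (iv F6205) D2273 (iv D1926)
def n2274 : Q := act 4 n1727
theorem D2274 : act 4 n1727 = n2274 := rfl
theorem F8061 : act 7 n2274 = n1927 := d24_2 (iv F6205) D2274 (iv D1927)
def n2275 : Q := act 2 n1729
theorem D2275 : act 2 n1729 = n2275 := rfl
theorem F8062 : act 0 n2275 = n1730 := d1_1 D2275 (iv D1730) (iv F6211)
theorem F8063 : act 4 n2275 = n2275 := d14_2 F6213 D2275 (iv D2275)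
theorem F8064 : act 7 n2275 = n1928 := d17_2 (iv F6214) D2275 (iv D1928)
def n2276 : Q := act 6 n1730
theorem D2276 : act 6 n1730 = n2276 := rfl
theorem F8065 : act 1 n2276 = n1788 := d11_1 D2276 (iv D1788) (iv F6215)
theorem F8066 : act 4 n2276 = n2276 := d23_1 D2276 (iv D2276) F6216
def n2279 : Q := act 7 n1731
theorem D2279 : act 7 n1731 = n2279 := rfl
theorem F8075 : act 2 n2279 = n1735 := d17_1 D2279 (iv D1735) (iv F6219)
theorem F8077 : act 5 n2279 = n1733 := d26_1 D2279 (iv D1733) D1731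
def n2281 : Q := act 6 n1733
theorem D2281 : act 6 n1733 = n2281 := rfl
theorem F8082 : act 0 n2281 = n2281 := d5_1 D2281 (iv D2281) F6225
theorem F8083 : act 3 n2281 = n2281 := d20_1 D2281 (iv D2281) F6227
theorem F8084 : act 4 n2281 = n2281 := d23_1 D2281 (iv D2281) F6228
def n2282 : Q := act 7 n1734
theorem D2282 : act 7 n1734 = n2282 := rfl
theorem F8086 : act 1 n2282 = n1741 := d12_1 D2282 (iv D1741) (iv F6230)
theorem F8088 : act 4 n2282 = n1735 := d24_1 D2282 (iv D1735) D1734
def n2283 : Q := act 6 n1735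
theorem D2283 : act 6 n1735 = n2283 := rfl
theorem F8090 : act 0 n2283 = n2283 := d5_1 D2283 (iv D2283) F6234
theorem F8091 : act 1 n2283 = n1742 := d11_1 D2283 (iv D1742) (iv F6235)
theorem F8092 : act 3 n2283 = n1737 := d20_1 D2283 (iv D1737) (iv F6236)
theorem F8093 : act 5 n2283 = n1736 := d25_1 D2283 (iv D1736) (iv F6237)
theorem F8094 : act 7 n2283 = n2283 := d27_2 D1735 D2283 (iv D2283) (iv D1735) F4786
def n2284 : Q := act 2 n1736
theorem D2284 : act 2 n1736 = n2284 := rfl
theorem F8095 : act 0 n2284 = n2284 := d1_1 D2284 (iv D2284) F6238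
theorem F8096 : act 4 n2284 = n2284 := d14_2 F6241 D2284 (iv D2284)
theorem F8097 : act 7 n2284 = n2284 := d17_2 F6242 D2284 (iv D2284)
def n2285 : Q := act 2 n1737
theorem D2285 : act 2 n1737 = n2285 := rfl
theorem F8098 : act 0 n2285 = n2285 := d1_1 D2285 (iv D2285) F6243
theorem F8099 : act 4 n2285 = n1797 := d14_2 (iv F6245) D2285 (iv D1797)
theorem F8100 : act 5 n2285 = n1738 := d15_2 (iv F6246) D2285 (iv D1738)
theorem F8101 : act 6 n2285 = n2285 := d16_2 D1737 D2285 (iv D2285) (iv D1737) F4793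
theorem F8102 : act 7 n2285 = n2285 := d17_2 F6247 D2285 (iv D2285)
def n2286 : Q := act 1 n1738
theorem D2286 : act 1 n1738 = n2286 := rfl
theorem F8103 : act 2 n2286 = n1745 := d7_2 D1738 D2286 (iv D1745) (iv D1321) (iv F4797)
theorem F8104 : act 4 n2286 = n1739 := d9_2 (iv F6249) D2286 (iv D1739)
theorem F8105 : act 6 n2286 = n2286 := d11_2 F6250 D2286 (iv D2286)
theorem F8106 : act 7 n2286 = n2286 := d12_2 F6251 D2286 (iv D2286)
def n2287 : Q := act 3 n1738
theorem D2287 : act 3 n1738 = n2287 := rfl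
theorem F8107 : act 0 n2287 = n2287 := d2_1 D2287 (iv D2287) F6248
theorem F8108 : act 6 n2287 = n2287 := d20_2 F6250 D2287 (iv D2287)
theorem F8109 : act 7 n2287 = n2287 := d21_2 F6251 D2287 (iv D2287)
def n2288 : Q := act 0 n1739
theorem D2288 : act 0 n1739 = n2288 := rfl
theorem F8110 : act 1 n2288 = n2288 := d0_2 D1739 D2288 (iv D2288) (iv D1739) F4800
theorem F8111 : act 2 n2288 = n1747 := d1_2 (iv F6252) D2288 (iv D1747)
theorem F8112 : act 5 n2288 = n1800 := d4_2 (iv F6253) D2288 (iv D1800)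
theorem F8113 : act 6 n2288 = n2288 := d5_2 F6254 D2288 (iv D2288)
theorem F8114 : act 7 n2288 = n2288 := d6_2 F6255 D2288 (iv D2288)
def n2289 : Q := act 3 n1739
theorem D2289 : act 3 n1739 = n2289 := rfl
theorem F8115 : act 1 n2289 = n1740 := d8_1 D2289 (iv D1740) D1739
theorem F8116 : act 5 n2289 = n1801 := d19_2 (iv F6253) D2289 (iv D1801)
def n2290 : Q := act 4 n1740
theorem D2290 : act 4 n1740 = n2290 := rfl
theorem F8119 : act 0 n2290 = n2290 := d3_1 D2290 (iv D2290) F6256
theorem F8120 : act 2 n2290 = n2290 := d14_1 D2290 (iv D2290) F6257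
theorem F8121 : act 6 n2290 = n2290 := d23_2 F6259 D2290 (iv D2290)
theorem F8122 : act 7 n2290 = n2290 := d24_2 F6260 D2290 (iv D2290)
def n2291 : Q := act 6 n1741
theorem D2291 : act 6 n1741 = n2291 := rfl
theorem F8123 : act 0 n2291 = n1762 := d5_1 D2291 (iv D1762) (iv F6261)
theorem F8124 : act 3 n2291 = n1803 := d20_1 D2291 (iv D1803) (iv F6262)
theorem F8125 : act 4 n2291 = n1742 := d23_1 D2291 (iv D1742) (iv F6263)
def n2292 : Q := act 2 n1742
theorem D2292 : act 2 n1742 = n2292 := rfl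
theorem F8128 : act 0 n2292 = n1763 := d1_1 D2292 (iv D1763) (iv F6265)
theorem F8129 : act 5 n2292 = n1743 := d15_2 (iv F6267) D2292 (iv D1743)
theorem F8130 : act 7 n2292 = n2292 := d17_2 F6268 D2292 (iv D2292)
def n2293 : Q := act 1 n1743
theorem D2293 : act 1 n1743 = n2293 := rfl
theorem F8131 : act 4 n2293 = n2293 := d9_2 F6270 D2293 (iv D2293)
theorem F8132 : act 7 n2293 = n2293 := d12_2 F6271 D2293 (iv D2293)
def n2294 : Q := act 3 n1743
theorem D2294 : act 3 n1743 = n2294 := rfl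
theorem F8133 : act 0 n2294 = n1765 := d2_1 D2294 (iv D1765) (iv F6269)
theorem F8134 : act 2 n2294 = n1746 := d13_1 D2294 (iv D1746) (iv D1321) (iv F4812) D1743
theorem F8135 : act 7 n2294 = n2294 := d21_2 F6271 D2294 (iv D2294)
def n2295 : Q := act 1 n1744
theorem D2295 : act 1 n1744 = n2295 := rfl
theorem F8136 : act 4 n2295 = n1807 := d9_2 (iv F6273) D2295 (iv D1807)
theorem F8137 : act 5 n2295 = n1745 := d10_2 (iv F6274) D2295 (iv D1745)
theorem F8138 : act 6 n2295 = n1750 := d11_2 (iv F6275) D2295 (iv D1750)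
theorem F8139 : act 7 n2295 = n2295 := d12_2 F6276 D2295 (iv D2295)
def n2296 : Q := act 3 n1744
theorem D2296 : act 3 n1744 = n2296 := rfl
theorem F8140 : act 0 n2296 = n1767 := d2_1 D2296 (iv D1767) (iv F6272)
theorem F8141 : act 5 n2296 = n1746 := d19_2 (iv F6274) D2296 (iv D1746)
theorem F8142 : act 6 n2296 = n1751 := d20_2 (iv F6275) D2296 (iv D1751)
theorem F8143 : act 7 n2296 = n2296 := d21_2 F6276 D2296 (iv D2296)
def n2297 : Q := act 0 n1745
theorem D2297 : act 0 n1745 = n2297 := rfl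
theorem F8144 : act 1 n2297 = n1768 := d0_2 D1745 D2297 (iv D1768) (iv D1337) (iv F4819)
theorem F8145 : act 4 n2297 = n1747 := d3_2 (iv F6277) D2297 (iv D1747)
theorem F8146 : act 6 n2297 = n1752 := d5_2 (iv F6278) D2297 (iv D1752)
theorem F8147 : act 7 n2297 = n2297 := d6_2 F6279 D2297 (iv D2297)
def n2298 : Q := act 3 n1745
theorem D2298 : act 3 n1745 = n2298 := rfl
theorem F8148 : act 1 n2298 = n1746 := d8_1 D2298 (iv D1746) D1745
theorem F8149 : act 6 n2298 = n1753 := d20_2 (iv F6278) D2298 (iv D1753)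
theorem F8150 : act 7 n2298 = n2298 := d21_2 F6279 D2298 (iv D2298)
def n2299 : Q := act 4 n1746
theorem D2299 : act 4 n1746 = n2299 := rfl
theorem F8151 : act 0 n2299 = n1770 := d3_1 D2299 (iv D1770) (iv F6280)
theorem F8152 : act 3 n2299 = n1749 := d18_1 D2299 (iv D1749) (iv D1323) (iv F4820) D1746
theorem F8153 : act 6 n2299 = n1754 := d23_2 (iv F6281) D2299 (iv D1754)
theorem F8154 : act 7 n2299 = n2299 := d24_2 F6282 D2299 (iv D2299)
def n2300 : Q := act 3 n1747
theorem D2300 : act 3 n1747 = n2300 := rfl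
theorem F8157 : act 5 n2300 = n1812 := d19_2 (iv F6284) D2300 (iv D1812)
theorem F8158 : act 6 n2300 = n1755 := d20_2 (iv F6285) D2300 (iv D1755)
def n2302 : Q := act 4 n1748
theorem D2302 : act 4 n1748 = n2302 := rfl
def n2304 : Q := act 0 n1750
theorem D2304 : act 0 n1750 = n2304 := rfl
theorem F8171 : act 1 n2304 = n1775 := d0_2 D1750 D2304 (iv D1775) (iv D1342) (iv F4831)
theorem F8173 : act 4 n2304 = n1816 := d3_2 (iv F6296) D2304 (iv D1816)
theorem F8174 : act 5 n2304 = n1752 := d4_2 (iv F6297) D2304 (iv D1752)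
def n2305 : Q := act 3 n1750
theorem D2305 : act 3 n1750 = n2305 := rfl
theorem F8176 : act 1 n2305 = n1751 := d8_1 D2305 (iv D1751) D1750
theorem F8177 : act 5 n2305 = n1753 := d19_2 (iv F6297) D2305 (iv D1753)
theorem F8178 : act 7 n2305 = n1931 := d21_2 (iv F6298) D2305 (iv D1931)
def n2306 : Q := act 4 n1751
theorem D2306 : act 4 n1751 = n2306 := rfl
theorem F8179 : act 0 n2306 = n1777 := d3_1 D2306 (iv D1777) (iv F6299)
theorem F8180 : act 3 n2306 = n1818 := d18_1 D2306 (iv D1818) (iv D1375) (iv F4832) D1751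
theorem F8181 : act 7 n2306 = n1932 := d24_2 (iv F6301) D2306 (iv D1932)
def n2307 : Q := act 3 n1752
theorem D2307 : act 3 n1752 = n2307 := rfl
theorem F8182 : act 0 n2307 = n1753 := d2_1 D2307 (iv D1753) D1752
theorem F8184 : act 7 n2307 = n1933 := d21_2 (iv F6305) D2307 (iv D1933)
def n2308 : Q := act 2 n1753
theorem D2308 : act 2 n1753 = n2308 := rfl
theorem F8186 : act 7 n2308 = n1934 := d17_2 (iv F6307) D2308 (iv D1934)
def n2309 : Q := act 4 n1753
theorem D2309 : act 4 n1753 = n2309 := rfl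
theorem F8187 : act 1 n2309 = n1754 := d9_1 D2309 (iv D1754) (iv F6306)
theorem F8188 : act 3 n2309 = n1757 := d18_1 D2309 (iv D1757) (iv D1328) (iv F4836) D1753
theorem F8189 : act 7 n2309 = n1935 := d24_2 (iv F6307) D2309 (iv D1935)
def n2310 : Q := act 5 n1754
theorem D2310 : act 5 n1754 = n2310 := rfl
theorem F8191 : act 3 n2310 = n1758 := d19_1 D2310 (iv D1758) (iv F6309)
theorem F8192 : act 7 n2310 = n1936 := d26_2 (iv F6310) D2310 (iv D1936)
def n2311 : Q := act 2 n1755
theorem D2311 : act 2 n1755 = n2311 := rfl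
theorem F8196 : act 5 n2311 = n1823 := d15_2 (iv F6313) D2311 (iv D1823)
theorem F8197 : act 7 n2311 = n1937 := d17_2 (iv F6314) D2311 (iv D1937)
def n2312 : Q := act 4 n1755
theorem D2312 : act 4 n1755 = n2312 := rfl
def n2313 : Q := act 4 n1756
theorem D2313 : act 4 n1756 = n2313 := rfl
theorem F8203 : act 7 n2313 = n1939 := d24_2 (iv F6318) D2313 (iv D1939)
def n2315 : Q := act 5 n1757
theorem D2315 : act 5 n1757 = n2315 := rfl
theorem F8207 : act 1 n2315 = n1758 := d10_1 D2315 (iv D1758) (iv F6319)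
theorem F8208 : act 4 n2315 = n1827 := d22_1 D2315 (iv D1827) (iv D1381) (iv F4845) D1757
theorem F8209 : act 7 n2315 = n1941 := d26_2 (iv F6320) D2315 (iv D1941)
def n2320 : Q := act 2 n1762
theorem D2320 : act 2 n1762 = n2320 := rfl
theorem F8225 : act 4 n2320 = n1763 := d14_2 (iv F6339) D2320 (iv D1763)
theorem F8226 : act 5 n2320 = n2320 := d15_2 F6340 D2320 (iv D2320)
theorem F8227 : act 7 n2320 = n2320 := d17_2 F6341 D2320 (iv D2320)
def n2321 : Q := act 1 n1763
theorem D2321 : act 1 n1763 = n2321 := rfl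
theorem F8228 : act 2 n2321 = n2321 := d7_2 D1763 D2321 (iv D2321) (iv D1763) F4866
theorem F8229 : act 5 n2321 = n1764 := d10_2 (iv F6342) D2321 (iv D1764)
theorem F8230 : act 7 n2321 = n2321 := d12_2 F6343 D2321 (iv D2321)
def n2322 : Q := act 3 n1763
theorem D2322 : act 3 n1763 = n2322 := rfl
theorem F8231 : act 2 n2322 = n1767 := d13_1 D2322 (iv D1767) (iv D1336) (iv F4867) D1763
theorem F8232 : act 5 n2322 = n1765 := d19_2 (iv F6342) D2322 (iv D1765)
theorem F8233 : act 7 n2322 = n2322 := d21_2 F6343 D2322 (iv D2322)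
def n2323 : Q := act 0 n1764
theorem D2323 : act 0 n1764 = n2323 := rfl
theorem F8234 : act 2 n2323 = n2323 := d1_2 F6344 D2323 (iv D2323)
theorem F8235 : act 4 n2323 = n2323 := d3_2 F6345 D2323 (iv D2323)
theorem F8236 : act 7 n2323 = n2323 := d6_2 F6346 D2323 (iv D2323)
def n2324 : Q := act 3 n1764
theorem D2324 : act 3 n1764 = n2324 := rfl
theorem F8237 : act 1 n2324 = n1765 := d8_1 D2324 (iv D1765) D1764
theorem F8238 : act 7 n2324 = n2324 := d21_2 F6346 D2324 (iv D2324)
def n2325 : Q := act 4 n1765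
theorem D2325 : act 4 n1765 = n2325 := rfl
theorem F8239 : act 2 n2325 = n1770 := d14_1 D2325 (iv D1770) (iv F6347)
theorem F8240 : act 3 n2325 = n2325 := d18_1 D2325 (iv D2325) (iv D1765) F4870 D1765
theorem F8241 : act 7 n2325 = n2325 := d24_2 F6348 D2325 (iv D2325)
def n2326 : Q := act 0 n1766
theorem D2326 : act 0 n1766 = n2326 := rfl
theorem F8243 : act 4 n2326 = n1838 := d3_2 (iv F6350) D2326 (iv D1838)
theorem F8244 : act 5 n2326 = n1768 := d4_2 (iv F6351) D2326 (iv D1768)
theorem F8245 : act 6 n2326 = n1775 := d5_2 (iv F6352) D2326 (iv D1775)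
def n2327 : Q := act 3 n1766
theorem D2327 : act 3 n1766 = n2327 := rfl
theorem F8247 : act 1 n2327 = n1767 := d8_1 D2327 (iv D1767) D1766
theorem F8248 : act 5 n2327 = n1769 := d19_2 (iv F6351) D2327 (iv D1769)
theorem F8249 : act 6 n2327 = n1776 := d20_2 (iv F6352) D2327 (iv D1776)
def n2328 : Q := act 4 n1767
theorem D2328 : act 4 n1767 = n2328 := rfl
theorem F8252 : act 6 n2328 = n1777 := d23_2 (iv F6355) D2328 (iv D1777)
def n2329 : Q := act 3 n1768
theorem D2329 : act 3 n1768 = n2329 := rfl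
theorem F8254 : act 0 n2329 = n1769 := d2_1 D2329 (iv D1769) D1768
theorem F8255 : act 6 n2329 = n1778 := d20_2 (iv F6359) D2329 (iv D1778)
theorem F8256 : act 7 n2329 = n2329 := d21_2 F6360 D2329 (iv D2329)
def n2330 : Q := act 2 n1769
theorem D2330 : act 2 n1769 = n2330 := rfl
theorem F8257 : act 3 n2330 = n2330 := d13_2 D1769 D2330 (iv D2330) (iv D1769) F4876
theorem F8258 : act 7 n2330 = n2330 := d17_2 F6363 D2330 (iv D2330)
def n2331 : Q := act 4 n1769
theorem D2331 : act 4 n1769 = n2331 := rfl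
theorem F8259 : act 1 n2331 = n1770 := d9_1 D2331 (iv D1770) (iv F6361)
theorem F8260 : act 3 n2331 = n1773 := d18_1 D2331 (iv D1773) (iv D1340) (iv F4877) D1769
theorem F8261 : act 6 n2331 = n1780 := d23_2 (iv F6362) D2331 (iv D1780)
theorem F8262 : act 7 n2331 = n2331 := d24_2 F6363 D2331 (iv D2331)
def n2332 : Q := act 5 n1770
theorem D2332 : act 5 n1770 = n2332 := rfl
theorem F8264 : act 6 n2332 = n1781 := d25_2 (iv F6365) D2332 (iv D1781)
def n2333 : Q := act 2 n1771
theorem D2333 : act 2 n1771 = n2333 := rfl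
theorem F8266 : act 0 n2333 = n1772 := d1_1 D2333 (iv D1772) (iv F6367)
theorem F8267 : act 3 n2333 = n2333 := d13_2 D1771 D2333 (iv D2333) (iv D1771) F4882
theorem F8268 : act 5 n2333 = n1845 := d15_2 (iv F6368) D2333 (iv D1845)
theorem F8269 : act 6 n2333 = n2333 := d16_2 (iv F6369) D2333 (iv D2333) F6369 F4907
theorem F8270 : act 7 n2333 = n2333 := d17_2 F6370 D2333 (iv D2333)
def n2334 : Q := act 4 n1771
theorem D2334 : act 4 n1771 = n2334 := rfl
theorem F8271 : act 0 n2334 = n1773 := d3_1 D2334 (iv D1773) (iv F6367)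
def n2335 : Q := act 4 n1772
theorem D2335 : act 4 n1772 = n2335 := rfl
theorem F8274 : act 1 n2335 = n2335 := d9_1 D2335 (iv D2335) F6371
theorem F8275 : act 2 n2335 = n1773 := d14_1 D2335 (iv D1773) D1772
theorem F8276 : act 6 n2335 = n2335 := d23_2 F6374 D2335 (iv D2335)
theorem F8277 : act 7 n2335 = n2335 := d24_2 F6375 D2335 (iv D2335)
def n2336 : Q := act 5 n1773
theorem D2336 : act 5 n1773 = n2336 := rfl
theorem F8279 : act 4 n2336 = n1848 := d22_1 D2336 (iv D1848) (iv D1397) (iv F4887) D1773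
def n2337 : Q := act 3 n1775
theorem D2337 : act 3 n1775 = n2337 := rfl
theorem F8282 : act 0 n2337 = n1776 := d2_1 D2337 (iv D1776) D1775
theorem F8283 : act 5 n2337 = n1778 := d19_2 (iv F6385) D2337 (iv D1778)
theorem F8284 : act 7 n2337 = n1946 := d21_2 (iv F6386) D2337 (iv D1946)
def n2338 : Q := act 2 n1776
theorem D2338 : act 2 n1776 = n2338 := rfl
theorem F8287 : act 7 n2338 = n1947 := d17_2 (iv F6389) D2338 (iv D1947)
def n2339 : Q := act 4 n1776
theorem D2339 : act 4 n1776 = n2339 := rfl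
theorem F8289 : act 3 n2339 = n1851 := d18_1 D2339 (iv D1851) (iv D1400) (iv F4894) D1776
theorem F8290 : act 7 n2339 = n1948 := d24_2 (iv F6389) D2339 (iv D1948)
def n2340 : Q := act 5 n1777
theorem D2340 : act 5 n1777 = n2340 := rfl
theorem F8291 : act 3 n2340 = n1852 := d19_1 D2340 (iv D1852) (iv F6390)
def n2341 : Q := act 2 n1778
theorem D2341 : act 2 n1778 = n2341 := rfl
theorem F8294 : act 0 n2341 = n1779 := d1_1 D2341 (iv D1779) (iv F6392)
theorem F8296 : act 7 n2341 = n1950 := d17_2 (iv F6393) D2341 (iv D1950)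
def n2342 : Q := act 4 n1778
theorem D2342 : act 4 n1778 = n2342 := rfl
theorem F8298 : act 3 n2342 = n1782 := d18_1 D2342 (iv D1782) (iv D1347) (iv F4900) D1778
def n2343 : Q := act 4 n1779
theorem D2343 : act 4 n1779 = n2343 := rfl
theorem F8300 : act 2 n2343 = n1780 := d14_1 D2343 (iv D1780) D1779
theorem F8301 : act 3 n2343 = n2343 := d18_1 D2343 (iv D2343) F6394 F4935 (iv F6394)
theorem F8302 : act 7 n2343 = n1952 := d24_2 (iv F6395) D2343 (iv D1952)
def n2344 : Q := act 6 n1779
theorem D2344 : act 6 n1779 = n2344 := rfl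
theorem F8303 : act 3 n2344 = n1788 := d20_1 D2344 (iv D1788) (iv F6394)
def n2345 : Q := act 5 n1780
theorem D2345 : act 5 n1780 = n2345 := rfl
theorem F8305 : act 3 n2345 = n1783 := d19_1 D2345 (iv D1783) (iv F6397)
theorem F8306 : act 7 n2345 = n1954 := d26_2 (iv F6398) D2345 (iv D1954)
def n2346 : Q := act 5 n1782
theorem D2346 : act 5 n1782 = n2346 := rfl
theorem F8307 : act 0 n2346 = n1783 := d4_1 D2346 (iv D1783) (iv F6401)
theorem F8309 : act 4 n2346 = n1858 := d22_1 D2346 (iv D1858) (iv D1406) (iv F4908) D1782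
theorem F8310 : act 7 n2346 = n1955 := d26_2 (iv F6403) D2346 (iv D1955)
def n2347 : Q := act 2 n1784
theorem D2347 : act 2 n1784 = n2347 := rfl
theorem F8311 : act 0 n2347 = n1785 := d1_1 D2347 (iv D1785) (iv F6408)
def n2348 : Q := act 4 n1784
theorem D2348 : act 4 n1784 = n2348 := rfl
theorem F8316 : act 3 n2348 = n1860 := d18_1 D2348 (iv D1860) (iv D1408) (iv F4917) D1784
def n2349 : Q := act 4 n1785
theorem D2349 : act 4 n1785 = n2349 := rfl
theorem F8320 : act 2 n2349 = n1786 := d14_1 D2349 (iv D1786) D1785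
theorem F8322 : act 7 n2349 = n1958 := d24_2 (iv F6414) D2349 (iv D1958)
def n2350 : Q := act 6 n1785
theorem D2350 : act 6 n1785 = n2350 := rfl
theorem F8324 : act 5 n2350 = n1788 := d25_1 D2350 (iv D1788) (iv F6413)
def n2351 : Q := act 1 n1787
theorem D2351 : act 1 n1787 = n2351 := rfl
def n2352 : Q := act 6 n1787
theorem D2352 : act 6 n1787 = n2352 := rfl
theorem F8328 : act 0 n2352 = n1788 := d5_1 D2352 (iv D1788) (iv F6420)
def n2353 : Q := act 7 n1788
theorem D2353 : act 7 n1788 = n2353 := rfl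
theorem F8331 : act 2 n2353 = n2353 := d17_1 D2353 (iv D2353) F6423
theorem F8332 : act 4 n2353 = n2353 := d24_1 D2353 (iv D2353) F6424
theorem F8333 : act 6 n2353 = n1962 := d27_1 D2353 (iv D1962) (iv D1486) (iv F4936) D1788
def n2356 : Q := act 7 n1789
theorem D2356 : act 7 n1789 = n2356 := rfl
theorem F8345 : act 2 n2356 = n1794 := d17_1 D2356 (iv D1794) (iv F6427)
theorem F8346 : act 4 n2356 = n1791 := d24_1 D2356 (iv D1791) D1789
def n2358 : Q := act 6 n1791
theorem D2358 : act 6 n1791 = n2358 := rfl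
def n2359 : Q := act 6 n1792
theorem D2359 : act 6 n1792 = n2359 := rfl
theorem F8361 : act 7 n2359 = n1793 := d27_2 D1792 D2359 (iv D1793) (iv D1357) D1356
def n2360 : Q := act 2 n1793
theorem D2360 : act 2 n1793 = n2360 := rfl
theorem F8364 : act 6 n2360 = n1796 := d16_2 D1793 D2360 (iv D1796) (iv D1360) (iv F4948)
def n2361 : Q := act 6 n1794
theorem D2361 : act 6 n1794 = n2361 := rfl
theorem F8365 : act 0 n2361 = n2361 := d5_1 D2361 (iv D2361) F6448
theorem F8366 : act 1 n2361 = n1803 := d11_1 D2361 (iv D1803) (iv F6449)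
theorem F8367 : act 4 n2361 = n1795 := d23_1 D2361 (iv D1795) (iv F6450)
theorem F8368 : act 5 n2361 = n2361 := d25_1 D2361 (iv D2361) F6451
theorem F8369 : act 7 n2361 = n2361 := d27_2 D1794 D2361 (iv D2361) (iv D1794) F4954
def n2362 : Q := act 2 n1795
theorem D2362 : act 2 n1795 = n2362 := rfl
def n2363 : Q := act 1 n1796
theorem D2363 : act 1 n1796 = n2363 := rfl
theorem F8373 : act 2 n2363 = n1805 := d7_2 D1796 D2363 (iv D1805) (iv D1367) (iv F4960)
def n2364 : Q := act 3 n1796
theorem D2364 : act 3 n1796 = n2364 := rfl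
theorem F8377 : act 2 n2364 = n1799 := d13_1 D2364 (iv D1799) (iv D1362) (iv F4961) D1796
def n2365 : Q := act 1 n1797
theorem D2365 : act 1 n1797 = n2365 := rfl
theorem F8379 : act 2 n2365 = n1807 := d7_2 D1797 D2365 (iv D1807) (iv D1368) (iv F4965)
theorem F8380 : act 5 n2365 = n1798 := d10_2 (iv F6461) D2365 (iv D1798)
def n2366 : Q := act 3 n1797
theorem D2366 : act 3 n1797 = n2366 := rfl
def n2367 : Q := act 0 n1798
theorem D2367 : act 0 n1798 = n2367 := rfl
theorem F8388 : act 2 n2367 = n1809 := d1_2 (iv F6464) D2367 (iv D1809)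
theorem F8389 : act 4 n2367 = n1800 := d3_2 (iv F6465) D2367 (iv D1800)
def n2368 : Q := act 3 n1798
theorem D2368 : act 3 n1798 = n2368 := rfl
theorem F8392 : act 1 n2368 = n1799 := d8_1 D2368 (iv D1799) D1798
def n2370 : Q := act 3 n1800
theorem D2370 : act 3 n1800 = n2370 := rfl
theorem F8399 : act 0 n2370 = n1801 := d2_1 D2370 (iv D1801) D1800
def n2371 : Q := act 2 n1801
theorem D2371 : act 2 n1801 = n2371 := rfl
def n2372 : Q := act 4 n1801
theorem D2372 : act 4 n1801 = n2372 := rfl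
theorem F8406 : act 1 n2372 = n1802 := d9_1 D2372 (iv D1802) (iv F6475)
def n2374 : Q := act 2 n1803
theorem D2374 : act 2 n1803 = n2374 := rfl
theorem F8413 : act 0 n2374 = n1832 := d1_1 D2374 (iv D1832) (iv F6482)
theorem F8414 : act 4 n2374 = n1804 := d14_2 (iv F6483) D2374 (iv D1804)
theorem F8415 : act 5 n2374 = n2374 := d15_2 F6484 D2374 (iv D2374)
theorem F8416 : act 6 n2374 = n2374 := d16_2 D1803 D2374 (iv D2374) (iv D1803) F4980
theorem F8417 : act 7 n2374 = n2374 := d17_2 F6485 D2374 (iv D2374)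
def n2375 : Q := act 1 n1804
theorem D2375 : act 1 n1804 = n2375 := rfl
def n2376 : Q := act 3 n1804
theorem D2376 : act 3 n1804 = n2376 := rfl
theorem F8421 : act 0 n2376 = n1834 := d2_1 D2376 (iv D1834) (iv F6486)
def n2377 : Q := act 0 n1805
theorem D2377 : act 0 n1805 = n2377 := rfl
theorem F8426 : act 1 n2377 = n1835 := d0_2 D1805 D2377 (iv D1835) (iv D1388) (iv F4987)
def n2378 : Q := act 3 n1805
theorem D2378 : act 3 n1805 = n2378 := rfl
theorem F8430 : act 1 n2378 = n1806 := d8_1 D2378 (iv D1806) D1805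
def n2379 : Q := act 4 n1806
theorem D2379 : act 4 n1806 = n2379 := rfl
theorem F8433 : act 0 n2379 = n1837 := d3_1 D2379 (iv D1837) (iv F6493)
def n2380 : Q := act 0 n1807
theorem D2380 : act 0 n1807 = n2380 := rfl
theorem F8438 : act 1 n2380 = n1838 := d0_2 D1807 D2380 (iv D1838) (iv D1390) (iv F4991)
theorem F8439 : act 5 n2380 = n1809 := d4_2 (iv F6497) D2380 (iv D1809)
def n2381 : Q := act 3 n1807
theorem D2381 : act 3 n1807 = n2381 := rfl
theorem F8443 : act 5 n2381 = n1810 := d19_2 (iv F6497) D2381 (iv D1810)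
theorem F8444 : act 6 n2381 = n1817 := d20_2 (iv F6498) D2381 (iv D1817)
def n2382 : Q := act 4 n1808
theorem D2382 : act 4 n1808 = n2382 := rfl
theorem F8446 : act 0 n2382 = n1840 := d3_1 D2382 (iv D1840) (iv F6500)
def n2383 : Q := act 3 n1809
theorem D2383 : act 3 n1809 = n2383 := rfl
theorem F8449 : act 0 n2383 = n1810 := d2_1 D2383 (iv D1810) D1809
theorem F8450 : act 1 n2383 = n1841 := d8_1 D2383 (iv D1841) (iv F6504)
def n2384 : Q := act 2 n1810
theorem D2384 : act 2 n1810 = n2384 := rfl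
def n2385 : Q := act 4 n1810
theorem D2385 : act 4 n1810 = n2385 := rfl
theorem F8455 : act 3 n2385 = n1814 := d18_1 D2385 (iv D1814) (iv D1372) (iv F4995) D1810
theorem F8456 : act 6 n2385 = n1821 := d23_2 (iv F6509) D2385 (iv D1821)
def n2387 : Q := act 2 n1812
theorem D2387 : act 2 n1812 = n2387 := rfl
theorem F8462 : act 0 n2387 = n1813 := d1_1 D2387 (iv D1813) (iv F6515)
def n2388 : Q := act 4 n1812
theorem D2388 : act 4 n1812 = n2388 := rfl
theorem F8464 : act 0 n2388 = n1814 := d3_1 D2388 (iv D1814) (iv F6515)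
theorem F8465 : act 1 n2388 = n1846 := d9_1 D2388 (iv D1846) (iv F6516)
theorem F8466 : act 6 n2388 = n1824 := d23_2 (iv F6517) D2388 (iv D1824)
def n2389 : Q := act 4 n1813
theorem D2389 : act 4 n1813 = n2389 := rfl
theorem F8469 : act 2 n2389 = n1814 := d14_1 D2389 (iv D1814) D1813
def n2390 : Q := act 6 n1813
theorem D2390 : act 6 n1813 = n2390 := rfl
theorem F8472 : act 2 n2390 = n1826 := d16_1 D2390 (iv D1826) (iv D1380) (iv F5005) D1813
def n2391 : Q := act 5 n1814
theorem D2391 : act 5 n1814 = n2391 := rfl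
theorem F8474 : act 6 n2391 = n1827 := d25_2 (iv F6522) D2391 (iv D1827)
def n2392 : Q := act 3 n1816
theorem D2392 : act 3 n1816 = n2392 := rfl
theorem F8476 : act 0 n2392 = n1817 := d2_1 D2392 (iv D1817) D1816
theorem F8477 : act 1 n2392 = n1849 := d8_1 D2392 (iv D1849) (iv F6528)
theorem F8478 : act 5 n2392 = n1819 := d19_2 (iv F6530) D2392 (iv D1819)
theorem F8479 : act 7 n2392 = n1963 := d21_2 (iv F6531) D2392 (iv D1963)
def n2393 : Q := act 2 n1817
theorem D2393 : act 2 n1817 = n2393 := rfl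
theorem F8482 : act 5 n2393 = n1820 := d15_2 (iv F6533) D2393 (iv D1820)
def n2394 : Q := act 4 n1817
theorem D2394 : act 4 n1817 = n2394 := rfl
def n2395 : Q := act 5 n1818
theorem D2395 : act 5 n1818 = n2395 := rfl
theorem F8488 : act 4 n2395 = n1822 := d22_1 D2395 (iv D1822) (iv D1378) (iv F5016) D1818
def n2396 : Q := act 2 n1819
theorem D2396 : act 2 n1819 = n2396 := rfl
theorem F8490 : act 0 n2396 = n1820 := d1_1 D2396 (iv D1820) (iv F6538)
theorem F8492 : act 7 n2396 = n1967 := d17_2 (iv F6540) D2396 (iv D1967)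
def n2397 : Q := act 4 n1819
theorem D2397 : act 4 n1819 = n2397 := rfl
theorem F8493 : act 0 n2397 = n1821 := d3_1 D2397 (iv D1821) (iv F6538)
theorem F8494 : act 1 n2397 = n1854 := d9_1 D2397 (iv D1854) (iv F6539)
theorem F8495 : act 3 n2397 = n1824 := d18_1 D2397 (iv D1824) (iv D1379) (iv F5020) D1819
theorem F8496 : act 7 n2397 = n1968 := d24_2 (iv F6540) D2397 (iv D1968)
def n2398 : Q := act 4 n1820
theorem D2398 : act 4 n1820 = n2398 := rfl
theorem F8498 : act 2 n2398 = n1821 := d14_1 D2398 (iv D1821) D1820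
theorem F8499 : act 7 n2398 = n1969 := d24_2 (iv F6543) D2398 (iv D1969)
def n2400 : Q := act 5 n1821
theorem D2400 : act 5 n1821 = n2400 := rfl
theorem F8503 : act 3 n2400 = n1827 := d19_1 D2400 (iv D1827) (iv F6545)
theorem F8504 : act 7 n2400 = n1971 := d26_2 (iv F6546) D2400 (iv D1971)
def n2401 : Q := act 4 n1823
theorem D2401 : act 4 n1823 = n2401 := rfl
theorem F8507 : act 2 n2401 = n1824 := d14_1 D2401 (iv D1824) D1823
theorem F8508 : act 7 n2401 = n1972 := d24_2 (iv F6554) D2401 (iv D1972)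
def n2403 : Q := act 5 n1824
theorem D2403 : act 5 n1824 = n2403 := rfl
theorem F8512 : act 0 n2403 = n1827 := d4_1 D2403 (iv D1827) (iv F6555)
theorem F8513 : act 1 n2403 = n1858 := d10_1 D2403 (iv D1858) (iv F6556)
def n2404 : Q := act 3 n1825
theorem D2404 : act 3 n1825 = n2404 := rfl
theorem F8515 : act 1 n2404 = n1828 := d8_1 D2404 (iv D1828) (iv F6558)
theorem F8517 : act 7 n2404 = n1975 := d21_2 (iv F6560) D2404 (iv D1975)
def n2405 : Q := act 5 n1825
theorem D2405 : act 5 n1825 = n2405 := rfl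
theorem F8518 : act 1 n2405 = n1829 := d10_1 D2405 (iv D1829) (iv F6558)
theorem F8519 : act 2 n2405 = n1827 := d15_1 D2405 (iv D1827) (iv F6559)
def n2406 : Q := act 6 n1825
theorem D2406 : act 6 n1825 = n2406 := rfl
def n2408 : Q := act 5 n1828
theorem D2408 : act 5 n1828 = n2408 := rfl
theorem F8529 : act 7 n2408 = n1979 := d26_2 (iv F6568) D2408 (iv D1979)
def n2409 : Q := act 6 n1828
theorem D2409 : act 6 n1828 = n2409 := rfl
def n2410 : Q := act 6 n1829
theorem D2410 : act 6 n1829 = n2410 := rfl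
def n2412 : Q := act 1 n1832
theorem D2412 : act 1 n1832 = n2412 := rfl
theorem F8541 : act 4 n2412 = n1833 := d9_2 (iv F6579) D2412 (iv D1833)
def n2413 : Q := act 3 n1832
theorem D2413 : act 3 n1832 = n2413 := rfl
theorem F8545 : act 5 n2413 = n2413 := d19_2 F6580 D2413 (iv D2413)
theorem F8546 : act 6 n2413 = n2413 := d20_2 F6581 D2413 (iv D2413)
theorem F8547 : act 7 n2413 = n2413 := d21_2 F6582 D2413 (iv D2413)
def n2414 : Q := act 0 n1833
theorem D2414 : act 0 n1833 = n2414 := rfl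
theorem F8549 : act 5 n2414 = n1835 := d4_2 (iv F6584) D2414 (iv D1835)
def n2415 : Q := act 3 n1833
theorem D2415 : act 3 n1833 = n2415 := rfl
theorem F8552 : act 1 n2415 = n1834 := d8_1 D2415 (iv D1834) D1833
theorem F8553 : act 5 n2415 = n1836 := d19_2 (iv F6584) D2415 (iv D1836)
theorem F8554 : act 6 n2415 = n2415 := d20_2 F6585 D2415 (iv D2415)
theorem F8555 : act 7 n2415 = n2415 := d21_2 F6586 D2415 (iv D2415)
def n2416 : Q := act 4 n1834
theorem D2416 : act 4 n1834 = n2416 := rfl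
def n2417 : Q := act 3 n1835
theorem D2417 : act 3 n1835 = n2417 := rfl
theorem F8559 : act 0 n2417 = n1836 := d2_1 D2417 (iv D1836) D1835
def n2418 : Q := act 2 n1836
theorem D2418 : act 2 n1836 = n2418 := rfl
theorem F8562 : act 1 n2418 = n1842 := d7_1 D2418 (iv D1842) F5075 (iv F5061) (iv F6595)
theorem F8563 : act 3 n2418 = n2418 := d13_2 D1836 D2418 (iv D2418) (iv D1836) F5057
theorem F8564 : act 7 n2418 = n2418 := d17_2 F6597 D2418 (iv D2418)
def n2419 : Q := act 4 n1836
theorem D2419 : act 4 n1836 = n2419 := rfl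
theorem F8565 : act 1 n2419 = n1837 := d9_1 D2419 (iv D1837) (iv F6595)
theorem F8567 : act 6 n2419 = n2419 := d23_2 F6596 D2419 (iv D2419)
def n2421 : Q := act 3 n1838
theorem D2421 : act 3 n1838 = n2421 := rfl
theorem F8573 : act 0 n2421 = n1839 := d2_1 D2421 (iv D1839) D1838
theorem F8574 : act 5 n2421 = n1841 := d19_2 (iv F6603) D2421 (iv D1841)
theorem F8575 : act 6 n2421 = n1849 := d20_2 (iv F6604) D2421 (iv D1849)
def n2422 : Q := act 2 n1839
theorem D2422 : act 2 n1839 = n2422 := rfl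
def n2423 : Q := act 4 n1839
theorem D2423 : act 4 n1839 = n2423 := rfl
def n2425 : Q := act 2 n1841
theorem D2425 : act 2 n1841 = n2425 := rfl
theorem F8586 : act 0 n2425 = n1842 := d1_1 D2425 (iv D1842) (iv F6612)
theorem F8587 : act 3 n2425 = n2425 := d13_2 D1841 D2425 (iv D2425) (iv D1841) F5071
def n2426 : Q := act 4 n1841
theorem D2426 : act 4 n1841 = n2426 := rfl
theorem F8590 : act 3 n2426 = n1846 := d18_1 D2426 (iv D1846) (iv D1395) (iv F5072) D1841
theorem F8591 : act 6 n2426 = n1854 := d23_2 (iv F6613) D2426 (iv D1854)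
def n2427 : Q := act 4 n1842
theorem D2427 : act 4 n1842 = n2427 := rfl
theorem F8593 : act 2 n2427 = n1843 := d14_1 D2427 (iv D1843) D1842
theorem F8594 : act 7 n2427 = n2427 := d24_2 F6616 D2427 (iv D2427)
def n2428 : Q := act 6 n1842
theorem D2428 : act 6 n1842 = n2428 := rfl
theorem F8595 : act 2 n2428 = n1856 := d16_1 D2428 (iv D1856) (iv D1403) (iv F5076) D1842
def n2429 : Q := act 5 n1843
theorem D2429 : act 5 n1843 = n2429 := rfl
theorem F8599 : act 6 n2429 = n1857 := d25_2 (iv F6619) D2429 (iv D1857)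
def n2430 : Q := act 1 n1845
theorem D2430 : act 1 n1845 = n2430 := rfl
theorem F8604 : act 7 n2430 = n2430 := d12_2 F6627 D2430 (iv D2430)
def n2431 : Q := act 4 n1845
theorem D2431 : act 4 n1845 = n2431 := rfl
theorem F8605 : act 0 n2431 = n1847 := d3_1 D2431 (iv D1847) (iv F6624)
theorem F8606 : act 2 n2431 = n1846 := d14_1 D2431 (iv D1846) D1845
theorem F8607 : act 6 n2431 = n2431 := d23_2 F6626 D2431 (iv D2431)
def n2432 : Q := act 5 n1846
theorem D2432 : act 5 n1846 = n2432 := rfl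
def n2433 : Q := act 3 n1847
theorem D2433 : act 3 n1847 = n2433 := rfl
def n2434 : Q := act 5 n1847
theorem D2434 : act 5 n1847 = n2434 := rfl
def n2435 : Q := act 2 n1849
theorem D2435 : act 2 n1849 = n2435 := rfl
theorem F8621 : act 3 n2435 = n1859 := d13_2 D1849 D2435 (iv D1859) (iv D1408) (iv F5094)
theorem F8622 : act 5 n2435 = n1853 := d15_2 (iv F6639) D2435 (iv D1853)
theorem F8623 : act 7 n2435 = n1983 := d17_2 (iv F6640) D2435 (iv D1983)
def n2436 : Q := act 4 n1849
theorem D2436 : act 4 n1849 = n2436 := rfl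
theorem F8625 : act 7 n2436 = n1984 := d24_2 (iv F6640) D2436 (iv D1984)
def n2437 : Q := act 4 n1850
theorem D2437 : act 4 n1850 = n2437 := rfl
theorem F8627 : act 2 n2437 = n1851 := d14_1 D2437 (iv D1851) D1850
theorem F8628 : act 7 n2437 = n1985 := d24_2 (iv F6644) D2437 (iv D1985)
def n2438 : Q := act 6 n1850
theorem D2438 : act 6 n1850 = n2438 := rfl
theorem F8631 : act 5 n2438 = n1856 := d25_1 D2438 (iv D1856) (iv F6643)
def n2439 : Q := act 5 n1851
theorem D2439 : act 5 n1851 = n2439 := rfl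
def n2440 : Q := act 1 n1853
theorem D2440 : act 1 n1853 = n2440 := rfl
theorem F8635 : act 0 n2440 = n2440 := d0_1 D2440 (iv D2440) F6650 F5104 (iv F6650)
theorem F8636 : act 3 n2440 = n1863 := d8_2 (iv F6651) D2440 (iv D1863)
theorem F8637 : act 7 n2440 = n1988 := d12_2 (iv F6652) D2440 (iv D1988)
def n2441 : Q := act 4 n1853
theorem D2441 : act 4 n1853 = n2441 := rfl
theorem F8638 : act 0 n2441 = n1855 := d3_1 D2441 (iv D1855) (iv F6650)
theorem F8639 : act 2 n2441 = n1854 := d14_1 D2441 (iv D1854) D1853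
theorem F8641 : act 7 n2441 = n1989 := d24_2 (iv F6652) D2441 (iv D1989)
def n2442 : Q := act 6 n1853
theorem D2442 : act 6 n1853 = n2442 := rfl
theorem F8642 : act 0 n2442 = n1856 := d5_1 D2442 (iv D1856) (iv F6650)
theorem F8643 : act 3 n2442 = n1864 := d20_1 D2442 (iv D1864) (iv F6651)
def n2443 : Q := act 5 n1854
theorem D2443 : act 5 n1854 = n2443 := rfl
theorem F8645 : act 3 n2443 = n1858 := d19_1 D2443 (iv D1858) (iv F6654)
def n2444 : Q := act 5 n1855
theorem D2444 : act 5 n1855 = n2444 := rfl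
theorem F8648 : act 2 n2444 = n1857 := d15_1 D2444 (iv D1857) (iv F6657)
def n2445 : Q := act 6 n1855
theorem D2445 : act 6 n1855 = n2445 := rfl
theorem F8651 : act 1 n2445 = n2445 := d11_1 D2445 (iv D2445) F6656
theorem F8653 : act 4 n2445 = n1856 := d23_1 D2445 (iv D1856) D1855
def n2446 : Q := act 7 n1856
theorem D2446 : act 7 n1856 = n2446 := rfl
theorem F8654 : act 1 n2446 = n2446 := d12_1 D2446 (iv D2446) F6660
theorem F8655 : act 3 n2446 = n1865 := d21_1 D2446 (iv D1865) (iv F6661)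
theorem F8656 : act 6 n2446 = n1994 := d27_1 D2446 (iv D1994) (iv D1510) (iv F5106) D1856
def n2447 : Q := act 1 n1859
theorem D2447 : act 1 n1859 = n2447 := rfl
theorem F8659 : act 5 n2447 = n1863 := d10_2 (iv F6669) D2447 (iv D1863)
theorem F8660 : act 7 n2447 = n1995 := d12_2 (iv F6670) D2447 (iv D1995)
def n2448 : Q := act 4 n1859
theorem D2448 : act 4 n1859 = n2448 := rfl
theorem F8662 : act 2 n2448 = n1860 := d14_1 D2448 (iv D1860) D1859
theorem F8664 : act 7 n2448 = n1996 := d24_2 (iv F6670) D2448 (iv D1996)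
def n2449 : Q := act 6 n1859
theorem D2449 : act 6 n1859 = n2449 := rfl
theorem F8667 : act 5 n2449 = n1864 := d25_1 D2449 (iv D1864) (iv F6669)
def n2450 : Q := act 3 n1861
theorem D2450 : act 3 n1861 = n2450 := rfl
theorem F8670 : act 7 n2450 = n1998 := d21_2 (iv F6679) D2450 (iv D1998)
def n2451 : Q := act 6 n1861
theorem D2451 : act 6 n1861 = n2451 := rfl
theorem F8673 : act 4 n2451 = n1862 := d23_1 D2451 (iv D1862) D1861
def n2452 : Q := act 7 n1862
theorem D2452 : act 7 n1862 = n2452 := rfl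
theorem F8677 : act 5 n2452 = n1865 := d26_1 D2452 (iv D1865) (iv F6682)
theorem F8678 : act 6 n2452 = n2000 := d27_1 D2452 (iv D2000) (iv D1516) (iv F5126) D1862
def n2453 : Q := act 6 n1863
theorem D2453 : act 6 n1863 = n2453 := rfl
theorem F8679 : act 0 n2453 = n2453 := d5_1 D2453 (iv D2453) F6683
theorem F8680 : act 1 n2453 = n1864 := d11_1 D2453 (iv D1864) D1863
def n2454 : Q := act 7 n1864
theorem D2454 : act 7 n1864 = n2454 := rfl
theorem F8683 : act 2 n2454 = n2454 := d17_1 D2454 (iv D2454) F6688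
theorem F8685 : act 6 n2454 = n2002 := d27_1 D2454 (iv D2002) (iv D1518) (iv F5133) D1864
def n2456 : Q := act 7 n1866
theorem D2456 : act 7 n1866 = n2456 := rfl
theorem F8691 : act 2 n2456 = n1867 := d17_1 D2456 (iv D1867) D1866
theorem F8693 : act 5 n2456 = n1870 := d26_1 D2456 (iv D1870) (iv F6696)
def n2457 : Q := act 6 n1867
theorem D2457 : act 6 n1867 = n2457 := rfl
theorem F8695 : act 1 n2457 = n1879 := d11_1 D2457 (iv D1879) (iv F6699)
theorem F8698 : act 5 n2457 = n1871 := d25_1 D2457 (iv D1871) (iv F6702)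
theorem F8699 : act 7 n2457 = n1868 := d27_2 D1867 D2457 (iv D1868) (iv D1414) D1413
def n2458 : Q := act 2 n1868
theorem D2458 : act 2 n1868 = n2458 := rfl
theorem F8700 : act 0 n2458 = n2458 := d1_1 D2458 (iv D2458) F6703
theorem F8701 : act 4 n2458 = n2458 := d14_2 F6706 D2458 (iv D2458)
theorem F8702 : act 5 n2458 = n1872 := d15_2 (iv F6707) D2458 (iv D1872)
theorem F8703 : act 6 n2458 = n2458 := d16_2 D1868 D2458 (iv D2458) (iv D1868) F5144
def n2459 : Q := act 4 n1869
theorem D2459 : act 4 n1869 = n2459 := rfl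
theorem F8706 : act 3 n2459 = n1873 := d18_1 D2459 (iv D1873) (iv D1418) (iv F5149) D1869
def n2460 : Q := act 7 n1869
theorem D2460 : act 7 n1869 = n2460 := rfl
theorem F8710 : act 3 n2460 = n1870 := d21_1 D2460 (iv D1870) D1869
def n2461 : Q := act 6 n1870
theorem D2461 : act 6 n1870 = n2461 := rfl
theorem F8712 : act 4 n2461 = n1875 := d23_1 D2461 (iv D1875) (iv F6713)
def n2462 : Q := act 2 n1871
theorem D2462 : act 2 n1871 = n2462 := rfl
theorem F8714 : act 0 n2462 = n2462 := d1_1 D2462 (iv D2462) F6714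
theorem F8715 : act 4 n2462 = n1876 := d14_2 (iv F6717) D2462 (iv D1876)
theorem F8716 : act 7 n2462 = n1872 := d17_2 (iv F6718) D2462 (iv D1872)
def n2463 : Q := act 1 n1872
theorem D2463 : act 1 n1872 = n2463 := rfl
theorem F8717 : act 2 n2463 = n1882 := d7_2 D1872 D2463 (iv D1882) (iv D1425) (iv F5156)
theorem F8718 : act 4 n2463 = n1877 := d9_2 (iv F6720) D2463 (iv D1877)
theorem F8719 : act 6 n2463 = n2463 := d11_2 F6721 D2463 (iv D2463)
def n2464 : Q := act 3 n1872
theorem D2464 : act 3 n1872 = n2464 := rfl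
theorem F8720 : act 0 n2464 = n2464 := d2_1 D2464 (iv D2464) F6719
theorem F8721 : act 2 n2464 = n2464 := d13_1 D2464 (iv D2464) (iv D1872) F5157 D1872
theorem F8722 : act 6 n2464 = n2464 := d20_2 F6721 D2464 (iv D2464)
def n2465 : Q := act 5 n1873
theorem D2465 : act 5 n1873 = n2465 := rfl
theorem F8724 : act 2 n2465 = n2030 := d15_1 D2465 (iv D2030) (iv F6723)
def n2466 : Q := act 7 n1873
theorem D2466 : act 7 n1873 = n2466 := rfl
theorem F8728 : act 2 n2466 = n2031 := d17_1 D2466 (iv D2031) (iv F6723)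
theorem F8729 : act 4 n2466 = n1874 := d24_1 D2466 (iv D1874) D1873
def n2467 : Q := act 6 n1874
theorem D2467 : act 6 n1874 = n2467 := rfl
theorem F8731 : act 3 n2467 = n1875 := d20_1 D2467 (iv D1875) (iv F6727)
def n2468 : Q := act 2 n1875
theorem D2468 : act 2 n1875 = n2468 := rfl
theorem F8734 : act 0 n2468 = n2468 := d1_1 D2468 (iv D2468) F6729
theorem F8735 : act 5 n2468 = n2468 := d15_2 F6730 D2468 (iv D2468)
theorem F8736 : act 6 n2468 = n1876 := d16_2 D1875 D2468 (iv D1876) (iv D1420) (iv F5164)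
theorem F8737 : act 7 n2468 = n2468 := d17_2 F6731 D2468 (iv D2468)
def n2469 : Q := act 1 n1876
theorem D2469 : act 1 n1876 = n2469 := rfl
theorem F8738 : act 2 n2469 = n1884 := d7_2 D1876 D2469 (iv D1884) (iv D1426) (iv F5167)
theorem F8739 : act 5 n2469 = n2469 := d10_2 F6733 D2469 (iv D2469)
theorem F8740 : act 7 n2469 = n1877 := d12_2 (iv F6734) D2469 (iv D1877)
def n2470 : Q := act 3 n1876
theorem D2470 : act 3 n1876 = n2470 := rfl
def n2471 : Q := act 0 n1877
theorem D2471 : act 0 n1877 = n2471 := rfl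
theorem F8745 : act 1 n2471 = n2471 := d0_2 D1877 D2471 (iv D2471) (iv D1877) F5171
theorem F8746 : act 2 n2471 = n1886 := d1_2 (iv F6735) D2471 (iv D1886)
theorem F8747 : act 5 n2471 = n2471 := d4_2 F6736 D2471 (iv D2471)
theorem F8748 : act 6 n2471 = n2471 := d5_2 F6737 D2471 (iv D2471)
def n2472 : Q := act 3 n1877
theorem D2472 : act 3 n1877 = n2472 := rfl
def n2474 : Q := act 2 n1879
theorem D2474 : act 2 n1879 = n2474 := rfl
theorem F8755 : act 0 n2474 = n1901 := d1_1 D2474 (iv D1901) (iv F6742)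
theorem F8756 : act 4 n2474 = n2474 := d14_2 F6744 D2474 (iv D2474)
theorem F8757 : act 5 n2474 = n1881 := d15_2 (iv F6745) D2474 (iv D1881)
theorem F8758 : act 7 n2474 = n1880 := d17_2 (iv F6746) D2474 (iv D1880)
def n2475 : Q := act 1 n1880
theorem D2475 : act 1 n1880 = n2475 := rfl
theorem F8759 : act 4 n2475 = n2475 := d9_2 F6748 D2475 (iv D2475)
theorem F8760 : act 5 n2475 = n1882 := d10_2 (iv F6749) D2475 (iv D1882)
theorem F8761 : act 6 n2475 = n1889 := d11_2 (iv F6750) D2475 (iv D1889)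
def n2476 : Q := act 3 n1880
theorem D2476 : act 3 n1880 = n2476 := rfl
theorem F8762 : act 0 n2476 = n1903 := d2_1 D2476 (iv D1903) (iv F6747)
theorem F8763 : act 2 n2476 = n2476 := d13_1 D2476 (iv D2476) (iv D1880) F5179 D1880
theorem F8764 : act 5 n2476 = n1883 := d19_2 (iv F6749) D2476 (iv D1883)
theorem F8765 : act 6 n2476 = n1890 := d20_2 (iv F6750) D2476 (iv D1890)
def n2477 : Q := act 1 n1881
theorem D2477 : act 1 n1881 = n2477 := rfl
theorem F8766 : act 4 n2477 = n1884 := d9_2 (iv F6752) D2477 (iv D1884)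
theorem F8767 : act 7 n2477 = n1882 := d12_2 (iv F6753) D2477 (iv D1882)
def n2478 : Q := act 3 n1881
theorem D2478 : act 3 n1881 = n2478 := rfl
theorem F8768 : act 0 n2478 = n1905 := d2_1 D2478 (iv D1905) (iv F6751)
theorem F8769 : act 2 n2478 = n2478 := d13_1 D2478 (iv D2478) (iv D1881) F5183 D1881
theorem F8770 : act 7 n2478 = n1883 := d21_2 (iv F6753) D2478 (iv D1883)
def n2479 : Q := act 0 n1882
theorem D2479 : act 0 n1882 = n2479 := rfl
theorem F8771 : act 1 n2479 = n1906 := d0_2 D1882 D2479 (iv D1906) (iv D1441) (iv F5186)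
theorem F8772 : act 4 n2479 = n1886 := d3_2 (iv F6754) D2479 (iv D1886)
theorem F8773 : act 6 n2479 = n1891 := d5_2 (iv F6755) D2479 (iv D1891)
def n2480 : Q := act 3 n1882
theorem D2480 : act 3 n1882 = n2480 := rfl
theorem F8774 : act 1 n2480 = n1883 := d8_1 D2480 (iv D1883) D1882
theorem F8775 : act 6 n2480 = n1892 := d20_2 (iv F6755) D2480 (iv D1892)
def n2481 : Q := act 4 n1883
theorem D2481 : act 4 n1883 = n2481 := rfl
theorem F8776 : act 0 n2481 = n1908 := d3_1 D2481 (iv D1908) (iv F6756)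
theorem F8777 : act 2 n2481 = n2481 := d14_1 D2481 (iv D2481) F6757
theorem F8778 : act 3 n2481 = n1888 := d18_1 D2481 (iv D1888) (iv D1428) (iv F5187) D1883
theorem F8779 : act 6 n2481 = n1893 := d23_2 (iv F6758) D2481 (iv D1893)
def n2482 : Q := act 0 n1884
theorem D2482 : act 0 n1884 = n2482 := rfl
theorem F8780 : act 1 n2482 = n1909 := d0_2 D1884 D2482 (iv D1909) (iv D1443) (iv F5189)
theorem F8781 : act 5 n2482 = n2482 := d4_2 F6759 D2482 (iv D2482)
theorem F8782 : act 7 n2482 = n1886 := d6_2 (iv F6760) D2482 (iv D1886)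
def n2483 : Q := act 3 n1884
theorem D2483 : act 3 n1884 = n2483 := rfl
theorem F8783 : act 1 n2483 = n1885 := d8_1 D2483 (iv D1885) D1884
theorem F8784 : act 5 n2483 = n2483 := d19_2 F6759 D2483 (iv D2483)
theorem F8785 : act 7 n2483 = n1887 := d21_2 (iv F6760) D2483 (iv D1887)
def n2484 : Q := act 4 n1885
theorem D2484 : act 4 n1885 = n2484 := rfl
theorem F8786 : act 0 n2484 = n1911 := d3_1 D2484 (iv D1911) (iv F6761)
theorem F8787 : act 2 n2484 = n2041 := d14_1 D2484 (iv D2041) (iv F6762)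
theorem F8788 : act 7 n2484 = n1888 := d24_2 (iv F6764) D2484 (iv D1888)
def n2485 : Q := act 3 n1886
theorem D2485 : act 3 n1886 = n2485 := rfl
theorem F8789 : act 0 n2485 = n1887 := d2_1 D2485 (iv D1887) D1886
theorem F8790 : act 1 n2485 = n1912 := d8_1 D2485 (iv D1912) (iv F6765)
theorem F8791 : act 5 n2485 = n2485 := d19_2 F6766 D2485 (iv D2485)
theorem F8792 : act 6 n2485 = n1894 := d20_2 (iv F6767) D2485 (iv D1894)
def n2486 : Q := act 2 n1887
theorem D2486 : act 2 n1887 = n2486 := rfl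
def n2487 : Q := act 4 n1887
theorem D2487 : act 4 n1887 = n2487 := rfl
theorem F8795 : act 1 n2487 = n1888 := d9_1 D2487 (iv D1888) (iv F6768)
theorem F8796 : act 6 n2487 = n1896 := d23_2 (iv F6770) D2487 (iv D1896)
def n2489 : Q := act 0 n1889
theorem D2489 : act 0 n1889 = n2489 := rfl
theorem F8801 : act 1 n2489 = n1916 := d0_2 D1889 D2489 (iv D1916) (iv D1448) (iv F5198)
theorem F8802 : act 2 n2489 = n2489 := d1_2 F6774 D2489 (iv D2489)
theorem F8803 : act 4 n2489 = n2489 := d3_2 F6775 D2489 (iv D2489)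
theorem F8804 : act 5 n2489 = n1891 := d4_2 (iv F6776) D2489 (iv D1891)
def n2490 : Q := act 3 n1889
theorem D2490 : act 3 n1889 = n2490 := rfl
theorem F8805 : act 1 n2490 = n1890 := d8_1 D2490 (iv D1890) D1889
theorem F8806 : act 5 n2490 = n1892 := d19_2 (iv F6776) D2490 (iv D1892)
def n2491 : Q := act 4 n1890
theorem D2491 : act 4 n1890 = n2491 := rfl
theorem F8807 : act 0 n2491 = n1918 := d3_1 D2491 (iv D1918) (iv F6777)
theorem F8808 : act 2 n2491 = n1932 := d14_1 D2491 (iv D1932) (iv F6778)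
theorem F8809 : act 3 n2491 = n2491 := d18_1 D2491 (iv D2491) (iv D1890) F5199 D1890
def n2492 : Q := act 3 n1891
theorem D2492 : act 3 n1891 = n2492 := rfl
theorem F8810 : act 0 n2492 = n1892 := d2_1 D2492 (iv D1892) D1891
theorem F8811 : act 1 n2492 = n1919 := d8_1 D2492 (iv D1919) (iv F6780)
def n2493 : Q := act 2 n1892
theorem D2493 : act 2 n1892 = n2493 := rfl
theorem F8812 : act 1 n2493 = n1934 := d7_1 D2493 (iv D1934) F5298 (iv F5204) (iv F6783)
theorem F8813 : act 3 n2493 = n2493 := d13_2 D1892 D2493 (iv D2493) (iv D1892) F5201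
def n2494 : Q := act 4 n1892
theorem D2494 : act 4 n1892 = n2494 := rfl
theorem F8814 : act 1 n2494 = n1893 := d9_1 D2494 (iv D1893) (iv F6783)
theorem F8815 : act 3 n2494 = n1896 := d18_1 D2494 (iv D1896) (iv D1433) (iv F5202) D1892
def n2495 : Q := act 5 n1893
theorem D2495 : act 5 n1893 = n2495 := rfl
theorem F8816 : act 0 n2495 = n1922 := d4_1 D2495 (iv D1922) (iv F6784)
def n2496 : Q := act 2 n1894
theorem D2496 : act 2 n1894 = n2496 := rfl
theorem F8819 : act 0 n2496 = n1895 := d1_1 D2496 (iv D1895) (iv F6787)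
theorem F8820 : act 1 n2496 = n2496 := d7_1 D2496 (iv D2496) F6788 F5263 (iv F6788)
theorem F8821 : act 3 n2496 = n2496 := d13_2 D1894 D2496 (iv D2496) (iv D1894) F5206
theorem F8822 : act 5 n2496 = n2496 := d15_2 F6789 D2496 (iv D2496)
def n2497 : Q := act 4 n1894
theorem D2497 : act 4 n1894 = n2497 := rfl
theorem F8823 : act 0 n2497 = n1896 := d3_1 D2497 (iv D1896) (iv F6787)
theorem F8824 : act 1 n2497 = n1923 := d9_1 D2497 (iv D1923) (iv F6788)
def n2498 : Q := act 4 n1895
theorem D2498 : act 4 n1895 = n2498 := rfl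
theorem F8826 : act 2 n2498 = n1896 := d14_1 D2498 (iv D1896) D1895
def n2499 : Q := act 6 n1895
theorem D2499 : act 6 n1895 = n2499 := rfl
def n2505 : Q := act 1 n1901
theorem D2505 : act 1 n1901 = n2505 := rfl
theorem F8845 : act 2 n2505 = n2505 := d7_2 D1901 D2505 (iv D2505) (iv D1901) F5223
theorem F8846 : act 4 n2505 = n2505 := d9_2 F6808 D2505 (iv D2505)
theorem F8847 : act 5 n2505 = n1904 := d10_2 (iv F6809) D2505 (iv D1904)
theorem F8848 : act 7 n2505 = n1902 := d12_2 (iv F6810) D2505 (iv D1902)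
def n2506 : Q := act 3 n1901
theorem D2506 : act 3 n1901 = n2506 := rfl
theorem F8849 : act 2 n2506 = n2506 := d13_1 D2506 (iv D2506) (iv D1901) F5224 D1901
theorem F8850 : act 5 n2506 = n1905 := d19_2 (iv F6809) D2506 (iv D1905)
theorem F8851 : act 7 n2506 = n1903 := d21_2 (iv F6810) D2506 (iv D1903)
def n2507 : Q := act 0 n1902
theorem D2507 : act 0 n1902 = n2507 := rfl
theorem F8852 : act 2 n2507 = n2507 := d1_2 F6811 D2507 (iv D2507)
theorem F8853 : act 4 n2507 = n2507 := d3_2 F6812 D2507 (iv D2507)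
theorem F8854 : act 5 n2507 = n1906 := d4_2 (iv F6813) D2507 (iv D1906)
theorem F8855 : act 6 n2507 = n1916 := d5_2 (iv F6814) D2507 (iv D1916)
def n2508 : Q := act 3 n1902
theorem D2508 : act 3 n1902 = n2508 := rfl
theorem F8856 : act 1 n2508 = n1903 := d8_1 D2508 (iv D1903) D1902
theorem F8857 : act 5 n2508 = n1907 := d19_2 (iv F6813) D2508 (iv D1907)
theorem F8858 : act 6 n2508 = n1917 := d20_2 (iv F6814) D2508 (iv D1917)
def n2509 : Q := act 4 n1903
theorem D2509 : act 4 n1903 = n2509 := rfl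
theorem F8859 : act 2 n2509 = n2509 := d14_1 D2509 (iv D2509) F6815
theorem F8860 : act 3 n2509 = n2509 := d18_1 D2509 (iv D2509) (iv D1903) F5228 D1903
theorem F8861 : act 6 n2509 = n1918 := d23_2 (iv F6817) D2509 (iv D1918)
def n2510 : Q := act 0 n1904
theorem D2510 : act 0 n1904 = n2510 := rfl
theorem F8862 : act 2 n2510 = n2510 := d1_2 F6818 D2510 (iv D2510)
theorem F8863 : act 4 n2510 = n1909 := d3_2 (iv F6819) D2510 (iv D1909)
theorem F8864 : act 7 n2510 = n1906 := d6_2 (iv F6820) D2510 (iv D1906)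
def n2511 : Q := act 3 n1904
theorem D2511 : act 3 n1904 = n2511 := rfl
theorem F8865 : act 1 n2511 = n1905 := d8_1 D2511 (iv D1905) D1904
theorem F8866 : act 7 n2511 = n1907 := d21_2 (iv F6820) D2511 (iv D1907)
def n2512 : Q := act 4 n1905
theorem D2512 : act 4 n1905 = n2512 := rfl
theorem F8867 : act 2 n2512 = n2512 := d14_1 D2512 (iv D2512) F6821
theorem F8868 : act 3 n2512 = n1911 := d18_1 D2512 (iv D1911) (iv D1444) (iv F5231) D1905
theorem F8869 : act 7 n2512 = n1908 := d24_2 (iv F6822) D2512 (iv D1908)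
def n2513 : Q := act 3 n1906
theorem D2513 : act 3 n1906 = n2513 := rfl
theorem F8870 : act 0 n2513 = n1907 := d2_1 D2513 (iv D1907) D1906
theorem F8871 : act 6 n2513 = n1919 := d20_2 (iv F6825) D2513 (iv D1919)
def n2514 : Q := act 2 n1907
theorem D2514 : act 2 n1907 = n2514 := rfl
theorem F8872 : act 1 n2514 = n2514 := d7_1 D2514 (iv D2514) F6826 F5236 (iv F6826)
theorem F8873 : act 3 n2514 = n2514 := d13_2 D1907 D2514 (iv D2514) (iv D1907) F5233
def n2515 : Q := act 4 n1907
theorem D2515 : act 4 n1907 = n2515 := rfl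
theorem F8874 : act 1 n2515 = n1908 := d9_1 D2515 (iv D1908) (iv F6826)
theorem F8875 : act 3 n2515 = n1914 := d18_1 D2515 (iv D1914) (iv D1446) (iv F5234) D1907
theorem F8876 : act 6 n2515 = n1921 := d23_2 (iv F6827) D2515 (iv D1921)
def n2516 : Q := act 5 n1908
theorem D2516 : act 5 n1908 = n2516 := rfl
theorem F8877 : act 2 n2516 = n2516 := d15_1 D2516 (iv D2516) F6828
theorem F8878 : act 3 n2516 = n1915 := d19_1 D2516 (iv D1915) (iv F6829)
theorem F8879 : act 6 n2516 = n1922 := d25_2 (iv F6830) D2516 (iv D1922)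
def n2517 : Q := act 3 n1909
theorem D2517 : act 3 n1909 = n2517 := rfl
theorem F8880 : act 0 n2517 = n1910 := d2_1 D2517 (iv D1910) D1909
theorem F8881 : act 5 n2517 = n2517 := d19_2 F6832 D2517 (iv D2517)
theorem F8882 : act 7 n2517 = n1912 := d21_2 (iv F6833) D2517 (iv D1912)
def n2518 : Q := act 2 n1910
theorem D2518 : act 2 n1910 = n2518 := rfl
theorem F8883 : act 1 n2518 = n2056 := d7_1 D2518 (iv D2056) F5626 (iv F5241) (iv F6834)
theorem F8884 : act 3 n2518 = n2518 := d13_2 D1910 D2518 (iv D2518) (iv D1910) F5238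
theorem F8885 : act 5 n2518 = n2518 := d15_2 F6835 D2518 (iv D2518)
theorem F8886 : act 7 n2518 = n1913 := d17_2 (iv F6836) D2518 (iv D1913)
def n2519 : Q := act 4 n1910
theorem D2519 : act 4 n1910 = n2519 := rfl
theorem F8887 : act 1 n2519 = n1911 := d9_1 D2519 (iv D1911) (iv F6834)
theorem F8888 : act 7 n2519 = n1914 := d24_2 (iv F6836) D2519 (iv D1914)
def n2520 : Q := act 5 n1911
theorem D2520 : act 5 n1911 = n2520 := rfl
theorem F8889 : act 2 n2520 = n2058 := d15_1 D2520 (iv D2058) (iv F6837)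
theorem F8890 : act 4 n2520 = n2520 := d22_1 D2520 (iv D2520) (iv D1911) F5242 D1911
theorem F8891 : act 7 n2520 = n1915 := d26_2 (iv F6838) D2520 (iv D1915)
def n2521 : Q := act 2 n1912
theorem D2521 : act 2 n1912 = n2521 := rfl
theorem F8892 : act 0 n2521 = n1913 := d1_1 D2521 (iv D1913) (iv F6839)
theorem F8893 : act 3 n2521 = n2521 := d13_2 D1912 D2521 (iv D2521) (iv D1912) F5244
theorem F8894 : act 5 n2521 = n2521 := d15_2 F6840 D2521 (iv D2521)
theorem F8895 : act 6 n2521 = n2521 := d16_2 (iv F6841) D2521 (iv D2521) F6841 F5263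
def n2522 : Q := act 4 n1912
theorem D2522 : act 4 n1912 = n2522 := rfl
theorem F8896 : act 0 n2522 = n1914 := d3_1 D2522 (iv D1914) (iv F6839)
theorem F8897 : act 6 n2522 = n1923 := d23_2 (iv F6841) D2522 (iv D1923)
def n2523 : Q := act 4 n1913
theorem D2523 : act 4 n1913 = n2523 := rfl
theorem F8898 : act 1 n2523 = n2061 := d9_1 D2523 (iv D2061) (iv F6842)
theorem F8899 : act 2 n2523 = n1914 := d14_1 D2523 (iv D1914) D1913
theorem F8900 : act 6 n2523 = n2523 := d23_2 F6845 D2523 (iv D2523)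
def n2524 : Q := act 5 n1914
theorem D2524 : act 5 n1914 = n2524 := rfl
theorem F8901 : act 1 n2524 = n1915 := d10_1 D2524 (iv D1915) (iv F6846)
theorem F8902 : act 4 n2524 = n2524 := d22_1 D2524 (iv D2524) (iv D1914) F5248 D1914
theorem F8903 : act 6 n2524 = n1924 := d25_2 (iv F6847) D2524 (iv D1924)
def n2525 : Q := act 3 n1916
theorem D2525 : act 3 n1916 = n2525 := rfl
theorem F8904 : act 0 n2525 = n1917 := d2_1 D2525 (iv D1917) D1916
theorem F8905 : act 5 n2525 = n1919 := d19_2 (iv F6853) D2525 (iv D1919)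
def n2526 : Q := act 2 n1917
theorem D2526 : act 2 n1917 = n2526 := rfl
theorem F8906 : act 1 n2526 = n1947 := d7_1 D2526 (iv D1947) F5330 (iv F5255) (iv F6854)
def n2527 : Q := act 4 n1917
theorem D2527 : act 4 n1917 = n2527 := rfl
theorem F8909 : act 1 n2527 = n1918 := d9_1 D2527 (iv D1918) (iv F6854)
def n2528 : Q := act 5 n1918
theorem D2528 : act 5 n1918 = n2528 := rfl
theorem F8911 : act 2 n2528 = n1949 := d15_1 D2528 (iv D1949) (iv F6856)
theorem F8912 : act 3 n2528 = n2528 := d19_1 D2528 (iv D2528) F6857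
theorem F8913 : act 4 n2528 = n1922 := d22_1 D2528 (iv D1922) (iv D1452) (iv F5256) D1918
def n2529 : Q := act 2 n1919
theorem D2529 : act 2 n1919 = n2529 := rfl
theorem F8914 : act 0 n2529 = n1920 := d1_1 D2529 (iv D1920) (iv F6858)
theorem F8915 : act 3 n2529 = n1928 := d13_2 D1919 D2529 (iv D1928) (iv D1459) (iv F5257)
def n2530 : Q := act 4 n1919
theorem D2530 : act 4 n1919 = n2530 := rfl
theorem F8916 : act 0 n2530 = n1921 := d3_1 D2530 (iv D1921) (iv F6858)
theorem F8917 : act 3 n2530 = n1923 := d18_1 D2530 (iv D1923) (iv D1453) (iv F5258) D1919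
def n2531 : Q := act 4 n1920
theorem D2531 : act 4 n1920 = n2531 := rfl
theorem F8918 : act 1 n2531 = n1952 := d9_1 D2531 (iv D1952) (iv F6859)
theorem F8919 : act 2 n2531 = n1921 := d14_1 D2531 (iv D1921) D1920
theorem F8920 : act 3 n2531 = n2531 := d18_1 D2531 (iv D2531) F6860 F5286 (iv F6860)
def n2532 : Q := act 6 n1920
theorem D2532 : act 6 n1920 = n2532 := rfl
theorem F8921 : act 1 n2532 = n1953 := d11_1 D2532 (iv D1953) (iv F6859)
theorem F8922 : act 3 n2532 = n1929 := d20_1 D2532 (iv D1929) (iv F6860)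
def n2533 : Q := act 5 n1921
theorem D2533 : act 5 n1921 = n2533 := rfl
theorem F8923 : act 1 n2533 = n1922 := d10_1 D2533 (iv D1922) (iv F6861)
theorem F8924 : act 3 n2533 = n1924 := d19_1 D2533 (iv D1924) (iv F6862)
def n2534 : Q := act 5 n1923
theorem D2534 : act 5 n1923 = n2534 := rfl
theorem F8925 : act 0 n2534 = n1924 := d4_1 D2534 (iv D1924) (iv F6865)
theorem F8926 : act 2 n2534 = n2534 := d15_1 D2534 (iv D2534) F6866
theorem F8927 : act 4 n2534 = n2534 := d22_1 D2534 (iv D2534) (iv D1923) F5264 D1923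
def n2535 : Q := act 2 n1925
theorem D2535 : act 2 n1925 = n2535 := rfl
theorem F8928 : act 0 n2535 = n1926 := d1_1 D2535 (iv D1926) (iv F6870)
theorem F8929 : act 5 n2535 = n1928 := d15_2 (iv F6872) D2535 (iv D1928)
def n2536 : Q := act 4 n1925
theorem D2536 : act 4 n1925 = n2536 := rfl
theorem F8934 : act 6 n2536 = n2536 := d23_2 F6873 D2536 (iv D2536)
def n2537 : Q := act 4 n1926
theorem D2537 : act 4 n1926 = n2537 := rfl
theorem F8935 : act 1 n2537 = n1958 := d9_1 D2537 (iv D1958) (iv F6874)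
theorem F8936 : act 2 n2537 = n1927 := d14_1 D2537 (iv D1927) D1926
def n2538 : Q := act 6 n1926
theorem D2538 : act 6 n1926 = n2538 := rfl
theorem F8939 : act 2 n2538 = n2538 := d16_1 D2538 (iv D2538) (iv D1926) F5275 D1926
theorem F8940 : act 5 n2538 = n1929 := d25_1 D2538 (iv D1929) (iv F6875)
def n2539 : Q := act 1 n1928
theorem D2539 : act 1 n1928 = n2539 := rfl
theorem F8941 : act 0 n2539 = n1960 := d0_1 D2539 (iv D1960) F5359 (iv F5285) (iv F6880)
def n2540 : Q := act 6 n1928
theorem D2540 : act 6 n1928 = n2540 := rfl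
theorem F8944 : act 0 n2540 = n1929 := d5_1 D2540 (iv D1929) (iv F6880)
theorem F8945 : act 2 n2540 = n2540 := d16_1 D2540 (iv D2540) (iv D1928) F5284 D1928
theorem F8946 : act 4 n2540 = n2540 := d23_1 D2540 (iv D2540) F6881
def n2541 : Q := act 7 n1929
theorem D2541 : act 7 n1929 = n2541 := rfl
theorem F8947 : act 1 n2541 = n1962 := d12_1 D2541 (iv D1962) (iv F6882)
theorem F8948 : act 2 n2541 = n2541 := d17_1 D2541 (iv D2541) F6883
theorem F8949 : act 4 n2541 = n2541 := d24_1 D2541 (iv D2541) F6884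
def n2542 : Q := act 3 n1930
theorem D2542 : act 3 n1930 = n2542 := rfl
theorem F8950 : act 0 n2542 = n1931 := d2_1 D2542 (iv D1931) D1930
def n2543 : Q := act 2 n1931
theorem D2543 : act 2 n1931 = n2543 := rfl
theorem F8955 : act 5 n2543 = n1934 := d15_2 (iv F6891) D2543 (iv D1934)
def n2544 : Q := act 4 n1931
theorem D2544 : act 4 n1931 = n2544 := rfl
theorem F8956 : act 1 n2544 = n1932 := d9_1 D2544 (iv D1932) (iv F6890)
theorem F8957 : act 3 n2544 = n1965 := d18_1 D2544 (iv D1965) (iv D1488) (iv F5288) D1931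
def n2545 : Q := act 5 n1932
theorem D2545 : act 5 n1932 = n2545 := rfl
theorem F8960 : act 3 n2545 = n1966 := d19_1 D2545 (iv D1966) (iv F6894)
def n2546 : Q := act 2 n1933
theorem D2546 : act 2 n1933 = n2546 := rfl
theorem F8963 : act 0 n2546 = n1934 := d1_1 D2546 (iv D1934) (iv F6896)
def n2547 : Q := act 4 n1933
theorem D2547 : act 4 n1933 = n2547 := rfl
theorem F8967 : act 3 n2547 = n1938 := d18_1 D2547 (iv D1938) (iv D1466) (iv F5296) D1933
def n2548 : Q := act 4 n1934
theorem D2548 : act 4 n1934 = n2548 := rfl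
theorem F8969 : act 2 n2548 = n1935 := d14_1 D2548 (iv D1935) D1934
def n2550 : Q := act 5 n1935
theorem D2550 : act 5 n1935 = n2550 := rfl
def n2551 : Q := act 4 n1937
theorem D2551 : act 4 n1937 = n2551 := rfl
theorem F8977 : act 2 n2551 = n1938 := d14_1 D2551 (iv D1938) D1937
def n2554 : Q := act 3 n1939
theorem D2554 : act 3 n1939 = n2554 := rfl
def n2562 : Q := act 2 n1946
theorem D2562 : act 2 n1946 = n2562 := rfl
def n2563 : Q := act 4 n1946
theorem D2563 : act 4 n1946 = n2563 := rfl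
def n2564 : Q := act 4 n1947
theorem D2564 : act 4 n1947 = n2564 := rfl
theorem F9017 : act 2 n2564 = n1948 := d14_1 D2564 (iv D1948) D1947
def n2566 : Q := act 5 n1948
theorem D2566 : act 5 n1948 = n2566 := rfl
theorem F9021 : act 1 n2566 = n1949 := d10_1 D2566 (iv D1949) (iv F6939)
def n2567 : Q := act 1 n1950
theorem D2567 : act 1 n1950 = n2567 := rfl
def n2568 : Q := act 4 n1950
theorem D2568 : act 4 n1950 = n2568 := rfl
theorem F9027 : act 2 n2568 = n1951 := d14_1 D2568 (iv D1951) D1950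
def n2571 : Q := act 5 n1952
theorem D2571 : act 5 n1952 = n2571 := rfl
def n2572 : Q := act 6 n1952
theorem D2572 : act 6 n1952 = n2572 := rfl
theorem F9037 : act 2 n2572 = n2572 := d16_1 D2572 (iv D2572) F6950 F5340 (iv F6950)
theorem F9038 : act 3 n2572 = n2572 := d20_1 D2572 (iv D2572) F6951
theorem F9039 : act 4 n2572 = n1953 := d23_1 D2572 (iv D1953) D1952
def n2573 : Q := act 7 n1953
theorem D2573 : act 7 n1953 = n2573 := rfl
theorem F9040 : act 2 n2573 = n2573 := d17_1 D2573 (iv D2573) F6952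
theorem F9041 : act 3 n2573 = n1962 := d21_1 D2573 (iv D1962) (iv F6953)
def n2574 : Q := act 1 n1956
theorem D2574 : act 1 n1956 = n2574 := rfl
def n2575 : Q := act 4 n1956
theorem D2575 : act 4 n1956 = n2575 := rfl
theorem F9045 : act 2 n2575 = n1957 := d14_1 D2575 (iv D1957) D1956
def n2577 : Q := act 3 n1958
theorem D2577 : act 3 n1958 = n2577 := rfl
theorem F9050 : act 2 n2577 = n1998 := d13_1 D2577 (iv D1998) F5444 (iv F5356) (iv F6968)
def n2578 : Q := act 6 n1958
theorem D2578 : act 6 n1958 = n2578 := rfl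
theorem F9052 : act 2 n2578 = n2007 := d16_1 D2578 (iv D2007) F5468 (iv F5358) (iv F6968)
def n2579 : Q := act 7 n1959
theorem D2579 : act 7 n1959 = n2579 := rfl
theorem F9056 : act 5 n2579 = n1962 := d26_1 D2579 (iv D1962) (iv F6971)
def n2580 : Q := act 6 n1960
theorem D2580 : act 6 n1960 = n2580 := rfl
theorem F9057 : act 1 n2580 = n1961 := d11_1 D2580 (iv D1961) D1960
def n2581 : Q := act 7 n1961
theorem D2581 : act 7 n1961 = n2581 := rfl
theorem F9059 : act 0 n2581 = n1962 := d6_1 D2581 (iv D1962) (iv F6974)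
def n2582 : Q := act 2 n1963
theorem D2582 : act 2 n1963 = n2582 := rfl
theorem F9062 : act 0 n2582 = n1964 := d1_1 D2582 (iv D1964) (iv F6979)
theorem F9064 : act 5 n2582 = n1967 := d15_2 (iv F6981) D2582 (iv D1967)
def n2583 : Q := act 4 n1963
theorem D2583 : act 4 n1963 = n2583 := rfl
theorem F9065 : act 0 n2583 = n1965 := d3_1 D2583 (iv D1965) (iv F6979)
theorem F9066 : act 1 n2583 = n1984 := d9_1 D2583 (iv D1984) (iv F6980)
def n2584 : Q := act 4 n1964
theorem D2584 : act 4 n1964 = n2584 := rfl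
theorem F9069 : act 2 n2584 = n1965 := d14_1 D2584 (iv D1965) D1964
def n2587 : Q := act 1 n1967
theorem D2587 : act 1 n1967 = n2587 := rfl
theorem F9078 : act 2 n2587 = n1988 := d7_2 D1967 D2587 (iv D1988) (iv D1507) (iv F5374)
def n2588 : Q := act 4 n1967
theorem D2588 : act 4 n1967 = n2588 := rfl
theorem F9080 : act 0 n2588 = n1969 := d3_1 D2588 (iv D1969) (iv F6992)
theorem F9081 : act 2 n2588 = n1968 := d14_1 D2588 (iv D1968) D1967
def n2591 : Q := act 3 n1969
theorem D2591 : act 3 n1969 = n2591 := rfl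
theorem F9090 : act 2 n2591 = n1975 := d13_1 D2591 (iv D1975) F5392 (iv F5379) (iv F6999)
def n2592 : Q := act 5 n1969
theorem D2592 : act 5 n1969 = n2592 := rfl
def n2593 : Q := act 6 n1969
theorem D2593 : act 6 n1969 = n2593 := rfl
def n2595 : Q := act 3 n1972
theorem D2595 : act 3 n1972 = n2595 := rfl
def n2599 : Q := act 5 n1975
theorem D2599 : act 5 n1975 = n2599 := rfl
theorem F9114 : act 1 n2599 = n1979 := d10_1 D2599 (iv D1979) (iv F7016)
def n2600 : Q := act 6 n1975
theorem D2600 : act 6 n1975 = n2600 := rfl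
def n2603 : Q := act 4 n1979
theorem D2603 : act 4 n1979 = n2603 := rfl
def n2604 : Q := act 6 n1979
theorem D2604 : act 6 n1979 = n2604 := rfl
theorem F9130 : act 5 n2604 = n1980 := d25_1 D2604 (iv D1980) D1979
def n2605 : Q := act 2 n1980
theorem D2605 : act 2 n1980 = n2605 := rfl
def n2606 : Q := act 7 n1980
theorem D2606 : act 7 n1980 = n2606 := rfl
def n2607 : Q := act 7 n1981
theorem D2607 : act 7 n1981 = n2607 := rfl
def n2608 : Q := act 1 n1983
theorem D2608 : act 1 n1983 = n2608 := rfl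
theorem F9142 : act 3 n2608 = n1995 := d8_2 (iv F7039) D2608 (iv D1995)
def n2609 : Q := act 4 n1983
theorem D2609 : act 4 n1983 = n2609 := rfl
theorem F9145 : act 2 n2609 = n1984 := d14_1 D2609 (iv D1984) D1983
def n2611 : Q := act 5 n1984
theorem D2611 : act 5 n1984 = n2611 := rfl
def n2612 : Q := act 3 n1985
theorem D2612 : act 3 n1985 = n2612 := rfl
def n2616 : Q := act 4 n1988
theorem D2616 : act 4 n1988 = n2616 := rfl
def n2617 : Q := act 6 n1988
theorem D2617 : act 6 n1988 = n2617 := rfl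
def n2618 : Q := act 5 n1989
theorem D2618 : act 5 n1989 = n2618 := rfl
theorem F9172 : act 2 n2618 = n1991 := d15_1 D2618 (iv D1991) (iv F7055)
def n2619 : Q := act 6 n1989
theorem D2619 : act 6 n1989 = n2619 := rfl
theorem F9175 : act 2 n2619 = n2619 := d16_1 D2619 (iv D2619) F7055 F5424 (iv F7055)
theorem F9177 : act 4 n2619 = n1990 := d23_1 D2619 (iv D1990) D1989
def n2620 : Q := act 7 n1990
theorem D2620 : act 7 n1990 = n2620 := rfl
theorem F9180 : act 3 n2620 = n2002 := d21_1 D2620 (iv D2002) (iv F7059)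
def n2623 : Q := act 4 n1995
theorem D2623 : act 4 n1995 = n2623 := rfl
theorem F9190 : act 1 n2623 = n1996 := d9_1 D2623 (iv D1996) D1995
def n2624 : Q := act 6 n1995
theorem D2624 : act 6 n1995 = n2624 := rfl
def n2625 : Q := act 3 n1996
theorem D2625 : act 3 n1996 = n2625 := rfl
theorem F9196 : act 0 n2625 = n1998 := d2_1 D2625 (iv D1998) (iv F7076)
def n2626 : Q := act 6 n1996
theorem D2626 : act 6 n1996 = n2626 := rfl
theorem F9198 : act 0 n2626 = n1999 := d5_1 D2626 (iv D1999) (iv F7076)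
theorem F9199 : act 2 n2626 = n2014 := d16_1 D2626 (iv D2014) F5492 (iv F5442) (iv F7077)
def n2627 : Q := act 7 n1997
theorem D2627 : act 7 n1997 = n2627 := rfl
theorem F9203 : act 2 n2627 = n2015 := d17_1 D2627 (iv D2015) (iv F7080)
def n2628 : Q := act 6 n1998
theorem D2628 : act 6 n1998 = n2628 := rfl
theorem F9206 : act 3 n2628 = n1999 := d20_1 D2628 (iv D1999) D1998
def n2629 : Q := act 7 n1999
theorem D2629 : act 7 n1999 = n2629 := rfl
theorem F9209 : act 2 n2629 = n2017 := d17_1 D2629 (iv D2017) (iv F7085)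
def n2630 : Q := act 2 n2001
theorem D2630 : act 2 n2001 = n2630 := rfl
theorem F9213 : act 1 n2630 = n2018 := d7_1 D2630 (iv D2018) F5510 (iv F5453) (iv F7092)
def n2631 : Q := act 7 n2001
theorem D2631 : act 7 n2001 = n2631 := rfl
def n2632 : Q := act 4 n2003
theorem D2632 : act 4 n2003 = n2632 := rfl
theorem F9219 : act 0 n2632 = n2632 := d3_1 D2632 (iv D2632) F7097
theorem F9220 : act 1 n2632 = n2004 := d9_1 D2632 (iv D2004) D2003
def n2633 : Q := act 6 n2003
theorem D2633 : act 6 n2003 = n2633 := rfl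
theorem F9227 : act 5 n2633 = n2009 := d25_1 D2633 (iv D2009) (iv F7100)
def n2634 : Q := act 3 n2004
theorem D2634 : act 3 n2004 = n2634 := rfl
theorem F9228 : act 0 n2634 = n2006 := d2_1 D2634 (iv D2006) (iv F7102)
theorem F9229 : act 2 n2634 = n2013 := d13_1 D2634 (iv D2013) F5492 (iv F5464) (iv F7103)
def n2636 : Q := act 7 n2005
theorem D2636 : act 7 n2005 = n2636 := rfl
theorem F9236 : act 0 n2636 = n2008 := d6_1 D2636 (iv D2008) (iv F7106)
theorem F9238 : act 5 n2636 = n2010 := d26_1 D2636 (iv D2010) (iv F7108)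
def n2637 : Q := act 6 n2006
theorem D2637 : act 6 n2006 = n2637 := rfl
theorem F9240 : act 1 n2637 = n2637 := d11_1 D2637 (iv D2637) F7109
theorem F9241 : act 3 n2637 = n2007 := d20_1 D2637 (iv D2007) D2006
def n2638 : Q := act 7 n2007
theorem D2638 : act 7 n2007 = n2638 := rfl
theorem F9244 : act 1 n2638 = n2638 := d12_1 D2638 (iv D2638) F7114
theorem F9245 : act 4 n2638 = n2008 := d24_1 D2638 (iv D2008) (iv F7115)
def n2639 : Q := act 2 n2009
theorem D2639 : act 2 n2009 = n2639 := rfl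
theorem F9248 : act 0 n2639 = n2639 := d1_1 D2639 (iv D2639) F7121
theorem F9249 : act 4 n2639 = n2639 := d14_2 F7124 D2639 (iv D2639)
theorem F9250 : act 6 n2639 = n2639 := d16_2 D2009 D2639 (iv D2639) (iv D2009) F5475
def n2640 : Q := act 7 n2009
theorem D2640 : act 7 n2009 = n2640 := rfl
theorem F9251 : act 0 n2640 = n2640 := d6_1 D2640 (iv D2640) F7121
theorem F9252 : act 1 n2640 = n2010 := d12_1 D2640 (iv D2010) (iv F7122)
theorem F9253 : act 3 n2640 = n2640 := d21_1 D2640 (iv D2640) F7123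
theorem F9254 : act 4 n2640 = n2640 := d24_1 D2640 (iv D2640) F7124
theorem F9255 : act 6 n2640 = n2640 := d27_1 D2640 (iv D2640) (iv D2009) F5478 D2009
def n2641 : Q := act 3 n2011
theorem D2641 : act 3 n2011 = n2641 := rfl
theorem F9257 : act 1 n2641 = n2013 := d8_1 D2641 (iv D2013) (iv F7130)
def n2642 : Q := act 6 n2011
theorem D2642 : act 6 n2011 = n2642 := rfl
theorem F9261 : act 0 n2642 = n2021 := d5_1 D2642 (iv D2021) (iv F7129)
theorem F9262 : act 1 n2642 = n2014 := d11_1 D2642 (iv D2014) (iv F7130)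
def n2643 : Q := act 2 n2012
theorem D2643 : act 2 n2012 = n2643 := rfl
theorem F9266 : act 5 n2643 = n2018 := d15_2 (iv F7137) D2643 (iv D2018)
def n2644 : Q := act 7 n2012
theorem D2644 : act 7 n2012 = n2644 := rfl
theorem F9268 : act 0 n2644 = n2023 := d6_1 D2644 (iv D2023) (iv F7134)
theorem F9269 : act 1 n2644 = n2015 := d12_1 D2644 (iv D2015) (iv F7135)
def n2645 : Q := act 6 n2013
theorem D2645 : act 6 n2013 = n2645 := rfl
theorem F9274 : act 3 n2645 = n2014 := d20_1 D2645 (iv D2014) D2013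
def n2646 : Q := act 7 n2014
theorem D2646 : act 7 n2014 = n2646 := rfl
def n2647 : Q := act 2 n2016
theorem D2647 : act 2 n2016 = n2647 := rfl
def n2650 : Q := act 7 n2018
theorem D2650 : act 7 n2018 = n2650 := rfl
def n2651 : Q := act 2 n2020
theorem D2651 : act 2 n2020 = n2651 := rfl
theorem F9294 : act 1 n2651 = n2651 := d7_1 D2651 (iv D2651) F7165 F5525 (iv F7165)
def n2652 : Q := act 6 n2020
theorem D2652 : act 6 n2020 = n2652 := rfl
theorem F9299 : act 1 n2652 = n2024 := d11_1 D2652 (iv D2024) (iv F7165)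
theorem F9300 : act 3 n2652 = n2021 := d20_1 D2652 (iv D2021) D2020
def n2654 : Q := act 7 n2021
theorem D2654 : act 7 n2021 = n2654 := rfl
def n2657 : Q := act 2 n2024
theorem D2657 : act 2 n2024 = n2657 := rfl
theorem F9322 : act 6 n2657 = n2657 := d16_2 D2024 D2657 (iv D2657) (iv D2024) F5525
def n2659 : Q := act 1 n2026
theorem D2659 : act 1 n2026 = n2659 := rfl
theorem F9331 : act 6 n2659 = n2659 := d11_2 F7191 D2659 (iv D2659)
def n2664 : Q := act 7 n2030
theorem D2664 : act 7 n2030 = n2664 := rfl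
def n2696 : Q := act 2 n2055
theorem D2696 : act 2 n2055 = n2696 := rfl
theorem F9462 : act 0 n2696 = n2056 := d1_1 D2696 (iv D2056) (iv F7297)
theorem F9465 : act 7 n2696 = n2059 := d17_2 (iv F7300) D2696 (iv D2059)
def n2697 : Q := act 4 n2055
theorem D2697 : act 4 n2055 = n2697 := rfl
theorem F9466 : act 0 n2697 = n2057 := d3_1 D2697 (iv D2057) (iv F7297)
theorem F9469 : act 7 n2697 = n2060 := d24_2 (iv F7300) D2697 (iv D2060)
def n2698 : Q := act 4 n2056
theorem D2698 : act 4 n2056 = n2698 := rfl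
theorem F9470 : act 2 n2698 = n2057 := d14_1 D2698 (iv D2057) D2056
theorem F9471 : act 7 n2698 = n2061 := d24_2 (iv F7303) D2698 (iv D2061)
def n2699 : Q := act 6 n2056
theorem D2699 : act 6 n2056 = n2699 := rfl
theorem F9472 : act 2 n2699 = n2699 := d16_1 D2699 (iv D2699) (iv D2056) F5628 D2056
theorem F9473 : act 3 n2699 = n2699 := d20_1 D2699 (iv D2699) F7301
theorem F9474 : act 5 n2699 = n2699 := d25_1 D2699 (iv D2699) F7302
theorem F9475 : act 7 n2699 = n2699 := d27_2 (iv F7303) D2699 (iv D2699) F7303 F5638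
def n2702 : Q := act 4 n2059
theorem D2702 : act 4 n2059 = n2702 := rfl
theorem F9484 : act 0 n2702 = n2061 := d3_1 D2702 (iv D2061) (iv F7312)
theorem F9485 : act 2 n2702 = n2060 := d14_1 D2702 (iv D2060) D2059
def n2704 : Q := act 3 n2061
theorem D2704 : act 3 n2061 = n2704 := rfl
theorem F9491 : act 2 n2704 = n2704 := d13_1 D2704 (iv D2704) F7319 F5640 (iv F7319)
theorem F9492 : act 4 n2704 = n2704 := d18_2 D2061 D2704 (iv D2704) (iv D2061) F5636
theorem F9493 : act 6 n2704 = n2704 := d20_2 F7320 D2704 (iv D2704)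
def n2705 : Q := act 5 n2061
theorem D2705 : act 5 n2061 = n2705 := rfl
def n2785 : Q := act 6 n2126
theorem D2785 : act 6 n2126 = n2785 := rfl
theorem F9786 : act 1 n2785 = n2139 := d11_1 D2785 (iv D2139) (iv F7565)
theorem F9787 : act 3 n2785 = n2129 := d20_1 D2785 (iv D2129) (iv F7566)
theorem F9788 : act 5 n2785 = n2127 := d25_1 D2785 (iv D2127) D2126
def n2787 : Q := act 2 n2127
theorem D2787 : act 2 n2127 = n2787 := rfl
theorem F9793 : act 0 n2787 = n2197 := d1_1 D2787 (iv D2197) (iv F7567)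
def n2788 : Q := act 7 n2127
theorem D2788 : act 7 n2127 = n2788 := rfl
theorem F9795 : act 0 n2788 = n2198 := d6_1 D2788 (iv D2198) (iv F7567)
theorem F9796 : act 1 n2788 = n2142 := d12_1 D2788 (iv D2142) (iv F7568)
theorem F9797 : act 3 n2788 = n2132 := d21_1 D2788 (iv D2132) (iv F7569)
def n2789 : Q := act 6 n2128
theorem D2789 : act 6 n2128 = n2789 := rfl
theorem F9799 : act 0 n2789 = n2199 := d5_1 D2789 (iv D2199) (iv F7571)
theorem F9800 : act 1 n2789 = n2143 := d11_1 D2789 (iv D2143) (iv F7572)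
theorem F9801 : act 3 n2789 = n2133 := d20_1 D2789 (iv D2133) (iv F7573)
def n2791 : Q := act 7 n2129
theorem D2791 : act 7 n2129 = n2791 := rfl
theorem F9809 : act 1 n2791 = n2144 := d12_1 D2791 (iv D2144) (iv F7576)
theorem F9811 : act 5 n2791 = n2132 := d26_1 D2791 (iv D2132) (iv F7578)
def n2792 : Q := act 6 n2130
theorem D2792 : act 6 n2130 = n2792 := rfl
theorem F9812 : act 0 n2792 = n2202 := d5_1 D2792 (iv D2202) (iv F7579)
theorem F9813 : act 1 n2792 = n2145 := d11_1 D2792 (iv D2145) (iv F7580)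
theorem F9815 : act 5 n2792 = n2133 := d25_1 D2792 (iv D2133) (iv F7583)
def n2793 : Q := act 3 n2131
theorem D2793 : act 3 n2131 = n2793 := rfl
def n2794 : Q := act 7 n2131
theorem D2794 : act 7 n2131 = n2794 := rfl
theorem F9819 : act 0 n2794 = n2204 := d6_1 D2794 (iv D2204) (iv F7584)
theorem F9821 : act 2 n2794 = n2132 := d17_1 D2794 (iv D2132) D2131
theorem F9822 : act 4 n2794 = n2135 := d24_1 D2794 (iv D2135) (iv F7586)
def n2795 : Q := act 6 n2132
theorem D2795 : act 6 n2132 = n2795 := rfl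
theorem F9823 : act 0 n2795 = n2205 := d5_1 D2795 (iv D2205) (iv F7588)
theorem F9824 : act 1 n2795 = n2146 := d11_1 D2795 (iv D2146) (iv F7589)
theorem F9825 : act 4 n2795 = n2136 := d23_1 D2795 (iv D2136) (iv F7590)
theorem F9826 : act 7 n2795 = n2133 := d27_2 D2132 D2795 (iv D2133) (iv D1625) D1624
def n2796 : Q := act 2 n2133
theorem D2796 : act 2 n2133 = n2796 := rfl
theorem F9827 : act 0 n2796 = n2206 := d1_1 D2796 (iv D2206) (iv F7591)
theorem F9828 : act 4 n2796 = n2137 := d14_2 (iv F7593) D2796 (iv D2137)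
theorem F9829 : act 6 n2796 = n2796 := d16_2 D2133 D2796 (iv D2796) (iv D2133) F5866
def n2798 : Q := act 7 n2134
theorem D2798 : act 7 n2134 = n2798 := rfl
theorem F9834 : act 0 n2798 = n2208 := d6_1 D2798 (iv D2208) (iv F7594)
theorem F9837 : act 3 n2798 = n2135 := d21_1 D2798 (iv D2135) D2134
def n2799 : Q := act 6 n2135
theorem D2799 : act 6 n2135 = n2799 := rfl
theorem F9839 : act 0 n2799 = n2209 := d5_1 D2799 (iv D2209) (iv F7599)
def n2800 : Q := act 2 n2136
theorem D2800 : act 2 n2136 = n2800 := rfl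
theorem F9843 : act 0 n2800 = n2210 := d1_1 D2800 (iv D2210) (iv F7603)
theorem F9844 : act 5 n2800 = n2800 := d15_2 F7606 D2800 (iv D2800)
theorem F9845 : act 7 n2800 = n2137 := d17_2 (iv F7607) D2800 (iv D2137)
def n2801 : Q := act 1 n2137
theorem D2801 : act 1 n2137 = n2801 := rfl
theorem F9846 : act 2 n2801 = n2149 := d7_2 D2137 D2801 (iv D2149) (iv D1637) (iv F5877)
theorem F9847 : act 5 n2801 = n2801 := d10_2 F7609 D2801 (iv D2801)
theorem F9848 : act 6 n2801 = n2801 := d11_2 F7610 D2801 (iv D2801)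
def n2802 : Q := act 3 n2137
theorem D2802 : act 3 n2137 = n2802 := rfl
theorem F9849 : act 0 n2802 = n2212 := d2_1 D2802 (iv D2212) (iv F7608)
theorem F9850 : act 2 n2802 = n2802 := d13_1 D2802 (iv D2802) (iv D2137) F5878 D2137
theorem F9851 : act 5 n2802 = n2802 := d19_2 F7609 D2802 (iv D2802)
theorem F9852 : act 6 n2802 = n2802 := d20_2 F7610 D2802 (iv D2802)
def n2806 : Q := act 7 n2139
theorem D2806 : act 7 n2139 = n2806 := rfl
theorem F9867 : act 3 n2806 = n2144 := d21_1 D2806 (iv D2144) (iv F7616)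
def n2807 : Q := act 6 n2140
theorem D2807 : act 6 n2140 = n2807 := rfl
theorem F9869 : act 0 n2807 = n2164 := d5_1 D2807 (iv D2164) (iv F7618)
theorem F9870 : act 3 n2807 = n2145 := d20_1 D2807 (iv D2145) (iv F7620)
theorem F9871 : act 5 n2807 = n2143 := d25_1 D2807 (iv D2143) (iv F7621)
def n2809 : Q := act 7 n2141
theorem D2809 : act 7 n2141 = n2809 := rfl
theorem F9876 : act 0 n2809 = n2165 := d6_1 D2809 (iv D2165) (iv F7622)
theorem F9877 : act 2 n2809 = n2142 := d17_1 D2809 (iv D2142) D2141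
theorem F9878 : act 3 n2809 = n2809 := d21_1 D2809 (iv D2809) F7623
def n2810 : Q := act 6 n2142
theorem D2810 : act 6 n2142 = n2810 := rfl
theorem F9880 : act 0 n2810 = n2166 := d5_1 D2810 (iv D2166) (iv F7626)
theorem F9881 : act 3 n2810 = n2146 := d20_1 D2810 (iv D2146) (iv F7627)
theorem F9883 : act 7 n2810 = n2143 := d27_2 D2142 D2810 (iv D2143) (iv D1631) D1630
def n2811 : Q := act 2 n2143
theorem D2811 : act 2 n2143 = n2811 := rfl
theorem F9884 : act 0 n2811 = n2167 := d1_1 D2811 (iv D2167) (iv F7629)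
theorem F9885 : act 4 n2811 = n2811 := d14_2 F7631 D2811 (iv D2811)
theorem F9886 : act 6 n2811 = n2811 := d16_2 D2143 D2811 (iv D2811) (iv D2143) F5887
def n2812 : Q := act 6 n2144
theorem D2812 : act 6 n2144 = n2812 := rfl
theorem F9887 : act 0 n2812 = n2168 := d5_1 D2812 (iv D2168) (iv F7632)
theorem F9889 : act 5 n2812 = n2146 := d25_1 D2812 (iv D2146) (iv F7635)
theorem F9890 : act 7 n2812 = n2145 := d27_2 D2144 D2812 (iv D2145) (iv D1633) D1632
def n2813 : Q := act 2 n2145
theorem D2813 : act 2 n2145 = n2813 := rfl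
theorem F9891 : act 0 n2813 = n2169 := d1_1 D2813 (iv D2169) (iv F7636)
theorem F9892 : act 4 n2813 = n2813 := d14_2 F7637 D2813 (iv D2813)
theorem F9893 : act 5 n2813 = n2147 := d15_2 (iv F7638) D2813 (iv D2147)
theorem F9894 : act 6 n2813 = n2151 := d16_2 D2145 D2813 (iv D2151) (iv D1638) (iv F5895)
def n2814 : Q := act 2 n2146
theorem D2814 : act 2 n2146 = n2814 := rfl
theorem F9895 : act 0 n2814 = n2170 := d1_1 D2814 (iv D2170) (iv F7639)
theorem F9896 : act 4 n2814 = n2148 := d14_2 (iv F7640) D2814 (iv D2148)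
theorem F9897 : act 6 n2814 = n2814 := d16_2 D2146 D2814 (iv D2814) (iv D2146) F5899
theorem F9898 : act 7 n2814 = n2147 := d17_2 (iv F7641) D2814 (iv D2147)
def n2815 : Q := act 1 n2147
theorem D2815 : act 1 n2147 = n2815 := rfl
theorem F9899 : act 4 n2815 = n2149 := d9_2 (iv F7643) D2815 (iv D2149)
theorem F9900 : act 6 n2815 = n2152 := d11_2 (iv F7644) D2815 (iv D2152)
def n2816 : Q := act 3 n2147
theorem D2816 : act 3 n2147 = n2816 := rfl
theorem F9901 : act 0 n2816 = n2172 := d2_1 D2816 (iv D2172) (iv F7642)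
theorem F9902 : act 6 n2816 = n2153 := d20_2 (iv F7644) D2816 (iv D2153)
def n2817 : Q := act 1 n2148
theorem D2817 : act 1 n2148 = n2817 := rfl
theorem F9903 : act 5 n2817 = n2817 := d10_2 F7646 D2817 (iv D2817)
theorem F9904 : act 6 n2817 = n2817 := d11_2 F7647 D2817 (iv D2817)
theorem F9905 : act 7 n2817 = n2149 := d12_2 (iv F7648) D2817 (iv D2149)
def n2818 : Q := act 3 n2148
theorem D2818 : act 3 n2148 = n2818 := rfl
theorem F9906 : act 0 n2818 = n2174 := d2_1 D2818 (iv D2174) (iv F7645)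
theorem F9907 : act 2 n2818 = n2818 := d13_1 D2818 (iv D2818) (iv D2148) F5904 D2148
theorem F9908 : act 5 n2818 = n2818 := d19_2 F7646 D2818 (iv D2818)
theorem F9909 : act 6 n2818 = n2818 := d20_2 F7647 D2818 (iv D2818)
theorem F9910 : act 7 n2818 = n2150 := d21_2 (iv F7648) D2818 (iv D2150)
def n2819 : Q := act 0 n2149
theorem D2819 : act 0 n2149 = n2819 := rfl
theorem F9911 : act 1 n2819 = n2175 := d0_2 D2149 D2819 (iv D2175) (iv D1655) (iv F5907)
theorem F9912 : act 5 n2819 = n2819 := d4_2 F7649 D2819 (iv D2819)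
theorem F9913 : act 6 n2819 = n2154 := d5_2 (iv F7650) D2819 (iv D2154)
def n2820 : Q := act 3 n2149
theorem D2820 : act 3 n2149 = n2820 := rfl
theorem F9914 : act 1 n2820 = n2150 := d8_1 D2820 (iv D2150) D2149
theorem F9915 : act 5 n2820 = n2820 := d19_2 F7649 D2820 (iv D2820)
theorem F9916 : act 6 n2820 = n2155 := d20_2 (iv F7650) D2820 (iv D2155)
def n2821 : Q := act 4 n2150
theorem D2821 : act 4 n2150 = n2821 := rfl
theorem F9917 : act 0 n2821 = n2177 := d3_1 D2821 (iv D2177) (iv F7651)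
theorem F9918 : act 2 n2821 = n2821 := d14_1 D2821 (iv D2821) F7652
theorem F9919 : act 6 n2821 = n2156 := d23_2 (iv F7654) D2821 (iv D2156)
def n2822 : Q := act 1 n2151
theorem D2822 : act 1 n2151 = n2822 := rfl
theorem F9920 : act 2 n2822 = n2822 := d7_2 D2151 D2822 (iv D2822) (iv D2151) F5911
theorem F9921 : act 4 n2822 = n2822 := d9_2 F7656 D2822 (iv D2822)
theorem F9922 : act 5 n2822 = n2152 := d10_2 (iv F7657) D2822 (iv D2152)
theorem F9923 : act 7 n2822 = n2822 := d12_2 F7658 D2822 (iv D2822)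
def n2823 : Q := act 3 n2151
theorem D2823 : act 3 n2151 = n2823 := rfl
theorem F9924 : act 0 n2823 = n2179 := d2_1 D2823 (iv D2179) (iv F7655)
theorem F9925 : act 2 n2823 = n2823 := d13_1 D2823 (iv D2823) (iv D2151) F5912 D2151
theorem F9926 : act 5 n2823 = n2153 := d19_2 (iv F7657) D2823 (iv D2153)
theorem F9927 : act 7 n2823 = n2823 := d21_2 F7658 D2823 (iv D2823)
def n2824 : Q := act 0 n2152
theorem D2824 : act 0 n2152 = n2824 := rfl
theorem F9928 : act 1 n2824 = n2180 := d0_2 D2152 D2824 (iv D2180) (iv D1658) (iv F5916)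
theorem F9929 : act 2 n2824 = n2824 := d1_2 F7659 D2824 (iv D2824)
theorem F9930 : act 4 n2824 = n2154 := d3_2 (iv F7660) D2824 (iv D2154)
theorem F9931 : act 7 n2824 = n2824 := d6_2 F7661 D2824 (iv D2824)
def n2825 : Q := act 3 n2152
theorem D2825 : act 3 n2152 = n2825 := rfl
theorem F9932 : act 1 n2825 = n2153 := d8_1 D2825 (iv D2153) D2152
theorem F9933 : act 7 n2825 = n2825 := d21_2 F7661 D2825 (iv D2825)
def n2826 : Q := act 4 n2153
theorem D2826 : act 4 n2153 = n2826 := rfl
theorem F9934 : act 0 n2826 = n2182 := d3_1 D2826 (iv D2182) (iv F7662)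
theorem F9935 : act 2 n2826 = n2826 := d14_1 D2826 (iv D2826) F7663
theorem F9936 : act 3 n2826 = n2156 := d18_1 D2826 (iv D2156) (iv D1641) (iv F5917) D2153
theorem F9937 : act 7 n2826 = n2826 := d24_2 F7664 D2826 (iv D2826)
def n2827 : Q := act 3 n2154
theorem D2827 : act 3 n2154 = n2827 := rfl
theorem F9938 : act 0 n2827 = n2155 := d2_1 D2827 (iv D2155) D2154
theorem F9939 : act 1 n2827 = n2183 := d8_1 D2827 (iv D2183) (iv F7665)
theorem F9940 : act 5 n2827 = n2827 := d19_2 F7667 D2827 (iv D2827)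
theorem F9941 : act 7 n2827 = n2827 := d21_2 F7668 D2827 (iv D2827)
def n2828 : Q := act 2 n2155
theorem D2828 : act 2 n2155 = n2828 := rfl
theorem F9942 : act 1 n2828 = n2157 := d7_1 D2828 (iv D2157) F5927 (iv F5923) (iv F7669)
theorem F9943 : act 3 n2828 = n2828 := d13_2 D2155 D2828 (iv D2828) (iv D2155) F5919
theorem F9944 : act 5 n2828 = n2828 := d15_2 F7670 D2828 (iv D2828)
theorem F9945 : act 7 n2828 = n2828 := d17_2 F7671 D2828 (iv D2828)
def n2829 : Q := act 4 n2155
theorem D2829 : act 4 n2155 = n2829 := rfl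
theorem F9946 : act 1 n2829 = n2156 := d9_1 D2829 (iv D2156) (iv F7669)
theorem F9947 : act 7 n2829 = n2829 := d24_2 F7671 D2829 (iv D2829)
def n2830 : Q := act 5 n2156
theorem D2830 : act 5 n2156 = n2830 := rfl
theorem F9948 : act 0 n2830 = n2185 := d4_1 D2830 (iv D2185) (iv F7672)
theorem F9949 : act 2 n2830 = n2159 := d15_1 D2830 (iv D2159) (iv F7673)
theorem F9950 : act 4 n2830 = n2830 := d22_1 D2830 (iv D2830) (iv D2156) F5924 D2156
theorem F9951 : act 7 n2830 = n2830 := d26_2 F7674 D2830 (iv D2830)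
def n2831 : Q := act 4 n2157
theorem D2831 : act 4 n2157 = n2831 := rfl
theorem F9952 : act 0 n2831 = n2831 := d3_1 D2831 (iv D2831) F7675
theorem F9953 : act 2 n2831 = n2158 := d14_1 D2831 (iv D2158) D2157
theorem F9954 : act 7 n2831 = n2831 := d24_2 F7678 D2831 (iv D2831)
def n2832 : Q := act 6 n2157
theorem D2832 : act 6 n2157 = n2832 := rfl
theorem F9955 : act 0 n2832 = n2832 := d5_1 D2832 (iv D2832) F7675
theorem F9956 : act 2 n2832 = n2832 := d16_1 D2832 (iv D2832) (iv D2157) F5929 D2157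
theorem F9957 : act 3 n2832 = n2832 := d20_1 D2832 (iv D2832) F7676
theorem F9958 : act 5 n2832 = n2832 := d25_1 D2832 (iv D2832) F7677
def n2833 : Q := act 5 n2158
theorem D2833 : act 5 n2158 = n2833 := rfl
theorem F9959 : act 0 n2833 = n2833 := d4_1 D2833 (iv D2833) F7679
theorem F9960 : act 1 n2833 = n2159 := d10_1 D2833 (iv D2159) (iv F7680)
theorem F9961 : act 3 n2833 = n2833 := d19_1 D2833 (iv D2833) F7681
theorem F9962 : act 4 n2833 = n2833 := d22_1 D2833 (iv D2833) (iv D2158) F5928 D2158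
theorem F9963 : act 6 n2833 = n2833 := d25_2 F7682 D2833 (iv D2833)
theorem F9964 : act 7 n2833 = n2833 := d26_2 F7683 D2833 (iv D2833)
def n2838 : Q := act 6 n2163
theorem D2838 : act 6 n2163 = n2838 := rfl
theorem F9983 : act 5 n2838 = n2166 := d25_1 D2838 (iv D2166) (iv F7704)
theorem F9984 : act 7 n2838 = n2164 := d27_2 D2163 D2838 (iv D2164) (iv D1646) D1645
def n2839 : Q := act 2 n2164
theorem D2839 : act 2 n2164 = n2839 := rfl
theorem F9985 : act 5 n2839 = n2167 := d15_2 (iv F7707) D2839 (iv D2167)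
def n2840 : Q := act 6 n2165
theorem D2840 : act 6 n2165 = n2840 := rfl
theorem F9987 : act 1 n2840 = n2840 := d11_1 D2840 (iv D2840) F7708
theorem F9990 : act 7 n2840 = n2840 := d27_2 D2165 D2840 (iv D2840) (iv D2165) F5949
def n2841 : Q := act 2 n2166
theorem D2841 : act 2 n2166 = n2841 := rfl
theorem F9992 : act 7 n2841 = n2167 := d17_2 (iv F7715) D2841 (iv D2167)
def n2842 : Q := act 1 n2167
theorem D2842 : act 1 n2167 = n2842 := rfl
theorem F9993 : act 2 n2842 = n2246 := d7_2 D2167 D2842 (iv D2246) (iv D1707) (iv F5953)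
theorem F9994 : act 4 n2842 = n2842 := d9_2 F7716 D2842 (iv D2842)
theorem F9995 : act 6 n2842 = n2842 := d11_2 F7717 D2842 (iv D2842)
def n2843 : Q := act 3 n2167
theorem D2843 : act 3 n2167 = n2843 := rfl
theorem F9996 : act 2 n2843 = n2172 := d13_1 D2843 (iv D2172) (iv D1653) (iv F5954) D2167
theorem F9997 : act 6 n2843 = n2843 := d20_2 F7717 D2843 (iv D2843)
def n2844 : Q := act 2 n2168
theorem D2844 : act 2 n2168 = n2844 := rfl
theorem F9999 : act 5 n2844 = n2170 := d15_2 (iv F7720) D2844 (iv D2170)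
theorem F10001 : act 7 n2844 = n2169 := d17_2 (iv F7721) D2844 (iv D2169)
def n2845 : Q := act 1 n2169
theorem D2845 : act 1 n2169 = n2845 := rfl
theorem F10002 : act 2 n2845 = n2249 := d7_2 D2169 D2845 (iv D2249) (iv D1709) (iv F5960)
theorem F10003 : act 4 n2845 = n2845 := d9_2 F7722 D2845 (iv D2845)
theorem F10004 : act 5 n2845 = n2171 := d10_2 (iv F7723) D2845 (iv D2171)
theorem F10005 : act 6 n2845 = n2178 := d11_2 (iv F7724) D2845 (iv D2178)
def n2846 : Q := act 3 n2169
theorem D2846 : act 3 n2169 = n2846 := rfl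
theorem F10006 : act 5 n2846 = n2172 := d19_2 (iv F7723) D2846 (iv D2172)
theorem F10007 : act 6 n2846 = n2179 := d20_2 (iv F7724) D2846 (iv D2179)
def n2847 : Q := act 1 n2170
theorem D2847 : act 1 n2170 = n2847 := rfl
theorem F10008 : act 2 n2847 = n2251 := d7_2 D2170 D2847 (iv D2251) (iv D1710) (iv F5963)
theorem F10009 : act 4 n2847 = n2173 := d9_2 (iv F7725) D2847 (iv D2173)
theorem F10010 : act 6 n2847 = n2847 := d11_2 F7726 D2847 (iv D2847)
theorem F10011 : act 7 n2847 = n2171 := d12_2 (iv F7727) D2847 (iv D2171)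
def n2848 : Q := act 3 n2170
theorem D2848 : act 3 n2170 = n2848 := rfl
theorem F10012 : act 6 n2848 = n2848 := d20_2 F7726 D2848 (iv D2848)
theorem F10013 : act 7 n2848 = n2172 := d21_2 (iv F7727) D2848 (iv D2172)
def n2849 : Q := act 0 n2171
theorem D2849 : act 0 n2171 = n2849 := rfl
theorem F10014 : act 2 n2849 = n2253 := d1_2 (iv F7728) D2849 (iv D2253)
theorem F10015 : act 4 n2849 = n2175 := d3_2 (iv F7729) D2849 (iv D2175)
theorem F10016 : act 6 n2849 = n2180 := d5_2 (iv F7730) D2849 (iv D2180)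
def n2850 : Q := act 3 n2171
theorem D2850 : act 3 n2171 = n2850 := rfl
theorem F10017 : act 1 n2850 = n2172 := d8_1 D2850 (iv D2172) D2171
theorem F10018 : act 6 n2850 = n2181 := d20_2 (iv F7730) D2850 (iv D2181)
def n2851 : Q := act 4 n2172
theorem D2851 : act 4 n2172 = n2851 := rfl
theorem F10019 : act 3 n2851 = n2177 := d18_1 D2851 (iv D2177) (iv D1656) (iv F5966) D2172
theorem F10020 : act 6 n2851 = n2182 := d23_2 (iv F7731) D2851 (iv D2182)
def n2852 : Q := act 0 n2173
theorem D2852 : act 0 n2173 = n2852 := rfl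
theorem F10021 : act 2 n2852 = n2256 := d1_2 (iv F7732) D2852 (iv D2256)
theorem F10022 : act 5 n2852 = n2852 := d4_2 F7733 D2852 (iv D2852)
theorem F10023 : act 6 n2852 = n2852 := d5_2 F7734 D2852 (iv D2852)
theorem F10024 : act 7 n2852 = n2175 := d6_2 (iv F7735) D2852 (iv D2175)
def n2853 : Q := act 3 n2173
theorem D2853 : act 3 n2173 = n2853 := rfl
theorem F10025 : act 1 n2853 = n2174 := d8_1 D2853 (iv D2174) D2173
theorem F10026 : act 5 n2853 = n2853 := d19_2 F7733 D2853 (iv D2853)
theorem F10027 : act 6 n2853 = n2853 := d20_2 F7734 D2853 (iv D2853)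
theorem F10028 : act 7 n2853 = n2176 := d21_2 (iv F7735) D2853 (iv D2176)
def n2854 : Q := act 4 n2174
theorem D2854 : act 4 n2174 = n2854 := rfl
theorem F10029 : act 2 n2854 = n2854 := d14_1 D2854 (iv D2854) F7736
theorem F10030 : act 6 n2854 = n2854 := d23_2 F7738 D2854 (iv D2854)
theorem F10031 : act 7 n2854 = n2177 := d24_2 (iv F7739) D2854 (iv D2177)
def n2855 : Q := act 3 n2175
theorem D2855 : act 3 n2175 = n2855 := rfl
theorem F10032 : act 0 n2855 = n2176 := d2_1 D2855 (iv D2176) D2175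
theorem F10033 : act 5 n2855 = n2855 := d19_2 F7741 D2855 (iv D2855)
theorem F10034 : act 6 n2855 = n2183 := d20_2 (iv F7742) D2855 (iv D2183)
def n2856 : Q := act 2 n2176
theorem D2856 : act 2 n2176 = n2856 := rfl
theorem F10035 : act 1 n2856 = n2856 := d7_1 D2856 (iv D2856) F7743 F5974 (iv F7743)
theorem F10036 : act 3 n2856 = n2260 := d13_2 D2176 D2856 (iv D2260) (iv D1716) (iv F5971)
theorem F10037 : act 5 n2856 = n2856 := d15_2 F7744 D2856 (iv D2856)
theorem F10038 : act 6 n2856 = n2856 := d16_2 (iv F7745) D2856 (iv D2856) F7745 F5989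
def n2857 : Q := act 4 n2176
theorem D2857 : act 4 n2176 = n2857 := rfl
theorem F10039 : act 1 n2857 = n2177 := d9_1 D2857 (iv D2177) (iv F7743)
theorem F10040 : act 6 n2857 = n2184 := d23_2 (iv F7745) D2857 (iv D2184)
def n2858 : Q := act 5 n2177
theorem D2858 : act 5 n2177 = n2858 := rfl
theorem F10041 : act 2 n2858 = n2858 := d15_1 D2858 (iv D2858) F7746
theorem F10042 : act 4 n2858 = n2858 := d22_1 D2858 (iv D2858) (iv D2177) F5975 D2177
theorem F10043 : act 6 n2858 = n2185 := d25_2 (iv F7747) D2858 (iv D2185)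
def n2859 : Q := act 0 n2178
theorem D2859 : act 0 n2178 = n2859 := rfl
theorem F10044 : act 2 n2859 = n2186 := d1_2 (iv F7748) D2859 (iv D2186)
theorem F10045 : act 4 n2859 = n2859 := d3_2 F7749 D2859 (iv D2859)
theorem F10046 : act 5 n2859 = n2180 := d4_2 (iv F7750) D2859 (iv D2180)
theorem F10047 : act 7 n2859 = n2859 := d6_2 F7751 D2859 (iv D2859)
def n2860 : Q := act 3 n2178
theorem D2860 : act 3 n2178 = n2860 := rfl
theorem F10048 : act 1 n2860 = n2179 := d8_1 D2860 (iv D2179) D2178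
theorem F10049 : act 5 n2860 = n2181 := d19_2 (iv F7750) D2860 (iv D2181)
theorem F10050 : act 7 n2860 = n2860 := d21_2 F7751 D2860 (iv D2860)
def n2861 : Q := act 4 n2179
theorem D2861 : act 4 n2179 = n2861 := rfl
theorem F10051 : act 2 n2861 = n2861 := d14_1 D2861 (iv D2861) F7752
theorem F10052 : act 3 n2861 = n2861 := d18_1 D2861 (iv D2861) (iv D2179) F5977 D2179
theorem F10053 : act 7 n2861 = n2861 := d24_2 F7754 D2861 (iv D2861)
def n2862 : Q := act 3 n2180
theorem D2862 : act 3 n2180 = n2862 := rfl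
theorem F10054 : act 0 n2862 = n2181 := d2_1 D2862 (iv D2181) D2180
theorem F10055 : act 7 n2862 = n2862 := d21_2 F7757 D2862 (iv D2862)
def n2863 : Q := act 2 n2181
theorem D2863 : act 2 n2181 = n2863 := rfl
theorem F10056 : act 1 n2863 = n2863 := d7_1 D2863 (iv D2863) F7758 F5983 (iv F7758)
theorem F10057 : act 3 n2863 = n2190 := d13_2 D2181 D2863 (iv D2190) (iv D1667) (iv F5980)
theorem F10058 : act 7 n2863 = n2863 := d17_2 F7759 D2863 (iv D2863)
def n2864 : Q := act 4 n2181
theorem D2864 : act 4 n2181 = n2864 := rfl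
theorem F10059 : act 1 n2864 = n2182 := d9_1 D2864 (iv D2182) (iv F7758)
theorem F10060 : act 3 n2864 = n2184 := d18_1 D2864 (iv D2184) (iv D1661) (iv F5981) D2181
theorem F10061 : act 7 n2864 = n2864 := d24_2 F7759 D2864 (iv D2864)
def n2865 : Q := act 5 n2182
theorem D2865 : act 5 n2182 = n2865 := rfl
theorem F10062 : act 2 n2865 = n2865 := d15_1 D2865 (iv D2865) F7760
theorem F10063 : act 3 n2865 = n2185 := d19_1 D2865 (iv D2185) (iv F7761)
theorem F10064 : act 7 n2865 = n2865 := d26_2 F7762 D2865 (iv D2865)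
def n2866 : Q := act 4 n2183
theorem D2866 : act 4 n2183 = n2866 := rfl
theorem F10065 : act 0 n2866 = n2184 := d3_1 D2866 (iv D2184) (iv F7763)
theorem F10066 : act 2 n2866 = n2866 := d14_1 D2866 (iv D2866) F7764
theorem F10067 : act 7 n2866 = n2866 := d24_2 F7766 D2866 (iv D2866)
def n2867 : Q := act 5 n2184
theorem D2867 : act 5 n2184 = n2867 := rfl
theorem F10068 : act 1 n2867 = n2185 := d10_1 D2867 (iv D2185) (iv F7767)
theorem F10069 : act 2 n2867 = n2867 := d15_1 D2867 (iv D2867) F7768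
theorem F10070 : act 4 n2867 = n2867 := d22_1 D2867 (iv D2867) (iv D2184) F5990 D2184
theorem F10071 : act 7 n2867 = n2867 := d26_2 F7769 D2867 (iv D2867)
def n2868 : Q := act 3 n2186
theorem D2868 : act 3 n2186 = n2868 := rfl
theorem F10072 : act 0 n2868 = n2187 := d2_1 D2868 (iv D2187) D2186
theorem F10073 : act 1 n2868 = n2868 := d8_1 D2868 (iv D2868) F7773
theorem F10074 : act 5 n2868 = n2189 := d19_2 (iv F7775) D2868 (iv D2189)
theorem F10075 : act 6 n2868 = n2272 := d20_2 (iv F7776) D2868 (iv D2272)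
theorem F10076 : act 7 n2868 = n2868 := d21_2 F7777 D2868 (iv D2868)
def n2869 : Q := act 2 n2187
theorem D2869 : act 2 n2187 = n2869 := rfl
theorem F10077 : act 1 n2869 = n2869 := d7_1 D2869 (iv D2869) F7778 F6004 (iv F7778)
theorem F10078 : act 5 n2869 = n2190 := d15_2 (iv F7779) D2869 (iv D2190)
theorem F10079 : act 7 n2869 = n2869 := d17_2 F7781 D2869 (iv D2869)
def n2870 : Q := act 4 n2187
theorem D2870 : act 4 n2187 = n2870 := rfl
theorem F10080 : act 1 n2870 = n2188 := d9_1 D2870 (iv D2188) (iv F7778)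
theorem F10081 : act 3 n2870 = n2870 := d18_1 D2870 (iv D2870) (iv D2187) F5999 D2187
theorem F10082 : act 5 n2870 = n2870 := d22_2 (iv F7779) D2870 (iv D2870) F7779 F6013
theorem F10083 : act 6 n2870 = n2274 := d23_2 (iv F7780) D2870 (iv D2274)
theorem F10084 : act 7 n2870 = n2870 := d24_2 F7781 D2870 (iv D2870)
def n2871 : Q := act 2 n2189
theorem D2871 : act 2 n2189 = n2871 := rfl
theorem F10085 : act 0 n2871 = n2190 := d1_1 D2871 (iv D2190) (iv F7788)
theorem F10086 : act 4 n2871 = n2871 := d14_2 F7790 D2871 (iv D2871)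
theorem F10087 : act 7 n2871 = n2871 := d17_2 F7792 D2871 (iv D2871)
def n2872 : Q := act 6 n2190
theorem D2872 : act 6 n2190 = n2872 := rfl
theorem F10088 : act 1 n2872 = n2872 := d11_1 D2872 (iv D2872) F7793
theorem F10089 : act 2 n2872 = n2276 := d16_1 D2872 (iv D2276) (iv D1730) (iv F6014) D2190
theorem F10090 : act 4 n2872 = n2872 := d23_1 D2872 (iv D2872) F7794
def n2875 : Q := act 7 n2191
theorem D2875 : act 7 n2191 = n2875 := rfl
theorem F10097 : act 1 n2875 = n2279 := d12_1 D2875 (iv D2279) (iv F7796)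
theorem F10098 : act 2 n2875 = n2196 := d17_1 D2875 (iv D2196) (iv F7797)
def n2878 : Q := act 6 n2193
theorem D2878 : act 6 n2193 = n2878 := rfl
theorem F10107 : act 1 n2878 = n2281 := d11_1 D2878 (iv D2281) (iv F7802)
def n2879 : Q := act 6 n2194
theorem D2879 : act 6 n2194 = n2879 := rfl
theorem F10110 : act 1 n2879 = n2213 := d11_1 D2879 (iv D2213) (iv F7806)
theorem F10112 : act 4 n2879 = n2195 := d23_1 D2879 (iv D2195) D2194
def n2881 : Q := act 2 n2195
theorem D2881 : act 2 n2195 = n2881 := rfl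
theorem F10119 : act 5 n2881 = n2197 := d15_2 (iv F7811) D2881 (iv D2197)
def n2882 : Q := act 7 n2195
theorem D2882 : act 7 n2195 = n2882 := rfl
theorem F10120 : act 1 n2882 = n2215 := d12_1 D2882 (iv D2215) (iv F7809)
theorem F10121 : act 3 n2882 = n2201 := d21_1 D2882 (iv D2201) (iv F7810)
theorem F10122 : act 5 n2882 = n2198 := d26_1 D2882 (iv D2198) (iv F7811)
def n2883 : Q := act 6 n2196
theorem D2883 : act 6 n2196 = n2883 := rfl
theorem F10123 : act 1 n2883 = n2216 := d11_1 D2883 (iv D2216) (iv F7812)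
theorem F10124 : act 3 n2883 = n2202 := d20_1 D2883 (iv D2202) (iv F7813)
theorem F10125 : act 5 n2883 = n2199 := d25_1 D2883 (iv D2199) (iv F7814)
def n2884 : Q := act 3 n2197
theorem D2884 : act 3 n2197 = n2884 := rfl
theorem F10127 : act 2 n2884 = n2203 := d13_1 D2884 (iv D2203) (iv D1674) (iv F6022) D2197
def n2885 : Q := act 7 n2197
theorem D2885 : act 7 n2197 = n2885 := rfl
theorem F10129 : act 2 n2885 = n2198 := d17_1 D2885 (iv D2198) D2197
def n2886 : Q := act 6 n2198
theorem D2886 : act 6 n2198 = n2886 := rfl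
theorem F10131 : act 1 n2886 = n2217 := d11_1 D2886 (iv D2217) (iv F7817)
theorem F10132 : act 3 n2886 = n2205 := d20_1 D2886 (iv D2205) (iv F7818)
theorem F10134 : act 7 n2886 = n2199 := d27_2 D2198 D2886 (iv D2199) (iv D1671) D1670
def n2887 : Q := act 2 n2199
theorem D2887 : act 2 n2199 = n2887 := rfl
theorem F10135 : act 4 n2887 = n2887 := d14_2 F7822 D2887 (iv D2887)
def n2888 : Q := act 3 n2200
theorem D2888 : act 3 n2200 = n2888 := rfl
def n2889 : Q := act 7 n2200
theorem D2889 : act 7 n2200 = n2889 := rfl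
theorem F10139 : act 1 n2889 = n2456 := d12_1 D2889 (iv D2456) (iv F7823)
theorem F10140 : act 2 n2889 = n2201 := d17_1 D2889 (iv D2201) D2200
theorem F10142 : act 5 n2889 = n2204 := d26_1 D2889 (iv D2204) (iv F7825)
def n2890 : Q := act 6 n2201
theorem D2890 : act 6 n2201 = n2890 := rfl
theorem F10145 : act 5 n2890 = n2205 := d25_1 D2890 (iv D2205) (iv F7829)
theorem F10146 : act 7 n2890 = n2202 := d27_2 D2201 D2890 (iv D2202) (iv D1673) D1672
def n2891 : Q := act 2 n2202
theorem D2891 : act 2 n2202 = n2891 := rfl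
theorem F10147 : act 4 n2891 = n2891 := d14_2 F7831 D2891 (iv D2891)
theorem F10148 : act 5 n2891 = n2206 := d15_2 (iv F7832) D2891 (iv D2206)
theorem F10149 : act 6 n2891 = n2891 := d16_2 D2202 D2891 (iv D2891) (iv D2202) F6031
def n2892 : Q := act 4 n2203
theorem D2892 : act 4 n2203 = n2892 := rfl
theorem F10150 : act 1 n2892 = n2459 := d9_1 D2892 (iv D2459) (iv F7833)
theorem F10151 : act 3 n2892 = n2207 := d18_1 D2892 (iv D2207) (iv D1677) (iv F6035) D2203
def n2893 : Q := act 7 n2203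
theorem D2893 : act 7 n2203 = n2893 := rfl
theorem F10153 : act 1 n2893 = n2460 := d12_1 D2893 (iv D2460) (iv F7833)
theorem F10154 : act 3 n2893 = n2204 := d21_1 D2893 (iv D2204) D2203
def n2894 : Q := act 6 n2204
theorem D2894 : act 6 n2204 = n2894 := rfl
theorem F10155 : act 1 n2894 = n2461 := d11_1 D2894 (iv D2461) (iv F7835)
theorem F10156 : act 4 n2894 = n2209 := d23_1 D2894 (iv D2209) (iv F7837)
def n2895 : Q := act 2 n2205
theorem D2895 : act 2 n2205 = n2895 := rfl
theorem F10158 : act 4 n2895 = n2210 := d14_2 (iv F7839) D2895 (iv D2210)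
theorem F10159 : act 7 n2895 = n2206 := d17_2 (iv F7840) D2895 (iv D2206)
def n2896 : Q := act 1 n2206
theorem D2896 : act 1 n2206 = n2896 := rfl
theorem F10160 : act 2 n2896 = n2222 := d7_2 D2206 D2896 (iv D2222) (iv D1689) (iv F6039)
theorem F10161 : act 4 n2896 = n2211 := d9_2 (iv F7841) D2896 (iv D2211)
theorem F10162 : act 6 n2896 = n2896 := d11_2 F7842 D2896 (iv D2896)
def n2897 : Q := act 3 n2206
theorem D2897 : act 3 n2206 = n2897 := rfl
theorem F10163 : act 6 n2897 = n2897 := d20_2 F7842 D2897 (iv D2897)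
def n2899 : Q := act 7 n2207
theorem D2899 : act 7 n2207 = n2899 := rfl
theorem F10170 : act 4 n2899 = n2208 := d24_1 D2899 (iv D2208) D2207
def n2900 : Q := act 6 n2208
theorem D2900 : act 6 n2208 = n2900 := rfl
theorem F10172 : act 3 n2900 = n2209 := d20_1 D2900 (iv D2209) (iv F7848)
def n2901 : Q := act 2 n2209
theorem D2901 : act 2 n2209 = n2901 := rfl
theorem F10175 : act 5 n2901 = n2901 := d15_2 F7851 D2901 (iv D2901)
theorem F10176 : act 6 n2901 = n2210 := d16_2 D2209 D2901 (iv D2210) (iv D1679) (iv F6046)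
theorem F10177 : act 7 n2901 = n2901 := d17_2 F7852 D2901 (iv D2901)
def n2902 : Q := act 1 n2210
theorem D2902 : act 1 n2210 = n2902 := rfl
theorem F10178 : act 2 n2902 = n2224 := d7_2 D2210 D2902 (iv D2224) (iv D1690) (iv F6048)
theorem F10179 : act 5 n2902 = n2902 := d10_2 F7853 D2902 (iv D2902)
theorem F10180 : act 7 n2902 = n2211 := d12_2 (iv F7854) D2902 (iv D2211)
def n2903 : Q := act 3 n2210
theorem D2903 : act 3 n2210 = n2903 := rfl
theorem F10181 : act 2 n2903 = n2903 := d13_1 D2903 (iv D2903) (iv D2210) F6049 D2210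
theorem F10182 : act 5 n2903 = n2903 := d19_2 F7853 D2903 (iv D2903)
theorem F10183 : act 7 n2903 = n2212 := d21_2 (iv F7854) D2903 (iv D2212)
def n2904 : Q := act 0 n2211
theorem D2904 : act 0 n2211 = n2904 := rfl
theorem F10184 : act 2 n2904 = n2226 := d1_2 (iv F7855) D2904 (iv D2226)
theorem F10185 : act 5 n2904 = n2904 := d4_2 F7856 D2904 (iv D2904)
theorem F10186 : act 6 n2904 = n2904 := d5_2 F7857 D2904 (iv D2904)
def n2905 : Q := act 3 n2211
theorem D2905 : act 3 n2211 = n2905 := rfl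
theorem F10187 : act 1 n2905 = n2212 := d8_1 D2905 (iv D2212) D2211
theorem F10188 : act 5 n2905 = n2905 := d19_2 F7856 D2905 (iv D2905)
theorem F10189 : act 6 n2905 = n2905 := d20_2 F7857 D2905 (iv D2905)
def n2906 : Q := act 4 n2212
theorem D2906 : act 4 n2212 = n2906 := rfl
theorem F10190 : act 2 n2906 = n2906 := d14_1 D2906 (iv D2906) F7858
theorem F10191 : act 6 n2906 = n2906 := d23_2 F7860 D2906 (iv D2906)
def n2907 : Q := act 7 n2213
theorem D2907 : act 7 n2213 = n2907 := rfl
theorem F10192 : act 0 n2907 = n2241 := d6_1 D2907 (iv D2241) (iv F7861)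
def n2908 : Q := act 6 n2214
theorem D2908 : act 6 n2214 = n2908 := rfl
def n2909 : Q := act 6 n2215
theorem D2909 : act 6 n2215 = n2909 := rfl
theorem F10201 : act 0 n2909 = n2243 := d5_1 D2909 (iv D2243) (iv F7871)
theorem F10202 : act 3 n2909 = n2219 := d20_1 D2909 (iv D2219) (iv F7873)
theorem F10204 : act 7 n2909 = n2216 := d27_2 D2215 D2909 (iv D2216) (iv D1683) D1682
def n2910 : Q := act 2 n2216
theorem D2910 : act 2 n2216 = n2910 := rfl
theorem F10205 : act 0 n2910 = n2244 := d1_1 D2910 (iv D2244) (iv F7875)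
theorem F10206 : act 5 n2910 = n2218 := d15_2 (iv F7877) D2910 (iv D2218)
theorem F10207 : act 6 n2910 = n2292 := d16_2 D2216 D2910 (iv D2292) (iv D1742) (iv F6063)
def n2911 : Q := act 2 n2217
theorem D2911 : act 2 n2217 = n2911 := rfl
theorem F10208 : act 0 n2911 = n2245 := d1_1 D2911 (iv D2245) (iv F7878)
theorem F10211 : act 7 n2911 = n2218 := d17_2 (iv F7881) D2911 (iv D2218)
def n2912 : Q := act 1 n2218
theorem D2912 : act 1 n2218 = n2912 := rfl
theorem F10212 : act 4 n2912 = n2912 := d9_2 F7883 D2912 (iv D2912)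
theorem F10213 : act 6 n2912 = n2293 := d11_2 (iv F7884) D2912 (iv D2293)
def n2913 : Q := act 3 n2218
theorem D2913 : act 3 n2218 = n2913 := rfl
theorem F10214 : act 0 n2913 = n2247 := d2_1 D2913 (iv D2247) (iv F7882)
theorem F10215 : act 2 n2913 = n2223 := d13_1 D2913 (iv D2223) (iv D1689) (iv F6071) D2218
theorem F10216 : act 6 n2913 = n2294 := d20_2 (iv F7884) D2913 (iv D2294)
def n2914 : Q := act 2 n2219
theorem D2914 : act 2 n2219 = n2914 := rfl
theorem F10217 : act 0 n2914 = n2248 := d1_1 D2914 (iv D2248) (iv F7885)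
theorem F10219 : act 5 n2914 = n2221 := d15_2 (iv F7887) D2914 (iv D2221)
theorem F10220 : act 6 n2914 = n2474 := d16_2 D2219 D2914 (iv D2474) (iv D1879) (iv F6074)
theorem F10221 : act 7 n2914 = n2220 := d17_2 (iv F7888) D2914 (iv D2220)
def n2915 : Q := act 1 n2220
theorem D2915 : act 1 n2220 = n2915 := rfl
theorem F10222 : act 4 n2915 = n2915 := d9_2 F7890 D2915 (iv D2915)
theorem F10223 : act 5 n2915 = n2222 := d10_2 (iv F7891) D2915 (iv D2222)
theorem F10224 : act 6 n2915 = n2229 := d11_2 (iv F7892) D2915 (iv D2229)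
def n2916 : Q := act 3 n2220
theorem D2916 : act 3 n2220 = n2916 := rfl
theorem F10225 : act 0 n2916 = n2250 := d2_1 D2916 (iv D2250) (iv F7889)
theorem F10226 : act 5 n2916 = n2223 := d19_2 (iv F7891) D2916 (iv D2223)
theorem F10227 : act 6 n2916 = n2230 := d20_2 (iv F7892) D2916 (iv D2230)
def n2917 : Q := act 1 n2221
theorem D2917 : act 1 n2221 = n2917 := rfl
theorem F10228 : act 4 n2917 = n2224 := d9_2 (iv F7894) D2917 (iv D2224)
theorem F10229 : act 6 n2917 = n2477 := d11_2 (iv F7895) D2917 (iv D2477)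
theorem F10230 : act 7 n2917 = n2222 := d12_2 (iv F7896) D2917 (iv D2222)
def n2918 : Q := act 3 n2221
theorem D2918 : act 3 n2221 = n2918 := rfl
theorem F10231 : act 0 n2918 = n2252 := d2_1 D2918 (iv D2252) (iv F7893)
theorem F10232 : act 6 n2918 = n2478 := d20_2 (iv F7895) D2918 (iv D2478)
theorem F10233 : act 7 n2918 = n2223 := d21_2 (iv F7896) D2918 (iv D2223)
def n2919 : Q := act 0 n2222
theorem D2919 : act 0 n2222 = n2919 := rfl
theorem F10234 : act 1 n2919 = n2253 := d0_2 D2222 D2919 (iv D2253) (iv D1711) (iv F6083)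
theorem F10235 : act 4 n2919 = n2226 := d3_2 (iv F7897) D2919 (iv D2226)
theorem F10236 : act 6 n2919 = n2231 := d5_2 (iv F7898) D2919 (iv D2231)
def n2920 : Q := act 3 n2222
theorem D2920 : act 3 n2222 = n2920 := rfl
theorem F10237 : act 1 n2920 = n2223 := d8_1 D2920 (iv D2223) D2222
theorem F10238 : act 6 n2920 = n2232 := d20_2 (iv F7898) D2920 (iv D2232)
def n2921 : Q := act 4 n2223
theorem D2921 : act 4 n2223 = n2921 := rfl
theorem F10239 : act 0 n2921 = n2255 := d3_1 D2921 (iv D2255) (iv F7899)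
theorem F10240 : act 3 n2921 = n2228 := d18_1 D2921 (iv D2228) (iv D1692) (iv F6084) D2223
theorem F10241 : act 6 n2921 = n2233 := d23_2 (iv F7900) D2921 (iv D2233)
def n2922 : Q := act 0 n2224
theorem D2922 : act 0 n2224 = n2922 := rfl
theorem F10242 : act 1 n2922 = n2256 := d0_2 D2224 D2922 (iv D2256) (iv D1713) (iv F6086)
theorem F10243 : act 5 n2922 = n2922 := d4_2 F7901 D2922 (iv D2922)
theorem F10244 : act 6 n2922 = n2482 := d5_2 (iv F7902) D2922 (iv D2482)
theorem F10245 : act 7 n2922 = n2226 := d6_2 (iv F7903) D2922 (iv D2226)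
def n2923 : Q := act 3 n2224
theorem D2923 : act 3 n2224 = n2923 := rfl
theorem F10246 : act 1 n2923 = n2225 := d8_1 D2923 (iv D2225) D2224
theorem F10247 : act 5 n2923 = n2923 := d19_2 F7901 D2923 (iv D2923)
theorem F10248 : act 6 n2923 = n2483 := d20_2 (iv F7902) D2923 (iv D2483)
theorem F10249 : act 7 n2923 = n2227 := d21_2 (iv F7903) D2923 (iv D2227)
def n2924 : Q := act 4 n2225
theorem D2924 : act 4 n2225 = n2924 := rfl
theorem F10250 : act 0 n2924 = n2258 := d3_1 D2924 (iv D2258) (iv F7904)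
theorem F10251 : act 2 n2924 = n2924 := d14_1 D2924 (iv D2924) F7905
theorem F10252 : act 6 n2924 = n2484 := d23_2 (iv F7907) D2924 (iv D2484)
theorem F10253 : act 7 n2924 = n2228 := d24_2 (iv F7908) D2924 (iv D2228)
def n2925 : Q := act 3 n2226
theorem D2925 : act 3 n2226 = n2925 := rfl
theorem F10254 : act 0 n2925 = n2227 := d2_1 D2925 (iv D2227) D2226
theorem F10255 : act 1 n2925 = n2259 := d8_1 D2925 (iv D2259) (iv F7909)
theorem F10256 : act 5 n2925 = n2925 := d19_2 F7910 D2925 (iv D2925)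
theorem F10257 : act 6 n2925 = n2234 := d20_2 (iv F7911) D2925 (iv D2234)
def n2926 : Q := act 2 n2227
theorem D2926 : act 2 n2227 = n2926 := rfl
theorem F10258 : act 1 n2926 = n2926 := d7_1 D2926 (iv D2926) F7912 F6093 (iv F7912)
theorem F10259 : act 5 n2926 = n2926 := d15_2 F7913 D2926 (iv D2926)
def n2927 : Q := act 4 n2227
theorem D2927 : act 4 n2227 = n2927 := rfl
theorem F10260 : act 1 n2927 = n2228 := d9_1 D2927 (iv D2228) (iv F7912)
theorem F10261 : act 6 n2927 = n2236 := d23_2 (iv F7914) D2927 (iv D2236)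
def n2929 : Q := act 0 n2229
theorem D2929 : act 0 n2229 = n2929 := rfl
theorem F10266 : act 1 n2929 = n2263 := d0_2 D2229 D2929 (iv D2263) (iv D1718) (iv F6096)
theorem F10267 : act 2 n2929 = n2929 := d1_2 F7918 D2929 (iv D2929)
theorem F10268 : act 4 n2929 = n2929 := d3_2 F7919 D2929 (iv D2929)
theorem F10269 : act 5 n2929 = n2231 := d4_2 (iv F7920) D2929 (iv D2231)
theorem F10270 : act 7 n2929 = n2489 := d6_2 (iv F7921) D2929 (iv D2489)
def n2930 : Q := act 3 n2229
theorem D2930 : act 3 n2229 = n2930 := rfl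
theorem F10271 : act 1 n2930 = n2230 := d8_1 D2930 (iv D2230) D2229
theorem F10272 : act 5 n2930 = n2232 := d19_2 (iv F7920) D2930 (iv D2232)
theorem F10273 : act 7 n2930 = n2490 := d21_2 (iv F7921) D2930 (iv D2490)
def n2931 : Q := act 4 n2230
theorem D2931 : act 4 n2230 = n2931 := rfl
theorem F10274 : act 0 n2931 = n2265 := d3_1 D2931 (iv D2265) (iv F7922)
theorem F10275 : act 2 n2931 = n2306 := d14_1 D2931 (iv D2306) (iv F7923)
theorem F10276 : act 3 n2931 = n2931 := d18_1 D2931 (iv D2931) (iv D2230) F6097 D2230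
theorem F10277 : act 7 n2931 = n2491 := d24_2 (iv F7925) D2931 (iv D2491)
def n2932 : Q := act 3 n2231
theorem D2932 : act 3 n2231 = n2932 := rfl
theorem F10278 : act 0 n2932 = n2232 := d2_1 D2932 (iv D2232) D2231
theorem F10279 : act 1 n2932 = n2266 := d8_1 D2932 (iv D2266) (iv F7926)
theorem F10280 : act 7 n2932 = n2492 := d21_2 (iv F7929) D2932 (iv D2492)
def n2933 : Q := act 2 n2232
theorem D2933 : act 2 n2232 = n2933 := rfl
theorem F10281 : act 1 n2933 = n2308 := d7_1 D2933 (iv D2308) F6306 (iv F6104) (iv F7930)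
theorem F10282 : act 3 n2933 = n2933 := d13_2 D2232 D2933 (iv D2933) (iv D2232) F6100
theorem F10283 : act 7 n2933 = n2493 := d17_2 (iv F7931) D2933 (iv D2493)
def n2934 : Q := act 4 n2232
theorem D2934 : act 4 n2232 = n2934 := rfl
theorem F10284 : act 1 n2934 = n2233 := d9_1 D2934 (iv D2233) (iv F7930)
theorem F10285 : act 3 n2934 = n2236 := d18_1 D2934 (iv D2236) (iv D1697) (iv F6101) D2232
theorem F10286 : act 7 n2934 = n2494 := d24_2 (iv F7931) D2934 (iv D2494)
def n2935 : Q := act 5 n2233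
theorem D2935 : act 5 n2233 = n2935 := rfl
theorem F10287 : act 0 n2935 = n2269 := d4_1 D2935 (iv D2269) (iv F7932)
theorem F10288 : act 2 n2935 = n2310 := d15_1 D2935 (iv D2310) (iv F7933)
theorem F10290 : act 7 n2935 = n2495 := d26_2 (iv F7935) D2935 (iv D2495)
def n2936 : Q := act 2 n2234
theorem D2936 : act 2 n2234 = n2936 := rfl
theorem F10291 : act 0 n2936 = n2235 := d1_1 D2936 (iv D2235) (iv F7936)
theorem F10292 : act 1 n2936 = n2936 := d7_1 D2936 (iv D2936) F7937 F6190 (iv F7937)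
theorem F10293 : act 3 n2936 = n2936 := d13_2 D2234 D2936 (iv D2936) (iv D2234) F6107
theorem F10294 : act 5 n2936 = n2936 := d15_2 F7938 D2936 (iv D2936)
theorem F10295 : act 7 n2936 = n2496 := d17_2 (iv F7939) D2936 (iv D2496)
def n2937 : Q := act 4 n2234
theorem D2937 : act 4 n2234 = n2937 := rfl
theorem F10296 : act 0 n2937 = n2236 := d3_1 D2937 (iv D2236) (iv F7936)
theorem F10297 : act 1 n2937 = n2270 := d9_1 D2937 (iv D2270) (iv F7937)
theorem F10298 : act 7 n2937 = n2497 := d24_2 (iv F7939) D2937 (iv D2497)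
def n2938 : Q := act 4 n2235
theorem D2938 : act 4 n2235 = n2938 := rfl
theorem F10299 : act 1 n2938 = n2238 := d9_1 D2938 (iv D2238) (iv F7940)
theorem F10300 : act 2 n2938 = n2236 := d14_1 D2938 (iv D2236) D2235
theorem F10301 : act 7 n2938 = n2498 := d24_2 (iv F7943) D2938 (iv D2498)
def n2939 : Q := act 6 n2235
theorem D2939 : act 6 n2235 = n2939 := rfl
def n2942 : Q := act 5 n2238
theorem D2942 : act 5 n2238 = n2942 := rfl
theorem F10313 : act 2 n2942 = n2240 := d15_1 D2942 (iv D2240) (iv F7951)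
def n2945 : Q := act 6 n2241
theorem D2945 : act 6 n2241 = n2945 := rfl
theorem F10327 : act 7 n2945 = n2242 := d27_2 D2241 D2945 (iv D2242) (iv D1703) D1702
def n2946 : Q := act 2 n2242
theorem D2946 : act 2 n2242 = n2946 := rfl
theorem F10328 : act 4 n2946 = n2244 := d14_2 (iv F7968) D2946 (iv D2244)
theorem F10330 : act 6 n2946 = n2320 := d16_2 D2242 D2946 (iv D2320) (iv D1762) (iv F6134)
def n2947 : Q := act 2 n2243
theorem D2947 : act 2 n2243 = n2947 := rfl
theorem F10331 : act 5 n2947 = n2245 := d15_2 (iv F7971) D2947 (iv D2245)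
theorem F10333 : act 7 n2947 = n2244 := d17_2 (iv F7972) D2947 (iv D2244)
def n2948 : Q := act 1 n2244
theorem D2948 : act 1 n2244 = n2948 := rfl
theorem F10334 : act 5 n2948 = n2246 := d10_2 (iv F7973) D2948 (iv D2246)
theorem F10335 : act 6 n2948 = n2321 := d11_2 (iv F7974) D2948 (iv D2321)
def n2949 : Q := act 3 n2244
theorem D2949 : act 3 n2244 = n2949 := rfl
theorem F10336 : act 2 n2949 = n2250 := d13_1 D2949 (iv D2250) (iv D1709) (iv F6141) D2244
theorem F10337 : act 5 n2949 = n2247 := d19_2 (iv F7973) D2949 (iv D2247)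
theorem F10338 : act 6 n2949 = n2322 := d20_2 (iv F7974) D2949 (iv D2322)
def n2950 : Q := act 1 n2245
theorem D2950 : act 1 n2245 = n2950 := rfl
theorem F10339 : act 4 n2950 = n2950 := d9_2 F7975 D2950 (iv D2950)
theorem F10340 : act 6 n2950 = n2950 := d11_2 F7976 D2950 (iv D2950)
theorem F10341 : act 7 n2950 = n2246 := d12_2 (iv F7977) D2950 (iv D2246)
def n2951 : Q := act 3 n2245
theorem D2951 : act 3 n2245 = n2951 := rfl
theorem F10342 : act 2 n2951 = n2252 := d13_1 D2951 (iv D2252) (iv D1710) (iv F6143) D2245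
theorem F10343 : act 6 n2951 = n2951 := d20_2 F7976 D2951 (iv D2951)
theorem F10344 : act 7 n2951 = n2247 := d21_2 (iv F7977) D2951 (iv D2247)
def n2952 : Q := act 0 n2246
theorem D2952 : act 0 n2246 = n2952 := rfl
theorem F10345 : act 4 n2952 = n2952 := d3_2 F7978 D2952 (iv D2952)
theorem F10346 : act 6 n2952 = n2323 := d5_2 (iv F7979) D2952 (iv D2323)
def n2953 : Q := act 3 n2246
theorem D2953 : act 3 n2246 = n2953 := rfl
theorem F10347 : act 1 n2953 = n2247 := d8_1 D2953 (iv D2247) D2246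
theorem F10348 : act 6 n2953 = n2324 := d20_2 (iv F7979) D2953 (iv D2324)
def n2954 : Q := act 4 n2247
theorem D2954 : act 4 n2247 = n2954 := rfl
theorem F10349 : act 2 n2954 = n2255 := d14_1 D2954 (iv D2255) (iv F7980)
theorem F10350 : act 3 n2954 = n2954 := d18_1 D2954 (iv D2954) (iv D2247) F6146 D2247
theorem F10351 : act 6 n2954 = n2325 := d23_2 (iv F7981) D2954 (iv D2325)
def n2955 : Q := act 1 n2248
theorem D2955 : act 1 n2248 = n2955 := rfl
theorem F10352 : act 4 n2955 = n2955 := d9_2 F7982 D2955 (iv D2955)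
theorem F10353 : act 5 n2955 = n2251 := d10_2 (iv F7983) D2955 (iv D2251)
theorem F10354 : act 6 n2955 = n2505 := d11_2 (iv F7984) D2955 (iv D2505)
theorem F10355 : act 7 n2955 = n2249 := d12_2 (iv F7985) D2955 (iv D2249)
def n2956 : Q := act 3 n2248
theorem D2956 : act 3 n2248 = n2956 := rfl
theorem F10356 : act 5 n2956 = n2252 := d19_2 (iv F7983) D2956 (iv D2252)
theorem F10357 : act 6 n2956 = n2506 := d20_2 (iv F7984) D2956 (iv D2506)
theorem F10358 : act 7 n2956 = n2250 := d21_2 (iv F7985) D2956 (iv D2250)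
def n2957 : Q := act 0 n2249
theorem D2957 : act 0 n2249 = n2957 := rfl
theorem F10359 : act 4 n2957 = n2957 := d3_2 F7986 D2957 (iv D2957)
theorem F10360 : act 5 n2957 = n2253 := d4_2 (iv F7987) D2957 (iv D2253)
theorem F10361 : act 6 n2957 = n2263 := d5_2 (iv F7988) D2957 (iv D2263)
def n2958 : Q := act 3 n2249
theorem D2958 : act 3 n2249 = n2958 := rfl
theorem F10362 : act 1 n2958 = n2250 := d8_1 D2958 (iv D2250) D2249
theorem F10363 : act 5 n2958 = n2254 := d19_2 (iv F7987) D2958 (iv D2254)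
theorem F10364 : act 6 n2958 = n2264 := d20_2 (iv F7988) D2958 (iv D2264)
def n2959 : Q := act 4 n2250
theorem D2959 : act 4 n2250 = n2959 := rfl
theorem F10365 : act 3 n2959 = n2959 := d18_1 D2959 (iv D2959) (iv D2250) F6151 D2250
theorem F10366 : act 6 n2959 = n2265 := d23_2 (iv F7990) D2959 (iv D2265)
def n2960 : Q := act 0 n2251
theorem D2960 : act 0 n2251 = n2960 := rfl
theorem F10367 : act 4 n2960 = n2256 := d3_2 (iv F7991) D2960 (iv D2256)
theorem F10368 : act 6 n2960 = n2510 := d5_2 (iv F7992) D2960 (iv D2510)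
theorem F10369 : act 7 n2960 = n2253 := d6_2 (iv F7993) D2960 (iv D2253)
def n2961 : Q := act 3 n2251
theorem D2961 : act 3 n2251 = n2961 := rfl
theorem F10370 : act 1 n2961 = n2252 := d8_1 D2961 (iv D2252) D2251
theorem F10371 : act 6 n2961 = n2511 := d20_2 (iv F7992) D2961 (iv D2511)
theorem F10372 : act 7 n2961 = n2254 := d21_2 (iv F7993) D2961 (iv D2254)
def n2962 : Q := act 4 n2252
theorem D2962 : act 4 n2252 = n2962 := rfl
theorem F10373 : act 3 n2962 = n2258 := d18_1 D2962 (iv D2258) (iv D1714) (iv F6154) D2252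
theorem F10374 : act 6 n2962 = n2512 := d23_2 (iv F7994) D2962 (iv D2512)
theorem F10375 : act 7 n2962 = n2255 := d24_2 (iv F7995) D2962 (iv D2255)
def n2963 : Q := act 3 n2253
theorem D2963 : act 3 n2253 = n2963 := rfl
theorem F10376 : act 0 n2963 = n2254 := d2_1 D2963 (iv D2254) D2253
theorem F10377 : act 6 n2963 = n2266 := d20_2 (iv F7997) D2963 (iv D2266)
def n2964 : Q := act 2 n2254
theorem D2964 : act 2 n2254 = n2964 := rfl
def n2965 : Q := act 4 n2254
theorem D2965 : act 4 n2254 = n2965 := rfl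
theorem F10378 : act 1 n2965 = n2255 := d9_1 D2965 (iv D2255) (iv F7998)
theorem F10379 : act 3 n2965 = n2261 := d18_1 D2965 (iv D2261) (iv D1716) (iv F6157) D2254
theorem F10380 : act 6 n2965 = n2268 := d23_2 (iv F7999) D2965 (iv D2268)
def n2966 : Q := act 5 n2255
theorem D2966 : act 5 n2255 = n2966 := rfl
theorem F10381 : act 3 n2966 = n2262 := d19_1 D2966 (iv D2262) (iv F8000)
theorem F10382 : act 6 n2966 = n2269 := d25_2 (iv F8001) D2966 (iv D2269)
def n2967 : Q := act 3 n2256
theorem D2967 : act 3 n2256 = n2967 := rfl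
theorem F10383 : act 0 n2967 = n2257 := d2_1 D2967 (iv D2257) D2256
theorem F10384 : act 5 n2967 = n2967 := d19_2 F8002 D2967 (iv D2967)
theorem F10385 : act 6 n2967 = n2517 := d20_2 (iv F8003) D2967 (iv D2517)
theorem F10386 : act 7 n2967 = n2259 := d21_2 (iv F8004) D2967 (iv D2259)
def n2968 : Q := act 2 n2257
theorem D2968 : act 2 n2257 = n2968 := rfl
theorem F10387 : act 1 n2968 = n2968 := d7_1 D2968 (iv D2968) F8005 F6163 (iv F8005)
theorem F10388 : act 5 n2968 = n2968 := d15_2 F8006 D2968 (iv D2968)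
theorem F10389 : act 7 n2968 = n2260 := d17_2 (iv F8008) D2968 (iv D2260)
def n2969 : Q := act 4 n2257
theorem D2969 : act 4 n2257 = n2969 := rfl
theorem F10390 : act 1 n2969 = n2258 := d9_1 D2969 (iv D2258) (iv F8005)
theorem F10391 : act 6 n2969 = n2519 := d23_2 (iv F8007) D2969 (iv D2519)
theorem F10392 : act 7 n2969 = n2261 := d24_2 (iv F8008) D2969 (iv D2261)
def n2970 : Q := act 5 n2258
theorem D2970 : act 5 n2258 = n2970 := rfl
theorem F10393 : act 2 n2970 = n2970 := d15_1 D2970 (iv D2970) F8009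
theorem F10394 : act 4 n2970 = n2970 := d22_1 D2970 (iv D2970) (iv D2258) F6164 D2258
theorem F10395 : act 6 n2970 = n2520 := d25_2 (iv F8010) D2970 (iv D2520)
theorem F10396 : act 7 n2970 = n2262 := d26_2 (iv F8011) D2970 (iv D2262)
def n2971 : Q := act 2 n2259
theorem D2971 : act 2 n2259 = n2971 := rfl
theorem F10397 : act 0 n2971 = n2260 := d1_1 D2971 (iv D2260) (iv F8012)
theorem F10398 : act 5 n2971 = n2971 := d15_2 F8013 D2971 (iv D2971)
theorem F10399 : act 6 n2971 = n2971 := d16_2 (iv F8014) D2971 (iv D2971) F8014 F6190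
def n2972 : Q := act 4 n2259
theorem D2972 : act 4 n2259 = n2972 := rfl
theorem F10400 : act 0 n2972 = n2261 := d3_1 D2972 (iv D2261) (iv F8012)
theorem F10401 : act 6 n2972 = n2270 := d23_2 (iv F8014) D2972 (iv D2270)
def n2973 : Q := act 4 n2260
theorem D2973 : act 4 n2260 = n2973 := rfl
theorem F10402 : act 1 n2973 = n2973 := d9_1 D2973 (iv D2973) F8015
theorem F10403 : act 2 n2973 = n2261 := d14_1 D2973 (iv D2261) D2260
theorem F10404 : act 6 n2973 = n2973 := d23_2 F8017 D2973 (iv D2973)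
def n2974 : Q := act 5 n2261
theorem D2974 : act 5 n2261 = n2974 := rfl
theorem F10405 : act 1 n2974 = n2262 := d10_1 D2974 (iv D2262) (iv F8018)
theorem F10406 : act 4 n2974 = n2974 := d22_1 D2974 (iv D2974) (iv D2261) F6170 D2261
theorem F10407 : act 6 n2974 = n2271 := d25_2 (iv F8019) D2974 (iv D2271)
def n2975 : Q := act 3 n2263
theorem D2975 : act 3 n2263 = n2975 := rfl
theorem F10408 : act 0 n2975 = n2264 := d2_1 D2975 (iv D2264) D2263
theorem F10409 : act 5 n2975 = n2266 := d19_2 (iv F8025) D2975 (iv D2266)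
theorem F10410 : act 7 n2975 = n2525 := d21_2 (iv F8026) D2975 (iv D2525)
def n2976 : Q := act 2 n2264
theorem D2976 : act 2 n2264 = n2976 := rfl
theorem F10411 : act 1 n2976 = n2338 := d7_1 D2976 (iv D2338) F6387 (iv F6178) (iv F8027)
theorem F10414 : act 7 n2976 = n2526 := d17_2 (iv F8029) D2976 (iv D2526)
def n2977 : Q := act 4 n2264
theorem D2977 : act 4 n2264 = n2977 := rfl
theorem F10415 : act 1 n2977 = n2265 := d9_1 D2977 (iv D2265) (iv F8027)
theorem F10417 : act 7 n2977 = n2527 := d24_2 (iv F8029) D2977 (iv D2527)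
def n2978 : Q := act 5 n2265
theorem D2978 : act 5 n2265 = n2978 := rfl
theorem F10418 : act 2 n2978 = n2340 := d15_1 D2978 (iv D2340) (iv F8030)
theorem F10419 : act 3 n2978 = n2978 := d19_1 D2978 (iv D2978) F8031
theorem F10420 : act 4 n2978 = n2269 := d22_1 D2978 (iv D2269) (iv D1722) (iv F6179) D2265
theorem F10421 : act 7 n2978 = n2528 := d26_2 (iv F8032) D2978 (iv D2528)
def n2979 : Q := act 2 n2266
theorem D2979 : act 2 n2266 = n2979 := rfl
theorem F10422 : act 0 n2979 = n2267 := d1_1 D2979 (iv D2267) (iv F8033)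
theorem F10423 : act 3 n2979 = n2275 := d13_2 D2266 D2979 (iv D2275) (iv D1729) (iv F6181)
theorem F10424 : act 7 n2979 = n2529 := d17_2 (iv F8034) D2979 (iv D2529)
def n2980 : Q := act 4 n2266
theorem D2980 : act 4 n2266 = n2980 := rfl
theorem F10425 : act 0 n2980 = n2268 := d3_1 D2980 (iv D2268) (iv F8033)
theorem F10426 : act 3 n2980 = n2270 := d18_1 D2980 (iv D2270) (iv D1723) (iv F6182) D2266
theorem F10427 : act 7 n2980 = n2530 := d24_2 (iv F8034) D2980 (iv D2530)
def n2981 : Q := act 4 n2267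
theorem D2981 : act 4 n2267 = n2981 := rfl
theorem F10428 : act 1 n2981 = n2343 := d9_1 D2981 (iv D2343) (iv F8035)
theorem F10429 : act 2 n2981 = n2268 := d14_1 D2981 (iv D2268) D2267
theorem F10430 : act 3 n2981 = n2981 := d18_1 D2981 (iv D2981) F8036 F6216 (iv F8036)
theorem F10431 : act 7 n2981 = n2531 := d24_2 (iv F8037) D2981 (iv D2531)
def n2982 : Q := act 6 n2267
theorem D2982 : act 6 n2267 = n2982 := rfl
theorem F10432 : act 1 n2982 = n2344 := d11_1 D2982 (iv D2344) (iv F8035)
theorem F10433 : act 3 n2982 = n2276 := d20_1 D2982 (iv D2276) (iv F8036)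
def n2983 : Q := act 5 n2268
theorem D2983 : act 5 n2268 = n2983 := rfl
theorem F10434 : act 1 n2983 = n2269 := d10_1 D2983 (iv D2269) (iv F8038)
theorem F10435 : act 3 n2983 = n2271 := d19_1 D2983 (iv D2271) (iv F8039)
theorem F10436 : act 7 n2983 = n2533 := d26_2 (iv F8040) D2983 (iv D2533)
def n2984 : Q := act 5 n2270
theorem D2984 : act 5 n2270 = n2984 := rfl
theorem F10437 : act 0 n2984 = n2271 := d4_1 D2984 (iv D2271) (iv F8044)
theorem F10438 : act 2 n2984 = n2984 := d15_1 D2984 (iv D2984) F8045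
theorem F10439 : act 4 n2984 = n2984 := d22_1 D2984 (iv D2984) (iv D2270) F6191 D2270
theorem F10440 : act 7 n2984 = n2534 := d26_2 (iv F8046) D2984 (iv D2534)
def n2985 : Q := act 2 n2272
theorem D2985 : act 2 n2272 = n2985 := rfl
theorem F10441 : act 0 n2985 = n2273 := d1_1 D2985 (iv D2273) (iv F8051)
theorem F10442 : act 5 n2985 = n2275 := d15_2 (iv F8053) D2985 (iv D2275)
theorem F10443 : act 7 n2985 = n2535 := d17_2 (iv F8054) D2985 (iv D2535)
def n2986 : Q := act 4 n2272
theorem D2986 : act 4 n2272 = n2986 := rfl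
theorem F10448 : act 7 n2986 = n2536 := d24_2 (iv F8054) D2986 (iv D2536)
def n2987 : Q := act 4 n2273
theorem D2987 : act 4 n2273 = n2987 := rfl
theorem F10449 : act 1 n2987 = n2349 := d9_1 D2987 (iv D2349) (iv F8055)
theorem F10450 : act 2 n2987 = n2274 := d14_1 D2987 (iv D2274) D2273
theorem F10452 : act 7 n2987 = n2537 := d24_2 (iv F8057) D2987 (iv D2537)
def n2988 : Q := act 6 n2273
theorem D2988 : act 6 n2273 = n2988 := rfl
theorem F10454 : act 5 n2988 = n2276 := d25_1 D2988 (iv D2276) (iv F8056)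
def n2989 : Q := act 1 n2275
theorem D2989 : act 1 n2275 = n2989 := rfl
theorem F10455 : act 0 n2989 = n2351 := d0_1 D2989 (iv D2351) F6420 (iv F6215) (iv F8062)
def n2990 : Q := act 6 n2275
theorem D2990 : act 6 n2275 = n2990 := rfl
theorem F10459 : act 0 n2990 = n2276 := d5_1 D2990 (iv D2276) (iv F8062)
theorem F10460 : act 4 n2990 = n2990 := d23_1 D2990 (iv D2990) F8063
def n2991 : Q := act 7 n2276
theorem D2991 : act 7 n2276 = n2991 := rfl
theorem F10461 : act 1 n2991 = n2353 := d12_1 D2991 (iv D2353) (iv F8065)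
theorem F10462 : act 4 n2991 = n2991 := d24_1 D2991 (iv D2991) F8066
theorem F10463 : act 6 n2991 = n2541 := d27_1 D2991 (iv D2541) (iv D1929) (iv F6217) D2276
def n2996 : Q := act 6 n2279
theorem D2996 : act 6 n2279 = n2996 := rfl
theorem F10482 : act 5 n2996 = n2281 := d25_1 D2996 (iv D2281) (iv F8077)
def n2998 : Q := act 2 n2281
theorem D2998 : act 2 n2281 = n2998 := rfl
theorem F10487 : act 0 n2998 = n2998 := d1_1 D2998 (iv D2998) F8082
theorem F10488 : act 4 n2998 = n2998 := d14_2 F8084 D2998 (iv D2998)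
theorem F10489 : act 6 n2998 = n2284 := d16_2 D2281 D2998 (iv D2284) (iv D1736) (iv F6226)
def n2999 : Q := act 6 n2282
theorem D2999 : act 6 n2282 = n2999 := rfl
theorem F10491 : act 1 n2999 = n2291 := d11_1 D2999 (iv D2291) (iv F8086)
theorem F10493 : act 4 n2999 = n2283 := d23_1 D2999 (iv D2283) (iv F8088)
def n3000 : Q := act 2 n2283
theorem D3000 : act 2 n2283 = n3000 := rfl
theorem F10496 : act 0 n3000 = n3000 := d1_1 D3000 (iv D3000) F8090
theorem F10497 : act 5 n3000 = n2284 := d15_2 (iv F8093) D3000 (iv D2284)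
theorem F10498 : act 7 n3000 = n3000 := d17_2 F8094 D3000 (iv D3000)
def n3001 : Q := act 1 n2284
theorem D3001 : act 1 n2284 = n3001 := rfl
theorem F10499 : act 2 n3001 = n2293 := d7_2 D2284 D3001 (iv D2293) (iv D1743) (iv F6239)
theorem F10500 : act 4 n3001 = n3001 := d9_2 F8096 D3001 (iv D3001)
theorem F10501 : act 7 n3001 = n3001 := d12_2 F8097 D3001 (iv D3001)
def n3002 : Q := act 3 n2284
theorem D3002 : act 3 n2284 = n3002 := rfl
theorem F10502 : act 0 n3002 = n3002 := d2_1 D3002 (iv D3002) F8095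
theorem F10503 : act 2 n3002 = n2287 := d13_1 D3002 (iv D2287) (iv D1738) (iv F6240) D2284
theorem F10504 : act 7 n3002 = n3002 := d21_2 F8097 D3002 (iv D3002)
def n3003 : Q := act 1 n2285
theorem D3003 : act 1 n2285 = n3003 := rfl
theorem F10505 : act 2 n3003 = n2295 := d7_2 D2285 D3003 (iv D2295) (iv D1744) (iv F6244)
theorem F10506 : act 4 n3003 = n2365 := d9_2 (iv F8099) D3003 (iv D2365)
theorem F10507 : act 5 n3003 = n2286 := d10_2 (iv F8100) D3003 (iv D2286)
theorem F10508 : act 6 n3003 = n3003 := d11_2 F8101 D3003 (iv D3003)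
theorem F10509 : act 7 n3003 = n3003 := d12_2 F8102 D3003 (iv D3003)
def n3004 : Q := act 3 n2285
theorem D3004 : act 3 n2285 = n3004 := rfl
theorem F10510 : act 0 n3004 = n3004 := d2_1 D3004 (iv D3004) F8098
theorem F10511 : act 5 n3004 = n2287 := d19_2 (iv F8100) D3004 (iv D2287)
theorem F10512 : act 6 n3004 = n3004 := d20_2 F8101 D3004 (iv D3004)
theorem F10513 : act 7 n3004 = n3004 := d21_2 F8102 D3004 (iv D3004)
def n3005 : Q := act 0 n2286
theorem D3005 : act 0 n2286 = n3005 := rfl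
theorem F10514 : act 1 n3005 = n3005 := d0_2 D2286 D3005 (iv D3005) (iv D2286) F6248
theorem F10515 : act 2 n3005 = n2297 := d1_2 (iv F8103) D3005 (iv D2297)
theorem F10516 : act 4 n3005 = n2288 := d3_2 (iv F8104) D3005 (iv D2288)
theorem F10517 : act 6 n3005 = n3005 := d5_2 F8105 D3005 (iv D3005)
theorem F10518 : act 7 n3005 = n3005 := d6_2 F8106 D3005 (iv D3005)
def n3006 : Q := act 3 n2286
theorem D3006 : act 3 n2286 = n3006 := rfl
theorem F10519 : act 1 n3006 = n2287 := d8_1 D3006 (iv D2287) D2286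
theorem F10520 : act 6 n3006 = n3006 := d20_2 F8105 D3006 (iv D3006)
theorem F10521 : act 7 n3006 = n3006 := d21_2 F8106 D3006 (iv D3006)
def n3007 : Q := act 4 n2287
theorem D3007 : act 4 n2287 = n3007 := rfl
theorem F10522 : act 0 n3007 = n3007 := d3_1 D3007 (iv D3007) F8107
theorem F10523 : act 3 n3007 = n2290 := d18_1 D3007 (iv D2290) (iv D1740) (iv F6249) D2287
theorem F10524 : act 6 n3007 = n3007 := d23_2 F8108 D3007 (iv D3007)
theorem F10525 : act 7 n3007 = n3007 := d24_2 F8109 D3007 (iv D3007)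
def n3008 : Q := act 3 n2288
theorem D3008 : act 3 n2288 = n3008 := rfl
theorem F10526 : act 0 n3008 = n2289 := d2_1 D3008 (iv D2289) D2288
theorem F10528 : act 5 n3008 = n2370 := d19_2 (iv F8112) D3008 (iv D2370)
def n3009 : Q := act 2 n2289
theorem D3009 : act 2 n2289 = n3009 := rfl
theorem F10533 : act 5 n3009 = n2371 := d15_2 (iv F8116) D3009 (iv D2371)
def n3010 : Q := act 4 n2289
theorem D3010 : act 4 n2289 = n3010 := rfl
theorem F10535 : act 1 n3010 = n2290 := d9_1 D3010 (iv D2290) (iv F8115)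
def n3011 : Q := act 5 n2290
theorem D3011 : act 5 n2290 = n3011 := rfl
def n3012 : Q := act 2 n2291
theorem D3012 : act 2 n2291 = n3012 := rfl
theorem F10543 : act 0 n3012 = n2320 := d1_1 D3012 (iv D2320) (iv F8123)
theorem F10544 : act 4 n3012 = n2292 := d14_2 (iv F8125) D3012 (iv D2292)
def n3013 : Q := act 1 n2292
theorem D3013 : act 1 n2292 = n3013 := rfl
theorem F10547 : act 5 n3013 = n2293 := d10_2 (iv F8129) D3013 (iv D2293)
theorem F10548 : act 7 n3013 = n3013 := d12_2 F8130 D3013 (iv D3013)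
def n3014 : Q := act 3 n2292
theorem D3014 : act 3 n2292 = n3014 := rfl
theorem F10549 : act 0 n3014 = n2322 := d2_1 D3014 (iv D2322) (iv F8128)
theorem F10550 : act 2 n3014 = n2296 := d13_1 D3014 (iv D2296) (iv D1744) (iv F6266) D2292
theorem F10551 : act 5 n3014 = n2294 := d19_2 (iv F8129) D3014 (iv D2294)
theorem F10552 : act 7 n3014 = n3014 := d21_2 F8130 D3014 (iv D3014)
def n3015 : Q := act 0 n2293
theorem D3015 : act 0 n2293 = n3015 := rfl
theorem F10553 : act 1 n3015 = n2323 := d0_2 D2293 D3015 (iv D2323) (iv D1764) (iv F6269)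
theorem F10554 : act 4 n3015 = n3015 := d3_2 F8131 D3015 (iv D3015)
theorem F10555 : act 7 n3015 = n3015 := d6_2 F8132 D3015 (iv D3015)
def n3016 : Q := act 3 n2293
theorem D3016 : act 3 n2293 = n3016 := rfl
theorem F10556 : act 1 n3016 = n2294 := d8_1 D3016 (iv D2294) D2293
theorem F10557 : act 7 n3016 = n3016 := d21_2 F8132 D3016 (iv D3016)
def n3017 : Q := act 4 n2294
theorem D3017 : act 4 n2294 = n3017 := rfl
theorem F10558 : act 0 n3017 = n2325 := d3_1 D3017 (iv D2325) (iv F8133)
theorem F10559 : act 2 n3017 = n2299 := d14_1 D3017 (iv D2299) (iv F8134)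
theorem F10560 : act 3 n3017 = n3017 := d18_1 D3017 (iv D3017) (iv D2294) F6270 D2294
theorem F10561 : act 7 n3017 = n3017 := d24_2 F8135 D3017 (iv D3017)
def n3018 : Q := act 0 n2295
theorem D3018 : act 0 n2295 = n3018 := rfl
theorem F10563 : act 4 n3018 = n2380 := d3_2 (iv F8136) D3018 (iv D2380)
theorem F10564 : act 5 n3018 = n2297 := d4_2 (iv F8137) D3018 (iv D2297)
def n3019 : Q := act 3 n2295
theorem D3019 : act 3 n2295 = n3019 := rfl
theorem F10567 : act 1 n3019 = n2296 := d8_1 D3019 (iv D2296) D2295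
theorem F10568 : act 5 n3019 = n2298 := d19_2 (iv F8137) D3019 (iv D2298)
theorem F10569 : act 6 n3019 = n2305 := d20_2 (iv F8138) D3019 (iv D2305)
theorem F10570 : act 7 n3019 = n3019 := d21_2 F8139 D3019 (iv D3019)
def n3020 : Q := act 4 n2296
theorem D3020 : act 4 n2296 = n3020 := rfl
theorem F10571 : act 0 n3020 = n2328 := d3_1 D3020 (iv D2328) (iv F8140)
theorem F10572 : act 3 n3020 = n2382 := d18_1 D3020 (iv D2382) (iv D1808) (iv F6273) D2296
theorem F10573 : act 6 n3020 = n2306 := d23_2 (iv F8142) D3020 (iv D2306)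
theorem F10574 : act 7 n3020 = n3020 := d24_2 F8143 D3020 (iv D3020)
def n3021 : Q := act 3 n2297
theorem D3021 : act 3 n2297 = n3021 := rfl
theorem F10575 : act 0 n3021 = n2298 := d2_1 D3021 (iv D2298) D2297
theorem F10576 : act 1 n3021 = n2329 := d8_1 D3021 (iv D2329) (iv F8144)
theorem F10577 : act 6 n3021 = n2307 := d20_2 (iv F8146) D3021 (iv D2307)
def n3022 : Q := act 2 n2298
theorem D3022 : act 2 n2298 = n3022 := rfl
theorem F10579 : act 7 n3022 = n3022 := d17_2 F8150 D3022 (iv D3022)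
def n3023 : Q := act 4 n2298
theorem D3023 : act 4 n2298 = n3023 := rfl
theorem F10581 : act 3 n3023 = n2302 := d18_1 D3023 (iv D2302) (iv D1748) (iv F6277) D2298
def n3025 : Q := act 2 n2300
theorem D3025 : act 2 n2300 = n3025 := rfl
def n3026 : Q := act 4 n2300
theorem D3026 : act 4 n2300 = n3026 := rfl
def n3029 : Q := act 5 n2302
theorem D3029 : act 5 n2302 = n3029 := rfl
theorem F10602 : act 4 n3029 = n2391 := d22_1 D3029 (iv D2391) (iv D1814) (iv F6288) D2302
def n3030 : Q := act 3 n2304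
theorem D3030 : act 3 n2304 = n3030 := rfl
theorem F10605 : act 0 n3030 = n2305 := d2_1 D3030 (iv D2305) D2304
theorem F10606 : act 1 n3030 = n2337 := d8_1 D3030 (iv D2337) (iv F8171)
theorem F10607 : act 5 n3030 = n2307 := d19_2 (iv F8174) D3030 (iv D2307)
def n3031 : Q := act 2 n2305
theorem D3031 : act 2 n2305 = n3031 := rfl
def n3032 : Q := act 4 n2305
theorem D3032 : act 4 n2305 = n3032 := rfl
theorem F10612 : act 1 n3032 = n2306 := d9_1 D3032 (iv D2306) (iv F8176)
theorem F10613 : act 3 n3032 = n2394 := d18_1 D3032 (iv D2394) (iv D1817) (iv F6296) D2305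
def n3033 : Q := act 5 n2306
theorem D3033 : act 5 n2306 = n3033 := rfl
theorem F10615 : act 0 n3033 = n2340 := d4_1 D3033 (iv D2340) (iv F8179)
theorem F10616 : act 3 n3033 = n2395 := d19_1 D3033 (iv D2395) (iv F8180)
def n3034 : Q := act 2 n2307
theorem D3034 : act 2 n2307 = n3034 := rfl
theorem F10619 : act 0 n3034 = n2308 := d1_1 D3034 (iv D2308) (iv F8182)
theorem F10621 : act 7 n3034 = n2546 := d17_2 (iv F8184) D3034 (iv D2546)
def n3035 : Q := act 4 n2307
theorem D3035 : act 4 n2307 = n3035 := rfl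
theorem F10624 : act 3 n3035 = n2312 := d18_1 D3035 (iv D2312) (iv D1755) (iv F6304) D2307
def n3036 : Q := act 4 n2308
theorem D3036 : act 4 n2308 = n3036 := rfl
theorem F10626 : act 2 n3036 = n2309 := d14_1 D3036 (iv D2309) D2308
theorem F10627 : act 7 n3036 = n2548 := d24_2 (iv F8186) D3036 (iv D2548)
def n3038 : Q := act 5 n2309
theorem D3038 : act 5 n2309 = n3038 := rfl
theorem F10630 : act 3 n3038 = n2315 := d19_1 D3038 (iv D2315) (iv F8188)
theorem F10631 : act 7 n3038 = n2550 := d26_2 (iv F8189) D3038 (iv D2550)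
def n3039 : Q := act 4 n2311
theorem D3039 : act 4 n2311 = n3039 := rfl
theorem F10634 : act 2 n3039 = n2312 := d14_1 D3039 (iv D2312) D2311
theorem F10635 : act 7 n3039 = n2551 := d24_2 (iv F8197) D3039 (iv D2551)
def n3040 : Q := act 6 n2311
theorem D3040 : act 6 n2311 = n3040 := rfl
def n3041 : Q := act 5 n2312
theorem D3041 : act 5 n2312 = n3041 := rfl
theorem F10642 : act 4 n3041 = n2403 := d22_1 D3041 (iv D2403) (iv D1824) (iv F6313) D2312
def n3042 : Q := act 3 n2313
theorem D3042 : act 3 n2313 = n3042 := rfl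
theorem F10646 : act 7 n3042 = n2554 := d21_2 (iv F8203) D3042 (iv D2554)
def n3043 : Q := act 5 n2313
theorem D3043 : act 5 n2313 = n3043 := rfl
theorem F10649 : act 4 n3043 = n2405 := d22_1 D3043 (iv D2405) (iv D1825) (iv F6317) D2313
def n3050 : Q := act 1 n2320
theorem D3050 : act 1 n2320 = n3050 := rfl
theorem F10671 : act 2 n3050 = n3050 := d7_2 D2320 D3050 (iv D3050) (iv D2320) F6337
theorem F10672 : act 4 n3050 = n2321 := d9_2 (iv F8225) D3050 (iv D2321)
theorem F10673 : act 5 n3050 = n3050 := d10_2 F8226 D3050 (iv D3050)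
theorem F10674 : act 7 n3050 = n3050 := d12_2 F8227 D3050 (iv D3050)
def n3051 : Q := act 3 n2320
theorem D3051 : act 3 n2320 = n3051 := rfl
theorem F10675 : act 2 n3051 = n2413 := d13_1 D3051 (iv D2413) (iv D1832) (iv F6338) D2320
theorem F10676 : act 5 n3051 = n3051 := d19_2 F8226 D3051 (iv D3051)
theorem F10677 : act 7 n3051 = n3051 := d21_2 F8227 D3051 (iv D3051)
def n3052 : Q := act 0 n2321
theorem D3052 : act 0 n2321 = n3052 := rfl
theorem F10678 : act 2 n3052 = n3052 := d1_2 F8228 D3052 (iv D3052)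
theorem F10679 : act 5 n3052 = n2323 := d4_2 (iv F8229) D3052 (iv D2323)
theorem F10680 : act 7 n3052 = n3052 := d6_2 F8230 D3052 (iv D3052)
def n3053 : Q := act 3 n2321
theorem D3053 : act 3 n2321 = n3053 := rfl
theorem F10681 : act 1 n3053 = n2322 := d8_1 D3053 (iv D2322) D2321
theorem F10682 : act 5 n3053 = n2324 := d19_2 (iv F8229) D3053 (iv D2324)
theorem F10683 : act 7 n3053 = n3053 := d21_2 F8230 D3053 (iv D3053)
def n3054 : Q := act 4 n2322
theorem D3054 : act 4 n2322 = n3054 := rfl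
theorem F10684 : act 2 n3054 = n2328 := d14_1 D3054 (iv D2328) (iv F8231)
def n3055 : Q := act 3 n2323
theorem D3055 : act 3 n2323 = n3055 := rfl
theorem F10686 : act 0 n3055 = n2324 := d2_1 D3055 (iv D2324) D2323
theorem F10687 : act 7 n3055 = n3055 := d21_2 F8236 D3055 (iv D3055)
def n3056 : Q := act 2 n2324
theorem D3056 : act 2 n2324 = n3056 := rfl
theorem F10688 : act 1 n3056 = n2330 := d7_1 D3056 (iv D2330) F6361 (iv F6347) (iv F8237)
theorem F10689 : act 3 n3056 = n3056 := d13_2 D2324 D3056 (iv D3056) (iv D2324) F6344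
theorem F10690 : act 7 n3056 = n3056 := d17_2 F8238 D3056 (iv D3056)
def n3057 : Q := act 4 n2324
theorem D3057 : act 4 n2324 = n3057 := rfl
theorem F10691 : act 1 n3057 = n2325 := d9_1 D3057 (iv D2325) (iv F8237)
theorem F10692 : act 3 n3057 = n3057 := d18_1 D3057 (iv D3057) (iv D2324) F6345 D2324
theorem F10693 : act 7 n3057 = n3057 := d24_2 F8238 D3057 (iv D3057)
def n3058 : Q := act 5 n2325
theorem D3058 : act 5 n2325 = n3058 := rfl
theorem F10694 : act 2 n3058 = n2332 := d15_1 D3058 (iv D2332) (iv F8239)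
theorem F10695 : act 3 n3058 = n3058 := d19_1 D3058 (iv D3058) F8240
theorem F10696 : act 7 n3058 = n3058 := d26_2 F8241 D3058 (iv D3058)
def n3059 : Q := act 3 n2326
theorem D3059 : act 3 n2326 = n3059 := rfl
theorem F10697 : act 0 n3059 = n2327 := d2_1 D3059 (iv D2327) D2326
theorem F10698 : act 5 n3059 = n2329 := d19_2 (iv F8244) D3059 (iv D2329)
theorem F10699 : act 6 n3059 = n2337 := d20_2 (iv F8245) D3059 (iv D2337)
def n3060 : Q := act 2 n2327
theorem D3060 : act 2 n2327 = n3060 := rfl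
theorem F10702 : act 5 n3060 = n2330 := d15_2 (iv F8248) D3060 (iv D2330)
def n3061 : Q := act 4 n2327
theorem D3061 : act 4 n2327 = n3061 := rfl
theorem F10705 : act 3 n3061 = n2423 := d18_1 D3061 (iv D2423) (iv D1839) (iv F6350) D2327
def n3062 : Q := act 5 n2328
theorem D3062 : act 5 n2328 = n3062 := rfl
theorem F10709 : act 4 n3062 = n2332 := d22_1 D3062 (iv D2332) (iv D1770) (iv F6354) D2328
theorem F10710 : act 6 n3062 = n2340 := d25_2 (iv F8252) D3062 (iv D2340)
def n3063 : Q := act 2 n2329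
theorem D3063 : act 2 n2329 = n3063 := rfl
theorem F10712 : act 0 n3063 = n2330 := d1_1 D3063 (iv D2330) (iv F8254)
def n3064 : Q := act 4 n2329
theorem D3064 : act 4 n2329 = n3064 := rfl
theorem F10716 : act 3 n3064 = n2334 := d18_1 D3064 (iv D2334) (iv D1771) (iv F6358) D2329
theorem F10717 : act 6 n3064 = n2342 := d23_2 (iv F8255) D3064 (iv D2342)
def n3065 : Q := act 4 n2330
theorem D3065 : act 4 n2330 = n3065 := rfl
theorem F10719 : act 2 n3065 = n2331 := d14_1 D3065 (iv D2331) D2330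
theorem F10720 : act 7 n3065 = n3065 := d24_2 F8258 D3065 (iv D3065)
def n3066 : Q := act 6 n2330
theorem D3066 : act 6 n2330 = n3066 := rfl
theorem F10721 : act 2 n3066 = n2344 := d16_1 D3066 (iv D2344) (iv D1779) (iv F6362) D2330
theorem F10722 : act 3 n3066 = n3066 := d20_1 D3066 (iv D3066) F8257
def n3067 : Q := act 5 n2331
theorem D3067 : act 5 n2331 = n3067 := rfl
theorem F10724 : act 3 n3067 = n2336 := d19_1 D3067 (iv D2336) (iv F8260)
def n3068 : Q := act 1 n2333
theorem D3068 : act 1 n2333 = n3068 := rfl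
theorem F10729 : act 5 n3068 = n2430 := d10_2 (iv F8268) D3068 (iv D2430)
def n3069 : Q := act 4 n2333
theorem D3069 : act 4 n2333 = n3069 := rfl
theorem F10732 : act 0 n3069 = n2335 := d3_1 D3069 (iv D2335) (iv F8266)
theorem F10733 : act 2 n3069 = n2334 := d14_1 D3069 (iv D2334) D2333
def n3070 : Q := act 5 n2334
theorem D3070 : act 5 n2334 = n3070 := rfl
theorem F10736 : act 0 n3070 = n2336 := d4_1 D3070 (iv D2336) (iv F8271)
theorem F10737 : act 4 n3070 = n2432 := d22_1 D3070 (iv D2432) (iv D1846) (iv F6368) D2334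
def n3071 : Q := act 3 n2335
theorem D3071 : act 3 n2335 = n3071 := rfl
theorem F10740 : act 1 n3071 = n3071 := d8_1 D3071 (iv D3071) F8274
theorem F10741 : act 4 n3071 = n3071 := d18_2 D2335 D3071 (iv D3071) (iv D2335) F6372
theorem F10742 : act 6 n3071 = n3071 := d20_2 F8276 D3071 (iv D3071)
theorem F10743 : act 7 n3071 = n3071 := d21_2 F8277 D3071 (iv D3071)
def n3072 : Q := act 5 n2335
theorem D3072 : act 5 n2335 = n3072 := rfl
theorem F10746 : act 4 n3072 = n2434 := d22_1 D3072 (iv D2434) (iv D1847) (iv F6373) D2335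
def n3073 : Q := act 2 n2337
theorem D3073 : act 2 n2337 = n3073 := rfl
theorem F10749 : act 0 n3073 = n2338 := d1_1 D3073 (iv D2338) (iv F8282)
theorem F10750 : act 3 n3073 = n2347 := d13_2 D2337 D3073 (iv D2347) (iv D1784) (iv F6383)
theorem F10751 : act 5 n3073 = n2341 := d15_2 (iv F8283) D3073 (iv D2341)
theorem F10752 : act 7 n3073 = n2562 := d17_2 (iv F8284) D3073 (iv D2562)
def n3074 : Q := act 4 n2337
theorem D3074 : act 4 n2337 = n3074 := rfl
theorem F10754 : act 3 n3074 = n2436 := d18_1 D3074 (iv D2436) (iv D1849) (iv F6384) D2337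
theorem F10755 : act 7 n3074 = n2563 := d24_2 (iv F8284) D3074 (iv D2563)
def n3075 : Q := act 4 n2338
theorem D3075 : act 4 n2338 = n3075 := rfl
theorem F10756 : act 2 n3075 = n2339 := d14_1 D3075 (iv D2339) D2338
theorem F10757 : act 7 n3075 = n2564 := d24_2 (iv F8287) D3075 (iv D2564)
def n3076 : Q := act 6 n2338
theorem D3076 : act 6 n2338 = n3076 := rfl
def n3077 : Q := act 5 n2339
theorem D3077 : act 5 n2339 = n3077 := rfl
theorem F10761 : act 3 n3077 = n2439 := d19_1 D3077 (iv D2439) (iv F8289)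
theorem F10762 : act 4 n3077 = n2345 := d22_1 D3077 (iv D2345) (iv D1780) (iv F6388) D2339
theorem F10763 : act 7 n3077 = n2566 := d26_2 (iv F8290) D3077 (iv D2566)
def n3078 : Q := act 1 n2341
theorem D3078 : act 1 n2341 = n3078 := rfl
theorem F10765 : act 7 n3078 = n2567 := d12_2 (iv F8296) D3078 (iv D2567)
def n3079 : Q := act 4 n2341
theorem D3079 : act 4 n2341 = n3079 := rfl
theorem F10767 : act 2 n3079 = n2342 := d14_1 D3079 (iv D2342) D2341
def n3080 : Q := act 6 n2341
theorem D3080 : act 6 n2341 = n3080 := rfl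
def n3081 : Q := act 5 n2342
theorem D3081 : act 5 n2342 = n3081 := rfl
theorem F10773 : act 3 n3081 = n2346 := d19_1 D3081 (iv D2346) (iv F8298)
def n3082 : Q := act 5 n2343
theorem D3082 : act 5 n2343 = n3082 := rfl
theorem F10775 : act 2 n3082 = n2345 := d15_1 D3082 (iv D2345) (iv F8300)
theorem F10777 : act 7 n3082 = n2571 := d26_2 (iv F8302) D3082 (iv D2571)
def n3083 : Q := act 6 n2343
theorem D3083 : act 6 n2343 = n3083 := rfl
theorem F10778 : act 3 n3083 = n3083 := d20_1 D3083 (iv D3083) F8301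
theorem F10779 : act 4 n3083 = n2344 := d23_1 D3083 (iv D2344) D2343
def n3084 : Q := act 7 n2344
theorem D3084 : act 7 n2344 = n3084 := rfl
theorem F10780 : act 3 n3084 = n2353 := d21_1 D3084 (iv D2353) (iv F8303)
theorem F10781 : act 6 n3084 = n2573 := d27_1 D3084 (iv D2573) (iv D1953) (iv F6395) D2344
def n3085 : Q := act 1 n2347
theorem D3085 : act 1 n2347 = n3085 := rfl
def n3086 : Q := act 4 n2347
theorem D3086 : act 4 n2347 = n3086 := rfl
theorem F10785 : act 0 n3086 = n2349 := d3_1 D3086 (iv D2349) (iv F8311)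
theorem F10786 : act 2 n3086 = n2348 := d14_1 D3086 (iv D2348) D2347
def n3088 : Q := act 3 n2349
theorem D3088 : act 3 n2349 = n3088 := rfl
theorem F10792 : act 2 n3088 = n2450 := d13_1 D3088 (iv D2450) F6677 (iv F6416) (iv F8320)
theorem F10794 : act 7 n3088 = n2577 := d21_2 (iv F8322) D3088 (iv D2577)
def n3089 : Q := act 6 n2349
theorem D3089 : act 6 n2349 = n3089 := rfl
def n3090 : Q := act 7 n2350
theorem D3090 : act 7 n2350 = n3090 := rfl
theorem F10799 : act 5 n3090 = n2353 := d26_1 D3090 (iv D2353) (iv F8324)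
def n3092 : Q := act 7 n2352
theorem D3092 : act 7 n2352 = n3092 := rfl
theorem F10803 : act 0 n3092 = n2353 := d6_1 D3092 (iv D2353) (iv F8328)
def n3098 : Q := act 2 n2358
theorem D3098 : act 2 n2358 = n3098 := rfl
theorem F10833 : act 6 n3098 = n2362 := d16_2 D2358 D3098 (iv D2362) (iv D1795) (iv F6436)
def n3102 : Q := act 2 n2361
theorem D3102 : act 2 n2361 = n3102 := rfl
theorem F10845 : act 4 n3102 = n2362 := d14_2 (iv F8367) D3102 (iv D2362)
def n3103 : Q := act 1 n2362
theorem D3103 : act 1 n2362 = n3103 := rfl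
theorem F10848 : act 2 n3103 = n2375 := d7_2 D2362 D3103 (iv D2375) (iv D1804) (iv F6453)
def n3105 : Q := act 0 n2363
theorem D3105 : act 0 n2363 = n3105 := rfl
theorem F10856 : act 2 n3105 = n2377 := d1_2 (iv F8373) D3105 (iv D2377)
def n3106 : Q := act 3 n2363
theorem D3106 : act 3 n2363 = n3106 := rfl
theorem F10859 : act 1 n3106 = n2364 := d8_1 D3106 (iv D2364) D2363
def n3108 : Q := act 0 n2365
theorem D3108 : act 0 n2365 = n3108 := rfl
theorem F10866 : act 2 n3108 = n2380 := d1_2 (iv F8379) D3108 (iv D2380)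
theorem F10867 : act 5 n3108 = n2367 := d4_2 (iv F8380) D3108 (iv D2367)
def n3109 : Q := act 3 n2365
theorem D3109 : act 3 n2365 = n3109 := rfl
theorem F10870 : act 1 n3109 = n2366 := d8_1 D3109 (iv D2366) D2365
theorem F10871 : act 5 n3109 = n2368 := d19_2 (iv F8380) D3109 (iv D2368)
def n3110 : Q := act 4 n2366
theorem D3110 : act 4 n2366 = n3110 := rfl
def n3111 : Q := act 3 n2367
theorem D3111 : act 3 n2367 = n3111 := rfl
theorem F10877 : act 0 n3111 = n2368 := d2_1 D3111 (iv D2368) D2367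
def n3112 : Q := act 2 n2368
theorem D3112 : act 2 n2368 = n3112 := rfl
theorem F10881 : act 3 n3112 = n2384 := d13_2 D2368 D3112 (iv D2384) (iv D1810) (iv F6464)
def n3113 : Q := act 4 n2368
theorem D3113 : act 4 n2368 = n3113 := rfl
theorem F10884 : act 3 n3113 = n2372 := d18_1 D3113 (iv D2372) (iv D1801) (iv F6465) D2368
def n3115 : Q := act 2 n2370
theorem D3115 : act 2 n2370 = n3115 := rfl
theorem F10891 : act 0 n3115 = n2371 := d1_1 D3115 (iv D2371) (iv F8399)
theorem F10892 : act 3 n3115 = n2387 := d13_2 D2370 D3115 (iv D2387) (iv D1812) (iv F6472)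
def n3116 : Q := act 4 n2370
theorem D3116 : act 4 n2370 = n3116 := rfl
def n3117 : Q := act 4 n2371
theorem D3117 : act 4 n2371 = n3117 := rfl
theorem F10899 : act 2 n3117 = n2372 := d14_1 D3117 (iv D2372) D2371
def n3118 : Q := act 6 n2371
theorem D3118 : act 6 n2371 = n3118 := rfl
def n3120 : Q := act 1 n2374
theorem D3120 : act 1 n2374 = n3120 := rfl
theorem F10907 : act 4 n3120 = n2375 := d9_2 (iv F8414) D3120 (iv D2375)
def n3121 : Q := act 3 n2374
theorem D3121 : act 3 n2374 = n3121 := rfl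
theorem F10911 : act 0 n3121 = n2413 := d2_1 D3121 (iv D2413) (iv F8413)
theorem F10912 : act 5 n3121 = n3121 := d19_2 F8415 D3121 (iv D3121)
theorem F10913 : act 6 n3121 = n3121 := d20_2 F8416 D3121 (iv D3121)
theorem F10914 : act 7 n3121 = n3121 := d21_2 F8417 D3121 (iv D3121)
def n3122 : Q := act 0 n2375
theorem D3122 : act 0 n2375 = n3122 := rfl
theorem F10915 : act 1 n3122 = n2414 := d0_2 D2375 D3122 (iv D2414) (iv D1833) (iv F6486)
def n3123 : Q := act 3 n2375
theorem D3123 : act 3 n2375 = n3123 := rfl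
def n3124 : Q := act 4 n2376
theorem D3124 : act 4 n2376 = n3124 := rfl
theorem F10923 : act 0 n3124 = n2416 := d3_1 D3124 (iv D2416) (iv F8421)
def n3125 : Q := act 3 n2377
theorem D3125 : act 3 n2377 = n3125 := rfl
theorem F10927 : act 0 n3125 = n2378 := d2_1 D3125 (iv D2378) D2377
theorem F10928 : act 1 n3125 = n2417 := d8_1 D3125 (iv D2417) (iv F8426)
def n3126 : Q := act 2 n2378
theorem D3126 : act 2 n2378 = n3126 := rfl
theorem F10931 : act 1 n3126 = n2384 := d7_1 D3126 (iv D2384) F6508 (iv F6494) (iv F8430)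
def n3129 : Q := act 3 n2380
theorem D3129 : act 3 n2380 = n3129 := rfl
theorem F10942 : act 0 n3129 = n2381 := d2_1 D3129 (iv D2381) D2380
theorem F10943 : act 1 n3129 = n2421 := d8_1 D3129 (iv D2421) (iv F8438)
def n3130 : Q := act 2 n2381
theorem D3130 : act 2 n2381 = n3130 := rfl
theorem F10947 : act 5 n3130 = n2384 := d15_2 (iv F8443) D3130 (iv D2384)
def n3131 : Q := act 4 n2381
theorem D3131 : act 4 n2381 = n3131 := rfl
theorem F10950 : act 6 n3131 = n2394 := d23_2 (iv F8444) D3131 (iv D2394)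
def n3133 : Q := act 2 n2383
theorem D3133 : act 2 n2383 = n3133 := rfl
theorem F10956 : act 0 n3133 = n2384 := d1_1 D3133 (iv D2384) (iv F8449)
def n3134 : Q := act 4 n2383
theorem D3134 : act 4 n2383 = n3134 := rfl
theorem F10960 : act 3 n3134 = n2388 := d18_1 D3134 (iv D2388) (iv D1812) (iv F6505) D2383
def n3135 : Q := act 4 n2384
theorem D3135 : act 4 n2384 = n3135 := rfl
theorem F10963 : act 2 n3135 = n2385 := d14_1 D3135 (iv D2385) D2384
def n3136 : Q := act 6 n2384
theorem D3136 : act 6 n2384 = n3136 := rfl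
def n3137 : Q := act 5 n2385
theorem D3137 : act 5 n2385 = n3137 := rfl
theorem F10968 : act 6 n3137 = n2400 := d25_2 (iv F8456) D3137 (iv D2400)
def n3138 : Q := act 1 n2387
theorem D3138 : act 1 n2387 = n3138 := rfl
theorem F10971 : act 2 n3138 = n2430 := d7_2 D2387 D3138 (iv D2430) (iv D1845) (iv F6516)
def n3139 : Q := act 4 n2387
theorem D3139 : act 4 n2387 = n3139 := rfl
theorem F10973 : act 0 n3139 = n2389 := d3_1 D3139 (iv D2389) (iv F8462)
theorem F10974 : act 2 n3139 = n2388 := d14_1 D3139 (iv D2388) D2387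
def n3142 : Q := act 3 n2389
theorem D3142 : act 3 n2389 = n3142 := rfl
def n3143 : Q := act 5 n2389
theorem D3143 : act 5 n2389 = n3143 := rfl
theorem F10985 : act 2 n3143 = n2391 := d15_1 D3143 (iv D2391) (iv F8469)
def n3144 : Q := act 6 n2389
theorem D3144 : act 6 n2389 = n3144 := rfl
theorem F10988 : act 2 n3144 = n2406 := d16_1 D3144 (iv D2406) F6559 (iv F6522) (iv F8469)
theorem F10989 : act 4 n3144 = n2390 := d23_1 D3144 (iv D2390) D2389
def n3146 : Q := act 2 n2392
theorem D3146 : act 2 n2392 = n3146 := rfl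
theorem F10995 : act 5 n3146 = n2396 := d15_2 (iv F8478) D3146 (iv D2396)
theorem F10996 : act 7 n3146 = n2582 := d17_2 (iv F8479) D3146 (iv D2582)
def n3147 : Q := act 4 n2392
theorem D3147 : act 4 n2392 = n3147 := rfl
theorem F10998 : act 1 n3147 = n2436 := d9_1 D3147 (iv D2436) (iv F8477)
def n3148 : Q := act 4 n2393
theorem D3148 : act 4 n2393 = n3148 := rfl
theorem F11001 : act 2 n3148 = n2394 := d14_1 D3148 (iv D2394) D2393
def n3150 : Q := act 5 n2394
theorem D3150 : act 5 n2394 = n3150 := rfl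
theorem F11007 : act 4 n3150 = n2400 := d22_1 D3150 (iv D2400) (iv D1821) (iv F6533) D2394
def n3151 : Q := act 1 n2396
theorem D3151 : act 1 n2396 = n3151 := rfl
theorem F11010 : act 2 n3151 = n2440 := d7_2 D2396 D3151 (iv D2440) (iv D1853) (iv F6539)
theorem F11012 : act 7 n3151 = n2587 := d12_2 (iv F8492) D3151 (iv D2587)
def n3152 : Q := act 4 n2396
theorem D3152 : act 4 n2396 = n3152 := rfl
theorem F11013 : act 0 n3152 = n2398 := d3_1 D3152 (iv D2398) (iv F8490)
theorem F11014 : act 2 n3152 = n2397 := d14_1 D3152 (iv D2397) D2396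
theorem F11015 : act 7 n3152 = n2588 := d24_2 (iv F8492) D3152 (iv D2588)
def n3154 : Q := act 5 n2397
theorem D3154 : act 5 n2397 = n3154 := rfl
theorem F11018 : act 0 n3154 = n2400 := d4_1 D3154 (iv D2400) (iv F8493)
theorem F11019 : act 1 n3154 = n2443 := d10_1 D3154 (iv D2443) (iv F8494)
theorem F11020 : act 3 n3154 = n2403 := d19_1 D3154 (iv D2403) (iv F8495)
def n3155 : Q := act 3 n2398
theorem D3155 : act 3 n2398 = n3155 := rfl
theorem F11023 : act 2 n3155 = n2404 := d13_1 D3155 (iv D2404) F6559 (iv F6545) (iv F8498)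
theorem F11025 : act 7 n3155 = n2591 := d21_2 (iv F8499) D3155 (iv D2591)
def n3156 : Q := act 5 n2398
theorem D3156 : act 5 n2398 = n3156 := rfl
theorem F11027 : act 2 n3156 = n2400 := d15_1 D3156 (iv D2400) (iv F8498)
def n3159 : Q := act 3 n2401
theorem D3159 : act 3 n2401 = n3159 := rfl
theorem F11037 : act 7 n3159 = n2595 := d21_2 (iv F8508) D3159 (iv D2595)
def n3160 : Q := act 5 n2401
theorem D3160 : act 5 n2401 = n3160 := rfl
theorem F11040 : act 2 n3160 = n2403 := d15_1 D3160 (iv D2403) (iv F8507)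
def n3161 : Q := act 6 n2401
theorem D3161 : act 6 n2401 = n3161 := rfl
def n3163 : Q := act 5 n2404
theorem D3163 : act 5 n2404 = n3163 := rfl
theorem F11049 : act 1 n3163 = n2408 := d10_1 D3163 (iv D2408) (iv F8515)
theorem F11050 : act 3 n3163 = n2405 := d19_1 D3163 (iv D2405) D2404
theorem F11051 : act 7 n3163 = n2599 := d26_2 (iv F8517) D3163 (iv D2599)
def n3164 : Q := act 6 n2404
theorem D3164 : act 6 n2404 = n3164 := rfl
theorem F11052 : act 1 n3164 = n2409 := d11_1 D3164 (iv D2409) (iv F8515)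
theorem F11053 : act 3 n3164 = n2406 := d20_1 D3164 (iv D2406) D2404
def n3165 : Q := act 6 n2405
theorem D3165 : act 6 n2405 = n3165 := rfl
theorem F11055 : act 1 n3165 = n2410 := d11_1 D3165 (iv D2410) (iv F8518)
def n3167 : Q := act 4 n2408
theorem D3167 : act 4 n2408 = n3167 := rfl
theorem F11063 : act 7 n3167 = n2603 := d24_2 (iv F8529) D3167 (iv D2603)
def n3168 : Q := act 6 n2408
theorem D3168 : act 6 n2408 = n3168 := rfl
theorem F11066 : act 5 n3168 = n2409 := d25_1 D3168 (iv D2409) D2408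
def n3169 : Q := act 2 n2409
theorem D3169 : act 2 n2409 = n3169 := rfl
def n3170 : Q := act 7 n2409
theorem D3170 : act 7 n2409 = n3170 := rfl
theorem F11074 : act 6 n3170 = n2606 := d27_1 D3170 (iv D2606) (iv D1980) (iv F6568) D2409
def n3171 : Q := act 7 n2410
theorem D3171 : act 7 n2410 = n3171 := rfl
theorem F11078 : act 6 n3171 = n2607 := d27_1 D3171 (iv D2607) (iv D1981) (iv F6571) D2410
def n3173 : Q := act 3 n2412
theorem D3173 : act 3 n2412 = n3173 := rfl
theorem F11084 : act 1 n3173 = n2413 := d8_1 D3173 (iv D2413) D2412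
def n3174 : Q := act 4 n2413
theorem D3174 : act 4 n2413 = n3174 := rfl
theorem F11088 : act 3 n3174 = n2416 := d18_1 D3174 (iv D2416) (iv D1834) (iv F6579) D2413
def n3175 : Q := act 3 n2414
theorem D3175 : act 3 n2414 = n3175 := rfl
theorem F11092 : act 5 n3175 = n2417 := d19_2 (iv F8549) D3175 (iv D2417)
def n3176 : Q := act 2 n2415
theorem D3176 : act 2 n2415 = n3176 := rfl
theorem F11095 : act 1 n3176 = n2422 := d7_1 D3176 (iv D2422) F6606 (iv F6587) (iv F8552)
theorem F11097 : act 5 n3176 = n2418 := d15_2 (iv F8553) D3176 (iv D2418)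
theorem F11098 : act 7 n3176 = n3176 := d17_2 F8555 D3176 (iv D3176)
def n3177 : Q := act 4 n2415
theorem D3177 : act 4 n2415 = n3177 := rfl
theorem F11099 : act 1 n3177 = n2416 := d9_1 D3177 (iv D2416) (iv F8552)
def n3178 : Q := act 5 n2416
theorem D3178 : act 5 n2416 = n3178 := rfl
def n3179 : Q := act 2 n2417
theorem D3179 : act 2 n2417 = n3179 := rfl
theorem F11106 : act 0 n3179 = n2418 := d1_1 D3179 (iv D2418) (iv F8559)
theorem F11107 : act 3 n3179 = n3179 := d13_2 D2417 D3179 (iv D3179) (iv D2417) F6591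
def n3181 : Q := act 4 n2418
theorem D3181 : act 4 n2418 = n3181 := rfl
theorem F11113 : act 1 n3181 = n2427 := d9_1 D3181 (iv D2427) (iv F8562)
theorem F11114 : act 2 n3181 = n2419 := d14_1 D3181 (iv D2419) D2418
theorem F11115 : act 7 n3181 = n3181 := d24_2 F8564 D3181 (iv D3181)
def n3182 : Q := act 6 n2418
theorem D3182 : act 6 n2418 = n3182 := rfl
theorem F11116 : act 1 n3182 = n2428 := d11_1 D3182 (iv D2428) (iv F8562)
theorem F11117 : act 2 n3182 = n3182 := d16_1 D3182 (iv D3182) (iv D2418) F6596 D2418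
def n3183 : Q := act 5 n2419
theorem D3183 : act 5 n2419 = n3183 := rfl
def n3184 : Q := act 2 n2421
theorem D3184 : act 2 n2421 = n3184 := rfl
theorem F11123 : act 0 n3184 = n2422 := d1_1 D3184 (iv D2422) (iv F8573)
theorem F11125 : act 5 n3184 = n2425 := d15_2 (iv F8574) D3184 (iv D2425)
def n3185 : Q := act 4 n2421
theorem D3185 : act 4 n2421 = n3185 := rfl
def n3187 : Q := act 6 n2422
theorem D3187 : act 6 n2422 = n3187 := rfl
def n3188 : Q := act 5 n2423
theorem D3188 : act 5 n2423 = n3188 := rfl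
theorem F11136 : act 4 n3188 = n2429 := d22_1 D3188 (iv D2429) (iv D1843) (iv F6607) D2423
def n3189 : Q := act 1 n2425
theorem D3189 : act 1 n2425 = n3189 := rfl
def n3190 : Q := act 4 n2425
theorem D3190 : act 4 n2425 = n3190 := rfl
theorem F11141 : act 0 n3190 = n2427 := d3_1 D3190 (iv D2427) (iv F8586)
theorem F11142 : act 2 n3190 = n2426 := d14_1 D3190 (iv D2426) D2425
def n3191 : Q := act 6 n2425
theorem D3191 : act 6 n2425 = n3191 := rfl
theorem F11144 : act 0 n3191 = n2428 := d5_1 D3191 (iv D2428) (iv F8586)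
theorem F11145 : act 2 n3191 = n2442 := d16_1 D3191 (iv D2442) (iv D1853) (iv F6613) D2425
theorem F11146 : act 3 n3191 = n3191 := d20_1 D3191 (iv D3191) F8587
def n3192 : Q := act 5 n2426
theorem D3192 : act 5 n2426 = n3192 := rfl
def n3193 : Q := act 3 n2427
theorem D3193 : act 3 n2427 = n3193 := rfl
theorem F11151 : act 2 n3193 = n2433 := d13_1 D3193 (iv D2433) F6632 (iv F6618) (iv F8593)
theorem F11152 : act 4 n3193 = n3193 := d18_2 D2427 D3193 (iv D3193) (iv D2427) F6615
def n3194 : Q := act 5 n2427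
theorem D3194 : act 5 n2427 = n3194 := rfl
theorem F11154 : act 2 n3194 = n2429 := d15_1 D3194 (iv D2429) (iv F8593)
def n3195 : Q := act 6 n2427
theorem D3195 : act 6 n2427 = n3195 := rfl
theorem F11156 : act 2 n3195 = n2445 := d16_1 D3195 (iv D2445) F6657 (iv F6619) (iv F8593)
theorem F11157 : act 4 n3195 = n2428 := d23_1 D3195 (iv D2428) D2427
def n3196 : Q := act 7 n2428
theorem D3196 : act 7 n2428 = n3196 := rfl
theorem F11158 : act 2 n3196 = n2446 := d17_1 D3196 (iv D2446) (iv F8595)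
theorem F11160 : act 6 n3196 = n3196 := d27_1 D3196 (iv D3196) (iv D2428) F6616 D2428
def n3197 : Q := act 4 n2430
theorem D3197 : act 4 n2430 = n3197 := rfl
theorem F11162 : act 1 n3197 = n2431 := d9_1 D3197 (iv D2431) D2430
theorem F11164 : act 7 n3197 = n3197 := d24_2 F8604 D3197 (iv D3197)
def n3198 : Q := act 3 n2431
theorem D3198 : act 3 n2431 = n3198 := rfl
theorem F11167 : act 6 n3198 = n3198 := d20_2 F8607 D3198 (iv D3198)
def n3199 : Q := act 5 n2431
theorem D3199 : act 5 n2431 = n3199 := rfl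
theorem F11169 : act 0 n3199 = n2434 := d4_1 D3199 (iv D2434) (iv F8605)
def n3201 : Q := act 1 n2435
theorem D3201 : act 1 n2435 = n3201 := rfl
theorem F11178 : act 3 n3201 = n2447 := d8_2 (iv F8621) D3201 (iv D2447)
theorem F11179 : act 5 n3201 = n2440 := d10_2 (iv F8622) D3201 (iv D2440)
theorem F11180 : act 7 n3201 = n2608 := d12_2 (iv F8623) D3201 (iv D2608)
def n3202 : Q := act 4 n2435
theorem D3202 : act 4 n2435 = n3202 := rfl
theorem F11182 : act 2 n3202 = n2436 := d14_1 D3202 (iv D2436) D2435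
theorem F11183 : act 7 n3202 = n2609 := d24_2 (iv F8623) D3202 (iv D2609)
def n3203 : Q := act 6 n2435
theorem D3203 : act 6 n2435 = n3203 := rfl
theorem F11186 : act 5 n3203 = n2442 := d25_1 D3203 (iv D2442) (iv F8622)
def n3204 : Q := act 5 n2436
theorem D3204 : act 5 n2436 = n3204 := rfl
theorem F11188 : act 4 n3204 = n2443 := d22_1 D3204 (iv D2443) (iv D1854) (iv F6639) D2436
theorem F11189 : act 7 n3204 = n2611 := d26_2 (iv F8625) D3204 (iv D2611)
def n3205 : Q := act 3 n2437
theorem D3205 : act 3 n2437 = n3205 := rfl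
theorem F11192 : act 7 n3205 = n2612 := d21_2 (iv F8628) D3205 (iv D2612)
def n3206 : Q := act 5 n2437
theorem D3206 : act 5 n2437 = n3206 := rfl
theorem F11194 : act 2 n3206 = n2439 := d15_1 D3206 (iv D2439) (iv F8627)
theorem F11195 : act 4 n3206 = n2444 := d22_1 D3206 (iv D2444) (iv D1855) (iv F6643) D2437
def n3208 : Q := act 7 n2438
theorem D3208 : act 7 n2438 = n3208 := rfl
theorem F11201 : act 5 n3208 = n2446 := d26_1 D3208 (iv D2446) (iv F8631)
def n3209 : Q := act 4 n2440
theorem D3209 : act 4 n2440 = n3209 := rfl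
theorem F11204 : act 1 n3209 = n2441 := d9_1 D3209 (iv D2441) D2440
theorem F11206 : act 7 n3209 = n2616 := d24_2 (iv F8637) D3209 (iv D2616)
def n3210 : Q := act 6 n2440
theorem D3210 : act 6 n2440 = n3210 := rfl
theorem F11207 : act 0 n3210 = n3210 := d5_1 D3210 (iv D3210) F8635
theorem F11208 : act 1 n3210 = n2442 := d11_1 D3210 (iv D2442) D2440
theorem F11209 : act 3 n3210 = n2453 := d20_1 D3210 (iv D2453) (iv F8636)
def n3211 : Q := act 5 n2441
theorem D3211 : act 5 n2441 = n3211 := rfl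
theorem F11211 : act 2 n3211 = n2443 := d15_1 D3211 (iv D2443) (iv F8639)
theorem F11213 : act 7 n3211 = n2618 := d26_2 (iv F8641) D3211 (iv D2618)
def n3212 : Q := act 6 n2441
theorem D3212 : act 6 n2441 = n3212 := rfl
theorem F11214 : act 0 n3212 = n2445 := d5_1 D3212 (iv D2445) (iv F8638)
theorem F11216 : act 4 n3212 = n2442 := d23_1 D3212 (iv D2442) D2441
def n3213 : Q := act 7 n2442
theorem D3213 : act 7 n2442 = n3213 := rfl
theorem F11217 : act 0 n3213 = n2446 := d6_1 D3213 (iv D2446) (iv F8642)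
theorem F11218 : act 3 n3213 = n2454 := d21_1 D3213 (iv D2454) (iv F8643)
def n3214 : Q := act 6 n2444
theorem D3214 : act 6 n2444 = n3214 := rfl
theorem F11222 : act 5 n3214 = n2445 := d25_1 D3214 (iv D2445) D2444
def n3215 : Q := act 7 n2445
theorem D3215 : act 7 n2445 = n3215 := rfl
theorem F11223 : act 1 n3215 = n3215 := d12_1 D3215 (iv D3215) F8651
theorem F11225 : act 4 n3215 = n2446 := d24_1 D3215 (iv D2446) (iv F8653)
def n3216 : Q := act 4 n2447
theorem D3216 : act 4 n2447 = n3216 := rfl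
theorem F11231 : act 7 n3216 = n2623 := d24_2 (iv F8660) D3216 (iv D2623)
def n3217 : Q := act 6 n2447
theorem D3217 : act 6 n2447 = n3217 := rfl
theorem F11234 : act 5 n3217 = n2453 := d25_1 D3217 (iv D2453) (iv F8659)
def n3218 : Q := act 3 n2448
theorem D3218 : act 3 n2448 = n3218 := rfl
theorem F11237 : act 7 n3218 = n2625 := d21_2 (iv F8664) D3218 (iv D2625)
def n3219 : Q := act 6 n2448
theorem D3219 : act 6 n2448 = n3219 := rfl
theorem F11240 : act 4 n3219 = n2449 := d23_1 D3219 (iv D2449) D2448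
def n3220 : Q := act 7 n2449
theorem D3220 : act 7 n2449 = n3220 := rfl
theorem F11244 : act 5 n3220 = n2454 := d26_1 D3220 (iv D2454) (iv F8667)
theorem F11245 : act 6 n3220 = n2627 := d27_1 D3220 (iv D2627) (iv D1997) (iv F6670) D2449
def n3221 : Q := act 6 n2450
theorem D3221 : act 6 n2450 = n3221 := rfl
theorem F11247 : act 3 n3221 = n2451 := d20_1 D3221 (iv D2451) D2450
def n3222 : Q := act 7 n2451
theorem D3222 : act 7 n2451 = n3222 := rfl
theorem F11251 : act 4 n3222 = n2452 := d24_1 D3222 (iv D2452) (iv F8673)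
theorem F11253 : act 6 n3222 = n2629 := d27_1 D3222 (iv D2629) (iv D1999) (iv F6679) D2451
def n3223 : Q := act 2 n2453
theorem D3223 : act 2 n2453 = n3223 := rfl
theorem F11254 : act 0 n3223 = n3223 := d1_1 D3223 (iv D3223) F8679
theorem F11255 : act 1 n3223 = n3223 := d7_1 D3223 (iv D3223) F8680 F6688 (iv F8680)
def n3224 : Q := act 7 n2453
theorem D3224 : act 7 n2453 = n3224 := rfl
theorem F11259 : act 1 n3224 = n2454 := d12_1 D3224 (iv D2454) (iv F8680)
theorem F11261 : act 6 n3224 = n2631 := d27_1 D3224 (iv D2631) (iv D2001) (iv F6686) D2453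
def n3227 : Q := act 6 n2456
theorem D3227 : act 6 n2456 = n3227 := rfl
theorem F11272 : act 5 n3227 = n2461 := d25_1 D3227 (iv D2461) (iv F8693)
def n3228 : Q := act 2 n2457
theorem D3228 : act 2 n2457 = n3228 := rfl
theorem F11276 : act 5 n3228 = n2462 := d15_2 (iv F8698) D3228 (iv D2462)
theorem F11277 : act 7 n3228 = n2458 := d17_2 (iv F8699) D3228 (iv D2458)
def n3229 : Q := act 1 n2458
theorem D3229 : act 1 n2458 = n3229 := rfl
theorem F11278 : act 2 n3229 = n2475 := d7_2 D2458 D3229 (iv D2475) (iv D1880) (iv F6704)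
theorem F11279 : act 4 n3229 = n3229 := d9_2 F8701 D3229 (iv D3229)
theorem F11280 : act 5 n3229 = n2463 := d10_2 (iv F8702) D3229 (iv D2463)
theorem F11281 : act 6 n3229 = n3229 := d11_2 F8703 D3229 (iv D3229)
def n3230 : Q := act 3 n2458
theorem D3230 : act 3 n2458 = n3230 := rfl
theorem F11282 : act 0 n3230 = n3230 := d2_1 D3230 (iv D3230) F8700
theorem F11283 : act 2 n3230 = n3230 := d13_1 D3230 (iv D3230) (iv D2458) F6705 D2458
theorem F11284 : act 5 n3230 = n2464 := d19_2 (iv F8702) D3230 (iv D2464)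
theorem F11285 : act 6 n3230 = n3230 := d20_2 F8703 D3230 (iv D3230)
def n3231 : Q := act 5 n2459
theorem D3231 : act 5 n2459 = n3231 := rfl
theorem F11288 : act 3 n3231 = n2465 := d19_1 D3231 (iv D2465) (iv F8706)
def n3232 : Q := act 7 n2459
theorem D3232 : act 7 n2459 = n3232 := rfl
theorem F11292 : act 3 n3232 = n2466 := d21_1 D3232 (iv D2466) (iv F8706)
def n3233 : Q := act 6 n2460
theorem D3233 : act 6 n2460 = n3233 := rfl
theorem F11295 : act 3 n3233 = n2461 := d20_1 D3233 (iv D2461) (iv F8710)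
def n3234 : Q := act 2 n2461
theorem D3234 : act 2 n2461 = n3234 := rfl
theorem F11298 : act 4 n3234 = n2468 := d14_2 (iv F8712) D3234 (iv D2468)
theorem F11299 : act 6 n3234 = n2462 := d16_2 D2461 D3234 (iv D2462) (iv D1871) (iv F6712)
def n3235 : Q := act 1 n2462
theorem D3235 : act 1 n2462 = n3235 := rfl
theorem F11301 : act 2 n3235 = n2477 := d7_2 D2462 D3235 (iv D2477) (iv D1881) (iv F6715)
theorem F11302 : act 4 n3235 = n2469 := d9_2 (iv F8715) D3235 (iv D2469)
theorem F11303 : act 7 n3235 = n2463 := d12_2 (iv F8716) D3235 (iv D2463)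
def n3236 : Q := act 3 n2462
theorem D3236 : act 3 n2462 = n3236 := rfl
theorem F11304 : act 0 n3236 = n3236 := d2_1 D3236 (iv D3236) F8714
theorem F11305 : act 2 n3236 = n3236 := d13_1 D3236 (iv D3236) (iv D2462) F6716 D2462
theorem F11306 : act 7 n3236 = n2464 := d21_2 (iv F8716) D3236 (iv D2464)
def n3237 : Q := act 0 n2463
theorem D3237 : act 0 n2463 = n3237 := rfl
theorem F11307 : act 1 n3237 = n3237 := d0_2 D2463 D3237 (iv D3237) (iv D2463) F6719
theorem F11308 : act 2 n3237 = n2479 := d1_2 (iv F8717) D3237 (iv D2479)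
theorem F11309 : act 4 n3237 = n2471 := d3_2 (iv F8718) D3237 (iv D2471)
theorem F11310 : act 6 n3237 = n3237 := d5_2 F8719 D3237 (iv D3237)
def n3238 : Q := act 3 n2463
theorem D3238 : act 3 n2463 = n3238 := rfl
theorem F11311 : act 1 n3238 = n2464 := d8_1 D3238 (iv D2464) D2463
theorem F11312 : act 6 n3238 = n3238 := d20_2 F8719 D3238 (iv D3238)
def n3239 : Q := act 4 n2464
theorem D3239 : act 4 n2464 = n3239 := rfl
def n3240 : Q := act 7 n2465
theorem D3240 : act 7 n2465 = n3240 := rfl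
theorem F11318 : act 2 n3240 = n2664 := d17_1 D3240 (iv D2664) (iv F8724)
def n3241 : Q := act 6 n2466
theorem D3241 : act 6 n2466 = n3241 := rfl
theorem F11322 : act 4 n3241 = n2467 := d23_1 D3241 (iv D2467) (iv F8729)
def n3243 : Q := act 1 n2468
theorem D3243 : act 1 n2468 = n3243 := rfl
theorem F11328 : act 5 n3243 = n3243 := d10_2 F8735 D3243 (iv D3243)
theorem F11329 : act 6 n3243 = n2469 := d11_2 (iv F8736) D3243 (iv D2469)
theorem F11330 : act 7 n3243 = n3243 := d12_2 F8737 D3243 (iv D3243)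
def n3244 : Q := act 3 n2468
theorem D3244 : act 3 n2468 = n3244 := rfl
def n3245 : Q := act 0 n2469
theorem D3245 : act 0 n2469 = n3245 := rfl
theorem F11335 : act 1 n3245 = n3245 := d0_2 D2469 D3245 (iv D3245) (iv D2469) F6732
theorem F11336 : act 2 n3245 = n2482 := d1_2 (iv F8738) D3245 (iv D2482)
theorem F11337 : act 5 n3245 = n3245 := d4_2 F8739 D3245 (iv D3245)
theorem F11338 : act 7 n3245 = n2471 := d6_2 (iv F8740) D3245 (iv D2471)
def n3246 : Q := act 3 n2469
theorem D3246 : act 3 n2469 = n3246 := rfl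
def n3248 : Q := act 3 n2471
theorem D3248 : act 3 n2471 = n3248 := rfl
def n3252 : Q := act 1 n2474
theorem D3252 : act 1 n2474 = n3252 := rfl
theorem F11358 : act 4 n3252 = n3252 := d9_2 F8756 D3252 (iv D3252)
theorem F11359 : act 5 n3252 = n2477 := d10_2 (iv F8757) D3252 (iv D2477)
theorem F11360 : act 7 n3252 = n2475 := d12_2 (iv F8758) D3252 (iv D2475)
def n3253 : Q := act 3 n2474
theorem D3253 : act 3 n2474 = n3253 := rfl
theorem F11361 : act 0 n3253 = n2506 := d2_1 D3253 (iv D2506) (iv F8755)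
theorem F11362 : act 2 n3253 = n3253 := d13_1 D3253 (iv D3253) (iv D2474) F6743 D2474
theorem F11363 : act 5 n3253 = n2478 := d19_2 (iv F8757) D3253 (iv D2478)
theorem F11364 : act 7 n3253 = n2476 := d21_2 (iv F8758) D3253 (iv D2476)
def n3254 : Q := act 0 n2475
theorem D3254 : act 0 n2475 = n3254 := rfl
theorem F11365 : act 1 n3254 = n2507 := d0_2 D2475 D3254 (iv D2507) (iv D1902) (iv F6747)
theorem F11366 : act 4 n3254 = n3254 := d3_2 F8759 D3254 (iv D3254)
theorem F11367 : act 5 n3254 = n2479 := d4_2 (iv F8760) D3254 (iv D2479)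
theorem F11368 : act 6 n3254 = n2489 := d5_2 (iv F8761) D3254 (iv D2489)
def n3255 : Q := act 3 n2475
theorem D3255 : act 3 n2475 = n3255 := rfl
theorem F11369 : act 1 n3255 = n2476 := d8_1 D3255 (iv D2476) D2475
theorem F11370 : act 5 n3255 = n2480 := d19_2 (iv F8760) D3255 (iv D2480)
theorem F11371 : act 6 n3255 = n2490 := d20_2 (iv F8761) D3255 (iv D2490)
def n3256 : Q := act 4 n2476
theorem D3256 : act 4 n2476 = n3256 := rfl
theorem F11372 : act 0 n3256 = n2509 := d3_1 D3256 (iv D2509) (iv F8762)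
theorem F11373 : act 2 n3256 = n3256 := d14_1 D3256 (iv D3256) F8763
theorem F11374 : act 3 n3256 = n3256 := d18_1 D3256 (iv D3256) (iv D2476) F6748 D2476
theorem F11375 : act 6 n3256 = n2491 := d23_2 (iv F8765) D3256 (iv D2491)
def n3257 : Q := act 0 n2477
theorem D3257 : act 0 n2477 = n3257 := rfl
theorem F11376 : act 1 n3257 = n2510 := d0_2 D2477 D3257 (iv D2510) (iv D1904) (iv F6751)
theorem F11377 : act 4 n3257 = n2482 := d3_2 (iv F8766) D3257 (iv D2482)
theorem F11378 : act 7 n3257 = n2479 := d6_2 (iv F8767) D3257 (iv D2479)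
def n3258 : Q := act 3 n2477
theorem D3258 : act 3 n2477 = n3258 := rfl
theorem F11379 : act 1 n3258 = n2478 := d8_1 D3258 (iv D2478) D2477
theorem F11380 : act 7 n3258 = n2480 := d21_2 (iv F8767) D3258 (iv D2480)
def n3259 : Q := act 4 n2478
theorem D3259 : act 4 n2478 = n3259 := rfl
theorem F11381 : act 0 n3259 = n2512 := d3_1 D3259 (iv D2512) (iv F8768)
theorem F11382 : act 2 n3259 = n3259 := d14_1 D3259 (iv D3259) F8769
theorem F11383 : act 3 n3259 = n2484 := d18_1 D3259 (iv D2484) (iv D1885) (iv F6752) D2478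
theorem F11384 : act 7 n3259 = n2481 := d24_2 (iv F8770) D3259 (iv D2481)
def n3260 : Q := act 3 n2479
theorem D3260 : act 3 n2479 = n3260 := rfl
theorem F11385 : act 0 n3260 = n2480 := d2_1 D3260 (iv D2480) D2479
theorem F11386 : act 1 n3260 = n2513 := d8_1 D3260 (iv D2513) (iv F8771)
theorem F11387 : act 6 n3260 = n2492 := d20_2 (iv F8773) D3260 (iv D2492)
def n3261 : Q := act 2 n2480
theorem D3261 : act 2 n2480 = n3261 := rfl
theorem F11388 : act 1 n3261 = n3261 := d7_1 D3261 (iv D3261) F8774 F6757 (iv F8774)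
def n3262 : Q := act 4 n2480
theorem D3262 : act 4 n2480 = n3262 := rfl
theorem F11389 : act 1 n3262 = n2481 := d9_1 D3262 (iv D2481) (iv F8774)
theorem F11390 : act 3 n3262 = n2487 := d18_1 D3262 (iv D2487) (iv D1887) (iv F6754) D2480
theorem F11391 : act 6 n3262 = n2494 := d23_2 (iv F8775) D3262 (iv D2494)
def n3263 : Q := act 5 n2481
theorem D3263 : act 5 n2481 = n3263 := rfl
theorem F11392 : act 0 n3263 = n2516 := d4_1 D3263 (iv D2516) (iv F8776)
theorem F11395 : act 6 n3263 = n2495 := d25_2 (iv F8779) D3263 (iv D2495)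
def n3264 : Q := act 3 n2482
theorem D3264 : act 3 n2482 = n3264 := rfl
theorem F11396 : act 0 n3264 = n2483 := d2_1 D3264 (iv D2483) D2482
theorem F11397 : act 1 n3264 = n2517 := d8_1 D3264 (iv D2517) (iv F8780)
theorem F11398 : act 5 n3264 = n3264 := d19_2 F8781 D3264 (iv D3264)
theorem F11399 : act 7 n3264 = n2485 := d21_2 (iv F8782) D3264 (iv D2485)
def n3265 : Q := act 2 n2483
theorem D3265 : act 2 n2483 = n3265 := rfl
theorem F11402 : act 7 n3265 = n2486 := d17_2 (iv F8785) D3265 (iv D2486)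
def n3266 : Q := act 4 n2483
theorem D3266 : act 4 n2483 = n3266 := rfl
theorem F11403 : act 1 n3266 = n2484 := d9_1 D3266 (iv D2484) (iv F8783)
theorem F11404 : act 7 n3266 = n2487 := d24_2 (iv F8785) D3266 (iv D2487)
def n3268 : Q := act 2 n2485
theorem D3268 : act 2 n2485 = n3268 := rfl
def n3269 : Q := act 4 n2485
theorem D3269 : act 4 n2485 = n3269 := rfl
theorem F11411 : act 0 n3269 = n2487 := d3_1 D3269 (iv D2487) (iv F8789)
theorem F11412 : act 1 n3269 = n2522 := d9_1 D3269 (iv D2522) (iv F8790)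
theorem F11413 : act 6 n3269 = n2497 := d23_2 (iv F8792) D3269 (iv D2497)
def n3270 : Q := act 4 n2486
theorem D3270 : act 4 n2486 = n3270 := rfl
theorem F11415 : act 2 n3270 = n2487 := d14_1 D3270 (iv D2487) D2486
def n3273 : Q := act 3 n2489
theorem D3273 : act 3 n2489 = n3273 := rfl
theorem F11422 : act 0 n3273 = n2490 := d2_1 D3273 (iv D2490) D2489
theorem F11423 : act 1 n3273 = n2525 := d8_1 D3273 (iv D2525) (iv F8801)
theorem F11424 : act 5 n3273 = n2492 := d19_2 (iv F8804) D3273 (iv D2492)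
def n3274 : Q := act 2 n2490
theorem D3274 : act 2 n2490 = n3274 := rfl
theorem F11425 : act 1 n3274 = n2543 := d7_1 D3274 (iv D2543) F6890 (iv F6778) (iv F8805)
theorem F11426 : act 3 n3274 = n3274 := d13_2 D2490 D3274 (iv D3274) (iv D2490) F6774
theorem F11427 : act 5 n3274 = n2493 := d15_2 (iv F8806) D3274 (iv D2493)
def n3275 : Q := act 4 n2490
theorem D3275 : act 4 n2490 = n3275 := rfl
theorem F11428 : act 1 n3275 = n2491 := d9_1 D3275 (iv D2491) (iv F8805)
theorem F11429 : act 3 n3275 = n3275 := d18_1 D3275 (iv D3275) (iv D2490) F6775 D2490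
def n3276 : Q := act 5 n2491
theorem D3276 : act 5 n2491 = n3276 := rfl
theorem F11430 : act 0 n3276 = n2528 := d4_1 D3276 (iv D2528) (iv F8807)
theorem F11431 : act 2 n3276 = n2545 := d15_1 D3276 (iv D2545) (iv F8808)
def n3277 : Q := act 2 n2492
theorem D3277 : act 2 n2492 = n3277 := rfl
theorem F11434 : act 0 n3277 = n2493 := d1_1 D3277 (iv D2493) (iv F8810)
theorem F11435 : act 3 n3277 = n3277 := d13_2 D2492 D3277 (iv D3277) (iv D2492) F6781
def n3278 : Q := act 4 n2492
theorem D3278 : act 4 n2492 = n3278 := rfl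
theorem F11436 : act 0 n3278 = n2494 := d3_1 D3278 (iv D2494) (iv F8810)
theorem F11437 : act 1 n3278 = n2530 := d9_1 D3278 (iv D2530) (iv F8811)
theorem F11438 : act 3 n3278 = n2497 := d18_1 D3278 (iv D2497) (iv D1894) (iv F6782) D2492
def n3279 : Q := act 4 n2493
theorem D3279 : act 4 n2493 = n3279 := rfl
theorem F11440 : act 2 n3279 = n2494 := d14_1 D3279 (iv D2494) D2493
def n3280 : Q := act 6 n2493
theorem D3280 : act 6 n2493 = n3280 := rfl
theorem F11442 : act 3 n3280 = n3280 := d20_1 D3280 (iv D3280) F8813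
def n3281 : Q := act 5 n2494
theorem D3281 : act 5 n2494 = n3281 := rfl
def n3282 : Q := act 4 n2496
theorem D3282 : act 4 n2496 = n3282 := rfl
theorem F11447 : act 2 n3282 = n2497 := d14_1 D3282 (iv D2497) D2496
def n3283 : Q := act 6 n2496
theorem D3283 : act 6 n2496 = n3283 := rfl
def n3293 : Q := act 0 n2505
theorem D3293 : act 0 n2505 = n3293 := rfl
theorem F11478 : act 2 n3293 = n3293 := d1_2 F8845 D3293 (iv D3293)
theorem F11479 : act 4 n3293 = n3293 := d3_2 F8846 D3293 (iv D3293)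
theorem F11480 : act 5 n3293 = n2510 := d4_2 (iv F8847) D3293 (iv D2510)
theorem F11481 : act 7 n3293 = n2507 := d6_2 (iv F8848) D3293 (iv D2507)
def n3294 : Q := act 3 n2505
theorem D3294 : act 3 n2505 = n3294 := rfl
theorem F11482 : act 1 n3294 = n2506 := d8_1 D3294 (iv D2506) D2505
theorem F11483 : act 5 n3294 = n2511 := d19_2 (iv F8847) D3294 (iv D2511)
theorem F11484 : act 7 n3294 = n2508 := d21_2 (iv F8848) D3294 (iv D2508)
def n3295 : Q := act 4 n2506
theorem D3295 : act 4 n2506 = n3295 := rfl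
theorem F11485 : act 2 n3295 = n3295 := d14_1 D3295 (iv D3295) F8849
theorem F11486 : act 3 n3295 = n3295 := d18_1 D3295 (iv D3295) (iv D2506) F6808 D2506
theorem F11487 : act 7 n3295 = n2509 := d24_2 (iv F8851) D3295 (iv D2509)
def n3296 : Q := act 3 n2507
theorem D3296 : act 3 n2507 = n3296 := rfl
theorem F11488 : act 0 n3296 = n2508 := d2_1 D3296 (iv D2508) D2507
theorem F11489 : act 5 n3296 = n2513 := d19_2 (iv F8854) D3296 (iv D2513)
theorem F11490 : act 6 n3296 = n2525 := d20_2 (iv F8855) D3296 (iv D2525)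
def n3297 : Q := act 2 n2508
theorem D3297 : act 2 n2508 = n3297 := rfl
theorem F11491 : act 1 n3297 = n3297 := d7_1 D3297 (iv D3297) F8856 F6815 (iv F8856)
theorem F11492 : act 3 n3297 = n3297 := d13_2 D2508 D3297 (iv D3297) (iv D2508) F6811
theorem F11493 : act 5 n3297 = n2514 := d15_2 (iv F8857) D3297 (iv D2514)
def n3298 : Q := act 4 n2508
theorem D3298 : act 4 n2508 = n3298 := rfl
theorem F11494 : act 1 n3298 = n2509 := d9_1 D3298 (iv D2509) (iv F8856)
theorem F11496 : act 6 n3298 = n2527 := d23_2 (iv F8858) D3298 (iv D2527)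
def n3299 : Q := act 5 n2509
theorem D3299 : act 5 n2509 = n3299 := rfl
theorem F11497 : act 2 n3299 = n3299 := d15_1 D3299 (iv D3299) F8859
theorem F11498 : act 3 n3299 = n3299 := d19_1 D3299 (iv D3299) F8860
theorem F11499 : act 4 n3299 = n2516 := d22_1 D3299 (iv D2516) (iv D1908) (iv F6816) D2509
theorem F11500 : act 6 n3299 = n2528 := d25_2 (iv F8861) D3299 (iv D2528)
def n3300 : Q := act 3 n2510
theorem D3300 : act 3 n2510 = n3300 := rfl
theorem F11501 : act 0 n3300 = n2511 := d2_1 D3300 (iv D2511) D2510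
theorem F11502 : act 7 n3300 = n2513 := d21_2 (iv F8864) D3300 (iv D2513)
def n3301 : Q := act 2 n2511
theorem D3301 : act 2 n2511 = n3301 := rfl
theorem F11503 : act 1 n3301 = n3301 := d7_1 D3301 (iv D3301) F8865 F6821 (iv F8865)
theorem F11504 : act 3 n3301 = n3301 := d13_2 D2511 D3301 (iv D3301) (iv D2511) F6818
theorem F11505 : act 7 n3301 = n2514 := d17_2 (iv F8866) D3301 (iv D2514)
def n3302 : Q := act 4 n2511
theorem D3302 : act 4 n2511 = n3302 := rfl
theorem F11506 : act 1 n3302 = n2512 := d9_1 D3302 (iv D2512) (iv F8865)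
theorem F11507 : act 3 n3302 = n2519 := d18_1 D3302 (iv D2519) (iv D1910) (iv F6819) D2511
theorem F11508 : act 7 n3302 = n2515 := d24_2 (iv F8866) D3302 (iv D2515)
def n3303 : Q := act 5 n2512
theorem D3303 : act 5 n2512 = n3303 := rfl
theorem F11509 : act 2 n3303 = n3303 := d15_1 D3303 (iv D3303) F8867
theorem F11510 : act 3 n3303 = n2520 := d19_1 D3303 (iv D2520) (iv F8868)
theorem F11511 : act 7 n3303 = n2516 := d26_2 (iv F8869) D3303 (iv D2516)
def n3304 : Q := act 2 n2513
theorem D3304 : act 2 n2513 = n3304 := rfl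
theorem F11512 : act 0 n3304 = n2514 := d1_1 D3304 (iv D2514) (iv F8870)
theorem F11513 : act 3 n3304 = n3304 := d13_2 D2513 D3304 (iv D3304) (iv D2513) F6823
def n3305 : Q := act 4 n2513
theorem D3305 : act 4 n2513 = n3305 := rfl
theorem F11514 : act 0 n3305 = n2515 := d3_1 D3305 (iv D2515) (iv F8870)
theorem F11515 : act 3 n3305 = n2522 := d18_1 D3305 (iv D2522) (iv D1912) (iv F6824) D2513
theorem F11516 : act 6 n3305 = n2530 := d23_2 (iv F8871) D3305 (iv D2530)
def n3306 : Q := act 4 n2514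
theorem D3306 : act 4 n2514 = n3306 := rfl
theorem F11517 : act 1 n3306 = n3306 := d9_1 D3306 (iv D3306) F8872
theorem F11518 : act 2 n3306 = n2515 := d14_1 D3306 (iv D2515) D2514
def n3307 : Q := act 6 n2514
theorem D3307 : act 6 n2514 = n3307 := rfl
theorem F11519 : act 1 n3307 = n3307 := d11_1 D3307 (iv D3307) F8872
theorem F11520 : act 2 n3307 = n2532 := d16_1 D3307 (iv D2532) (iv D1920) (iv F6827) D2514
theorem F11521 : act 3 n3307 = n3307 := d20_1 D3307 (iv D3307) F8873
def n3308 : Q := act 5 n2515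
theorem D3308 : act 5 n2515 = n3308 := rfl
theorem F11522 : act 1 n3308 = n2516 := d10_1 D3308 (iv D2516) (iv F8874)
theorem F11523 : act 3 n3308 = n2524 := d19_1 D3308 (iv D2524) (iv F8875)
theorem F11524 : act 6 n3308 = n2533 := d25_2 (iv F8876) D3308 (iv D2533)
def n3309 : Q := act 2 n2517
theorem D3309 : act 2 n2517 = n3309 := rfl
theorem F11525 : act 0 n3309 = n2518 := d1_1 D3309 (iv D2518) (iv F8880)
theorem F11526 : act 3 n3309 = n3309 := d13_2 D2517 D3309 (iv D3309) (iv D2517) F6831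
theorem F11527 : act 5 n3309 = n3309 := d15_2 F8881 D3309 (iv D3309)
theorem F11528 : act 7 n3309 = n2521 := d17_2 (iv F8882) D3309 (iv D2521)
def n3310 : Q := act 4 n2517
theorem D3310 : act 4 n2517 = n3310 := rfl
theorem F11529 : act 0 n3310 = n2519 := d3_1 D3310 (iv D2519) (iv F8880)
theorem F11530 : act 7 n3310 = n2522 := d24_2 (iv F8882) D3310 (iv D2522)
def n3311 : Q := act 4 n2518
theorem D3311 : act 4 n2518 = n3311 := rfl
theorem F11531 : act 1 n3311 = n2698 := d9_1 D3311 (iv D2698) (iv F8883)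
theorem F11532 : act 2 n3311 = n2519 := d14_1 D3311 (iv D2519) D2518
theorem F11533 : act 7 n3311 = n2523 := d24_2 (iv F8886) D3311 (iv D2523)
def n3312 : Q := act 6 n2518
theorem D3312 : act 6 n2518 = n3312 := rfl
theorem F11534 : act 1 n3312 = n2699 := d11_1 D3312 (iv D2699) (iv F8883)
theorem F11535 : act 3 n3312 = n3312 := d20_1 D3312 (iv D3312) F8884
theorem F11536 : act 5 n3312 = n3312 := d25_1 D3312 (iv D3312) F8885
theorem F11537 : act 7 n3312 = n3312 := d27_2 (iv F8886) D3312 (iv D3312) F8886 F6845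
def n3313 : Q := act 5 n2519
theorem D3313 : act 5 n2519 = n3313 := rfl
theorem F11538 : act 1 n3313 = n2520 := d10_1 D3313 (iv D2520) (iv F8887)
theorem F11539 : act 4 n3313 = n3313 := d22_1 D3313 (iv D3313) (iv D2519) F6835 D2519
theorem F11540 : act 7 n3313 = n2524 := d26_2 (iv F8888) D3313 (iv D2524)
def n3314 : Q := act 1 n2521
theorem D3314 : act 1 n2521 = n3314 := rfl
def n3315 : Q := act 4 n2521
theorem D3315 : act 4 n2521 = n3315 := rfl
theorem F11545 : act 0 n3315 = n2523 := d3_1 D3315 (iv D2523) (iv F8892)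
theorem F11546 : act 2 n3315 = n2522 := d14_1 D3315 (iv D2522) D2521
theorem F11547 : act 6 n3315 = n3315 := d23_2 F8895 D3315 (iv D3315)
def n3316 : Q := act 5 n2522
theorem D3316 : act 5 n2522 = n3316 := rfl
theorem F11548 : act 0 n3316 = n2524 := d4_1 D3316 (iv D2524) (iv F8896)
theorem F11549 : act 4 n3316 = n3316 := d22_1 D3316 (iv D3316) (iv D2522) F6840 D2522
theorem F11550 : act 6 n3316 = n2534 := d25_2 (iv F8897) D3316 (iv D2534)
def n3317 : Q := act 3 n2523
theorem D3317 : act 3 n2523 = n3317 := rfl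
theorem F11551 : act 1 n3317 = n2704 := d8_1 D3317 (iv D2704) (iv F8898)
theorem F11552 : act 4 n3317 = n3317 := d18_2 D2523 D3317 (iv D3317) (iv D2523) F6843
theorem F11553 : act 6 n3317 = n3317 := d20_2 F8900 D3317 (iv D3317)
def n3318 : Q := act 5 n2523
theorem D3318 : act 5 n2523 = n3318 := rfl
theorem F11554 : act 1 n3318 = n2705 := d10_1 D3318 (iv D2705) (iv F8898)
theorem F11555 : act 2 n3318 = n2524 := d15_1 D3318 (iv D2524) (iv F8899)
theorem F11556 : act 4 n3318 = n3318 := d22_1 D3318 (iv D3318) (iv D2523) F6844 D2523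
theorem F11557 : act 6 n3318 = n3318 := d25_2 F8900 D3318 (iv D3318)
def n3319 : Q := act 2 n2525
theorem D3319 : act 2 n2525 = n3319 := rfl
theorem F11558 : act 0 n3319 = n2526 := d1_1 D3319 (iv D2526) (iv F8904)
theorem F11560 : act 5 n3319 = n2529 := d15_2 (iv F8905) D3319 (iv D2529)
def n3320 : Q := act 4 n2525
theorem D3320 : act 4 n2525 = n3320 := rfl
theorem F11561 : act 0 n3320 = n2527 := d3_1 D3320 (iv D2527) (iv F8904)
def n3321 : Q := act 4 n2526
theorem D3321 : act 4 n2526 = n3321 := rfl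
theorem F11563 : act 1 n3321 = n2564 := d9_1 D3321 (iv D2564) (iv F8906)
theorem F11564 : act 2 n3321 = n2527 := d14_1 D3321 (iv D2527) D2526
def n3322 : Q := act 6 n2526
theorem D3322 : act 6 n2526 = n3322 := rfl
def n3323 : Q := act 5 n2527
theorem D3323 : act 5 n2527 = n3323 := rfl
theorem F11568 : act 1 n3323 = n2528 := d10_1 D3323 (iv D2528) (iv F8909)
theorem F11570 : act 4 n3323 = n2533 := d22_1 D3323 (iv D2533) (iv D1921) (iv F6855) D2527
def n3324 : Q := act 1 n2529
theorem D3324 : act 1 n2529 = n3324 := rfl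
theorem F11571 : act 0 n3324 = n2567 := d0_1 D3324 (iv D2567) F6945 (iv F6859) (iv F8914)
theorem F11572 : act 3 n3324 = n2539 := d8_2 (iv F8915) D3324 (iv D2539)
def n3325 : Q := act 4 n2529
theorem D3325 : act 4 n2529 = n3325 := rfl
theorem F11573 : act 0 n3325 = n2531 := d3_1 D3325 (iv D2531) (iv F8914)
theorem F11574 : act 2 n3325 = n2530 := d14_1 D3325 (iv D2530) D2529
theorem F11575 : act 3 n3325 = n3325 := d18_1 D3325 (iv D3325) F8915 F6881 (iv F8915)
def n3326 : Q := act 6 n2529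
theorem D3326 : act 6 n2529 = n3326 := rfl
theorem F11576 : act 0 n3326 = n2532 := d5_1 D3326 (iv D2532) (iv F8914)
theorem F11577 : act 3 n3326 = n2540 := d20_1 D3326 (iv D2540) (iv F8915)
def n3327 : Q := act 5 n2530
theorem D3327 : act 5 n2530 = n3327 := rfl
theorem F11578 : act 0 n3327 = n2533 := d4_1 D3327 (iv D2533) (iv F8916)
def n3328 : Q := act 5 n2531
theorem D3328 : act 5 n2531 = n3328 := rfl
theorem F11581 : act 2 n3328 = n2533 := d15_1 D3328 (iv D2533) (iv F8919)
def n3329 : Q := act 6 n2531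
theorem D3329 : act 6 n2531 = n3329 := rfl
theorem F11583 : act 1 n3329 = n2572 := d11_1 D3329 (iv D2572) (iv F8918)
theorem F11584 : act 3 n3329 = n3329 := d20_1 D3329 (iv D3329) F8920
theorem F11585 : act 4 n3329 = n2532 := d23_1 D3329 (iv D2532) D2531
def n3330 : Q := act 7 n2532
theorem D3330 : act 7 n2532 = n3330 := rfl
theorem F11586 : act 1 n3330 = n2573 := d12_1 D3330 (iv D2573) (iv F8921)
theorem F11587 : act 3 n3330 = n2541 := d21_1 D3330 (iv D2541) (iv F8922)
def n3331 : Q := act 1 n2535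
theorem D3331 : act 1 n2535 = n3331 := rfl
theorem F11588 : act 0 n3331 = n2574 := d0_1 D3331 (iv D2574) F6961 (iv F6874) (iv F8928)
def n3332 : Q := act 4 n2535
theorem D3332 : act 4 n2535 = n3332 := rfl
theorem F11591 : act 0 n3332 = n2537 := d3_1 D3332 (iv D2537) (iv F8928)
theorem F11592 : act 2 n3332 = n2536 := d14_1 D3332 (iv D2536) D2535
def n3333 : Q := act 6 n2535
theorem D3333 : act 6 n2535 = n3333 := rfl
theorem F11595 : act 2 n3333 = n3333 := d16_1 D3333 (iv D3333) (iv D2535) F6873 D2535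
theorem F11596 : act 5 n3333 = n2540 := d25_1 D3333 (iv D2540) (iv F8929)
def n3334 : Q := act 3 n2537
theorem D3334 : act 3 n2537 = n3334 := rfl
theorem F11597 : act 1 n3334 = n2577 := d8_1 D3334 (iv D2577) (iv F8935)
def n3335 : Q := act 6 n2537
theorem D3335 : act 6 n2537 = n3335 := rfl
theorem F11601 : act 2 n3335 = n3335 := d16_1 D3335 (iv D3335) F8936 F6879 (iv F8936)
def n3336 : Q := act 7 n2538
theorem D3336 : act 7 n2538 = n3336 := rfl
theorem F11606 : act 5 n3336 = n2541 := d26_1 D3336 (iv D2541) (iv F8940)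
def n3337 : Q := act 6 n2539
theorem D3337 : act 6 n2539 = n3337 := rfl
theorem F11608 : act 1 n3337 = n2540 := d11_1 D3337 (iv D2540) D2539
def n3338 : Q := act 7 n2540
theorem D3338 : act 7 n2540 = n3338 := rfl
theorem F11610 : act 0 n3338 = n2541 := d6_1 D3338 (iv D2541) (iv F8944)
theorem F11611 : act 2 n3338 = n3338 := d17_1 D3338 (iv D3338) F8945
theorem F11612 : act 4 n3338 = n3338 := d24_1 D3338 (iv D3338) F8946
def n3339 : Q := act 2 n2542
theorem D3339 : act 2 n2542 = n3339 := rfl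
theorem F11613 : act 0 n3339 = n2543 := d1_1 D3339 (iv D2543) (iv F8950)
def n3340 : Q := act 4 n2542
theorem D3340 : act 4 n2542 = n3340 := rfl
theorem F11618 : act 3 n3340 = n2583 := d18_1 D3340 (iv D2583) (iv D1963) (iv F6887) D2542
def n3341 : Q := act 4 n2543
theorem D3341 : act 4 n2543 = n3341 := rfl
theorem F11620 : act 2 n3341 = n2544 := d14_1 D3341 (iv D2544) D2543
def n3344 : Q := act 1 n2546
theorem D3344 : act 1 n2546 = n3344 := rfl
theorem F11628 : act 2 n3344 = n2567 := d7_2 D2546 D3344 (iv D2567) (iv D1950) (iv F6897)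
def n3345 : Q := act 4 n2546
theorem D3345 : act 4 n2546 = n3345 := rfl
theorem F11631 : act 2 n3345 = n2547 := d14_1 D3345 (iv D2547) D2546
def n3348 : Q := act 3 n2548
theorem D3348 : act 3 n2548 = n3348 := rfl
theorem F11639 : act 2 n3348 = n2554 := d13_1 D3348 (iv D2554) F6914 (iv F6901) (iv F8969)
def n3349 : Q := act 5 n2548
theorem D3349 : act 5 n2548 = n3349 := rfl
def n3352 : Q := act 3 n2551
theorem D3352 : act 3 n2551 = n3352 := rfl
def n3356 : Q := act 5 n2554
theorem D3356 : act 5 n2554 = n3356 := rfl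
def n3365 : Q := act 1 n2562
theorem D3365 : act 1 n2562 = n3365 := rfl
def n3366 : Q := act 4 n2562
theorem D3366 : act 4 n2562 = n3366 := rfl
def n3368 : Q := act 5 n2563
theorem D3368 : act 5 n2563 = n3368 := rfl
def n3369 : Q := act 3 n2564
theorem D3369 : act 3 n2564 = n3369 := rfl
theorem F11702 : act 2 n3369 = n2612 := d13_1 D3369 (iv D2612) F7044 (iv F6940) (iv F9017)
def n3370 : Q := act 5 n2564
theorem D3370 : act 5 n2564 = n3370 := rfl
def n3373 : Q := act 4 n2567
theorem D3373 : act 4 n2567 = n3373 := rfl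
theorem F11711 : act 1 n3373 = n2568 := d9_1 D3373 (iv D2568) D2567
def n3378 : Q := act 6 n2571
theorem D3378 : act 6 n2571 = n3378 := rfl
theorem F11727 : act 5 n3378 = n2572 := d25_1 D3378 (iv D2572) D2571
def n3379 : Q := act 7 n2572
theorem D3379 : act 7 n2572 = n3379 := rfl
theorem F11728 : act 2 n3379 = n3379 := d17_1 D3379 (iv D3379) F9037
theorem F11729 : act 3 n3379 = n3379 := d21_1 D3379 (iv D3379) F9038
theorem F11730 : act 4 n3379 = n2573 := d24_1 D3379 (iv D2573) (iv F9039)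
def n3380 : Q := act 4 n2574
theorem D3380 : act 4 n2574 = n3380 := rfl
theorem F11731 : act 1 n3380 = n2575 := d9_1 D3380 (iv D2575) D2574
def n3385 : Q := act 6 n2577
theorem D3385 : act 6 n2577 = n3385 := rfl
theorem F11746 : act 3 n3385 = n2578 := d20_1 D3385 (iv D2578) D2577
def n3386 : Q := act 7 n2578
theorem D3386 : act 7 n2578 = n3386 := rfl
theorem F11748 : act 2 n3386 = n2638 := d17_1 D3386 (iv D2638) (iv F9052)
def n3387 : Q := act 2 n2580
theorem D3387 : act 2 n2580 = n3387 := rfl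
theorem F11751 : act 1 n3387 = n2639 := d7_1 D3387 (iv D2639) F7122 (iv F6975) (iv F9057)
def n3389 : Q := act 1 n2582
theorem D3389 : act 1 n2582 = n3389 := rfl
theorem F11757 : act 2 n3389 = n2608 := d7_2 D2582 D3389 (iv D2608) (iv D1983) (iv F6980)
def n3390 : Q := act 4 n2582
theorem D3390 : act 4 n2582 = n3390 := rfl
theorem F11760 : act 0 n3390 = n2584 := d3_1 D3390 (iv D2584) (iv F9062)
theorem F11761 : act 2 n3390 = n2583 := d14_1 D3390 (iv D2583) D2582
def n3393 : Q := act 3 n2584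
theorem D3393 : act 3 n2584 = n3393 := rfl
def n3394 : Q := act 5 n2584
theorem D3394 : act 5 n2584 = n3394 := rfl
theorem F11774 : act 4 n3394 = n2592 := d22_1 D3394 (iv D2592) (iv D1969) (iv F6985) D2584
def n3397 : Q := act 4 n2587
theorem D3397 : act 4 n2587 = n3397 := rfl
theorem F11783 : act 1 n3397 = n2588 := d9_1 D3397 (iv D2588) D2587
theorem F11784 : act 2 n3397 = n2616 := d14_1 D3397 (iv D2616) (iv F9078)
def n3398 : Q := act 6 n2587
theorem D3398 : act 6 n2587 = n3398 := rfl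
def n3399 : Q := act 3 n2588
theorem D3399 : act 3 n2588 = n3399 := rfl
theorem F11788 : act 0 n3399 = n2591 := d2_1 D3399 (iv D2591) (iv F9080)
theorem F11789 : act 2 n3399 = n2595 := d13_1 D3399 (iv D2595) F7008 (iv F6996) (iv F9081)
def n3400 : Q := act 5 n2588
theorem D3400 : act 5 n2588 = n3400 := rfl
theorem F11791 : act 0 n3400 = n2592 := d4_1 D3400 (iv D2592) (iv F9080)
def n3401 : Q := act 6 n2588
theorem D3401 : act 6 n2588 = n3401 := rfl
def n3403 : Q := act 5 n2591
theorem D3403 : act 5 n2591 = n3403 := rfl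
theorem F11800 : act 2 n3403 = n2599 := d15_1 D3403 (iv D2599) (iv F9090)
theorem F11801 : act 3 n3403 = n2592 := d19_1 D3403 (iv D2592) D2591
def n3404 : Q := act 6 n2591
theorem D3404 : act 6 n2591 = n3404 := rfl
theorem F11803 : act 3 n3404 = n2593 := d20_1 D3404 (iv D2593) D2591
def n3405 : Q := act 6 n2592
theorem D3405 : act 6 n2592 = n3405 := rfl
def n3407 : Q := act 5 n2595
theorem D3407 : act 5 n2595 = n3407 := rfl
def n3411 : Q := act 4 n2599
theorem D3411 : act 4 n2599 = n3411 := rfl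
theorem F11826 : act 1 n3411 = n2603 := d9_1 D3411 (iv D2603) (iv F9114)
def n3412 : Q := act 6 n2599
theorem D3412 : act 6 n2599 = n3412 := rfl
theorem F11828 : act 1 n3412 = n2604 := d11_1 D3412 (iv D2604) (iv F9114)
theorem F11830 : act 5 n3412 = n2600 := d25_1 D3412 (iv D2600) D2599
def n3413 : Q := act 2 n2600
theorem D3413 : act 2 n2600 = n3413 := rfl
def n3414 : Q := act 7 n2600
theorem D3414 : act 7 n2600 = n3414 := rfl
def n3416 : Q := act 6 n2603
theorem D3416 : act 6 n2603 = n3416 := rfl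
def n3417 : Q := act 2 n2604
theorem D3417 : act 2 n2604 = n3417 := rfl
theorem F11844 : act 5 n3417 = n2605 := d15_2 (iv F9130) D3417 (iv D2605)
def n3418 : Q := act 7 n2604
theorem D3418 : act 7 n2604 = n3418 := rfl
def n3420 : Q := act 7 n2605
theorem D3420 : act 7 n2605 = n3420 := rfl
theorem F11853 : act 2 n3420 = n2606 := d17_1 D3420 (iv D2606) D2605
def n3422 : Q := act 6 n2608
theorem D3422 : act 6 n2608 = n3422 := rfl
theorem F11860 : act 3 n3422 = n2624 := d20_1 D3422 (iv D2624) (iv F9142)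
def n3425 : Q := act 6 n2609
theorem D3425 : act 6 n2609 = n3425 := rfl
def n3427 : Q := act 5 n2612
theorem D3427 : act 5 n2612 = n3427 := rfl
def n3431 : Q := act 5 n2616
theorem D3431 : act 5 n2616 = n3431 := rfl
def n3432 : Q := act 6 n2616
theorem D3432 : act 6 n2616 = n3432 := rfl
def n3433 : Q := act 2 n2617
theorem D3433 : act 2 n2617 = n3433 := rfl
def n3434 : Q := act 7 n2617
theorem D3434 : act 7 n2617 = n3434 := rfl
def n3435 : Q := act 6 n2618
theorem D3435 : act 6 n2618 = n3435 := rfl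
def n3436 : Q := act 7 n2619
theorem D3436 : act 7 n2619 = n3436 := rfl
theorem F11904 : act 2 n3436 = n3436 := d17_1 D3436 (iv D3436) F9175
theorem F11906 : act 4 n3436 = n2620 := d24_1 D3436 (iv D2620) (iv F9177)
def n3439 : Q := act 6 n2623
theorem D3439 : act 6 n2623 = n3439 := rfl
theorem F11915 : act 1 n3439 = n2626 := d11_1 D3439 (iv D2626) (iv F9190)
def n3440 : Q := act 2 n2624
theorem D3440 : act 2 n2624 = n3440 := rfl
def n3441 : Q := act 7 n2624
theorem D3441 : act 7 n2624 = n3441 := rfl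
def n3442 : Q := act 6 n2625
theorem D3442 : act 6 n2625 = n3442 := rfl
theorem F11926 : act 3 n3442 = n2626 := d20_1 D3442 (iv D2626) D2625
def n3443 : Q := act 7 n2626
theorem D3443 : act 7 n2626 = n3443 := rfl
theorem F11929 : act 2 n3443 = n2646 := d17_1 D3443 (iv D2646) (iv F9199)
def n3444 : Q := act 2 n2628
theorem D3444 : act 2 n2628 = n3444 := rfl
theorem F11932 : act 3 n3444 = n2647 := d13_2 (iv F9206) D3444 (iv D2647) F7150 (iv F7085)
def n3445 : Q := act 7 n2628
theorem D3445 : act 7 n2628 = n3445 := rfl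
def n3447 : Q := act 7 n2630
theorem D3447 : act 7 n2630 = n3447 := rfl
theorem F11941 : act 1 n3447 = n2650 := d12_1 D3447 (iv D2650) (iv F9213)
theorem F11942 : act 2 n3447 = n2631 := d17_1 D3447 (iv D2631) D2630
def n3448 : Q := act 3 n2632
theorem D3448 : act 3 n2632 = n3448 := rfl
theorem F11944 : act 0 n3448 = n3448 := d2_1 D3448 (iv D3448) F9219
theorem F11945 : act 1 n3448 = n2634 := d8_1 D3448 (iv D2634) (iv F9220)
def n3450 : Q := act 2 n2633
theorem D3450 : act 2 n2633 = n3450 := rfl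
theorem F11954 : act 5 n3450 = n2639 := d15_2 (iv F9227) D3450 (iv D2639)
def n3451 : Q := act 7 n2633
theorem D3451 : act 7 n2633 = n3451 := rfl
theorem F11959 : act 5 n3451 = n2640 := d26_1 D3451 (iv D2640) (iv F9227)
def n3452 : Q := act 6 n2634
theorem D3452 : act 6 n2634 = n3452 := rfl
theorem F11961 : act 0 n3452 = n2637 := d5_1 D3452 (iv D2637) (iv F9228)
def n3454 : Q := act 2 n2637
theorem D3454 : act 2 n2637 = n3454 := rfl
def n3456 : Q := act 3 n2639
theorem D3456 : act 3 n2639 = n3456 := rfl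
theorem F11977 : act 0 n3456 = n3456 := d2_1 D3456 (iv D3456) F9248
theorem F11978 : act 2 n3456 = n3456 := d13_1 D3456 (iv D3456) (iv D2639) F7123 D2639
theorem F11979 : act 6 n3456 = n3456 := d20_2 F9250 D3456 (iv D3456)
def n3457 : Q := act 7 n2639
theorem D3457 : act 7 n2639 = n3457 := rfl
theorem F11980 : act 0 n3457 = n3457 := d6_1 D3457 (iv D3457) F9248
theorem F11981 : act 2 n3457 = n2640 := d17_1 D3457 (iv D2640) D2639
theorem F11982 : act 4 n3457 = n3457 := d24_1 D3457 (iv D3457) F9249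
def n3458 : Q := act 2 n2641
theorem D3458 : act 2 n2641 = n3458 := rfl
def n3461 : Q := act 7 n2642
theorem D3461 : act 7 n2642 = n3461 := rfl
theorem F11997 : act 0 n3461 = n2654 := d6_1 D3461 (iv D2654) (iv F9261)
theorem F11998 : act 1 n3461 = n2646 := d12_1 D3461 (iv D2646) (iv F9262)
def n3463 : Q := act 7 n2643
theorem D3463 : act 7 n2643 = n3463 := rfl
theorem F12008 : act 5 n3463 = n2650 := d26_1 D3463 (iv D2650) (iv F9266)
def n3464 : Q := act 2 n2645
theorem D3464 : act 2 n2645 = n3464 := rfl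
def n3465 : Q := act 7 n2645
theorem D3465 : act 7 n2645 = n3465 := rfl
theorem F12013 : act 3 n3465 = n2646 := d21_1 D3465 (iv D2646) (iv F9274)
def n3466 : Q := act 1 n2647
theorem D3466 : act 1 n2647 = n3466 := rfl
theorem F12017 : act 2 n3466 = n2659 := d7_2 D2647 D3466 (iv D2659) (iv D2026) (iv F7149)
def n3473 : Q := act 7 n2652
theorem D3473 : act 7 n2652 = n3473 := rfl
theorem F12041 : act 3 n3473 = n2654 := d21_1 D3473 (iv D2654) (iv F9300)
def n3530 : Q := act 4 n2696
theorem D3530 : act 4 n2696 = n3530 := rfl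
theorem F12244 : act 0 n3530 = n2698 := d3_1 D3530 (iv D2698) (iv F9462)
theorem F12246 : act 7 n3530 = n2702 := d24_2 (iv F9465) D3530 (iv D2702)
def n3531 : Q := act 6 n2696
theorem D3531 : act 6 n2696 = n3531 := rfl
theorem F12247 : act 0 n3531 = n2699 := d5_1 D3531 (iv D2699) (iv F9462)
def n3533 : Q := act 3 n2698
theorem D3533 : act 3 n2698 = n3533 := rfl
theorem F12257 : act 2 n3533 = n3533 := d13_1 D3533 (iv D3533) F9470 F7305 (iv F9470)
theorem F12258 : act 4 n3533 = n3533 := d18_2 D2698 D3533 (iv D3533) (iv D2698) F7301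
theorem F12259 : act 7 n3533 = n2704 := d21_2 (iv F9471) D3533 (iv D2704)
def n3534 : Q := act 5 n2698
theorem D3534 : act 5 n2698 = n3534 := rfl
theorem F12262 : act 7 n3534 = n2705 := d26_2 (iv F9471) D3534 (iv D2705)
def n3535 : Q := act 6 n2698
theorem D3535 : act 6 n2698 = n3535 := rfl
theorem F12263 : act 2 n3535 = n3535 := d16_1 D3535 (iv D3535) F9470 F7306 (iv F9470)
theorem F12264 : act 4 n3535 = n2699 := d23_1 D3535 (iv D2699) D2698
theorem F12265 : act 7 n3535 = n3535 := d27_2 (iv F9471) D3535 (iv D3535) F9471 F7320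
def n3537 : Q := act 3 n2702
theorem D3537 : act 3 n2702 = n3537 := rfl
theorem F12268 : act 0 n3537 = n2704 := d2_1 D3537 (iv D2704) (iv F9484)
def n3539 : Q := act 5 n2704
theorem D3539 : act 5 n2704 = n3539 := rfl
theorem F12277 : act 3 n3539 = n2705 := d19_1 D3539 (iv D2705) D2704
def n3642 : Q := act 2 n2785
theorem D3642 : act 2 n2785 = n3642 := rfl
theorem F12642 : act 5 n3642 = n2787 := d15_2 (iv F9788) D3642 (iv D2787)
def n3643 : Q := act 7 n2785
theorem D3643 : act 7 n2785 = n3643 := rfl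
theorem F12644 : act 1 n3643 = n2806 := d12_1 D3643 (iv D2806) (iv F9786)
theorem F12645 : act 3 n3643 = n2791 := d21_1 D3643 (iv D2791) (iv F9787)
theorem F12646 : act 5 n3643 = n2788 := d26_1 D3643 (iv D2788) (iv F9788)
def n3646 : Q := act 3 n2787
theorem D3646 : act 3 n2787 = n3646 := rfl
theorem F12654 : act 0 n3646 = n2884 := d2_1 D3646 (iv D2884) (iv F9793)
theorem F12655 : act 2 n3646 = n2793 := d13_1 D3646 (iv D2793) (iv D2131) (iv F7569) D2787
def n3647 : Q := act 7 n2787
theorem D3647 : act 7 n2787 = n3647 := rfl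
theorem F12656 : act 0 n3647 = n2885 := d6_1 D3647 (iv D2885) (iv F9793)
theorem F12657 : act 2 n3647 = n2788 := d17_1 D3647 (iv D2788) D2787
def n3648 : Q := act 6 n2788
theorem D3648 : act 6 n2788 = n3648 := rfl
theorem F12659 : act 0 n3648 = n2886 := d5_1 D3648 (iv D2886) (iv F9795)
theorem F12660 : act 1 n3648 = n2810 := d11_1 D3648 (iv D2810) (iv F9796)
theorem F12661 : act 3 n3648 = n2795 := d20_1 D3648 (iv D2795) (iv F9797)
theorem F12663 : act 7 n3648 = n2789 := d27_2 D2788 D3648 (iv D2789) (iv D2128) D2127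
def n3649 : Q := act 2 n2789
theorem D3649 : act 2 n2789 = n3649 := rfl
theorem F12664 : act 0 n3649 = n2887 := d1_1 D3649 (iv D2887) (iv F9799)
def n3652 : Q := act 6 n2791
theorem D3652 : act 6 n2791 = n3652 := rfl
theorem F12676 : act 1 n3652 = n2812 := d11_1 D3652 (iv D2812) (iv F9809)
theorem F12678 : act 5 n3652 = n2795 := d25_1 D3652 (iv D2795) (iv F9811)
theorem F12679 : act 7 n3652 = n2792 := d27_2 D2791 D3652 (iv D2792) (iv D2130) D2129
def n3653 : Q := act 2 n2792
theorem D3653 : act 2 n2792 = n3653 := rfl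
theorem F12680 : act 0 n3653 = n2891 := d1_1 D3653 (iv D2891) (iv F9812)
theorem F12682 : act 5 n3653 = n2796 := d15_2 (iv F9815) D3653 (iv D2796)
def n3655 : Q := act 7 n2793
theorem D3655 : act 7 n2793 = n3655 := rfl
theorem F12690 : act 3 n3655 = n2794 := d21_1 D3655 (iv D2794) D2793
def n3656 : Q := act 6 n2794
theorem D3656 : act 6 n2794 = n3656 := rfl
theorem F12691 : act 0 n3656 = n2894 := d5_1 D3656 (iv D2894) (iv F9819)
theorem F12693 : act 4 n3656 = n2799 := d23_1 D3656 (iv D2799) (iv F9822)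
def n3657 : Q := act 2 n2795
theorem D3657 : act 2 n2795 = n3657 := rfl
theorem F12695 : act 0 n3657 = n2895 := d1_1 D3657 (iv D2895) (iv F9823)
theorem F12696 : act 4 n3657 = n2800 := d14_2 (iv F9825) D3657 (iv D2800)
theorem F12697 : act 7 n3657 = n2796 := d17_2 (iv F9826) D3657 (iv D2796)
def n3658 : Q := act 1 n2796
theorem D3658 : act 1 n2796 = n3658 := rfl
theorem F12698 : act 2 n3658 = n2815 := d7_2 D2796 D3658 (iv D2815) (iv D2147) (iv F7592)
theorem F12699 : act 4 n3658 = n2801 := d9_2 (iv F9828) D3658 (iv D2801)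
theorem F12700 : act 6 n3658 = n3658 := d11_2 F9829 D3658 (iv D3658)
def n3659 : Q := act 3 n2796
theorem D3659 : act 3 n2796 = n3659 := rfl
theorem F12701 : act 0 n3659 = n2897 := d2_1 D3659 (iv D2897) (iv F9827)
theorem F12702 : act 6 n3659 = n3659 := d20_2 F9829 D3659 (iv D3659)
def n3662 : Q := act 6 n2798
theorem D3662 : act 6 n2798 = n3662 := rfl
theorem F12712 : act 0 n3662 = n2900 := d5_1 D3662 (iv D2900) (iv F9834)
theorem F12714 : act 3 n3662 = n2799 := d20_1 D3662 (iv D2799) (iv F9837)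
def n3663 : Q := act 2 n2799
theorem D3663 : act 2 n2799 = n3663 := rfl
theorem F12717 : act 0 n3663 = n2901 := d1_1 D3663 (iv D2901) (iv F9839)
theorem F12719 : act 6 n3663 = n2800 := d16_2 D2799 D3663 (iv D2800) (iv D2136) (iv F7601)
def n3664 : Q := act 1 n2800
theorem D3664 : act 1 n2800 = n3664 := rfl
theorem F12721 : act 2 n3664 = n2817 := d7_2 D2800 D3664 (iv D2817) (iv D2148) (iv F7604)
theorem F12722 : act 5 n3664 = n3664 := d10_2 F9844 D3664 (iv D3664)
theorem F12723 : act 7 n3664 = n2801 := d12_2 (iv F9845) D3664 (iv D2801)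
def n3665 : Q := act 3 n2800
theorem D3665 : act 3 n2800 = n3665 := rfl
theorem F12724 : act 0 n3665 = n2903 := d2_1 D3665 (iv D2903) (iv F9843)
theorem F12725 : act 2 n3665 = n3665 := d13_1 D3665 (iv D3665) (iv D2800) F7605 D2800
theorem F12726 : act 5 n3665 = n3665 := d19_2 F9844 D3665 (iv D3665)
theorem F12727 : act 7 n3665 = n2802 := d21_2 (iv F9845) D3665 (iv D2802)
def n3666 : Q := act 0 n2801
theorem D3666 : act 0 n2801 = n3666 := rfl
theorem F12728 : act 1 n3666 = n2904 := d0_2 D2801 D3666 (iv D2904) (iv D2211) (iv F7608)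
theorem F12729 : act 2 n3666 = n2819 := d1_2 (iv F9846) D3666 (iv D2819)
theorem F12730 : act 5 n3666 = n3666 := d4_2 F9847 D3666 (iv D3666)
theorem F12731 : act 6 n3666 = n3666 := d5_2 F9848 D3666 (iv D3666)
def n3667 : Q := act 3 n2801
theorem D3667 : act 3 n2801 = n3667 := rfl
theorem F12732 : act 1 n3667 = n2802 := d8_1 D3667 (iv D2802) D2801
theorem F12733 : act 5 n3667 = n3667 := d19_2 F9847 D3667 (iv D3667)
theorem F12734 : act 6 n3667 = n3667 := d20_2 F9848 D3667 (iv D3667)
def n3668 : Q := act 4 n2802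
theorem D3668 : act 4 n2802 = n3668 := rfl
theorem F12735 : act 0 n3668 = n2906 := d3_1 D3668 (iv D2906) (iv F9849)
theorem F12736 : act 2 n3668 = n3668 := d14_1 D3668 (iv D3668) F9850
theorem F12737 : act 6 n3668 = n3668 := d23_2 F9852 D3668 (iv D3668)
def n3674 : Q := act 6 n2806
theorem D3674 : act 6 n2806 = n3674 := rfl
theorem F12759 : act 3 n3674 = n2812 := d20_1 D3674 (iv D2812) (iv F9867)
theorem F12761 : act 7 n3674 = n2807 := d27_2 D2806 D3674 (iv D2807) (iv D2140) D2139
def n3675 : Q := act 2 n2807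
theorem D3675 : act 2 n2807 = n3675 := rfl
theorem F12762 : act 0 n3675 = n2839 := d1_1 D3675 (iv D2839) (iv F9869)
theorem F12763 : act 5 n3675 = n2811 := d15_2 (iv F9871) D3675 (iv D2811)
def n3677 : Q := act 6 n2809
theorem D3677 : act 6 n2809 = n3677 := rfl
theorem F12769 : act 0 n3677 = n2840 := d5_1 D3677 (iv D2840) (iv F9876)
theorem F12770 : act 3 n3677 = n3677 := d20_1 D3677 (iv D3677) F9878
def n3678 : Q := act 2 n2810
theorem D3678 : act 2 n2810 = n3678 := rfl
theorem F12773 : act 0 n3678 = n2841 := d1_1 D3678 (iv D2841) (iv F9880)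
theorem F12775 : act 7 n3678 = n2811 := d17_2 (iv F9883) D3678 (iv D2811)
def n3679 : Q := act 1 n2811
theorem D3679 : act 1 n2811 = n3679 := rfl
theorem F12776 : act 4 n3679 = n3679 := d9_2 F9885 D3679 (iv D3679)
theorem F12777 : act 6 n3679 = n3679 := d11_2 F9886 D3679 (iv D3679)
def n3680 : Q := act 3 n2811
theorem D3680 : act 3 n2811 = n3680 := rfl
theorem F12778 : act 0 n3680 = n2843 := d2_1 D3680 (iv D2843) (iv F9884)
theorem F12779 : act 2 n3680 = n2816 := d13_1 D3680 (iv D2816) (iv D2147) (iv F7630) D2811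
theorem F12780 : act 6 n3680 = n3680 := d20_2 F9886 D3680 (iv D3680)
def n3681 : Q := act 2 n2812
theorem D3681 : act 2 n2812 = n3681 := rfl
theorem F12781 : act 0 n3681 = n2844 := d1_1 D3681 (iv D2844) (iv F9887)
theorem F12783 : act 5 n3681 = n2814 := d15_2 (iv F9889) D3681 (iv D2814)
theorem F12785 : act 7 n3681 = n2813 := d17_2 (iv F9890) D3681 (iv D2813)
def n3682 : Q := act 1 n2813
theorem D3682 : act 1 n2813 = n3682 := rfl
theorem F12786 : act 4 n3682 = n3682 := d9_2 F9892 D3682 (iv D3682)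
theorem F12787 : act 5 n3682 = n2815 := d10_2 (iv F9893) D3682 (iv D2815)
theorem F12788 : act 6 n3682 = n2822 := d11_2 (iv F9894) D3682 (iv D2822)
def n3683 : Q := act 3 n2813
theorem D3683 : act 3 n2813 = n3683 := rfl
theorem F12789 : act 0 n3683 = n2846 := d2_1 D3683 (iv D2846) (iv F9891)
theorem F12790 : act 5 n3683 = n2816 := d19_2 (iv F9893) D3683 (iv D2816)
theorem F12791 : act 6 n3683 = n2823 := d20_2 (iv F9894) D3683 (iv D2823)
def n3684 : Q := act 1 n2814
theorem D3684 : act 1 n2814 = n3684 := rfl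
theorem F12792 : act 4 n3684 = n2817 := d9_2 (iv F9896) D3684 (iv D2817)
theorem F12793 : act 6 n3684 = n3684 := d11_2 F9897 D3684 (iv D3684)
theorem F12794 : act 7 n3684 = n2815 := d12_2 (iv F9898) D3684 (iv D2815)
def n3685 : Q := act 3 n2814
theorem D3685 : act 3 n2814 = n3685 := rfl
theorem F12795 : act 0 n3685 = n2848 := d2_1 D3685 (iv D2848) (iv F9895)
theorem F12796 : act 6 n3685 = n3685 := d20_2 F9897 D3685 (iv D3685)
theorem F12797 : act 7 n3685 = n2816 := d21_2 (iv F9898) D3685 (iv D2816)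
def n3686 : Q := act 0 n2815
theorem D3686 : act 0 n2815 = n3686 := rfl
theorem F12798 : act 1 n3686 = n2849 := d0_2 D2815 D3686 (iv D2849) (iv D2171) (iv F7642)
theorem F12799 : act 4 n3686 = n2819 := d3_2 (iv F9899) D3686 (iv D2819)
theorem F12800 : act 6 n3686 = n2824 := d5_2 (iv F9900) D3686 (iv D2824)
def n3687 : Q := act 3 n2815
theorem D3687 : act 3 n2815 = n3687 := rfl
theorem F12801 : act 1 n3687 = n2816 := d8_1 D3687 (iv D2816) D2815
theorem F12802 : act 6 n3687 = n2825 := d20_2 (iv F9900) D3687 (iv D2825)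
def n3688 : Q := act 4 n2816
theorem D3688 : act 4 n2816 = n3688 := rfl
theorem F12803 : act 0 n3688 = n2851 := d3_1 D3688 (iv D2851) (iv F9901)
theorem F12804 : act 3 n3688 = n2821 := d18_1 D3688 (iv D2821) (iv D2150) (iv F7643) D2816
theorem F12805 : act 6 n3688 = n2826 := d23_2 (iv F9902) D3688 (iv D2826)
def n3689 : Q := act 0 n2817
theorem D3689 : act 0 n2817 = n3689 := rfl
theorem F12806 : act 1 n3689 = n2852 := d0_2 D2817 D3689 (iv D2852) (iv D2173) (iv F7645)
theorem F12807 : act 5 n3689 = n3689 := d4_2 F9903 D3689 (iv D3689)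
theorem F12808 : act 6 n3689 = n3689 := d5_2 F9904 D3689 (iv D3689)
theorem F12809 : act 7 n3689 = n2819 := d6_2 (iv F9905) D3689 (iv D2819)
def n3690 : Q := act 3 n2817
theorem D3690 : act 3 n2817 = n3690 := rfl
theorem F12810 : act 1 n3690 = n2818 := d8_1 D3690 (iv D2818) D2817
theorem F12811 : act 5 n3690 = n3690 := d19_2 F9903 D3690 (iv D3690)
theorem F12812 : act 6 n3690 = n3690 := d20_2 F9904 D3690 (iv D3690)
theorem F12813 : act 7 n3690 = n2820 := d21_2 (iv F9905) D3690 (iv D2820)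
def n3691 : Q := act 4 n2818
theorem D3691 : act 4 n2818 = n3691 := rfl
theorem F12814 : act 0 n3691 = n2854 := d3_1 D3691 (iv D2854) (iv F9906)
theorem F12815 : act 2 n3691 = n3691 := d14_1 D3691 (iv D3691) F9907
theorem F12816 : act 6 n3691 = n3691 := d23_2 F9909 D3691 (iv D3691)
theorem F12817 : act 7 n3691 = n2821 := d24_2 (iv F9910) D3691 (iv D2821)
def n3692 : Q := act 3 n2819
theorem D3692 : act 3 n2819 = n3692 := rfl
theorem F12818 : act 0 n3692 = n2820 := d2_1 D3692 (iv D2820) D2819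
theorem F12819 : act 1 n3692 = n2855 := d8_1 D3692 (iv D2855) (iv F9911)
theorem F12820 : act 5 n3692 = n3692 := d19_2 F9912 D3692 (iv D3692)
theorem F12821 : act 6 n3692 = n2827 := d20_2 (iv F9913) D3692 (iv D2827)
def n3693 : Q := act 2 n2820
theorem D3693 : act 2 n2820 = n3693 := rfl
theorem F12822 : act 1 n3693 = n3693 := d7_1 D3693 (iv D3693) F9914 F7652 (iv F9914)
theorem F12823 : act 5 n3693 = n3693 := d15_2 F9915 D3693 (iv D3693)
def n3694 : Q := act 4 n2820
theorem D3694 : act 4 n2820 = n3694 := rfl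
theorem F12824 : act 1 n3694 = n2821 := d9_1 D3694 (iv D2821) (iv F9914)
theorem F12825 : act 6 n3694 = n2829 := d23_2 (iv F9916) D3694 (iv D2829)
def n3695 : Q := act 5 n2821
theorem D3695 : act 5 n2821 = n3695 := rfl
theorem F12826 : act 0 n3695 = n2858 := d4_1 D3695 (iv D2858) (iv F9917)
theorem F12827 : act 2 n3695 = n3695 := d15_1 D3695 (iv D3695) F9918
theorem F12828 : act 4 n3695 = n3695 := d22_1 D3695 (iv D3695) (iv D2821) F7653 D2821
theorem F12829 : act 6 n3695 = n2830 := d25_2 (iv F9919) D3695 (iv D2830)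
def n3696 : Q := act 0 n2822
theorem D3696 : act 0 n2822 = n3696 := rfl
theorem F12830 : act 1 n3696 = n2859 := d0_2 D2822 D3696 (iv D2859) (iv D2178) (iv F7655)
theorem F12831 : act 2 n3696 = n3696 := d1_2 F9920 D3696 (iv D3696)
theorem F12832 : act 4 n3696 = n3696 := d3_2 F9921 D3696 (iv D3696)
theorem F12833 : act 5 n3696 = n2824 := d4_2 (iv F9922) D3696 (iv D2824)
theorem F12834 : act 7 n3696 = n3696 := d6_2 F9923 D3696 (iv D3696)
def n3697 : Q := act 3 n2822
theorem D3697 : act 3 n2822 = n3697 := rfl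
theorem F12835 : act 1 n3697 = n2823 := d8_1 D3697 (iv D2823) D2822
theorem F12836 : act 5 n3697 = n2825 := d19_2 (iv F9922) D3697 (iv D2825)
theorem F12837 : act 7 n3697 = n3697 := d21_2 F9923 D3697 (iv D3697)
def n3698 : Q := act 4 n2823
theorem D3698 : act 4 n2823 = n3698 := rfl
theorem F12838 : act 0 n3698 = n2861 := d3_1 D3698 (iv D2861) (iv F9924)
theorem F12839 : act 2 n3698 = n3698 := d14_1 D3698 (iv D3698) F9925
theorem F12840 : act 3 n3698 = n3698 := d18_1 D3698 (iv D3698) (iv D2823) F7656 D2823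
theorem F12841 : act 7 n3698 = n3698 := d24_2 F9927 D3698 (iv D3698)
def n3699 : Q := act 3 n2824
theorem D3699 : act 3 n2824 = n3699 := rfl
theorem F12842 : act 0 n3699 = n2825 := d2_1 D3699 (iv D2825) D2824
theorem F12843 : act 1 n3699 = n2862 := d8_1 D3699 (iv D2862) (iv F9928)
theorem F12844 : act 7 n3699 = n3699 := d21_2 F9931 D3699 (iv D3699)
def n3700 : Q := act 2 n2825
theorem D3700 : act 2 n2825 = n3700 := rfl
theorem F12845 : act 1 n3700 = n3700 := d7_1 D3700 (iv D3700) F9932 F7663 (iv F9932)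
theorem F12846 : act 3 n3700 = n3700 := d13_2 D2825 D3700 (iv D3700) (iv D2825) F7659
theorem F12847 : act 7 n3700 = n3700 := d17_2 F9933 D3700 (iv D3700)
def n3701 : Q := act 4 n2825
theorem D3701 : act 4 n2825 = n3701 := rfl
theorem F12848 : act 1 n3701 = n2826 := d9_1 D3701 (iv D2826) (iv F9932)
theorem F12849 : act 3 n3701 = n2829 := d18_1 D3701 (iv D2829) (iv D2155) (iv F7660) D2825
theorem F12850 : act 7 n3701 = n3701 := d24_2 F9933 D3701 (iv D3701)
def n3702 : Q := act 5 n2826
theorem D3702 : act 5 n2826 = n3702 := rfl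
theorem F12851 : act 0 n3702 = n2865 := d4_1 D3702 (iv D2865) (iv F9934)
theorem F12852 : act 2 n3702 = n3702 := d15_1 D3702 (iv D3702) F9935
theorem F12853 : act 3 n3702 = n2830 := d19_1 D3702 (iv D2830) (iv F9936)
theorem F12854 : act 7 n3702 = n3702 := d26_2 F9937 D3702 (iv D3702)
def n3703 : Q := act 2 n2827
theorem D3703 : act 2 n2827 = n3703 := rfl
theorem F12855 : act 0 n3703 = n2828 := d1_1 D3703 (iv D2828) (iv F9938)
theorem F12856 : act 1 n3703 = n3703 := d7_1 D3703 (iv D3703) F9939 F7764 (iv F9939)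
theorem F12857 : act 3 n3703 = n3703 := d13_2 D2827 D3703 (iv D3703) (iv D2827) F7666
theorem F12858 : act 5 n3703 = n3703 := d15_2 F9940 D3703 (iv D3703)
theorem F12859 : act 7 n3703 = n3703 := d17_2 F9941 D3703 (iv D3703)
def n3704 : Q := act 4 n2827
theorem D3704 : act 4 n2827 = n3704 := rfl
theorem F12860 : act 0 n3704 = n2829 := d3_1 D3704 (iv D2829) (iv F9938)
theorem F12861 : act 1 n3704 = n2866 := d9_1 D3704 (iv D2866) (iv F9939)
theorem F12862 : act 7 n3704 = n3704 := d24_2 F9941 D3704 (iv D3704)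
def n3705 : Q := act 4 n2828
theorem D3705 : act 4 n2828 = n3705 := rfl
theorem F12863 : act 1 n3705 = n2831 := d9_1 D3705 (iv D2831) (iv F9942)
theorem F12864 : act 2 n3705 = n2829 := d14_1 D3705 (iv D2829) D2828
theorem F12865 : act 7 n3705 = n3705 := d24_2 F9945 D3705 (iv D3705)
def n3706 : Q := act 6 n2828
theorem D3706 : act 6 n2828 = n3706 := rfl
theorem F12866 : act 1 n3706 = n2832 := d11_1 D3706 (iv D2832) (iv F9942)
theorem F12867 : act 3 n3706 = n3706 := d20_1 D3706 (iv D3706) F9943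
theorem F12868 : act 5 n3706 = n3706 := d25_1 D3706 (iv D3706) F9944
def n3707 : Q := act 5 n2829
theorem D3707 : act 5 n2829 = n3707 := rfl
theorem F12869 : act 1 n3707 = n2830 := d10_1 D3707 (iv D2830) (iv F9946)
theorem F12870 : act 4 n3707 = n3707 := d22_1 D3707 (iv D3707) (iv D2829) F7670 D2829
theorem F12871 : act 7 n3707 = n3707 := d26_2 F9947 D3707 (iv D3707)
def n3708 : Q := act 3 n2831
theorem D3708 : act 3 n2831 = n3708 := rfl
theorem F12872 : act 0 n3708 = n3708 := d2_1 D3708 (iv D3708) F9952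
theorem F12873 : act 2 n3708 = n3708 := d13_1 D3708 (iv D3708) F9953 F7681 (iv F9953)
theorem F12874 : act 4 n3708 = n3708 := d18_2 D2831 D3708 (iv D3708) (iv D2831) F7676
theorem F12875 : act 7 n3708 = n3708 := d21_2 F9954 D3708 (iv D3708)
def n3709 : Q := act 5 n2831
theorem D3709 : act 5 n2831 = n3709 := rfl
theorem F12876 : act 0 n3709 = n3709 := d4_1 D3709 (iv D3709) F9952
theorem F12877 : act 2 n3709 = n2833 := d15_1 D3709 (iv D2833) (iv F9953)
theorem F12878 : act 4 n3709 = n3709 := d22_1 D3709 (iv D3709) (iv D2831) F7677 D2831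
theorem F12879 : act 7 n3709 = n3709 := d26_2 F9954 D3709 (iv D3709)
def n3710 : Q := act 6 n2831
theorem D3710 : act 6 n2831 = n3710 := rfl
theorem F12880 : act 0 n3710 = n3710 := d5_1 D3710 (iv D3710) F9952
theorem F12881 : act 2 n3710 = n3710 := d16_1 D3710 (iv D3710) F9953 F7682 (iv F9953)
theorem F12882 : act 4 n3710 = n2832 := d23_1 D3710 (iv D2832) D2831
def n3711 : Q := act 7 n2832
theorem D3711 : act 7 n2832 = n3711 := rfl
theorem F12883 : act 0 n3711 = n3711 := d6_1 D3711 (iv D3711) F9955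
theorem F12884 : act 2 n3711 = n3711 := d17_1 D3711 (iv D3711) F9956
theorem F12885 : act 3 n3711 = n3711 := d21_1 D3711 (iv D3711) F9957
theorem F12886 : act 5 n3711 = n3711 := d26_1 D3711 (iv D3711) F9958
theorem F12887 : act 6 n3711 = n3711 := d27_1 D3711 (iv D3711) (iv D2832) F7678 D2832
def n3717 : Q := act 2 n2838
theorem D3717 : act 2 n2838 = n3717 := rfl
theorem F12909 : act 5 n3717 = n2841 := d15_2 (iv F9983) D3717 (iv D2841)
theorem F12910 : act 7 n3717 = n2839 := d17_2 (iv F9984) D3717 (iv D2839)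
def n3718 : Q := act 1 n2839
theorem D3718 : act 1 n2839 = n3718 := rfl
theorem F12911 : act 2 n3718 = n2948 := d7_2 D2839 D3718 (iv D2948) (iv D2244) (iv F7705)
theorem F12912 : act 5 n3718 = n2842 := d10_2 (iv F9985) D3718 (iv D2842)
def n3719 : Q := act 3 n2839
theorem D3719 : act 3 n2839 = n3719 := rfl
theorem F12914 : act 2 n3719 = n2846 := d13_1 D3719 (iv D2846) (iv D2169) (iv F7706) D2839
theorem F12915 : act 5 n3719 = n2843 := d19_2 (iv F9985) D3719 (iv D2843)
def n3720 : Q := act 2 n2840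
theorem D3720 : act 2 n2840 = n3720 := rfl
theorem F12918 : act 6 n3720 = n2841 := d16_2 D2840 D3720 (iv D2841) (iv D2166) (iv F7709)
theorem F12919 : act 7 n3720 = n3720 := d17_2 F9990 D3720 (iv D3720)
def n3721 : Q := act 1 n2841
theorem D3721 : act 1 n2841 = n3721 := rfl
theorem F12920 : act 2 n3721 = n2950 := d7_2 D2841 D3721 (iv D2950) (iv D2245) (iv F7712)
theorem F12922 : act 7 n3721 = n2842 := d12_2 (iv F9992) D3721 (iv D2842)
def n3722 : Q := act 3 n2841
theorem D3722 : act 3 n2841 = n3722 := rfl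
theorem F12923 : act 2 n3722 = n2848 := d13_1 D3722 (iv D2848) (iv D2170) (iv F7713) D2841
theorem F12924 : act 7 n3722 = n2843 := d21_2 (iv F9992) D3722 (iv D2843)
def n3723 : Q := act 0 n2842
theorem D3723 : act 0 n2842 = n3723 := rfl
theorem F12925 : act 2 n3723 = n2952 := d1_2 (iv F9993) D3723 (iv D2952)
theorem F12926 : act 4 n3723 = n3723 := d3_2 F9994 D3723 (iv D3723)
theorem F12927 : act 6 n3723 = n3723 := d5_2 F9995 D3723 (iv D3723)
def n3724 : Q := act 3 n2842
theorem D3724 : act 3 n2842 = n3724 := rfl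
theorem F12928 : act 1 n3724 = n2843 := d8_1 D3724 (iv D2843) D2842
theorem F12929 : act 6 n3724 = n3724 := d20_2 F9995 D3724 (iv D3724)
def n3725 : Q := act 4 n2843
theorem D3725 : act 4 n2843 = n3725 := rfl
theorem F12930 : act 2 n3725 = n2851 := d14_1 D3725 (iv D2851) (iv F9996)
theorem F12931 : act 3 n3725 = n3725 := d18_1 D3725 (iv D3725) (iv D2843) F7716 D2843
theorem F12932 : act 6 n3725 = n3725 := d23_2 F9997 D3725 (iv D3725)
def n3726 : Q := act 1 n2844
theorem D3726 : act 1 n2844 = n3726 := rfl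
theorem F12933 : act 2 n3726 = n2955 := d7_2 D2844 D3726 (iv D2955) (iv D2248) (iv F7718)
theorem F12935 : act 5 n3726 = n2847 := d10_2 (iv F9999) D3726 (iv D2847)
theorem F12937 : act 7 n3726 = n2845 := d12_2 (iv F10001) D3726 (iv D2845)
def n3727 : Q := act 3 n2844
theorem D3727 : act 3 n2844 = n3727 := rfl
theorem F12938 : act 5 n3727 = n2848 := d19_2 (iv F9999) D3727 (iv D2848)
theorem F12940 : act 7 n3727 = n2846 := d21_2 (iv F10001) D3727 (iv D2846)
def n3728 : Q := act 0 n2845
theorem D3728 : act 0 n2845 = n3728 := rfl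
theorem F12941 : act 2 n3728 = n2957 := d1_2 (iv F10002) D3728 (iv D2957)
theorem F12942 : act 4 n3728 = n3728 := d3_2 F10003 D3728 (iv D3728)
theorem F12943 : act 5 n3728 = n2849 := d4_2 (iv F10004) D3728 (iv D2849)
theorem F12944 : act 6 n3728 = n2859 := d5_2 (iv F10005) D3728 (iv D2859)
def n3729 : Q := act 3 n2845
theorem D3729 : act 3 n2845 = n3729 := rfl
theorem F12945 : act 1 n3729 = n2846 := d8_1 D3729 (iv D2846) D2845
theorem F12946 : act 5 n3729 = n2850 := d19_2 (iv F10004) D3729 (iv D2850)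
theorem F12947 : act 6 n3729 = n2860 := d20_2 (iv F10005) D3729 (iv D2860)
def n3730 : Q := act 4 n2846
theorem D3730 : act 4 n2846 = n3730 := rfl
theorem F12948 : act 3 n3730 = n3730 := d18_1 D3730 (iv D3730) (iv D2846) F7722 D2846
theorem F12949 : act 6 n3730 = n2861 := d23_2 (iv F10007) D3730 (iv D2861)
def n3731 : Q := act 0 n2847
theorem D3731 : act 0 n2847 = n3731 := rfl
theorem F12950 : act 2 n3731 = n2960 := d1_2 (iv F10008) D3731 (iv D2960)
theorem F12951 : act 4 n3731 = n2852 := d3_2 (iv F10009) D3731 (iv D2852)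
theorem F12952 : act 6 n3731 = n3731 := d5_2 F10010 D3731 (iv D3731)
theorem F12953 : act 7 n3731 = n2849 := d6_2 (iv F10011) D3731 (iv D2849)
def n3732 : Q := act 3 n2847
theorem D3732 : act 3 n2847 = n3732 := rfl
theorem F12954 : act 1 n3732 = n2848 := d8_1 D3732 (iv D2848) D2847
theorem F12955 : act 6 n3732 = n3732 := d20_2 F10010 D3732 (iv D3732)
theorem F12956 : act 7 n3732 = n2850 := d21_2 (iv F10011) D3732 (iv D2850)
def n3733 : Q := act 4 n2848
theorem D3733 : act 4 n2848 = n3733 := rfl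
theorem F12957 : act 3 n3733 = n2854 := d18_1 D3733 (iv D2854) (iv D2174) (iv F7725) D2848
theorem F12958 : act 6 n3733 = n3733 := d23_2 F10012 D3733 (iv D3733)
theorem F12959 : act 7 n3733 = n2851 := d24_2 (iv F10013) D3733 (iv D2851)
def n3734 : Q := act 3 n2849
theorem D3734 : act 3 n2849 = n3734 := rfl
theorem F12960 : act 0 n3734 = n2850 := d2_1 D3734 (iv D2850) D2849
theorem F12961 : act 6 n3734 = n2862 := d20_2 (iv F10016) D3734 (iv D2862)
def n3735 : Q := act 2 n2850
theorem D3735 : act 2 n2850 = n3735 := rfl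
theorem F12962 : act 3 n3735 = n2964 := d13_2 D2850 D3735 (iv D2964) (iv D2254) (iv F7728)
def n3736 : Q := act 4 n2850
theorem D3736 : act 4 n2850 = n3736 := rfl
theorem F12963 : act 1 n3736 = n2851 := d9_1 D3736 (iv D2851) (iv F10017)
theorem F12964 : act 3 n3736 = n2857 := d18_1 D3736 (iv D2857) (iv D2176) (iv F7729) D2850
theorem F12965 : act 6 n3736 = n2864 := d23_2 (iv F10018) D3736 (iv D2864)
def n3737 : Q := act 5 n2851
theorem D3737 : act 5 n2851 = n3737 := rfl
theorem F12966 : act 3 n3737 = n2858 := d19_1 D3737 (iv D2858) (iv F10019)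
theorem F12967 : act 6 n3737 = n2865 := d25_2 (iv F10020) D3737 (iv D2865)
def n3738 : Q := act 3 n2852
theorem D3738 : act 3 n2852 = n3738 := rfl
theorem F12968 : act 0 n3738 = n2853 := d2_1 D3738 (iv D2853) D2852
theorem F12969 : act 5 n3738 = n3738 := d19_2 F10022 D3738 (iv D3738)
theorem F12970 : act 6 n3738 = n3738 := d20_2 F10023 D3738 (iv D3738)
theorem F12971 : act 7 n3738 = n2855 := d21_2 (iv F10024) D3738 (iv D2855)
def n3739 : Q := act 2 n2853
theorem D3739 : act 2 n2853 = n3739 := rfl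
theorem F12972 : act 1 n3739 = n3739 := d7_1 D3739 (iv D3739) F10025 F7736 (iv F10025)
theorem F12973 : act 3 n3739 = n2968 := d13_2 D2853 D3739 (iv D2968) (iv D2257) (iv F7732)
theorem F12974 : act 5 n3739 = n3739 := d15_2 F10026 D3739 (iv D3739)
theorem F12975 : act 7 n3739 = n2856 := d17_2 (iv F10028) D3739 (iv D2856)
def n3740 : Q := act 4 n2853
theorem D3740 : act 4 n2853 = n3740 := rfl
theorem F12976 : act 1 n3740 = n2854 := d9_1 D3740 (iv D2854) (iv F10025)
theorem F12977 : act 6 n3740 = n3740 := d23_2 F10027 D3740 (iv D3740)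
theorem F12978 : act 7 n3740 = n2857 := d24_2 (iv F10028) D3740 (iv D2857)
def n3741 : Q := act 5 n2854
theorem D3741 : act 5 n2854 = n3741 := rfl
theorem F12979 : act 2 n3741 = n3741 := d15_1 D3741 (iv D3741) F10029
theorem F12980 : act 4 n3741 = n3741 := d22_1 D3741 (iv D3741) (iv D2854) F7737 D2854
theorem F12981 : act 6 n3741 = n3741 := d25_2 F10030 D3741 (iv D3741)
theorem F12982 : act 7 n3741 = n2858 := d26_2 (iv F10031) D3741 (iv D2858)
def n3742 : Q := act 2 n2855
theorem D3742 : act 2 n2855 = n3742 := rfl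
theorem F12983 : act 0 n3742 = n2856 := d1_1 D3742 (iv D2856) (iv F10032)
theorem F12984 : act 3 n3742 = n2971 := d13_2 D2855 D3742 (iv D2971) (iv D2259) (iv F7740)
theorem F12985 : act 5 n3742 = n3742 := d15_2 F10033 D3742 (iv D3742)
theorem F12986 : act 6 n3742 = n3742 := d16_2 (iv F10034) D3742 (iv D3742) F10034 F7764
def n3743 : Q := act 4 n2855
theorem D3743 : act 4 n2855 = n3743 := rfl
theorem F12987 : act 0 n3743 = n2857 := d3_1 D3743 (iv D2857) (iv F10032)
theorem F12988 : act 6 n3743 = n2866 := d23_2 (iv F10034) D3743 (iv D2866)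
def n3744 : Q := act 4 n2856
theorem D3744 : act 4 n2856 = n3744 := rfl
theorem F12989 : act 1 n3744 = n3744 := d9_1 D3744 (iv D3744) F10035
theorem F12990 : act 2 n3744 = n2857 := d14_1 D3744 (iv D2857) D2856
theorem F12991 : act 6 n3744 = n3744 := d23_2 F10038 D3744 (iv D3744)
def n3745 : Q := act 5 n2857
theorem D3745 : act 5 n2857 = n3745 := rfl
theorem F12992 : act 1 n3745 = n2858 := d10_1 D3745 (iv D2858) (iv F10039)
theorem F12993 : act 4 n3745 = n3745 := d22_1 D3745 (iv D3745) (iv D2857) F7744 D2857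
theorem F12994 : act 6 n3745 = n2867 := d25_2 (iv F10040) D3745 (iv D2867)
def n3746 : Q := act 3 n2859
theorem D3746 : act 3 n2859 = n3746 := rfl
theorem F12995 : act 0 n3746 = n2860 := d2_1 D3746 (iv D2860) D2859
theorem F12996 : act 5 n3746 = n2862 := d19_2 (iv F10046) D3746 (iv D2862)
theorem F12997 : act 7 n3746 = n3746 := d21_2 F10047 D3746 (iv D3746)
def n3747 : Q := act 2 n2860
theorem D3747 : act 2 n2860 = n3747 := rfl
theorem F12998 : act 1 n3747 = n3747 := d7_1 D3747 (iv D3747) F10048 F7752 (iv F10048)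
theorem F12999 : act 3 n3747 = n2869 := d13_2 D2860 D3747 (iv D2869) (iv D2187) (iv F7748)
theorem F13000 : act 5 n3747 = n2863 := d15_2 (iv F10049) D3747 (iv D2863)
theorem F13001 : act 7 n3747 = n3747 := d17_2 F10050 D3747 (iv D3747)
def n3748 : Q := act 4 n2860
theorem D3748 : act 4 n2860 = n3748 := rfl
theorem F13002 : act 1 n3748 = n2861 := d9_1 D3748 (iv D2861) (iv F10048)
theorem F13003 : act 3 n3748 = n3748 := d18_1 D3748 (iv D3748) (iv D2860) F7749 D2860
theorem F13004 : act 7 n3748 = n3748 := d24_2 F10050 D3748 (iv D3748)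
def n3749 : Q := act 5 n2861
theorem D3749 : act 5 n2861 = n3749 := rfl
theorem F13005 : act 2 n3749 = n3749 := d15_1 D3749 (iv D3749) F10051
theorem F13006 : act 3 n3749 = n3749 := d19_1 D3749 (iv D3749) F10052
theorem F13007 : act 4 n3749 = n2865 := d22_1 D3749 (iv D2865) (iv D2182) (iv F7753) D2861
theorem F13008 : act 7 n3749 = n3749 := d26_2 F10053 D3749 (iv D3749)
def n3750 : Q := act 2 n2862
theorem D3750 : act 2 n2862 = n3750 := rfl
theorem F13009 : act 0 n3750 = n2863 := d1_1 D3750 (iv D2863) (iv F10054)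
theorem F13010 : act 3 n3750 = n2871 := d13_2 D2862 D3750 (iv D2871) (iv D2189) (iv F7755)
theorem F13011 : act 7 n3750 = n3750 := d17_2 F10055 D3750 (iv D3750)
def n3751 : Q := act 4 n2862
theorem D3751 : act 4 n2862 = n3751 := rfl
theorem F13012 : act 0 n3751 = n2864 := d3_1 D3751 (iv D2864) (iv F10054)
theorem F13013 : act 3 n3751 = n2866 := d18_1 D3751 (iv D2866) (iv D2183) (iv F7756) D2862
theorem F13014 : act 7 n3751 = n3751 := d24_2 F10055 D3751 (iv D3751)
def n3752 : Q := act 4 n2863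
theorem D3752 : act 4 n2863 = n3752 := rfl
theorem F13015 : act 1 n3752 = n3752 := d9_1 D3752 (iv D3752) F10056
theorem F13016 : act 2 n3752 = n2864 := d14_1 D3752 (iv D2864) D2863
theorem F13017 : act 3 n3752 = n3752 := d18_1 D3752 (iv D3752) F10057 F7794 (iv F10057)
theorem F13018 : act 7 n3752 = n3752 := d24_2 F10058 D3752 (iv D3752)
def n3753 : Q := act 6 n2863
theorem D3753 : act 6 n2863 = n3753 := rfl
theorem F13019 : act 1 n3753 = n3753 := d11_1 D3753 (iv D3753) F10056
theorem F13020 : act 3 n3753 = n2872 := d20_1 D3753 (iv D2872) (iv F10057)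
def n3754 : Q := act 5 n2864
theorem D3754 : act 5 n2864 = n3754 := rfl
theorem F13021 : act 1 n3754 = n2865 := d10_1 D3754 (iv D2865) (iv F10059)
theorem F13022 : act 3 n3754 = n2867 := d19_1 D3754 (iv D2867) (iv F10060)
theorem F13023 : act 7 n3754 = n3754 := d26_2 F10061 D3754 (iv D3754)
def n3755 : Q := act 5 n2866
theorem D3755 : act 5 n2866 = n3755 := rfl
theorem F13024 : act 0 n3755 = n2867 := d4_1 D3755 (iv D2867) (iv F10065)
theorem F13025 : act 2 n3755 = n3755 := d15_1 D3755 (iv D3755) F10066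
theorem F13026 : act 4 n3755 = n3755 := d22_1 D3755 (iv D3755) (iv D2866) F7765 D2866
theorem F13027 : act 7 n3755 = n3755 := d26_2 F10067 D3755 (iv D3755)
def n3756 : Q := act 2 n2868
theorem D3756 : act 2 n2868 = n3756 := rfl
theorem F13028 : act 0 n3756 = n2869 := d1_1 D3756 (iv D2869) (iv F10072)
theorem F13029 : act 5 n3756 = n2871 := d15_2 (iv F10074) D3756 (iv D2871)
theorem F13030 : act 7 n3756 = n3756 := d17_2 F10076 D3756 (iv D3756)
def n3757 : Q := act 4 n2868
theorem D3757 : act 4 n2868 = n3757 := rfl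
theorem F13031 : act 0 n3757 = n2870 := d3_1 D3757 (iv D2870) (iv F10072)
theorem F13032 : act 1 n3757 = n3757 := d9_1 D3757 (iv D3757) F10073
theorem F13033 : act 3 n3757 = n3757 := d18_1 D3757 (iv D3757) (iv D2868) F7774 D2868
theorem F13034 : act 5 n3757 = n3757 := d22_2 (iv F10074) D3757 (iv D3757) F10074 F7790
theorem F13035 : act 6 n3757 = n2986 := d23_2 (iv F10075) D3757 (iv D2986)
theorem F13036 : act 7 n3757 = n3757 := d24_2 F10076 D3757 (iv D3757)
def n3758 : Q := act 4 n2869
theorem D3758 : act 4 n2869 = n3758 := rfl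
theorem F13037 : act 1 n3758 = n3758 := d9_1 D3758 (iv D3758) F10077
theorem F13038 : act 2 n3758 = n2870 := d14_1 D3758 (iv D2870) D2869
theorem F13039 : act 5 n3758 = n3758 := d22_2 (iv F10078) D3758 (iv D3758) F10078 F7794
theorem F13040 : act 7 n3758 = n3758 := d24_2 F10079 D3758 (iv D3758)
def n3759 : Q := act 6 n2869
theorem D3759 : act 6 n2869 = n3759 := rfl
theorem F13041 : act 1 n3759 = n3759 := d11_1 D3759 (iv D3759) F10077
theorem F13042 : act 2 n3759 = n2988 := d16_1 D3759 (iv D2988) (iv D2273) (iv F7780) D2869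
theorem F13043 : act 5 n3759 = n2872 := d25_1 D3759 (iv D2872) (iv F10078)
def n3760 : Q := act 1 n2871
theorem D3760 : act 1 n2871 = n3760 := rfl
theorem F13044 : act 0 n3760 = n3760 := d0_1 D3760 (iv D3760) F10085 F7793 (iv F10085)
theorem F13045 : act 2 n3760 = n3760 := d7_2 D2871 D3760 (iv D3760) (iv D2871) F7789
theorem F13046 : act 4 n3760 = n3760 := d9_2 F10086 D3760 (iv D3760)
theorem F13047 : act 7 n3760 = n3760 := d12_2 F10087 D3760 (iv D3760)
def n3761 : Q := act 6 n2871
theorem D3761 : act 6 n2871 = n3761 := rfl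
theorem F13048 : act 0 n3761 = n2872 := d5_1 D3761 (iv D2872) (iv F10085)
theorem F13049 : act 2 n3761 = n2990 := d16_1 D3761 (iv D2990) (iv D2275) (iv F7791) D2871
theorem F13050 : act 4 n3761 = n3761 := d23_1 D3761 (iv D3761) F10086
def n3762 : Q := act 7 n2872
theorem D3762 : act 7 n2872 = n3762 := rfl
theorem F13051 : act 1 n3762 = n3762 := d12_1 D3762 (iv D3762) F10088
theorem F13052 : act 2 n3762 = n2991 := d17_1 D3762 (iv D2991) (iv F10089)
theorem F13053 : act 4 n3762 = n3762 := d24_1 D3762 (iv D3762) F10090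
theorem F13054 : act 6 n3762 = n3762 := d27_1 D3762 (iv D3762) (iv D2872) F7795 D2872
def n3768 : Q := act 6 n2875
theorem D3768 : act 6 n2875 = n3768 := rfl
theorem F13072 : act 1 n3768 = n2996 := d11_1 D3768 (iv D2996) (iv F10097)
def n3772 : Q := act 2 n2878
theorem D3772 : act 2 n2878 = n3772 := rfl
theorem F13086 : act 6 n3772 = n2887 := d16_2 D2878 D3772 (iv D2887) (iv D2199) (iv F7803)
def n3773 : Q := act 2 n2879
theorem D3773 : act 2 n2879 = n3773 := rfl
theorem F13088 : act 4 n3773 = n2881 := d14_2 (iv F10112) D3773 (iv D2881)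
def n3774 : Q := act 7 n2879
theorem D3774 : act 7 n2879 = n3774 := rfl
theorem F13090 : act 1 n3774 = n2907 := d12_1 D3774 (iv D2907) (iv F10110)
def n3776 : Q := act 3 n2881
theorem D3776 : act 3 n2881 = n3776 := rfl
theorem F13099 : act 2 n3776 = n2888 := d13_1 D3776 (iv D2888) (iv D2200) (iv F7810) D2881
theorem F13100 : act 5 n3776 = n2884 := d19_2 (iv F10119) D3776 (iv D2884)
def n3777 : Q := act 7 n2881
theorem D3777 : act 7 n2881 = n3777 := rfl
theorem F13102 : act 2 n3777 = n2882 := d17_1 D3777 (iv D2882) D2881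
theorem F13103 : act 5 n3777 = n2885 := d26_1 D3777 (iv D2885) (iv F10119)
def n3778 : Q := act 6 n2882
theorem D3778 : act 6 n2882 = n3778 := rfl
theorem F13104 : act 1 n3778 = n2909 := d11_1 D3778 (iv D2909) (iv F10120)
theorem F13105 : act 3 n3778 = n2890 := d20_1 D3778 (iv D2890) (iv F10121)
theorem F13106 : act 5 n3778 = n2886 := d25_1 D3778 (iv D2886) (iv F10122)
theorem F13107 : act 7 n3778 = n2883 := d27_2 D2882 D3778 (iv D2883) (iv D2196) D2195
def n3779 : Q := act 2 n2883
theorem D3779 : act 2 n2883 = n3779 := rfl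
theorem F13108 : act 5 n3779 = n2887 := d15_2 (iv F10125) D3779 (iv D2887)
def n3780 : Q := act 4 n2884
theorem D3780 : act 4 n2884 = n3780 := rfl
theorem F13110 : act 2 n3780 = n2892 := d14_1 D3780 (iv D2892) (iv F10127)
def n3781 : Q := act 7 n2884
theorem D3781 : act 7 n2884 = n3781 := rfl
theorem F13113 : act 2 n3781 = n2893 := d17_1 D3781 (iv D2893) (iv F10127)
theorem F13114 : act 3 n3781 = n2885 := d21_1 D3781 (iv D2885) D2884
def n3782 : Q := act 6 n2885
theorem D3782 : act 6 n2885 = n3782 := rfl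
def n3783 : Q := act 2 n2886
theorem D3783 : act 2 n2886 = n3783 := rfl
theorem F13118 : act 7 n3783 = n2887 := d17_2 (iv F10134) D3783 (iv D2887)
def n3784 : Q := act 1 n2887
theorem D3784 : act 1 n2887 = n3784 := rfl
theorem F13119 : act 2 n3784 = n2912 := d7_2 D2887 D3784 (iv D2912) (iv D2218) (iv F7820)
theorem F13120 : act 4 n3784 = n3784 := d9_2 F10135 D3784 (iv D3784)
def n3785 : Q := act 3 n2887
theorem D3785 : act 3 n2887 = n3785 := rfl
theorem F13121 : act 2 n3785 = n2897 := d13_1 D3785 (iv D2897) (iv D2206) (iv F7821) D2887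
def n3787 : Q := act 7 n2888
theorem D3787 : act 7 n2888 = n3787 := rfl
theorem F13126 : act 3 n3787 = n2889 := d21_1 D3787 (iv D2889) D2888
def n3788 : Q := act 6 n2889
theorem D3788 : act 6 n2889 = n3788 := rfl
theorem F13128 : act 1 n3788 = n3227 := d11_1 D3788 (iv D3227) (iv F10139)
theorem F13130 : act 5 n3788 = n2894 := d25_1 D3788 (iv D2894) (iv F10142)
def n3789 : Q := act 2 n2890
theorem D3789 : act 2 n2890 = n3789 := rfl
theorem F13133 : act 5 n3789 = n2895 := d15_2 (iv F10145) D3789 (iv D2895)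
theorem F13134 : act 7 n3789 = n2891 := d17_2 (iv F10146) D3789 (iv D2891)
def n3790 : Q := act 1 n2891
theorem D3790 : act 1 n2891 = n3790 := rfl
theorem F13135 : act 2 n3790 = n2915 := d7_2 D2891 D3790 (iv D2915) (iv D2220) (iv F7830)
theorem F13136 : act 4 n3790 = n3790 := d9_2 F10147 D3790 (iv D3790)
theorem F13137 : act 5 n3790 = n2896 := d10_2 (iv F10148) D3790 (iv D2896)
theorem F13138 : act 6 n3790 = n3790 := d11_2 F10149 D3790 (iv D3790)
def n3791 : Q := act 3 n2891
theorem D3791 : act 3 n2891 = n3791 := rfl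
theorem F13139 : act 5 n3791 = n2897 := d19_2 (iv F10148) D3791 (iv D2897)
theorem F13140 : act 6 n3791 = n3791 := d20_2 F10149 D3791 (iv D3791)
def n3792 : Q := act 5 n2892
theorem D3792 : act 5 n2892 = n3792 := rfl
theorem F13141 : act 1 n3792 = n3231 := d10_1 D3792 (iv D3231) (iv F10150)
def n3793 : Q := act 7 n2892
theorem D3793 : act 7 n2892 = n3793 := rfl
theorem F13144 : act 1 n3793 = n3232 := d12_1 D3793 (iv D3232) (iv F10150)
theorem F13145 : act 3 n3793 = n2899 := d21_1 D3793 (iv D2899) (iv F10151)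
theorem F13146 : act 4 n3793 = n2893 := d24_1 D3793 (iv D2893) D2892
def n3794 : Q := act 6 n2893
theorem D3794 : act 6 n2893 = n3794 := rfl
theorem F13147 : act 1 n3794 = n3233 := d11_1 D3794 (iv D3233) (iv F10153)
theorem F13148 : act 3 n3794 = n2894 := d20_1 D3794 (iv D2894) (iv F10154)
def n3795 : Q := act 2 n2894
theorem D3795 : act 2 n2894 = n3795 := rfl
theorem F13150 : act 4 n3795 = n2901 := d14_2 (iv F10156) D3795 (iv D2901)
theorem F13151 : act 6 n3795 = n2895 := d16_2 D2894 D3795 (iv D2895) (iv D2205) (iv F7836)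
def n3796 : Q := act 1 n2895
theorem D3796 : act 1 n2895 = n3796 := rfl
theorem F13153 : act 2 n3796 = n2917 := d7_2 D2895 D3796 (iv D2917) (iv D2221) (iv F7838)
theorem F13154 : act 4 n3796 = n2902 := d9_2 (iv F10158) D3796 (iv D2902)
theorem F13155 : act 7 n3796 = n2896 := d12_2 (iv F10159) D3796 (iv D2896)
def n3797 : Q := act 3 n2895
theorem D3797 : act 3 n2895 = n3797 := rfl
theorem F13156 : act 7 n3797 = n2897 := d21_2 (iv F10159) D3797 (iv D2897)
def n3798 : Q := act 0 n2896
theorem D3798 : act 0 n2896 = n3798 := rfl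
theorem F13157 : act 2 n3798 = n2919 := d1_2 (iv F10160) D3798 (iv D2919)
theorem F13158 : act 4 n3798 = n2904 := d3_2 (iv F10161) D3798 (iv D2904)
theorem F13159 : act 6 n3798 = n3798 := d5_2 F10162 D3798 (iv D3798)
def n3799 : Q := act 3 n2896
theorem D3799 : act 3 n2896 = n3799 := rfl
theorem F13160 : act 1 n3799 = n2897 := d8_1 D3799 (iv D2897) D2896
theorem F13161 : act 6 n3799 = n3799 := d20_2 F10162 D3799 (iv D3799)
def n3800 : Q := act 4 n2897
theorem D3800 : act 4 n2897 = n3800 := rfl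
theorem F13162 : act 3 n3800 = n2906 := d18_1 D3800 (iv D2906) (iv D2212) (iv F7841) D2897
theorem F13163 : act 6 n3800 = n3800 := d23_2 F10163 D3800 (iv D3800)
def n3802 : Q := act 6 n2899
theorem D3802 : act 6 n2899 = n3802 := rfl
theorem F13169 : act 4 n3802 = n2900 := d23_1 D3802 (iv D2900) (iv F10170)
def n3803 : Q := act 2 n2900
theorem D3803 : act 2 n2900 = n3803 := rfl
def n3804 : Q := act 1 n2901
theorem D3804 : act 1 n2901 = n3804 := rfl
theorem F13174 : act 2 n3804 = n3243 := d7_2 D2901 D3804 (iv D3243) (iv D2468) (iv F7850)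
theorem F13175 : act 5 n3804 = n3804 := d10_2 F10175 D3804 (iv D3804)
theorem F13176 : act 6 n3804 = n2902 := d11_2 (iv F10176) D3804 (iv D2902)
theorem F13177 : act 7 n3804 = n3804 := d12_2 F10177 D3804 (iv D3804)
def n3805 : Q := act 3 n2901
theorem D3805 : act 3 n2901 = n3805 := rfl
theorem F13178 : act 5 n3805 = n3805 := d19_2 F10175 D3805 (iv D3805)
theorem F13179 : act 6 n3805 = n2903 := d20_2 (iv F10176) D3805 (iv D2903)
theorem F13180 : act 7 n3805 = n3805 := d21_2 F10177 D3805 (iv D3805)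
def n3806 : Q := act 0 n2902
theorem D3806 : act 0 n2902 = n3806 := rfl
theorem F13181 : act 2 n3806 = n2922 := d1_2 (iv F10178) D3806 (iv D2922)
theorem F13182 : act 5 n3806 = n3806 := d4_2 F10179 D3806 (iv D3806)
theorem F13183 : act 7 n3806 = n2904 := d6_2 (iv F10180) D3806 (iv D2904)
def n3807 : Q := act 3 n2902
theorem D3807 : act 3 n2902 = n3807 := rfl
theorem F13184 : act 1 n3807 = n2903 := d8_1 D3807 (iv D2903) D2902
theorem F13185 : act 5 n3807 = n3807 := d19_2 F10179 D3807 (iv D3807)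
theorem F13186 : act 7 n3807 = n2905 := d21_2 (iv F10180) D3807 (iv D2905)
def n3808 : Q := act 4 n2903
theorem D3808 : act 4 n2903 = n3808 := rfl
theorem F13187 : act 2 n3808 = n3808 := d14_1 D3808 (iv D3808) F10181
theorem F13188 : act 7 n3808 = n2906 := d24_2 (iv F10183) D3808 (iv D2906)
def n3809 : Q := act 3 n2904
theorem D3809 : act 3 n2904 = n3809 := rfl
theorem F13189 : act 0 n3809 = n2905 := d2_1 D3809 (iv D2905) D2904
theorem F13190 : act 5 n3809 = n3809 := d19_2 F10185 D3809 (iv D3809)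
theorem F13191 : act 6 n3809 = n3809 := d20_2 F10186 D3809 (iv D3809)
def n3810 : Q := act 2 n2905
theorem D3810 : act 2 n2905 = n3810 := rfl
theorem F13192 : act 1 n3810 = n3810 := d7_1 D3810 (iv D3810) F10187 F7858 (iv F10187)
theorem F13193 : act 3 n3810 = n2926 := d13_2 D2905 D3810 (iv D2926) (iv D2227) (iv F7855)
theorem F13194 : act 5 n3810 = n3810 := d15_2 F10188 D3810 (iv D3810)
def n3811 : Q := act 4 n2905
theorem D3811 : act 4 n2905 = n3811 := rfl
theorem F13195 : act 1 n3811 = n2906 := d9_1 D3811 (iv D2906) (iv F10187)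
theorem F13196 : act 6 n3811 = n3811 := d23_2 F10189 D3811 (iv D3811)
def n3812 : Q := act 5 n2906
theorem D3812 : act 5 n2906 = n3812 := rfl
theorem F13197 : act 2 n3812 = n3812 := d15_1 D3812 (iv D3812) F10190
theorem F13198 : act 4 n3812 = n3812 := d22_1 D3812 (iv D3812) (iv D2906) F7859 D2906
theorem F13199 : act 6 n3812 = n3812 := d25_2 F10191 D3812 (iv D3812)
def n3813 : Q := act 6 n2907
theorem D3813 : act 6 n2907 = n3813 := rfl
theorem F13200 : act 0 n3813 = n2945 := d5_1 D3813 (iv D2945) (iv F10192)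
theorem F13204 : act 7 n3813 = n2908 := d27_2 D2907 D3813 (iv D2908) (iv D2214) D2213
def n3814 : Q := act 2 n2908
theorem D3814 : act 2 n2908 = n3814 := rfl
theorem F13208 : act 6 n3814 = n3012 := d16_2 D2908 D3814 (iv D3012) (iv D2291) (iv F7867)
def n3815 : Q := act 2 n2909
theorem D3815 : act 2 n2909 = n3815 := rfl
theorem F13209 : act 0 n3815 = n2947 := d1_1 D3815 (iv D2947) (iv F10201)
theorem F13212 : act 7 n3815 = n2910 := d17_2 (iv F10204) D3815 (iv D2910)
def n3816 : Q := act 1 n2910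
theorem D3816 : act 1 n2910 = n3816 := rfl
theorem F13213 : act 5 n3816 = n2912 := d10_2 (iv F10206) D3816 (iv D2912)
theorem F13214 : act 6 n3816 = n3013 := d11_2 (iv F10207) D3816 (iv D3013)
def n3817 : Q := act 3 n2910
theorem D3817 : act 3 n2910 = n3817 := rfl
theorem F13215 : act 0 n3817 = n2949 := d2_1 D3817 (iv D2949) (iv F10205)
theorem F13216 : act 2 n3817 = n2916 := d13_1 D3817 (iv D2916) (iv D2220) (iv F7876) D2910
def n3818 : Q := act 1 n2911
theorem D3818 : act 1 n2911 = n3818 := rfl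
theorem F13221 : act 7 n3818 = n2912 := d12_2 (iv F10211) D3818 (iv D2912)
def n3819 : Q := act 3 n2911
theorem D3819 : act 3 n2911 = n3819 := rfl
theorem F13222 : act 0 n3819 = n2951 := d2_1 D3819 (iv D2951) (iv F10208)
theorem F13223 : act 2 n3819 = n2918 := d13_1 D3819 (iv D2918) (iv D2221) (iv F7879) D2911
theorem F13225 : act 7 n3819 = n2913 := d21_2 (iv F10211) D3819 (iv D2913)
def n3820 : Q := act 0 n2912
theorem D3820 : act 0 n2912 = n3820 := rfl
theorem F13226 : act 1 n3820 = n2952 := d0_2 D2912 D3820 (iv D2952) (iv D2246) (iv F7882)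
theorem F13227 : act 4 n3820 = n3820 := d3_2 F10212 D3820 (iv D3820)
theorem F13228 : act 6 n3820 = n3015 := d5_2 (iv F10213) D3820 (iv D3015)
def n3821 : Q := act 3 n2912
theorem D3821 : act 3 n2912 = n3821 := rfl
theorem F13229 : act 1 n3821 = n2913 := d8_1 D3821 (iv D2913) D2912
theorem F13230 : act 6 n3821 = n3016 := d20_2 (iv F10213) D3821 (iv D3016)
def n3822 : Q := act 4 n2913
theorem D3822 : act 4 n2913 = n3822 := rfl
theorem F13231 : act 0 n3822 = n2954 := d3_1 D3822 (iv D2954) (iv F10214)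
theorem F13232 : act 2 n3822 = n2921 := d14_1 D3822 (iv D2921) (iv F10215)
theorem F13233 : act 3 n3822 = n3822 := d18_1 D3822 (iv D3822) (iv D2913) F7883 D2913
theorem F13234 : act 6 n3822 = n3017 := d23_2 (iv F10216) D3822 (iv D3017)
def n3823 : Q := act 1 n2914
theorem D3823 : act 1 n2914 = n3823 := rfl
theorem F13236 : act 5 n3823 = n2917 := d10_2 (iv F10219) D3823 (iv D2917)
theorem F13237 : act 6 n3823 = n3252 := d11_2 (iv F10220) D3823 (iv D3252)
theorem F13238 : act 7 n3823 = n2915 := d12_2 (iv F10221) D3823 (iv D2915)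
def n3824 : Q := act 3 n2914
theorem D3824 : act 3 n2914 = n3824 := rfl
theorem F13239 : act 0 n3824 = n2956 := d2_1 D3824 (iv D2956) (iv F10217)
theorem F13241 : act 6 n3824 = n3253 := d20_2 (iv F10220) D3824 (iv D3253)
theorem F13242 : act 7 n3824 = n2916 := d21_2 (iv F10221) D3824 (iv D2916)
def n3825 : Q := act 0 n2915
theorem D3825 : act 0 n2915 = n3825 := rfl
theorem F13243 : act 1 n3825 = n2957 := d0_2 D2915 D3825 (iv D2957) (iv D2249) (iv F7889)
theorem F13244 : act 4 n3825 = n3825 := d3_2 F10222 D3825 (iv D3825)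
theorem F13245 : act 5 n3825 = n2919 := d4_2 (iv F10223) D3825 (iv D2919)
theorem F13246 : act 6 n3825 = n2929 := d5_2 (iv F10224) D3825 (iv D2929)
def n3826 : Q := act 3 n2915
theorem D3826 : act 3 n2915 = n3826 := rfl
theorem F13247 : act 1 n3826 = n2916 := d8_1 D3826 (iv D2916) D2915
theorem F13248 : act 5 n3826 = n2920 := d19_2 (iv F10223) D3826 (iv D2920)
theorem F13249 : act 6 n3826 = n2930 := d20_2 (iv F10224) D3826 (iv D2930)
def n3827 : Q := act 4 n2916
theorem D3827 : act 4 n2916 = n3827 := rfl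
theorem F13250 : act 0 n3827 = n2959 := d3_1 D3827 (iv D2959) (iv F10225)
theorem F13251 : act 3 n3827 = n3827 := d18_1 D3827 (iv D3827) (iv D2916) F7890 D2916
theorem F13252 : act 6 n3827 = n2931 := d23_2 (iv F10227) D3827 (iv D2931)
def n3828 : Q := act 0 n2917
theorem D3828 : act 0 n2917 = n3828 := rfl
theorem F13253 : act 1 n3828 = n2960 := d0_2 D2917 D3828 (iv D2960) (iv D2251) (iv F7893)
theorem F13254 : act 4 n3828 = n2922 := d3_2 (iv F10228) D3828 (iv D2922)
theorem F13255 : act 6 n3828 = n3257 := d5_2 (iv F10229) D3828 (iv D3257)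
theorem F13256 : act 7 n3828 = n2919 := d6_2 (iv F10230) D3828 (iv D2919)
def n3829 : Q := act 3 n2917
theorem D3829 : act 3 n2917 = n3829 := rfl
theorem F13257 : act 1 n3829 = n2918 := d8_1 D3829 (iv D2918) D2917
theorem F13258 : act 6 n3829 = n3258 := d20_2 (iv F10229) D3829 (iv D3258)
theorem F13259 : act 7 n3829 = n2920 := d21_2 (iv F10230) D3829 (iv D2920)
def n3830 : Q := act 4 n2918
theorem D3830 : act 4 n2918 = n3830 := rfl
theorem F13260 : act 0 n3830 = n2962 := d3_1 D3830 (iv D2962) (iv F10231)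
theorem F13261 : act 3 n3830 = n2924 := d18_1 D3830 (iv D2924) (iv D2225) (iv F7894) D2918
theorem F13262 : act 6 n3830 = n3259 := d23_2 (iv F10232) D3830 (iv D3259)
theorem F13263 : act 7 n3830 = n2921 := d24_2 (iv F10233) D3830 (iv D2921)
def n3831 : Q := act 3 n2919
theorem D3831 : act 3 n2919 = n3831 := rfl
theorem F13264 : act 0 n3831 = n2920 := d2_1 D3831 (iv D2920) D2919
theorem F13265 : act 1 n3831 = n2963 := d8_1 D3831 (iv D2963) (iv F10234)
theorem F13266 : act 6 n3831 = n2932 := d20_2 (iv F10236) D3831 (iv D2932)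
def n3832 : Q := act 2 n2920
theorem D3832 : act 2 n2920 = n3832 := rfl
def n3833 : Q := act 4 n2920
theorem D3833 : act 4 n2920 = n3833 := rfl
theorem F13267 : act 1 n3833 = n2921 := d9_1 D3833 (iv D2921) (iv F10237)
theorem F13268 : act 3 n3833 = n2927 := d18_1 D3833 (iv D2927) (iv D2227) (iv F7897) D2920
theorem F13269 : act 6 n3833 = n2934 := d23_2 (iv F10238) D3833 (iv D2934)
def n3834 : Q := act 5 n2921
theorem D3834 : act 5 n2921 = n3834 := rfl
theorem F13270 : act 0 n3834 = n2966 := d4_1 D3834 (iv D2966) (iv F10239)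
theorem F13272 : act 6 n3834 = n2935 := d25_2 (iv F10241) D3834 (iv D2935)
def n3835 : Q := act 3 n2922
theorem D3835 : act 3 n2922 = n3835 := rfl
theorem F13273 : act 0 n3835 = n2923 := d2_1 D3835 (iv D2923) D2922
theorem F13274 : act 1 n3835 = n2967 := d8_1 D3835 (iv D2967) (iv F10242)
theorem F13275 : act 5 n3835 = n3835 := d19_2 F10243 D3835 (iv D3835)
theorem F13276 : act 6 n3835 = n3264 := d20_2 (iv F10244) D3835 (iv D3264)
theorem F13277 : act 7 n3835 = n2925 := d21_2 (iv F10245) D3835 (iv D2925)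
def n3836 : Q := act 2 n2923
theorem D3836 : act 2 n2923 = n3836 := rfl
theorem F13278 : act 1 n3836 = n3836 := d7_1 D3836 (iv D3836) F10246 F7905 (iv F10246)
theorem F13279 : act 5 n3836 = n3836 := d15_2 F10247 D3836 (iv D3836)
theorem F13280 : act 7 n3836 = n2926 := d17_2 (iv F10249) D3836 (iv D2926)
def n3837 : Q := act 4 n2923
theorem D3837 : act 4 n2923 = n3837 := rfl
theorem F13281 : act 1 n3837 = n2924 := d9_1 D3837 (iv D2924) (iv F10246)
theorem F13282 : act 6 n3837 = n3266 := d23_2 (iv F10248) D3837 (iv D3266)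
theorem F13283 : act 7 n3837 = n2927 := d24_2 (iv F10249) D3837 (iv D2927)
def n3839 : Q := act 2 n2925
theorem D3839 : act 2 n2925 = n3839 := rfl
theorem F13289 : act 0 n3839 = n2926 := d1_1 D3839 (iv D2926) (iv F10254)
theorem F13290 : act 5 n3839 = n3839 := d15_2 F10256 D3839 (iv D3839)
def n3840 : Q := act 4 n2925
theorem D3840 : act 4 n2925 = n3840 := rfl
theorem F13291 : act 0 n3840 = n2927 := d3_1 D3840 (iv D2927) (iv F10254)
theorem F13292 : act 1 n3840 = n2972 := d9_1 D3840 (iv D2972) (iv F10255)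
theorem F13293 : act 6 n3840 = n2937 := d23_2 (iv F10257) D3840 (iv D2937)
def n3841 : Q := act 4 n2926
theorem D3841 : act 4 n2926 = n3841 := rfl
theorem F13295 : act 2 n3841 = n2927 := d14_1 D3841 (iv D2927) D2926
def n3842 : Q := act 6 n2926
theorem D3842 : act 6 n2926 = n3842 := rfl
theorem F13297 : act 2 n3842 = n2939 := d16_1 D3842 (iv D2939) (iv D2235) (iv F7914) D2926
def n3844 : Q := act 3 n2929
theorem D3844 : act 3 n2929 = n3844 := rfl
theorem F13302 : act 0 n3844 = n2930 := d2_1 D3844 (iv D2930) D2929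
theorem F13303 : act 1 n3844 = n2975 := d8_1 D3844 (iv D2975) (iv F10266)
theorem F13304 : act 5 n3844 = n2932 := d19_2 (iv F10269) D3844 (iv D2932)
theorem F13305 : act 7 n3844 = n3273 := d21_2 (iv F10270) D3844 (iv D3273)
def n3845 : Q := act 2 n2930
theorem D3845 : act 2 n2930 = n3845 := rfl
theorem F13306 : act 1 n3845 = n3031 := d7_1 D3845 (iv D3031) F8176 (iv F7923) (iv F10271)
theorem F13307 : act 3 n3845 = n3845 := d13_2 D2930 D3845 (iv D3845) (iv D2930) F7918
theorem F13308 : act 5 n3845 = n2933 := d15_2 (iv F10272) D3845 (iv D2933)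
theorem F13309 : act 7 n3845 = n3274 := d17_2 (iv F10273) D3845 (iv D3274)
def n3846 : Q := act 4 n2930
theorem D3846 : act 4 n2930 = n3846 := rfl
theorem F13310 : act 1 n3846 = n2931 := d9_1 D3846 (iv D2931) (iv F10271)
theorem F13311 : act 3 n3846 = n3846 := d18_1 D3846 (iv D3846) (iv D2930) F7919 D2930
theorem F13312 : act 7 n3846 = n3275 := d24_2 (iv F10273) D3846 (iv D3275)
def n3847 : Q := act 5 n2931
theorem D3847 : act 5 n2931 = n3847 := rfl
theorem F13313 : act 0 n3847 = n2978 := d4_1 D3847 (iv D2978) (iv F10274)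
theorem F13314 : act 2 n3847 = n3033 := d15_1 D3847 (iv D3033) (iv F10275)
def n3848 : Q := act 2 n2932
theorem D3848 : act 2 n2932 = n3848 := rfl
theorem F13318 : act 0 n3848 = n2933 := d1_1 D3848 (iv D2933) (iv F10278)
theorem F13319 : act 3 n3848 = n3848 := d13_2 D2932 D3848 (iv D3848) (iv D2932) F7927
theorem F13320 : act 7 n3848 = n3277 := d17_2 (iv F10280) D3848 (iv D3277)
def n3849 : Q := act 4 n2932
theorem D3849 : act 4 n2932 = n3849 := rfl
theorem F13321 : act 0 n3849 = n2934 := d3_1 D3849 (iv D2934) (iv F10278)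
theorem F13322 : act 1 n3849 = n2980 := d9_1 D3849 (iv D2980) (iv F10279)
theorem F13323 : act 3 n3849 = n2937 := d18_1 D3849 (iv D2937) (iv D2234) (iv F7928) D2932
theorem F13324 : act 7 n3849 = n3278 := d24_2 (iv F10280) D3849 (iv D3278)
def n3850 : Q := act 4 n2933
theorem D3850 : act 4 n2933 = n3850 := rfl
theorem F13325 : act 1 n3850 = n3036 := d9_1 D3850 (iv D3036) (iv F10281)
theorem F13326 : act 2 n3850 = n2934 := d14_1 D3850 (iv D2934) D2933
theorem F13327 : act 7 n3850 = n3279 := d24_2 (iv F10283) D3850 (iv D3279)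
def n3851 : Q := act 6 n2933
theorem D3851 : act 6 n2933 = n3851 := rfl
theorem F13329 : act 3 n3851 = n3851 := d20_1 D3851 (iv D3851) F10282
def n3852 : Q := act 5 n2934
theorem D3852 : act 5 n2934 = n3852 := rfl
theorem F13330 : act 1 n3852 = n2935 := d10_1 D3852 (iv D2935) (iv F10284)
theorem F13332 : act 7 n3852 = n3281 := d26_2 (iv F10286) D3852 (iv D3281)
def n3853 : Q := act 4 n2936
theorem D3853 : act 4 n2936 = n3853 := rfl
theorem F13333 : act 0 n3853 = n2938 := d3_1 D3853 (iv D2938) (iv F10291)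
theorem F13335 : act 2 n3853 = n2937 := d14_1 D3853 (iv D2937) D2936
theorem F13336 : act 7 n3853 = n3282 := d24_2 (iv F10295) D3853 (iv D3282)
def n3854 : Q := act 6 n2936
theorem D3854 : act 6 n2936 = n3854 := rfl
def n3857 : Q := act 5 n2938
theorem D3857 : act 5 n2938 = n3857 := rfl
theorem F13348 : act 1 n3857 = n2942 := d10_1 D3857 (iv D2942) (iv F10299)
def n3864 : Q := act 2 n2945
theorem D3864 : act 2 n2945 = n3864 := rfl
theorem F13376 : act 7 n3864 = n2946 := d17_2 (iv F10327) D3864 (iv D2946)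
def n3865 : Q := act 1 n2946
theorem D3865 : act 1 n2946 = n3865 := rfl
theorem F13377 : act 4 n3865 = n2948 := d9_2 (iv F10328) D3865 (iv D2948)
theorem F13379 : act 6 n3865 = n3050 := d11_2 (iv F10330) D3865 (iv D3050)
def n3866 : Q := act 3 n2946
theorem D3866 : act 3 n2946 = n3866 := rfl
def n3867 : Q := act 1 n2947
theorem D3867 : act 1 n2947 = n3867 := rfl
theorem F13383 : act 5 n3867 = n2950 := d10_2 (iv F10331) D3867 (iv D2950)
theorem F13385 : act 7 n3867 = n2948 := d12_2 (iv F10333) D3867 (iv D2948)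
def n3868 : Q := act 3 n2947
theorem D3868 : act 3 n2947 = n3868 := rfl
theorem F13386 : act 2 n3868 = n2956 := d13_1 D3868 (iv D2956) (iv D2248) (iv F7970) D2947
theorem F13387 : act 5 n3868 = n2951 := d19_2 (iv F10331) D3868 (iv D2951)
theorem F13389 : act 7 n3868 = n2949 := d21_2 (iv F10333) D3868 (iv D2949)
def n3869 : Q := act 0 n2948
theorem D3869 : act 0 n2948 = n3869 := rfl
theorem F13390 : act 5 n3869 = n2952 := d4_2 (iv F10334) D3869 (iv D2952)
theorem F13391 : act 6 n3869 = n3052 := d5_2 (iv F10335) D3869 (iv D3052)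
def n3870 : Q := act 3 n2948
theorem D3870 : act 3 n2948 = n3870 := rfl
theorem F13392 : act 1 n3870 = n2949 := d8_1 D3870 (iv D2949) D2948
theorem F13393 : act 5 n3870 = n2953 := d19_2 (iv F10334) D3870 (iv D2953)
theorem F13394 : act 6 n3870 = n3053 := d20_2 (iv F10335) D3870 (iv D3053)
def n3871 : Q := act 4 n2949
theorem D3871 : act 4 n2949 = n3871 := rfl
theorem F13395 : act 2 n3871 = n2959 := d14_1 D3871 (iv D2959) (iv F10336)
theorem F13396 : act 6 n3871 = n3054 := d23_2 (iv F10338) D3871 (iv D3054)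
def n3872 : Q := act 0 n2950
theorem D3872 : act 0 n2950 = n3872 := rfl
theorem F13397 : act 4 n3872 = n3872 := d3_2 F10339 D3872 (iv D3872)
theorem F13398 : act 6 n3872 = n3872 := d5_2 F10340 D3872 (iv D3872)
theorem F13399 : act 7 n3872 = n2952 := d6_2 (iv F10341) D3872 (iv D2952)
def n3873 : Q := act 3 n2950
theorem D3873 : act 3 n2950 = n3873 := rfl
theorem F13400 : act 1 n3873 = n2951 := d8_1 D3873 (iv D2951) D2950
theorem F13401 : act 6 n3873 = n3873 := d20_2 F10340 D3873 (iv D3873)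
theorem F13402 : act 7 n3873 = n2953 := d21_2 (iv F10341) D3873 (iv D2953)
def n3874 : Q := act 4 n2951
theorem D3874 : act 4 n2951 = n3874 := rfl
theorem F13403 : act 2 n3874 = n2962 := d14_1 D3874 (iv D2962) (iv F10342)
theorem F13404 : act 3 n3874 = n3874 := d18_1 D3874 (iv D3874) (iv D2951) F7975 D2951
theorem F13405 : act 6 n3874 = n3874 := d23_2 F10343 D3874 (iv D3874)
theorem F13406 : act 7 n3874 = n2954 := d24_2 (iv F10344) D3874 (iv D2954)
def n3875 : Q := act 3 n2952
theorem D3875 : act 3 n2952 = n3875 := rfl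
theorem F13407 : act 0 n3875 = n2953 := d2_1 D3875 (iv D2953) D2952
theorem F13408 : act 6 n3875 = n3055 := d20_2 (iv F10346) D3875 (iv D3055)
def n3876 : Q := act 2 n2953
theorem D3876 : act 2 n2953 = n3876 := rfl
theorem F13409 : act 1 n3876 = n2964 := d7_1 D3876 (iv D2964) F7998 (iv F7980) (iv F10347)
def n3877 : Q := act 4 n2953
theorem D3877 : act 4 n2953 = n3877 := rfl
theorem F13410 : act 1 n3877 = n2954 := d9_1 D3877 (iv D2954) (iv F10347)
theorem F13411 : act 3 n3877 = n3877 := d18_1 D3877 (iv D3877) (iv D2953) F7978 D2953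
theorem F13412 : act 6 n3877 = n3057 := d23_2 (iv F10348) D3877 (iv D3057)
def n3878 : Q := act 5 n2954
theorem D3878 : act 5 n2954 = n3878 := rfl
theorem F13413 : act 2 n3878 = n2966 := d15_1 D3878 (iv D2966) (iv F10349)
theorem F13414 : act 3 n3878 = n3878 := d19_1 D3878 (iv D3878) F10350
theorem F13415 : act 6 n3878 = n3058 := d25_2 (iv F10351) D3878 (iv D3058)
def n3879 : Q := act 0 n2955
theorem D3879 : act 0 n2955 = n3879 := rfl
theorem F13416 : act 4 n3879 = n3879 := d3_2 F10352 D3879 (iv D3879)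
theorem F13417 : act 5 n3879 = n2960 := d4_2 (iv F10353) D3879 (iv D2960)
theorem F13418 : act 6 n3879 = n3293 := d5_2 (iv F10354) D3879 (iv D3293)
theorem F13419 : act 7 n3879 = n2957 := d6_2 (iv F10355) D3879 (iv D2957)
def n3880 : Q := act 3 n2955
theorem D3880 : act 3 n2955 = n3880 := rfl
theorem F13420 : act 1 n3880 = n2956 := d8_1 D3880 (iv D2956) D2955
theorem F13421 : act 5 n3880 = n2961 := d19_2 (iv F10353) D3880 (iv D2961)
theorem F13422 : act 6 n3880 = n3294 := d20_2 (iv F10354) D3880 (iv D3294)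
theorem F13423 : act 7 n3880 = n2958 := d21_2 (iv F10355) D3880 (iv D2958)
def n3881 : Q := act 4 n2956
theorem D3881 : act 4 n2956 = n3881 := rfl
theorem F13424 : act 3 n3881 = n3881 := d18_1 D3881 (iv D3881) (iv D2956) F7982 D2956
theorem F13425 : act 6 n3881 = n3295 := d23_2 (iv F10357) D3881 (iv D3295)
theorem F13426 : act 7 n3881 = n2959 := d24_2 (iv F10358) D3881 (iv D2959)
def n3882 : Q := act 3 n2957
theorem D3882 : act 3 n2957 = n3882 := rfl
theorem F13427 : act 0 n3882 = n2958 := d2_1 D3882 (iv D2958) D2957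
theorem F13428 : act 5 n3882 = n2963 := d19_2 (iv F10360) D3882 (iv D2963)
theorem F13429 : act 6 n3882 = n2975 := d20_2 (iv F10361) D3882 (iv D2975)
def n3883 : Q := act 2 n2958
theorem D3883 : act 2 n2958 = n3883 := rfl
theorem F13430 : act 5 n3883 = n2964 := d15_2 (iv F10363) D3883 (iv D2964)
def n3884 : Q := act 4 n2958
theorem D3884 : act 4 n2958 = n3884 := rfl
theorem F13431 : act 1 n3884 = n2959 := d9_1 D3884 (iv D2959) (iv F10362)
theorem F13433 : act 6 n3884 = n2977 := d23_2 (iv F10364) D3884 (iv D2977)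
def n3885 : Q := act 5 n2959
theorem D3885 : act 5 n2959 = n3885 := rfl
theorem F13434 : act 3 n3885 = n3885 := d19_1 D3885 (iv D3885) F10365
theorem F13435 : act 4 n3885 = n2966 := d22_1 D3885 (iv D2966) (iv D2255) (iv F7989) D2959
theorem F13436 : act 6 n3885 = n2978 := d25_2 (iv F10366) D3885 (iv D2978)
def n3886 : Q := act 3 n2960
theorem D3886 : act 3 n2960 = n3886 := rfl
theorem F13437 : act 0 n3886 = n2961 := d2_1 D3886 (iv D2961) D2960
theorem F13438 : act 6 n3886 = n3300 := d20_2 (iv F10368) D3886 (iv D3300)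
theorem F13439 : act 7 n3886 = n2963 := d21_2 (iv F10369) D3886 (iv D2963)
def n3887 : Q := act 2 n2961
theorem D3887 : act 2 n2961 = n3887 := rfl
theorem F13440 : act 7 n3887 = n2964 := d17_2 (iv F10372) D3887 (iv D2964)
def n3888 : Q := act 4 n2961
theorem D3888 : act 4 n2961 = n3888 := rfl
theorem F13441 : act 1 n3888 = n2962 := d9_1 D3888 (iv D2962) (iv F10370)
theorem F13442 : act 3 n3888 = n2969 := d18_1 D3888 (iv D2969) (iv D2257) (iv F7991) D2961
theorem F13443 : act 6 n3888 = n3302 := d23_2 (iv F10371) D3888 (iv D3302)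
theorem F13444 : act 7 n3888 = n2965 := d24_2 (iv F10372) D3888 (iv D2965)
def n3889 : Q := act 5 n2962
theorem D3889 : act 5 n2962 = n3889 := rfl
theorem F13445 : act 3 n3889 = n2970 := d19_1 D3889 (iv D2970) (iv F10373)
theorem F13446 : act 6 n3889 = n3303 := d25_2 (iv F10374) D3889 (iv D3303)
theorem F13447 : act 7 n3889 = n2966 := d26_2 (iv F10375) D3889 (iv D2966)
def n3890 : Q := act 2 n2963
theorem D3890 : act 2 n2963 = n3890 := rfl
theorem F13448 : act 0 n3890 = n2964 := d1_1 D3890 (iv D2964) (iv F10376)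
def n3891 : Q := act 4 n2963
theorem D3891 : act 4 n2963 = n3891 := rfl
theorem F13449 : act 0 n3891 = n2965 := d3_1 D3891 (iv D2965) (iv F10376)
theorem F13450 : act 3 n3891 = n2972 := d18_1 D3891 (iv D2972) (iv D2259) (iv F7996) D2963
theorem F13451 : act 6 n3891 = n2980 := d23_2 (iv F10377) D3891 (iv D2980)
def n3892 : Q := act 4 n2964
theorem D3892 : act 4 n2964 = n3892 := rfl
theorem F13452 : act 2 n3892 = n2965 := d14_1 D3892 (iv D2965) D2964
def n3893 : Q := act 6 n2964
theorem D3893 : act 6 n2964 = n3893 := rfl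
theorem F13453 : act 2 n3893 = n2982 := d16_1 D3893 (iv D2982) (iv D2267) (iv F7999) D2964
def n3894 : Q := act 5 n2965
theorem D3894 : act 5 n2965 = n3894 := rfl
theorem F13454 : act 1 n3894 = n2966 := d10_1 D3894 (iv D2966) (iv F10378)
theorem F13455 : act 3 n3894 = n2974 := d19_1 D3894 (iv D2974) (iv F10379)
theorem F13456 : act 6 n3894 = n2983 := d25_2 (iv F10380) D3894 (iv D2983)
def n3895 : Q := act 2 n2967
theorem D3895 : act 2 n2967 = n3895 := rfl
theorem F13457 : act 0 n3895 = n2968 := d1_1 D3895 (iv D2968) (iv F10383)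
theorem F13458 : act 5 n3895 = n3895 := d15_2 F10384 D3895 (iv D3895)
theorem F13459 : act 7 n3895 = n2971 := d17_2 (iv F10386) D3895 (iv D2971)
def n3896 : Q := act 4 n2967
theorem D3896 : act 4 n2967 = n3896 := rfl
theorem F13460 : act 0 n3896 = n2969 := d3_1 D3896 (iv D2969) (iv F10383)
theorem F13461 : act 6 n3896 = n3310 := d23_2 (iv F10385) D3896 (iv D3310)
theorem F13462 : act 7 n3896 = n2972 := d24_2 (iv F10386) D3896 (iv D2972)
def n3897 : Q := act 4 n2968
theorem D3897 : act 4 n2968 = n3897 := rfl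
theorem F13463 : act 1 n3897 = n3897 := d9_1 D3897 (iv D3897) F10387
theorem F13464 : act 2 n3897 = n2969 := d14_1 D3897 (iv D2969) D2968
theorem F13465 : act 7 n3897 = n2973 := d24_2 (iv F10389) D3897 (iv D2973)
def n3898 : Q := act 6 n2968
theorem D3898 : act 6 n2968 = n3898 := rfl
theorem F13466 : act 1 n3898 = n3898 := d11_1 D3898 (iv D3898) F10387
theorem F13467 : act 2 n3898 = n3312 := d16_1 D3898 (iv D3312) (iv D2518) (iv F8007) D2968
theorem F13468 : act 5 n3898 = n3898 := d25_1 D3898 (iv D3898) F10388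
theorem F13469 : act 7 n3898 = n3898 := d27_2 (iv F10389) D3898 (iv D3898) F10389 F8017
def n3899 : Q := act 5 n2969
theorem D3899 : act 5 n2969 = n3899 := rfl
theorem F13470 : act 1 n3899 = n2970 := d10_1 D3899 (iv D2970) (iv F10390)
theorem F13471 : act 4 n3899 = n3899 := d22_1 D3899 (iv D3899) (iv D2969) F8006 D2969
theorem F13472 : act 6 n3899 = n3313 := d25_2 (iv F10391) D3899 (iv D3313)
theorem F13473 : act 7 n3899 = n2974 := d26_2 (iv F10392) D3899 (iv D2974)
def n3900 : Q := act 1 n2971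
theorem D3900 : act 1 n2971 = n3900 := rfl
theorem F13474 : act 0 n3900 = n3900 := d0_1 D3900 (iv D3900) F10397 F8015 (iv F10397)
theorem F13475 : act 5 n3900 = n3900 := d10_2 F10398 D3900 (iv D3900)
theorem F13476 : act 6 n3900 = n3900 := d11_2 F10399 D3900 (iv D3900)
def n3901 : Q := act 4 n2971
theorem D3901 : act 4 n2971 = n3901 := rfl
theorem F13477 : act 0 n3901 = n2973 := d3_1 D3901 (iv D2973) (iv F10397)
theorem F13478 : act 2 n3901 = n2972 := d14_1 D3901 (iv D2972) D2971
theorem F13479 : act 6 n3901 = n3901 := d23_2 F10399 D3901 (iv D3901)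
def n3902 : Q := act 5 n2972
theorem D3902 : act 5 n2972 = n3902 := rfl
theorem F13480 : act 0 n3902 = n2974 := d4_1 D3902 (iv D2974) (iv F10400)
theorem F13481 : act 4 n3902 = n3902 := d22_1 D3902 (iv D3902) (iv D2972) F8013 D2972
theorem F13482 : act 6 n3902 = n2984 := d25_2 (iv F10401) D3902 (iv D2984)
def n3903 : Q := act 3 n2973
theorem D3903 : act 3 n2973 = n3903 := rfl
theorem F13483 : act 1 n3903 = n3903 := d8_1 D3903 (iv D3903) F10402
theorem F13484 : act 6 n3903 = n3903 := d20_2 F10404 D3903 (iv D3903)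
def n3904 : Q := act 5 n2973
theorem D3904 : act 5 n2973 = n3904 := rfl
theorem F13485 : act 1 n3904 = n3904 := d10_1 D3904 (iv D3904) F10402
theorem F13486 : act 2 n3904 = n2974 := d15_1 D3904 (iv D2974) (iv F10403)
theorem F13487 : act 4 n3904 = n3904 := d22_1 D3904 (iv D3904) (iv D2973) F8016 D2973
theorem F13488 : act 6 n3904 = n3904 := d25_2 F10404 D3904 (iv D3904)
def n3905 : Q := act 2 n2975
theorem D3905 : act 2 n2975 = n3905 := rfl
theorem F13489 : act 0 n3905 = n2976 := d1_1 D3905 (iv D2976) (iv F10408)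
theorem F13491 : act 5 n3905 = n2979 := d15_2 (iv F10409) D3905 (iv D2979)
theorem F13492 : act 7 n3905 = n3319 := d17_2 (iv F10410) D3905 (iv D3319)
def n3906 : Q := act 4 n2975
theorem D3906 : act 4 n2975 = n3906 := rfl
theorem F13493 : act 0 n3906 = n2977 := d3_1 D3906 (iv D2977) (iv F10408)
theorem F13495 : act 7 n3906 = n3320 := d24_2 (iv F10410) D3906 (iv D3320)
def n3907 : Q := act 4 n2976
theorem D3907 : act 4 n2976 = n3907 := rfl
theorem F13496 : act 1 n3907 = n3075 := d9_1 D3907 (iv D3075) (iv F10411)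
theorem F13497 : act 2 n3907 = n2977 := d14_1 D3907 (iv D2977) D2976
theorem F13498 : act 7 n3907 = n3321 := d24_2 (iv F10414) D3907 (iv D3321)
def n3908 : Q := act 6 n2976
theorem D3908 : act 6 n2976 = n3908 := rfl
def n3909 : Q := act 5 n2977
theorem D3909 : act 5 n2977 = n3909 := rfl
theorem F13502 : act 1 n3909 = n2978 := d10_1 D3909 (iv D2978) (iv F10415)
def n3910 : Q := act 1 n2979
theorem D3910 : act 1 n2979 = n3910 := rfl
theorem F13506 : act 0 n3910 = n3078 := d0_1 D3910 (iv D3078) F8294 (iv F8035) (iv F10422)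
theorem F13507 : act 3 n3910 = n2989 := d8_2 (iv F10423) D3910 (iv D2989)
theorem F13508 : act 7 n3910 = n3324 := d12_2 (iv F10424) D3910 (iv D3324)
def n3911 : Q := act 4 n2979
theorem D3911 : act 4 n2979 = n3911 := rfl
theorem F13509 : act 0 n3911 = n2981 := d3_1 D3911 (iv D2981) (iv F10422)
theorem F13510 : act 2 n3911 = n2980 := d14_1 D3911 (iv D2980) D2979
theorem F13511 : act 3 n3911 = n3911 := d18_1 D3911 (iv D3911) F10423 F8063 (iv F10423)
theorem F13512 : act 7 n3911 = n3325 := d24_2 (iv F10424) D3911 (iv D3325)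
def n3912 : Q := act 6 n2979
theorem D3912 : act 6 n2979 = n3912 := rfl
theorem F13513 : act 0 n3912 = n2982 := d5_1 D3912 (iv D2982) (iv F10422)
theorem F13514 : act 3 n3912 = n2990 := d20_1 D3912 (iv D2990) (iv F10423)
def n3913 : Q := act 5 n2980
theorem D3913 : act 5 n2980 = n3913 := rfl
theorem F13515 : act 0 n3913 = n2983 := d4_1 D3913 (iv D2983) (iv F10425)
def n3914 : Q := act 5 n2981
theorem D3914 : act 5 n2981 = n3914 := rfl
theorem F13518 : act 1 n3914 = n3082 := d10_1 D3914 (iv D3082) (iv F10428)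
theorem F13519 : act 2 n3914 = n2983 := d15_1 D3914 (iv D2983) (iv F10429)
theorem F13521 : act 7 n3914 = n3328 := d26_2 (iv F10431) D3914 (iv D3328)
def n3915 : Q := act 6 n2981
theorem D3915 : act 6 n2981 = n3915 := rfl
theorem F13522 : act 1 n3915 = n3083 := d11_1 D3915 (iv D3083) (iv F10428)
theorem F13523 : act 3 n3915 = n3915 := d20_1 D3915 (iv D3915) F10430
theorem F13524 : act 4 n3915 = n2982 := d23_1 D3915 (iv D2982) D2981
def n3916 : Q := act 7 n2982
theorem D3916 : act 7 n2982 = n3916 := rfl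
theorem F13525 : act 1 n3916 = n3084 := d12_1 D3916 (iv D3084) (iv F10432)
theorem F13526 : act 3 n3916 = n2991 := d21_1 D3916 (iv D2991) (iv F10433)
theorem F13527 : act 6 n3916 = n3330 := d27_1 D3916 (iv D3330) (iv D2532) (iv F8037) D2982
def n3917 : Q := act 1 n2985
theorem D3917 : act 1 n2985 = n3917 := rfl
theorem F13528 : act 0 n3917 = n3085 := d0_1 D3917 (iv D3085) F8311 (iv F8055) (iv F10441)
def n3918 : Q := act 4 n2985
theorem D3918 : act 4 n2985 = n3918 := rfl
theorem F13532 : act 0 n3918 = n2987 := d3_1 D3918 (iv D2987) (iv F10441)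
theorem F13533 : act 2 n3918 = n2986 := d14_1 D3918 (iv D2986) D2985
theorem F13535 : act 7 n3918 = n3332 := d24_2 (iv F10443) D3918 (iv D3332)
def n3919 : Q := act 6 n2985
theorem D3919 : act 6 n2985 = n3919 := rfl
theorem F13537 : act 5 n3919 = n2990 := d25_1 D3919 (iv D2990) (iv F10442)
def n3920 : Q := act 3 n2987
theorem D3920 : act 3 n2987 = n3920 := rfl
theorem F13538 : act 1 n3920 = n3088 := d8_1 D3920 (iv D3088) (iv F10449)
theorem F13541 : act 7 n3920 = n3334 := d21_2 (iv F10452) D3920 (iv D3334)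
def n3921 : Q := act 6 n2987
theorem D3921 : act 6 n2987 = n3921 := rfl
def n3922 : Q := act 7 n2988
theorem D3922 : act 7 n2988 = n3922 := rfl
theorem F13546 : act 5 n3922 = n2991 := d26_1 D3922 (iv D2991) (iv F10454)
def n3923 : Q := act 6 n2989
theorem D3923 : act 6 n2989 = n3923 := rfl
theorem F13549 : act 1 n3923 = n2990 := d11_1 D3923 (iv D2990) D2989
def n3924 : Q := act 7 n2990
theorem D3924 : act 7 n2990 = n3924 := rfl
theorem F13551 : act 0 n3924 = n2991 := d6_1 D3924 (iv D2991) (iv F10459)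
theorem F13552 : act 4 n3924 = n3924 := d24_1 D3924 (iv D3924) F10460
theorem F13553 : act 6 n3924 = n3338 := d27_1 D3924 (iv D3338) (iv D2540) (iv F8064) D2990
def n3930 : Q := act 2 n2996
theorem D3930 : act 2 n2996 = n3930 := rfl
theorem F13575 : act 5 n3930 = n2998 := d15_2 (iv F10482) D3930 (iv D2998)
theorem F13576 : act 6 n3930 = n3000 := d16_2 D2996 D3930 (iv D3000) (iv D2283) (iv F8075)
def n3932 : Q := act 1 n2998
theorem D3932 : act 1 n2998 = n3932 := rfl
theorem F13581 : act 4 n3932 = n3932 := d9_2 F10488 D3932 (iv D3932)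
theorem F13582 : act 6 n3932 = n3001 := d11_2 (iv F10489) D3932 (iv D3001)
def n3933 : Q := act 3 n2998
theorem D3933 : act 3 n2998 = n3933 := rfl
theorem F13583 : act 0 n3933 = n3933 := d2_1 D3933 (iv D3933) F10487
theorem F13584 : act 2 n3933 = n3933 := d13_1 D3933 (iv D3933) (iv D2998) F8083 D2998
theorem F13585 : act 6 n3933 = n3002 := d20_2 (iv F10489) D3933 (iv D3002)
def n3934 : Q := act 2 n2999
theorem D3934 : act 2 n2999 = n3934 := rfl
theorem F13587 : act 4 n3934 = n3000 := d14_2 (iv F10493) D3934 (iv D3000)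
def n3935 : Q := act 1 n3000
theorem D3935 : act 1 n3000 = n3935 := rfl
theorem F13590 : act 2 n3935 = n3013 := d7_2 D3000 D3935 (iv D3013) (iv D2292) (iv F8091)
theorem F13591 : act 5 n3935 = n3001 := d10_2 (iv F10497) D3935 (iv D3001)
theorem F13592 : act 7 n3935 = n3935 := d12_2 F10498 D3935 (iv D3935)
def n3936 : Q := act 3 n3000
theorem D3936 : act 3 n3000 = n3936 := rfl
theorem F13593 : act 0 n3936 = n3936 := d2_1 D3936 (iv D3936) F10496
theorem F13594 : act 2 n3936 = n3004 := d13_1 D3936 (iv D3004) (iv D2285) (iv F8092) D3000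
theorem F13595 : act 5 n3936 = n3002 := d19_2 (iv F10497) D3936 (iv D3002)
theorem F13596 : act 7 n3936 = n3936 := d21_2 F10498 D3936 (iv D3936)
def n3937 : Q := act 0 n3001
theorem D3937 : act 0 n3001 = n3937 := rfl
theorem F13597 : act 1 n3937 = n3937 := d0_2 D3001 D3937 (iv D3937) (iv D3001) F8095
theorem F13598 : act 2 n3937 = n3015 := d1_2 (iv F10499) D3937 (iv D3015)
theorem F13599 : act 4 n3937 = n3937 := d3_2 F10500 D3937 (iv D3937)
theorem F13600 : act 7 n3937 = n3937 := d6_2 F10501 D3937 (iv D3937)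
def n3938 : Q := act 3 n3001
theorem D3938 : act 3 n3001 = n3938 := rfl
theorem F13601 : act 1 n3938 = n3002 := d8_1 D3938 (iv D3002) D3001
theorem F13602 : act 7 n3938 = n3938 := d21_2 F10501 D3938 (iv D3938)
def n3939 : Q := act 4 n3002
theorem D3939 : act 4 n3002 = n3939 := rfl
theorem F13603 : act 0 n3939 = n3939 := d3_1 D3939 (iv D3939) F10502
theorem F13604 : act 2 n3939 = n3007 := d14_1 D3939 (iv D3007) (iv F10503)
theorem F13605 : act 3 n3939 = n3939 := d18_1 D3939 (iv D3939) (iv D3002) F8096 D3002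
theorem F13606 : act 7 n3939 = n3939 := d24_2 F10504 D3939 (iv D3939)
def n3940 : Q := act 0 n3003
theorem D3940 : act 0 n3003 = n3940 := rfl
theorem F13610 : act 5 n3940 = n3005 := d4_2 (iv F10507) D3940 (iv D3005)
def n3941 : Q := act 3 n3003
theorem D3941 : act 3 n3003 = n3941 := rfl
theorem F13613 : act 1 n3941 = n3004 := d8_1 D3941 (iv D3004) D3003
theorem F13614 : act 5 n3941 = n3006 := d19_2 (iv F10507) D3941 (iv D3006)
theorem F13615 : act 6 n3941 = n3941 := d20_2 F10508 D3941 (iv D3941)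
theorem F13616 : act 7 n3941 = n3941 := d21_2 F10509 D3941 (iv D3941)
def n3942 : Q := act 4 n3004
theorem D3942 : act 4 n3004 = n3942 := rfl
theorem F13618 : act 3 n3942 = n3110 := d18_1 D3942 (iv D3110) (iv D2366) (iv F8099) D3004
def n3943 : Q := act 3 n3005
theorem D3943 : act 3 n3005 = n3943 := rfl
theorem F13621 : act 0 n3943 = n3006 := d2_1 D3943 (iv D3006) D3005
theorem F13622 : act 1 n3943 = n3943 := d8_1 D3943 (iv D3943) F10514
theorem F13623 : act 6 n3943 = n3943 := d20_2 F10517 D3943 (iv D3943)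
theorem F13624 : act 7 n3943 = n3943 := d21_2 F10518 D3943 (iv D3943)
def n3944 : Q := act 2 n3006
theorem D3944 : act 2 n3006 = n3944 := rfl
theorem F13625 : act 3 n3944 = n3022 := d13_2 D3006 D3944 (iv D3022) (iv D2298) (iv F8103)
theorem F13626 : act 7 n3944 = n3944 := d17_2 F10521 D3944 (iv D3944)
def n3945 : Q := act 4 n3006
theorem D3945 : act 4 n3006 = n3945 := rfl
theorem F13628 : act 3 n3945 = n3010 := d18_1 D3945 (iv D3010) (iv D2289) (iv F8104) D3006
def n3946 : Q := act 5 n3007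
theorem D3946 : act 5 n3007 = n3946 := rfl
theorem F13632 : act 3 n3946 = n3011 := d19_1 D3946 (iv D3011) (iv F10523)
def n3947 : Q := act 2 n3008
theorem D3947 : act 2 n3008 = n3947 := rfl
theorem F13635 : act 0 n3947 = n3009 := d1_1 D3947 (iv D3009) (iv F10526)
theorem F13636 : act 3 n3947 = n3025 := d13_2 D3008 D3947 (iv D3025) (iv D2300) (iv F8111)
theorem F13637 : act 5 n3947 = n3115 := d15_2 (iv F10528) D3947 (iv D3115)
def n3949 : Q := act 4 n3009
theorem D3949 : act 4 n3009 = n3949 := rfl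
theorem F13644 : act 2 n3949 = n3010 := d14_1 D3949 (iv D3010) D3009
def n3950 : Q := act 6 n3009
theorem D3950 : act 6 n3009 = n3950 := rfl
theorem F13649 : act 5 n3950 = n3118 := d25_1 D3950 (iv D3118) (iv F10533)
def n3951 : Q := act 5 n3010
theorem D3951 : act 5 n3010 = n3951 := rfl
theorem F13650 : act 1 n3951 = n3011 := d10_1 D3951 (iv D3011) (iv F10535)
def n3952 : Q := act 1 n3012
theorem D3952 : act 1 n3012 = n3952 := rfl
theorem F13654 : act 4 n3952 = n3013 := d9_2 (iv F10544) D3952 (iv D3013)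
def n3953 : Q := act 3 n3012
theorem D3953 : act 3 n3012 = n3953 := rfl
theorem F13657 : act 0 n3953 = n3051 := d2_1 D3953 (iv D3051) (iv F10543)
theorem F13658 : act 2 n3953 = n3121 := d13_1 D3953 (iv D3121) (iv D2374) (iv F8124) D3012
def n3954 : Q := act 0 n3013
theorem D3954 : act 0 n3013 = n3954 := rfl
theorem F13661 : act 1 n3954 = n3052 := d0_2 D3013 D3954 (iv D3052) (iv D2321) (iv F8128)
theorem F13662 : act 5 n3954 = n3015 := d4_2 (iv F10547) D3954 (iv D3015)
theorem F13663 : act 7 n3954 = n3954 := d6_2 F10548 D3954 (iv D3954)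
def n3955 : Q := act 3 n3013
theorem D3955 : act 3 n3013 = n3955 := rfl
theorem F13664 : act 1 n3955 = n3014 := d8_1 D3955 (iv D3014) D3013
theorem F13665 : act 5 n3955 = n3016 := d19_2 (iv F10547) D3955 (iv D3016)
theorem F13666 : act 7 n3955 = n3955 := d21_2 F10548 D3955 (iv D3955)
def n3956 : Q := act 4 n3014
theorem D3956 : act 4 n3014 = n3956 := rfl
theorem F13667 : act 0 n3956 = n3054 := d3_1 D3956 (iv D3054) (iv F10549)
theorem F13668 : act 2 n3956 = n3020 := d14_1 D3956 (iv D3020) (iv F10550)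
theorem F13669 : act 7 n3956 = n3956 := d24_2 F10552 D3956 (iv D3956)
def n3957 : Q := act 3 n3015
theorem D3957 : act 3 n3015 = n3957 := rfl
theorem F13670 : act 0 n3957 = n3016 := d2_1 D3957 (iv D3016) D3015
theorem F13671 : act 1 n3957 = n3055 := d8_1 D3957 (iv D3055) (iv F10553)
theorem F13672 : act 7 n3957 = n3957 := d21_2 F10555 D3957 (iv D3957)
def n3958 : Q := act 2 n3016
theorem D3958 : act 2 n3016 = n3958 := rfl
theorem F13673 : act 1 n3958 = n3022 := d7_1 D3958 (iv D3022) F8148 (iv F8134) (iv F10556)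
theorem F13674 : act 7 n3958 = n3958 := d17_2 F10557 D3958 (iv D3958)
def n3959 : Q := act 4 n3016
theorem D3959 : act 4 n3016 = n3959 := rfl
theorem F13675 : act 1 n3959 = n3017 := d9_1 D3959 (iv D3017) (iv F10556)
theorem F13676 : act 3 n3959 = n3959 := d18_1 D3959 (iv D3959) (iv D3016) F8131 D3016
theorem F13677 : act 7 n3959 = n3959 := d24_2 F10557 D3959 (iv D3959)
def n3962 : Q := act 2 n3019
theorem D3962 : act 2 n3019 = n3962 := rfl
theorem F13687 : act 5 n3962 = n3022 := d15_2 (iv F10568) D3962 (iv D3022)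
theorem F13688 : act 7 n3962 = n3962 := d17_2 F10570 D3962 (iv D3962)
def n3963 : Q := act 4 n3019
theorem D3963 : act 4 n3019 = n3963 := rfl
theorem F13689 : act 1 n3963 = n3020 := d9_1 D3963 (iv D3020) (iv F10567)
theorem F13690 : act 3 n3963 = n3131 := d18_1 D3963 (iv D3131) (iv D2381) (iv F8136) D3019
def n3964 : Q := act 5 n3020
theorem D3964 : act 5 n3020 = n3964 := rfl
theorem F13693 : act 0 n3964 = n3062 := d4_1 D3964 (iv D3062) (iv F10571)
theorem F13696 : act 6 n3964 = n3033 := d25_2 (iv F10573) D3964 (iv D3033)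
def n3965 : Q := act 2 n3021
theorem D3965 : act 2 n3021 = n3965 := rfl
theorem F13698 : act 0 n3965 = n3022 := d1_1 D3965 (iv D3022) (iv F10575)
def n3966 : Q := act 4 n3021
theorem D3966 : act 4 n3021 = n3966 := rfl
theorem F13702 : act 3 n3966 = n3026 := d18_1 D3966 (iv D3026) (iv D2300) (iv F8145) D3021
theorem F13703 : act 6 n3966 = n3035 := d23_2 (iv F10577) D3966 (iv D3035)
def n3967 : Q := act 4 n3022
theorem D3967 : act 4 n3022 = n3967 := rfl
theorem F13705 : act 2 n3967 = n3023 := d14_1 D3967 (iv D3023) D3022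
def n3968 : Q := act 6 n3022
theorem D3968 : act 6 n3022 = n3968 := rfl
def n3969 : Q := act 5 n3023
theorem D3969 : act 5 n3023 = n3969 := rfl
theorem F13709 : act 3 n3969 = n3029 := d19_1 D3969 (iv D3029) (iv F10581)
def n3972 : Q := act 6 n3025
theorem D3972 : act 6 n3025 = n3972 := rfl
theorem F13720 : act 2 n3972 = n3040 := d16_1 D3972 (iv D3040) (iv D2311) (iv F8158) D3025
def n3978 : Q := act 2 n3030
theorem D3978 : act 2 n3030 = n3978 := rfl
theorem F13740 : act 0 n3978 = n3031 := d1_1 D3978 (iv D3031) (iv F10605)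
theorem F13742 : act 5 n3978 = n3034 := d15_2 (iv F10607) D3978 (iv D3034)
def n3979 : Q := act 4 n3030
theorem D3979 : act 4 n3030 = n3979 := rfl
theorem F13746 : act 3 n3979 = n3147 := d18_1 D3979 (iv D3147) (iv D2392) (iv F8173) D3030
def n3980 : Q := act 4 n3031
theorem D3980 : act 4 n3031 = n3980 := rfl
theorem F13748 : act 2 n3980 = n3032 := d14_1 D3980 (iv D3032) D3031
def n3982 : Q := act 5 n3032
theorem D3982 : act 5 n3032 = n3982 := rfl
theorem F13753 : act 3 n3982 = n3150 := d19_1 D3982 (iv D3150) (iv F10613)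
theorem F13754 : act 4 n3982 = n3038 := d22_1 D3982 (iv D3038) (iv D2309) (iv F8177) D3032
def n3983 : Q := act 1 n3034
theorem D3983 : act 1 n3034 = n3983 := rfl
theorem F13758 : act 7 n3983 = n3344 := d12_2 (iv F10621) D3983 (iv D3344)
def n3984 : Q := act 4 n3034
theorem D3984 : act 4 n3034 = n3984 := rfl
theorem F13760 : act 2 n3984 = n3035 := d14_1 D3984 (iv D3035) D3034
theorem F13761 : act 7 n3984 = n3345 := d24_2 (iv F10621) D3984 (iv D3345)
def n3986 : Q := act 5 n3035
theorem D3986 : act 5 n3035 = n3986 := rfl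
theorem F13766 : act 3 n3986 = n3041 := d19_1 D3986 (iv D3041) (iv F10624)
def n3988 : Q := act 5 n3036
theorem D3988 : act 5 n3036 = n3988 := rfl
theorem F13771 : act 2 n3988 = n3038 := d15_1 D3988 (iv D3038) (iv F10626)
theorem F13772 : act 7 n3988 = n3349 := d26_2 (iv F10627) D3988 (iv D3349)
def n3991 : Q := act 3 n3039
theorem D3991 : act 3 n3039 = n3991 := rfl
theorem F13779 : act 7 n3991 = n3352 := d21_2 (iv F10635) D3991 (iv D3352)
def n3992 : Q := act 5 n3039
theorem D3992 : act 5 n3039 = n3992 := rfl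
theorem F13783 : act 4 n3992 = n3160 := d22_1 D3992 (iv D3160) (iv D2401) (iv F8196) D3039
def n3993 : Q := act 6 n3039
theorem D3993 : act 6 n3039 = n3993 := rfl
theorem F13787 : act 4 n3993 = n3040 := d23_1 D3993 (iv D3040) D3039
def n3994 : Q := act 7 n3040
theorem D3994 : act 7 n3040 = n3994 := rfl
def n3995 : Q := act 5 n3042
theorem D3995 : act 5 n3042 = n3995 := rfl
theorem F13794 : act 3 n3995 = n3043 := d19_1 D3995 (iv D3043) D3042
theorem F13795 : act 7 n3995 = n3356 := d26_2 (iv F10646) D3995 (iv D3356)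
def n4004 : Q := act 0 n3050
theorem D4004 : act 0 n3050 = n4004 := rfl
theorem F13824 : act 2 n4004 = n4004 := d1_2 F10671 D4004 (iv D4004)
theorem F13825 : act 4 n4004 = n3052 := d3_2 (iv F10672) D4004 (iv D3052)
theorem F13826 : act 5 n4004 = n4004 := d4_2 F10673 D4004 (iv D4004)
theorem F13827 : act 7 n4004 = n4004 := d6_2 F10674 D4004 (iv D4004)
def n4005 : Q := act 3 n3050
theorem D4005 : act 3 n3050 = n4005 := rfl
theorem F13828 : act 1 n4005 = n3051 := d8_1 D4005 (iv D3051) D3050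
theorem F13829 : act 5 n4005 = n4005 := d19_2 F10673 D4005 (iv D4005)
theorem F13830 : act 7 n4005 = n4005 := d21_2 F10674 D4005 (iv D4005)
def n4006 : Q := act 4 n3051
theorem D4006 : act 4 n3051 = n4006 := rfl
theorem F13831 : act 2 n4006 = n3174 := d14_1 D4006 (iv D3174) (iv F10675)
def n4007 : Q := act 3 n3052
theorem D4007 : act 3 n3052 = n4007 := rfl
theorem F13834 : act 0 n4007 = n3053 := d2_1 D4007 (iv D3053) D3052
theorem F13835 : act 5 n4007 = n3055 := d19_2 (iv F10679) D4007 (iv D3055)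
theorem F13836 : act 7 n4007 = n4007 := d21_2 F10680 D4007 (iv D4007)
def n4008 : Q := act 2 n3053
theorem D4008 : act 2 n3053 = n4008 := rfl
theorem F13837 : act 1 n4008 = n3060 := d7_1 D4008 (iv D3060) F8247 (iv F8231) (iv F10681)
theorem F13839 : act 5 n4008 = n3056 := d15_2 (iv F10682) D4008 (iv D3056)
def n4009 : Q := act 4 n3053
theorem D4009 : act 4 n3053 = n4009 := rfl
theorem F13841 : act 1 n4009 = n3054 := d9_1 D4009 (iv D3054) (iv F10681)
def n4010 : Q := act 5 n3054
theorem D4010 : act 5 n3054 = n4010 := rfl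
theorem F13843 : act 2 n4010 = n3062 := d15_1 D4010 (iv D3062) (iv F10684)
theorem F13844 : act 4 n4010 = n3058 := d22_1 D4010 (iv D3058) (iv D2325) (iv F8232) D3054
def n4011 : Q := act 2 n3055
theorem D4011 : act 2 n3055 = n4011 := rfl
theorem F13846 : act 0 n4011 = n3056 := d1_1 D4011 (iv D3056) (iv F10686)
theorem F13847 : act 3 n4011 = n4011 := d13_2 D3055 D4011 (iv D4011) (iv D3055) F8234
theorem F13848 : act 7 n4011 = n4011 := d17_2 F10687 D4011 (iv D4011)
def n4012 : Q := act 4 n3055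
theorem D4012 : act 4 n3055 = n4012 := rfl
theorem F13849 : act 0 n4012 = n3057 := d3_1 D4012 (iv D3057) (iv F10686)
theorem F13850 : act 3 n4012 = n4012 := d18_1 D4012 (iv D4012) (iv D3055) F8235 D3055
theorem F13851 : act 7 n4012 = n4012 := d24_2 F10687 D4012 (iv D4012)
def n4013 : Q := act 4 n3056
theorem D4013 : act 4 n3056 = n4013 := rfl
theorem F13852 : act 1 n4013 = n3065 := d9_1 D4013 (iv D3065) (iv F10688)
theorem F13853 : act 2 n4013 = n3057 := d14_1 D4013 (iv D3057) D3056
theorem F13854 : act 7 n4013 = n4013 := d24_2 F10690 D4013 (iv D4013)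
def n4014 : Q := act 6 n3056
theorem D4014 : act 6 n3056 = n4014 := rfl
theorem F13855 : act 1 n4014 = n3066 := d11_1 D4014 (iv D3066) (iv F10688)
theorem F13856 : act 3 n4014 = n4014 := d20_1 D4014 (iv D4014) F10689
def n4015 : Q := act 5 n3057
theorem D4015 : act 5 n3057 = n4015 := rfl
theorem F13857 : act 1 n4015 = n3058 := d10_1 D4015 (iv D3058) (iv F10691)
theorem F13858 : act 3 n4015 = n4015 := d19_1 D4015 (iv D4015) F10692
theorem F13859 : act 7 n4015 = n4015 := d26_2 F10693 D4015 (iv D4015)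
def n4016 : Q := act 2 n3059
theorem D4016 : act 2 n3059 = n4016 := rfl
theorem F13860 : act 0 n4016 = n3060 := d1_1 D4016 (iv D3060) (iv F10697)
theorem F13862 : act 5 n4016 = n3063 := d15_2 (iv F10698) D4016 (iv D3063)
def n4017 : Q := act 4 n3059
theorem D4017 : act 4 n3059 = n4017 := rfl
theorem F13865 : act 3 n4017 = n3185 := d18_1 D4017 (iv D3185) (iv D2421) (iv F8243) D3059
def n4018 : Q := act 4 n3060
theorem D4018 : act 4 n3060 = n4018 := rfl
theorem F13868 : act 2 n4018 = n3061 := d14_1 D4018 (iv D3061) D3060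
def n4019 : Q := act 6 n3060
theorem D4019 : act 6 n3060 = n4019 := rfl
theorem F13870 : act 2 n4019 = n3076 := d16_1 D4019 (iv D3076) (iv D2338) (iv F8249) D3060
theorem F13872 : act 5 n4019 = n3066 := d25_1 D4019 (iv D3066) (iv F10702)
def n4020 : Q := act 5 n3061
theorem D4020 : act 5 n3061 = n4020 := rfl
theorem F13874 : act 3 n4020 = n3188 := d19_1 D4020 (iv D3188) (iv F10705)
def n4021 : Q := act 1 n3063
theorem D4021 : act 1 n3063 = n4021 := rfl
def n4022 : Q := act 4 n3063
theorem D4022 : act 4 n3063 = n4022 := rfl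
theorem F13881 : act 2 n4022 = n3064 := d14_1 D4022 (iv D3064) D3063
def n4023 : Q := act 6 n3063
theorem D4023 : act 6 n3063 = n4023 := rfl
theorem F13883 : act 0 n4023 = n3066 := d5_1 D4023 (iv D3066) (iv F10712)
theorem F13884 : act 2 n4023 = n3080 := d16_1 D4023 (iv D3080) (iv D2341) (iv F8255) D3063
def n4025 : Q := act 3 n3065
theorem D4025 : act 3 n3065 = n4025 := rfl
theorem F13890 : act 2 n4025 = n3071 := d13_1 D4025 (iv D3071) F8275 (iv F8260) (iv F10719)
theorem F13891 : act 4 n4025 = n4025 := d18_2 D3065 D4025 (iv D4025) (iv D3065) F8257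
theorem F13892 : act 7 n4025 = n4025 := d21_2 F10720 D4025 (iv D4025)
def n4026 : Q := act 5 n3065
theorem D4026 : act 5 n3065 = n4026 := rfl
theorem F13893 : act 2 n4026 = n3067 := d15_1 D4026 (iv D3067) (iv F10719)
def n4027 : Q := act 6 n3065
theorem D4027 : act 6 n3065 = n4027 := rfl
theorem F13895 : act 2 n4027 = n3083 := d16_1 D4027 (iv D3083) F8300 (iv F8261) (iv F10719)
theorem F13896 : act 4 n4027 = n3066 := d23_1 D4027 (iv D3066) D3065
def n4028 : Q := act 7 n3066
theorem D4028 : act 7 n3066 = n4028 := rfl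
theorem F13897 : act 2 n4028 = n3084 := d17_1 D4028 (iv D3084) (iv F10721)
theorem F13898 : act 3 n4028 = n4028 := d21_1 D4028 (iv D4028) F10722
theorem F13899 : act 6 n4028 = n4028 := d27_1 D4028 (iv D4028) (iv D3066) F8258 D3066
def n4029 : Q := act 4 n3068
theorem D4029 : act 4 n3068 = n4029 := rfl
theorem F13901 : act 1 n4029 = n3069 := d9_1 D4029 (iv D3069) D3068
def n4030 : Q := act 3 n3069
theorem D4030 : act 3 n3069 = n4030 := rfl
theorem F13904 : act 0 n4030 = n3071 := d2_1 D4030 (iv D3071) (iv F10732)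
def n4031 : Q := act 5 n3069
theorem D4031 : act 5 n3069 = n4031 := rfl
theorem F13908 : act 0 n4031 = n3072 := d4_1 D4031 (iv D3072) (iv F10732)
theorem F13910 : act 4 n4031 = n3199 := d22_1 D4031 (iv D3199) (iv D2431) (iv F8268) D3069
def n4032 : Q := act 5 n3071
theorem D4032 : act 5 n3071 = n4032 := rfl
def n4033 : Q := act 1 n3073
theorem D4033 : act 1 n3073 = n4033 := rfl
theorem F13919 : act 7 n4033 = n3365 := d12_2 (iv F10752) D4033 (iv D3365)
def n4034 : Q := act 4 n3073
theorem D4034 : act 4 n3073 = n4034 := rfl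
theorem F13921 : act 2 n4034 = n3074 := d14_1 D4034 (iv D3074) D3073
theorem F13922 : act 7 n4034 = n3366 := d24_2 (iv F10752) D4034 (iv D3366)
def n4036 : Q := act 5 n3074
theorem D4036 : act 5 n3074 = n4036 := rfl
theorem F13927 : act 3 n4036 = n3204 := d19_1 D4036 (iv D3204) (iv F10754)
theorem F13928 : act 4 n4036 = n3081 := d22_1 D4036 (iv D3081) (iv D2342) (iv F8283) D3074
theorem F13929 : act 7 n4036 = n3368 := d26_2 (iv F10755) D4036 (iv D3368)
def n4037 : Q := act 3 n3075
theorem D4037 : act 3 n3075 = n4037 := rfl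
theorem F13930 : act 2 n4037 = n3205 := d13_1 D4037 (iv D3205) F8627 (iv F8289) (iv F10756)
theorem F13932 : act 7 n4037 = n3369 := d21_2 (iv F10757) D4037 (iv D3369)
def n4038 : Q := act 5 n3075
theorem D4038 : act 5 n3075 = n4038 := rfl
theorem F13935 : act 7 n4038 = n3370 := d26_2 (iv F10757) D4038 (iv D3370)
def n4039 : Q := act 6 n3075
theorem D4039 : act 6 n3075 = n4039 := rfl
def n4041 : Q := act 4 n3078
theorem D4041 : act 4 n3078 = n4041 := rfl
theorem F13940 : act 1 n4041 = n3079 := d9_1 D4041 (iv D3079) D3078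
theorem F13942 : act 7 n4041 = n3373 := d24_2 (iv F10765) D4041 (iv D3373)
def n4042 : Q := act 6 n3078
theorem D4042 : act 6 n3078 = n4042 := rfl
theorem F13943 : act 1 n4042 = n3080 := d11_1 D4042 (iv D3080) D3078
def n4043 : Q := act 5 n3079
theorem D4043 : act 5 n3079 = n4043 := rfl
theorem F13946 : act 2 n4043 = n3081 := d15_1 D4043 (iv D3081) (iv F10767)
def n4044 : Q := act 6 n3079
theorem D4044 : act 6 n3079 = n4044 := rfl
def n4046 : Q := act 6 n3082
theorem D4046 : act 6 n3082 = n4046 := rfl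
theorem F13956 : act 5 n4046 = n3083 := d25_1 D4046 (iv D3083) D3082
def n4047 : Q := act 7 n3083
theorem D4047 : act 7 n3083 = n4047 := rfl
theorem F13957 : act 3 n4047 = n4047 := d21_1 D4047 (iv D4047) F10778
theorem F13958 : act 4 n4047 = n3084 := d24_1 D4047 (iv D3084) (iv F10779)
theorem F13959 : act 6 n4047 = n3379 := d27_1 D4047 (iv D3379) (iv D2572) (iv F8302) D3083
def n4050 : Q := act 3 n3086
theorem D4050 : act 3 n3086 = n4050 := rfl
theorem F13966 : act 0 n4050 = n3088 := d2_1 D4050 (iv D3088) (iv F10785)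
def n4053 : Q := act 6 n3088
theorem D4053 : act 6 n3088 = n4053 := rfl
theorem F13978 : act 3 n4053 = n3089 := d20_1 D4053 (iv D3089) D3088
def n4054 : Q := act 7 n3089
theorem D4054 : act 7 n3089 = n4054 := rfl
theorem F13983 : act 6 n4054 = n3386 := d27_1 D4054 (iv D3386) (iv D2578) (iv F8322) D3089
def n4075 : Q := act 3 n3105
theorem D4075 : act 3 n3105 = n4075 := rfl
theorem F14059 : act 0 n4075 = n3106 := d2_1 D4075 (iv D3106) D3105
def n4076 : Q := act 2 n3106
theorem D4076 : act 2 n3106 = n4076 := rfl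
theorem F14062 : act 1 n4076 = n3112 := d7_1 D4076 (iv D3112) F8392 (iv F8377) (iv F10859)
theorem F14063 : act 3 n4076 = n3126 := d13_2 D3106 D4076 (iv D3126) (iv D2378) (iv F8373)
def n4079 : Q := act 3 n3108
theorem D4079 : act 3 n3108 = n4079 := rfl
theorem F14072 : act 0 n4079 = n3109 := d2_1 D4079 (iv D3109) D3108
theorem F14074 : act 5 n4079 = n3111 := d19_2 (iv F10867) D4079 (iv D3111)
def n4080 : Q := act 2 n3109
theorem D4080 : act 2 n3109 = n4080 := rfl
theorem F14077 : act 3 n4080 = n3130 := d13_2 D3109 D4080 (iv D3130) (iv D2381) (iv F8379)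
theorem F14078 : act 5 n4080 = n3112 := d15_2 (iv F10871) D4080 (iv D3112)
def n4081 : Q := act 4 n3109
theorem D4081 : act 4 n3109 = n4081 := rfl
theorem F14080 : act 1 n4081 = n3110 := d9_1 D4081 (iv D3110) (iv F10870)
def n4083 : Q := act 2 n3111
theorem D4083 : act 2 n3111 = n4083 := rfl
theorem F14087 : act 0 n4083 = n3112 := d1_1 D4083 (iv D3112) (iv F10877)
theorem F14088 : act 3 n4083 = n3133 := d13_2 D3111 D4083 (iv D3133) (iv D2383) (iv F8388)
def n4084 : Q := act 4 n3111
theorem D4084 : act 4 n3111 = n4084 := rfl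
theorem F14092 : act 3 n4084 = n3116 := d18_1 D4084 (iv D3116) (iv D2370) (iv F8389) D3111
def n4085 : Q := act 4 n3112
theorem D4085 : act 4 n3112 = n4085 := rfl
theorem F14095 : act 2 n4085 = n3113 := d14_1 D4085 (iv D3113) D3112
def n4086 : Q := act 6 n3112
theorem D4086 : act 6 n3112 = n4086 := rfl
theorem F14098 : act 3 n4086 = n3136 := d20_1 D4086 (iv D3136) (iv F10881)
def n4088 : Q := act 1 n3115
theorem D4088 : act 1 n3115 = n4088 := rfl
theorem F14105 : act 3 n4088 = n3138 := d8_2 (iv F10892) D4088 (iv D3138)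
def n4089 : Q := act 4 n3115
theorem D4089 : act 4 n3115 = n4089 := rfl
theorem F14107 : act 0 n4089 = n3117 := d3_1 D4089 (iv D3117) (iv F10891)
theorem F14108 : act 2 n4089 = n3116 := d14_1 D4089 (iv D3116) D3115
def n4090 : Q := act 6 n3115
theorem D4090 : act 6 n3115 = n4090 := rfl
theorem F14110 : act 0 n4090 = n3118 := d5_1 D4090 (iv D3118) (iv F10891)
def n4091 : Q := act 5 n3116
theorem D4091 : act 5 n3116 = n4091 := rfl
def n4092 : Q := act 3 n3117
theorem D4092 : act 3 n3117 = n4092 := rfl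
def n4093 : Q := act 5 n3117
theorem D4093 : act 5 n3117 = n4093 := rfl
def n4094 : Q := act 6 n3117
theorem D4094 : act 6 n3117 = n4094 := rfl
def n4095 : Q := act 7 n3118
theorem D4095 : act 7 n3118 = n4095 := rfl
def n4097 : Q := act 3 n3120
theorem D4097 : act 3 n3120 = n4097 := rfl
theorem F14135 : act 1 n4097 = n3121 := d8_1 D4097 (iv D3121) D3120
def n4098 : Q := act 4 n3121
theorem D4098 : act 4 n3121 = n4098 := rfl
theorem F14139 : act 0 n4098 = n3174 := d3_1 D4098 (iv D3174) (iv F10911)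
theorem F14140 : act 3 n4098 = n3124 := d18_1 D4098 (iv D3124) (iv D2376) (iv F8414) D3121
def n4099 : Q := act 3 n3122
theorem D4099 : act 3 n3122 = n4099 := rfl
theorem F14143 : act 0 n4099 = n3123 := d2_1 D4099 (iv D3123) D3122
theorem F14144 : act 1 n4099 = n3175 := d8_1 D4099 (iv D3175) (iv F10915)
def n4101 : Q := act 4 n3123
theorem D4101 : act 4 n3123 = n4101 := rfl
def n4102 : Q := act 5 n3124
theorem D4102 : act 5 n3124 = n4102 := rfl
theorem F14154 : act 0 n4102 = n3178 := d4_1 D4102 (iv D3178) (iv F10923)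
def n4103 : Q := act 2 n3125
theorem D4103 : act 2 n3125 = n4103 := rfl
theorem F14159 : act 0 n4103 = n3126 := d1_1 D4103 (iv D3126) (iv F10927)
def n4105 : Q := act 4 n3126
theorem D4105 : act 4 n3126 = n4105 := rfl
theorem F14166 : act 1 n4105 = n3135 := d9_1 D4105 (iv D3135) (iv F10931)
def n4108 : Q := act 2 n3129
theorem D4108 : act 2 n3129 = n4108 := rfl
theorem F14175 : act 0 n4108 = n3130 := d1_1 D4108 (iv D3130) (iv F10942)
def n4109 : Q := act 4 n3129
theorem D4109 : act 4 n3129 = n4109 := rfl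
theorem F14178 : act 0 n4109 = n3131 := d3_1 D4109 (iv D3131) (iv F10942)
theorem F14179 : act 1 n4109 = n3185 := d9_1 D4109 (iv D3185) (iv F10943)
def n4110 : Q := act 4 n3130
theorem D4110 : act 4 n3130 = n4110 := rfl
theorem F14182 : act 2 n4110 = n3131 := d14_1 D4110 (iv D3131) D3130
def n4112 : Q := act 5 n3131
theorem D4112 : act 5 n3131 = n4112 := rfl
theorem F14188 : act 6 n4112 = n3150 := d25_2 (iv F10950) D4112 (iv D3150)
def n4113 : Q := act 1 n3133
theorem D4113 : act 1 n3133 = n4113 := rfl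
theorem F14190 : act 2 n4113 = n3189 := d7_2 D3133 D4113 (iv D3189) (iv D2425) (iv F8450)
def n4114 : Q := act 4 n3133
theorem D4114 : act 4 n3133 = n4114 := rfl
theorem F14193 : act 2 n4114 = n3134 := d14_1 D4114 (iv D3134) D3133
def n4115 : Q := act 6 n3133
theorem D4115 : act 6 n3133 = n4115 := rfl
theorem F14195 : act 0 n4115 = n3136 := d5_1 D4115 (iv D3136) (iv F10956)
def n4117 : Q := act 3 n3135
theorem D4117 : act 3 n3135 = n4117 := rfl
theorem F14202 : act 2 n4117 = n3142 := d13_1 D4117 (iv D3142) F8469 (iv F8455) (iv F10963)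
def n4118 : Q := act 5 n3135
theorem D4118 : act 5 n3135 = n4118 := rfl
theorem F14204 : act 2 n4118 = n3137 := d15_1 D4118 (iv D3137) (iv F10963)
def n4121 : Q := act 4 n3138
theorem D4121 : act 4 n3138 = n4121 := rfl
theorem F14211 : act 1 n4121 = n3139 := d9_1 D4121 (iv D3139) D3138
theorem F14212 : act 2 n4121 = n3197 := d14_1 D4121 (iv D3197) (iv F10971)
def n4123 : Q := act 3 n3139
theorem D4123 : act 3 n3139 = n4123 := rfl
theorem F14217 : act 0 n4123 = n3142 := d2_1 D4123 (iv D3142) (iv F10973)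
def n4125 : Q := act 6 n3139
theorem D4125 : act 6 n3139 = n4125 := rfl
theorem F14223 : act 2 n4125 = n3161 := d16_1 D4125 (iv D3161) F8507 (iv F8466) (iv F10974)
def n4127 : Q := act 5 n3142
theorem D4127 : act 5 n3142 = n4127 := rfl
def n4128 : Q := act 6 n3142
theorem D4128 : act 6 n3142 = n4128 := rfl
theorem F14232 : act 3 n4128 = n3144 := d20_1 D4128 (iv D3144) D3142
def n4129 : Q := act 6 n3143
theorem D4129 : act 6 n3143 = n4129 := rfl
theorem F14234 : act 2 n4129 = n3165 := d16_1 D4129 (iv D3165) F8519 (iv F8474) (iv F10985)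
theorem F14235 : act 5 n4129 = n3144 := d25_1 D4129 (iv D3144) D3143
def n4130 : Q := act 7 n3144
theorem D4130 : act 7 n3144 = n4130 := rfl
def n4131 : Q := act 1 n3146
theorem D4131 : act 1 n3146 = n4131 := rfl
theorem F14241 : act 2 n4131 = n3201 := d7_2 D3146 D4131 (iv D3201) (iv D2435) (iv F8477)
theorem F14243 : act 5 n4131 = n3151 := d10_2 (iv F10995) D4131 (iv D3151)
theorem F14244 : act 7 n4131 = n3389 := d12_2 (iv F10996) D4131 (iv D3389)
def n4132 : Q := act 4 n3146
theorem D4132 : act 4 n3146 = n4132 := rfl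
theorem F14246 : act 2 n4132 = n3147 := d14_1 D4132 (iv D3147) D3146
def n4134 : Q := act 5 n3147
theorem D4134 : act 5 n3147 = n4134 := rfl
theorem F14253 : act 4 n4134 = n3154 := d22_1 D4134 (iv D3154) (iv D2397) (iv F8478) D3147
def n4135 : Q := act 3 n3148
theorem D4135 : act 3 n3148 = n4135 := rfl
def n4136 : Q := act 5 n3148
theorem D4136 : act 5 n3148 = n4136 := rfl
theorem F14259 : act 2 n4136 = n3150 := d15_1 D4136 (iv D3150) (iv F11001)
theorem F14260 : act 4 n4136 = n3156 := d22_1 D4136 (iv D3156) (iv D2398) (iv F8482) D3148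
def n4139 : Q := act 4 n3151
theorem D4139 : act 4 n3151 = n4139 := rfl
theorem F14269 : act 1 n4139 = n3152 := d9_1 D4139 (iv D3152) D3151
theorem F14270 : act 2 n4139 = n3209 := d14_1 D4139 (iv D3209) (iv F11010)
def n4140 : Q := act 6 n3151
theorem D4140 : act 6 n3151 = n4140 := rfl
def n4141 : Q := act 3 n3152
theorem D4141 : act 3 n3152 = n4141 := rfl
theorem F14275 : act 0 n4141 = n3155 := d2_1 D4141 (iv D3155) (iv F11013)
theorem F14276 : act 2 n4141 = n3159 := d13_1 D4141 (iv D3159) F8507 (iv F8495) (iv F11014)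
def n4142 : Q := act 5 n3152
theorem D4142 : act 5 n3152 = n4142 := rfl
theorem F14279 : act 0 n4142 = n3156 := d4_1 D4142 (iv D3156) (iv F11013)
theorem F14281 : act 7 n4142 = n3400 := d26_2 (iv F11015) D4142 (iv D3400)
def n4145 : Q := act 5 n3155
theorem D4145 : act 5 n3155 = n4145 := rfl
theorem F14288 : act 2 n4145 = n3163 := d15_1 D4145 (iv D3163) (iv F11023)
theorem F14289 : act 3 n4145 = n3156 := d19_1 D4145 (iv D3156) D3155
theorem F14290 : act 7 n4145 = n3403 := d26_2 (iv F11025) D4145 (iv D3403)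
def n4147 : Q := act 6 n3156
theorem D4147 : act 6 n3156 = n4147 := rfl
def n4149 : Q := act 5 n3159
theorem D4149 : act 5 n3159 = n4149 := rfl
theorem F14301 : act 3 n4149 = n3160 := d19_1 D4149 (iv D3160) D3159
theorem F14302 : act 7 n4149 = n3407 := d26_2 (iv F11037) D4149 (iv D3407)
def n4150 : Q := act 6 n3159
theorem D4150 : act 6 n3159 = n4150 := rfl
theorem F14305 : act 3 n4150 = n3161 := d20_1 D4150 (iv D3161) D3159
def n4153 : Q := act 4 n3163
theorem D4153 : act 4 n3163 = n4153 := rfl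
theorem F14314 : act 1 n4153 = n3167 := d9_1 D4153 (iv D3167) (iv F11049)
theorem F14316 : act 7 n4153 = n3411 := d24_2 (iv F11051) D4153 (iv D3411)
def n4154 : Q := act 6 n3163
theorem D4154 : act 6 n3163 = n4154 := rfl
theorem F14317 : act 1 n4154 = n3168 := d11_1 D4154 (iv D3168) (iv F11049)
theorem F14319 : act 5 n4154 = n3164 := d25_1 D4154 (iv D3164) D3163
def n4155 : Q := act 2 n3164
theorem D4155 : act 2 n3164 = n4155 := rfl
def n4156 : Q := act 7 n3164
theorem D4156 : act 7 n3164 = n4156 := rfl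
theorem F14321 : act 1 n4156 = n3170 := d12_1 D4156 (iv D3170) (iv F11052)
theorem F14324 : act 6 n4156 = n3414 := d27_1 D4156 (iv D3414) (iv D2600) (iv F8517) D3164
def n4157 : Q := act 7 n3165
theorem D4157 : act 7 n3165 = n4157 := rfl
theorem F14325 : act 1 n4157 = n3171 := d12_1 D4157 (iv D3171) (iv F11055)
def n4158 : Q := act 6 n3167
theorem D4158 : act 6 n3167 = n4158 := rfl
theorem F14329 : act 4 n4158 = n3168 := d23_1 D4158 (iv D3168) D3167
def n4159 : Q := act 2 n3168
theorem D4159 : act 2 n3168 = n4159 := rfl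
theorem F14333 : act 5 n4159 = n3169 := d15_2 (iv F11066) D4159 (iv D3169)
def n4160 : Q := act 7 n3168
theorem D4160 : act 7 n3168 = n4160 := rfl
theorem F14337 : act 5 n4160 = n3170 := d26_1 D4160 (iv D3170) (iv F11066)
theorem F14338 : act 6 n4160 = n3418 := d27_1 D4160 (iv D3418) (iv D2604) (iv F8529) D3168
def n4161 : Q := act 1 n3169
theorem D4161 : act 1 n3169 = n4161 := rfl
def n4162 : Q := act 7 n3169
theorem D4162 : act 7 n3169 = n4162 := rfl
theorem F14343 : act 2 n4162 = n3170 := d17_1 D4162 (iv D3170) D3169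
def n4164 : Q := act 2 n3173
theorem D4164 : act 2 n3173 = n4164 := rfl
def n4165 : Q := act 4 n3173
theorem D4165 : act 4 n3173 = n4165 := rfl
theorem F14353 : act 1 n4165 = n3174 := d9_1 D4165 (iv D3174) (iv F11084)
theorem F14354 : act 3 n4165 = n3177 := d18_1 D4165 (iv D3177) (iv D2415) (iv F8541) D3173
def n4166 : Q := act 5 n3174
theorem D4166 : act 5 n3174 = n4166 := rfl
theorem F14357 : act 3 n4166 = n3178 := d19_1 D4166 (iv D3178) (iv F11088)
def n4167 : Q := act 2 n3175
theorem D4167 : act 2 n3175 = n4167 := rfl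
theorem F14363 : act 5 n4167 = n3179 := d15_2 (iv F11092) D4167 (iv D3179)
def n4168 : Q := act 4 n3175
theorem D4168 : act 4 n3175 = n4168 := rfl
def n4169 : Q := act 4 n3176
theorem D4169 : act 4 n3176 = n4169 := rfl
theorem F14369 : act 2 n4169 = n3177 := d14_1 D4169 (iv D3177) D3176
def n4170 : Q := act 6 n3176
theorem D4170 : act 6 n3176 = n4170 := rfl
theorem F14371 : act 1 n4170 = n3187 := d11_1 D4170 (iv D3187) (iv F11095)
theorem F14372 : act 2 n4170 = n4170 := d16_1 D4170 (iv D4170) (iv D3176) F8554 D3176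
theorem F14374 : act 5 n4170 = n3182 := d25_1 D4170 (iv D3182) (iv F11097)
def n4171 : Q := act 5 n3177
theorem D4171 : act 5 n3177 = n4171 := rfl
theorem F14375 : act 1 n4171 = n3178 := d10_1 D4171 (iv D3178) (iv F11099)
def n4172 : Q := act 1 n3179
theorem D4172 : act 1 n3179 = n4172 := rfl
theorem F14379 : act 0 n4172 = n3189 := d0_1 D4172 (iv D3189) F8586 (iv F8562) (iv F11106)
theorem F14380 : act 3 n4172 = n4172 := d8_2 F11107 D4172 (iv D4172)
def n4173 : Q := act 4 n3179
theorem D4173 : act 4 n3179 = n4173 := rfl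
theorem F14382 : act 0 n4173 = n3181 := d3_1 D4173 (iv D3181) (iv F11106)
def n4174 : Q := act 6 n3179
theorem D4174 : act 6 n3179 = n4174 := rfl
def n4176 : Q := act 3 n3181
theorem D4176 : act 3 n3181 = n4176 := rfl
theorem F14392 : act 1 n4176 = n3193 := d8_1 D4176 (iv D3193) (iv F11113)
theorem F14394 : act 4 n4176 = n4176 := d18_2 D3181 D4176 (iv D4176) (iv D3181) F8563
theorem F14395 : act 7 n4176 = n4176 := d21_2 F11115 D4176 (iv D4176)
def n4177 : Q := act 5 n3181
theorem D4177 : act 5 n3181 = n4177 := rfl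
theorem F14397 : act 2 n4177 = n3183 := d15_1 D4177 (iv D3183) (iv F11114)
def n4178 : Q := act 6 n3181
theorem D4178 : act 6 n3181 = n4178 := rfl
theorem F14399 : act 1 n4178 = n3195 := d11_1 D4178 (iv D3195) (iv F11113)
theorem F14400 : act 2 n4178 = n4178 := d16_1 D4178 (iv D4178) F11114 F8567 (iv F11114)
theorem F14401 : act 4 n4178 = n3182 := d23_1 D4178 (iv D3182) D3181
def n4179 : Q := act 7 n3182
theorem D4179 : act 7 n3182 = n4179 := rfl
theorem F14402 : act 1 n4179 = n3196 := d12_1 D4179 (iv D3196) (iv F11116)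
theorem F14403 : act 2 n4179 = n4179 := d17_1 D4179 (iv D4179) F11117
theorem F14405 : act 6 n4179 = n4179 := d27_1 D4179 (iv D4179) (iv D3182) F8564 D3182
def n4180 : Q := act 1 n3184
theorem D4180 : act 1 n3184 = n4180 := rfl
theorem F14407 : act 5 n4180 = n3189 := d10_2 (iv F11125) D4180 (iv D3189)
def n4181 : Q := act 4 n3184
theorem D4181 : act 4 n3184 = n4181 := rfl
theorem F14410 : act 2 n4181 = n3185 := d14_1 D4181 (iv D3185) D3184
def n4182 : Q := act 6 n3184
theorem D4182 : act 6 n3184 = n4182 := rfl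
theorem F14412 : act 0 n4182 = n3187 := d5_1 D4182 (iv D3187) (iv F11123)
theorem F14413 : act 2 n4182 = n3203 := d16_1 D4182 (iv D3203) (iv D2435) (iv F8575) D3184
theorem F14415 : act 5 n4182 = n3191 := d25_1 D4182 (iv D3191) (iv F11125)
def n4183 : Q := act 5 n3185
theorem D4183 : act 5 n3185 = n4183 := rfl
theorem F14417 : act 4 n4183 = n3192 := d22_1 D4183 (iv D3192) (iv D2426) (iv F8574) D3185
def n4187 : Q := act 7 n3187
theorem D4187 : act 7 n3187 = n4187 := rfl
def n4188 : Q := act 4 n3189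
theorem D4188 : act 4 n3189 = n4188 := rfl
theorem F14431 : act 1 n4188 = n3190 := d9_1 D4188 (iv D3190) D3189
def n4189 : Q := act 6 n3189
theorem D4189 : act 6 n3189 = n4189 := rfl
def n4190 : Q := act 3 n3190
theorem D4190 : act 3 n3190 = n4190 := rfl
theorem F14435 : act 0 n4190 = n3193 := d2_1 D4190 (iv D3193) (iv F11141)
theorem F14436 : act 2 n4190 = n3198 := d13_1 D4190 (iv D3198) F8606 (iv F8590) (iv F11142)
def n4191 : Q := act 5 n3190
theorem D4191 : act 5 n3190 = n4191 := rfl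
def n4192 : Q := act 6 n3190
theorem D4192 : act 6 n3190 = n4192 := rfl
theorem F14442 : act 0 n4192 = n3195 := d5_1 D4192 (iv D3195) (iv F11141)
theorem F14443 : act 2 n4192 = n3212 := d16_1 D4192 (iv D3212) F8639 (iv F8591) (iv F11142)
theorem F14444 : act 4 n4192 = n3191 := d23_1 D4192 (iv D3191) D3190
def n4193 : Q := act 7 n3191
theorem D4193 : act 7 n3191 = n4193 := rfl
theorem F14445 : act 0 n4193 = n3196 := d6_1 D4193 (iv D3196) (iv F11144)
theorem F14446 : act 2 n4193 = n3213 := d17_1 D4193 (iv D3213) (iv F11145)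
theorem F14447 : act 3 n4193 = n4193 := d21_1 D4193 (iv D4193) F11146
def n4194 : Q := act 5 n3193
theorem D4194 : act 5 n3193 = n4194 := rfl
theorem F14450 : act 3 n4194 = n3194 := d19_1 D4194 (iv D3194) D3193
def n4195 : Q := act 6 n3193
theorem D4195 : act 6 n3193 = n4195 := rfl
theorem F14453 : act 3 n4195 = n3195 := d20_1 D4195 (iv D3195) D3193
theorem F14454 : act 4 n4195 = n4195 := d23_1 D4195 (iv D4195) F11152
def n4196 : Q := act 6 n3194
theorem D4196 : act 6 n3194 = n4196 := rfl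
theorem F14455 : act 2 n4196 = n3214 := d16_1 D4196 (iv D3214) F8648 (iv F8599) (iv F11154)
theorem F14456 : act 5 n4196 = n3195 := d25_1 D4196 (iv D3195) D3194
def n4197 : Q := act 7 n3195
theorem D4197 : act 7 n3195 = n4197 := rfl
theorem F14457 : act 2 n4197 = n3215 := d17_1 D4197 (iv D3215) (iv F11156)
theorem F14458 : act 4 n4197 = n3196 := d24_1 D4197 (iv D3196) (iv F11157)
theorem F14459 : act 6 n4197 = n4197 := d27_1 D4197 (iv D4197) (iv D3195) F8594 D3195
def n4198 : Q := act 3 n3197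
theorem D4198 : act 3 n3197 = n4198 := rfl
theorem F14461 : act 1 n4198 = n3198 := d8_1 D4198 (iv D3198) (iv F11162)
def n4199 : Q := act 5 n3197
theorem D4199 : act 5 n3197 = n4199 := rfl
theorem F14466 : act 1 n4199 = n3199 := d10_1 D4199 (iv D3199) (iv F11162)
def n4200 : Q := act 5 n3198
theorem D4200 : act 5 n3198 = n4200 := rfl
theorem F14470 : act 3 n4200 = n3199 := d19_1 D4200 (iv D3199) D3198
def n4202 : Q := act 4 n3201
theorem D4202 : act 4 n3201 = n4202 := rfl
def n4203 : Q := act 6 n3201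
theorem D4203 : act 6 n3201 = n4203 := rfl
theorem F14481 : act 1 n4203 = n3203 := d11_1 D4203 (iv D3203) D3201
theorem F14482 : act 3 n4203 = n3217 := d20_1 D4203 (iv D3217) (iv F11178)
theorem F14483 : act 5 n4203 = n3210 := d25_1 D4203 (iv D3210) (iv F11179)
def n4204 : Q := act 3 n3202
theorem D4204 : act 3 n3202 = n4204 := rfl
def n4205 : Q := act 5 n3202
theorem D4205 : act 5 n3202 = n4205 := rfl
theorem F14488 : act 2 n4205 = n3204 := d15_1 D4205 (iv D3204) (iv F11182)
theorem F14489 : act 4 n4205 = n3211 := d22_1 D4205 (iv D3211) (iv D2441) (iv F8622) D3202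
def n4206 : Q := act 6 n3202
theorem D4206 : act 6 n3202 = n4206 := rfl
theorem F14492 : act 4 n4206 = n3203 := d23_1 D4206 (iv D3203) D3202
def n4207 : Q := act 7 n3203
theorem D4207 : act 7 n3203 = n4207 := rfl
theorem F14495 : act 5 n4207 = n3213 := d26_1 D4207 (iv D3213) (iv F11186)
def n4208 : Q := act 5 n3205
theorem D4208 : act 5 n3205 = n4208 := rfl
theorem F14498 : act 3 n4208 = n3206 := d19_1 D4208 (iv D3206) D3205
theorem F14500 : act 7 n4208 = n3427 := d26_2 (iv F11192) D4208 (iv D3427)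
def n4210 : Q := act 6 n3206
theorem D4210 : act 6 n3206 = n4210 := rfl
theorem F14505 : act 4 n4210 = n3214 := d23_1 D4210 (iv D3214) (iv F11195)
def n4212 : Q := act 5 n3209
theorem D4212 : act 5 n3209 = n4212 := rfl
theorem F14513 : act 7 n4212 = n3431 := d26_2 (iv F11206) D4212 (iv D3431)
def n4213 : Q := act 6 n3209
theorem D4213 : act 6 n3209 = n4213 := rfl
theorem F14515 : act 1 n4213 = n3212 := d11_1 D4213 (iv D3212) (iv F11204)
theorem F14517 : act 4 n4213 = n3210 := d23_1 D4213 (iv D3210) D3209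
def n4214 : Q := act 2 n3210
theorem D4214 : act 2 n3210 = n4214 := rfl
def n4215 : Q := act 7 n3210
theorem D4215 : act 7 n3210 = n4215 := rfl
theorem F14519 : act 0 n4215 = n4215 := d6_1 D4215 (iv D4215) F11207
theorem F14520 : act 1 n4215 = n3213 := d12_1 D4215 (iv D3213) (iv F11208)
theorem F14521 : act 3 n4215 = n3224 := d21_1 D4215 (iv D3224) (iv F11209)
theorem F14522 : act 6 n4215 = n3434 := d27_1 D4215 (iv D3434) (iv D2617) (iv F8637) D3210
def n4216 : Q := act 6 n3211
theorem D4216 : act 6 n3211 = n4216 := rfl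
theorem F14525 : act 5 n4216 = n3212 := d25_1 D4216 (iv D3212) D3211
def n4217 : Q := act 7 n3212
theorem D4217 : act 7 n3212 = n4217 := rfl
theorem F14526 : act 0 n4217 = n3215 := d6_1 D4217 (iv D3215) (iv F11214)
theorem F14528 : act 4 n4217 = n3213 := d24_1 D4217 (iv D3213) (iv F11216)
theorem F14529 : act 6 n4217 = n3436 := d27_1 D4217 (iv D3436) (iv D2619) (iv F8641) D3212
def n4218 : Q := act 7 n3214
theorem D4218 : act 7 n3214 = n4218 := rfl
theorem F14532 : act 5 n4218 = n3215 := d26_1 D4218 (iv D3215) (iv F11222)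
def n4220 : Q := act 6 n3216
theorem D4220 : act 6 n3216 = n4220 := rfl
theorem F14540 : act 4 n4220 = n3217 := d23_1 D4220 (iv D3217) D3216
def n4221 : Q := act 2 n3217
theorem D4221 : act 2 n3217 = n4221 := rfl
theorem F14544 : act 5 n4221 = n3223 := d15_2 (iv F11234) D4221 (iv D3223)
def n4222 : Q := act 7 n3217
theorem D4222 : act 7 n3217 = n4222 := rfl
theorem F14548 : act 5 n4222 = n3224 := d26_1 D4222 (iv D3224) (iv F11234)
theorem F14549 : act 6 n4222 = n3441 := d27_1 D4222 (iv D3441) (iv D2624) (iv F8660) D3217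
def n4223 : Q := act 6 n3218
theorem D4223 : act 6 n3218 = n4223 := rfl
theorem F14551 : act 3 n4223 = n3219 := d20_1 D4223 (iv D3219) D3218
def n4224 : Q := act 7 n3219
theorem D4224 : act 7 n3219 = n4224 := rfl
theorem F14555 : act 4 n4224 = n3220 := d24_1 D4224 (iv D3220) (iv F11240)
theorem F14557 : act 6 n4224 = n3443 := d27_1 D4224 (iv D3443) (iv D2626) (iv F8664) D3219
def n4225 : Q := act 2 n3221
theorem D4225 : act 2 n3221 = n4225 := rfl
def n4226 : Q := act 7 n3221
theorem D4226 : act 7 n3221 = n4226 := rfl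
theorem F14561 : act 3 n4226 = n3222 := d21_1 D4226 (iv D3222) (iv F11247)
theorem F14563 : act 6 n4226 = n3445 := d27_1 D4226 (iv D3445) (iv D2628) (iv F8670) D3221
def n4227 : Q := act 3 n3223
theorem D4227 : act 3 n3223 = n4227 := rfl
def n4228 : Q := act 7 n3223
theorem D4228 : act 7 n3223 = n4228 := rfl
theorem F14567 : act 0 n4228 = n4228 := d6_1 D4228 (iv D4228) F11254
theorem F14568 : act 1 n4228 = n4228 := d12_1 D4228 (iv D4228) F11255
theorem F14569 : act 2 n4228 = n3224 := d17_1 D4228 (iv D3224) D3223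
def n4232 : Q := act 2 n3227
theorem D4232 : act 2 n3227 = n4232 := rfl
theorem F14586 : act 5 n4232 = n3234 := d15_2 (iv F11272) D4232 (iv D3234)
theorem F14587 : act 6 n4232 = n3228 := d16_2 D3227 D4232 (iv D3228) (iv D2457) (iv F8691)
def n4233 : Q := act 1 n3228
theorem D4233 : act 1 n3228 = n4233 := rfl
theorem F14589 : act 2 n4233 = n3252 := d7_2 D3228 D4233 (iv D3252) (iv D2474) (iv F8695)
theorem F14591 : act 5 n4233 = n3235 := d10_2 (iv F11276) D4233 (iv D3235)
theorem F14592 : act 7 n4233 = n3229 := d12_2 (iv F11277) D4233 (iv D3229)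
def n4234 : Q := act 3 n3228
theorem D4234 : act 3 n3228 = n4234 := rfl
theorem F14596 : act 7 n4234 = n3230 := d21_2 (iv F11277) D4234 (iv D3230)
def n4235 : Q := act 0 n3229
theorem D4235 : act 0 n3229 = n4235 := rfl
theorem F14597 : act 1 n4235 = n4235 := d0_2 D3229 D4235 (iv D4235) (iv D3229) F8700
theorem F14598 : act 2 n4235 = n3254 := d1_2 (iv F11278) D4235 (iv D3254)
theorem F14599 : act 4 n4235 = n4235 := d3_2 F11279 D4235 (iv D4235)
theorem F14600 : act 5 n4235 = n3237 := d4_2 (iv F11280) D4235 (iv D3237)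
theorem F14601 : act 6 n4235 = n4235 := d5_2 F11281 D4235 (iv D4235)
def n4236 : Q := act 3 n3229
theorem D4236 : act 3 n3229 = n4236 := rfl
theorem F14602 : act 1 n4236 = n3230 := d8_1 D4236 (iv D3230) D3229
theorem F14603 : act 5 n4236 = n3238 := d19_2 (iv F11280) D4236 (iv D3238)
theorem F14604 : act 6 n4236 = n4236 := d20_2 F11281 D4236 (iv D4236)
def n4237 : Q := act 4 n3230
theorem D4237 : act 4 n3230 = n4237 := rfl
theorem F14605 : act 0 n4237 = n4237 := d3_1 D4237 (iv D4237) F11282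
theorem F14606 : act 2 n4237 = n4237 := d14_1 D4237 (iv D4237) F11283
theorem F14607 : act 3 n4237 = n4237 := d18_1 D4237 (iv D4237) (iv D3230) F8701 D3230
theorem F14608 : act 6 n4237 = n4237 := d23_2 F11285 D4237 (iv D4237)
def n4238 : Q := act 7 n3231
theorem D4238 : act 7 n3231 = n4238 := rfl
theorem F14611 : act 3 n4238 = n3240 := d21_1 D4238 (iv D3240) (iv F11288)
def n4239 : Q := act 6 n3232
theorem D4239 : act 6 n3232 = n4239 := rfl
theorem F14614 : act 3 n4239 = n3241 := d20_1 D4239 (iv D3241) (iv F11292)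
def n4240 : Q := act 2 n3233
theorem D4240 : act 2 n3233 = n4240 := rfl
def n4241 : Q := act 1 n3234
theorem D4241 : act 1 n3234 = n4241 := rfl
theorem F14620 : act 4 n4241 = n3243 := d9_2 (iv F11298) D4241 (iv D3243)
theorem F14621 : act 6 n4241 = n3235 := d11_2 (iv F11299) D4241 (iv D3235)
def n4242 : Q := act 3 n3234
theorem D4242 : act 3 n3234 = n4242 := rfl
theorem F14624 : act 6 n4242 = n3236 := d20_2 (iv F11299) D4242 (iv D3236)
def n4243 : Q := act 0 n3235
theorem D4243 : act 0 n3235 = n4243 := rfl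
theorem F14626 : act 1 n4243 = n4243 := d0_2 D3235 D4243 (iv D4243) (iv D3235) F8714
theorem F14627 : act 2 n4243 = n3257 := d1_2 (iv F11301) D4243 (iv D3257)
theorem F14628 : act 4 n4243 = n3245 := d3_2 (iv F11302) D4243 (iv D3245)
theorem F14629 : act 7 n4243 = n3237 := d6_2 (iv F11303) D4243 (iv D3237)
def n4244 : Q := act 3 n3235
theorem D4244 : act 3 n3235 = n4244 := rfl
theorem F14630 : act 1 n4244 = n3236 := d8_1 D4244 (iv D3236) D3235
theorem F14631 : act 7 n4244 = n3238 := d21_2 (iv F11303) D4244 (iv D3238)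
def n4245 : Q := act 4 n3236
theorem D4245 : act 4 n3236 = n4245 := rfl
def n4246 : Q := act 3 n3237
theorem D4246 : act 3 n3237 = n4246 := rfl
theorem F14636 : act 0 n4246 = n3238 := d2_1 D4246 (iv D3238) D3237
theorem F14637 : act 1 n4246 = n4246 := d8_1 D4246 (iv D4246) F11307
theorem F14638 : act 6 n4246 = n4246 := d20_2 F11310 D4246 (iv D4246)
def n4247 : Q := act 2 n3238
theorem D4247 : act 2 n3238 = n4247 := rfl
theorem F14639 : act 1 n4247 = n4247 := d7_1 D4247 (iv D4247) F11311 F8721 (iv F11311)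
theorem F14640 : act 3 n4247 = n3261 := d13_2 D3238 D4247 (iv D3261) (iv D2480) (iv F8717)
def n4248 : Q := act 4 n3238
theorem D4248 : act 4 n3238 = n4248 := rfl
def n4254 : Q := act 0 n3243
theorem D4254 : act 0 n3243 = n4254 := rfl
theorem F14664 : act 1 n4254 = n4254 := d0_2 D3243 D4254 (iv D4254) (iv D3243) F8734
theorem F14665 : act 5 n4254 = n4254 := d4_2 F11328 D4254 (iv D4254)
theorem F14666 : act 6 n4254 = n3245 := d5_2 (iv F11329) D4254 (iv D3245)
theorem F14667 : act 7 n4254 = n4254 := d6_2 F11330 D4254 (iv D4254)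
def n4255 : Q := act 3 n3243
theorem D4255 : act 3 n3243 = n4255 := rfl
def n4257 : Q := act 3 n3245
theorem D4257 : act 3 n3245 = n4257 := rfl
def n4266 : Q := act 0 n3252
theorem D4266 : act 0 n3252 = n4266 := rfl
theorem F14704 : act 1 n4266 = n3293 := d0_2 D3252 D4266 (iv D3293) (iv D2505) (iv F8755)
theorem F14705 : act 4 n4266 = n4266 := d3_2 F11358 D4266 (iv D4266)
theorem F14706 : act 5 n4266 = n3257 := d4_2 (iv F11359) D4266 (iv D3257)
theorem F14707 : act 7 n4266 = n3254 := d6_2 (iv F11360) D4266 (iv D3254)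
def n4267 : Q := act 3 n3252
theorem D4267 : act 3 n3252 = n4267 := rfl
theorem F14708 : act 1 n4267 = n3253 := d8_1 D4267 (iv D3253) D3252
theorem F14709 : act 5 n4267 = n3258 := d19_2 (iv F11359) D4267 (iv D3258)
theorem F14710 : act 7 n4267 = n3255 := d21_2 (iv F11360) D4267 (iv D3255)
def n4268 : Q := act 4 n3253
theorem D4268 : act 4 n3253 = n4268 := rfl
theorem F14711 : act 0 n4268 = n3295 := d3_1 D4268 (iv D3295) (iv F11361)
theorem F14712 : act 2 n4268 = n4268 := d14_1 D4268 (iv D4268) F11362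
theorem F14713 : act 3 n4268 = n4268 := d18_1 D4268 (iv D4268) (iv D3253) F8756 D3253
theorem F14714 : act 7 n4268 = n3256 := d24_2 (iv F11364) D4268 (iv D3256)
def n4269 : Q := act 3 n3254
theorem D4269 : act 3 n3254 = n4269 := rfl
theorem F14715 : act 0 n4269 = n3255 := d2_1 D4269 (iv D3255) D3254
theorem F14716 : act 1 n4269 = n3296 := d8_1 D4269 (iv D3296) (iv F11365)
theorem F14717 : act 5 n4269 = n3260 := d19_2 (iv F11367) D4269 (iv D3260)
theorem F14718 : act 6 n4269 = n3273 := d20_2 (iv F11368) D4269 (iv D3273)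
def n4270 : Q := act 2 n3255
theorem D4270 : act 2 n3255 = n4270 := rfl
theorem F14719 : act 1 n4270 = n4270 := d7_1 D4270 (iv D4270) F11369 F8763 (iv F11369)
theorem F14720 : act 5 n4270 = n3261 := d15_2 (iv F11370) D4270 (iv D3261)
def n4271 : Q := act 4 n3255
theorem D4271 : act 4 n3255 = n4271 := rfl
theorem F14721 : act 1 n4271 = n3256 := d9_1 D4271 (iv D3256) (iv F11369)
theorem F14722 : act 3 n4271 = n4271 := d18_1 D4271 (iv D4271) (iv D3255) F8759 D3255
theorem F14723 : act 6 n4271 = n3275 := d23_2 (iv F11371) D4271 (iv D3275)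
def n4272 : Q := act 5 n3256
theorem D4272 : act 5 n3256 = n4272 := rfl
theorem F14724 : act 0 n4272 = n3299 := d4_1 D4272 (iv D3299) (iv F11372)
theorem F14728 : act 6 n4272 = n3276 := d25_2 (iv F11375) D4272 (iv D3276)
def n4273 : Q := act 3 n3257
theorem D4273 : act 3 n3257 = n4273 := rfl
theorem F14729 : act 0 n4273 = n3258 := d2_1 D4273 (iv D3258) D3257
theorem F14730 : act 1 n4273 = n3300 := d8_1 D4273 (iv D3300) (iv F11376)
theorem F14731 : act 7 n4273 = n3260 := d21_2 (iv F11378) D4273 (iv D3260)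
def n4274 : Q := act 2 n3258
theorem D4274 : act 2 n3258 = n4274 := rfl
theorem F14732 : act 1 n4274 = n4274 := d7_1 D4274 (iv D4274) F11379 F8769 (iv F11379)
theorem F14733 : act 7 n4274 = n3261 := d17_2 (iv F11380) D4274 (iv D3261)
def n4275 : Q := act 4 n3258
theorem D4275 : act 4 n3258 = n4275 := rfl
theorem F14734 : act 1 n4275 = n3259 := d9_1 D4275 (iv D3259) (iv F11379)
theorem F14735 : act 3 n4275 = n3266 := d18_1 D4275 (iv D3266) (iv D2483) (iv F8766) D3258
theorem F14736 : act 7 n4275 = n3262 := d24_2 (iv F11380) D4275 (iv D3262)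
def n4276 : Q := act 5 n3259
theorem D4276 : act 5 n3259 = n4276 := rfl
theorem F14737 : act 0 n4276 = n3303 := d4_1 D4276 (iv D3303) (iv F11381)
def n4277 : Q := act 2 n3260
theorem D4277 : act 2 n3260 = n4277 := rfl
theorem F14741 : act 0 n4277 = n3261 := d1_1 D4277 (iv D3261) (iv F11385)
def n4278 : Q := act 4 n3260
theorem D4278 : act 4 n3260 = n4278 := rfl
theorem F14742 : act 0 n4278 = n3262 := d3_1 D4278 (iv D3262) (iv F11385)
theorem F14743 : act 1 n4278 = n3305 := d9_1 D4278 (iv D3305) (iv F11386)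
theorem F14744 : act 3 n4278 = n3269 := d18_1 D4278 (iv D3269) (iv D2485) (iv F8772) D3260
theorem F14745 : act 6 n4278 = n3278 := d23_2 (iv F11387) D4278 (iv D3278)
def n4279 : Q := act 4 n3261
theorem D4279 : act 4 n3261 = n4279 := rfl
theorem F14746 : act 1 n4279 = n4279 := d9_1 D4279 (iv D4279) F11388
theorem F14747 : act 2 n4279 = n3262 := d14_1 D4279 (iv D3262) D3261
def n4280 : Q := act 6 n3261
theorem D4280 : act 6 n3261 = n4280 := rfl
theorem F14748 : act 1 n4280 = n4280 := d11_1 D4280 (iv D4280) F11388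
theorem F14749 : act 2 n4280 = n3280 := d16_1 D4280 (iv D3280) (iv D2493) (iv F8775) D3261
def n4281 : Q := act 5 n3262
theorem D4281 : act 5 n3262 = n4281 := rfl
theorem F14752 : act 6 n4281 = n3281 := d25_2 (iv F11391) D4281 (iv D3281)
def n4282 : Q := act 2 n3264
theorem D4282 : act 2 n3264 = n4282 := rfl
theorem F14755 : act 7 n4282 = n3268 := d17_2 (iv F11399) D4282 (iv D3268)
def n4283 : Q := act 4 n3264
theorem D4283 : act 4 n3264 = n4283 := rfl
theorem F14756 : act 0 n4283 = n3266 := d3_1 D4283 (iv D3266) (iv F11396)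
theorem F14757 : act 1 n4283 = n3310 := d9_1 D4283 (iv D3310) (iv F11397)
theorem F14758 : act 7 n4283 = n3269 := d24_2 (iv F11399) D4283 (iv D3269)
def n4284 : Q := act 4 n3265
theorem D4284 : act 4 n3265 = n4284 := rfl
theorem F14760 : act 2 n4284 = n3266 := d14_1 D4284 (iv D3266) D3265
theorem F14761 : act 7 n4284 = n3270 := d24_2 (iv F11402) D4284 (iv D3270)
def n4288 : Q := act 4 n3268
theorem D4288 : act 4 n3268 = n4288 := rfl
theorem F14771 : act 2 n4288 = n3269 := d14_1 D4288 (iv D3269) D3268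
def n4295 : Q := act 2 n3273
theorem D4295 : act 2 n3273 = n4295 := rfl
theorem F14789 : act 0 n4295 = n3274 := d1_1 D4295 (iv D3274) (iv F11422)
theorem F14790 : act 3 n4295 = n4295 := d13_2 D3273 D4295 (iv D4295) (iv D3273) F8802
theorem F14791 : act 5 n4295 = n3277 := d15_2 (iv F11424) D4295 (iv D3277)
def n4296 : Q := act 4 n3273
theorem D4296 : act 4 n3273 = n4296 := rfl
theorem F14792 : act 0 n4296 = n3275 := d3_1 D4296 (iv D3275) (iv F11422)
theorem F14793 : act 1 n4296 = n3320 := d9_1 D4296 (iv D3320) (iv F11423)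
theorem F14794 : act 3 n4296 = n4296 := d18_1 D4296 (iv D4296) (iv D3273) F8803 D3273
def n4297 : Q := act 4 n3274
theorem D4297 : act 4 n3274 = n4297 := rfl
theorem F14795 : act 1 n4297 = n3341 := d9_1 D4297 (iv D3341) (iv F11425)
def n4298 : Q := act 6 n3274
theorem D4298 : act 6 n3274 = n4298 := rfl
theorem F14798 : act 3 n4298 = n4298 := d20_1 D4298 (iv D4298) F11426
theorem F14799 : act 5 n4298 = n3280 := d25_1 D4298 (iv D3280) (iv F11427)
def n4300 : Q := act 1 n3277
theorem D4300 : act 1 n3277 = n4300 := rfl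
theorem F14803 : act 0 n4300 = n3344 := d0_1 D4300 (iv D3344) F8963 (iv F8812) (iv F11434)
theorem F14804 : act 2 n4300 = n3324 := d7_2 D3277 D4300 (iv D3324) (iv D2529) (iv F8811)
def n4301 : Q := act 4 n3277
theorem D4301 : act 4 n3277 = n4301 := rfl
theorem F14807 : act 2 n4301 = n3278 := d14_1 D4301 (iv D3278) D3277
def n4302 : Q := act 6 n3277
theorem D4302 : act 6 n3277 = n4302 := rfl
theorem F14808 : act 0 n4302 = n3280 := d5_1 D4302 (iv D3280) (iv F11434)
theorem F14809 : act 3 n4302 = n4302 := d20_1 D4302 (iv D4302) F11435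
def n4303 : Q := act 5 n3278
theorem D4303 : act 5 n3278 = n4303 := rfl
def n4305 : Q := act 5 n3279
theorem D4305 : act 5 n3279 = n4305 := rfl
def n4306 : Q := act 6 n3279
theorem D4306 : act 6 n3279 = n4306 := rfl
def n4307 : Q := act 7 n3280
theorem D4307 : act 7 n3280 = n4307 := rfl
theorem F14821 : act 3 n4307 = n4307 := d21_1 D4307 (iv D4307) F11442
def n4321 : Q := act 3 n3293
theorem D4321 : act 3 n3293 = n4321 := rfl
theorem F14864 : act 0 n4321 = n3294 := d2_1 D4321 (iv D3294) D3293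
theorem F14865 : act 5 n4321 = n3300 := d19_2 (iv F11480) D4321 (iv D3300)
theorem F14866 : act 7 n4321 = n3296 := d21_2 (iv F11481) D4321 (iv D3296)
def n4322 : Q := act 2 n3294
theorem D4322 : act 2 n3294 = n4322 := rfl
theorem F14867 : act 1 n4322 = n4322 := d7_1 D4322 (iv D4322) F11482 F8849 (iv F11482)
theorem F14868 : act 3 n4322 = n4322 := d13_2 D3294 D4322 (iv D4322) (iv D3294) F8845
theorem F14869 : act 5 n4322 = n3301 := d15_2 (iv F11483) D4322 (iv D3301)
theorem F14870 : act 7 n4322 = n3297 := d17_2 (iv F11484) D4322 (iv D3297)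
def n4323 : Q := act 4 n3294
theorem D4323 : act 4 n3294 = n4323 := rfl
theorem F14871 : act 1 n4323 = n3295 := d9_1 D4323 (iv D3295) (iv F11482)
theorem F14873 : act 7 n4323 = n3298 := d24_2 (iv F11484) D4323 (iv D3298)
def n4324 : Q := act 5 n3295
theorem D4324 : act 5 n3295 = n4324 := rfl
theorem F14874 : act 2 n4324 = n4324 := d15_1 D4324 (iv D4324) F11485
theorem F14875 : act 3 n4324 = n4324 := d19_1 D4324 (iv D4324) F11486
theorem F14876 : act 4 n4324 = n3303 := d22_1 D4324 (iv D3303) (iv D2512) (iv F8850) D3295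
theorem F14877 : act 7 n4324 = n3299 := d26_2 (iv F11487) D4324 (iv D3299)
def n4325 : Q := act 2 n3296
theorem D4325 : act 2 n3296 = n4325 := rfl
theorem F14878 : act 0 n4325 = n3297 := d1_1 D4325 (iv D3297) (iv F11488)
theorem F14879 : act 3 n4325 = n4325 := d13_2 D3296 D4325 (iv D4325) (iv D3296) F8852
theorem F14880 : act 5 n4325 = n3304 := d15_2 (iv F11489) D4325 (iv D3304)
def n4326 : Q := act 4 n3296
theorem D4326 : act 4 n3296 = n4326 := rfl
theorem F14883 : act 6 n4326 = n3320 := d23_2 (iv F11490) D4326 (iv D3320)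
def n4327 : Q := act 4 n3297
theorem D4327 : act 4 n3297 = n4327 := rfl
theorem F14885 : act 2 n4327 = n3298 := d14_1 D4327 (iv D3298) D3297
def n4328 : Q := act 6 n3297
theorem D4328 : act 6 n3297 = n4328 := rfl
theorem F14887 : act 2 n4328 = n3322 := d16_1 D4328 (iv D3322) (iv D2526) (iv F8858) D3297
theorem F14888 : act 3 n4328 = n4328 := d20_1 D4328 (iv D4328) F11492
def n4329 : Q := act 5 n3298
theorem D4329 : act 5 n3298 = n4329 := rfl
theorem F14890 : act 1 n4329 = n3299 := d10_1 D4329 (iv D3299) (iv F11494)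
theorem F14892 : act 4 n4329 = n3308 := d22_1 D4329 (iv D3308) (iv D2515) (iv F8857) D3298
theorem F14893 : act 6 n4329 = n3323 := d25_2 (iv F11496) D4329 (iv D3323)
def n4330 : Q := act 2 n3300
theorem D4330 : act 2 n3300 = n4330 := rfl
theorem F14894 : act 0 n4330 = n3301 := d1_1 D4330 (iv D3301) (iv F11501)
theorem F14895 : act 3 n4330 = n4330 := d13_2 D3300 D4330 (iv D4330) (iv D3300) F8862
theorem F14896 : act 7 n4330 = n3304 := d17_2 (iv F11502) D4330 (iv D3304)
def n4331 : Q := act 4 n3300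
theorem D4331 : act 4 n3300 = n4331 := rfl
theorem F14897 : act 0 n4331 = n3302 := d3_1 D4331 (iv D3302) (iv F11501)
theorem F14898 : act 3 n4331 = n3310 := d18_1 D4331 (iv D3310) (iv D2517) (iv F8863) D3300
theorem F14899 : act 7 n4331 = n3305 := d24_2 (iv F11502) D4331 (iv D3305)
def n4332 : Q := act 4 n3301
theorem D4332 : act 4 n3301 = n4332 := rfl
theorem F14900 : act 1 n4332 = n4332 := d9_1 D4332 (iv D4332) F11503
theorem F14901 : act 2 n4332 = n3302 := d14_1 D4332 (iv D3302) D3301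
theorem F14902 : act 7 n4332 = n3306 := d24_2 (iv F11505) D4332 (iv D3306)
def n4333 : Q := act 6 n3301
theorem D4333 : act 6 n3301 = n4333 := rfl
theorem F14903 : act 1 n4333 = n4333 := d11_1 D4333 (iv D4333) F11503
theorem F14904 : act 3 n4333 = n4333 := d20_1 D4333 (iv D4333) F11504
def n4334 : Q := act 5 n3302
theorem D4334 : act 5 n3302 = n4334 := rfl
theorem F14905 : act 1 n4334 = n3303 := d10_1 D4334 (iv D3303) (iv F11506)
theorem F14906 : act 3 n4334 = n3313 := d19_1 D4334 (iv D3313) (iv F11507)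
theorem F14907 : act 7 n4334 = n3308 := d26_2 (iv F11508) D4334 (iv D3308)
def n4335 : Q := act 1 n3304
theorem D4335 : act 1 n3304 = n4335 := rfl
theorem F14908 : act 0 n4335 = n4335 := d0_1 D4335 (iv D4335) F11512 F8872 (iv F11512)
theorem F14909 : act 3 n4335 = n4335 := d8_2 F11513 D4335 (iv D4335)
def n4336 : Q := act 4 n3304
theorem D4336 : act 4 n3304 = n4336 := rfl
theorem F14910 : act 0 n4336 = n3306 := d3_1 D4336 (iv D3306) (iv F11512)
theorem F14911 : act 2 n4336 = n3305 := d14_1 D4336 (iv D3305) D3304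
def n4337 : Q := act 6 n3304
theorem D4337 : act 6 n3304 = n4337 := rfl
theorem F14912 : act 0 n4337 = n3307 := d5_1 D4337 (iv D3307) (iv F11512)
theorem F14913 : act 2 n4337 = n3326 := d16_1 D4337 (iv D3326) (iv D2529) (iv F8871) D3304
theorem F14914 : act 3 n4337 = n4337 := d20_1 D4337 (iv D4337) F11513
def n4338 : Q := act 5 n3305
theorem D4338 : act 5 n3305 = n4338 := rfl
theorem F14915 : act 0 n4338 = n3308 := d4_1 D4338 (iv D3308) (iv F11514)
theorem F14916 : act 3 n4338 = n3316 := d19_1 D4338 (iv D3316) (iv F11515)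
theorem F14917 : act 6 n4338 = n3327 := d25_2 (iv F11516) D4338 (iv D3327)
def n4339 : Q := act 3 n3306
theorem D4339 : act 3 n3306 = n4339 := rfl
theorem F14918 : act 1 n4339 = n4339 := d8_1 D4339 (iv D4339) F11517
theorem F14919 : act 2 n4339 = n3317 := d13_1 D4339 (iv D3317) F8899 (iv F8875) (iv F11518)
theorem F14920 : act 4 n4339 = n4339 := d18_2 D3306 D4339 (iv D4339) (iv D3306) F8873
def n4340 : Q := act 5 n3306
theorem D4340 : act 5 n3306 = n4340 := rfl
theorem F14921 : act 1 n4340 = n4340 := d10_1 D4340 (iv D4340) F11517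
theorem F14922 : act 2 n4340 = n3308 := d15_1 D4340 (iv D3308) (iv F11518)
def n4341 : Q := act 6 n3306
theorem D4341 : act 6 n3306 = n4341 := rfl
theorem F14923 : act 1 n4341 = n4341 := d11_1 D4341 (iv D4341) F11517
theorem F14924 : act 2 n4341 = n3329 := d16_1 D4341 (iv D3329) F8919 (iv F8876) (iv F11518)
theorem F14925 : act 4 n4341 = n3307 := d23_1 D4341 (iv D3307) D3306
def n4342 : Q := act 7 n3307
theorem D4342 : act 7 n3307 = n4342 := rfl
theorem F14926 : act 1 n4342 = n4342 := d12_1 D4342 (iv D4342) F11519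
theorem F14927 : act 2 n4342 = n3330 := d17_1 D4342 (iv D3330) (iv F11520)
theorem F14928 : act 3 n4342 = n4342 := d21_1 D4342 (iv D4342) F11521
def n4343 : Q := act 1 n3309
theorem D4343 : act 1 n3309 = n4343 := rfl
theorem F14932 : act 7 n4343 = n3314 := d12_2 (iv F11528) D4343 (iv D3314)
def n4344 : Q := act 4 n3309
theorem D4344 : act 4 n3309 = n4344 := rfl
theorem F14933 : act 0 n4344 = n3311 := d3_1 D4344 (iv D3311) (iv F11525)
theorem F14934 : act 2 n4344 = n3310 := d14_1 D4344 (iv D3310) D3309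
theorem F14935 : act 7 n4344 = n3315 := d24_2 (iv F11528) D4344 (iv D3315)
def n4345 : Q := act 6 n3309
theorem D4345 : act 6 n3309 = n4345 := rfl
theorem F14936 : act 0 n4345 = n3312 := d5_1 D4345 (iv D3312) (iv F11525)
theorem F14937 : act 3 n4345 = n4345 := d20_1 D4345 (iv D4345) F11526
theorem F14938 : act 5 n4345 = n4345 := d25_1 D4345 (iv D4345) F11527
theorem F14939 : act 7 n4345 = n4345 := d27_2 (iv F11528) D4345 (iv D4345) F11528 F8895
def n4346 : Q := act 5 n3310
theorem D4346 : act 5 n3310 = n4346 := rfl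
theorem F14940 : act 0 n4346 = n3313 := d4_1 D4346 (iv D3313) (iv F11529)
theorem F14941 : act 4 n4346 = n4346 := d22_1 D4346 (iv D4346) (iv D3310) F8881 D3310
theorem F14942 : act 7 n4346 = n3316 := d26_2 (iv F11530) D4346 (iv D3316)
def n4347 : Q := act 3 n3311
theorem D4347 : act 3 n3311 = n4347 := rfl
theorem F14943 : act 1 n4347 = n3533 := d8_1 D4347 (iv D3533) (iv F11531)
theorem F14944 : act 4 n4347 = n4347 := d18_2 D3311 D4347 (iv D4347) (iv D3311) F8884
theorem F14945 : act 7 n4347 = n3317 := d21_2 (iv F11533) D4347 (iv D3317)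
def n4348 : Q := act 5 n3311
theorem D4348 : act 5 n3311 = n4348 := rfl
theorem F14946 : act 1 n4348 = n3534 := d10_1 D4348 (iv D3534) (iv F11531)
theorem F14947 : act 2 n4348 = n3313 := d15_1 D4348 (iv D3313) (iv F11532)
theorem F14948 : act 4 n4348 = n4348 := d22_1 D4348 (iv D4348) (iv D3311) F8885 D3311
theorem F14949 : act 7 n4348 = n3318 := d26_2 (iv F11533) D4348 (iv D3318)
def n4349 : Q := act 6 n3311
theorem D4349 : act 6 n3311 = n4349 := rfl
theorem F14950 : act 1 n4349 = n3535 := d11_1 D4349 (iv D3535) (iv F11531)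
theorem F14951 : act 4 n4349 = n3312 := d23_1 D4349 (iv D3312) D3311
theorem F14952 : act 7 n4349 = n4349 := d27_2 (iv F11533) D4349 (iv D4349) F11533 F8900
def n4350 : Q := act 4 n3314
theorem D4350 : act 4 n3314 = n4350 := rfl
theorem F14954 : act 1 n4350 = n3315 := d9_1 D4350 (iv D3315) D3314
def n4351 : Q := act 3 n3315
theorem D4351 : act 3 n3315 = n4351 := rfl
theorem F14956 : act 0 n4351 = n3317 := d2_1 D4351 (iv D3317) (iv F11545)
theorem F14957 : act 4 n4351 = n4351 := d18_2 D3315 D4351 (iv D4351) (iv D3315) F8893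
theorem F14958 : act 6 n4351 = n4351 := d20_2 F11547 D4351 (iv D4351)
def n4352 : Q := act 5 n3315
theorem D4352 : act 5 n3315 = n4352 := rfl
theorem F14959 : act 0 n4352 = n3318 := d4_1 D4352 (iv D3318) (iv F11545)
theorem F14960 : act 2 n4352 = n3316 := d15_1 D4352 (iv D3316) (iv F11546)
theorem F14961 : act 4 n4352 = n4352 := d22_1 D4352 (iv D4352) (iv D3315) F8894 D3315
theorem F14962 : act 6 n4352 = n4352 := d25_2 F11547 D4352 (iv D4352)
def n4353 : Q := act 5 n3317
theorem D4353 : act 5 n3317 = n4353 := rfl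
theorem F14963 : act 1 n4353 = n3539 := d10_1 D4353 (iv D3539) (iv F11551)
theorem F14964 : act 3 n4353 = n3318 := d19_1 D4353 (iv D3318) D3317
theorem F14965 : act 6 n4353 = n4353 := d25_2 F11553 D4353 (iv D4353)
def n4354 : Q := act 1 n3319
theorem D4354 : act 1 n3319 = n4354 := rfl
theorem F14968 : act 5 n4354 = n3324 := d10_2 (iv F11560) D4354 (iv D3324)
def n4355 : Q := act 4 n3319
theorem D4355 : act 4 n3319 = n4355 := rfl
theorem F14969 : act 0 n4355 = n3321 := d3_1 D4355 (iv D3321) (iv F11558)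
theorem F14970 : act 2 n4355 = n3320 := d14_1 D4355 (iv D3320) D3319
def n4356 : Q := act 6 n3319
theorem D4356 : act 6 n3319 = n4356 := rfl
def n4357 : Q := act 5 n3320
theorem D4357 : act 5 n3320 = n4357 := rfl
theorem F14974 : act 0 n4357 = n3323 := d4_1 D4357 (iv D3323) (iv F11561)
def n4358 : Q := act 3 n3321
theorem D4358 : act 3 n3321 = n4358 := rfl
theorem F14977 : act 1 n4358 = n3369 := d8_1 D4358 (iv D3369) (iv F11563)
def n4359 : Q := act 5 n3321
theorem D4359 : act 5 n3321 = n4359 := rfl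
theorem F14981 : act 2 n4359 = n3323 := d15_1 D4359 (iv D3323) (iv F11564)
def n4360 : Q := act 6 n3321
theorem D4360 : act 6 n3321 = n4360 := rfl
def n4361 : Q := act 7 n3322
theorem D4361 : act 7 n3322 = n4361 := rfl
def n4362 : Q := act 4 n3324
theorem D4362 : act 4 n3324 = n4362 := rfl
theorem F14988 : act 0 n4362 = n3373 := d3_1 D4362 (iv D3373) (iv F11571)
theorem F14989 : act 1 n4362 = n3325 := d9_1 D4362 (iv D3325) D3324
def n4363 : Q := act 6 n3324
theorem D4363 : act 6 n3324 = n4363 := rfl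
theorem F14992 : act 1 n4363 = n3326 := d11_1 D4363 (iv D3326) D3324
def n4364 : Q := act 5 n3325
theorem D4364 : act 5 n3325 = n4364 := rfl
theorem F14995 : act 2 n4364 = n3327 := d15_1 D4364 (iv D3327) (iv F11574)
def n4365 : Q := act 6 n3325
theorem D4365 : act 6 n3325 = n4365 := rfl
theorem F14997 : act 0 n4365 = n3329 := d5_1 D4365 (iv D3329) (iv F11573)
theorem F14998 : act 3 n4365 = n4365 := d20_1 D4365 (iv D4365) F11575
theorem F14999 : act 4 n4365 = n3326 := d23_1 D4365 (iv D3326) D3325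
def n4366 : Q := act 7 n3326
theorem D4366 : act 7 n3326 = n4366 := rfl
theorem F15000 : act 0 n4366 = n3330 := d6_1 D4366 (iv D3330) (iv F11576)
theorem F15001 : act 3 n4366 = n3338 := d21_1 D4366 (iv D3338) (iv F11577)
def n4367 : Q := act 6 n3328
theorem D4367 : act 6 n3328 = n4367 := rfl
theorem F15004 : act 5 n4367 = n3329 := d25_1 D4367 (iv D3329) D3328
def n4368 : Q := act 7 n3329
theorem D4368 : act 7 n3329 = n4368 := rfl
theorem F15005 : act 1 n4368 = n3379 := d12_1 D4368 (iv D3379) (iv F11583)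
theorem F15006 : act 3 n4368 = n4368 := d21_1 D4368 (iv D4368) F11584
theorem F15007 : act 4 n4368 = n3330 := d24_1 D4368 (iv D3330) (iv F11585)
def n4369 : Q := act 4 n3331
theorem D4369 : act 4 n3331 = n4369 := rfl
theorem F15008 : act 0 n4369 = n3380 := d3_1 D4369 (iv D3380) (iv F11588)
theorem F15009 : act 1 n4369 = n3332 := d9_1 D4369 (iv D3332) D3331
def n4370 : Q := act 6 n3331
theorem D4370 : act 6 n3331 = n4370 := rfl
theorem F15013 : act 1 n4370 = n3333 := d11_1 D4370 (iv D3333) D3331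
def n4371 : Q := act 3 n3332
theorem D4371 : act 3 n3332 = n4371 := rfl
theorem F15015 : act 0 n4371 = n3334 := d2_1 D4371 (iv D3334) (iv F11591)
def n4372 : Q := act 6 n3332
theorem D4372 : act 6 n3332 = n4372 := rfl
theorem F15019 : act 2 n4372 = n4372 := d16_1 D4372 (iv D4372) F11592 F8934 (iv F11592)
def n4373 : Q := act 7 n3333
theorem D4373 : act 7 n3333 = n4373 := rfl
theorem F15024 : act 5 n4373 = n3338 := d26_1 D4373 (iv D3338) (iv F11596)
def n4374 : Q := act 6 n3334
theorem D4374 : act 6 n3334 = n4374 := rfl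
theorem F15025 : act 1 n4374 = n3385 := d11_1 D4374 (iv D3385) (iv F11597)
theorem F15026 : act 3 n4374 = n3335 := d20_1 D4374 (iv D3335) D3334
def n4375 : Q := act 7 n3335
theorem D4375 : act 7 n3335 = n4375 := rfl
theorem F15029 : act 2 n4375 = n4375 := d17_1 D4375 (iv D4375) F11601
def n4376 : Q := act 2 n3337
theorem D4376 : act 2 n3337 = n4376 := rfl
theorem F15033 : act 1 n4376 = n4376 := d7_1 D4376 (iv D4376) F11608 F8945 (iv F11608)
def n4377 : Q := act 7 n3337
theorem D4377 : act 7 n3337 = n4377 := rfl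
theorem F15037 : act 1 n4377 = n3338 := d12_1 D4377 (iv D3338) (iv F11608)
def n4378 : Q := act 1 n3339
theorem D4378 : act 1 n3339 = n4378 := rfl
def n4379 : Q := act 4 n3339
theorem D4379 : act 4 n3339 = n4379 := rfl
theorem F15042 : act 0 n4379 = n3341 := d3_1 D4379 (iv D3341) (iv F11613)
theorem F15043 : act 2 n4379 = n3340 := d14_1 D4379 (iv D3340) D3339
def n4382 : Q := act 3 n3341
theorem D4382 : act 3 n3341 = n4382 := rfl
theorem F15053 : act 2 n4382 = n3393 := d13_1 D4382 (iv D3393) F9069 (iv F8957) (iv F11620)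
def n4383 : Q := act 5 n3341
theorem D4383 : act 5 n3341 = n4383 := rfl
theorem F15056 : act 4 n4383 = n3349 := d22_1 D4383 (iv D3349) (iv D2548) (iv F8955) D3341
def n4386 : Q := act 4 n3344
theorem D4386 : act 4 n3344 = n4386 := rfl
theorem F15062 : act 1 n4386 = n3345 := d9_1 D4386 (iv D3345) D3344
theorem F15063 : act 2 n4386 = n3373 := d14_1 D4386 (iv D3373) (iv F11628)
def n4388 : Q := act 3 n3345
theorem D4388 : act 3 n3345 = n4388 := rfl
theorem F15067 : act 2 n4388 = n3352 := d13_1 D4388 (iv D3352) F8977 (iv F8967) (iv F11631)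
def n4392 : Q := act 5 n3348
theorem D4392 : act 5 n3348 = n4392 := rfl
theorem F15077 : act 2 n4392 = n3356 := d15_1 D4392 (iv D3356) (iv F11639)
theorem F15078 : act 3 n4392 = n3349 := d19_1 D4392 (iv D3349) D3348
def n4396 : Q := act 5 n3352
theorem D4396 : act 5 n3352 = n4396 := rfl
def n4397 : Q := act 6 n3352
theorem D4397 : act 6 n3352 = n4397 := rfl
def n4400 : Q := act 4 n3356
theorem D4400 : act 4 n3356 = n4400 := rfl
def n4410 : Q := act 4 n3365
theorem D4410 : act 4 n3365 = n4410 := rfl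
def n4413 : Q := act 5 n3366
theorem D4413 : act 5 n3366 = n4413 := rfl
def n4416 : Q := act 5 n3369
theorem D4416 : act 5 n3369 = n4416 := rfl
theorem F15149 : act 2 n4416 = n3427 := d15_1 D4416 (iv D3427) (iv F11702)
theorem F15150 : act 3 n4416 = n3370 := d19_1 D4416 (iv D3370) D3369
def n4417 : Q := act 6 n3369
theorem D4417 : act 6 n3369 = n4417 := rfl
def n4420 : Q := act 5 n3373
theorem D4420 : act 5 n3373 = n4420 := rfl
def n4421 : Q := act 6 n3373
theorem D4421 : act 6 n3373 = n4421 := rfl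
def n4426 : Q := act 7 n3378
theorem D4426 : act 7 n3378 = n4426 := rfl
theorem F15177 : act 5 n4426 = n3379 := d26_1 D4426 (iv D3379) (iv F11727)
def n4433 : Q := act 2 n3385
theorem D4433 : act 2 n3385 = n4433 := rfl
theorem F15195 : act 3 n4433 = n3454 := d13_2 (iv F11746) D4433 (iv D3454) F9241 (iv F9052)
theorem F15197 : act 6 n4433 = n3444 := d16_2 D3385 D4433 (iv D3444) (iv D2628) (iv F9050)
def n4434 : Q := act 7 n3385
theorem D4434 : act 7 n3385 = n4434 := rfl
def n4439 : Q := act 3 n3390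
theorem D4439 : act 3 n3390 = n4439 := rfl
theorem F15212 : act 0 n4439 = n3393 := d2_1 D4439 (iv D3393) (iv F11760)
def n4440 : Q := act 5 n3390
theorem D4440 : act 5 n3390 = n4440 := rfl
theorem F15216 : act 4 n4440 = n3400 := d22_1 D4440 (iv D3400) (iv D2588) (iv F9064) D3390
def n4443 : Q := act 5 n3393
theorem D4443 : act 5 n3393 = n4443 := rfl
theorem F15225 : act 3 n4443 = n3394 := d19_1 D4443 (iv D3394) D3393
def n4447 : Q := act 3 n3397
theorem D4447 : act 3 n3397 = n4447 := rfl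
theorem F15237 : act 1 n4447 = n3399 := d8_1 D4447 (iv D3399) (iv F11783)
def n4448 : Q := act 5 n3397
theorem D4448 : act 5 n3397 = n4448 := rfl
theorem F15241 : act 1 n4448 = n3400 := d10_1 D4448 (iv D3400) (iv F11783)
theorem F15242 : act 2 n4448 = n3431 := d15_1 D4448 (iv D3431) (iv F11784)
def n4450 : Q := act 2 n3398
theorem D4450 : act 2 n3398 = n4450 := rfl
theorem F15248 : act 6 n4450 = n3433 := d16_2 D3398 D4450 (iv D3433) (iv D2617) (iv F9078)
def n4451 : Q := act 7 n3398
theorem D4451 : act 7 n3398 = n4451 := rfl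
def n4452 : Q := act 5 n3399
theorem D4452 : act 5 n3399 = n4452 := rfl
theorem F15252 : act 0 n4452 = n3403 := d4_1 D4452 (iv D3403) (iv F11788)
theorem F15253 : act 2 n4452 = n3407 := d15_1 D4452 (iv D3407) (iv F11789)
theorem F15254 : act 3 n4452 = n3400 := d19_1 D4452 (iv D3400) D3399
def n4453 : Q := act 6 n3399
theorem D4453 : act 6 n3399 = n4453 := rfl
theorem F15256 : act 3 n4453 = n3401 := d20_1 D4453 (iv D3401) D3399
def n4454 : Q := act 6 n3400
theorem D4454 : act 6 n3400 = n4454 := rfl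
def n4456 : Q := act 4 n3403
theorem D4456 : act 4 n3403 = n4456 := rfl
theorem F15265 : act 2 n4456 = n3411 := d14_1 D4456 (iv D3411) (iv F11800)
def n4457 : Q := act 6 n3403
theorem D4457 : act 6 n3403 = n4457 := rfl
theorem F15268 : act 3 n4457 = n3405 := d20_1 D4457 (iv D3405) (iv F11801)
theorem F15269 : act 5 n4457 = n3404 := d25_1 D4457 (iv D3404) D3403
def n4458 : Q := act 2 n3404
theorem D4458 : act 2 n3404 = n4458 := rfl
theorem F15272 : act 6 n4458 = n3413 := d16_2 D3404 D4458 (iv D3413) (iv D2600) (iv F9090)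
def n4461 : Q := act 4 n3407
theorem D4461 : act 4 n3407 = n4461 := rfl
def n4462 : Q := act 6 n3407
theorem D4462 : act 6 n3407 = n4462 := rfl
def n4466 : Q := act 6 n3411
theorem D4466 : act 6 n3411 = n4466 := rfl
theorem F15298 : act 4 n4466 = n3412 := d23_1 D4466 (iv D3412) D3411
def n4467 : Q := act 2 n3412
theorem D4467 : act 2 n3412 = n4467 := rfl
theorem F15301 : act 5 n4467 = n3413 := d15_2 (iv F11830) D4467 (iv D3413)
def n4468 : Q := act 7 n3412
theorem D4468 : act 7 n3412 = n4468 := rfl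
def n4469 : Q := act 1 n3413
theorem D4469 : act 1 n3413 = n4469 := rfl
def n4470 : Q := act 7 n3413
theorem D4470 : act 7 n3413 = n4470 := rfl
theorem F15308 : act 2 n4470 = n3414 := d17_1 D4470 (iv D3414) D3413
def n4472 : Q := act 7 n3416
theorem D4472 : act 7 n3416 = n4472 := rfl
def n4473 : Q := act 1 n3417
theorem D4473 : act 1 n3417 = n4473 := rfl
def n4474 : Q := act 7 n3417
theorem D4474 : act 7 n3417 = n4474 := rfl
theorem F15324 : act 5 n4474 = n3420 := d26_1 D4474 (iv D3420) (iv F11844)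
def n4477 : Q := act 6 n3420
theorem D4477 : act 6 n3420 = n4477 := rfl
def n4482 : Q := act 7 n3422
theorem D4482 : act 7 n3422 = n4482 := rfl
def n4486 : Q := act 7 n3425
theorem D4486 : act 7 n3425 = n4486 := rfl
def n4487 : Q := act 6 n3427
theorem D4487 : act 6 n3427 = n4487 := rfl
def n4491 : Q := act 6 n3431
theorem D4491 : act 6 n3431 = n4491 := rfl
def n4493 : Q := act 7 n3432
theorem D4493 : act 7 n3432 = n4493 := rfl
def n4495 : Q := act 7 n3433
theorem D4495 : act 7 n3433 = n4495 := rfl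
theorem F15394 : act 2 n4495 = n3434 := d17_1 D4495 (iv D3434) D3433
def n4496 : Q := act 7 n3435
theorem D4496 : act 7 n3435 = n4496 := rfl
def n4500 : Q := act 7 n3439
theorem D4500 : act 7 n3439 = n4500 := rfl
def n4502 : Q := act 7 n3440
theorem D4502 : act 7 n3440 = n4502 := rfl
theorem F15421 : act 2 n4502 = n3441 := d17_1 D4502 (iv D3441) D3440
def n4503 : Q := act 2 n3442
theorem D4503 : act 2 n3442 = n4503 := rfl
theorem F15424 : act 3 n4503 = n3464 := d13_2 (iv F11926) D4503 (iv D3464) F9274 (iv F9199)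
def n4504 : Q := act 7 n3442
theorem D4504 : act 7 n3442 = n4504 := rfl
def n4505 : Q := act 1 n3444
theorem D4505 : act 1 n3444 = n4505 := rfl
theorem F15430 : act 3 n4505 = n3466 := d8_2 (iv F11932) D4505 (iv D3466)
def n4506 : Q := act 7 n3444
theorem D4506 : act 7 n3444 = n4506 := rfl
theorem F15432 : act 2 n4506 = n3445 := d17_1 D4506 (iv D3445) D3444
def n4509 : Q := act 6 n3447
theorem D4509 : act 6 n3447 = n4509 := rfl
def n4510 : Q := act 2 n3448
theorem D4510 : act 2 n3448 = n4510 := rfl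
theorem F15446 : act 0 n4510 = n4510 := d1_1 D4510 (iv D4510) F11944
theorem F15447 : act 1 n4510 = n3458 := d7_1 D4510 (iv D3458) F9257 (iv F9229) (iv F11945)
def n4511 : Q := act 6 n3448
theorem D4511 : act 6 n3448 = n4511 := rfl
theorem F15452 : act 0 n4511 = n4511 := d5_1 D4511 (iv D4511) F11944
theorem F15453 : act 1 n4511 = n3452 := d11_1 D4511 (iv D3452) (iv F11945)
def n4514 : Q := act 3 n3450
theorem D4514 : act 3 n3450 = n4514 := rfl
theorem F15468 : act 5 n4514 = n3456 := d19_2 (iv F11954) D4514 (iv D3456)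
def n4515 : Q := act 7 n3450
theorem D4515 : act 7 n3450 = n4515 := rfl
theorem F15472 : act 5 n4515 = n3457 := d26_1 D4515 (iv D3457) (iv F11954)
def n4516 : Q := act 2 n3452
theorem D4516 : act 2 n3452 = n4516 := rfl
theorem F15476 : act 6 n4516 = n3464 := d16_2 D3452 D4516 (iv D3464) (iv D2645) (iv F9229)
def n4518 : Q := act 1 n3454
theorem D4518 : act 1 n3454 = n4518 := rfl
theorem F15482 : act 2 n4518 = n4518 := d7_2 D3454 D4518 (iv D4518) (iv D3454) F9240
def n4521 : Q := act 7 n3456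
theorem D4521 : act 7 n3456 = n4521 := rfl
theorem F15495 : act 3 n4521 = n3457 := d21_1 D4521 (iv D3457) D3456
def n4522 : Q := act 6 n3457
theorem D4522 : act 6 n3457 = n4522 := rfl
def n4532 : Q := act 7 n3464
theorem D4532 : act 7 n3464 = n4532 := rfl
def n4615 : Q := act 3 n3530
theorem D4615 : act 3 n3530 = n4615 := rfl
theorem F15813 : act 0 n4615 = n3533 := d2_1 D4615 (iv D3533) (iv F12244)
theorem F15816 : act 7 n4615 = n3537 := d21_2 (iv F12246) D4615 (iv D3537)
def n4617 : Q := act 6 n3530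
theorem D4617 : act 6 n3530 = n4617 := rfl
theorem F15821 : act 0 n4617 = n3535 := d5_1 D4617 (iv D3535) (iv F12244)
def n4618 : Q := act 5 n3533
theorem D4618 : act 5 n3533 = n4618 := rfl
theorem F15827 : act 7 n4618 = n3539 := d26_2 (iv F12259) D4618 (iv D3539)
def n4619 : Q := act 6 n3533
theorem D4619 : act 6 n3533 = n4619 := rfl
theorem F15828 : act 3 n4619 = n3535 := d20_1 D4619 (iv D3535) D3533
def n4758 : Q := act 7 n3642
theorem D4758 : act 7 n3642 = n4758 := rfl
theorem F16312 : act 2 n4758 = n3643 := d17_1 D4758 (iv D3643) D3642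
theorem F16313 : act 5 n4758 = n3647 := d26_1 D4758 (iv D3647) (iv F12642)
def n4759 : Q := act 6 n3643
theorem D4759 : act 6 n3643 = n4759 := rfl
theorem F16315 : act 1 n4759 = n3674 := d11_1 D4759 (iv D3674) (iv F12644)
theorem F16316 : act 3 n4759 = n3652 := d20_1 D4759 (iv D3652) (iv F12645)
theorem F16317 : act 5 n4759 = n3648 := d25_1 D4759 (iv D3648) (iv F12646)
def n4764 : Q := act 7 n3646
theorem D4764 : act 7 n3646 = n4764 := rfl
theorem F16331 : act 0 n4764 = n3781 := d6_1 D4764 (iv D3781) (iv F12654)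
theorem F16332 : act 2 n4764 = n3655 := d17_1 D4764 (iv D3655) (iv F12655)
theorem F16333 : act 3 n4764 = n3647 := d21_1 D4764 (iv D3647) D3646
def n4765 : Q := act 6 n3647
theorem D4765 : act 6 n3647 = n4765 := rfl
theorem F16334 : act 0 n4765 = n3782 := d5_1 D4765 (iv D3782) (iv F12656)
def n4766 : Q := act 2 n3648
theorem D4766 : act 2 n3648 = n4766 := rfl
theorem F16336 : act 0 n4766 = n3783 := d1_1 D4766 (iv D3783) (iv F12659)
theorem F16338 : act 7 n4766 = n3649 := d17_2 (iv F12663) D4766 (iv D3649)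
def n4767 : Q := act 1 n3649
theorem D4767 : act 1 n3649 = n4767 := rfl
theorem F16339 : act 2 n4767 = n3679 := d7_2 D3649 D4767 (iv D3679) (iv D2811) (iv F9800)
def n4768 : Q := act 3 n3649
theorem D4768 : act 3 n3649 = n4768 := rfl
theorem F16341 : act 0 n4768 = n3785 := d2_1 D4768 (iv D3785) (iv F12664)
theorem F16342 : act 2 n4768 = n3659 := d13_1 D4768 (iv D3659) (iv D2796) (iv F9801) D3649
def n4772 : Q := act 2 n3652
theorem D4772 : act 2 n3652 = n4772 := rfl
theorem F16358 : act 5 n4772 = n3657 := d15_2 (iv F12678) D4772 (iv D3657)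
theorem F16359 : act 7 n4772 = n3653 := d17_2 (iv F12679) D4772 (iv D3653)
def n4773 : Q := act 1 n3653
theorem D4773 : act 1 n3653 = n4773 := rfl
theorem F16360 : act 2 n4773 = n3682 := d7_2 D3653 D4773 (iv D3682) (iv D2813) (iv F9813)
theorem F16362 : act 5 n4773 = n3658 := d10_2 (iv F12682) D4773 (iv D3658)
def n4777 : Q := act 6 n3655
theorem D4777 : act 6 n3655 = n4777 := rfl
theorem F16377 : act 3 n4777 = n3656 := d20_1 D4777 (iv D3656) (iv F12690)
def n4778 : Q := act 2 n3656
theorem D4778 : act 2 n3656 = n4778 := rfl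
theorem F16379 : act 0 n4778 = n3795 := d1_1 D4778 (iv D3795) (iv F12691)
theorem F16380 : act 4 n4778 = n3663 := d14_2 (iv F12693) D4778 (iv D3663)
theorem F16381 : act 6 n4778 = n3657 := d16_2 D3656 D4778 (iv D3657) (iv D2795) (iv F9821)
def n4779 : Q := act 1 n3657
theorem D4779 : act 1 n3657 = n4779 := rfl
theorem F16383 : act 2 n4779 = n3684 := d7_2 D3657 D4779 (iv D3684) (iv D2814) (iv F9824)
theorem F16384 : act 4 n4779 = n3664 := d9_2 (iv F12696) D4779 (iv D3664)

end Cfsg.Agent.Helper17.FiR2TC
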