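import Cfsg.Agent.Helper17.FiR2TC.Facts1

set_option autoImplicit false
set_option linter.all false

noncomputable section

namespace Cfsg.Agent.Helper17.FiR2TC

theorem F16385 : act 7 n4779 = n3658 := d12_2 (iv F12697) D4779 (iv D3658)
def n4780 : Q := act 3 n3657
theorem D4780 : act 3 n3657 = n4780 := rfl
theorem F16386 : act 0 n4780 = n3797 := d2_1 D4780 (iv D3797) (iv F12695)
theorem F16387 : act 7 n4780 = n3659 := d21_2 (iv F12697) D4780 (iv D3659)
def n4781 : Q := act 0 n3658
theorem D4781 : act 0 n3658 = n4781 := rfl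
theorem F16388 : act 1 n4781 = n3798 := d0_2 D3658 D4781 (iv D3798) (iv D2896) (iv F9827)
theorem F16389 : act 2 n4781 = n3686 := d1_2 (iv F12698) D4781 (iv D3686)
theorem F16390 : act 4 n4781 = n3666 := d3_2 (iv F12699) D4781 (iv D3666)
theorem F16391 : act 6 n4781 = n4781 := d5_2 F12700 D4781 (iv D4781)
def n4782 : Q := act 3 n3658
theorem D4782 : act 3 n3658 = n4782 := rfl
theorem F16392 : act 1 n4782 = n3659 := d8_1 D4782 (iv D3659) D3658
theorem F16393 : act 6 n4782 = n4782 := d20_2 F12700 D4782 (iv D4782)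
def n4783 : Q := act 4 n3659
theorem D4783 : act 4 n3659 = n4783 := rfl
theorem F16394 : act 0 n4783 = n3800 := d3_1 D4783 (iv D3800) (iv F12701)
theorem F16395 : act 3 n4783 = n3668 := d18_1 D4783 (iv D3668) (iv D2802) (iv F9828) D3659
theorem F16396 : act 6 n4783 = n4783 := d23_2 F12702 D4783 (iv D4783)
def n4786 : Q := act 2 n3662
theorem D4786 : act 2 n3662 = n4786 := rfl
theorem F16406 : act 0 n4786 = n3803 := d1_1 D4786 (iv D3803) (iv F12712)
def n4787 : Q := act 1 n3663
theorem D4787 : act 1 n3663 = n4787 := rfl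
theorem F16412 : act 6 n4787 = n3664 := d11_2 (iv F12719) D4787 (iv D3664)
def n4788 : Q := act 3 n3663
theorem D4788 : act 3 n3663 = n4788 := rfl
theorem F16414 : act 0 n4788 = n3805 := d2_1 D4788 (iv D3805) (iv F12717)
theorem F16416 : act 6 n4788 = n3665 := d20_2 (iv F12719) D4788 (iv D3665)
def n4789 : Q := act 0 n3664
theorem D4789 : act 0 n3664 = n4789 := rfl
theorem F16418 : act 1 n4789 = n3806 := d0_2 D3664 D4789 (iv D3806) (iv D2902) (iv F9843)
theorem F16419 : act 2 n4789 = n3689 := d1_2 (iv F12721) D4789 (iv D3689)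
theorem F16420 : act 5 n4789 = n4789 := d4_2 F12722 D4789 (iv D4789)
theorem F16421 : act 7 n4789 = n3666 := d6_2 (iv F12723) D4789 (iv D3666)
def n4790 : Q := act 3 n3664
theorem D4790 : act 3 n3664 = n4790 := rfl
theorem F16422 : act 1 n4790 = n3665 := d8_1 D4790 (iv D3665) D3664
theorem F16423 : act 5 n4790 = n4790 := d19_2 F12722 D4790 (iv D4790)
theorem F16424 : act 7 n4790 = n3667 := d21_2 (iv F12723) D4790 (iv D3667)
def n4791 : Q := act 4 n3665
theorem D4791 : act 4 n3665 = n4791 := rfl
theorem F16425 : act 0 n4791 = n3808 := d3_1 D4791 (iv D3808) (iv F12724)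
theorem F16426 : act 2 n4791 = n4791 := d14_1 D4791 (iv D4791) F12725
theorem F16427 : act 7 n4791 = n3668 := d24_2 (iv F12727) D4791 (iv D3668)
def n4792 : Q := act 3 n3666
theorem D4792 : act 3 n3666 = n4792 := rfl
theorem F16428 : act 0 n4792 = n3667 := d2_1 D4792 (iv D3667) D3666
theorem F16429 : act 1 n4792 = n3809 := d8_1 D4792 (iv D3809) (iv F12728)
theorem F16430 : act 5 n4792 = n4792 := d19_2 F12730 D4792 (iv D4792)
theorem F16431 : act 6 n4792 = n4792 := d20_2 F12731 D4792 (iv D4792)
def n4793 : Q := act 2 n3667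
theorem D4793 : act 2 n3667 = n4793 := rfl
theorem F16432 : act 1 n4793 = n4793 := d7_1 D4793 (iv D4793) F12732 F9850 (iv F12732)
theorem F16433 : act 3 n4793 = n3693 := d13_2 D3667 D4793 (iv D3693) (iv D2820) (iv F9846)
theorem F16434 : act 5 n4793 = n4793 := d15_2 F12733 D4793 (iv D4793)
def n4794 : Q := act 4 n3667
theorem D4794 : act 4 n3667 = n4794 := rfl
theorem F16435 : act 1 n4794 = n3668 := d9_1 D4794 (iv D3668) (iv F12732)
theorem F16436 : act 6 n4794 = n4794 := d23_2 F12734 D4794 (iv D4794)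
def n4795 : Q := act 5 n3668
theorem D4795 : act 5 n3668 = n4795 := rfl
theorem F16437 : act 0 n4795 = n3812 := d4_1 D4795 (iv D3812) (iv F12735)
theorem F16438 : act 2 n4795 = n4795 := d15_1 D4795 (iv D4795) F12736
theorem F16439 : act 4 n4795 = n4795 := d22_1 D4795 (iv D4795) (iv D3668) F9851 D3668
theorem F16440 : act 6 n4795 = n4795 := d25_2 F12737 D4795 (iv D4795)
def n4803 : Q := act 2 n3674
theorem D4803 : act 2 n3674 = n4803 := rfl
theorem F16473 : act 7 n4803 = n3675 := d17_2 (iv F12761) D4803 (iv D3675)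
def n4804 : Q := act 1 n3675
theorem D4804 : act 1 n3675 = n4804 := rfl
theorem F16474 : act 5 n4804 = n3679 := d10_2 (iv F12763) D4804 (iv D3679)
def n4805 : Q := act 3 n3675
theorem D4805 : act 3 n3675 = n4805 := rfl
theorem F16477 : act 2 n4805 = n3683 := d13_1 D4805 (iv D3683) (iv D2813) (iv F9870) D3675
def n4807 : Q := act 2 n3677
theorem D4807 : act 2 n3677 = n4807 := rfl
theorem F16487 : act 6 n4807 = n3678 := d16_2 D3677 D4807 (iv D3678) (iv D2810) (iv F9877)
def n4808 : Q := act 1 n3678
theorem D4808 : act 1 n3678 = n4808 := rfl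
theorem F16490 : act 7 n4808 = n3679 := d12_2 (iv F12775) D4808 (iv D3679)
def n4809 : Q := act 3 n3678
theorem D4809 : act 3 n3678 = n4809 := rfl
theorem F16491 : act 0 n4809 = n3722 := d2_1 D4809 (iv D3722) (iv F12773)
theorem F16492 : act 2 n4809 = n3685 := d13_1 D4809 (iv D3685) (iv D2814) (iv F9881) D3678
theorem F16493 : act 7 n4809 = n3680 := d21_2 (iv F12775) D4809 (iv D3680)
def n4810 : Q := act 0 n3679
theorem D4810 : act 0 n3679 = n4810 := rfl
theorem F16494 : act 1 n4810 = n3723 := d0_2 D3679 D4810 (iv D3723) (iv D2842) (iv F9884)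
theorem F16495 : act 4 n4810 = n4810 := d3_2 F12776 D4810 (iv D4810)
theorem F16496 : act 6 n4810 = n4810 := d5_2 F12777 D4810 (iv D4810)
def n4811 : Q := act 3 n3679
theorem D4811 : act 3 n3679 = n4811 := rfl
theorem F16497 : act 1 n4811 = n3680 := d8_1 D4811 (iv D3680) D3679
theorem F16498 : act 6 n4811 = n4811 := d20_2 F12777 D4811 (iv D4811)
def n4812 : Q := act 4 n3680
theorem D4812 : act 4 n3680 = n4812 := rfl
theorem F16499 : act 0 n4812 = n3725 := d3_1 D4812 (iv D3725) (iv F12778)
theorem F16500 : act 2 n4812 = n3688 := d14_1 D4812 (iv D3688) (iv F12779)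
theorem F16501 : act 3 n4812 = n4812 := d18_1 D4812 (iv D4812) (iv D3680) F9885 D3680
theorem F16502 : act 6 n4812 = n4812 := d23_2 F12780 D4812 (iv D4812)
def n4813 : Q := act 1 n3681
theorem D4813 : act 1 n3681 = n4813 := rfl
theorem F16504 : act 5 n4813 = n3684 := d10_2 (iv F12783) D4813 (iv D3684)
theorem F16506 : act 7 n4813 = n3682 := d12_2 (iv F12785) D4813 (iv D3682)
def n4814 : Q := act 3 n3681
theorem D4814 : act 3 n3681 = n4814 := rfl
theorem F16508 : act 5 n4814 = n3685 := d19_2 (iv F12783) D4814 (iv D3685)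
def n4815 : Q := act 0 n3682
theorem D4815 : act 0 n3682 = n4815 := rfl
theorem F16511 : act 1 n4815 = n3728 := d0_2 D3682 D4815 (iv D3728) (iv D2845) (iv F9891)
theorem F16512 : act 4 n4815 = n4815 := d3_2 F12786 D4815 (iv D4815)
theorem F16513 : act 5 n4815 = n3686 := d4_2 (iv F12787) D4815 (iv D3686)
theorem F16514 : act 6 n4815 = n3696 := d5_2 (iv F12788) D4815 (iv D3696)
def n4816 : Q := act 3 n3682
theorem D4816 : act 3 n3682 = n4816 := rfl
theorem F16515 : act 1 n4816 = n3683 := d8_1 D4816 (iv D3683) D3682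
theorem F16516 : act 5 n4816 = n3687 := d19_2 (iv F12787) D4816 (iv D3687)
theorem F16517 : act 6 n4816 = n3697 := d20_2 (iv F12788) D4816 (iv D3697)
def n4817 : Q := act 4 n3683
theorem D4817 : act 4 n3683 = n4817 := rfl
theorem F16518 : act 0 n4817 = n3730 := d3_1 D4817 (iv D3730) (iv F12789)
theorem F16519 : act 3 n4817 = n4817 := d18_1 D4817 (iv D4817) (iv D3683) F9892 D3683
theorem F16520 : act 6 n4817 = n3698 := d23_2 (iv F12791) D4817 (iv D3698)
def n4818 : Q := act 0 n3684
theorem D4818 : act 0 n3684 = n4818 := rfl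
theorem F16521 : act 1 n4818 = n3731 := d0_2 D3684 D4818 (iv D3731) (iv D2847) (iv F9895)
theorem F16522 : act 4 n4818 = n3689 := d3_2 (iv F12792) D4818 (iv D3689)
theorem F16523 : act 6 n4818 = n4818 := d5_2 F12793 D4818 (iv D4818)
theorem F16524 : act 7 n4818 = n3686 := d6_2 (iv F12794) D4818 (iv D3686)
def n4819 : Q := act 3 n3684
theorem D4819 : act 3 n3684 = n4819 := rfl
theorem F16525 : act 1 n4819 = n3685 := d8_1 D4819 (iv D3685) D3684
theorem F16526 : act 6 n4819 = n4819 := d20_2 F12793 D4819 (iv D4819)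
theorem F16527 : act 7 n4819 = n3687 := d21_2 (iv F12794) D4819 (iv D3687)
def n4820 : Q := act 4 n3685
theorem D4820 : act 4 n3685 = n4820 := rfl
theorem F16528 : act 0 n4820 = n3733 := d3_1 D4820 (iv D3733) (iv F12795)
theorem F16529 : act 3 n4820 = n3691 := d18_1 D4820 (iv D3691) (iv D2818) (iv F9896) D3685
theorem F16530 : act 6 n4820 = n4820 := d23_2 F12796 D4820 (iv D4820)
theorem F16531 : act 7 n4820 = n3688 := d24_2 (iv F12797) D4820 (iv D3688)
def n4821 : Q := act 3 n3686
theorem D4821 : act 3 n3686 = n4821 := rfl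
theorem F16532 : act 0 n4821 = n3687 := d2_1 D4821 (iv D3687) D3686
theorem F16533 : act 1 n4821 = n3734 := d8_1 D4821 (iv D3734) (iv F12798)
theorem F16534 : act 6 n4821 = n3699 := d20_2 (iv F12800) D4821 (iv D3699)
def n4822 : Q := act 2 n3687
theorem D4822 : act 2 n3687 = n4822 := rfl
def n4823 : Q := act 4 n3687
theorem D4823 : act 4 n3687 = n4823 := rfl
theorem F16535 : act 1 n4823 = n3688 := d9_1 D4823 (iv D3688) (iv F12801)
theorem F16536 : act 3 n4823 = n3694 := d18_1 D4823 (iv D3694) (iv D2820) (iv F9899) D3687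
theorem F16537 : act 6 n4823 = n3701 := d23_2 (iv F12802) D4823 (iv D3701)
def n4824 : Q := act 5 n3688
theorem D4824 : act 5 n3688 = n4824 := rfl
theorem F16538 : act 0 n4824 = n3737 := d4_1 D4824 (iv D3737) (iv F12803)
theorem F16539 : act 3 n4824 = n3695 := d19_1 D4824 (iv D3695) (iv F12804)
theorem F16540 : act 6 n4824 = n3702 := d25_2 (iv F12805) D4824 (iv D3702)
def n4825 : Q := act 3 n3689
theorem D4825 : act 3 n3689 = n4825 := rfl
theorem F16541 : act 0 n4825 = n3690 := d2_1 D4825 (iv D3690) D3689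
theorem F16542 : act 1 n4825 = n3738 := d8_1 D4825 (iv D3738) (iv F12806)
theorem F16543 : act 5 n4825 = n4825 := d19_2 F12807 D4825 (iv D4825)
theorem F16544 : act 6 n4825 = n4825 := d20_2 F12808 D4825 (iv D4825)
theorem F16545 : act 7 n4825 = n3692 := d21_2 (iv F12809) D4825 (iv D3692)
def n4826 : Q := act 2 n3690
theorem D4826 : act 2 n3690 = n4826 := rfl
theorem F16546 : act 1 n4826 = n4826 := d7_1 D4826 (iv D4826) F12810 F9907 (iv F12810)
theorem F16547 : act 5 n4826 = n4826 := d15_2 F12811 D4826 (iv D4826)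
theorem F16548 : act 7 n4826 = n3693 := d17_2 (iv F12813) D4826 (iv D3693)
def n4827 : Q := act 4 n3690
theorem D4827 : act 4 n3690 = n4827 := rfl
theorem F16549 : act 1 n4827 = n3691 := d9_1 D4827 (iv D3691) (iv F12810)
theorem F16550 : act 6 n4827 = n4827 := d23_2 F12812 D4827 (iv D4827)
theorem F16551 : act 7 n4827 = n3694 := d24_2 (iv F12813) D4827 (iv D3694)
def n4828 : Q := act 5 n3691
theorem D4828 : act 5 n3691 = n4828 := rfl
theorem F16552 : act 0 n4828 = n3741 := d4_1 D4828 (iv D3741) (iv F12814)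
theorem F16553 : act 2 n4828 = n4828 := d15_1 D4828 (iv D4828) F12815
theorem F16554 : act 4 n4828 = n4828 := d22_1 D4828 (iv D4828) (iv D3691) F9908 D3691
theorem F16555 : act 6 n4828 = n4828 := d25_2 F12816 D4828 (iv D4828)
theorem F16556 : act 7 n4828 = n3695 := d26_2 (iv F12817) D4828 (iv D3695)
def n4829 : Q := act 2 n3692
theorem D4829 : act 2 n3692 = n4829 := rfl
theorem F16557 : act 0 n4829 = n3693 := d1_1 D4829 (iv D3693) (iv F12818)
theorem F16558 : act 5 n4829 = n4829 := d15_2 F12820 D4829 (iv D4829)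
def n4830 : Q := act 4 n3692
theorem D4830 : act 4 n3692 = n4830 := rfl
theorem F16559 : act 0 n4830 = n3694 := d3_1 D4830 (iv D3694) (iv F12818)
theorem F16560 : act 1 n4830 = n3743 := d9_1 D4830 (iv D3743) (iv F12819)
theorem F16561 : act 6 n4830 = n3704 := d23_2 (iv F12821) D4830 (iv D3704)
def n4831 : Q := act 4 n3693
theorem D4831 : act 4 n3693 = n4831 := rfl
theorem F16562 : act 1 n4831 = n4831 := d9_1 D4831 (iv D4831) F12822
theorem F16563 : act 2 n4831 = n3694 := d14_1 D4831 (iv D3694) D3693
def n4832 : Q := act 6 n3693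
theorem D4832 : act 6 n3693 = n4832 := rfl
theorem F16564 : act 1 n4832 = n4832 := d11_1 D4832 (iv D4832) F12822
theorem F16565 : act 2 n4832 = n3706 := d16_1 D4832 (iv D3706) (iv D2828) (iv F9916) D3693
theorem F16566 : act 5 n4832 = n4832 := d25_1 D4832 (iv D4832) F12823
def n4833 : Q := act 5 n3694
theorem D4833 : act 5 n3694 = n4833 := rfl
theorem F16567 : act 1 n4833 = n3695 := d10_1 D4833 (iv D3695) (iv F12824)
theorem F16568 : act 4 n4833 = n4833 := d22_1 D4833 (iv D4833) (iv D3694) F9915 D3694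
theorem F16569 : act 6 n4833 = n3707 := d25_2 (iv F12825) D4833 (iv D3707)
def n4834 : Q := act 3 n3696
theorem D4834 : act 3 n3696 = n4834 := rfl
theorem F16570 : act 0 n4834 = n3697 := d2_1 D4834 (iv D3697) D3696
theorem F16571 : act 1 n4834 = n3746 := d8_1 D4834 (iv D3746) (iv F12830)
theorem F16572 : act 5 n4834 = n3699 := d19_2 (iv F12833) D4834 (iv D3699)
theorem F16573 : act 7 n4834 = n4834 := d21_2 F12834 D4834 (iv D4834)
def n4835 : Q := act 2 n3697
theorem D4835 : act 2 n3697 = n4835 := rfl
theorem F16574 : act 1 n4835 = n4835 := d7_1 D4835 (iv D4835) F12835 F9925 (iv F12835)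
theorem F16575 : act 3 n4835 = n4835 := d13_2 D3697 D4835 (iv D4835) (iv D3697) F9920
theorem F16576 : act 5 n4835 = n3700 := d15_2 (iv F12836) D4835 (iv D3700)
theorem F16577 : act 7 n4835 = n4835 := d17_2 F12837 D4835 (iv D4835)
def n4836 : Q := act 4 n3697
theorem D4836 : act 4 n3697 = n4836 := rfl
theorem F16578 : act 1 n4836 = n3698 := d9_1 D4836 (iv D3698) (iv F12835)
theorem F16579 : act 3 n4836 = n4836 := d18_1 D4836 (iv D4836) (iv D3697) F9921 D3697
theorem F16580 : act 7 n4836 = n4836 := d24_2 F12837 D4836 (iv D4836)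
def n4837 : Q := act 5 n3698
theorem D4837 : act 5 n3698 = n4837 := rfl
theorem F16581 : act 0 n4837 = n3749 := d4_1 D4837 (iv D3749) (iv F12838)
theorem F16582 : act 2 n4837 = n4837 := d15_1 D4837 (iv D4837) F12839
theorem F16583 : act 3 n4837 = n4837 := d19_1 D4837 (iv D4837) F12840
theorem F16584 : act 4 n4837 = n3702 := d22_1 D4837 (iv D3702) (iv D2826) (iv F9926) D3698
theorem F16585 : act 7 n4837 = n4837 := d26_2 F12841 D4837 (iv D4837)
def n4838 : Q := act 2 n3699
theorem D4838 : act 2 n3699 = n4838 := rfl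
theorem F16586 : act 0 n4838 = n3700 := d1_1 D4838 (iv D3700) (iv F12842)
theorem F16587 : act 3 n4838 = n4838 := d13_2 D3699 D4838 (iv D4838) (iv D3699) F9929
theorem F16588 : act 7 n4838 = n4838 := d17_2 F12844 D4838 (iv D4838)
def n4839 : Q := act 4 n3699
theorem D4839 : act 4 n3699 = n4839 := rfl
theorem F16589 : act 0 n4839 = n3701 := d3_1 D4839 (iv D3701) (iv F12842)
theorem F16590 : act 1 n4839 = n3751 := d9_1 D4839 (iv D3751) (iv F12843)
theorem F16591 : act 3 n4839 = n3704 := d18_1 D4839 (iv D3704) (iv D2827) (iv F9930) D3699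
theorem F16592 : act 7 n4839 = n4839 := d24_2 F12844 D4839 (iv D4839)
def n4840 : Q := act 4 n3700
theorem D4840 : act 4 n3700 = n4840 := rfl
theorem F16593 : act 1 n4840 = n4840 := d9_1 D4840 (iv D4840) F12845
theorem F16594 : act 2 n4840 = n3701 := d14_1 D4840 (iv D3701) D3700
theorem F16595 : act 7 n4840 = n4840 := d24_2 F12847 D4840 (iv D4840)
def n4841 : Q := act 6 n3700
theorem D4841 : act 6 n3700 = n4841 := rfl
theorem F16596 : act 1 n4841 = n4841 := d11_1 D4841 (iv D4841) F12845
theorem F16597 : act 3 n4841 = n4841 := d20_1 D4841 (iv D4841) F12846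
def n4842 : Q := act 5 n3701
theorem D4842 : act 5 n3701 = n4842 := rfl
theorem F16598 : act 1 n4842 = n3702 := d10_1 D4842 (iv D3702) (iv F12848)
theorem F16599 : act 3 n4842 = n3707 := d19_1 D4842 (iv D3707) (iv F12849)
theorem F16600 : act 7 n4842 = n4842 := d26_2 F12850 D4842 (iv D4842)
def n4843 : Q := act 4 n3703
theorem D4843 : act 4 n3703 = n4843 := rfl
theorem F16601 : act 0 n4843 = n3705 := d3_1 D4843 (iv D3705) (iv F12855)
theorem F16602 : act 1 n4843 = n4843 := d9_1 D4843 (iv D4843) F12856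
theorem F16603 : act 2 n4843 = n3704 := d14_1 D4843 (iv D3704) D3703
theorem F16604 : act 7 n4843 = n4843 := d24_2 F12859 D4843 (iv D4843)
def n4844 : Q := act 6 n3703
theorem D4844 : act 6 n3703 = n4844 := rfl
theorem F16605 : act 0 n4844 = n3706 := d5_1 D4844 (iv D3706) (iv F12855)
theorem F16606 : act 1 n4844 = n4844 := d11_1 D4844 (iv D4844) F12856
theorem F16607 : act 3 n4844 = n4844 := d20_1 D4844 (iv D4844) F12857
theorem F16608 : act 5 n4844 = n4844 := d25_1 D4844 (iv D4844) F12858
def n4845 : Q := act 5 n3704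
theorem D4845 : act 5 n3704 = n4845 := rfl
theorem F16609 : act 0 n4845 = n3707 := d4_1 D4845 (iv D3707) (iv F12860)
theorem F16610 : act 1 n4845 = n3755 := d10_1 D4845 (iv D3755) (iv F12861)
theorem F16611 : act 4 n4845 = n4845 := d22_1 D4845 (iv D4845) (iv D3704) F9940 D3704
theorem F16612 : act 7 n4845 = n4845 := d26_2 F12862 D4845 (iv D4845)
def n4846 : Q := act 3 n3705
theorem D4846 : act 3 n3705 = n4846 := rfl
theorem F16613 : act 1 n4846 = n3708 := d8_1 D4846 (iv D3708) (iv F12863)
theorem F16614 : act 4 n4846 = n4846 := d18_2 D3705 D4846 (iv D4846) (iv D3705) F9943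
theorem F16615 : act 7 n4846 = n4846 := d21_2 F12865 D4846 (iv D4846)
def n4847 : Q := act 5 n3705
theorem D4847 : act 5 n3705 = n4847 := rfl
theorem F16616 : act 1 n4847 = n3709 := d10_1 D4847 (iv D3709) (iv F12863)
theorem F16617 : act 2 n4847 = n3707 := d15_1 D4847 (iv D3707) (iv F12864)
theorem F16618 : act 4 n4847 = n4847 := d22_1 D4847 (iv D4847) (iv D3705) F9944 D3705
theorem F16619 : act 7 n4847 = n4847 := d26_2 F12865 D4847 (iv D4847)
def n4848 : Q := act 6 n3705
theorem D4848 : act 6 n3705 = n4848 := rfl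
theorem F16620 : act 1 n4848 = n3710 := d11_1 D4848 (iv D3710) (iv F12863)
theorem F16621 : act 4 n4848 = n3706 := d23_1 D4848 (iv D3706) D3705
def n4849 : Q := act 7 n3706
theorem D4849 : act 7 n3706 = n4849 := rfl
theorem F16622 : act 1 n4849 = n3711 := d12_1 D4849 (iv D3711) (iv F12866)
theorem F16623 : act 3 n4849 = n4849 := d21_1 D4849 (iv D4849) F12867
theorem F16624 : act 5 n4849 = n4849 := d26_1 D4849 (iv D4849) F12868
theorem F16625 : act 6 n4849 = n4849 := d27_1 D4849 (iv D4849) (iv D3706) F9945 D3706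
def n4850 : Q := act 5 n3708
theorem D4850 : act 5 n3708 = n4850 := rfl
theorem F16628 : act 3 n4850 = n3709 := d19_1 D4850 (iv D3709) D3708
def n4851 : Q := act 6 n3708
theorem D4851 : act 6 n3708 = n4851 := rfl
theorem F16631 : act 3 n4851 = n3710 := d20_1 D4851 (iv D3710) D3708
def n4852 : Q := act 6 n3709
theorem D4852 : act 6 n3709 = n4852 := rfl
theorem F16636 : act 5 n4852 = n3710 := d25_1 D4852 (iv D3710) D3709
def n4853 : Q := act 7 n3710
theorem D4853 : act 7 n3710 = n4853 := rfl
theorem F16639 : act 4 n4853 = n3711 := d24_1 D4853 (iv D3711) (iv F12882)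
def n4860 : Q := act 1 n3717
theorem D4860 : act 1 n3717 = n4860 := rfl
theorem F16664 : act 5 n4860 = n3721 := d10_2 (iv F12909) D4860 (iv D3721)
theorem F16665 : act 7 n4860 = n3718 := d12_2 (iv F12910) D4860 (iv D3718)
def n4862 : Q := act 0 n3718
theorem D4862 : act 0 n3718 = n4862 := rfl
theorem F16669 : act 2 n4862 = n3869 := d1_2 (iv F12911) D4862 (iv D3869)
theorem F16670 : act 5 n4862 = n3723 := d4_2 (iv F12912) D4862 (iv D3723)
def n4863 : Q := act 3 n3718
theorem D4863 : act 3 n3718 = n4863 := rfl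
theorem F16672 : act 1 n4863 = n3719 := d8_1 D4863 (iv D3719) D3718
theorem F16673 : act 5 n4863 = n3724 := d19_2 (iv F12912) D4863 (iv D3724)
def n4867 : Q := act 0 n3721
theorem D4867 : act 0 n3721 = n4867 := rfl
theorem F16684 : act 2 n4867 = n3872 := d1_2 (iv F12920) D4867 (iv D3872)
theorem F16686 : act 7 n4867 = n3723 := d6_2 (iv F12922) D4867 (iv D3723)
def n4868 : Q := act 3 n3721
theorem D4868 : act 3 n3721 = n4868 := rfl
theorem F16687 : act 1 n4868 = n3722 := d8_1 D4868 (iv D3722) D3721
theorem F16688 : act 7 n4868 = n3724 := d21_2 (iv F12922) D4868 (iv D3724)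
def n4869 : Q := act 4 n3722
theorem D4869 : act 4 n3722 = n4869 := rfl
theorem F16689 : act 2 n4869 = n3733 := d14_1 D4869 (iv D3733) (iv F12923)
theorem F16691 : act 7 n4869 = n3725 := d24_2 (iv F12924) D4869 (iv D3725)
def n4870 : Q := act 3 n3723
theorem D4870 : act 3 n3723 = n4870 := rfl
theorem F16692 : act 0 n4870 = n3724 := d2_1 D4870 (iv D3724) D3723
theorem F16693 : act 6 n4870 = n4870 := d20_2 F12927 D4870 (iv D4870)
def n4871 : Q := act 2 n3724
theorem D4871 : act 2 n3724 = n4871 := rfl
theorem F16694 : act 1 n4871 = n3735 := d7_1 D4871 (iv D3735) F10017 (iv F9996) (iv F12928)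
theorem F16695 : act 3 n4871 = n3876 := d13_2 D3724 D4871 (iv D3876) (iv D2953) (iv F9993)
def n4872 : Q := act 4 n3724
theorem D4872 : act 4 n3724 = n4872 := rfl
theorem F16696 : act 1 n4872 = n3725 := d9_1 D4872 (iv D3725) (iv F12928)
theorem F16697 : act 3 n4872 = n4872 := d18_1 D4872 (iv D4872) (iv D3724) F9994 D3724
theorem F16698 : act 6 n4872 = n4872 := d23_2 F12929 D4872 (iv D4872)
def n4873 : Q := act 5 n3725
theorem D4873 : act 5 n3725 = n4873 := rfl
theorem F16699 : act 2 n4873 = n3737 := d15_1 D4873 (iv D3737) (iv F12930)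
theorem F16700 : act 3 n4873 = n4873 := d19_1 D4873 (iv D4873) F12931
theorem F16701 : act 6 n4873 = n4873 := d25_2 F12932 D4873 (iv D4873)
def n4874 : Q := act 0 n3726
theorem D4874 : act 0 n3726 = n4874 := rfl
theorem F16702 : act 2 n4874 = n3879 := d1_2 (iv F12933) D4874 (iv D3879)
theorem F16704 : act 5 n4874 = n3731 := d4_2 (iv F12935) D4874 (iv D3731)
theorem F16706 : act 7 n4874 = n3728 := d6_2 (iv F12937) D4874 (iv D3728)
def n4875 : Q := act 3 n3726
theorem D4875 : act 3 n3726 = n4875 := rfl
theorem F16707 : act 1 n4875 = n3727 := d8_1 D4875 (iv D3727) D3726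
theorem F16708 : act 5 n4875 = n3732 := d19_2 (iv F12935) D4875 (iv D3732)
theorem F16710 : act 7 n4875 = n3729 := d21_2 (iv F12937) D4875 (iv D3729)
def n4876 : Q := act 4 n3727
theorem D4876 : act 4 n3727 = n4876 := rfl
theorem F16713 : act 7 n4876 = n3730 := d24_2 (iv F12940) D4876 (iv D3730)
def n4877 : Q := act 3 n3728
theorem D4877 : act 3 n3728 = n4877 := rfl
theorem F16714 : act 0 n4877 = n3729 := d2_1 D4877 (iv D3729) D3728
theorem F16715 : act 5 n4877 = n3734 := d19_2 (iv F12943) D4877 (iv D3734)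
theorem F16716 : act 6 n4877 = n3746 := d20_2 (iv F12944) D4877 (iv D3746)
def n4878 : Q := act 2 n3729
theorem D4878 : act 2 n3729 = n4878 := rfl
theorem F16717 : act 3 n4878 = n3883 := d13_2 D3729 D4878 (iv D3883) (iv D2958) (iv F10002)
theorem F16718 : act 5 n4878 = n3735 := d15_2 (iv F12946) D4878 (iv D3735)
def n4879 : Q := act 4 n3729
theorem D4879 : act 4 n3729 = n4879 := rfl
theorem F16719 : act 1 n4879 = n3730 := d9_1 D4879 (iv D3730) (iv F12945)
theorem F16720 : act 3 n4879 = n4879 := d18_1 D4879 (iv D4879) (iv D3729) F10003 D3729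
theorem F16721 : act 6 n4879 = n3748 := d23_2 (iv F12947) D4879 (iv D3748)
def n4880 : Q := act 5 n3730
theorem D4880 : act 5 n3730 = n4880 := rfl
theorem F16722 : act 3 n4880 = n4880 := d19_1 D4880 (iv D4880) F12948
theorem F16723 : act 4 n4880 = n3737 := d22_1 D4880 (iv D3737) (iv D2851) (iv F10006) D3730
theorem F16724 : act 6 n4880 = n3749 := d25_2 (iv F12949) D4880 (iv D3749)
def n4881 : Q := act 3 n3731
theorem D4881 : act 3 n3731 = n4881 := rfl
theorem F16725 : act 0 n4881 = n3732 := d2_1 D4881 (iv D3732) D3731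
theorem F16726 : act 6 n4881 = n4881 := d20_2 F12952 D4881 (iv D4881)
theorem F16727 : act 7 n4881 = n3734 := d21_2 (iv F12953) D4881 (iv D3734)
def n4882 : Q := act 2 n3732
theorem D4882 : act 2 n3732 = n4882 := rfl
theorem F16728 : act 3 n4882 = n3887 := d13_2 D3732 D4882 (iv D3887) (iv D2961) (iv F10008)
theorem F16729 : act 7 n4882 = n3735 := d17_2 (iv F12956) D4882 (iv D3735)
def n4883 : Q := act 4 n3732
theorem D4883 : act 4 n3732 = n4883 := rfl
theorem F16730 : act 1 n4883 = n3733 := d9_1 D4883 (iv D3733) (iv F12954)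
theorem F16731 : act 3 n4883 = n3740 := d18_1 D4883 (iv D3740) (iv D2853) (iv F10009) D3732
theorem F16732 : act 6 n4883 = n4883 := d23_2 F12955 D4883 (iv D4883)
theorem F16733 : act 7 n4883 = n3736 := d24_2 (iv F12956) D4883 (iv D3736)
def n4884 : Q := act 5 n3733
theorem D4884 : act 5 n3733 = n4884 := rfl
theorem F16734 : act 3 n4884 = n3741 := d19_1 D4884 (iv D3741) (iv F12957)
theorem F16735 : act 6 n4884 = n4884 := d25_2 F12958 D4884 (iv D4884)
theorem F16736 : act 7 n4884 = n3737 := d26_2 (iv F12959) D4884 (iv D3737)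
def n4885 : Q := act 2 n3734
theorem D4885 : act 2 n3734 = n4885 := rfl
theorem F16737 : act 0 n4885 = n3735 := d1_1 D4885 (iv D3735) (iv F12960)
theorem F16738 : act 3 n4885 = n3890 := d13_2 D3734 D4885 (iv D3890) (iv D2963) (iv F10014)
def n4886 : Q := act 4 n3734
theorem D4886 : act 4 n3734 = n4886 := rfl
theorem F16739 : act 0 n4886 = n3736 := d3_1 D4886 (iv D3736) (iv F12960)
theorem F16740 : act 3 n4886 = n3743 := d18_1 D4886 (iv D3743) (iv D2855) (iv F10015) D3734
theorem F16741 : act 6 n4886 = n3751 := d23_2 (iv F12961) D4886 (iv D3751)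
def n4887 : Q := act 4 n3735
theorem D4887 : act 4 n3735 = n4887 := rfl
theorem F16742 : act 2 n4887 = n3736 := d14_1 D4887 (iv D3736) D3735
def n4888 : Q := act 6 n3735
theorem D4888 : act 6 n3735 = n4888 := rfl
theorem F16743 : act 2 n4888 = n3753 := d16_1 D4888 (iv D3753) (iv D2863) (iv F10018) D3735
theorem F16744 : act 3 n4888 = n3893 := d20_1 D4888 (iv D3893) (iv F12962)
def n4889 : Q := act 5 n3736
theorem D4889 : act 5 n3736 = n4889 := rfl
theorem F16745 : act 1 n4889 = n3737 := d10_1 D4889 (iv D3737) (iv F12963)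
theorem F16746 : act 3 n4889 = n3745 := d19_1 D4889 (iv D3745) (iv F12964)
theorem F16747 : act 6 n4889 = n3754 := d25_2 (iv F12965) D4889 (iv D3754)
def n4890 : Q := act 2 n3738
theorem D4890 : act 2 n3738 = n4890 := rfl
theorem F16748 : act 0 n4890 = n3739 := d1_1 D4890 (iv D3739) (iv F12968)
theorem F16749 : act 3 n4890 = n3895 := d13_2 D3738 D4890 (iv D3895) (iv D2967) (iv F10021)
theorem F16750 : act 5 n4890 = n4890 := d15_2 F12969 D4890 (iv D4890)
theorem F16751 : act 7 n4890 = n3742 := d17_2 (iv F12971) D4890 (iv D3742)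
def n4891 : Q := act 4 n3738
theorem D4891 : act 4 n3738 = n4891 := rfl
theorem F16752 : act 0 n4891 = n3740 := d3_1 D4891 (iv D3740) (iv F12968)
theorem F16753 : act 6 n4891 = n4891 := d23_2 F12970 D4891 (iv D4891)
theorem F16754 : act 7 n4891 = n3743 := d24_2 (iv F12971) D4891 (iv D3743)
def n4892 : Q := act 4 n3739
theorem D4892 : act 4 n3739 = n4892 := rfl
theorem F16755 : act 1 n4892 = n4892 := d9_1 D4892 (iv D4892) F12972
theorem F16756 : act 2 n4892 = n3740 := d14_1 D4892 (iv D3740) D3739
theorem F16757 : act 7 n4892 = n3744 := d24_2 (iv F12975) D4892 (iv D3744)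
def n4893 : Q := act 6 n3739
theorem D4893 : act 6 n3739 = n4893 := rfl
theorem F16758 : act 1 n4893 = n4893 := d11_1 D4893 (iv D4893) F12972
theorem F16759 : act 2 n4893 = n4893 := d16_1 D4893 (iv D4893) (iv D3739) F10027 D3739
theorem F16760 : act 3 n4893 = n3898 := d20_1 D4893 (iv D3898) (iv F12973)
theorem F16761 : act 5 n4893 = n4893 := d25_1 D4893 (iv D4893) F12974
theorem F16762 : act 7 n4893 = n4893 := d27_2 (iv F12975) D4893 (iv D4893) F12975 F10038
def n4894 : Q := act 5 n3740
theorem D4894 : act 5 n3740 = n4894 := rfl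
theorem F16763 : act 1 n4894 = n3741 := d10_1 D4894 (iv D3741) (iv F12976)
theorem F16764 : act 4 n4894 = n4894 := d22_1 D4894 (iv D4894) (iv D3740) F10026 D3740
theorem F16765 : act 6 n4894 = n4894 := d25_2 F12977 D4894 (iv D4894)
theorem F16766 : act 7 n4894 = n3745 := d26_2 (iv F12978) D4894 (iv D3745)
def n4895 : Q := act 1 n3742
theorem D4895 : act 1 n3742 = n4895 := rfl
theorem F16767 : act 0 n4895 = n4895 := d0_1 D4895 (iv D4895) F12983 F10035 (iv F12983)
theorem F16768 : act 3 n4895 = n3900 := d8_2 (iv F12984) D4895 (iv D3900)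
theorem F16769 : act 5 n4895 = n4895 := d10_2 F12985 D4895 (iv D4895)
theorem F16770 : act 6 n4895 = n4895 := d11_2 F12986 D4895 (iv D4895)
def n4896 : Q := act 4 n3742
theorem D4896 : act 4 n3742 = n4896 := rfl
theorem F16771 : act 0 n4896 = n3744 := d3_1 D4896 (iv D3744) (iv F12983)
theorem F16772 : act 2 n4896 = n3743 := d14_1 D4896 (iv D3743) D3742
theorem F16773 : act 6 n4896 = n4896 := d23_2 F12986 D4896 (iv D4896)
def n4897 : Q := act 5 n3743
theorem D4897 : act 5 n3743 = n4897 := rfl
theorem F16774 : act 0 n4897 = n3745 := d4_1 D4897 (iv D3745) (iv F12987)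
theorem F16775 : act 4 n4897 = n4897 := d22_1 D4897 (iv D4897) (iv D3743) F10033 D3743
theorem F16776 : act 6 n4897 = n3755 := d25_2 (iv F12988) D4897 (iv D3755)
def n4898 : Q := act 3 n3744
theorem D4898 : act 3 n3744 = n4898 := rfl
theorem F16777 : act 1 n4898 = n4898 := d8_1 D4898 (iv D4898) F12989
theorem F16778 : act 4 n4898 = n3903 := d18_2 D3744 D4898 (iv D3903) (iv D2973) (iv F10036)
theorem F16779 : act 6 n4898 = n4898 := d20_2 F12991 D4898 (iv D4898)
def n4899 : Q := act 5 n3744
theorem D4899 : act 5 n3744 = n4899 := rfl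
theorem F16780 : act 1 n4899 = n4899 := d10_1 D4899 (iv D4899) F12989
theorem F16781 : act 2 n4899 = n3745 := d15_1 D4899 (iv D3745) (iv F12990)
theorem F16782 : act 4 n4899 = n4899 := d22_1 D4899 (iv D4899) (iv D3744) F10037 D3744
theorem F16783 : act 6 n4899 = n4899 := d25_2 F12991 D4899 (iv D4899)
def n4900 : Q := act 2 n3746
theorem D4900 : act 2 n3746 = n4900 := rfl
theorem F16784 : act 0 n4900 = n3747 := d1_1 D4900 (iv D3747) (iv F12995)
theorem F16785 : act 3 n4900 = n3756 := d13_2 D3746 D4900 (iv D3756) (iv D2868) (iv F10044)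
theorem F16786 : act 5 n4900 = n3750 := d15_2 (iv F12996) D4900 (iv D3750)
theorem F16787 : act 7 n4900 = n4900 := d17_2 F12997 D4900 (iv D4900)
def n4901 : Q := act 4 n3746
theorem D4901 : act 4 n3746 = n4901 := rfl
theorem F16788 : act 0 n4901 = n3748 := d3_1 D4901 (iv D3748) (iv F12995)
theorem F16789 : act 3 n4901 = n4901 := d18_1 D4901 (iv D4901) (iv D3746) F10045 D3746
theorem F16790 : act 7 n4901 = n4901 := d24_2 F12997 D4901 (iv D4901)
def n4902 : Q := act 4 n3747
theorem D4902 : act 4 n3747 = n4902 := rfl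
theorem F16791 : act 1 n4902 = n4902 := d9_1 D4902 (iv D4902) F12998
theorem F16792 : act 2 n4902 = n3748 := d14_1 D4902 (iv D3748) D3747
theorem F16793 : act 7 n4902 = n4902 := d24_2 F13001 D4902 (iv D4902)
def n4903 : Q := act 6 n3747
theorem D4903 : act 6 n3747 = n4903 := rfl
theorem F16794 : act 1 n4903 = n4903 := d11_1 D4903 (iv D4903) F12998
theorem F16795 : act 3 n4903 = n3759 := d20_1 D4903 (iv D3759) (iv F12999)
theorem F16796 : act 5 n4903 = n3753 := d25_1 D4903 (iv D3753) (iv F13000)
def n4904 : Q := act 5 n3748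
theorem D4904 : act 5 n3748 = n4904 := rfl
theorem F16797 : act 1 n4904 = n3749 := d10_1 D4904 (iv D3749) (iv F13002)
theorem F16798 : act 3 n4904 = n4904 := d19_1 D4904 (iv D4904) F13003
theorem F16799 : act 4 n4904 = n3754 := d22_1 D4904 (iv D3754) (iv D2864) (iv F10049) D3748
theorem F16800 : act 7 n4904 = n4904 := d26_2 F13004 D4904 (iv D4904)
def n4905 : Q := act 1 n3750
theorem D4905 : act 1 n3750 = n4905 := rfl
theorem F16801 : act 0 n4905 = n4905 := d0_1 D4905 (iv D4905) F13009 F10056 (iv F13009)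
theorem F16802 : act 3 n4905 = n3760 := d8_2 (iv F13010) D4905 (iv D3760)
theorem F16803 : act 7 n4905 = n4905 := d12_2 F13011 D4905 (iv D4905)
def n4906 : Q := act 4 n3750
theorem D4906 : act 4 n3750 = n4906 := rfl
theorem F16804 : act 0 n4906 = n3752 := d3_1 D4906 (iv D3752) (iv F13009)
theorem F16805 : act 2 n4906 = n3751 := d14_1 D4906 (iv D3751) D3750
theorem F16806 : act 3 n4906 = n4906 := d18_1 D4906 (iv D4906) F13010 F10086 (iv F13010)
theorem F16807 : act 7 n4906 = n4906 := d24_2 F13011 D4906 (iv D4906)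
def n4907 : Q := act 6 n3750
theorem D4907 : act 6 n3750 = n4907 := rfl
theorem F16808 : act 0 n4907 = n3753 := d5_1 D4907 (iv D3753) (iv F13009)
theorem F16809 : act 3 n4907 = n3761 := d20_1 D4907 (iv D3761) (iv F13010)
def n4908 : Q := act 5 n3751
theorem D4908 : act 5 n3751 = n4908 := rfl
theorem F16810 : act 0 n4908 = n3754 := d4_1 D4908 (iv D3754) (iv F13012)
theorem F16811 : act 3 n4908 = n3755 := d19_1 D4908 (iv D3755) (iv F13013)
theorem F16812 : act 7 n4908 = n4908 := d26_2 F13014 D4908 (iv D4908)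
def n4909 : Q := act 5 n3752
theorem D4909 : act 5 n3752 = n4909 := rfl
theorem F16813 : act 1 n4909 = n4909 := d10_1 D4909 (iv D4909) F13015
theorem F16814 : act 2 n4909 = n3754 := d15_1 D4909 (iv D3754) (iv F13016)
theorem F16815 : act 3 n4909 = n4909 := d19_1 D4909 (iv D4909) F13017
theorem F16816 : act 7 n4909 = n4909 := d26_2 F13018 D4909 (iv D4909)
def n4910 : Q := act 6 n3752
theorem D4910 : act 6 n3752 = n4910 := rfl
theorem F16817 : act 1 n4910 = n4910 := d11_1 D4910 (iv D4910) F13015
theorem F16818 : act 3 n4910 = n4910 := d20_1 D4910 (iv D4910) F13017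
theorem F16819 : act 4 n4910 = n3753 := d23_1 D4910 (iv D3753) D3752
def n4911 : Q := act 7 n3753
theorem D4911 : act 7 n3753 = n4911 := rfl
theorem F16820 : act 1 n4911 = n4911 := d12_1 D4911 (iv D4911) F13019
theorem F16821 : act 3 n4911 = n3762 := d21_1 D4911 (iv D3762) (iv F13020)
theorem F16822 : act 6 n4911 = n4911 := d27_1 D4911 (iv D4911) (iv D3753) F10058 D3753
def n4912 : Q := act 1 n3756
theorem D4912 : act 1 n3756 = n4912 := rfl
theorem F16823 : act 0 n4912 = n4912 := d0_1 D4912 (iv D4912) F13028 F10077 (iv F13028)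
theorem F16824 : act 2 n4912 = n4912 := d7_2 D3756 D4912 (iv D4912) (iv D3756) F10073
theorem F16825 : act 5 n4912 = n3760 := d10_2 (iv F13029) D4912 (iv D3760)
theorem F16826 : act 7 n4912 = n4912 := d12_2 F13030 D4912 (iv D4912)
def n4913 : Q := act 4 n3756
theorem D4913 : act 4 n3756 = n4913 := rfl
theorem F16827 : act 0 n4913 = n3758 := d3_1 D4913 (iv D3758) (iv F13028)
theorem F16828 : act 2 n4913 = n3757 := d14_1 D4913 (iv D3757) D3756
theorem F16829 : act 5 n4913 = n4913 := d22_2 (iv F13029) D4913 (iv D4913) F13029 F10086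
theorem F16830 : act 7 n4913 = n4913 := d24_2 F13030 D4913 (iv D4913)
def n4914 : Q := act 6 n3756
theorem D4914 : act 6 n3756 = n4914 := rfl
theorem F16831 : act 0 n4914 = n3759 := d5_1 D4914 (iv D3759) (iv F13028)
theorem F16832 : act 2 n4914 = n3919 := d16_1 D4914 (iv D3919) (iv D2985) (iv F10075) D3756
theorem F16833 : act 5 n4914 = n3761 := d25_1 D4914 (iv D3761) (iv F13029)
def n4915 : Q := act 3 n3758
theorem D4915 : act 3 n3758 = n4915 := rfl
theorem F16834 : act 1 n4915 = n4915 := d8_1 D4915 (iv D4915) F13037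
theorem F16835 : act 2 n4915 = n4915 := d13_1 D4915 (iv D4915) F13038 F10081 (iv F13038)
theorem F16836 : act 5 n4915 = n4915 := d19_2 F13039 D4915 (iv D4915)
theorem F16837 : act 7 n4915 = n4915 := d21_2 F13040 D4915 (iv D4915)
def n4916 : Q := act 6 n3758
theorem D4916 : act 6 n3758 = n4916 := rfl
theorem F16839 : act 2 n4916 = n3921 := d16_1 D4916 (iv D3921) F10450 (iv F10083) (iv F13038)
theorem F16840 : act 4 n4916 = n3759 := d23_1 D4916 (iv D3759) D3758
def n4917 : Q := act 7 n3759
theorem D4917 : act 7 n3759 = n4917 := rfl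
theorem F16842 : act 1 n4917 = n4917 := d12_1 D4917 (iv D4917) F13041
theorem F16844 : act 5 n4917 = n3762 := d26_1 D4917 (iv D3762) (iv F13043)
theorem F16845 : act 6 n4917 = n4917 := d27_1 D4917 (iv D4917) (iv D3759) F10079 D3759
def n4918 : Q := act 6 n3760
theorem D4918 : act 6 n3760 = n4918 := rfl
theorem F16846 : act 0 n4918 = n4918 := d5_1 D4918 (iv D4918) F13044
theorem F16847 : act 1 n4918 = n3761 := d11_1 D4918 (iv D3761) D3760
theorem F16848 : act 4 n4918 = n4918 := d23_1 D4918 (iv D4918) F13046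
def n4919 : Q := act 7 n3761
theorem D4919 : act 7 n3761 = n4919 := rfl
theorem F16849 : act 0 n4919 = n3762 := d6_1 D4919 (iv D3762) (iv F13048)
theorem F16850 : act 2 n4919 = n3924 := d17_1 D4919 (iv D3924) (iv F13049)
theorem F16851 : act 4 n4919 = n4919 := d24_1 D4919 (iv D4919) F13050
theorem F16852 : act 6 n4919 = n4919 := d27_1 D4919 (iv D4919) (iv D3761) F10087 D3761
def n4928 : Q := act 2 n3768
theorem D4928 : act 2 n3768 = n4928 := rfl
theorem F16884 : act 6 n4928 = n3779 := d16_2 D3768 D4928 (iv D3779) (iv D2883) (iv F10098)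
def n4933 : Q := act 1 n3772
theorem D4933 : act 1 n3772 = n4933 := rfl
theorem F16897 : act 2 n4933 = n3932 := d7_2 D3772 D4933 (iv D3932) (iv D2998) (iv F10107)
theorem F16899 : act 6 n4933 = n3784 := d11_2 (iv F13086) D4933 (iv D3784)
def n4934 : Q := act 3 n3772
theorem D4934 : act 3 n3772 = n4934 := rfl
theorem F16901 : act 6 n4934 = n3785 := d20_2 (iv F13086) D4934 (iv D3785)
def n4936 : Q := act 7 n3773
theorem D4936 : act 7 n3773 = n4936 := rfl
theorem F16906 : act 2 n4936 = n3774 := d17_1 D4936 (iv D3774) D3773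
theorem F16907 : act 4 n4936 = n3777 := d24_1 D4936 (iv D3777) (iv F13088)
def n4937 : Q := act 6 n3774
theorem D4937 : act 6 n3774 = n4937 := rfl
theorem F16909 : act 1 n4937 = n3813 := d11_1 D4937 (iv D3813) (iv F13090)
def n4940 : Q := act 7 n3776
theorem D4940 : act 7 n3776 = n4940 := rfl
theorem F16919 : act 2 n4940 = n3787 := d17_1 D4940 (iv D3787) (iv F13099)
theorem F16921 : act 5 n4940 = n3781 := d26_1 D4940 (iv D3781) (iv F13100)
def n4941 : Q := act 6 n3777
theorem D4941 : act 6 n3777 = n4941 := rfl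
theorem F16923 : act 5 n4941 = n3782 := d25_1 D4941 (iv D3782) (iv F13103)
def n4942 : Q := act 2 n3778
theorem D4942 : act 2 n3778 = n4942 := rfl
theorem F16924 : act 5 n4942 = n3783 := d15_2 (iv F13106) D4942 (iv D3783)
theorem F16925 : act 7 n4942 = n3779 := d17_2 (iv F13107) D4942 (iv D3779)
def n4943 : Q := act 1 n3779
theorem D4943 : act 1 n3779 = n4943 := rfl
theorem F16926 : act 2 n4943 = n3816 := d7_2 D3779 D4943 (iv D3816) (iv D2910) (iv F10123)
theorem F16927 : act 5 n4943 = n3784 := d10_2 (iv F13108) D4943 (iv D3784)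
def n4944 : Q := act 3 n3779
theorem D4944 : act 3 n3779 = n4944 := rfl
theorem F16928 : act 2 n4944 = n3791 := d13_1 D4944 (iv D3791) (iv D2891) (iv F10124) D3779
theorem F16929 : act 5 n4944 = n3785 := d19_2 (iv F13108) D4944 (iv D3785)
def n4945 : Q := act 5 n3780
theorem D4945 : act 5 n3780 = n4945 := rfl
theorem F16931 : act 2 n4945 = n3792 := d15_1 D4945 (iv D3792) (iv F13110)
def n4946 : Q := act 7 n3780
theorem D4946 : act 7 n3780 = n4946 := rfl
theorem F16934 : act 2 n4946 = n3793 := d17_1 D4946 (iv D3793) (iv F13110)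
theorem F16936 : act 4 n4946 = n3781 := d24_1 D4946 (iv D3781) D3780
def n4947 : Q := act 6 n3781
theorem D4947 : act 6 n3781 = n4947 := rfl
theorem F16938 : act 3 n4947 = n3782 := d20_1 D4947 (iv D3782) (iv F13114)
def n4948 : Q := act 2 n3782
theorem D4948 : act 2 n3782 = n4948 := rfl
theorem F16940 : act 6 n4948 = n3783 := d16_2 D3782 D4948 (iv D3783) (iv D2886) (iv F10129)
def n4949 : Q := act 1 n3783
theorem D4949 : act 1 n3783 = n4949 := rfl
theorem F16941 : act 2 n4949 = n3818 := d7_2 D3783 D4949 (iv D3818) (iv D2911) (iv F10131)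
theorem F16943 : act 7 n4949 = n3784 := d12_2 (iv F13118) D4949 (iv D3784)
def n4950 : Q := act 3 n3783
theorem D4950 : act 3 n3783 = n4950 := rfl
theorem F16944 : act 2 n4950 = n3797 := d13_1 D4950 (iv D3797) (iv D2895) (iv F10132) D3783
theorem F16945 : act 7 n4950 = n3785 := d21_2 (iv F13118) D4950 (iv D3785)
def n4951 : Q := act 0 n3784
theorem D4951 : act 0 n3784 = n4951 := rfl
theorem F16946 : act 2 n4951 = n3820 := d1_2 (iv F13119) D4951 (iv D3820)
theorem F16947 : act 4 n4951 = n4951 := d3_2 F13120 D4951 (iv D4951)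
def n4952 : Q := act 3 n3784
theorem D4952 : act 3 n3784 = n4952 := rfl
theorem F16948 : act 1 n4952 = n3785 := d8_1 D4952 (iv D3785) D3784
def n4953 : Q := act 4 n3785
theorem D4953 : act 4 n3785 = n4953 := rfl
theorem F16949 : act 2 n4953 = n3800 := d14_1 D4953 (iv D3800) (iv F13121)
theorem F16950 : act 3 n4953 = n4953 := d18_1 D4953 (iv D4953) (iv D3785) F10135 D3785
def n4956 : Q := act 6 n3787
theorem D4956 : act 6 n3787 = n4956 := rfl
theorem F16959 : act 3 n4956 = n3788 := d20_1 D4956 (iv D3788) (iv F13126)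
def n4957 : Q := act 2 n3788
theorem D4957 : act 2 n3788 = n4957 := rfl
theorem F16963 : act 5 n4957 = n3795 := d15_2 (iv F13130) D4957 (iv D3795)
theorem F16964 : act 6 n4957 = n3789 := d16_2 D3788 D4957 (iv D3789) (iv D2890) (iv F10140)
def n4958 : Q := act 1 n3789
theorem D4958 : act 1 n3789 = n4958 := rfl
theorem F16968 : act 5 n4958 = n3796 := d10_2 (iv F13133) D4958 (iv D3796)
theorem F16969 : act 7 n4958 = n3790 := d12_2 (iv F13134) D4958 (iv D3790)
def n4959 : Q := act 3 n3789
theorem D4959 : act 3 n3789 = n4959 := rfl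
theorem F16970 : act 5 n4959 = n3797 := d19_2 (iv F13133) D4959 (iv D3797)
theorem F16971 : act 7 n4959 = n3791 := d21_2 (iv F13134) D4959 (iv D3791)
def n4960 : Q := act 0 n3790
theorem D4960 : act 0 n3790 = n4960 := rfl
theorem F16972 : act 2 n4960 = n3825 := d1_2 (iv F13135) D4960 (iv D3825)
theorem F16973 : act 4 n4960 = n4960 := d3_2 F13136 D4960 (iv D4960)
theorem F16974 : act 5 n4960 = n3798 := d4_2 (iv F13137) D4960 (iv D3798)
theorem F16975 : act 6 n4960 = n4960 := d5_2 F13138 D4960 (iv D4960)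
def n4961 : Q := act 3 n3790
theorem D4961 : act 3 n3790 = n4961 := rfl
theorem F16976 : act 1 n4961 = n3791 := d8_1 D4961 (iv D3791) D3790
theorem F16977 : act 5 n4961 = n3799 := d19_2 (iv F13137) D4961 (iv D3799)
theorem F16978 : act 6 n4961 = n4961 := d20_2 F13138 D4961 (iv D4961)
def n4962 : Q := act 4 n3791
theorem D4962 : act 4 n3791 = n4962 := rfl
theorem F16979 : act 3 n4962 = n4962 := d18_1 D4962 (iv D4962) (iv D3791) F10147 D3791
theorem F16980 : act 6 n4962 = n4962 := d23_2 F13140 D4962 (iv D4962)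
def n4963 : Q := act 7 n3792
theorem D4963 : act 7 n3792 = n4963 := rfl
theorem F16981 : act 1 n4963 = n4238 := d12_1 D4963 (iv D4238) (iv F13141)
def n4964 : Q := act 6 n3793
theorem D4964 : act 6 n3793 = n4964 := rfl
theorem F16984 : act 1 n4964 = n4239 := d11_1 D4964 (iv D4239) (iv F13144)
theorem F16985 : act 3 n4964 = n3802 := d20_1 D4964 (iv D3802) (iv F13145)
theorem F16986 : act 4 n4964 = n3794 := d23_1 D4964 (iv D3794) (iv F13146)
def n4965 : Q := act 2 n3794
theorem D4965 : act 2 n3794 = n4965 := rfl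
def n4966 : Q := act 1 n3795
theorem D4966 : act 1 n3795 = n4966 := rfl
theorem F16989 : act 2 n4966 = n4241 := d7_2 D3795 D4966 (iv D4241) (iv D3234) (iv F10155)
theorem F16990 : act 4 n4966 = n3804 := d9_2 (iv F13150) D4966 (iv D3804)
theorem F16991 : act 6 n4966 = n3796 := d11_2 (iv F13151) D4966 (iv D3796)
def n4967 : Q := act 3 n3795
theorem D4967 : act 3 n3795 = n4967 := rfl
theorem F16993 : act 6 n4967 = n3797 := d20_2 (iv F13151) D4967 (iv D3797)
def n4968 : Q := act 0 n3796
theorem D4968 : act 0 n3796 = n4968 := rfl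
theorem F16995 : act 2 n4968 = n3828 := d1_2 (iv F13153) D4968 (iv D3828)
theorem F16996 : act 4 n4968 = n3806 := d3_2 (iv F13154) D4968 (iv D3806)
theorem F16997 : act 7 n4968 = n3798 := d6_2 (iv F13155) D4968 (iv D3798)
def n4969 : Q := act 3 n3796
theorem D4969 : act 3 n3796 = n4969 := rfl
theorem F16998 : act 1 n4969 = n3797 := d8_1 D4969 (iv D3797) D3796
theorem F16999 : act 7 n4969 = n3799 := d21_2 (iv F13155) D4969 (iv D3799)
def n4970 : Q := act 4 n3797
theorem D4970 : act 4 n3797 = n4970 := rfl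
theorem F17000 : act 3 n4970 = n3808 := d18_1 D4970 (iv D3808) (iv D2903) (iv F10158) D3797
theorem F17001 : act 7 n4970 = n3800 := d24_2 (iv F13156) D4970 (iv D3800)
def n4971 : Q := act 3 n3798
theorem D4971 : act 3 n3798 = n4971 := rfl
theorem F17002 : act 0 n4971 = n3799 := d2_1 D4971 (iv D3799) D3798
theorem F17003 : act 6 n4971 = n4971 := d20_2 F13159 D4971 (iv D4971)
def n4972 : Q := act 2 n3799
theorem D4972 : act 2 n3799 = n4972 := rfl
theorem F17004 : act 3 n4972 = n3832 := d13_2 D3799 D4972 (iv D3832) (iv D2920) (iv F10160)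
def n4973 : Q := act 4 n3799
theorem D4973 : act 4 n3799 = n4973 := rfl
theorem F17005 : act 1 n4973 = n3800 := d9_1 D4973 (iv D3800) (iv F13160)
theorem F17006 : act 3 n4973 = n3811 := d18_1 D4973 (iv D3811) (iv D2905) (iv F10161) D3799
theorem F17007 : act 6 n4973 = n4973 := d23_2 F13161 D4973 (iv D4973)
def n4974 : Q := act 5 n3800
theorem D4974 : act 5 n3800 = n4974 := rfl
theorem F17008 : act 3 n4974 = n3812 := d19_1 D4974 (iv D3812) (iv F13162)
theorem F17009 : act 6 n4974 = n4974 := d25_2 F13163 D4974 (iv D4974)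
def n4976 : Q := act 2 n3802
theorem D4976 : act 2 n3802 = n4976 := rfl
theorem F17014 : act 4 n4976 = n3803 := d14_2 (iv F13169) D4976 (iv D3803)
def n4977 : Q := act 1 n3803
theorem D4977 : act 1 n3803 = n4977 := rfl
def n4978 : Q := act 3 n3803
theorem D4978 : act 3 n3803 = n4978 := rfl
theorem F17021 : act 2 n4978 = n3805 := d13_1 D4978 (iv D3805) (iv D2901) (iv F10172) D3803
def n4979 : Q := act 0 n3804
theorem D4979 : act 0 n3804 = n4979 := rfl
theorem F17025 : act 2 n4979 = n4254 := d1_2 (iv F13174) D4979 (iv D4254)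
theorem F17026 : act 5 n4979 = n4979 := d4_2 F13175 D4979 (iv D4979)
theorem F17027 : act 6 n4979 = n3806 := d5_2 (iv F13176) D4979 (iv D3806)
theorem F17028 : act 7 n4979 = n4979 := d6_2 F13177 D4979 (iv D4979)
def n4980 : Q := act 3 n3804
theorem D4980 : act 3 n3804 = n4980 := rfl
theorem F17029 : act 1 n4980 = n3805 := d8_1 D4980 (iv D3805) D3804
theorem F17030 : act 5 n4980 = n4980 := d19_2 F13175 D4980 (iv D4980)
theorem F17031 : act 6 n4980 = n3807 := d20_2 (iv F13176) D4980 (iv D3807)
theorem F17032 : act 7 n4980 = n4980 := d21_2 F13177 D4980 (iv D4980)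
def n4981 : Q := act 4 n3805
theorem D4981 : act 4 n3805 = n4981 := rfl
theorem F17033 : act 6 n4981 = n3808 := d23_2 (iv F13179) D4981 (iv D3808)
theorem F17034 : act 7 n4981 = n4981 := d24_2 F13180 D4981 (iv D4981)
def n4982 : Q := act 3 n3806
theorem D4982 : act 3 n3806 = n4982 := rfl
theorem F17035 : act 0 n4982 = n3807 := d2_1 D4982 (iv D3807) D3806
theorem F17036 : act 5 n4982 = n4982 := d19_2 F13182 D4982 (iv D4982)
theorem F17037 : act 7 n4982 = n3809 := d21_2 (iv F13183) D4982 (iv D3809)
def n4983 : Q := act 2 n3807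
theorem D4983 : act 2 n3807 = n4983 := rfl
theorem F17038 : act 1 n4983 = n4983 := d7_1 D4983 (iv D4983) F13184 F10181 (iv F13184)
theorem F17039 : act 3 n4983 = n3836 := d13_2 D3807 D4983 (iv D3836) (iv D2923) (iv F10178)
theorem F17040 : act 5 n4983 = n4983 := d15_2 F13185 D4983 (iv D4983)
theorem F17041 : act 7 n4983 = n3810 := d17_2 (iv F13186) D4983 (iv D3810)
def n4984 : Q := act 4 n3807
theorem D4984 : act 4 n3807 = n4984 := rfl
theorem F17042 : act 1 n4984 = n3808 := d9_1 D4984 (iv D3808) (iv F13184)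
theorem F17043 : act 7 n4984 = n3811 := d24_2 (iv F13186) D4984 (iv D3811)
def n4985 : Q := act 5 n3808
theorem D4985 : act 5 n3808 = n4985 := rfl
theorem F17044 : act 2 n4985 = n4985 := d15_1 D4985 (iv D4985) F13187
theorem F17045 : act 4 n4985 = n4985 := d22_1 D4985 (iv D4985) (iv D3808) F10182 D3808
theorem F17046 : act 7 n4985 = n3812 := d26_2 (iv F13188) D4985 (iv D3812)
def n4986 : Q := act 2 n3809
theorem D4986 : act 2 n3809 = n4986 := rfl
theorem F17047 : act 0 n4986 = n3810 := d1_1 D4986 (iv D3810) (iv F13189)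
theorem F17048 : act 3 n4986 = n3839 := d13_2 D3809 D4986 (iv D3839) (iv D2925) (iv F10184)
theorem F17049 : act 5 n4986 = n4986 := d15_2 F13190 D4986 (iv D4986)
def n4987 : Q := act 4 n3809
theorem D4987 : act 4 n3809 = n4987 := rfl
theorem F17050 : act 0 n4987 = n3811 := d3_1 D4987 (iv D3811) (iv F13189)
theorem F17051 : act 6 n4987 = n4987 := d23_2 F13191 D4987 (iv D4987)
def n4988 : Q := act 4 n3810
theorem D4988 : act 4 n3810 = n4988 := rfl
theorem F17052 : act 1 n4988 = n4988 := d9_1 D4988 (iv D4988) F13192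
theorem F17053 : act 2 n4988 = n3811 := d14_1 D4988 (iv D3811) D3810
def n4989 : Q := act 6 n3810
theorem D4989 : act 6 n3810 = n4989 := rfl
theorem F17056 : act 3 n4989 = n3842 := d20_1 D4989 (iv D3842) (iv F13193)
def n4990 : Q := act 5 n3811
theorem D4990 : act 5 n3811 = n4990 := rfl
theorem F17058 : act 1 n4990 = n3812 := d10_1 D4990 (iv D3812) (iv F13195)
theorem F17059 : act 4 n4990 = n4990 := d22_1 D4990 (iv D4990) (iv D3811) F10188 D3811
theorem F17060 : act 6 n4990 = n4990 := d25_2 F13196 D4990 (iv D4990)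
def n4991 : Q := act 2 n3813
theorem D4991 : act 2 n3813 = n4991 := rfl
theorem F17061 : act 0 n4991 = n3864 := d1_1 D4991 (iv D3864) (iv F13200)
theorem F17065 : act 7 n4991 = n3814 := d17_2 (iv F13204) D4991 (iv D3814)
def n4992 : Q := act 1 n3814
theorem D4992 : act 1 n3814 = n4992 := rfl
theorem F17068 : act 6 n4992 = n3952 := d11_2 (iv F13208) D4992 (iv D3952)
def n4994 : Q := act 1 n3815
theorem D4994 : act 1 n3815 = n4994 := rfl
theorem F17075 : act 7 n4994 = n3816 := d12_2 (iv F13212) D4994 (iv D3816)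
def n4995 : Q := act 3 n3815
theorem D4995 : act 3 n3815 = n4995 := rfl
theorem F17077 : act 2 n4995 = n3824 := d13_1 D4995 (iv D3824) (iv D2914) (iv F10202) D3815
def n4996 : Q := act 0 n3816
theorem D4996 : act 0 n3816 = n4996 := rfl
theorem F17081 : act 1 n4996 = n3869 := d0_2 D3816 D4996 (iv D3869) (iv D2948) (iv F10205)
theorem F17082 : act 5 n4996 = n3820 := d4_2 (iv F13213) D4996 (iv D3820)
theorem F17083 : act 6 n4996 = n3954 := d5_2 (iv F13214) D4996 (iv D3954)
def n4997 : Q := act 3 n3816
theorem D4997 : act 3 n3816 = n4997 := rfl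
theorem F17084 : act 1 n4997 = n3817 := d8_1 D4997 (iv D3817) D3816
def n4998 : Q := act 4 n3817
theorem D4998 : act 4 n3817 = n4998 := rfl
theorem F17087 : act 0 n4998 = n3871 := d3_1 D4998 (iv D3871) (iv F13215)
theorem F17088 : act 2 n4998 = n3827 := d14_1 D4998 (iv D3827) (iv F13216)
def n4999 : Q := act 0 n3818
theorem D4999 : act 0 n3818 = n4999 := rfl
theorem F17090 : act 1 n4999 = n3872 := d0_2 D3818 D4999 (iv D3872) (iv D2950) (iv F10208)
theorem F17093 : act 7 n4999 = n3820 := d6_2 (iv F13221) D4999 (iv D3820)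
def n5000 : Q := act 3 n3818
theorem D5000 : act 3 n3818 = n5000 := rfl
theorem F17094 : act 1 n5000 = n3819 := d8_1 D5000 (iv D3819) D3818
theorem F17096 : act 7 n5000 = n3821 := d21_2 (iv F13221) D5000 (iv D3821)
def n5001 : Q := act 4 n3819
theorem D5001 : act 4 n3819 = n5001 := rfl
theorem F17097 : act 0 n5001 = n3874 := d3_1 D5001 (iv D3874) (iv F13222)
theorem F17098 : act 2 n5001 = n3830 := d14_1 D5001 (iv D3830) (iv F13223)
theorem F17101 : act 7 n5001 = n3822 := d24_2 (iv F13225) D5001 (iv D3822)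
def n5002 : Q := act 3 n3820
theorem D5002 : act 3 n3820 = n5002 := rfl
theorem F17102 : act 0 n5002 = n3821 := d2_1 D5002 (iv D3821) D3820
theorem F17103 : act 1 n5002 = n3875 := d8_1 D5002 (iv D3875) (iv F13226)
theorem F17104 : act 6 n5002 = n3957 := d20_2 (iv F13228) D5002 (iv D3957)
def n5003 : Q := act 2 n3821
theorem D5003 : act 2 n3821 = n5003 := rfl
theorem F17105 : act 1 n5003 = n3832 := d7_1 D5003 (iv D3832) F10237 (iv F10215) (iv F13229)
def n5004 : Q := act 4 n3821
theorem D5004 : act 4 n3821 = n5004 := rfl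
theorem F17106 : act 1 n5004 = n3822 := d9_1 D5004 (iv D3822) (iv F13229)
theorem F17107 : act 3 n5004 = n5004 := d18_1 D5004 (iv D5004) (iv D3821) F10212 D3821
theorem F17108 : act 6 n5004 = n3959 := d23_2 (iv F13230) D5004 (iv D3959)
def n5006 : Q := act 0 n3823
theorem D5006 : act 0 n3823 = n5006 := rfl
theorem F17113 : act 1 n5006 = n3879 := d0_2 D3823 D5006 (iv D3879) (iv D2955) (iv F10217)
theorem F17115 : act 5 n5006 = n3828 := d4_2 (iv F13236) D5006 (iv D3828)
theorem F17116 : act 6 n5006 = n4266 := d5_2 (iv F13237) D5006 (iv D4266)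
theorem F17117 : act 7 n5006 = n3825 := d6_2 (iv F13238) D5006 (iv D3825)
def n5007 : Q := act 3 n3823
theorem D5007 : act 3 n3823 = n5007 := rfl
theorem F17118 : act 1 n5007 = n3824 := d8_1 D5007 (iv D3824) D3823
theorem F17119 : act 5 n5007 = n3829 := d19_2 (iv F13236) D5007 (iv D3829)
theorem F17120 : act 6 n5007 = n4267 := d20_2 (iv F13237) D5007 (iv D4267)
theorem F17121 : act 7 n5007 = n3826 := d21_2 (iv F13238) D5007 (iv D3826)
def n5008 : Q := act 4 n3824
theorem D5008 : act 4 n3824 = n5008 := rfl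
theorem F17122 : act 0 n5008 = n3881 := d3_1 D5008 (iv D3881) (iv F13239)
theorem F17124 : act 6 n5008 = n4268 := d23_2 (iv F13241) D5008 (iv D4268)
theorem F17125 : act 7 n5008 = n3827 := d24_2 (iv F13242) D5008 (iv D3827)
def n5009 : Q := act 3 n3825
theorem D5009 : act 3 n3825 = n5009 := rfl
theorem F17126 : act 0 n5009 = n3826 := d2_1 D5009 (iv D3826) D3825
theorem F17127 : act 1 n5009 = n3882 := d8_1 D5009 (iv D3882) (iv F13243)
theorem F17128 : act 5 n5009 = n3831 := d19_2 (iv F13245) D5009 (iv D3831)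
theorem F17129 : act 6 n5009 = n3844 := d20_2 (iv F13246) D5009 (iv D3844)
def n5010 : Q := act 2 n3826
theorem D5010 : act 2 n3826 = n5010 := rfl
theorem F17130 : act 5 n5010 = n3832 := d15_2 (iv F13248) D5010 (iv D3832)
def n5011 : Q := act 4 n3826
theorem D5011 : act 4 n3826 = n5011 := rfl
theorem F17131 : act 1 n5011 = n3827 := d9_1 D5011 (iv D3827) (iv F13247)
theorem F17132 : act 3 n5011 = n5011 := d18_1 D5011 (iv D5011) (iv D3826) F10222 D3826
theorem F17133 : act 6 n5011 = n3846 := d23_2 (iv F13249) D5011 (iv D3846)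
def n5012 : Q := act 5 n3827
theorem D5012 : act 5 n3827 = n5012 := rfl
theorem F17134 : act 0 n5012 = n3885 := d4_1 D5012 (iv D3885) (iv F13250)
theorem F17137 : act 6 n5012 = n3847 := d25_2 (iv F13252) D5012 (iv D3847)
def n5013 : Q := act 3 n3828
theorem D5013 : act 3 n3828 = n5013 := rfl
theorem F17138 : act 0 n5013 = n3829 := d2_1 D5013 (iv D3829) D3828
theorem F17139 : act 1 n5013 = n3886 := d8_1 D5013 (iv D3886) (iv F13253)
theorem F17140 : act 6 n5013 = n4273 := d20_2 (iv F13255) D5013 (iv D4273)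
theorem F17141 : act 7 n5013 = n3831 := d21_2 (iv F13256) D5013 (iv D3831)
def n5014 : Q := act 2 n3829
theorem D5014 : act 2 n3829 = n5014 := rfl
theorem F17142 : act 7 n5014 = n3832 := d17_2 (iv F13259) D5014 (iv D3832)
def n5015 : Q := act 4 n3829
theorem D5015 : act 4 n3829 = n5015 := rfl
theorem F17143 : act 1 n5015 = n3830 := d9_1 D5015 (iv D3830) (iv F13257)
theorem F17144 : act 3 n5015 = n3837 := d18_1 D5015 (iv D3837) (iv D2923) (iv F10228) D3829
theorem F17145 : act 6 n5015 = n4275 := d23_2 (iv F13258) D5015 (iv D4275)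
theorem F17146 : act 7 n5015 = n3833 := d24_2 (iv F13259) D5015 (iv D3833)
def n5016 : Q := act 5 n3830
theorem D5016 : act 5 n3830 = n5016 := rfl
theorem F17147 : act 0 n5016 = n3889 := d4_1 D5016 (iv D3889) (iv F13260)
theorem F17149 : act 6 n5016 = n4276 := d25_2 (iv F13262) D5016 (iv D4276)
theorem F17150 : act 7 n5016 = n3834 := d26_2 (iv F13263) D5016 (iv D3834)
def n5017 : Q := act 2 n3831
theorem D5017 : act 2 n3831 = n5017 := rfl
theorem F17151 : act 0 n5017 = n3832 := d1_1 D5017 (iv D3832) (iv F13264)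
def n5018 : Q := act 4 n3831
theorem D5018 : act 4 n3831 = n5018 := rfl
theorem F17152 : act 0 n5018 = n3833 := d3_1 D5018 (iv D3833) (iv F13264)
theorem F17153 : act 1 n5018 = n3891 := d9_1 D5018 (iv D3891) (iv F13265)
theorem F17154 : act 3 n5018 = n3840 := d18_1 D5018 (iv D3840) (iv D2925) (iv F10235) D3831
theorem F17155 : act 6 n5018 = n3849 := d23_2 (iv F13266) D5018 (iv D3849)
def n5019 : Q := act 4 n3832
theorem D5019 : act 4 n3832 = n5019 := rfl
theorem F17156 : act 2 n5019 = n3833 := d14_1 D5019 (iv D3833) D3832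
def n5020 : Q := act 6 n3832
theorem D5020 : act 6 n3832 = n5020 := rfl
theorem F17157 : act 2 n5020 = n3851 := d16_1 D5020 (iv D3851) (iv D2933) (iv F10238) D3832
def n5021 : Q := act 5 n3833
theorem D5021 : act 5 n3833 = n5021 := rfl
theorem F17160 : act 6 n5021 = n3852 := d25_2 (iv F13269) D5021 (iv D3852)
def n5022 : Q := act 2 n3835
theorem D5022 : act 2 n3835 = n5022 := rfl
theorem F17161 : act 0 n5022 = n3836 := d1_1 D5022 (iv D3836) (iv F13273)
theorem F17162 : act 5 n5022 = n5022 := d15_2 F13275 D5022 (iv D5022)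
theorem F17163 : act 7 n5022 = n3839 := d17_2 (iv F13277) D5022 (iv D3839)
def n5023 : Q := act 4 n3835
theorem D5023 : act 4 n3835 = n5023 := rfl
theorem F17164 : act 0 n5023 = n3837 := d3_1 D5023 (iv D3837) (iv F13273)
theorem F17165 : act 1 n5023 = n3896 := d9_1 D5023 (iv D3896) (iv F13274)
theorem F17166 : act 6 n5023 = n4283 := d23_2 (iv F13276) D5023 (iv D4283)
theorem F17167 : act 7 n5023 = n3840 := d24_2 (iv F13277) D5023 (iv D3840)
def n5024 : Q := act 4 n3836
theorem D5024 : act 4 n3836 = n5024 := rfl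
theorem F17169 : act 2 n5024 = n3837 := d14_1 D5024 (iv D3837) D3836
theorem F17170 : act 7 n5024 = n3841 := d24_2 (iv F13280) D5024 (iv D3841)
def n5025 : Q := act 6 n3836
theorem D5025 : act 6 n3836 = n5025 := rfl
def n5027 : Q := act 1 n3839
theorem D5027 : act 1 n3839 = n5027 := rfl
theorem F17178 : act 0 n5027 = n5027 := d0_1 D5027 (iv D5027) F13289 F10258 (iv F13289)
theorem F17179 : act 2 n5027 = n3900 := d7_2 D3839 D5027 (iv D3900) (iv D2971) (iv F10255)
theorem F17180 : act 5 n5027 = n5027 := d10_2 F13290 D5027 (iv D5027)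
def n5028 : Q := act 4 n3839
theorem D5028 : act 4 n3839 = n5028 := rfl
theorem F17182 : act 2 n5028 = n3840 := d14_1 D5028 (iv D3840) D3839
def n5029 : Q := act 6 n3839
theorem D5029 : act 6 n3839 = n5029 := rfl
theorem F17184 : act 2 n5029 = n3854 := d16_1 D5029 (iv D3854) (iv D2936) (iv F10257) D3839
def n5035 : Q := act 2 n3844
theorem D5035 : act 2 n3844 = n5035 := rfl
theorem F17200 : act 0 n5035 = n3845 := d1_1 D5035 (iv D3845) (iv F13302)
theorem F17201 : act 3 n5035 = n5035 := d13_2 D3844 D5035 (iv D5035) (iv D3844) F10267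
theorem F17202 : act 5 n5035 = n3848 := d15_2 (iv F13304) D5035 (iv D3848)
theorem F17203 : act 7 n5035 = n4295 := d17_2 (iv F13305) D5035 (iv D4295)
def n5036 : Q := act 4 n3844
theorem D5036 : act 4 n3844 = n5036 := rfl
theorem F17204 : act 0 n5036 = n3846 := d3_1 D5036 (iv D3846) (iv F13302)
theorem F17205 : act 1 n5036 = n3906 := d9_1 D5036 (iv D3906) (iv F13303)
theorem F17206 : act 3 n5036 = n5036 := d18_1 D5036 (iv D5036) (iv D3844) F10268 D3844
theorem F17207 : act 7 n5036 = n4296 := d24_2 (iv F13305) D5036 (iv D4296)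
def n5037 : Q := act 4 n3845
theorem D5037 : act 4 n3845 = n5037 := rfl
theorem F17208 : act 1 n5037 = n3980 := d9_1 D5037 (iv D3980) (iv F13306)
theorem F17209 : act 2 n5037 = n3846 := d14_1 D5037 (iv D3846) D3845
def n5038 : Q := act 6 n3845
theorem D5038 : act 6 n3845 = n5038 := rfl
theorem F17212 : act 3 n5038 = n5038 := d20_1 D5038 (iv D5038) F13307
theorem F17213 : act 5 n5038 = n3851 := d25_1 D5038 (iv D3851) (iv F13308)
def n5039 : Q := act 5 n3846
theorem D5039 : act 5 n3846 = n5039 := rfl
theorem F17214 : act 1 n5039 = n3847 := d10_1 D5039 (iv D3847) (iv F13310)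
def n5040 : Q := act 1 n3848
theorem D5040 : act 1 n3848 = n5040 := rfl
theorem F17218 : act 0 n5040 = n3983 := d0_1 D5040 (iv D3983) F10619 (iv F10281) (iv F13318)
def n5041 : Q := act 4 n3848
theorem D5041 : act 4 n3848 = n5041 := rfl
theorem F17222 : act 0 n5041 = n3850 := d3_1 D5041 (iv D3850) (iv F13318)
theorem F17223 : act 2 n5041 = n3849 := d14_1 D5041 (iv D3849) D3848
theorem F17224 : act 7 n5041 = n4301 := d24_2 (iv F13320) D5041 (iv D4301)
def n5042 : Q := act 6 n3848
theorem D5042 : act 6 n3848 = n5042 := rfl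
theorem F17225 : act 0 n5042 = n3851 := d5_1 D5042 (iv D3851) (iv F13318)
theorem F17226 : act 3 n5042 = n5042 := d20_1 D5042 (iv D5042) F13319
def n5043 : Q := act 5 n3849
theorem D5043 : act 5 n3849 = n5043 := rfl
theorem F17227 : act 0 n5043 = n3852 := d4_1 D5043 (iv D3852) (iv F13321)
theorem F17230 : act 7 n5043 = n4303 := d26_2 (iv F13324) D5043 (iv D4303)
def n5045 : Q := act 5 n3850
theorem D5045 : act 5 n3850 = n5045 := rfl
theorem F17235 : act 1 n5045 = n3988 := d10_1 D5045 (iv D3988) (iv F13325)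
theorem F17236 : act 2 n5045 = n3852 := d15_1 D5045 (iv D3852) (iv F13326)
theorem F17237 : act 7 n5045 = n4305 := d26_2 (iv F13327) D5045 (iv D4305)
def n5046 : Q := act 6 n3850
theorem D5046 : act 6 n3850 = n5046 := rfl
theorem F17239 : act 4 n5046 = n3851 := d23_1 D5046 (iv D3851) D3850
def n5047 : Q := act 7 n3851
theorem D5047 : act 7 n3851 = n5047 := rfl
theorem F17241 : act 3 n5047 = n5047 := d21_1 D5047 (iv D5047) F13329
theorem F17242 : act 6 n5047 = n4307 := d27_1 D5047 (iv D4307) (iv D3280) (iv F10283) D3851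
def n5049 : Q := act 5 n3853
theorem D5049 : act 5 n3853 = n5049 := rfl
theorem F17247 : act 0 n5049 = n3857 := d4_1 D5049 (iv D3857) (iv F13333)
def n5061 : Q := act 1 n3864
theorem D5061 : act 1 n3864 = n5061 := rfl
theorem F17296 : act 7 n5061 = n3865 := d12_2 (iv F13376) D5061 (iv D3865)
def n5063 : Q := act 0 n3865
theorem D5063 : act 0 n3865 = n5063 := rfl
theorem F17301 : act 4 n5063 = n3869 := d3_2 (iv F13377) D5063 (iv D3869)
theorem F17303 : act 6 n5063 = n4004 := d5_2 (iv F13379) D5063 (iv D4004)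
def n5064 : Q := act 3 n3865
theorem D5064 : act 3 n3865 = n5064 := rfl
theorem F17306 : act 6 n5064 = n4005 := d20_2 (iv F13379) D5064 (iv D4005)
def n5065 : Q := act 4 n3866
theorem D5065 : act 4 n3866 = n5065 := rfl
theorem F17308 : act 3 n5065 = n3871 := d18_1 D5065 (iv D3871) (iv D2949) (iv F10328) D3866
def n5066 : Q := act 0 n3867
theorem D5066 : act 0 n3867 = n5066 := rfl
theorem F17310 : act 5 n5066 = n3872 := d4_2 (iv F13383) D5066 (iv D3872)
theorem F17312 : act 7 n5066 = n3869 := d6_2 (iv F13385) D5066 (iv D3869)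
def n5067 : Q := act 3 n3867
theorem D5067 : act 3 n3867 = n5067 := rfl
theorem F17313 : act 1 n5067 = n3868 := d8_1 D5067 (iv D3868) D3867
theorem F17314 : act 5 n5067 = n3873 := d19_2 (iv F13383) D5067 (iv D3873)
theorem F17316 : act 7 n5067 = n3870 := d21_2 (iv F13385) D5067 (iv D3870)
def n5068 : Q := act 4 n3868
theorem D5068 : act 4 n3868 = n5068 := rfl
theorem F17317 : act 2 n5068 = n3881 := d14_1 D5068 (iv D3881) (iv F13386)
theorem F17319 : act 7 n5068 = n3871 := d24_2 (iv F13389) D5068 (iv D3871)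
def n5069 : Q := act 3 n3869
theorem D5069 : act 3 n3869 = n5069 := rfl
theorem F17320 : act 0 n5069 = n3870 := d2_1 D5069 (iv D3870) D3869
theorem F17321 : act 5 n5069 = n3875 := d19_2 (iv F13390) D5069 (iv D3875)
theorem F17322 : act 6 n5069 = n4007 := d20_2 (iv F13391) D5069 (iv D4007)
def n5070 : Q := act 2 n3870
theorem D5070 : act 2 n3870 = n5070 := rfl
theorem F17323 : act 1 n5070 = n3883 := d7_1 D5070 (iv D3883) F10362 (iv F10336) (iv F13392)
theorem F17324 : act 5 n5070 = n3876 := d15_2 (iv F13393) D5070 (iv D3876)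
def n5071 : Q := act 4 n3870
theorem D5071 : act 4 n3870 = n5071 := rfl
theorem F17325 : act 1 n5071 = n3871 := d9_1 D5071 (iv D3871) (iv F13392)
theorem F17326 : act 6 n5071 = n4009 := d23_2 (iv F13394) D5071 (iv D4009)
def n5072 : Q := act 5 n3871
theorem D5072 : act 5 n3871 = n5072 := rfl
theorem F17327 : act 2 n5072 = n3885 := d15_1 D5072 (iv D3885) (iv F13395)
theorem F17328 : act 4 n5072 = n3878 := d22_1 D5072 (iv D3878) (iv D2954) (iv F10337) D3871
theorem F17329 : act 6 n5072 = n4010 := d25_2 (iv F13396) D5072 (iv D4010)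
def n5073 : Q := act 3 n3872
theorem D5073 : act 3 n3872 = n5073 := rfl
theorem F17330 : act 0 n5073 = n3873 := d2_1 D5073 (iv D3873) D3872
theorem F17331 : act 6 n5073 = n5073 := d20_2 F13398 D5073 (iv D5073)
theorem F17332 : act 7 n5073 = n3875 := d21_2 (iv F13399) D5073 (iv D3875)
def n5074 : Q := act 2 n3873
theorem D5074 : act 2 n3873 = n5074 := rfl
theorem F17333 : act 1 n5074 = n3887 := d7_1 D5074 (iv D3887) F10370 (iv F10342) (iv F13400)
theorem F17334 : act 7 n5074 = n3876 := d17_2 (iv F13402) D5074 (iv D3876)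
def n5075 : Q := act 4 n3873
theorem D5075 : act 4 n3873 = n5075 := rfl
theorem F17335 : act 1 n5075 = n3874 := d9_1 D5075 (iv D3874) (iv F13400)
theorem F17336 : act 3 n5075 = n5075 := d18_1 D5075 (iv D5075) (iv D3873) F10339 D3873
theorem F17337 : act 6 n5075 = n5075 := d23_2 F13401 D5075 (iv D5075)
theorem F17338 : act 7 n5075 = n3877 := d24_2 (iv F13402) D5075 (iv D3877)
def n5076 : Q := act 5 n3874
theorem D5076 : act 5 n3874 = n5076 := rfl
theorem F17339 : act 2 n5076 = n3889 := d15_1 D5076 (iv D3889) (iv F13403)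
theorem F17340 : act 3 n5076 = n5076 := d19_1 D5076 (iv D5076) F13404
theorem F17341 : act 6 n5076 = n5076 := d25_2 F13405 D5076 (iv D5076)
theorem F17342 : act 7 n5076 = n3878 := d26_2 (iv F13406) D5076 (iv D3878)
def n5077 : Q := act 2 n3875
theorem D5077 : act 2 n3875 = n5077 := rfl
theorem F17343 : act 0 n5077 = n3876 := d1_1 D5077 (iv D3876) (iv F13407)
def n5078 : Q := act 4 n3875
theorem D5078 : act 4 n3875 = n5078 := rfl
theorem F17344 : act 0 n5078 = n3877 := d3_1 D5078 (iv D3877) (iv F13407)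
theorem F17345 : act 3 n5078 = n5078 := d18_1 D5078 (iv D5078) (iv D3875) F10345 D3875
theorem F17346 : act 6 n5078 = n4012 := d23_2 (iv F13408) D5078 (iv D4012)
def n5079 : Q := act 4 n3876
theorem D5079 : act 4 n3876 = n5079 := rfl
theorem F17347 : act 1 n5079 = n3892 := d9_1 D5079 (iv D3892) (iv F13409)
theorem F17348 : act 2 n5079 = n3877 := d14_1 D5079 (iv D3877) D3876
def n5080 : Q := act 6 n3876
theorem D5080 : act 6 n3876 = n5080 := rfl
theorem F17349 : act 1 n5080 = n3893 := d11_1 D5080 (iv D3893) (iv F13409)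
theorem F17350 : act 2 n5080 = n4014 := d16_1 D5080 (iv D4014) (iv D3056) (iv F10348) D3876
def n5081 : Q := act 5 n3877
theorem D5081 : act 5 n3877 = n5081 := rfl
theorem F17351 : act 1 n5081 = n3878 := d10_1 D5081 (iv D3878) (iv F13410)
theorem F17352 : act 3 n5081 = n5081 := d19_1 D5081 (iv D5081) F13411
theorem F17353 : act 6 n5081 = n4015 := d25_2 (iv F13412) D5081 (iv D4015)
def n5082 : Q := act 3 n3879
theorem D5082 : act 3 n3879 = n5082 := rfl
theorem F17354 : act 0 n5082 = n3880 := d2_1 D5082 (iv D3880) D3879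
theorem F17355 : act 5 n5082 = n3886 := d19_2 (iv F13417) D5082 (iv D3886)
theorem F17356 : act 6 n5082 = n4321 := d20_2 (iv F13418) D5082 (iv D4321)
theorem F17357 : act 7 n5082 = n3882 := d21_2 (iv F13419) D5082 (iv D3882)
def n5083 : Q := act 2 n3880
theorem D5083 : act 2 n3880 = n5083 := rfl
theorem F17358 : act 5 n5083 = n3887 := d15_2 (iv F13421) D5083 (iv D3887)
theorem F17359 : act 7 n5083 = n3883 := d17_2 (iv F13423) D5083 (iv D3883)
def n5084 : Q := act 4 n3880
theorem D5084 : act 4 n3880 = n5084 := rfl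
theorem F17360 : act 1 n5084 = n3881 := d9_1 D5084 (iv D3881) (iv F13420)
theorem F17362 : act 6 n5084 = n4323 := d23_2 (iv F13422) D5084 (iv D4323)
theorem F17363 : act 7 n5084 = n3884 := d24_2 (iv F13423) D5084 (iv D3884)
def n5085 : Q := act 5 n3881
theorem D5085 : act 5 n3881 = n5085 := rfl
theorem F17364 : act 3 n5085 = n5085 := d19_1 D5085 (iv D5085) F13424
theorem F17365 : act 4 n5085 = n3889 := d22_1 D5085 (iv D3889) (iv D2962) (iv F10356) D3881
theorem F17366 : act 6 n5085 = n4324 := d25_2 (iv F13425) D5085 (iv D4324)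
theorem F17367 : act 7 n5085 = n3885 := d26_2 (iv F13426) D5085 (iv D3885)
def n5086 : Q := act 2 n3882
theorem D5086 : act 2 n3882 = n5086 := rfl
theorem F17368 : act 0 n5086 = n3883 := d1_1 D5086 (iv D3883) (iv F13427)
theorem F17369 : act 5 n5086 = n3890 := d15_2 (iv F13428) D5086 (iv D3890)
def n5087 : Q := act 4 n3882
theorem D5087 : act 4 n3882 = n5087 := rfl
theorem F17372 : act 6 n5087 = n3906 := d23_2 (iv F13429) D5087 (iv D3906)
def n5088 : Q := act 4 n3883
theorem D5088 : act 4 n3883 = n5088 := rfl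
theorem F17373 : act 2 n5088 = n3884 := d14_1 D5088 (iv D3884) D3883
def n5089 : Q := act 6 n3883
theorem D5089 : act 6 n3883 = n5089 := rfl
theorem F17374 : act 2 n5089 = n3908 := d16_1 D5089 (iv D3908) (iv D2976) (iv F10364) D3883
def n5090 : Q := act 5 n3884
theorem D5090 : act 5 n3884 = n5090 := rfl
theorem F17376 : act 1 n5090 = n3885 := d10_1 D5090 (iv D3885) (iv F13431)
theorem F17379 : act 6 n5090 = n3909 := d25_2 (iv F13433) D5090 (iv D3909)
def n5091 : Q := act 2 n3886
theorem D5091 : act 2 n3886 = n5091 := rfl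
theorem F17380 : act 0 n5091 = n3887 := d1_1 D5091 (iv D3887) (iv F13437)
theorem F17381 : act 7 n5091 = n3890 := d17_2 (iv F13439) D5091 (iv D3890)
def n5092 : Q := act 4 n3886
theorem D5092 : act 4 n3886 = n5092 := rfl
theorem F17382 : act 0 n5092 = n3888 := d3_1 D5092 (iv D3888) (iv F13437)
theorem F17383 : act 3 n5092 = n3896 := d18_1 D5092 (iv D3896) (iv D2967) (iv F10367) D3886
theorem F17384 : act 6 n5092 = n4331 := d23_2 (iv F13438) D5092 (iv D4331)
theorem F17385 : act 7 n5092 = n3891 := d24_2 (iv F13439) D5092 (iv D3891)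
def n5093 : Q := act 4 n3887
theorem D5093 : act 4 n3887 = n5093 := rfl
theorem F17386 : act 2 n5093 = n3888 := d14_1 D5093 (iv D3888) D3887
theorem F17387 : act 7 n5093 = n3892 := d24_2 (iv F13440) D5093 (iv D3892)
def n5094 : Q := act 6 n3887
theorem D5094 : act 6 n3887 = n5094 := rfl
theorem F17388 : act 2 n5094 = n4333 := d16_1 D5094 (iv D4333) (iv D3301) (iv F10371) D3887
def n5095 : Q := act 5 n3888
theorem D5095 : act 5 n3888 = n5095 := rfl
theorem F17389 : act 1 n5095 = n3889 := d10_1 D5095 (iv D3889) (iv F13441)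
theorem F17390 : act 3 n5095 = n3899 := d19_1 D5095 (iv D3899) (iv F13442)
theorem F17391 : act 6 n5095 = n4334 := d25_2 (iv F13443) D5095 (iv D4334)
theorem F17392 : act 7 n5095 = n3894 := d26_2 (iv F13444) D5095 (iv D3894)
def n5096 : Q := act 1 n3890
theorem D5096 : act 1 n3890 = n5096 := rfl
def n5097 : Q := act 4 n3890
theorem D5097 : act 4 n3890 = n5097 := rfl
theorem F17393 : act 0 n5097 = n3892 := d3_1 D5097 (iv D3892) (iv F13448)
theorem F17394 : act 2 n5097 = n3891 := d14_1 D5097 (iv D3891) D3890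
def n5098 : Q := act 6 n3890
theorem D5098 : act 6 n3890 = n5098 := rfl
theorem F17395 : act 0 n5098 = n3893 := d5_1 D5098 (iv D3893) (iv F13448)
theorem F17396 : act 2 n5098 = n3912 := d16_1 D5098 (iv D3912) (iv D2979) (iv F10377) D3890
def n5099 : Q := act 5 n3891
theorem D5099 : act 5 n3891 = n5099 := rfl
theorem F17397 : act 0 n5099 = n3894 := d4_1 D5099 (iv D3894) (iv F13449)
theorem F17398 : act 3 n5099 = n3902 := d19_1 D5099 (iv D3902) (iv F13450)
theorem F17399 : act 6 n5099 = n3913 := d25_2 (iv F13451) D5099 (iv D3913)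
def n5100 : Q := act 3 n3892
theorem D5100 : act 3 n3892 = n5100 := rfl
theorem F17400 : act 2 n5100 = n3903 := d13_1 D5100 (iv D3903) F10403 (iv F10379) (iv F13452)
def n5101 : Q := act 5 n3892
theorem D5101 : act 5 n3892 = n5101 := rfl
theorem F17401 : act 2 n5101 = n3894 := d15_1 D5101 (iv D3894) (iv F13452)
def n5102 : Q := act 6 n3892
theorem D5102 : act 6 n3892 = n5102 := rfl
theorem F17402 : act 2 n5102 = n3915 := d16_1 D5102 (iv D3915) F10429 (iv F10380) (iv F13452)
theorem F17403 : act 4 n5102 = n3893 := d23_1 D5102 (iv D3893) D3892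
def n5103 : Q := act 7 n3893
theorem D5103 : act 7 n3893 = n5103 := rfl
theorem F17404 : act 2 n5103 = n3916 := d17_1 D5103 (iv D3916) (iv F13453)
def n5104 : Q := act 1 n3895
theorem D5104 : act 1 n3895 = n5104 := rfl
theorem F17405 : act 0 n5104 = n5104 := d0_1 D5104 (iv D5104) F13457 F10387 (iv F13457)
theorem F17406 : act 5 n5104 = n5104 := d10_2 F13458 D5104 (iv D5104)
theorem F17407 : act 7 n5104 = n3900 := d12_2 (iv F13459) D5104 (iv D3900)
def n5105 : Q := act 4 n3895
theorem D5105 : act 4 n3895 = n5105 := rfl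
theorem F17408 : act 0 n5105 = n3897 := d3_1 D5105 (iv D3897) (iv F13457)
theorem F17409 : act 2 n5105 = n3896 := d14_1 D5105 (iv D3896) D3895
theorem F17410 : act 7 n5105 = n3901 := d24_2 (iv F13459) D5105 (iv D3901)
def n5106 : Q := act 6 n3895
theorem D5106 : act 6 n3895 = n5106 := rfl
theorem F17411 : act 0 n5106 = n3898 := d5_1 D5106 (iv D3898) (iv F13457)
theorem F17412 : act 2 n5106 = n4345 := d16_1 D5106 (iv D4345) (iv D3309) (iv F10385) D3895
theorem F17413 : act 5 n5106 = n5106 := d25_1 D5106 (iv D5106) F13458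
theorem F17414 : act 7 n5106 = n5106 := d27_2 (iv F13459) D5106 (iv D5106) F13459 F10399
def n5107 : Q := act 5 n3896
theorem D5107 : act 5 n3896 = n5107 := rfl
theorem F17415 : act 0 n5107 = n3899 := d4_1 D5107 (iv D3899) (iv F13460)
theorem F17416 : act 4 n5107 = n5107 := d22_1 D5107 (iv D5107) (iv D3896) F10384 D3896
theorem F17417 : act 6 n5107 = n4346 := d25_2 (iv F13461) D5107 (iv D4346)
theorem F17418 : act 7 n5107 = n3902 := d26_2 (iv F13462) D5107 (iv D3902)
def n5108 : Q := act 3 n3897
theorem D5108 : act 3 n3897 = n5108 := rfl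
theorem F17419 : act 1 n5108 = n5108 := d8_1 D5108 (iv D5108) F13463
theorem F17420 : act 7 n5108 = n3903 := d21_2 (iv F13465) D5108 (iv D3903)
def n5109 : Q := act 5 n3897
theorem D5109 : act 5 n3897 = n5109 := rfl
theorem F17421 : act 1 n5109 = n5109 := d10_1 D5109 (iv D5109) F13463
theorem F17422 : act 2 n5109 = n3899 := d15_1 D5109 (iv D3899) (iv F13464)
theorem F17423 : act 4 n5109 = n5109 := d22_1 D5109 (iv D5109) (iv D3897) F10388 D3897
theorem F17424 : act 7 n5109 = n3904 := d26_2 (iv F13465) D5109 (iv D3904)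
def n5110 : Q := act 6 n3897
theorem D5110 : act 6 n3897 = n5110 := rfl
theorem F17425 : act 1 n5110 = n5110 := d11_1 D5110 (iv D5110) F13463
theorem F17426 : act 2 n5110 = n4349 := d16_1 D5110 (iv D4349) F11532 (iv F10391) (iv F13464)
theorem F17427 : act 4 n5110 = n3898 := d23_1 D5110 (iv D3898) D3897
theorem F17428 : act 7 n5110 = n5110 := d27_2 (iv F13465) D5110 (iv D5110) F13465 F10404
def n5111 : Q := act 4 n3900
theorem D5111 : act 4 n3900 = n5111 := rfl
theorem F17429 : act 0 n5111 = n5111 := d3_1 D5111 (iv D5111) F13474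
theorem F17430 : act 1 n5111 = n3901 := d9_1 D5111 (iv D3901) D3900
theorem F17431 : act 6 n5111 = n5111 := d23_2 F13476 D5111 (iv D5111)
def n5112 : Q := act 3 n3901
theorem D5112 : act 3 n3901 = n5112 := rfl
theorem F17432 : act 0 n5112 = n3903 := d2_1 D5112 (iv D3903) (iv F13477)
theorem F17433 : act 6 n5112 = n5112 := d20_2 F13479 D5112 (iv D5112)
def n5113 : Q := act 5 n3901
theorem D5113 : act 5 n3901 = n5113 := rfl
theorem F17434 : act 0 n5113 = n3904 := d4_1 D5113 (iv D3904) (iv F13477)
theorem F17435 : act 2 n5113 = n3902 := d15_1 D5113 (iv D3902) (iv F13478)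
theorem F17436 : act 4 n5113 = n5113 := d22_1 D5113 (iv D5113) (iv D3901) F10398 D3901
theorem F17437 : act 6 n5113 = n5113 := d25_2 F13479 D5113 (iv D5113)
def n5114 : Q := act 5 n3903
theorem D5114 : act 5 n3903 = n5114 := rfl
theorem F17438 : act 1 n5114 = n5114 := d10_1 D5114 (iv D5114) F13483
theorem F17439 : act 3 n5114 = n3904 := d19_1 D5114 (iv D3904) D3903
theorem F17440 : act 6 n5114 = n5114 := d25_2 F13484 D5114 (iv D5114)
def n5115 : Q := act 1 n3905
theorem D5115 : act 1 n3905 = n5115 := rfl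
theorem F17441 : act 0 n5115 = n4033 := d0_1 D5115 (iv D4033) F10749 (iv F10411) (iv F13489)
theorem F17443 : act 5 n5115 = n3910 := d10_2 (iv F13491) D5115 (iv D3910)
theorem F17444 : act 7 n5115 = n4354 := d12_2 (iv F13492) D5115 (iv D4354)
def n5116 : Q := act 4 n3905
theorem D5116 : act 4 n3905 = n5116 := rfl
theorem F17445 : act 0 n5116 = n3907 := d3_1 D5116 (iv D3907) (iv F13489)
theorem F17446 : act 2 n5116 = n3906 := d14_1 D5116 (iv D3906) D3905
theorem F17447 : act 7 n5116 = n4355 := d24_2 (iv F13492) D5116 (iv D4355)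
def n5117 : Q := act 6 n3905
theorem D5117 : act 6 n3905 = n5117 := rfl
def n5118 : Q := act 5 n3906
theorem D5118 : act 5 n3906 = n5118 := rfl
theorem F17451 : act 0 n5118 = n3909 := d4_1 D5118 (iv D3909) (iv F13493)
theorem F17453 : act 4 n5118 = n3913 := d22_1 D5118 (iv D3913) (iv D2980) (iv F10409) D3906
theorem F17454 : act 7 n5118 = n4357 := d26_2 (iv F13495) D5118 (iv D4357)
def n5119 : Q := act 3 n3907
theorem D5119 : act 3 n3907 = n5119 := rfl
theorem F17455 : act 1 n5119 = n4037 := d8_1 D5119 (iv D4037) (iv F13496)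
theorem F17458 : act 7 n5119 = n4358 := d21_2 (iv F13498) D5119 (iv D4358)
def n5120 : Q := act 5 n3907
theorem D5120 : act 5 n3907 = n5120 := rfl
def n5121 : Q := act 6 n3907
theorem D5121 : act 6 n3907 = n5121 := rfl
def n5122 : Q := act 7 n3908
theorem D5122 : act 7 n3908 = n5122 := rfl
theorem F17468 : act 6 n5122 = n4361 := d27_1 D5122 (iv D4361) (iv D3322) (iv F10414) D3908
def n5123 : Q := act 4 n3910
theorem D5123 : act 4 n3910 = n5123 := rfl
theorem F17469 : act 0 n5123 = n4041 := d3_1 D5123 (iv D4041) (iv F13506)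
theorem F17470 : act 1 n5123 = n3911 := d9_1 D5123 (iv D3911) D3910
theorem F17472 : act 7 n5123 = n4362 := d24_2 (iv F13508) D5123 (iv D4362)
def n5124 : Q := act 6 n3910
theorem D5124 : act 6 n3910 = n5124 := rfl
theorem F17474 : act 1 n5124 = n3912 := d11_1 D5124 (iv D3912) D3910
def n5125 : Q := act 5 n3911
theorem D5125 : act 5 n3911 = n5125 := rfl
theorem F17476 : act 0 n5125 = n3914 := d4_1 D5125 (iv D3914) (iv F13509)
theorem F17477 : act 2 n5125 = n3913 := d15_1 D5125 (iv D3913) (iv F13510)
theorem F17479 : act 7 n5125 = n4364 := d26_2 (iv F13512) D5125 (iv D4364)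
def n5126 : Q := act 6 n3911
theorem D5126 : act 6 n3911 = n5126 := rfl
theorem F17480 : act 0 n5126 = n3915 := d5_1 D5126 (iv D3915) (iv F13509)
theorem F17481 : act 3 n5126 = n5126 := d20_1 D5126 (iv D5126) F13511
theorem F17482 : act 4 n5126 = n3912 := d23_1 D5126 (iv D3912) D3911
def n5127 : Q := act 7 n3912
theorem D5127 : act 7 n3912 = n5127 := rfl
theorem F17483 : act 0 n5127 = n3916 := d6_1 D5127 (iv D3916) (iv F13513)
theorem F17484 : act 3 n5127 = n3924 := d21_1 D5127 (iv D3924) (iv F13514)
theorem F17485 : act 6 n5127 = n4366 := d27_1 D5127 (iv D4366) (iv D3326) (iv F10424) D3912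
def n5128 : Q := act 6 n3914
theorem D5128 : act 6 n3914 = n5128 := rfl
theorem F17488 : act 5 n5128 = n3915 := d25_1 D5128 (iv D3915) D3914
def n5129 : Q := act 7 n3915
theorem D5129 : act 7 n3915 = n5129 := rfl
theorem F17489 : act 1 n5129 = n4047 := d12_1 D5129 (iv D4047) (iv F13522)
theorem F17490 : act 3 n5129 = n5129 := d21_1 D5129 (iv D5129) F13523
theorem F17491 : act 4 n5129 = n3916 := d24_1 D5129 (iv D3916) (iv F13524)
theorem F17492 : act 6 n5129 = n4368 := d27_1 D5129 (iv D4368) (iv D3329) (iv F10431) D3915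
def n5130 : Q := act 4 n3917
theorem D5130 : act 4 n3917 = n5130 := rfl
theorem F17494 : act 1 n5130 = n3918 := d9_1 D5130 (iv D3918) D3917
def n5131 : Q := act 6 n3917
theorem D5131 : act 6 n3917 = n5131 := rfl
theorem F17499 : act 1 n5131 = n3919 := d11_1 D5131 (iv D3919) D3917
def n5132 : Q := act 3 n3918
theorem D5132 : act 3 n3918 = n5132 := rfl
theorem F17501 : act 0 n5132 = n3920 := d2_1 D5132 (iv D3920) (iv F13532)
theorem F17504 : act 7 n5132 = n4371 := d21_2 (iv F13535) D5132 (iv D4371)
def n5133 : Q := act 6 n3918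
theorem D5133 : act 6 n3918 = n5133 := rfl
def n5134 : Q := act 7 n3919
theorem D5134 : act 7 n3919 = n5134 := rfl
theorem F17509 : act 5 n5134 = n3924 := d26_1 D5134 (iv D3924) (iv F13537)
def n5135 : Q := act 6 n3920
theorem D5135 : act 6 n3920 = n5135 := rfl
theorem F17511 : act 1 n5135 = n4053 := d11_1 D5135 (iv D4053) (iv F13538)
theorem F17512 : act 3 n5135 = n3921 := d20_1 D5135 (iv D3921) D3920
def n5136 : Q := act 7 n3921
theorem D5136 : act 7 n3921 = n5136 := rfl
theorem F17517 : act 6 n5136 = n4375 := d27_1 D5136 (iv D4375) (iv D3335) (iv F10452) D3921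
def n5137 : Q := act 2 n3923
theorem D5137 : act 2 n3923 = n5137 := rfl
def n5138 : Q := act 7 n3923
theorem D5138 : act 7 n3923 = n5138 := rfl
theorem F17522 : act 1 n5138 = n3924 := d12_1 D5138 (iv D3924) (iv F13549)
def n5145 : Q := act 1 n3930
theorem D5145 : act 1 n3930 = n5145 := rfl
theorem F17550 : act 5 n5145 = n3932 := d10_2 (iv F13575) D5145 (iv D3932)
theorem F17551 : act 6 n5145 = n3935 := d11_2 (iv F13576) D5145 (iv D3935)
def n5146 : Q := act 3 n3930
theorem D5146 : act 3 n3930 = n5146 := rfl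
theorem F17554 : act 5 n5146 = n3933 := d19_2 (iv F13575) D5146 (iv D3933)
theorem F17555 : act 6 n5146 = n3936 := d20_2 (iv F13576) D5146 (iv D3936)
def n5149 : Q := act 0 n3932
theorem D5149 : act 0 n3932 = n5149 := rfl
theorem F17563 : act 1 n5149 = n5149 := d0_2 D3932 D5149 (iv D5149) (iv D3932) F10487
theorem F17564 : act 4 n5149 = n5149 := d3_2 F13581 D5149 (iv D5149)
theorem F17565 : act 6 n5149 = n3937 := d5_2 (iv F13582) D5149 (iv D3937)
def n5150 : Q := act 3 n3932
theorem D5150 : act 3 n3932 = n5150 := rfl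
theorem F17566 : act 1 n5150 = n3933 := d8_1 D5150 (iv D3933) D3932
theorem F17567 : act 6 n5150 = n3938 := d20_2 (iv F13582) D5150 (iv D3938)
def n5151 : Q := act 4 n3933
theorem D5151 : act 4 n3933 = n5151 := rfl
theorem F17568 : act 0 n5151 = n5151 := d3_1 D5151 (iv D5151) F13583
theorem F17569 : act 2 n5151 = n5151 := d14_1 D5151 (iv D5151) F13584
theorem F17570 : act 3 n5151 = n5151 := d18_1 D5151 (iv D5151) (iv D3933) F10488 D3933
theorem F17571 : act 6 n5151 = n3939 := d23_2 (iv F13585) D5151 (iv D3939)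
def n5152 : Q := act 1 n3934
theorem D5152 : act 1 n3934 = n5152 := rfl
theorem F17572 : act 2 n5152 = n3952 := d7_2 D3934 D5152 (iv D3952) (iv D3012) (iv F10491)
theorem F17573 : act 4 n5152 = n3935 := d9_2 (iv F13587) D5152 (iv D3935)
def n5154 : Q := act 0 n3935
theorem D5154 : act 0 n3935 = n5154 := rfl
theorem F17580 : act 1 n5154 = n5154 := d0_2 D3935 D5154 (iv D5154) (iv D3935) F10496
theorem F17581 : act 2 n5154 = n3954 := d1_2 (iv F13590) D5154 (iv D3954)
theorem F17582 : act 5 n5154 = n3937 := d4_2 (iv F13591) D5154 (iv D3937)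
theorem F17583 : act 7 n5154 = n5154 := d6_2 F13592 D5154 (iv D5154)
def n5155 : Q := act 3 n3935
theorem D5155 : act 3 n3935 = n5155 := rfl
theorem F17584 : act 1 n5155 = n3936 := d8_1 D5155 (iv D3936) D3935
theorem F17585 : act 5 n5155 = n3938 := d19_2 (iv F13591) D5155 (iv D3938)
theorem F17586 : act 7 n5155 = n5155 := d21_2 F13592 D5155 (iv D5155)
def n5156 : Q := act 4 n3936
theorem D5156 : act 4 n3936 = n5156 := rfl
theorem F17588 : act 2 n5156 = n3942 := d14_1 D5156 (iv D3942) (iv F13594)
def n5157 : Q := act 3 n3937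
theorem D5157 : act 3 n3937 = n5157 := rfl
theorem F17590 : act 0 n5157 = n3938 := d2_1 D5157 (iv D3938) D3937
theorem F17591 : act 1 n5157 = n5157 := d8_1 D5157 (iv D5157) F13597
theorem F17592 : act 7 n5157 = n5157 := d21_2 F13600 D5157 (iv D5157)
def n5158 : Q := act 2 n3938
theorem D5158 : act 2 n3938 = n5158 := rfl
theorem F17593 : act 1 n5158 = n3944 := d7_1 D5158 (iv D3944) F10519 (iv F10503) (iv F13601)
theorem F17594 : act 3 n5158 = n3958 := d13_2 D3938 D5158 (iv D3958) (iv D3016) (iv F10499)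
theorem F17595 : act 7 n5158 = n5158 := d17_2 F13602 D5158 (iv D5158)
def n5159 : Q := act 4 n3938
theorem D5159 : act 4 n3938 = n5159 := rfl
theorem F17596 : act 1 n5159 = n3939 := d9_1 D5159 (iv D3939) (iv F13601)
theorem F17597 : act 3 n5159 = n5159 := d18_1 D5159 (iv D5159) (iv D3938) F10500 D3938
theorem F17598 : act 7 n5159 = n5159 := d24_2 F13602 D5159 (iv D5159)
def n5160 : Q := act 5 n3939
theorem D5160 : act 5 n3939 = n5160 := rfl
theorem F17600 : act 2 n5160 = n3946 := d15_1 D5160 (iv D3946) (iv F13604)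
def n5161 : Q := act 3 n3940
theorem D5161 : act 3 n3940 = n5161 := rfl
theorem F17605 : act 5 n5161 = n3943 := d19_2 (iv F13610) D5161 (iv D3943)
def n5162 : Q := act 2 n3941
theorem D5162 : act 2 n3941 = n5162 := rfl
theorem F17608 : act 3 n5162 = n3962 := d13_2 D3941 D5162 (iv D3962) (iv D3019) (iv F10505)
theorem F17609 : act 5 n5162 = n3944 := d15_2 (iv F13614) D5162 (iv D3944)
theorem F17610 : act 7 n5162 = n5162 := d17_2 F13616 D5162 (iv D5162)
def n5163 : Q := act 4 n3941
theorem D5163 : act 4 n3941 = n5163 := rfl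
theorem F17612 : act 3 n5163 = n4081 := d18_1 D5163 (iv D4081) (iv D3109) (iv F10506) D3941
def n5165 : Q := act 2 n3943
theorem D5165 : act 2 n3943 = n5165 := rfl
theorem F17620 : act 0 n5165 = n3944 := d1_1 D5165 (iv D3944) (iv F13621)
theorem F17621 : act 3 n5165 = n3965 := d13_2 D3943 D5165 (iv D3965) (iv D3021) (iv F10515)
def n5166 : Q := act 4 n3943
theorem D5166 : act 4 n3943 = n5166 := rfl
def n5167 : Q := act 4 n3944
theorem D5167 : act 4 n3944 = n5167 := rfl
theorem F17628 : act 2 n5167 = n3945 := d14_1 D5167 (iv D3945) D3944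
def n5170 : Q := act 1 n3947
theorem D5170 : act 1 n3947 = n5170 := rfl
theorem F17639 : act 5 n5170 = n4088 := d10_2 (iv F13637) D5170 (iv D4088)
def n5172 : Q := act 6 n3947
theorem D5172 : act 6 n3947 = n5172 := rfl
theorem F17644 : act 0 n5172 = n3950 := d5_1 D5172 (iv D3950) (iv F13635)
theorem F17646 : act 3 n5172 = n3972 := d20_1 D5172 (iv D3972) (iv F13636)
theorem F17647 : act 5 n5172 = n4090 := d25_1 D5172 (iv D4090) (iv F13637)
def n5174 : Q := act 3 n3949
theorem D5174 : act 3 n3949 = n5174 := rfl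
def n5175 : Q := act 5 n3949
theorem D5175 : act 5 n3949 = n5175 := rfl
theorem F17657 : act 2 n5175 = n3951 := d15_1 D5175 (iv D3951) (iv F13644)
theorem F17658 : act 4 n5175 = n4093 := d22_1 D5175 (iv D4093) (iv D3117) (iv F10533) D3949
def n5176 : Q := act 6 n3949
theorem D5176 : act 6 n3949 = n5176 := rfl
theorem F17662 : act 4 n5176 = n3950 := d23_1 D5176 (iv D3950) D3949
def n5177 : Q := act 7 n3950
theorem D5177 : act 7 n3950 = n5177 := rfl
theorem F17666 : act 5 n5177 = n4095 := d26_1 D5177 (iv D4095) (iv F13649)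
def n5178 : Q := act 0 n3952
theorem D5178 : act 0 n3952 = n5178 := rfl
theorem F17668 : act 1 n5178 = n4004 := d0_2 D3952 D5178 (iv D4004) (iv D3050) (iv F10543)
theorem F17669 : act 4 n5178 = n3954 := d3_2 (iv F13654) D5178 (iv D3954)
def n5179 : Q := act 3 n3952
theorem D5179 : act 3 n3952 = n5179 := rfl
theorem F17672 : act 1 n5179 = n3953 := d8_1 D5179 (iv D3953) D3952
def n5180 : Q := act 4 n3953
theorem D5180 : act 4 n3953 = n5180 := rfl
theorem F17675 : act 0 n5180 = n4006 := d3_1 D5180 (iv D4006) (iv F13657)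
theorem F17676 : act 2 n5180 = n4098 := d14_1 D5180 (iv D4098) (iv F13658)
def n5181 : Q := act 3 n3954
theorem D5181 : act 3 n3954 = n5181 := rfl
theorem F17679 : act 0 n5181 = n3955 := d2_1 D5181 (iv D3955) D3954
theorem F17680 : act 1 n5181 = n4007 := d8_1 D5181 (iv D4007) (iv F13661)
theorem F17681 : act 5 n5181 = n3957 := d19_2 (iv F13662) D5181 (iv D3957)
theorem F17682 : act 7 n5181 = n5181 := d21_2 F13663 D5181 (iv D5181)
def n5182 : Q := act 2 n3955
theorem D5182 : act 2 n3955 = n5182 := rfl
theorem F17683 : act 1 n5182 = n3962 := d7_1 D5182 (iv D3962) F10567 (iv F10550) (iv F13664)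
theorem F17684 : act 5 n5182 = n3958 := d15_2 (iv F13665) D5182 (iv D3958)
theorem F17685 : act 7 n5182 = n5182 := d17_2 F13666 D5182 (iv D5182)
def n5183 : Q := act 4 n3955
theorem D5183 : act 4 n3955 = n5183 := rfl
theorem F17686 : act 1 n5183 = n3956 := d9_1 D5183 (iv D3956) (iv F13664)
theorem F17687 : act 7 n5183 = n5183 := d24_2 F13666 D5183 (iv D5183)
def n5184 : Q := act 5 n3956
theorem D5184 : act 5 n3956 = n5184 := rfl
theorem F17688 : act 0 n5184 = n4010 := d4_1 D5184 (iv D4010) (iv F13667)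
theorem F17689 : act 2 n5184 = n3964 := d15_1 D5184 (iv D3964) (iv F13668)
def n5185 : Q := act 2 n3957
theorem D5185 : act 2 n3957 = n5185 := rfl
theorem F17692 : act 0 n5185 = n3958 := d1_1 D5185 (iv D3958) (iv F13670)
theorem F17693 : act 7 n5185 = n5185 := d17_2 F13672 D5185 (iv D5185)
def n5186 : Q := act 4 n3957
theorem D5186 : act 4 n3957 = n5186 := rfl
theorem F17694 : act 0 n5186 = n3959 := d3_1 D5186 (iv D3959) (iv F13670)
theorem F17695 : act 1 n5186 = n4012 := d9_1 D5186 (iv D4012) (iv F13671)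
theorem F17696 : act 3 n5186 = n5186 := d18_1 D5186 (iv D5186) (iv D3957) F10554 D3957
theorem F17697 : act 7 n5186 = n5186 := d24_2 F13672 D5186 (iv D5186)
def n5187 : Q := act 4 n3958
theorem D5187 : act 4 n3958 = n5187 := rfl
theorem F17698 : act 1 n5187 = n3967 := d9_1 D5187 (iv D3967) (iv F13673)
def n5188 : Q := act 6 n3958
theorem D5188 : act 6 n3958 = n5188 := rfl
def n5192 : Q := act 4 n3962
theorem D5192 : act 4 n3962 = n5192 := rfl
theorem F17713 : act 2 n5192 = n3963 := d14_1 D5192 (iv D3963) D3962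
def n5193 : Q := act 6 n3962
theorem D5193 : act 6 n3962 = n5193 := rfl
def n5195 : Q := act 1 n3965
theorem D5195 : act 1 n3965 = n5195 := rfl
theorem F17722 : act 2 n5195 = n4021 := d7_2 D3965 D5195 (iv D4021) (iv D3063) (iv F10576)
def n5196 : Q := act 4 n3965
theorem D5196 : act 4 n3965 = n5196 := rfl
theorem F17725 : act 2 n5196 = n3966 := d14_1 D5196 (iv D3966) D3965
def n5200 : Q := act 5 n3967
theorem D5200 : act 5 n3967 = n5200 := rfl
theorem F17736 : act 2 n5200 = n3969 := d15_1 D5200 (iv D3969) (iv F13705)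
def n5208 : Q := act 7 n3972
theorem D5208 : act 7 n3972 = n5208 := rfl
theorem F17760 : act 2 n5208 = n3994 := d17_1 D5208 (iv D3994) (iv F13720)
def n5213 : Q := act 1 n3978
theorem D5213 : act 1 n3978 = n5213 := rfl
theorem F17776 : act 2 n5213 = n4033 := d7_2 D3978 D5213 (iv D4033) (iv D3073) (iv F10606)
theorem F17778 : act 5 n5213 = n3983 := d10_2 (iv F13742) D5213 (iv D3983)
def n5214 : Q := act 4 n3978
theorem D5214 : act 4 n3978 = n5214 := rfl
theorem F17781 : act 2 n5214 = n3979 := d14_1 D5214 (iv D3979) D3978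
def n5216 : Q := act 5 n3979
theorem D5216 : act 5 n3979 = n5216 := rfl
theorem F17788 : act 3 n5216 = n4134 := d19_1 D5216 (iv D4134) (iv F13746)
theorem F17789 : act 4 n5216 = n3986 := d22_1 D5216 (iv D3986) (iv D3035) (iv F10607) D3979
def n5217 : Q := act 3 n3980
theorem D5217 : act 3 n3980 = n5217 := rfl
theorem F17791 : act 2 n5217 = n4135 := d13_1 D5217 (iv D4135) F11001 (iv F10613) (iv F13748)
def n5218 : Q := act 5 n3980
theorem D5218 : act 5 n3980 = n5218 := rfl
theorem F17794 : act 2 n5218 = n3982 := d15_1 D5218 (iv D3982) (iv F13748)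
def n5221 : Q := act 4 n3983
theorem D5221 : act 4 n3983 = n5221 := rfl
theorem F17801 : act 1 n5221 = n3984 := d9_1 D5221 (iv D3984) D3983
theorem F17803 : act 7 n5221 = n4386 := d24_2 (iv F13758) D5221 (iv D4386)
def n5223 : Q := act 3 n3984
theorem D5223 : act 3 n3984 = n5223 := rfl
theorem F17807 : act 2 n5223 = n3991 := d13_1 D5223 (iv D3991) F10634 (iv F10624) (iv F13760)
theorem F17809 : act 7 n5223 = n4388 := d21_2 (iv F13761) D5223 (iv D4388)
def n5224 : Q := act 5 n3984
theorem D5224 : act 5 n3984 = n5224 := rfl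
theorem F17811 : act 2 n5224 = n3986 := d15_1 D5224 (iv D3986) (iv F13760)
def n5225 : Q := act 6 n3984
theorem D5225 : act 6 n3984 = n5225 := rfl
def n5231 : Q := act 5 n3991
theorem D5231 : act 5 n3991 = n5231 := rfl
theorem F17828 : act 3 n5231 = n3992 := d19_1 D5231 (iv D3992) D3991
theorem F17829 : act 7 n5231 = n4396 := d26_2 (iv F13779) D5231 (iv D4396)
def n5232 : Q := act 6 n3991
theorem D5232 : act 6 n3991 = n5232 := rfl
theorem F17832 : act 3 n5232 = n3993 := d20_1 D5232 (iv D3993) D3991
def n5234 : Q := act 7 n3993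
theorem D5234 : act 7 n3993 = n5234 := rfl
theorem F17840 : act 4 n5234 = n3994 := d24_1 D5234 (iv D3994) (iv F13787)
def n5235 : Q := act 4 n3995
theorem D5235 : act 4 n3995 = n5235 := rfl
theorem F17843 : act 3 n5235 = n4153 := d18_1 D5235 (iv D4153) F11050 (iv F10649) (iv F13794)
theorem F17845 : act 7 n5235 = n4400 := d24_2 (iv F13795) D5235 (iv D4400)
def n5245 : Q := act 3 n4004
theorem D5245 : act 3 n4004 = n5245 := rfl
theorem F17875 : act 0 n5245 = n4005 := d2_1 D5245 (iv D4005) D4004
theorem F17876 : act 5 n5245 = n5245 := d19_2 F13826 D5245 (iv D5245)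
theorem F17877 : act 7 n5245 = n5245 := d21_2 F13827 D5245 (iv D5245)
def n5246 : Q := act 2 n4005
theorem D5246 : act 2 n4005 = n5246 := rfl
theorem F17878 : act 1 n5246 = n4164 := d7_1 D5246 (iv D4164) F11084 (iv F10675) (iv F13828)
def n5247 : Q := act 4 n4005
theorem D5247 : act 4 n4005 = n5247 := rfl
theorem F17882 : act 1 n5247 = n4006 := d9_1 D5247 (iv D4006) (iv F13828)
def n5248 : Q := act 5 n4006
theorem D5248 : act 5 n4006 = n5248 := rfl
def n5249 : Q := act 2 n4007
theorem D5249 : act 2 n4007 = n5249 := rfl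
theorem F17889 : act 0 n5249 = n4008 := d1_1 D5249 (iv D4008) (iv F13834)
theorem F17891 : act 5 n5249 = n4011 := d15_2 (iv F13835) D5249 (iv D4011)
def n5250 : Q := act 4 n4007
theorem D5250 : act 4 n4007 = n5250 := rfl
theorem F17893 : act 0 n5250 = n4009 := d3_1 D5250 (iv D4009) (iv F13834)
def n5251 : Q := act 4 n4008
theorem D5251 : act 4 n4008 = n5251 := rfl
theorem F17895 : act 1 n5251 = n4018 := d9_1 D5251 (iv D4018) (iv F13837)
theorem F17896 : act 2 n5251 = n4009 := d14_1 D5251 (iv D4009) D4008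
def n5252 : Q := act 6 n4008
theorem D5252 : act 6 n4008 = n5252 := rfl
theorem F17898 : act 1 n5252 = n4019 := d11_1 D5252 (iv D4019) (iv F13837)
theorem F17900 : act 5 n5252 = n4014 := d25_1 D5252 (iv D4014) (iv F13839)
def n5253 : Q := act 5 n4009
theorem D5253 : act 5 n4009 = n5253 := rfl
theorem F17901 : act 1 n5253 = n4010 := d10_1 D5253 (iv D4010) (iv F13841)
theorem F17902 : act 4 n5253 = n4015 := d22_1 D5253 (iv D4015) (iv D3057) (iv F10682) D4009
def n5254 : Q := act 1 n4011
theorem D5254 : act 1 n4011 = n5254 := rfl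
theorem F17904 : act 0 n5254 = n4021 := d0_1 D5254 (iv D4021) F10712 (iv F10688) (iv F13846)
theorem F17905 : act 3 n5254 = n5254 := d8_2 F13847 D5254 (iv D5254)
theorem F17906 : act 7 n5254 = n5254 := d12_2 F13848 D5254 (iv D5254)
def n5255 : Q := act 4 n4011
theorem D5255 : act 4 n4011 = n5255 := rfl
theorem F17907 : act 0 n5255 = n4013 := d3_1 D5255 (iv D4013) (iv F13846)
theorem F17908 : act 2 n5255 = n4012 := d14_1 D5255 (iv D4012) D4011
theorem F17909 : act 7 n5255 = n5255 := d24_2 F13848 D5255 (iv D5255)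
def n5256 : Q := act 6 n4011
theorem D5256 : act 6 n4011 = n5256 := rfl
theorem F17910 : act 0 n5256 = n4014 := d5_1 D5256 (iv D4014) (iv F13846)
theorem F17911 : act 3 n5256 = n5256 := d20_1 D5256 (iv D5256) F13847
def n5257 : Q := act 5 n4012
theorem D5257 : act 5 n4012 = n5257 := rfl
theorem F17912 : act 0 n5257 = n4015 := d4_1 D5257 (iv D4015) (iv F13849)
def n5258 : Q := act 3 n4013
theorem D5258 : act 3 n4013 = n5258 := rfl
theorem F17915 : act 1 n5258 = n4025 := d8_1 D5258 (iv D4025) (iv F13852)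
theorem F17916 : act 2 n5258 = n5258 := d13_1 D5258 (iv D5258) F13853 F10692 (iv F13853)
theorem F17917 : act 4 n5258 = n5258 := d18_2 D4013 D5258 (iv D5258) (iv D4013) F10689
theorem F17918 : act 7 n5258 = n5258 := d21_2 F13854 D5258 (iv D5258)
def n5259 : Q := act 5 n4013
theorem D5259 : act 5 n4013 = n5259 := rfl
theorem F17919 : act 1 n5259 = n4026 := d10_1 D5259 (iv D4026) (iv F13852)
def n5260 : Q := act 6 n4013
theorem D5260 : act 6 n4013 = n5260 := rfl
theorem F17922 : act 1 n5260 = n4027 := d11_1 D5260 (iv D4027) (iv F13852)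
theorem F17923 : act 4 n5260 = n4014 := d23_1 D5260 (iv D4014) D4013
def n5261 : Q := act 7 n4014
theorem D5261 : act 7 n4014 = n5261 := rfl
theorem F17924 : act 1 n5261 = n4028 := d12_1 D5261 (iv D4028) (iv F13855)
theorem F17925 : act 3 n5261 = n5261 := d21_1 D5261 (iv D5261) F13856
theorem F17926 : act 6 n5261 = n5261 := d27_1 D5261 (iv D5261) (iv D4014) F10690 D4014
def n5262 : Q := act 1 n4016
theorem D5262 : act 1 n4016 = n5262 := rfl
def n5263 : Q := act 4 n4016
theorem D5263 : act 4 n4016 = n5263 := rfl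
theorem F17931 : act 2 n5263 = n4017 := d14_1 D5263 (iv D4017) D4016
def n5265 : Q := act 5 n4017
theorem D5265 : act 5 n4017 = n5265 := rfl
theorem F17938 : act 3 n5265 = n4183 := d19_1 D5265 (iv D4183) (iv F13865)
def n5267 : Q := act 5 n4018
theorem D5267 : act 5 n4018 = n5267 := rfl
theorem F17945 : act 2 n5267 = n4020 := d15_1 D5267 (iv D4020) (iv F13868)
def n5269 : Q := act 7 n4019
theorem D5269 : act 7 n4019 = n5269 := rfl
theorem F17952 : act 5 n5269 = n4028 := d26_1 D5269 (iv D4028) (iv F13872)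
def n5270 : Q := act 4 n4021
theorem D5270 : act 4 n4021 = n5270 := rfl
theorem F17954 : act 1 n5270 = n4022 := d9_1 D5270 (iv D4022) D4021
def n5271 : Q := act 6 n4021
theorem D5271 : act 6 n4021 = n5271 := rfl
theorem F17956 : act 1 n5271 = n4023 := d11_1 D5271 (iv D4023) D4021
def n5272 : Q := act 3 n4022
theorem D5272 : act 3 n4022 = n5272 := rfl
theorem F17959 : act 2 n5272 = n4030 := d13_1 D5272 (iv D4030) F10733 (iv F10716) (iv F13881)
def n5273 : Q := act 5 n4022
theorem D5273 : act 5 n4022 = n5273 := rfl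
def n5274 : Q := act 6 n4022
theorem D5274 : act 6 n4022 = n5274 := rfl
theorem F17966 : act 2 n5274 = n4044 := d16_1 D5274 (iv D4044) F10767 (iv F10717) (iv F13881)
def n5275 : Q := act 7 n4023
theorem D5275 : act 7 n4023 = n5275 := rfl
theorem F17968 : act 0 n5275 = n4028 := d6_1 D5275 (iv D4028) (iv F13883)
def n5277 : Q := act 6 n4025
theorem D5277 : act 6 n4025 = n5277 := rfl
theorem F17976 : act 3 n5277 = n4027 := d20_1 D5277 (iv D4027) D4025
def n5279 : Q := act 7 n4027
theorem D5279 : act 7 n4027 = n5279 := rfl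
theorem F17980 : act 2 n5279 = n4047 := d17_1 D5279 (iv D4047) (iv F13895)
def n5280 : Q := act 3 n4029
theorem D5280 : act 3 n4029 = n5280 := rfl
theorem F17984 : act 1 n5280 = n4030 := d8_1 D5280 (iv D4030) (iv F13901)
def n5281 : Q := act 5 n4029
theorem D5281 : act 5 n4029 = n5281 := rfl
theorem F17989 : act 1 n5281 = n4031 := d10_1 D5281 (iv D4031) (iv F13901)
theorem F17990 : act 4 n5281 = n4199 := d22_1 D5281 (iv D4199) (iv D3197) (iv F10729) D4029
def n5282 : Q := act 5 n4030
theorem D5282 : act 5 n4030 = n5282 := rfl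
theorem F17993 : act 0 n5282 = n4032 := d4_1 D5282 (iv D4032) (iv F13904)
def n5284 : Q := act 4 n4033
theorem D5284 : act 4 n4033 = n5284 := rfl
theorem F18002 : act 1 n5284 = n4034 := d9_1 D5284 (iv D4034) D4033
theorem F18003 : act 7 n5284 = n4410 := d24_2 (iv F13919) D5284 (iv D4410)
def n5286 : Q := act 3 n4034
theorem D5286 : act 3 n4034 = n5286 := rfl
theorem F18008 : act 2 n5286 = n4204 := d13_1 D5286 (iv D4204) F11182 (iv F10754) (iv F13921)
theorem F18009 : act 4 n5286 = n4050 := d18_2 D4034 D5286 (iv D4050) (iv D3086) (iv F10750)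
def n5287 : Q := act 5 n4034
theorem D5287 : act 5 n4034 = n5287 := rfl
theorem F18012 : act 2 n5287 = n4036 := d15_1 D5287 (iv D4036) (iv F13921)
theorem F18013 : act 4 n5287 = n4043 := d22_1 D5287 (iv D4043) (iv D3079) (iv F10751) D4034
theorem F18014 : act 7 n5287 = n4413 := d26_2 (iv F13922) D5287 (iv D4413)
def n5290 : Q := act 5 n4037
theorem D5290 : act 5 n4037 = n5290 := rfl
theorem F18021 : act 2 n5290 = n4208 := d15_1 D5290 (iv D4208) (iv F13930)
theorem F18022 : act 3 n5290 = n4038 := d19_1 D5290 (iv D4038) D4037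
theorem F18024 : act 7 n5290 = n4416 := d26_2 (iv F13932) D5290 (iv D4416)
def n5292 : Q := act 6 n4038
theorem D5292 : act 6 n4038 = n5292 := rfl
theorem F18028 : act 5 n5292 = n4039 := d25_1 D5292 (iv D4039) D4038
def n5294 : Q := act 5 n4041
theorem D5294 : act 5 n4041 = n5294 := rfl
theorem F18031 : act 1 n5294 = n4043 := d10_1 D5294 (iv D4043) (iv F13940)
theorem F18033 : act 7 n5294 = n4420 := d26_2 (iv F13942) D5294 (iv D4420)
def n5295 : Q := act 6 n4041
theorem D5295 : act 6 n4041 = n5295 := rfl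
theorem F18034 : act 1 n5295 = n4044 := d11_1 D5295 (iv D4044) (iv F13940)
def n5296 : Q := act 2 n4042
theorem D5296 : act 2 n4042 = n5296 := rfl
def n5300 : Q := act 7 n4046
theorem D5300 : act 7 n4046 = n5300 := rfl
theorem F18048 : act 5 n5300 = n4047 := d26_1 D5300 (iv D4047) (iv F13956)
theorem F18049 : act 6 n5300 = n4426 := d27_1 D5300 (iv D4426) (iv D3378) (iv F10777) D4046
def n5307 : Q := act 2 n4053
theorem D5307 : act 2 n4053 = n5307 := rfl
theorem F18072 : act 6 n5307 = n4225 := d16_2 D4053 D5307 (iv D4225) (iv D3221) (iv F10792)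
def n5308 : Q := act 7 n4053
theorem D5308 : act 7 n4053 = n5308 := rfl
theorem F18073 : act 3 n5308 = n4054 := d21_1 D5308 (iv D4054) (iv F13978)
theorem F18075 : act 6 n5308 = n4434 := d27_1 D5308 (iv D4434) (iv D3385) (iv F10794) D4053
def n5337 : Q := act 2 n4075
theorem D5337 : act 2 n4075 = n5337 := rfl
theorem F18180 : act 0 n5337 = n4076 := d1_1 D5337 (iv D4076) (iv F14059)
theorem F18181 : act 3 n5337 = n4103 := d13_2 D4075 D5337 (iv D4103) (iv D3125) (iv F10856)
def n5339 : Q := act 4 n4076
theorem D5339 : act 4 n4076 = n5339 := rfl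
theorem F18187 : act 1 n5339 = n4085 := d9_1 D5339 (iv D4085) (iv F14062)
def n5342 : Q := act 2 n4079
theorem D5342 : act 2 n4079 = n5342 := rfl
theorem F18195 : act 0 n5342 = n4080 := d1_1 D5342 (iv D4080) (iv F14072)
theorem F18196 : act 3 n5342 = n4108 := d13_2 D4079 D5342 (iv D4108) (iv D3129) (iv F10866)
theorem F18197 : act 5 n5342 = n4083 := d15_2 (iv F14074) D5342 (iv D4083)
def n5344 : Q := act 4 n4080
theorem D5344 : act 4 n4080 = n5344 := rfl
theorem F18203 : act 2 n5344 = n4081 := d14_1 D5344 (iv D4081) D4080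
def n5345 : Q := act 6 n4080
theorem D5345 : act 6 n4080 = n5345 := rfl
theorem F18207 : act 5 n5345 = n4086 := d25_1 D5345 (iv D4086) (iv F14078)
def n5347 : Q := act 1 n4083
theorem D5347 : act 1 n4083 = n5347 := rfl
theorem F18213 : act 3 n5347 = n4113 := d8_2 (iv F14088) D5347 (iv D4113)
def n5348 : Q := act 4 n4083
theorem D5348 : act 4 n4083 = n5348 := rfl
theorem F18216 : act 2 n5348 = n4084 := d14_1 D5348 (iv D4084) D4083
def n5349 : Q := act 6 n4083
theorem D5349 : act 6 n4083 = n5349 := rfl
def n5350 : Q := act 5 n4084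
theorem D5350 : act 5 n4084 = n5350 := rfl
theorem F18223 : act 3 n5350 = n4091 := d19_1 D5350 (iv D4091) (iv F14092)
def n5351 : Q := act 3 n4085
theorem D5351 : act 3 n4085 = n5351 := rfl
theorem F18226 : act 2 n5351 = n4092 := d13_1 D5351 (iv D4092) F10899 (iv F10884) (iv F14095)
def n5352 : Q := act 5 n4085
theorem D5352 : act 5 n4085 = n5352 := rfl
def n5353 : Q := act 6 n4085
theorem D5353 : act 6 n4085 = n5353 := rfl
theorem F18232 : act 4 n5353 = n4086 := d23_1 D5353 (iv D4086) D4085
def n5354 : Q := act 7 n4086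
theorem D5354 : act 7 n4086 = n5354 := rfl
def n5355 : Q := act 4 n4088
theorem D5355 : act 4 n4088 = n5355 := rfl
theorem F18237 : act 1 n5355 = n4089 := d9_1 D5355 (iv D4089) D4088
def n5356 : Q := act 6 n4088
theorem D5356 : act 6 n4088 = n5356 := rfl
def n5357 : Q := act 3 n4089
theorem D5357 : act 3 n4089 = n5357 := rfl
theorem F18243 : act 0 n5357 = n4092 := d2_1 D5357 (iv D4092) (iv F14107)
def n5358 : Q := act 5 n4089
theorem D5358 : act 5 n4089 = n5358 := rfl
theorem F18247 : act 2 n5358 = n4091 := d15_1 D5358 (iv D4091) (iv F14108)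
def n5359 : Q := act 6 n4089
theorem D5359 : act 6 n4089 = n5359 := rfl
theorem F18251 : act 4 n5359 = n4090 := d23_1 D5359 (iv D4090) D4089
def n5360 : Q := act 7 n4090
theorem D5360 : act 7 n4090 = n5360 := rfl
theorem F18252 : act 0 n5360 = n4095 := d6_1 D5360 (iv D4095) (iv F14110)
def n5361 : Q := act 5 n4092
theorem D5361 : act 5 n4092 = n5361 := rfl
theorem F18257 : act 3 n5361 = n4093 := d19_1 D5361 (iv D4093) D4092
def n5362 : Q := act 6 n4092
theorem D5362 : act 6 n4092 = n5362 := rfl
theorem F18260 : act 3 n5362 = n4094 := d20_1 D5362 (iv D4094) D4092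
def n5363 : Q := act 6 n4093
theorem D5363 : act 6 n4093 = n5363 := rfl
def n5364 : Q := act 7 n4094
theorem D5364 : act 7 n4094 = n5364 := rfl
def n5367 : Q := act 4 n4097
theorem D5367 : act 4 n4097 = n5367 := rfl
theorem F18277 : act 3 n5367 = n4101 := d18_1 D5367 (iv D4101) (iv D3123) (iv F10907) D4097
def n5368 : Q := act 5 n4098
theorem D5368 : act 5 n4098 = n5368 := rfl
theorem F18281 : act 3 n5368 = n4102 := d19_1 D5368 (iv D4102) (iv F14140)
def n5370 : Q := act 4 n4099
theorem D5370 : act 4 n4099 = n5370 := rfl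
theorem F18288 : act 0 n5370 = n4101 := d3_1 D5370 (iv D4101) (iv F14143)
theorem F18289 : act 1 n5370 = n4168 := d9_1 D5370 (iv D4168) (iv F14144)
def n5374 : Q := act 1 n4103
theorem D5374 : act 1 n4103 = n5374 := rfl
theorem F18302 : act 0 n5374 = n4113 := d0_1 D5374 (iv D4113) F10956 (iv F10931) (iv F14159)
theorem F18303 : act 2 n5374 = n4172 := d7_2 D4103 D5374 (iv D4172) (iv D3179) (iv F10928)
def n5375 : Q := act 4 n4103
theorem D5375 : act 4 n4103 = n5375 := rfl
theorem F18305 : act 0 n5375 = n4105 := d3_1 D5375 (iv D4105) (iv F14159)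
def n5378 : Q := act 3 n4105
theorem D5378 : act 3 n4105 = n5378 := rfl
theorem F18315 : act 1 n5378 = n4117 := d8_1 D5378 (iv D4117) (iv F14166)
def n5380 : Q := act 6 n4105
theorem D5380 : act 6 n4105 = n5380 := rfl
def n5382 : Q := act 1 n4108
theorem D5382 : act 1 n4108 = n5382 := rfl
theorem F18327 : act 2 n5382 = n4180 := d7_2 D4108 D5382 (iv D4180) (iv D3184) (iv F10943)
def n5383 : Q := act 4 n4108
theorem D5383 : act 4 n4108 = n5383 := rfl
theorem F18330 : act 0 n5383 = n4110 := d3_1 D5383 (iv D4110) (iv F14175)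
def n5386 : Q := act 3 n4110
theorem D5386 : act 3 n4110 = n5386 := rfl
def n5387 : Q := act 5 n4110
theorem D5387 : act 5 n4110 = n5387 := rfl
theorem F18342 : act 2 n5387 = n4112 := d15_1 D5387 (iv D4112) (iv F14182)
theorem F18343 : act 4 n5387 = n4118 := d22_1 D5387 (iv D4118) (iv D3135) (iv F10947) D4110
def n5388 : Q := act 6 n4110
theorem D5388 : act 6 n4110 = n5388 := rfl
def n5390 : Q := act 4 n4113
theorem D5390 : act 4 n4113 = n5390 := rfl
theorem F18350 : act 1 n5390 = n4114 := d9_1 D5390 (iv D4114) D4113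
theorem F18351 : act 2 n5390 = n4188 := d14_1 D5390 (iv D4188) (iv F14190)
def n5391 : Q := act 6 n4113
theorem D5391 : act 6 n4113 = n5391 := rfl
theorem F18353 : act 1 n5391 = n4115 := d11_1 D5391 (iv D4115) D4113
def n5392 : Q := act 3 n4114
theorem D5392 : act 3 n4114 = n5392 := rfl
theorem F18355 : act 2 n5392 = n4123 := d13_1 D5392 (iv D4123) F10974 (iv F10960) (iv F14193)
def n5396 : Q := act 5 n4117
theorem D5396 : act 5 n4117 = n5396 := rfl
theorem F18366 : act 2 n5396 = n4127 := d15_1 D5396 (iv D4127) (iv F14202)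
theorem F18367 : act 3 n5396 = n4118 := d19_1 D5396 (iv D4118) D4117
def n5397 : Q := act 6 n4117
theorem D5397 : act 6 n4117 = n5397 := rfl
def n5398 : Q := act 6 n4118
theorem D5398 : act 6 n4118 = n5398 := rfl
theorem F18370 : act 2 n5398 = n4147 := d16_1 D5398 (iv D4147) F11027 (iv F10968) (iv F14204)
def n5400 : Q := act 3 n4121
theorem D5400 : act 3 n4121 = n5400 := rfl
theorem F18376 : act 1 n5400 = n4123 := d8_1 D5400 (iv D4123) (iv F14211)
def n5404 : Q := act 5 n4123
theorem D5404 : act 5 n4123 = n5404 := rfl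
theorem F18390 : act 0 n5404 = n4127 := d4_1 D5404 (iv D4127) (iv F14217)
def n5405 : Q := act 6 n4123
theorem D5405 : act 6 n4123 = n5405 := rfl
theorem F18393 : act 0 n5405 = n4128 := d5_1 D5405 (iv D4128) (iv F14217)
theorem F18394 : act 3 n5405 = n4125 := d20_1 D5405 (iv D4125) D4123
def n5408 : Q := act 4 n4127
theorem D5408 : act 4 n4127 = n5408 := rfl
def n5409 : Q := act 6 n4127
theorem D5409 : act 6 n4127 = n5409 := rfl
theorem F18406 : act 5 n5409 = n4128 := d25_1 D5409 (iv D4128) D4127
def n5410 : Q := act 2 n4128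
theorem D5410 : act 2 n4128 = n5410 := rfl
theorem F18407 : act 3 n5410 = n4155 := d13_2 (iv F14232) D5410 (iv D4155) F11053 (iv F10988)
def n5411 : Q := act 7 n4128
theorem D5411 : act 7 n4128 = n5411 := rfl
theorem F18409 : act 3 n5411 = n4130 := d21_1 D5411 (iv D4130) (iv F14232)
def n5412 : Q := act 7 n4129
theorem D5412 : act 7 n4129 = n5412 := rfl
theorem F18412 : act 2 n5412 = n4157 := d17_1 D5412 (iv D4157) (iv F14234)
theorem F18413 : act 5 n5412 = n4130 := d26_1 D5412 (iv D4130) (iv F14235)
def n5413 : Q := act 4 n4131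
theorem D5413 : act 4 n4131 = n5413 := rfl
theorem F18417 : act 2 n5413 = n4202 := d14_1 D5413 (iv D4202) (iv F14241)
def n5414 : Q := act 6 n4131
theorem D5414 : act 6 n4131 = n5414 := rfl
def n5415 : Q := act 3 n4132
theorem D5415 : act 3 n4132 = n5415 := rfl
def n5416 : Q := act 5 n4132
theorem D5416 : act 5 n4132 = n5416 := rfl
theorem F18428 : act 4 n5416 = n4142 := d22_1 D5416 (iv D4142) (iv D3152) (iv F10995) D4132
def n5419 : Q := act 5 n4135
theorem D5419 : act 5 n4135 = n5419 := rfl
theorem F18437 : act 3 n5419 = n4136 := d19_1 D5419 (iv D4136) D4135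
def n5421 : Q := act 6 n4136
theorem D5421 : act 6 n4136 = n5421 := rfl
def n5423 : Q := act 3 n4139
theorem D5423 : act 3 n4139 = n5423 := rfl
theorem F18449 : act 1 n5423 = n4141 := d8_1 D5423 (iv D4141) (iv F14269)
def n5424 : Q := act 5 n4139
theorem D5424 : act 5 n4139 = n5424 := rfl
theorem F18454 : act 1 n5424 = n4142 := d10_1 D5424 (iv D4142) (iv F14269)
theorem F18455 : act 2 n5424 = n4212 := d15_1 D5424 (iv D4212) (iv F14270)
def n5425 : Q := act 6 n4139
theorem D5425 : act 6 n4139 = n5425 := rfl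
def n5426 : Q := act 2 n4140
theorem D5426 : act 2 n4140 = n5426 := rfl
theorem F18461 : act 6 n5426 = n4214 := d16_2 D4140 D5426 (iv D4214) (iv D3210) (iv F11010)
def n5427 : Q := act 7 n4140
theorem D5427 : act 7 n4140 = n5427 := rfl
theorem F18465 : act 6 n5427 = n4451 := d27_1 D5427 (iv D4451) (iv D3398) (iv F11012) D4140
def n5428 : Q := act 5 n4141
theorem D5428 : act 5 n4141 = n5428 := rfl
theorem F18466 : act 0 n5428 = n4145 := d4_1 D5428 (iv D4145) (iv F14275)
theorem F18467 : act 2 n5428 = n4149 := d15_1 D5428 (iv D4149) (iv F14276)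
theorem F18468 : act 3 n5428 = n4142 := d19_1 D5428 (iv D4142) D4141
def n5429 : Q := act 6 n4141
theorem D5429 : act 6 n4141 = n5429 := rfl
def n5432 : Q := act 4 n4145
theorem D5432 : act 4 n4145 = n5432 := rfl
theorem F18479 : act 2 n5432 = n4153 := d14_1 D5432 (iv D4153) (iv F14288)
def n5433 : Q := act 6 n4145
theorem D5433 : act 6 n4145 = n5433 := rfl
theorem F18483 : act 3 n5433 = n4147 := d20_1 D5433 (iv D4147) (iv F14289)
def n5437 : Q := act 4 n4149
theorem D5437 : act 4 n4149 = n5437 := rfl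
theorem F18497 : act 7 n5437 = n4461 := d24_2 (iv F14302) D5437 (iv D4461)
def n5438 : Q := act 6 n4149
theorem D5438 : act 6 n4149 = n5438 := rfl
theorem F18501 : act 5 n5438 = n4150 := d25_1 D5438 (iv D4150) D4149
def n5439 : Q := act 2 n4150
theorem D5439 : act 2 n4150 = n5439 := rfl
def n5440 : Q := act 7 n4150
theorem D5440 : act 7 n4150 = n5440 := rfl
def n5442 : Q := act 6 n4153
theorem D5442 : act 6 n4153 = n5442 := rfl
theorem F18513 : act 1 n5442 = n4158 := d11_1 D5442 (iv D4158) (iv F14314)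
theorem F18514 : act 4 n5442 = n4154 := d23_1 D5442 (iv D4154) D4153
def n5443 : Q := act 2 n4154
theorem D5443 : act 2 n4154 = n5443 := rfl
theorem F18516 : act 5 n5443 = n4155 := d15_2 (iv F14319) D5443 (iv D4155)
def n5444 : Q := act 7 n4154
theorem D5444 : act 7 n4154 = n5444 := rfl
theorem F18519 : act 5 n5444 = n4156 := d26_1 D5444 (iv D4156) (iv F14319)
theorem F18520 : act 6 n5444 = n4468 := d27_1 D5444 (iv D4468) (iv D3412) (iv F11051) D4154
def n5445 : Q := act 1 n4155
theorem D5445 : act 1 n4155 = n5445 := rfl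
theorem F18521 : act 2 n5445 = n4161 := d7_2 D4155 D5445 (iv D4161) (iv D3169) (iv F11052)
def n5446 : Q := act 7 n4155
theorem D5446 : act 7 n4155 = n5446 := rfl
theorem F18523 : act 2 n5446 = n4156 := d17_1 D5446 (iv D4156) D4155
def n5447 : Q := act 2 n4158
theorem D5447 : act 2 n4158 = n5447 := rfl
theorem F18526 : act 4 n5447 = n4159 := d14_2 (iv F14329) D5447 (iv D4159)
def n5448 : Q := act 7 n4158
theorem D5448 : act 7 n4158 = n5448 := rfl
theorem F18532 : act 6 n5448 = n4472 := d27_1 D5448 (iv D4472) (iv D3416) (iv F11063) D4158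
def n5449 : Q := act 1 n4159
theorem D5449 : act 1 n4159 = n5449 := rfl
theorem F18534 : act 5 n5449 = n4161 := d10_2 (iv F14333) D5449 (iv D4161)
def n5450 : Q := act 7 n4159
theorem D5450 : act 7 n4159 = n5450 := rfl
theorem F18539 : act 5 n5450 = n4162 := d26_1 D5450 (iv D4162) (iv F14333)
def n5451 : Q := act 0 n4161
theorem D5451 : act 0 n4161 = n5451 := rfl
def n5452 : Q := act 7 n4161
theorem D5452 : act 7 n4161 = n5452 := rfl
theorem F18544 : act 1 n5452 = n4162 := d12_1 D5452 (iv D4162) D4161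
def n5453 : Q := act 6 n4162
theorem D5453 : act 6 n4162 = n5453 := rfl
theorem F18548 : act 2 n5453 = n4477 := d16_1 D5453 (iv D4477) F11853 (iv F11074) (iv F14343)
def n5456 : Q := act 4 n4164
theorem D5456 : act 4 n4164 = n5456 := rfl
theorem F18560 : act 2 n5456 = n4165 := d14_1 D5456 (iv D4165) D4164
def n5460 : Q := act 4 n4167
theorem D5460 : act 4 n4167 = n5460 := rfl
theorem F18575 : act 2 n5460 = n4168 := d14_1 D5460 (iv D4168) D4167
def n5461 : Q := act 6 n4167
theorem D5461 : act 6 n4167 = n5461 := rfl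
theorem F18580 : act 5 n5461 = n4174 := d25_1 D5461 (iv D4174) (iv F14363)
def n5465 : Q := act 6 n4169
theorem D5465 : act 6 n4169 = n5465 := rfl
theorem F18594 : act 4 n5465 = n4170 := d23_1 D5465 (iv D4170) D4169
def n5466 : Q := act 7 n4170
theorem D5466 : act 7 n4170 = n5466 := rfl
theorem F18595 : act 1 n5466 = n4187 := d12_1 D5466 (iv D4187) (iv F14371)
theorem F18596 : act 2 n5466 = n5466 := d17_1 D5466 (iv D5466) F14372
theorem F18598 : act 5 n5466 = n4179 := d26_1 D5466 (iv D4179) (iv F14374)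
theorem F18599 : act 6 n5466 = n5466 := d27_1 D5466 (iv D5466) (iv D4170) F11098 D4170
def n5467 : Q := act 4 n4172
theorem D5467 : act 4 n4172 = n5467 := rfl
theorem F18600 : act 0 n5467 = n4188 := d3_1 D5467 (iv D4188) (iv F14379)
theorem F18601 : act 1 n5467 = n4173 := d9_1 D5467 (iv D4173) D4172
def n5468 : Q := act 6 n4172
theorem D5468 : act 6 n4172 = n5468 := rfl
def n5469 : Q := act 3 n4173
theorem D5469 : act 3 n4173 = n5469 := rfl
theorem F18606 : act 0 n5469 = n4176 := d2_1 D5469 (iv D4176) (iv F14382)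
def n5471 : Q := act 6 n4173
theorem D5471 : act 6 n4173 = n5471 := rfl
theorem F18615 : act 4 n5471 = n4174 := d23_1 D5471 (iv D4174) D4173
def n5472 : Q := act 7 n4174
theorem D5472 : act 7 n4174 = n5472 := rfl
def n5473 : Q := act 5 n4176
theorem D5473 : act 5 n4176 = n5473 := rfl
theorem F18620 : act 1 n5473 = n4194 := d10_1 D5473 (iv D4194) (iv F14392)
theorem F18622 : act 3 n5473 = n4177 := d19_1 D5473 (iv D4177) D4176
def n5474 : Q := act 6 n4176
theorem D5474 : act 6 n4176 = n5474 := rfl
theorem F18624 : act 1 n5474 = n4195 := d11_1 D5474 (iv D4195) (iv F14392)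
theorem F18625 : act 3 n5474 = n4178 := d20_1 D5474 (iv D4178) D4176
theorem F18626 : act 4 n5474 = n5474 := d23_1 D5474 (iv D5474) F14394
def n5475 : Q := act 6 n4177
theorem D5475 : act 6 n4177 = n5475 := rfl
theorem F18629 : act 5 n5475 = n4178 := d25_1 D5475 (iv D4178) D4177
def n5476 : Q := act 7 n4178
theorem D5476 : act 7 n4178 = n5476 := rfl
theorem F18630 : act 1 n5476 = n4197 := d12_1 D5476 (iv D4197) (iv F14399)
theorem F18631 : act 2 n5476 = n5476 := d17_1 D5476 (iv D5476) F14400
theorem F18632 : act 4 n5476 = n4179 := d24_1 D5476 (iv D4179) (iv F14401)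
theorem F18633 : act 6 n5476 = n5476 := d27_1 D5476 (iv D5476) (iv D4178) F11115 D4178
def n5477 : Q := act 4 n4180
theorem D5477 : act 4 n4180 = n5477 := rfl
theorem F18634 : act 1 n5477 = n4181 := d9_1 D5477 (iv D4181) D4180
def n5478 : Q := act 6 n4180
theorem D5478 : act 6 n4180 = n5478 := rfl
theorem F18638 : act 5 n5478 = n4189 := d25_1 D5478 (iv D4189) (iv F14407)
def n5479 : Q := act 3 n4181
theorem D5479 : act 3 n4181 = n5479 := rfl
def n5480 : Q := act 5 n4181
theorem D5480 : act 5 n4181 = n5480 := rfl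
theorem F18644 : act 4 n5480 = n4191 := d22_1 D5480 (iv D4191) (iv D3190) (iv F11125) D4181
def n5481 : Q := act 6 n4181
theorem D5481 : act 6 n4181 = n5481 := rfl
theorem F18648 : act 4 n5481 = n4182 := d23_1 D5481 (iv D4182) D4181
def n5482 : Q := act 7 n4182
theorem D5482 : act 7 n4182 = n5482 := rfl
theorem F18649 : act 0 n5482 = n4187 := d6_1 D5482 (iv D4187) (iv F14412)
theorem F18650 : act 2 n5482 = n4207 := d17_1 D5482 (iv D4207) (iv F14413)
theorem F18652 : act 5 n5482 = n4193 := d26_1 D5482 (iv D4193) (iv F14415)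
def n5487 : Q := act 3 n4188
theorem D5487 : act 3 n4188 = n5487 := rfl
theorem F18664 : act 1 n5487 = n4190 := d8_1 D5487 (iv D4190) (iv F14431)
def n5488 : Q := act 5 n4188
theorem D5488 : act 5 n4188 = n5488 := rfl
def n5489 : Q := act 6 n4188
theorem D5489 : act 6 n4188 = n5489 := rfl
theorem F18669 : act 1 n5489 = n4192 := d11_1 D5489 (iv D4192) (iv F14431)
theorem F18670 : act 4 n5489 = n4189 := d23_1 D5489 (iv D4189) D4188
def n5490 : Q := act 2 n4189
theorem D5490 : act 2 n4189 = n5490 := rfl
def n5491 : Q := act 7 n4189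
theorem D5491 : act 7 n4189 = n5491 := rfl
def n5492 : Q := act 5 n4190
theorem D5492 : act 5 n4190 = n5492 := rfl
theorem F18675 : act 0 n5492 = n4194 := d4_1 D5492 (iv D4194) (iv F14435)
theorem F18676 : act 2 n5492 = n4200 := d15_1 D5492 (iv D4200) (iv F14436)
theorem F18677 : act 3 n5492 = n4191 := d19_1 D5492 (iv D4191) D4190
def n5493 : Q := act 6 n4190
theorem D5493 : act 6 n4190 = n5493 := rfl
theorem F18679 : act 0 n5493 = n4195 := d5_1 D5493 (iv D4195) (iv F14435)
theorem F18680 : act 2 n5493 = n5493 := d16_1 D5493 (iv D5493) F14436 F11167 (iv F14436)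
theorem F18681 : act 3 n5493 = n4192 := d20_1 D5493 (iv D4192) D4190
def n5494 : Q := act 6 n4191
theorem D5494 : act 6 n4191 = n5494 := rfl
theorem F18685 : act 5 n5494 = n4192 := d25_1 D5494 (iv D4192) D4191
def n5495 : Q := act 7 n4192
theorem D5495 : act 7 n4192 = n5495 := rfl
theorem F18686 : act 0 n5495 = n4197 := d6_1 D5495 (iv D4197) (iv F14442)
theorem F18687 : act 2 n5495 = n4217 := d17_1 D5495 (iv D4217) (iv F14443)
theorem F18688 : act 4 n5495 = n4193 := d24_1 D5495 (iv D4193) (iv F14444)
def n5497 : Q := act 6 n4194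
theorem D5497 : act 6 n4194 = n5497 := rfl
theorem F18694 : act 3 n5497 = n4196 := d20_1 D5497 (iv D4196) (iv F14450)
def n5498 : Q := act 7 n4195
theorem D5498 : act 7 n4195 = n5498 := rfl
theorem F18697 : act 3 n5498 = n4197 := d21_1 D5498 (iv D4197) (iv F14453)
theorem F18698 : act 4 n5498 = n5498 := d24_1 D5498 (iv D5498) F14454
def n5499 : Q := act 7 n4196
theorem D5499 : act 7 n4196 = n5499 := rfl
theorem F18700 : act 2 n5499 = n4218 := d17_1 D5499 (iv D4218) (iv F14455)
theorem F18701 : act 5 n5499 = n4197 := d26_1 D5499 (iv D4197) (iv F14456)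
def n5500 : Q := act 2 n4198
theorem D5500 : act 2 n4198 = n5500 := rfl
def n5501 : Q := act 5 n4198
theorem D5501 : act 5 n4198 = n5501 := rfl
theorem F18707 : act 1 n5501 = n4200 := d10_1 D5501 (iv D4200) (iv F14461)
theorem F18708 : act 3 n5501 = n4199 := d19_1 D5501 (iv D4199) D4198
def n5502 : Q := act 4 n4200
theorem D5502 : act 4 n4200 = n5502 := rfl
def n5505 : Q := act 6 n4202
theorem D5505 : act 6 n4202 = n5505 := rfl
theorem F18725 : act 4 n5505 = n4203 := d23_1 D5505 (iv D4203) D4202
def n5506 : Q := act 2 n4203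
theorem D5506 : act 2 n4203 = n5506 := rfl
theorem F18727 : act 5 n5506 = n4214 := d15_2 (iv F14483) D5506 (iv D4214)
def n5507 : Q := act 7 n4203
theorem D5507 : act 7 n4203 = n5507 := rfl
theorem F18729 : act 1 n5507 = n4207 := d12_1 D5507 (iv D4207) (iv F14481)
theorem F18731 : act 5 n5507 = n4215 := d26_1 D5507 (iv D4215) (iv F14483)
theorem F18732 : act 6 n5507 = n4482 := d27_1 D5507 (iv D4482) (iv D3422) (iv F11180) D4203
def n5509 : Q := act 6 n4204
theorem D5509 : act 6 n4204 = n5509 := rfl
theorem F18738 : act 3 n5509 = n4206 := d20_1 D5509 (iv D4206) D4204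
def n5510 : Q := act 6 n4205
theorem D5510 : act 6 n4205 = n5510 := rfl
theorem F18741 : act 4 n5510 = n4216 := d23_1 D5510 (iv D4216) (iv F14489)
def n5511 : Q := act 7 n4206
theorem D5511 : act 7 n4206 = n5511 := rfl
theorem F18744 : act 4 n5511 = n4207 := d24_1 D5511 (iv D4207) (iv F14492)
theorem F18745 : act 6 n5511 = n4486 := d27_1 D5511 (iv D4486) (iv D3425) (iv F11183) D4206
def n5512 : Q := act 6 n4208
theorem D5512 : act 6 n4208 = n5512 := rfl
theorem F18747 : act 3 n5512 = n4210 := d20_1 D5512 (iv D4210) (iv F14498)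
def n5515 : Q := act 7 n4210
theorem D5515 : act 7 n4210 = n5515 := rfl
theorem F18756 : act 4 n5515 = n4218 := d24_1 D5515 (iv D4218) (iv F14505)
def n5516 : Q := act 6 n4212
theorem D5516 : act 6 n4212 = n5516 := rfl
theorem F18762 : act 5 n5516 = n4213 := d25_1 D5516 (iv D4213) D4212
def n5517 : Q := act 2 n4213
theorem D5517 : act 2 n4213 = n5517 := rfl
theorem F18764 : act 4 n5517 = n4214 := d14_2 (iv F14517) D5517 (iv D4214)
def n5518 : Q := act 7 n4213
theorem D5518 : act 7 n4213 = n5518 := rfl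
theorem F18766 : act 1 n5518 = n4217 := d12_1 D5518 (iv D4217) (iv F14515)
theorem F18768 : act 4 n5518 = n4215 := d24_1 D5518 (iv D4215) (iv F14517)
theorem F18769 : act 6 n5518 = n4493 := d27_1 D5518 (iv D4493) (iv D3432) (iv F11206) D4213
def n5519 : Q := act 3 n4214
theorem D5519 : act 3 n4214 = n5519 := rfl
theorem F18771 : act 2 n5519 = n4227 := d13_1 D5519 (iv D4227) (iv D3223) (iv F11209) D4214
def n5520 : Q := act 7 n4214
theorem D5520 : act 7 n4214 = n5520 := rfl
theorem F18773 : act 2 n5520 = n4215 := d17_1 D5520 (iv D4215) D4214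
def n5521 : Q := act 7 n4216
theorem D5521 : act 7 n4216 = n5521 := rfl
theorem F18776 : act 5 n5521 = n4217 := d26_1 D5521 (iv D4217) (iv F14525)
theorem F18777 : act 6 n5521 = n4496 := d27_1 D5521 (iv D4496) (iv D3435) (iv F11213) D4216
def n5524 : Q := act 2 n4220
theorem D5524 : act 2 n4220 = n5524 := rfl
theorem F18788 : act 4 n5524 = n4221 := d14_2 (iv F14540) D5524 (iv D4221)
def n5525 : Q := act 7 n4220
theorem D5525 : act 7 n4220 = n5525 := rfl
theorem F18793 : act 4 n5525 = n4222 := d24_1 D5525 (iv D4222) (iv F14540)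
theorem F18795 : act 6 n5525 = n4500 := d27_1 D5525 (iv D4500) (iv D3439) (iv F11231) D4220
def n5526 : Q := act 3 n4221
theorem D5526 : act 3 n4221 = n5526 := rfl
theorem F18798 : act 5 n5526 = n4227 := d19_2 (iv F14544) D5526 (iv D4227)
def n5527 : Q := act 7 n4221
theorem D5527 : act 7 n4221 = n5527 := rfl
theorem F18802 : act 2 n5527 = n4222 := d17_1 D5527 (iv D4222) D4221
theorem F18803 : act 5 n5527 = n4228 := d26_1 D5527 (iv D4228) (iv F14544)
def n5529 : Q := act 7 n4223
theorem D5529 : act 7 n4223 = n5529 := rfl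
theorem F18808 : act 3 n5529 = n4224 := d21_1 D5529 (iv D4224) (iv F14551)
theorem F18810 : act 6 n5529 = n4504 := d27_1 D5529 (iv D4504) (iv D3442) (iv F11237) D4223
def n5531 : Q := act 7 n4225
theorem D5531 : act 7 n4225 = n5531 := rfl
theorem F18814 : act 2 n5531 = n4226 := d17_1 D5531 (iv D4226) D4225
def n5533 : Q := act 7 n4227
theorem D5533 : act 7 n4227 = n5533 := rfl
def n5534 : Q := act 6 n4228
theorem D5534 : act 6 n4228 = n5534 := rfl
theorem F18824 : act 0 n5534 = n5534 := d5_1 D5534 (iv D5534) F14567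
theorem F18826 : act 2 n5534 = n4509 := d16_1 D5534 (iv D4509) F11942 (iv F11261) (iv F14569)
def n5538 : Q := act 1 n4232
theorem D5538 : act 1 n4232 = n5538 := rfl
theorem F18843 : act 5 n5538 = n4241 := d10_2 (iv F14586) D5538 (iv D4241)
theorem F18844 : act 6 n5538 = n4233 := d11_2 (iv F14587) D5538 (iv D4233)
def n5540 : Q := act 0 n4233
theorem D5540 : act 0 n4233 = n5540 := rfl
theorem F18851 : act 2 n5540 = n4266 := d1_2 (iv F14589) D5540 (iv D4266)
theorem F18853 : act 5 n5540 = n4243 := d4_2 (iv F14591) D5540 (iv D4243)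
theorem F18854 : act 7 n5540 = n4235 := d6_2 (iv F14592) D5540 (iv D4235)
def n5541 : Q := act 3 n4233
theorem D5541 : act 3 n4233 = n5541 := rfl
theorem F18856 : act 5 n5541 = n4244 := d19_2 (iv F14591) D5541 (iv D4244)
theorem F18857 : act 7 n5541 = n4236 := d21_2 (iv F14592) D5541 (iv D4236)
def n5542 : Q := act 4 n4234
theorem D5542 : act 4 n4234 = n5542 := rfl
theorem F18861 : act 7 n5542 = n4237 := d24_2 (iv F14596) D5542 (iv D4237)
def n5543 : Q := act 3 n4235
theorem D5543 : act 3 n4235 = n5543 := rfl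
theorem F18862 : act 0 n5543 = n4236 := d2_1 D5543 (iv D4236) D4235
theorem F18863 : act 1 n5543 = n5543 := d8_1 D5543 (iv D5543) F14597
theorem F18864 : act 5 n5543 = n4246 := d19_2 (iv F14600) D5543 (iv D4246)
theorem F18865 : act 6 n5543 = n5543 := d20_2 F14601 D5543 (iv D5543)
def n5544 : Q := act 2 n4236
theorem D5544 : act 2 n4236 = n5544 := rfl
theorem F18866 : act 1 n5544 = n5544 := d7_1 D5544 (iv D5544) F14602 F11283 (iv F14602)
theorem F18867 : act 3 n5544 = n4270 := d13_2 D4236 D5544 (iv D4270) (iv D3255) (iv F11278)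
theorem F18868 : act 5 n5544 = n4247 := d15_2 (iv F14603) D5544 (iv D4247)
def n5545 : Q := act 4 n4236
theorem D5545 : act 4 n4236 = n5545 := rfl
theorem F18869 : act 1 n5545 = n4237 := d9_1 D5545 (iv D4237) (iv F14602)
theorem F18870 : act 3 n5545 = n5545 := d18_1 D5545 (iv D5545) (iv D4236) F11279 D4236
theorem F18871 : act 6 n5545 = n5545 := d23_2 F14604 D5545 (iv D5545)
def n5546 : Q := act 5 n4237
theorem D5546 : act 5 n4237 = n5546 := rfl
def n5549 : Q := act 1 n4240
theorem D5549 : act 1 n4240 = n5549 := rfl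
def n5550 : Q := act 3 n4240
theorem D5550 : act 3 n4240 = n5550 := rfl
theorem F18888 : act 2 n5550 = n4242 := d13_1 D5550 (iv D4242) (iv D3234) (iv F11295) D4240
def n5551 : Q := act 0 n4241
theorem D5551 : act 0 n4241 = n5551 := rfl
theorem F18893 : act 6 n5551 = n4243 := d5_2 (iv F14621) D5551 (iv D4243)
def n5552 : Q := act 3 n4241
theorem D5552 : act 3 n4241 = n5552 := rfl
theorem F18896 : act 6 n5552 = n4244 := d20_2 (iv F14621) D5552 (iv D4244)
def n5554 : Q := act 3 n4243
theorem D5554 : act 3 n4243 = n5554 := rfl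
theorem F18902 : act 0 n5554 = n4244 := d2_1 D5554 (iv D4244) D4243
theorem F18903 : act 1 n5554 = n5554 := d8_1 D5554 (iv D5554) F14626
theorem F18904 : act 7 n5554 = n4246 := d21_2 (iv F14629) D5554 (iv D4246)
def n5555 : Q := act 2 n4244
theorem D5555 : act 2 n4244 = n5555 := rfl
theorem F18905 : act 1 n5555 = n5555 := d7_1 D5555 (iv D5555) F14630 F11305 (iv F14630)
theorem F18906 : act 3 n5555 = n4274 := d13_2 D4244 D5555 (iv D4274) (iv D3258) (iv F11301)
theorem F18907 : act 7 n5555 = n4247 := d17_2 (iv F14631) D5555 (iv D4247)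
def n5556 : Q := act 4 n4244
theorem D5556 : act 4 n4244 = n5556 := rfl
def n5558 : Q := act 2 n4246
theorem D5558 : act 2 n4246 = n5558 := rfl
theorem F18915 : act 0 n5558 = n4247 := d1_1 D5558 (iv D4247) (iv F14636)
theorem F18916 : act 3 n5558 = n4277 := d13_2 D4246 D5558 (iv D4277) (iv D3260) (iv F11308)
def n5559 : Q := act 4 n4246
theorem D5559 : act 4 n4246 = n5559 := rfl
def n5560 : Q := act 4 n4247
theorem D5560 : act 4 n4247 = n5560 := rfl
def n5561 : Q := act 6 n4247
theorem D5561 : act 6 n4247 = n5561 := rfl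
theorem F18923 : act 1 n5561 = n5561 := d11_1 D5561 (iv D5561) F14639
theorem F18924 : act 2 n5561 = n5561 := d16_1 D5561 (iv D5561) (iv D4247) F11312 D4247
theorem F18925 : act 3 n5561 = n4280 := d20_1 D5561 (iv D4280) (iv F14640)
def n5569 : Q := act 3 n4254
theorem D5569 : act 3 n4254 = n5569 := rfl
def n5586 : Q := act 3 n4266
theorem D5586 : act 3 n4266 = n5586 := rfl
theorem F19008 : act 0 n5586 = n4267 := d2_1 D5586 (iv D4267) D4266
theorem F19009 : act 1 n5586 = n4321 := d8_1 D5586 (iv D4321) (iv F14704)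
theorem F19010 : act 5 n5586 = n4273 := d19_2 (iv F14706) D5586 (iv D4273)
theorem F19011 : act 7 n5586 = n4269 := d21_2 (iv F14707) D5586 (iv D4269)
def n5587 : Q := act 2 n4267
theorem D5587 : act 2 n4267 = n5587 := rfl
theorem F19012 : act 1 n5587 = n5587 := d7_1 D5587 (iv D5587) F14708 F11362 (iv F14708)
theorem F19013 : act 5 n5587 = n4274 := d15_2 (iv F14709) D5587 (iv D4274)
theorem F19014 : act 7 n5587 = n4270 := d17_2 (iv F14710) D5587 (iv D4270)
def n5588 : Q := act 4 n4267
theorem D5588 : act 4 n4267 = n5588 := rfl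
theorem F19015 : act 1 n5588 = n4268 := d9_1 D5588 (iv D4268) (iv F14708)
theorem F19016 : act 3 n5588 = n5588 := d18_1 D5588 (iv D5588) (iv D4267) F11358 D4267
theorem F19017 : act 7 n5588 = n4271 := d24_2 (iv F14710) D5588 (iv D4271)
def n5589 : Q := act 5 n4268
theorem D5589 : act 5 n4268 = n5589 := rfl
theorem F19018 : act 0 n5589 = n4324 := d4_1 D5589 (iv D4324) (iv F14711)
theorem F19022 : act 7 n5589 = n4272 := d26_2 (iv F14714) D5589 (iv D4272)
def n5590 : Q := act 2 n4269
theorem D5590 : act 2 n4269 = n5590 := rfl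
theorem F19023 : act 0 n5590 = n4270 := d1_1 D5590 (iv D4270) (iv F14715)
theorem F19024 : act 5 n5590 = n4277 := d15_2 (iv F14717) D5590 (iv D4277)
def n5591 : Q := act 4 n4269
theorem D5591 : act 4 n4269 = n5591 := rfl
theorem F19025 : act 0 n5591 = n4271 := d3_1 D5591 (iv D4271) (iv F14715)
theorem F19026 : act 1 n5591 = n4326 := d9_1 D5591 (iv D4326) (iv F14716)
theorem F19027 : act 3 n5591 = n5591 := d18_1 D5591 (iv D5591) (iv D4269) F11366 D4269
theorem F19028 : act 6 n5591 = n4296 := d23_2 (iv F14718) D5591 (iv D4296)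
def n5592 : Q := act 4 n4270
theorem D5592 : act 4 n4270 = n5592 := rfl
theorem F19029 : act 1 n5592 = n5592 := d9_1 D5592 (iv D5592) F14719
theorem F19030 : act 2 n5592 = n4271 := d14_1 D5592 (iv D4271) D4270
def n5593 : Q := act 6 n4270
theorem D5593 : act 6 n4270 = n5593 := rfl
theorem F19031 : act 1 n5593 = n5593 := d11_1 D5593 (iv D5593) F14719
theorem F19032 : act 2 n5593 = n4298 := d16_1 D5593 (iv D4298) (iv D3274) (iv F11371) D4270
theorem F19033 : act 5 n5593 = n4280 := d25_1 D5593 (iv D4280) (iv F14720)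
def n5595 : Q := act 2 n4273
theorem D5595 : act 2 n4273 = n5595 := rfl
theorem F19038 : act 0 n5595 = n4274 := d1_1 D5595 (iv D4274) (iv F14729)
theorem F19039 : act 7 n5595 = n4277 := d17_2 (iv F14731) D5595 (iv D4277)
def n5596 : Q := act 4 n4273
theorem D5596 : act 4 n4273 = n5596 := rfl
theorem F19040 : act 0 n5596 = n4275 := d3_1 D5596 (iv D4275) (iv F14729)
theorem F19041 : act 1 n5596 = n4331 := d9_1 D5596 (iv D4331) (iv F14730)
theorem F19042 : act 3 n5596 = n4283 := d18_1 D5596 (iv D4283) (iv D3264) (iv F11377) D4273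
theorem F19043 : act 7 n5596 = n4278 := d24_2 (iv F14731) D5596 (iv D4278)
def n5597 : Q := act 4 n4274
theorem D5597 : act 4 n4274 = n5597 := rfl
theorem F19044 : act 1 n5597 = n5597 := d9_1 D5597 (iv D5597) F14732
theorem F19045 : act 2 n5597 = n4275 := d14_1 D5597 (iv D4275) D4274
theorem F19046 : act 7 n5597 = n4279 := d24_2 (iv F14733) D5597 (iv D4279)
def n5598 : Q := act 6 n4274
theorem D5598 : act 6 n4274 = n5598 := rfl
theorem F19047 : act 1 n5598 = n5598 := d11_1 D5598 (iv D5598) F14732
def n5599 : Q := act 5 n4275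
theorem D5599 : act 5 n4275 = n5599 := rfl
def n5600 : Q := act 1 n4277
theorem D5600 : act 1 n4277 = n5600 := rfl
theorem F19051 : act 0 n5600 = n5600 := d0_1 D5600 (iv D5600) F14741 F11388 (iv F14741)
theorem F19052 : act 2 n5600 = n4335 := d7_2 D4277 D5600 (iv D4335) (iv D3304) (iv F11386)
def n5601 : Q := act 4 n4277
theorem D5601 : act 4 n4277 = n5601 := rfl
theorem F19053 : act 0 n5601 = n4279 := d3_1 D5601 (iv D4279) (iv F14741)
theorem F19054 : act 2 n5601 = n4278 := d14_1 D5601 (iv D4278) D4277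
def n5602 : Q := act 6 n4277
theorem D5602 : act 6 n4277 = n5602 := rfl
theorem F19055 : act 0 n5602 = n4280 := d5_1 D5602 (iv D4280) (iv F14741)
theorem F19056 : act 2 n5602 = n4302 := d16_1 D5602 (iv D4302) (iv D3277) (iv F11387) D4277
def n5603 : Q := act 5 n4278
theorem D5603 : act 5 n4278 = n5603 := rfl
theorem F19058 : act 1 n5603 = n4338 := d10_1 D5603 (iv D4338) (iv F14743)
theorem F19060 : act 6 n5603 = n4303 := d25_2 (iv F14745) D5603 (iv D4303)
def n5604 : Q := act 3 n4279
theorem D5604 : act 3 n4279 = n5604 := rfl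
def n5605 : Q := act 5 n4279
theorem D5605 : act 5 n4279 = n5605 := rfl
theorem F19064 : act 2 n5605 = n4281 := d15_1 D5605 (iv D4281) (iv F14747)
def n5606 : Q := act 6 n4279
theorem D5606 : act 6 n4279 = n5606 := rfl
theorem F19066 : act 2 n5606 = n4306 := d16_1 D5606 (iv D4306) F11440 (iv F11391) (iv F14747)
def n5607 : Q := act 7 n4280
theorem D5607 : act 7 n4280 = n5607 := rfl
theorem F19068 : act 1 n5607 = n5607 := d12_1 D5607 (iv D5607) F14748
theorem F19069 : act 2 n5607 = n4307 := d17_1 D5607 (iv D4307) (iv F14749)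
def n5609 : Q := act 4 n4282
theorem D5609 : act 4 n4282 = n5609 := rfl
theorem F19075 : act 2 n5609 = n4283 := d14_1 D5609 (iv D4283) D4282
theorem F19076 : act 7 n5609 = n4288 := d24_2 (iv F14755) D5609 (iv D4288)
def n5626 : Q := act 1 n4295
theorem D5626 : act 1 n4295 = n5626 := rfl
theorem F19122 : act 0 n5626 = n4378 := d0_1 D5626 (iv D4378) F11613 (iv F11425) (iv F14789)
def n5627 : Q := act 4 n4295
theorem D5627 : act 4 n4295 = n5627 := rfl
theorem F19126 : act 0 n5627 = n4297 := d3_1 D5627 (iv D4297) (iv F14789)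
def n5628 : Q := act 6 n4295
theorem D5628 : act 6 n4295 = n5628 := rfl
theorem F19128 : act 0 n5628 = n4298 := d5_1 D5628 (iv D4298) (iv F14789)
theorem F19129 : act 3 n5628 = n5628 := d20_1 D5628 (iv D5628) F14790
theorem F19130 : act 5 n5628 = n4302 := d25_1 D5628 (iv D4302) (iv F14791)
def n5633 : Q := act 7 n4298
theorem D5633 : act 7 n4298 = n5633 := rfl
theorem F19144 : act 3 n5633 = n5633 := d21_1 D5633 (iv D5633) F14798
theorem F19145 : act 5 n5633 = n4307 := d26_1 D5633 (iv D4307) (iv F14799)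
def n5635 : Q := act 6 n4300
theorem D5635 : act 6 n4300 = n5635 := rfl
theorem F19150 : act 1 n5635 = n4302 := d11_1 D5635 (iv D4302) D4300
def n5637 : Q := act 5 n4301
theorem D5637 : act 5 n4301 = n5637 := rfl
def n5638 : Q := act 6 n4301
theorem D5638 : act 6 n4301 = n5638 := rfl
def n5639 : Q := act 7 n4302
theorem D5639 : act 7 n4302 = n5639 := rfl
theorem F19159 : act 0 n5639 = n4307 := d6_1 D5639 (iv D4307) (iv F14808)
theorem F19160 : act 3 n5639 = n5639 := d21_1 D5639 (iv D5639) F14809
def n5658 : Q := act 2 n4321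
theorem D5658 : act 2 n4321 = n5658 := rfl
theorem F19216 : act 0 n5658 = n4322 := d1_1 D5658 (iv D4322) (iv F14864)
theorem F19217 : act 3 n5658 = n5658 := d13_2 D4321 D5658 (iv D5658) (iv D4321) F11478
theorem F19218 : act 5 n5658 = n4330 := d15_2 (iv F14865) D5658 (iv D4330)
theorem F19219 : act 7 n5658 = n4325 := d17_2 (iv F14866) D5658 (iv D4325)
def n5659 : Q := act 4 n4321
theorem D5659 : act 4 n4321 = n5659 := rfl
def n5660 : Q := act 4 n4322
theorem D5660 : act 4 n4322 = n5660 := rfl
theorem F19224 : act 2 n5660 = n4323 := d14_1 D5660 (iv D4323) D4322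
theorem F19225 : act 7 n5660 = n4327 := d24_2 (iv F14870) D5660 (iv D4327)
def n5661 : Q := act 6 n4322
theorem D5661 : act 6 n4322 = n5661 := rfl
theorem F19226 : act 1 n5661 = n5661 := d11_1 D5661 (iv D5661) F14867
theorem F19227 : act 3 n5661 = n5661 := d20_1 D5661 (iv D5661) F14868
theorem F19228 : act 5 n5661 = n4333 := d25_1 D5661 (iv D4333) (iv F14869)
def n5662 : Q := act 5 n4323
theorem D5662 : act 5 n4323 = n5662 := rfl
theorem F19229 : act 1 n5662 = n4324 := d10_1 D5662 (iv D4324) (iv F14871)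
theorem F19231 : act 4 n5662 = n4334 := d22_1 D5662 (iv D4334) (iv D3302) (iv F11483) D4323
theorem F19232 : act 7 n5662 = n4329 := d26_2 (iv F14873) D5662 (iv D4329)
def n5663 : Q := act 1 n4325
theorem D5663 : act 1 n4325 = n5663 := rfl
theorem F19233 : act 0 n5663 = n5663 := d0_1 D5663 (iv D5663) F14878 F11491 (iv F14878)
theorem F19234 : act 3 n5663 = n5663 := d8_2 F14879 D5663 (iv D5663)
theorem F19235 : act 5 n5663 = n4335 := d10_2 (iv F14880) D5663 (iv D4335)
def n5664 : Q := act 4 n4325
theorem D5664 : act 4 n4325 = n5664 := rfl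
theorem F19237 : act 2 n5664 = n4326 := d14_1 D5664 (iv D4326) D4325
def n5665 : Q := act 6 n4325
theorem D5665 : act 6 n4325 = n5665 := rfl
theorem F19239 : act 2 n5665 = n4356 := d16_1 D5665 (iv D4356) (iv D3319) (iv F11490) D4325
theorem F19240 : act 3 n5665 = n5665 := d20_1 D5665 (iv D5665) F14879
def n5666 : Q := act 5 n4326
theorem D5666 : act 5 n4326 = n5666 := rfl
theorem F19244 : act 4 n5666 = n4338 := d22_1 D5666 (iv D4338) (iv D3305) (iv F11489) D4326
theorem F19245 : act 6 n5666 = n4357 := d25_2 (iv F14883) D5666 (iv D4357)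
def n5667 : Q := act 3 n4327
theorem D5667 : act 3 n4327 = n5667 := rfl
theorem F19248 : act 4 n5667 = n5667 := d18_2 D4327 D5667 (iv D5667) (iv D4327) F11492
def n5668 : Q := act 5 n4327
theorem D5668 : act 5 n4327 = n5668 := rfl
theorem F19250 : act 2 n5668 = n4329 := d15_1 D5668 (iv D4329) (iv F14885)
theorem F19251 : act 4 n5668 = n4340 := d22_1 D5668 (iv D4340) (iv D3306) (iv F11493) D4327
def n5669 : Q := act 6 n4327
theorem D5669 : act 6 n4327 = n5669 := rfl
theorem F19253 : act 2 n5669 = n4360 := d16_1 D5669 (iv D4360) F11564 (iv F11496) (iv F14885)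
def n5670 : Q := act 7 n4328
theorem D5670 : act 7 n4328 = n5670 := rfl
theorem F19256 : act 2 n5670 = n4361 := d17_1 D5670 (iv D4361) (iv F14887)
theorem F19257 : act 3 n5670 = n5670 := d21_1 D5670 (iv D5670) F14888
def n5671 : Q := act 1 n4330
theorem D5671 : act 1 n4330 = n5671 := rfl
theorem F19259 : act 0 n5671 = n5671 := d0_1 D5671 (iv D5671) F14894 F11503 (iv F14894)
theorem F19260 : act 3 n5671 = n5671 := d8_2 F14895 D5671 (iv D5671)
theorem F19261 : act 7 n5671 = n4335 := d12_2 (iv F14896) D5671 (iv D4335)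
def n5672 : Q := act 4 n4330
theorem D5672 : act 4 n4330 = n5672 := rfl
theorem F19262 : act 0 n5672 = n4332 := d3_1 D5672 (iv D4332) (iv F14894)
theorem F19263 : act 2 n5672 = n4331 := d14_1 D5672 (iv D4331) D4330
theorem F19264 : act 7 n5672 = n4336 := d24_2 (iv F14896) D5672 (iv D4336)
def n5673 : Q := act 6 n4330
theorem D5673 : act 6 n4330 = n5673 := rfl
theorem F19265 : act 0 n5673 = n4333 := d5_1 D5673 (iv D4333) (iv F14894)
theorem F19266 : act 3 n5673 = n5673 := d20_1 D5673 (iv D5673) F14895
def n5674 : Q := act 5 n4331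
theorem D5674 : act 5 n4331 = n5674 := rfl
theorem F19267 : act 0 n5674 = n4334 := d4_1 D5674 (iv D4334) (iv F14897)
theorem F19268 : act 3 n5674 = n4346 := d19_1 D5674 (iv D4346) (iv F14898)
theorem F19269 : act 7 n5674 = n4338 := d26_2 (iv F14899) D5674 (iv D4338)
def n5675 : Q := act 3 n4332
theorem D5675 : act 3 n4332 = n5675 := rfl
theorem F19270 : act 1 n5675 = n5675 := d8_1 D5675 (iv D5675) F14900
theorem F19271 : act 2 n5675 = n4347 := d13_1 D5675 (iv D4347) F11532 (iv F11507) (iv F14901)
theorem F19272 : act 4 n5675 = n5675 := d18_2 D4332 D5675 (iv D5675) (iv D4332) F11504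
theorem F19273 : act 7 n5675 = n4339 := d21_2 (iv F14902) D5675 (iv D4339)
def n5676 : Q := act 5 n4332
theorem D5676 : act 5 n4332 = n5676 := rfl
theorem F19274 : act 1 n5676 = n5676 := d10_1 D5676 (iv D5676) F14900
theorem F19275 : act 2 n5676 = n4334 := d15_1 D5676 (iv D4334) (iv F14901)
theorem F19276 : act 7 n5676 = n4340 := d26_2 (iv F14902) D5676 (iv D4340)
def n5677 : Q := act 6 n4332
theorem D5677 : act 6 n4332 = n5677 := rfl
theorem F19277 : act 1 n5677 = n5677 := d11_1 D5677 (iv D5677) F14900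
theorem F19278 : act 4 n5677 = n4333 := d23_1 D5677 (iv D4333) D4332
def n5678 : Q := act 7 n4333
theorem D5678 : act 7 n4333 = n5678 := rfl
theorem F19279 : act 1 n5678 = n5678 := d12_1 D5678 (iv D5678) F14903
theorem F19280 : act 3 n5678 = n5678 := d21_1 D5678 (iv D5678) F14904
theorem F19281 : act 6 n5678 = n4342 := d27_1 D5678 (iv D4342) (iv D3307) (iv F11505) D4333
def n5679 : Q := act 4 n4335
theorem D5679 : act 4 n4335 = n5679 := rfl
theorem F19282 : act 0 n5679 = n5679 := d3_1 D5679 (iv D5679) F14908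
theorem F19283 : act 1 n5679 = n4336 := d9_1 D5679 (iv D4336) D4335
def n5680 : Q := act 6 n4335
theorem D5680 : act 6 n4335 = n5680 := rfl
theorem F19284 : act 0 n5680 = n5680 := d5_1 D5680 (iv D5680) F14908
theorem F19285 : act 1 n5680 = n4337 := d11_1 D5680 (iv D4337) D4335
theorem F19286 : act 3 n5680 = n5680 := d20_1 D5680 (iv D5680) F14909
def n5681 : Q := act 3 n4336
theorem D5681 : act 3 n4336 = n5681 := rfl
theorem F19287 : act 0 n5681 = n4339 := d2_1 D5681 (iv D4339) (iv F14910)
theorem F19288 : act 2 n5681 = n4351 := d13_1 D5681 (iv D4351) F11546 (iv F11515) (iv F14911)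
theorem F19289 : act 4 n5681 = n5681 := d18_2 D4336 D5681 (iv D5681) (iv D4336) F11513
def n5682 : Q := act 5 n4336
theorem D5682 : act 5 n4336 = n5682 := rfl
theorem F19290 : act 0 n5682 = n4340 := d4_1 D5682 (iv D4340) (iv F14910)
theorem F19291 : act 2 n5682 = n4338 := d15_1 D5682 (iv D4338) (iv F14911)
def n5683 : Q := act 6 n4336
theorem D5683 : act 6 n4336 = n5683 := rfl
theorem F19292 : act 0 n5683 = n4341 := d5_1 D5683 (iv D4341) (iv F14910)
theorem F19293 : act 2 n5683 = n4365 := d16_1 D5683 (iv D4365) F11574 (iv F11516) (iv F14911)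
theorem F19294 : act 4 n5683 = n4337 := d23_1 D5683 (iv D4337) D4336
def n5684 : Q := act 7 n4337
theorem D5684 : act 7 n4337 = n5684 := rfl
theorem F19295 : act 0 n5684 = n4342 := d6_1 D5684 (iv D4342) (iv F14912)
theorem F19296 : act 2 n5684 = n4366 := d17_1 D5684 (iv D4366) (iv F14913)
theorem F19297 : act 3 n5684 = n5684 := d21_1 D5684 (iv D5684) F14914
def n5685 : Q := act 5 n4339
theorem D5685 : act 5 n4339 = n5685 := rfl
theorem F19298 : act 1 n5685 = n5685 := d10_1 D5685 (iv D5685) F14918
theorem F19299 : act 2 n5685 = n4353 := d15_1 D5685 (iv D4353) (iv F14919)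
theorem F19300 : act 3 n5685 = n4340 := d19_1 D5685 (iv D4340) D4339
def n5686 : Q := act 6 n4339
theorem D5686 : act 6 n4339 = n5686 := rfl
theorem F19301 : act 1 n5686 = n5686 := d11_1 D5686 (iv D5686) F14918
theorem F19302 : act 2 n5686 = n5686 := d16_1 D5686 (iv D5686) F14919 F11553 (iv F14919)
theorem F19303 : act 3 n5686 = n4341 := d20_1 D5686 (iv D4341) D4339
theorem F19304 : act 4 n5686 = n5686 := d23_1 D5686 (iv D5686) F14920
def n5687 : Q := act 6 n4340
theorem D5687 : act 6 n4340 = n5687 := rfl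
theorem F19306 : act 2 n5687 = n4367 := d16_1 D5687 (iv D4367) F11581 (iv F11524) (iv F14922)
theorem F19307 : act 5 n5687 = n4341 := d25_1 D5687 (iv D4341) D4340
def n5688 : Q := act 7 n4341
theorem D5688 : act 7 n4341 = n5688 := rfl
theorem F19308 : act 1 n5688 = n5688 := d12_1 D5688 (iv D5688) F14923
theorem F19309 : act 2 n5688 = n4368 := d17_1 D5688 (iv D4368) (iv F14924)
theorem F19310 : act 4 n5688 = n4342 := d24_1 D5688 (iv D4342) (iv F14925)
def n5689 : Q := act 4 n4343
theorem D5689 : act 4 n4343 = n5689 := rfl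
theorem F19312 : act 1 n5689 = n4344 := d9_1 D5689 (iv D4344) D4343
theorem F19313 : act 7 n5689 = n4350 := d24_2 (iv F14932) D5689 (iv D4350)
def n5690 : Q := act 6 n4343
theorem D5690 : act 6 n4343 = n5690 := rfl
theorem F19315 : act 1 n5690 = n4345 := d11_1 D5690 (iv D4345) D4343
def n5691 : Q := act 3 n4344
theorem D5691 : act 3 n4344 = n5691 := rfl
theorem F19319 : act 0 n5691 = n4347 := d2_1 D5691 (iv D4347) (iv F14933)
theorem F19320 : act 4 n5691 = n5691 := d18_2 D4344 D5691 (iv D5691) (iv D4344) F11526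
theorem F19321 : act 7 n5691 = n4351 := d21_2 (iv F14935) D5691 (iv D4351)
def n5692 : Q := act 5 n4344
theorem D5692 : act 5 n4344 = n5692 := rfl
theorem F19322 : act 0 n5692 = n4348 := d4_1 D5692 (iv D4348) (iv F14933)
theorem F19323 : act 2 n5692 = n4346 := d15_1 D5692 (iv D4346) (iv F14934)
theorem F19324 : act 4 n5692 = n5692 := d22_1 D5692 (iv D5692) (iv D4344) F11527 D4344
theorem F19325 : act 7 n5692 = n4352 := d26_2 (iv F14935) D5692 (iv D4352)
def n5693 : Q := act 6 n4344
theorem D5693 : act 6 n4344 = n5693 := rfl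
theorem F19326 : act 0 n5693 = n4349 := d5_1 D5693 (iv D4349) (iv F14933)
theorem F19327 : act 4 n5693 = n4345 := d23_1 D5693 (iv D4345) D4344
theorem F19328 : act 7 n5693 = n5693 := d27_2 (iv F14935) D5693 (iv D5693) F14935 F11547
def n5694 : Q := act 5 n4347
theorem D5694 : act 5 n4347 = n5694 := rfl
theorem F19329 : act 1 n5694 = n4618 := d10_1 D5694 (iv D4618) (iv F14943)
theorem F19330 : act 3 n5694 = n4348 := d19_1 D5694 (iv D4348) D4347
theorem F19331 : act 7 n5694 = n4353 := d26_2 (iv F14945) D5694 (iv D4353)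
def n5695 : Q := act 6 n4347
theorem D5695 : act 6 n4347 = n5695 := rfl
theorem F19332 : act 1 n5695 = n4619 := d11_1 D5695 (iv D4619) (iv F14943)
theorem F19333 : act 3 n5695 = n4349 := d20_1 D5695 (iv D4349) D4347
def n5696 : Q := act 6 n4348
theorem D5696 : act 6 n4348 = n5696 := rfl
def n5697 : Q := act 3 n4350
theorem D5697 : act 3 n4350 = n5697 := rfl
theorem F19341 : act 1 n5697 = n4351 := d8_1 D5697 (iv D4351) (iv F14954)
def n5698 : Q := act 5 n4350
theorem D5698 : act 5 n4350 = n5698 := rfl
theorem F19345 : act 1 n5698 = n4352 := d10_1 D5698 (iv D4352) (iv F14954)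
def n5699 : Q := act 5 n4351
theorem D5699 : act 5 n4351 = n5699 := rfl
theorem F19348 : act 0 n5699 = n4353 := d4_1 D5699 (iv D4353) (iv F14956)
theorem F19349 : act 3 n5699 = n4352 := d19_1 D5699 (iv D4352) D4351
theorem F19350 : act 6 n5699 = n5699 := d25_2 F14958 D5699 (iv D5699)
def n5701 : Q := act 4 n4354
theorem D5701 : act 4 n4354 = n5701 := rfl
def n5702 : Q := act 6 n4354
theorem D5702 : act 6 n4354 = n5702 := rfl
theorem F19358 : act 1 n5702 = n4356 := d11_1 D5702 (iv D4356) D4354
def n5703 : Q := act 3 n4355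
theorem D5703 : act 3 n4355 = n5703 := rfl
theorem F19361 : act 0 n5703 = n4358 := d2_1 D5703 (iv D4358) (iv F14969)
def n5704 : Q := act 5 n4355
theorem D5704 : act 5 n4355 = n5704 := rfl
theorem F19365 : act 2 n5704 = n4357 := d15_1 D5704 (iv D4357) (iv F14970)
def n5705 : Q := act 6 n4355
theorem D5705 : act 6 n4355 = n5705 := rfl
def n5706 : Q := act 7 n4356
theorem D5706 : act 7 n4356 = n5706 := rfl
def n5707 : Q := act 5 n4358
theorem D5707 : act 5 n4358 = n5707 := rfl
theorem F19372 : act 1 n5707 = n4416 := d10_1 D5707 (iv D4416) (iv F14977)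
theorem F19374 : act 3 n5707 = n4359 := d19_1 D5707 (iv D4359) D4358
def n5708 : Q := act 6 n4358
theorem D5708 : act 6 n4358 = n5708 := rfl
theorem F19377 : act 3 n5708 = n4360 := d20_1 D5708 (iv D4360) D4358
def n5709 : Q := act 6 n4359
theorem D5709 : act 6 n4359 = n5709 := rfl
def n5710 : Q := act 7 n4360
theorem D5710 : act 7 n4360 = n5710 := rfl
def n5711 : Q := act 5 n4362
theorem D5711 : act 5 n4362 = n5711 := rfl
theorem F19384 : act 0 n5711 = n4420 := d4_1 D5711 (iv D4420) (iv F14988)
def n5712 : Q := act 6 n4362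
theorem D5712 : act 6 n4362 = n5712 := rfl
theorem F19387 : act 0 n5712 = n4421 := d5_1 D5712 (iv D4421) (iv F14988)
theorem F19388 : act 1 n5712 = n4365 := d11_1 D5712 (iv D4365) (iv F14989)
def n5713 : Q := act 2 n4363
theorem D5713 : act 2 n4363 = n5713 := rfl
def n5715 : Q := act 6 n4364
theorem D5715 : act 6 n4364 = n5715 := rfl
theorem F19397 : act 5 n5715 = n4365 := d25_1 D5715 (iv D4365) D4364
def n5716 : Q := act 7 n4365
theorem D5716 : act 7 n4365 = n5716 := rfl
theorem F19398 : act 0 n5716 = n4368 := d6_1 D5716 (iv D4368) (iv F14997)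
theorem F19399 : act 3 n5716 = n5716 := d21_1 D5716 (iv D5716) F14998
theorem F19400 : act 4 n5716 = n4366 := d24_1 D5716 (iv D4366) (iv F14999)
def n5717 : Q := act 7 n4367
theorem D5717 : act 7 n4367 = n5717 := rfl
theorem F19403 : act 5 n5717 = n4368 := d26_1 D5717 (iv D4368) (iv F15004)
def n5719 : Q := act 6 n4369
theorem D5719 : act 6 n4369 = n5719 := rfl
theorem F19408 : act 1 n5719 = n4372 := d11_1 D5719 (iv D4372) (iv F15009)
def n5720 : Q := act 2 n4370
theorem D5720 : act 2 n4370 = n5720 := rfl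
theorem F19412 : act 1 n5720 = n5720 := d7_1 D5720 (iv D5720) F15013 F11595 (iv F15013)
def n5722 : Q := act 6 n4371
theorem D5722 : act 6 n4371 = n5722 := rfl
theorem F19418 : act 0 n5722 = n4374 := d5_1 D5722 (iv D4374) (iv F15015)
theorem F19419 : act 3 n5722 = n4372 := d20_1 D5722 (iv D4372) D4371
def n5723 : Q := act 7 n4372
theorem D5723 : act 7 n4372 = n5723 := rfl
theorem F19422 : act 2 n5723 = n5723 := d17_1 D5723 (iv D5723) F15019
def n5724 : Q := act 2 n4374
theorem D5724 : act 2 n4374 = n5724 := rfl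
theorem F19425 : act 3 n5724 = n5724 := d13_2 (iv F15026) D5724 (iv D5724) F15026 F11601
def n5725 : Q := act 7 n4374
theorem D5725 : act 7 n4374 = n5725 := rfl
def n5728 : Q := act 4 n4378
theorem D5728 : act 4 n4378 = n5728 := rfl
theorem F19438 : act 1 n5728 = n4379 := d9_1 D5728 (iv D4379) D4378
def n5730 : Q := act 3 n4379
theorem D5730 : act 3 n4379 = n5730 := rfl
theorem F19444 : act 2 n5730 = n4439 := d13_1 D5730 (iv D4439) F11761 (iv F11618) (iv F15043)
def n5734 : Q := act 5 n4382
theorem D5734 : act 5 n4382 = n5734 := rfl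
theorem F19456 : act 2 n5734 = n4443 := d15_1 D5734 (iv D4443) (iv F15053)
theorem F19457 : act 3 n5734 = n4383 := d19_1 D5734 (iv D4383) D4382
def n5738 : Q := act 3 n4386
theorem D5738 : act 3 n4386 = n5738 := rfl
theorem F19465 : act 1 n5738 = n4388 := d8_1 D5738 (iv D4388) (iv F15062)
def n5739 : Q := act 5 n4386
theorem D5739 : act 5 n4386 = n5739 := rfl
theorem F19469 : act 2 n5739 = n4420 := d15_1 D5739 (iv D4420) (iv F15063)
def n5743 : Q := act 5 n4388
theorem D5743 : act 5 n4388 = n5743 := rfl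
theorem F19477 : act 2 n5743 = n4396 := d15_1 D5743 (iv D4396) (iv F15067)
def n5744 : Q := act 6 n4388
theorem D5744 : act 6 n4388 = n5744 := rfl
def n5747 : Q := act 4 n4392
theorem D5747 : act 4 n4392 = n5747 := rfl
theorem F19488 : act 2 n5747 = n4400 := d14_1 D5747 (iv D4400) (iv F15077)
def n5752 : Q := act 4 n4396
theorem D5752 : act 4 n4396 = n5752 := rfl
def n5754 : Q := act 2 n4397
theorem D5754 : act 2 n4397 = n5754 := rfl
def n5755 : Q := act 7 n4397
theorem D5755 : act 7 n4397 = n5755 := rfl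
def n5757 : Q := act 6 n4400
theorem D5757 : act 6 n4400 = n5757 := rfl
def n5770 : Q := act 5 n4410
theorem D5770 : act 5 n4410 = n5770 := rfl
def n5778 : Q := act 6 n4416
theorem D5778 : act 6 n4416 = n5778 := rfl
theorem F19583 : act 5 n5778 = n4417 := d25_1 D5778 (iv D4417) D4416
def n5782 : Q := act 6 n4420
theorem D5782 : act 6 n4420 = n5782 := rfl
def n5783 : Q := act 2 n4421
theorem D5783 : act 2 n4421 = n5783 := rfl
def n5796 : Q := act 1 n4433
theorem D5796 : act 1 n4433 = n5796 := rfl
theorem F19634 : act 3 n5796 = n4518 := d8_2 (iv F15195) D5796 (iv D4518)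
def n5797 : Q := act 7 n4433
theorem D5797 : act 7 n4433 = n5797 := rfl
theorem F19637 : act 2 n5797 = n4434 := d17_1 D5797 (iv D4434) D4433
def n5806 : Q := act 5 n4439
theorem D5806 : act 5 n4439 = n5806 := rfl
theorem F19666 : act 0 n5806 = n4443 := d4_1 D5806 (iv D4443) (iv F15212)
theorem F19667 : act 3 n5806 = n4440 := d19_1 D5806 (iv D4440) D4439
def n5808 : Q := act 6 n4440
theorem D5808 : act 6 n4440 = n5808 := rfl
theorem F19673 : act 4 n5808 = n4454 := d23_1 D5808 (iv D4454) (iv F15216)
def n5810 : Q := act 4 n4443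
theorem D5810 : act 4 n4443 = n5810 := rfl
theorem F19679 : act 3 n5810 = n4456 := d18_1 D5810 (iv D4456) F11801 (iv F11774) (iv F15225)
def n5811 : Q := act 6 n4443
theorem D5811 : act 6 n4443 = n5811 := rfl
def n5815 : Q := act 5 n4447
theorem D5815 : act 5 n4447 = n5815 := rfl
theorem F19694 : act 1 n5815 = n4452 := d10_1 D5815 (iv D4452) (iv F15237)
theorem F19696 : act 3 n5815 = n4448 := d19_1 D5815 (iv D4448) D4447
def n5817 : Q := act 6 n4448
theorem D5817 : act 6 n4448 = n5817 := rfl
def n5821 : Q := act 7 n4450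
theorem D5821 : act 7 n4450 = n5821 := rfl
theorem F19717 : act 2 n5821 = n4451 := d17_1 D5821 (iv D4451) D4450
def n5822 : Q := act 4 n4452
theorem D5822 : act 4 n4452 = n5822 := rfl
theorem F19719 : act 2 n5822 = n4461 := d14_1 D5822 (iv D4461) (iv F15253)
def n5823 : Q := act 6 n4452
theorem D5823 : act 6 n4452 = n5823 := rfl
theorem F19722 : act 3 n5823 = n4454 := d20_1 D5823 (iv D4454) (iv F15254)
def n5827 : Q := act 6 n4456
theorem D5827 : act 6 n4456 = n5827 := rfl
theorem F19735 : act 4 n5827 = n4457 := d23_1 D5827 (iv D4457) D4456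
def n5828 : Q := act 2 n4457
theorem D5828 : act 2 n4457 = n5828 := rfl
theorem F19738 : act 5 n5828 = n4458 := d15_2 (iv F15269) D5828 (iv D4458)
theorem F19739 : act 6 n5828 = n4467 := d16_2 D4457 D5828 (iv D4467) (iv D3412) (iv F11800)
def n5829 : Q := act 7 n4457
theorem D5829 : act 7 n4457 = n5829 := rfl
def n5830 : Q := act 1 n4458
theorem D5830 : act 1 n4458 = n5830 := rfl
theorem F19746 : act 6 n5830 = n4469 := d11_2 (iv F15272) D5830 (iv D4469)
def n5832 : Q := act 6 n4461
theorem D5832 : act 6 n4461 = n5832 := rfl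
def n5833 : Q := act 2 n4462
theorem D5833 : act 2 n4462 = n5833 := rfl
def n5834 : Q := act 7 n4462
theorem D5834 : act 7 n4462 = n5834 := rfl
def n5837 : Q := act 2 n4466
theorem D5837 : act 2 n4466 = n5837 := rfl
theorem F19768 : act 4 n5837 = n4467 := d14_2 (iv F15298) D5837 (iv D4467)
def n5838 : Q := act 7 n4466
theorem D5838 : act 7 n4466 = n5838 := rfl
def n5839 : Q := act 1 n4467
theorem D5839 : act 1 n4467 = n5839 := rfl
theorem F19773 : act 2 n5839 = n4473 := d7_2 D4467 D5839 (iv D4473) (iv D3417) (iv F11828)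
theorem F19775 : act 5 n5839 = n4469 := d10_2 (iv F15301) D5839 (iv D4469)
def n5840 : Q := act 7 n4467
theorem D5840 : act 7 n4467 = n5840 := rfl
theorem F19776 : act 2 n5840 = n4468 := d17_1 D5840 (iv D4468) D4467
def n5841 : Q := act 0 n4469
theorem D5841 : act 0 n4469 = n5841 := rfl
def n5842 : Q := act 7 n4469
theorem D5842 : act 7 n4469 = n5842 := rfl
theorem F19782 : act 1 n5842 = n4470 := d12_1 D5842 (iv D4470) D4469
def n5843 : Q := act 6 n4470
theorem D5843 : act 6 n4470 = n5843 := rfl
def n5848 : Q := act 7 n4473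
theorem D5848 : act 7 n4473 = n5848 := rfl
theorem F19803 : act 1 n5848 = n4474 := d12_1 D5848 (iv D4474) D4473
def n5849 : Q := act 6 n4474
theorem D5849 : act 6 n4474 = n5849 := rfl
theorem F19808 : act 5 n5849 = n4477 := d25_1 D5849 (iv D4477) (iv F15324)
def n5864 : Q := act 2 n4487
theorem D5864 : act 2 n4487 = n5864 := rfl
def n5865 : Q := act 7 n4487
theorem D5865 : act 7 n4487 = n5865 := rfl
def n5868 : Q := act 2 n4491
theorem D5868 : act 2 n4491 = n5868 := rfl
def n5869 : Q := act 7 n4491
theorem D5869 : act 7 n4491 = n5869 := rfl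
def n5874 : Q := act 6 n4495
theorem D5874 : act 6 n4495 = n5874 := rfl
def n5882 : Q := act 6 n4502
theorem D5882 : act 6 n4502 = n5882 := rfl
def n5884 : Q := act 7 n4503
theorem D5884 : act 7 n4503 = n5884 := rfl
theorem F19928 : act 2 n5884 = n4504 := d17_1 D5884 (iv D4504) D4503
theorem F19929 : act 3 n5884 = n4532 := d21_1 D5884 (iv D4532) (iv F15424)
def n5902 : Q := act 7 n4518
theorem D5902 : act 7 n4518 = n5902 := rfl
theorem F19996 : act 2 n5902 = n5902 := d17_1 D5902 (iv D5902) F15482
def n5906 : Q := act 6 n4521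
theorem D5906 : act 6 n4521 = n5906 := rfl
theorem F20012 : act 3 n5906 = n4522 := d20_1 D5906 (iv D4522) (iv F15495)
def n6028 : Q := act 6 n4618
theorem D6028 : act 6 n4618 = n6028 := rfl
def n6204 : Q := act 6 n4758
theorem D6204 : act 6 n4758 = n6204 := rfl
theorem F21027 : act 5 n6204 = n4765 := d25_1 D6204 (iv D4765) (iv F16313)
def n6205 : Q := act 2 n4759
theorem D6205 : act 2 n4759 = n6205 := rfl
theorem F21029 : act 5 n6205 = n4766 := d15_2 (iv F16317) D6205 (iv D4766)
def n6213 : Q := act 6 n4764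
theorem D6213 : act 6 n4764 = n6213 := rfl
theorem F21054 : act 0 n6213 = n4947 := d5_1 D6213 (iv D4947) (iv F16331)
theorem F21055 : act 3 n6213 = n4765 := d20_1 D6213 (iv D4765) (iv F16333)
def n6214 : Q := act 2 n4765
theorem D6214 : act 2 n4765 = n6214 := rfl
theorem F21056 : act 0 n6214 = n4948 := d1_1 D6214 (iv D4948) (iv F16334)
theorem F21058 : act 6 n6214 = n4766 := d16_2 D4765 D6214 (iv D4766) (iv D3648) (iv F12657)
def n6215 : Q := act 1 n4766
theorem D6215 : act 1 n4766 = n6215 := rfl
theorem F21059 : act 2 n6215 = n4808 := d7_2 D4766 D6215 (iv D4808) (iv D3678) (iv F12660)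
theorem F21061 : act 7 n6215 = n4767 := d12_2 (iv F16338) D6215 (iv D4767)
def n6216 : Q := act 3 n4766
theorem D6216 : act 3 n4766 = n6216 := rfl
theorem F21063 : act 2 n6216 = n4780 := d13_1 D6216 (iv D4780) (iv D3657) (iv F12661) D4766
theorem F21064 : act 7 n6216 = n4768 := d21_2 (iv F16338) D6216 (iv D4768)
def n6217 : Q := act 0 n4767
theorem D6217 : act 0 n4767 = n6217 := rfl
theorem F21065 : act 1 n6217 = n4951 := d0_2 D4767 D6217 (iv D4951) (iv D3784) (iv F12664)
theorem F21066 : act 2 n6217 = n4810 := d1_2 (iv F16339) D6217 (iv D4810)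
def n6218 : Q := act 3 n4767
theorem D6218 : act 3 n4767 = n6218 := rfl
theorem F21068 : act 1 n6218 = n4768 := d8_1 D6218 (iv D4768) D4767
def n6219 : Q := act 4 n4768
theorem D6219 : act 4 n4768 = n6219 := rfl
theorem F21069 : act 0 n6219 = n4953 := d3_1 D6219 (iv D4953) (iv F16341)
def n6224 : Q := act 1 n4772
theorem D6224 : act 1 n4772 = n6224 := rfl
theorem F21091 : act 2 n6224 = n4813 := d7_2 D4772 D6224 (iv D4813) (iv D3681) (iv F12676)
theorem F21093 : act 5 n6224 = n4779 := d10_2 (iv F16358) D6224 (iv D4779)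
theorem F21094 : act 7 n6224 = n4773 := d12_2 (iv F16359) D6224 (iv D4773)
def n6225 : Q := act 3 n4772
theorem D6225 : act 3 n4772 = n6225 := rfl
def n6226 : Q := act 0 n4773
theorem D6226 : act 0 n4773 = n6226 := rfl
theorem F21098 : act 1 n6226 = n4960 := d0_2 D4773 D6226 (iv D4960) (iv D3790) (iv F12680)
theorem F21099 : act 2 n6226 = n4815 := d1_2 (iv F16360) D6226 (iv D4815)
theorem F21101 : act 5 n6226 = n4781 := d4_2 (iv F16362) D6226 (iv D4781)
def n6227 : Q := act 3 n4773
theorem D6227 : act 3 n4773 = n6227 := rfl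
theorem F21104 : act 5 n6227 = n4782 := d19_2 (iv F16362) D6227 (iv D4782)
def n6231 : Q := act 2 n4777
theorem D6231 : act 2 n4777 = n6231 := rfl
def n6232 : Q := act 1 n4778
theorem D6232 : act 1 n4778 = n6232 := rfl
theorem F21121 : act 4 n6232 = n4787 := d9_2 (iv F16380) D6232 (iv D4787)
def n6233 : Q := act 3 n4778
theorem D6233 : act 3 n4778 = n6233 := rfl
theorem F21124 : act 0 n6233 = n4967 := d2_1 D6233 (iv D4967) (iv F16379)
theorem F21125 : act 6 n6233 = n4780 := d20_2 (iv F16381) D6233 (iv D4780)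
def n6234 : Q := act 0 n4779
theorem D6234 : act 0 n4779 = n6234 := rfl
theorem F21127 : act 1 n6234 = n4968 := d0_2 D4779 D6234 (iv D4968) (iv D3796) (iv F12695)
theorem F21128 : act 2 n6234 = n4818 := d1_2 (iv F16383) D6234 (iv D4818)
theorem F21129 : act 4 n6234 = n4789 := d3_2 (iv F16384) D6234 (iv D4789)
theorem F21130 : act 7 n6234 = n4781 := d6_2 (iv F16385) D6234 (iv D4781)
def n6235 : Q := act 3 n4779
theorem D6235 : act 3 n4779 = n6235 := rfl
theorem F21131 : act 1 n6235 = n4780 := d8_1 D6235 (iv D4780) D4779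
theorem F21132 : act 7 n6235 = n4782 := d21_2 (iv F16385) D6235 (iv D4782)
def n6236 : Q := act 4 n4780
theorem D6236 : act 4 n4780 = n6236 := rfl
theorem F21133 : act 0 n6236 = n4970 := d3_1 D6236 (iv D4970) (iv F16386)
theorem F21134 : act 3 n6236 = n4791 := d18_1 D6236 (iv D4791) (iv D3665) (iv F12696) D4780
theorem F21135 : act 7 n6236 = n4783 := d24_2 (iv F16387) D6236 (iv D4783)
def n6237 : Q := act 3 n4781
theorem D6237 : act 3 n4781 = n6237 := rfl
theorem F21136 : act 0 n6237 = n4782 := d2_1 D6237 (iv D4782) D4781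
theorem F21137 : act 1 n6237 = n4971 := d8_1 D6237 (iv D4971) (iv F16388)
theorem F21138 : act 6 n6237 = n6237 := d20_2 F16391 D6237 (iv D6237)
def n6238 : Q := act 2 n4782
theorem D6238 : act 2 n4782 = n6238 := rfl
theorem F21139 : act 3 n6238 = n4822 := d13_2 D4782 D6238 (iv D4822) (iv D3687) (iv F12698)
def n6239 : Q := act 4 n4782
theorem D6239 : act 4 n4782 = n6239 := rfl
theorem F21140 : act 1 n6239 = n4783 := d9_1 D6239 (iv D4783) (iv F16392)
theorem F21141 : act 3 n6239 = n4794 := d18_1 D6239 (iv D4794) (iv D3667) (iv F12699) D4782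
theorem F21142 : act 6 n6239 = n6239 := d23_2 F16393 D6239 (iv D6239)
def n6240 : Q := act 5 n4783
theorem D6240 : act 5 n4783 = n6240 := rfl
theorem F21143 : act 0 n6240 = n4974 := d4_1 D6240 (iv D4974) (iv F16394)
theorem F21144 : act 3 n6240 = n4795 := d19_1 D6240 (iv D4795) (iv F16395)
theorem F21145 : act 6 n6240 = n6240 := d25_2 F16396 D6240 (iv D6240)
def n6243 : Q := act 1 n4786
theorem D6243 : act 1 n4786 = n6243 := rfl
def n6244 : Q := act 3 n4786
theorem D6244 : act 3 n4786 = n6244 := rfl
theorem F21160 : act 2 n6244 = n4788 := d13_1 D6244 (iv D4788) (iv D3663) (iv F12714) D4786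
def n6245 : Q := act 0 n4787
theorem D6245 : act 0 n4787 = n6245 := rfl
theorem F21164 : act 1 n6245 = n4979 := d0_2 D4787 D6245 (iv D4979) (iv D3804) (iv F12717)
theorem F21167 : act 6 n6245 = n4789 := d5_2 (iv F16412) D6245 (iv D4789)
def n6246 : Q := act 3 n4787
theorem D6246 : act 3 n4787 = n6246 := rfl
theorem F21169 : act 1 n6246 = n4788 := d8_1 D6246 (iv D4788) D4787
theorem F21171 : act 6 n6246 = n4790 := d20_2 (iv F16412) D6246 (iv D4790)
def n6247 : Q := act 4 n4788
theorem D6247 : act 4 n4788 = n6247 := rfl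
theorem F21173 : act 0 n6247 = n4981 := d3_1 D6247 (iv D4981) (iv F16414)
theorem F21174 : act 6 n6247 = n4791 := d23_2 (iv F16416) D6247 (iv D4791)
def n6248 : Q := act 3 n4789
theorem D6248 : act 3 n4789 = n6248 := rfl
theorem F21176 : act 0 n6248 = n4790 := d2_1 D6248 (iv D4790) D4789
theorem F21177 : act 1 n6248 = n4982 := d8_1 D6248 (iv D4982) (iv F16418)
theorem F21178 : act 5 n6248 = n6248 := d19_2 F16420 D6248 (iv D6248)
theorem F21179 : act 7 n6248 = n4792 := d21_2 (iv F16421) D6248 (iv D4792)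
def n6249 : Q := act 2 n4790
theorem D6249 : act 2 n4790 = n6249 := rfl
theorem F21180 : act 1 n6249 = n6249 := d7_1 D6249 (iv D6249) F16422 F12725 (iv F16422)
theorem F21181 : act 3 n6249 = n4826 := d13_2 D4790 D6249 (iv D4826) (iv D3690) (iv F12721)
theorem F21182 : act 5 n6249 = n6249 := d15_2 F16423 D6249 (iv D6249)
theorem F21183 : act 7 n6249 = n4793 := d17_2 (iv F16424) D6249 (iv D4793)
def n6250 : Q := act 4 n4790
theorem D6250 : act 4 n4790 = n6250 := rfl
theorem F21184 : act 1 n6250 = n4791 := d9_1 D6250 (iv D4791) (iv F16422)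
theorem F21185 : act 7 n6250 = n4794 := d24_2 (iv F16424) D6250 (iv D4794)
def n6251 : Q := act 5 n4791
theorem D6251 : act 5 n4791 = n6251 := rfl
theorem F21186 : act 0 n6251 = n4985 := d4_1 D6251 (iv D4985) (iv F16425)
theorem F21187 : act 2 n6251 = n6251 := d15_1 D6251 (iv D6251) F16426
theorem F21188 : act 4 n6251 = n6251 := d22_1 D6251 (iv D6251) (iv D4791) F12726 D4791
theorem F21189 : act 7 n6251 = n4795 := d26_2 (iv F16427) D6251 (iv D4795)
def n6252 : Q := act 2 n4792
theorem D6252 : act 2 n4792 = n6252 := rfl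
theorem F21190 : act 0 n6252 = n4793 := d1_1 D6252 (iv D4793) (iv F16428)
theorem F21191 : act 3 n6252 = n4829 := d13_2 D4792 D6252 (iv D4829) (iv D3692) (iv F12729)
theorem F21192 : act 5 n6252 = n6252 := d15_2 F16430 D6252 (iv D6252)
def n6253 : Q := act 4 n4792
theorem D6253 : act 4 n4792 = n6253 := rfl
theorem F21193 : act 0 n6253 = n4794 := d3_1 D6253 (iv D4794) (iv F16428)
theorem F21194 : act 1 n6253 = n4987 := d9_1 D6253 (iv D4987) (iv F16429)
theorem F21195 : act 6 n6253 = n6253 := d23_2 F16431 D6253 (iv D6253)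
def n6254 : Q := act 4 n4793
theorem D6254 : act 4 n4793 = n6254 := rfl
theorem F21196 : act 1 n6254 = n6254 := d9_1 D6254 (iv D6254) F16432
theorem F21197 : act 2 n6254 = n4794 := d14_1 D6254 (iv D4794) D4793
def n6255 : Q := act 6 n4793
theorem D6255 : act 6 n4793 = n6255 := rfl
theorem F21198 : act 1 n6255 = n6255 := d11_1 D6255 (iv D6255) F16432
theorem F21199 : act 2 n6255 = n6255 := d16_1 D6255 (iv D6255) (iv D4793) F12734 D4793
theorem F21200 : act 3 n6255 = n4832 := d20_1 D6255 (iv D4832) (iv F16433)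
theorem F21201 : act 5 n6255 = n6255 := d25_1 D6255 (iv D6255) F16434
def n6256 : Q := act 5 n4794
theorem D6256 : act 5 n4794 = n6256 := rfl
theorem F21202 : act 1 n6256 = n4795 := d10_1 D6256 (iv D4795) (iv F16435)
theorem F21203 : act 4 n6256 = n6256 := d22_1 D6256 (iv D6256) (iv D4794) F12733 D4794
theorem F21204 : act 6 n6256 = n6256 := d25_2 F16436 D6256 (iv D6256)
def n6266 : Q := act 1 n4803
theorem D6266 : act 1 n4803 = n6266 := rfl
theorem F21244 : act 7 n6266 = n4804 := d12_2 (iv F16473) D6266 (iv D4804)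
def n6267 : Q := act 3 n4803
theorem D6267 : act 3 n4803 = n6267 := rfl
theorem F21246 : act 2 n6267 = n4814 := d13_1 D6267 (iv D4814) (iv D3681) (iv F12759) D4803
def n6268 : Q := act 0 n4804
theorem D6268 : act 0 n4804 = n6268 := rfl
theorem F21249 : act 1 n6268 = n4862 := d0_2 D4804 D6268 (iv D4862) (iv D3718) (iv F12762)
theorem F21250 : act 5 n6268 = n4810 := d4_2 (iv F16474) D6268 (iv D4810)
def n6269 : Q := act 3 n4804
theorem D6269 : act 3 n4804 = n6269 := rfl
theorem F21252 : act 1 n6269 = n4805 := d8_1 D6269 (iv D4805) D4804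
theorem F21253 : act 5 n6269 = n4811 := d19_2 (iv F16474) D6269 (iv D4811)
def n6273 : Q := act 3 n4807
theorem D6273 : act 3 n4807 = n6273 := rfl
theorem F21265 : act 2 n6273 = n6273 := d13_1 D6273 (iv D6273) (iv D4807) F12770 D4807
theorem F21266 : act 6 n6273 = n4809 := d20_2 (iv F16487) D6273 (iv D4809)
def n6274 : Q := act 0 n4808
theorem D6274 : act 0 n4808 = n6274 := rfl
theorem F21268 : act 1 n6274 = n4867 := d0_2 D4808 D6274 (iv D4867) (iv D3721) (iv F12773)
theorem F21270 : act 7 n6274 = n4810 := d6_2 (iv F16490) D6274 (iv D4810)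
def n6275 : Q := act 3 n4808
theorem D6275 : act 3 n4808 = n6275 := rfl
theorem F21271 : act 1 n6275 = n4809 := d8_1 D6275 (iv D4809) D4808
theorem F21272 : act 7 n6275 = n4811 := d21_2 (iv F16490) D6275 (iv D4811)
def n6276 : Q := act 4 n4809
theorem D6276 : act 4 n4809 = n6276 := rfl
theorem F21273 : act 0 n6276 = n4869 := d3_1 D6276 (iv D4869) (iv F16491)
theorem F21274 : act 2 n6276 = n4820 := d14_1 D6276 (iv D4820) (iv F16492)
theorem F21276 : act 7 n6276 = n4812 := d24_2 (iv F16493) D6276 (iv D4812)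
def n6277 : Q := act 3 n4810
theorem D6277 : act 3 n4810 = n6277 := rfl
theorem F21277 : act 0 n6277 = n4811 := d2_1 D6277 (iv D4811) D4810
theorem F21278 : act 1 n6277 = n4870 := d8_1 D6277 (iv D4870) (iv F16494)
theorem F21279 : act 6 n6277 = n6277 := d20_2 F16496 D6277 (iv D6277)
def n6278 : Q := act 2 n4811
theorem D6278 : act 2 n4811 = n6278 := rfl
theorem F21280 : act 1 n6278 = n4822 := d7_1 D6278 (iv D4822) F12801 (iv F12779) (iv F16497)
def n6279 : Q := act 4 n4811
theorem D6279 : act 4 n4811 = n6279 := rfl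
theorem F21281 : act 1 n6279 = n4812 := d9_1 D6279 (iv D4812) (iv F16497)
theorem F21282 : act 3 n6279 = n6279 := d18_1 D6279 (iv D6279) (iv D4811) F12776 D4811
theorem F21283 : act 6 n6279 = n6279 := d23_2 F16498 D6279 (iv D6279)
def n6280 : Q := act 5 n4812
theorem D6280 : act 5 n4812 = n6280 := rfl
theorem F21284 : act 0 n6280 = n4873 := d4_1 D6280 (iv D4873) (iv F16499)
theorem F21285 : act 2 n6280 = n4824 := d15_1 D6280 (iv D4824) (iv F16500)
theorem F21286 : act 3 n6280 = n6280 := d19_1 D6280 (iv D6280) F16501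
theorem F21287 : act 6 n6280 = n6280 := d25_2 F16502 D6280 (iv D6280)
def n6281 : Q := act 0 n4813
theorem D6281 : act 0 n4813 = n6281 := rfl
theorem F21288 : act 1 n6281 = n4874 := d0_2 D4813 D6281 (iv D4874) (iv D3726) (iv F12781)
theorem F21290 : act 5 n6281 = n4818 := d4_2 (iv F16504) D6281 (iv D4818)
theorem F21292 : act 7 n6281 = n4815 := d6_2 (iv F16506) D6281 (iv D4815)
def n6282 : Q := act 3 n4813
theorem D6282 : act 3 n4813 = n6282 := rfl
theorem F21293 : act 1 n6282 = n4814 := d8_1 D6282 (iv D4814) D4813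
theorem F21294 : act 5 n6282 = n4819 := d19_2 (iv F16504) D6282 (iv D4819)
theorem F21296 : act 7 n6282 = n4816 := d21_2 (iv F16506) D6282 (iv D4816)
def n6283 : Q := act 4 n4814
theorem D6283 : act 4 n4814 = n6283 := rfl
def n6284 : Q := act 3 n4815
theorem D6284 : act 3 n4815 = n6284 := rfl
theorem F21301 : act 0 n6284 = n4816 := d2_1 D6284 (iv D4816) D4815
theorem F21302 : act 1 n6284 = n4877 := d8_1 D6284 (iv D4877) (iv F16511)
theorem F21303 : act 5 n6284 = n4821 := d19_2 (iv F16513) D6284 (iv D4821)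
theorem F21304 : act 6 n6284 = n4834 := d20_2 (iv F16514) D6284 (iv D4834)
def n6285 : Q := act 2 n4816
theorem D6285 : act 2 n4816 = n6285 := rfl
theorem F21305 : act 5 n6285 = n4822 := d15_2 (iv F16516) D6285 (iv D4822)
def n6286 : Q := act 4 n4816
theorem D6286 : act 4 n4816 = n6286 := rfl
theorem F21306 : act 1 n6286 = n4817 := d9_1 D6286 (iv D4817) (iv F16515)
theorem F21307 : act 3 n6286 = n6286 := d18_1 D6286 (iv D6286) (iv D4816) F12786 D4816
theorem F21308 : act 6 n6286 = n4836 := d23_2 (iv F16517) D6286 (iv D4836)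
def n6287 : Q := act 5 n4817
theorem D6287 : act 5 n4817 = n6287 := rfl
theorem F21309 : act 0 n6287 = n4880 := d4_1 D6287 (iv D4880) (iv F16518)
theorem F21310 : act 3 n6287 = n6287 := d19_1 D6287 (iv D6287) F16519
theorem F21311 : act 4 n6287 = n4824 := d22_1 D6287 (iv D4824) (iv D3688) (iv F12790) D4817
theorem F21312 : act 6 n6287 = n4837 := d25_2 (iv F16520) D6287 (iv D4837)
def n6288 : Q := act 3 n4818
theorem D6288 : act 3 n4818 = n6288 := rfl
theorem F21313 : act 0 n6288 = n4819 := d2_1 D6288 (iv D4819) D4818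
theorem F21314 : act 1 n6288 = n4881 := d8_1 D6288 (iv D4881) (iv F16521)
theorem F21315 : act 6 n6288 = n6288 := d20_2 F16523 D6288 (iv D6288)
theorem F21316 : act 7 n6288 = n4821 := d21_2 (iv F16524) D6288 (iv D4821)
def n6289 : Q := act 2 n4819
theorem D6289 : act 2 n4819 = n6289 := rfl
theorem F21317 : act 7 n6289 = n4822 := d17_2 (iv F16527) D6289 (iv D4822)
def n6290 : Q := act 4 n4819
theorem D6290 : act 4 n4819 = n6290 := rfl
theorem F21318 : act 1 n6290 = n4820 := d9_1 D6290 (iv D4820) (iv F16525)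
theorem F21319 : act 3 n6290 = n4827 := d18_1 D6290 (iv D4827) (iv D3690) (iv F12792) D4819
theorem F21320 : act 6 n6290 = n6290 := d23_2 F16526 D6290 (iv D6290)
theorem F21321 : act 7 n6290 = n4823 := d24_2 (iv F16527) D6290 (iv D4823)
def n6291 : Q := act 5 n4820
theorem D6291 : act 5 n4820 = n6291 := rfl
theorem F21322 : act 0 n6291 = n4884 := d4_1 D6291 (iv D4884) (iv F16528)
theorem F21323 : act 3 n6291 = n4828 := d19_1 D6291 (iv D4828) (iv F16529)
theorem F21324 : act 6 n6291 = n6291 := d25_2 F16530 D6291 (iv D6291)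
theorem F21325 : act 7 n6291 = n4824 := d26_2 (iv F16531) D6291 (iv D4824)
def n6292 : Q := act 2 n4821
theorem D6292 : act 2 n4821 = n6292 := rfl
theorem F21326 : act 0 n6292 = n4822 := d1_1 D6292 (iv D4822) (iv F16532)
def n6293 : Q := act 4 n4821
theorem D6293 : act 4 n4821 = n6293 := rfl
theorem F21327 : act 0 n6293 = n4823 := d3_1 D6293 (iv D4823) (iv F16532)
theorem F21328 : act 1 n6293 = n4886 := d9_1 D6293 (iv D4886) (iv F16533)
theorem F21329 : act 3 n6293 = n4830 := d18_1 D6293 (iv D4830) (iv D3692) (iv F12799) D4821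
theorem F21330 : act 6 n6293 = n4839 := d23_2 (iv F16534) D6293 (iv D4839)
def n6294 : Q := act 4 n4822
theorem D6294 : act 4 n4822 = n6294 := rfl
theorem F21331 : act 2 n6294 = n4823 := d14_1 D6294 (iv D4823) D4822
def n6295 : Q := act 6 n4822
theorem D6295 : act 6 n4822 = n6295 := rfl
theorem F21332 : act 2 n6295 = n4841 := d16_1 D6295 (iv D4841) (iv D3700) (iv F12802) D4822
def n6296 : Q := act 5 n4823
theorem D6296 : act 5 n4823 = n6296 := rfl
theorem F21333 : act 1 n6296 = n4824 := d10_1 D6296 (iv D4824) (iv F16535)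
theorem F21334 : act 3 n6296 = n4833 := d19_1 D6296 (iv D4833) (iv F16536)
theorem F21335 : act 6 n6296 = n4842 := d25_2 (iv F16537) D6296 (iv D4842)
def n6297 : Q := act 2 n4825
theorem D6297 : act 2 n4825 = n6297 := rfl
theorem F21336 : act 0 n6297 = n4826 := d1_1 D6297 (iv D4826) (iv F16541)
theorem F21337 : act 5 n6297 = n6297 := d15_2 F16543 D6297 (iv D6297)
theorem F21338 : act 7 n6297 = n4829 := d17_2 (iv F16545) D6297 (iv D4829)
def n6298 : Q := act 4 n4825
theorem D6298 : act 4 n4825 = n6298 := rfl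
theorem F21339 : act 0 n6298 = n4827 := d3_1 D6298 (iv D4827) (iv F16541)
theorem F21340 : act 1 n6298 = n4891 := d9_1 D6298 (iv D4891) (iv F16542)
theorem F21341 : act 6 n6298 = n6298 := d23_2 F16544 D6298 (iv D6298)
theorem F21342 : act 7 n6298 = n4830 := d24_2 (iv F16545) D6298 (iv D4830)
def n6299 : Q := act 4 n4826
theorem D6299 : act 4 n4826 = n6299 := rfl
theorem F21343 : act 1 n6299 = n6299 := d9_1 D6299 (iv D6299) F16546
theorem F21344 : act 2 n6299 = n4827 := d14_1 D6299 (iv D4827) D4826
theorem F21345 : act 7 n6299 = n4831 := d24_2 (iv F16548) D6299 (iv D4831)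
def n6300 : Q := act 6 n4826
theorem D6300 : act 6 n4826 = n6300 := rfl
theorem F21346 : act 1 n6300 = n6300 := d11_1 D6300 (iv D6300) F16546
theorem F21347 : act 2 n6300 = n6300 := d16_1 D6300 (iv D6300) (iv D4826) F12812 D4826
theorem F21348 : act 5 n6300 = n6300 := d25_1 D6300 (iv D6300) F16547
def n6301 : Q := act 5 n4827
theorem D6301 : act 5 n4827 = n6301 := rfl
theorem F21349 : act 1 n6301 = n4828 := d10_1 D6301 (iv D4828) (iv F16549)
theorem F21350 : act 4 n6301 = n6301 := d22_1 D6301 (iv D6301) (iv D4827) F12811 D4827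
theorem F21351 : act 6 n6301 = n6301 := d25_2 F16550 D6301 (iv D6301)
theorem F21352 : act 7 n6301 = n4833 := d26_2 (iv F16551) D6301 (iv D4833)
def n6302 : Q := act 1 n4829
theorem D6302 : act 1 n4829 = n6302 := rfl
theorem F21353 : act 0 n6302 = n6302 := d0_1 D6302 (iv D6302) F16557 F12822 (iv F16557)
theorem F21354 : act 2 n6302 = n4895 := d7_2 D4829 D6302 (iv D4895) (iv D3742) (iv F12819)
theorem F21355 : act 5 n6302 = n6302 := d10_2 F16558 D6302 (iv D6302)
def n6303 : Q := act 4 n4829
theorem D6303 : act 4 n4829 = n6303 := rfl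
theorem F21356 : act 0 n6303 = n4831 := d3_1 D6303 (iv D4831) (iv F16557)
theorem F21357 : act 2 n6303 = n4830 := d14_1 D6303 (iv D4830) D4829
def n6304 : Q := act 6 n4829
theorem D6304 : act 6 n4829 = n6304 := rfl
theorem F21358 : act 0 n6304 = n4832 := d5_1 D6304 (iv D4832) (iv F16557)
theorem F21359 : act 2 n6304 = n4844 := d16_1 D6304 (iv D4844) (iv D3703) (iv F12821) D4829
theorem F21360 : act 5 n6304 = n6304 := d25_1 D6304 (iv D6304) F16558
def n6305 : Q := act 5 n4830
theorem D6305 : act 5 n4830 = n6305 := rfl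
theorem F21361 : act 0 n6305 = n4833 := d4_1 D6305 (iv D4833) (iv F16559)
theorem F21362 : act 1 n6305 = n4897 := d10_1 D6305 (iv D4897) (iv F16560)
theorem F21363 : act 4 n6305 = n6305 := d22_1 D6305 (iv D6305) (iv D4830) F12820 D4830
theorem F21364 : act 6 n6305 = n4845 := d25_2 (iv F16561) D6305 (iv D4845)
def n6306 : Q := act 3 n4831
theorem D6306 : act 3 n4831 = n6306 := rfl
theorem F21365 : act 1 n6306 = n6306 := d8_1 D6306 (iv D6306) F16562
def n6307 : Q := act 5 n4831
theorem D6307 : act 5 n4831 = n6307 := rfl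
theorem F21366 : act 1 n6307 = n6307 := d10_1 D6307 (iv D6307) F16562
theorem F21367 : act 2 n6307 = n4833 := d15_1 D6307 (iv D4833) (iv F16563)
theorem F21368 : act 4 n6307 = n6307 := d22_1 D6307 (iv D6307) (iv D4831) F12823 D4831
def n6308 : Q := act 6 n4831
theorem D6308 : act 6 n4831 = n6308 := rfl
theorem F21369 : act 1 n6308 = n6308 := d11_1 D6308 (iv D6308) F16562
theorem F21370 : act 2 n6308 = n4848 := d16_1 D6308 (iv D4848) F12864 (iv F12825) (iv F16563)
theorem F21371 : act 4 n6308 = n4832 := d23_1 D6308 (iv D4832) D4831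
def n6309 : Q := act 7 n4832
theorem D6309 : act 7 n4832 = n6309 := rfl
theorem F21372 : act 1 n6309 = n6309 := d12_1 D6309 (iv D6309) F16564
theorem F21373 : act 2 n6309 = n4849 := d17_1 D6309 (iv D4849) (iv F16565)
theorem F21374 : act 5 n6309 = n6309 := d26_1 D6309 (iv D6309) F16566
def n6310 : Q := act 2 n4834
theorem D6310 : act 2 n4834 = n6310 := rfl
theorem F21375 : act 0 n6310 = n4835 := d1_1 D6310 (iv D4835) (iv F16570)
theorem F21376 : act 3 n6310 = n6310 := d13_2 D4834 D6310 (iv D6310) (iv D4834) F12831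
theorem F21377 : act 5 n6310 = n4838 := d15_2 (iv F16572) D6310 (iv D4838)
theorem F21378 : act 7 n6310 = n6310 := d17_2 F16573 D6310 (iv D6310)
def n6311 : Q := act 4 n4834
theorem D6311 : act 4 n4834 = n6311 := rfl
theorem F21379 : act 0 n6311 = n4836 := d3_1 D6311 (iv D4836) (iv F16570)
theorem F21380 : act 1 n6311 = n4901 := d9_1 D6311 (iv D4901) (iv F16571)
theorem F21381 : act 3 n6311 = n6311 := d18_1 D6311 (iv D6311) (iv D4834) F12832 D4834
theorem F21382 : act 7 n6311 = n6311 := d24_2 F16573 D6311 (iv D6311)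
def n6312 : Q := act 4 n4835
theorem D6312 : act 4 n4835 = n6312 := rfl
theorem F21383 : act 1 n6312 = n6312 := d9_1 D6312 (iv D6312) F16574
theorem F21384 : act 2 n6312 = n4836 := d14_1 D6312 (iv D4836) D4835
theorem F21385 : act 7 n6312 = n6312 := d24_2 F16577 D6312 (iv D6312)
def n6313 : Q := act 6 n4835
theorem D6313 : act 6 n4835 = n6313 := rfl
theorem F21386 : act 1 n6313 = n6313 := d11_1 D6313 (iv D6313) F16574
theorem F21387 : act 3 n6313 = n6313 := d20_1 D6313 (iv D6313) F16575
theorem F21388 : act 5 n6313 = n4841 := d25_1 D6313 (iv D4841) (iv F16576)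
def n6314 : Q := act 5 n4836
theorem D6314 : act 5 n4836 = n6314 := rfl
theorem F21389 : act 1 n6314 = n4837 := d10_1 D6314 (iv D4837) (iv F16578)
theorem F21390 : act 3 n6314 = n6314 := d19_1 D6314 (iv D6314) F16579
theorem F21391 : act 4 n6314 = n4842 := d22_1 D6314 (iv D4842) (iv D3701) (iv F12836) D4836
theorem F21392 : act 7 n6314 = n6314 := d26_2 F16580 D6314 (iv D6314)
def n6315 : Q := act 1 n4838
theorem D6315 : act 1 n4838 = n6315 := rfl
theorem F21393 : act 0 n6315 = n6315 := d0_1 D6315 (iv D6315) F16586 F12845 (iv F16586)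
theorem F21394 : act 2 n6315 = n4905 := d7_2 D4838 D6315 (iv D4905) (iv D3750) (iv F12843)
theorem F21395 : act 3 n6315 = n6315 := d8_2 F16587 D6315 (iv D6315)
theorem F21396 : act 7 n6315 = n6315 := d12_2 F16588 D6315 (iv D6315)
def n6316 : Q := act 4 n4838
theorem D6316 : act 4 n4838 = n6316 := rfl
theorem F21397 : act 0 n6316 = n4840 := d3_1 D6316 (iv D4840) (iv F16586)
theorem F21398 : act 2 n6316 = n4839 := d14_1 D6316 (iv D4839) D4838
theorem F21399 : act 7 n6316 = n6316 := d24_2 F16588 D6316 (iv D6316)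
def n6317 : Q := act 6 n4838
theorem D6317 : act 6 n4838 = n6317 := rfl
theorem F21400 : act 0 n6317 = n4841 := d5_1 D6317 (iv D4841) (iv F16586)
theorem F21401 : act 3 n6317 = n6317 := d20_1 D6317 (iv D6317) F16587
def n6318 : Q := act 5 n4839
theorem D6318 : act 5 n4839 = n6318 := rfl
theorem F21402 : act 0 n6318 = n4842 := d4_1 D6318 (iv D4842) (iv F16589)
theorem F21403 : act 1 n6318 = n4908 := d10_1 D6318 (iv D4908) (iv F16590)
theorem F21404 : act 3 n6318 = n4845 := d19_1 D6318 (iv D4845) (iv F16591)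
theorem F21405 : act 7 n6318 = n6318 := d26_2 F16592 D6318 (iv D6318)
def n6319 : Q := act 3 n4840
theorem D6319 : act 3 n4840 = n6319 := rfl
theorem F21406 : act 1 n6319 = n6319 := d8_1 D6319 (iv D6319) F16593
theorem F21407 : act 2 n6319 = n4846 := d13_1 D6319 (iv D4846) F12864 (iv F12849) (iv F16594)
theorem F21408 : act 4 n6319 = n6319 := d18_2 D4840 D6319 (iv D6319) (iv D4840) F12846
theorem F21409 : act 7 n6319 = n6319 := d21_2 F16595 D6319 (iv D6319)
def n6320 : Q := act 5 n4840
theorem D6320 : act 5 n4840 = n6320 := rfl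
theorem F21410 : act 1 n6320 = n6320 := d10_1 D6320 (iv D6320) F16593
theorem F21411 : act 2 n6320 = n4842 := d15_1 D6320 (iv D4842) (iv F16594)
theorem F21412 : act 7 n6320 = n6320 := d26_2 F16595 D6320 (iv D6320)
def n6321 : Q := act 6 n4840
theorem D6321 : act 6 n4840 = n6321 := rfl
theorem F21413 : act 1 n6321 = n6321 := d11_1 D6321 (iv D6321) F16593
theorem F21414 : act 4 n6321 = n4841 := d23_1 D6321 (iv D4841) D4840
def n6322 : Q := act 7 n4841
theorem D6322 : act 7 n4841 = n6322 := rfl
theorem F21415 : act 1 n6322 = n6322 := d12_1 D6322 (iv D6322) F16596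
theorem F21416 : act 3 n6322 = n6322 := d21_1 D6322 (iv D6322) F16597
theorem F21417 : act 6 n6322 = n6322 := d27_1 D6322 (iv D6322) (iv D4841) F12847 D4841
def n6323 : Q := act 3 n4843
theorem D6323 : act 3 n4843 = n6323 := rfl
theorem F21418 : act 0 n6323 = n4846 := d2_1 D6323 (iv D4846) (iv F16601)
theorem F21419 : act 1 n6323 = n6323 := d8_1 D6323 (iv D6323) F16602
theorem F21420 : act 4 n6323 = n6323 := d18_2 D4843 D6323 (iv D6323) (iv D4843) F12857
theorem F21421 : act 7 n6323 = n6323 := d21_2 F16604 D6323 (iv D6323)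
def n6324 : Q := act 5 n4843
theorem D6324 : act 5 n4843 = n6324 := rfl
theorem F21422 : act 0 n6324 = n4847 := d4_1 D6324 (iv D4847) (iv F16601)
theorem F21423 : act 1 n6324 = n6324 := d10_1 D6324 (iv D6324) F16602
theorem F21424 : act 2 n6324 = n4845 := d15_1 D6324 (iv D4845) (iv F16603)
theorem F21425 : act 4 n6324 = n6324 := d22_1 D6324 (iv D6324) (iv D4843) F12858 D4843
theorem F21426 : act 7 n6324 = n6324 := d26_2 F16604 D6324 (iv D6324)
def n6325 : Q := act 6 n4843
theorem D6325 : act 6 n4843 = n6325 := rfl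
theorem F21427 : act 0 n6325 = n4848 := d5_1 D6325 (iv D4848) (iv F16601)
theorem F21428 : act 1 n6325 = n6325 := d11_1 D6325 (iv D6325) F16602
theorem F21429 : act 4 n6325 = n4844 := d23_1 D6325 (iv D4844) D4843
def n6326 : Q := act 7 n4844
theorem D6326 : act 7 n4844 = n6326 := rfl
theorem F21430 : act 0 n6326 = n4849 := d6_1 D6326 (iv D4849) (iv F16605)
theorem F21431 : act 1 n6326 = n6326 := d12_1 D6326 (iv D6326) F16606
theorem F21432 : act 3 n6326 = n6326 := d21_1 D6326 (iv D6326) F16607
theorem F21433 : act 5 n6326 = n6326 := d26_1 D6326 (iv D6326) F16608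
theorem F21434 : act 6 n6326 = n6326 := d27_1 D6326 (iv D6326) (iv D4844) F12859 D4844
def n6327 : Q := act 5 n4846
theorem D6327 : act 5 n4846 = n6327 := rfl
theorem F21436 : act 3 n6327 = n4847 := d19_1 D6327 (iv D4847) D4846
def n6328 : Q := act 6 n4846
theorem D6328 : act 6 n4846 = n6328 := rfl
theorem F21439 : act 3 n6328 = n4848 := d20_1 D6328 (iv D4848) D4846
def n6329 : Q := act 6 n4847
theorem D6329 : act 6 n4847 = n6329 := rfl
theorem F21441 : act 1 n6329 = n4852 := d11_1 D6329 (iv D4852) (iv F16616)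
theorem F21443 : act 5 n6329 = n4848 := d25_1 D6329 (iv D4848) D4847
def n6330 : Q := act 7 n4848
theorem D6330 : act 7 n4848 = n6330 := rfl
theorem F21445 : act 4 n6330 = n4849 := d24_1 D6330 (iv D4849) (iv F16621)
def n6345 : Q := act 0 n4860
theorem D6345 : act 0 n4860 = n6345 := rfl
theorem F21503 : act 5 n6345 = n4867 := d4_2 (iv F16664) D6345 (iv D4867)
def n6346 : Q := act 3 n4860
theorem D6346 : act 3 n4860 = n6346 := rfl
theorem F21507 : act 7 n6346 = n4863 := d21_2 (iv F16665) D6346 (iv D4863)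
def n6348 : Q := act 3 n4862
theorem D6348 : act 3 n4862 = n6348 := rfl
theorem F21510 : act 0 n6348 = n4863 := d2_1 D6348 (iv D4863) D4862
theorem F21511 : act 5 n6348 = n4870 := d19_2 (iv F16670) D6348 (iv D4870)
def n6349 : Q := act 2 n4863
theorem D6349 : act 2 n4863 = n6349 := rfl
theorem F21513 : act 1 n6349 = n4878 := d7_1 D6349 (iv D4878) F12945 (iv F12914) (iv F16672)
theorem F21514 : act 3 n6349 = n5070 := d13_2 D4863 D6349 (iv D5070) (iv D3870) (iv F12911)
theorem F21515 : act 5 n6349 = n4871 := d15_2 (iv F16673) D6349 (iv D4871)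
def n6355 : Q := act 3 n4867
theorem D6355 : act 3 n4867 = n6355 := rfl
theorem F21532 : act 0 n6355 = n4868 := d2_1 D6355 (iv D4868) D4867
theorem F21533 : act 7 n6355 = n4870 := d21_2 (iv F16686) D6355 (iv D4870)
def n6356 : Q := act 2 n4868
theorem D6356 : act 2 n4868 = n6356 := rfl
theorem F21534 : act 1 n6356 = n4882 := d7_1 D6356 (iv D4882) F12954 (iv F12923) (iv F16687)
theorem F21535 : act 3 n6356 = n5074 := d13_2 D4868 D6356 (iv D5074) (iv D3873) (iv F12920)
theorem F21536 : act 7 n6356 = n4871 := d17_2 (iv F16688) D6356 (iv D4871)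
def n6357 : Q := act 4 n4868
theorem D6357 : act 4 n4868 = n6357 := rfl
theorem F21539 : act 7 n6357 = n4872 := d24_2 (iv F16688) D6357 (iv D4872)
def n6358 : Q := act 5 n4869
theorem D6358 : act 5 n4869 = n6358 := rfl
theorem F21540 : act 2 n6358 = n4884 := d15_1 D6358 (iv D4884) (iv F16689)
theorem F21542 : act 7 n6358 = n4873 := d26_2 (iv F16691) D6358 (iv D4873)
def n6359 : Q := act 2 n4870
theorem D6359 : act 2 n4870 = n6359 := rfl
theorem F21543 : act 0 n6359 = n4871 := d1_1 D6359 (iv D4871) (iv F16692)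
theorem F21544 : act 3 n6359 = n5077 := d13_2 D4870 D6359 (iv D5077) (iv D3875) (iv F12925)
def n6360 : Q := act 4 n4870
theorem D6360 : act 4 n4870 = n6360 := rfl
theorem F21545 : act 0 n6360 = n4872 := d3_1 D6360 (iv D4872) (iv F16692)
theorem F21546 : act 3 n6360 = n6360 := d18_1 D6360 (iv D6360) (iv D4870) F12926 D4870
theorem F21547 : act 6 n6360 = n6360 := d23_2 F16693 D6360 (iv D6360)
def n6361 : Q := act 4 n4871
theorem D6361 : act 4 n4871 = n6361 := rfl
theorem F21548 : act 1 n6361 = n4887 := d9_1 D6361 (iv D4887) (iv F16694)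
theorem F21549 : act 2 n6361 = n4872 := d14_1 D6361 (iv D4872) D4871
def n6362 : Q := act 6 n4871
theorem D6362 : act 6 n4871 = n6362 := rfl
theorem F21550 : act 1 n6362 = n4888 := d11_1 D6362 (iv D4888) (iv F16694)
theorem F21551 : act 2 n6362 = n6362 := d16_1 D6362 (iv D6362) (iv D4871) F12929 D4871
theorem F21552 : act 3 n6362 = n5080 := d20_1 D6362 (iv D5080) (iv F16695)
def n6363 : Q := act 5 n4872
theorem D6363 : act 5 n4872 = n6363 := rfl
theorem F21553 : act 1 n6363 = n4873 := d10_1 D6363 (iv D4873) (iv F16696)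
theorem F21554 : act 3 n6363 = n6363 := d19_1 D6363 (iv D6363) F16697
theorem F21555 : act 6 n6363 = n6363 := d25_2 F16698 D6363 (iv D6363)
def n6364 : Q := act 3 n4874
theorem D6364 : act 3 n4874 = n6364 := rfl
theorem F21556 : act 0 n6364 = n4875 := d2_1 D6364 (iv D4875) D4874
theorem F21557 : act 5 n6364 = n4881 := d19_2 (iv F16704) D6364 (iv D4881)
theorem F21559 : act 7 n6364 = n4877 := d21_2 (iv F16706) D6364 (iv D4877)
def n6365 : Q := act 2 n4875
theorem D6365 : act 2 n4875 = n6365 := rfl
theorem F21560 : act 3 n6365 = n5083 := d13_2 D4875 D6365 (iv D5083) (iv D3880) (iv F12933)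
theorem F21561 : act 5 n6365 = n4882 := d15_2 (iv F16708) D6365 (iv D4882)
theorem F21562 : act 7 n6365 = n4878 := d17_2 (iv F16710) D6365 (iv D4878)
def n6366 : Q := act 4 n4875
theorem D6366 : act 4 n4875 = n6366 := rfl
theorem F21563 : act 1 n6366 = n4876 := d9_1 D6366 (iv D4876) (iv F16707)
theorem F21566 : act 7 n6366 = n4879 := d24_2 (iv F16710) D6366 (iv D4879)
def n6367 : Q := act 5 n4876
theorem D6367 : act 5 n4876 = n6367 := rfl
theorem F21568 : act 4 n6367 = n4884 := d22_1 D6367 (iv D4884) (iv D3733) (iv F12938) D4876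
theorem F21570 : act 7 n6367 = n4880 := d26_2 (iv F16713) D6367 (iv D4880)
def n6368 : Q := act 2 n4877
theorem D6368 : act 2 n4877 = n6368 := rfl
theorem F21571 : act 0 n6368 = n4878 := d1_1 D6368 (iv D4878) (iv F16714)
theorem F21572 : act 3 n6368 = n5086 := d13_2 D4877 D6368 (iv D5086) (iv D3882) (iv F12941)
theorem F21573 : act 5 n6368 = n4885 := d15_2 (iv F16715) D6368 (iv D4885)
def n6369 : Q := act 4 n4877
theorem D6369 : act 4 n4877 = n6369 := rfl
theorem F21574 : act 0 n6369 = n4879 := d3_1 D6369 (iv D4879) (iv F16714)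
theorem F21575 : act 3 n6369 = n6369 := d18_1 D6369 (iv D6369) (iv D4877) F12942 D4877
theorem F21576 : act 6 n6369 = n4901 := d23_2 (iv F16716) D6369 (iv D4901)
def n6370 : Q := act 4 n4878
theorem D6370 : act 4 n4878 = n6370 := rfl
theorem F21577 : act 2 n6370 = n4879 := d14_1 D6370 (iv D4879) D4878
def n6371 : Q := act 6 n4878
theorem D6371 : act 6 n4878 = n6371 := rfl
theorem F21578 : act 2 n6371 = n4903 := d16_1 D6371 (iv D4903) (iv D3747) (iv F12947) D4878
theorem F21579 : act 3 n6371 = n5089 := d20_1 D6371 (iv D5089) (iv F16717)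
theorem F21580 : act 5 n6371 = n4888 := d25_1 D6371 (iv D4888) (iv F16718)
def n6372 : Q := act 5 n4879
theorem D6372 : act 5 n4879 = n6372 := rfl
theorem F21581 : act 1 n6372 = n4880 := d10_1 D6372 (iv D4880) (iv F16719)
theorem F21582 : act 3 n6372 = n6372 := d19_1 D6372 (iv D6372) F16720
theorem F21583 : act 4 n6372 = n4889 := d22_1 D6372 (iv D4889) (iv D3736) (iv F12946) D4879
theorem F21584 : act 6 n6372 = n4904 := d25_2 (iv F16721) D6372 (iv D4904)
def n6373 : Q := act 2 n4881
theorem D6373 : act 2 n4881 = n6373 := rfl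
theorem F21585 : act 0 n6373 = n4882 := d1_1 D6373 (iv D4882) (iv F16725)
theorem F21586 : act 3 n6373 = n5091 := d13_2 D4881 D6373 (iv D5091) (iv D3886) (iv F12950)
theorem F21587 : act 7 n6373 = n4885 := d17_2 (iv F16727) D6373 (iv D4885)
def n6374 : Q := act 4 n4881
theorem D6374 : act 4 n4881 = n6374 := rfl
theorem F21588 : act 0 n6374 = n4883 := d3_1 D6374 (iv D4883) (iv F16725)
theorem F21589 : act 3 n6374 = n4891 := d18_1 D6374 (iv D4891) (iv D3738) (iv F12951) D4881
theorem F21590 : act 6 n6374 = n6374 := d23_2 F16726 D6374 (iv D6374)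
theorem F21591 : act 7 n6374 = n4886 := d24_2 (iv F16727) D6374 (iv D4886)
def n6375 : Q := act 4 n4882
theorem D6375 : act 4 n4882 = n6375 := rfl
theorem F21592 : act 2 n6375 = n4883 := d14_1 D6375 (iv D4883) D4882
theorem F21593 : act 7 n6375 = n4887 := d24_2 (iv F16729) D6375 (iv D4887)
def n6376 : Q := act 6 n4882
theorem D6376 : act 6 n4882 = n6376 := rfl
theorem F21594 : act 2 n6376 = n6376 := d16_1 D6376 (iv D6376) (iv D4882) F12955 D4882
theorem F21595 : act 3 n6376 = n5094 := d20_1 D6376 (iv D5094) (iv F16728)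
def n6377 : Q := act 5 n4883
theorem D6377 : act 5 n4883 = n6377 := rfl
theorem F21596 : act 1 n6377 = n4884 := d10_1 D6377 (iv D4884) (iv F16730)
theorem F21597 : act 3 n6377 = n4894 := d19_1 D6377 (iv D4894) (iv F16731)
theorem F21598 : act 6 n6377 = n6377 := d25_2 F16732 D6377 (iv D6377)
theorem F21599 : act 7 n6377 = n4889 := d26_2 (iv F16733) D6377 (iv D4889)
def n6378 : Q := act 1 n4885
theorem D6378 : act 1 n4885 = n6378 := rfl
theorem F21600 : act 3 n6378 = n5096 := d8_2 (iv F16738) D6378 (iv D5096)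
def n6379 : Q := act 4 n4885
theorem D6379 : act 4 n4885 = n6379 := rfl
theorem F21601 : act 0 n6379 = n4887 := d3_1 D6379 (iv D4887) (iv F16737)
theorem F21602 : act 2 n6379 = n4886 := d14_1 D6379 (iv D4886) D4885
def n6380 : Q := act 6 n4885
theorem D6380 : act 6 n4885 = n6380 := rfl
theorem F21603 : act 0 n6380 = n4888 := d5_1 D6380 (iv D4888) (iv F16737)
theorem F21604 : act 2 n6380 = n4907 := d16_1 D6380 (iv D4907) (iv D3750) (iv F12961) D4885
theorem F21605 : act 3 n6380 = n5098 := d20_1 D6380 (iv D5098) (iv F16738)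
def n6381 : Q := act 5 n4886
theorem D6381 : act 5 n4886 = n6381 := rfl
theorem F21606 : act 0 n6381 = n4889 := d4_1 D6381 (iv D4889) (iv F16739)
theorem F21607 : act 3 n6381 = n4897 := d19_1 D6381 (iv D4897) (iv F16740)
theorem F21608 : act 6 n6381 = n4908 := d25_2 (iv F16741) D6381 (iv D4908)
def n6382 : Q := act 3 n4887
theorem D6382 : act 3 n4887 = n6382 := rfl
theorem F21609 : act 2 n6382 = n4898 := d13_1 D6382 (iv D4898) F12990 (iv F12964) (iv F16742)
theorem F21610 : act 4 n6382 = n5100 := d18_2 D4887 D6382 (iv D5100) (iv D3892) (iv F12962)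
def n6383 : Q := act 5 n4887
theorem D6383 : act 5 n4887 = n6383 := rfl
theorem F21611 : act 2 n6383 = n4889 := d15_1 D6383 (iv D4889) (iv F16742)
def n6384 : Q := act 6 n4887
theorem D6384 : act 6 n4887 = n6384 := rfl
theorem F21612 : act 2 n6384 = n4910 := d16_1 D6384 (iv D4910) F13016 (iv F12965) (iv F16742)
theorem F21613 : act 4 n6384 = n4888 := d23_1 D6384 (iv D4888) D4887
def n6385 : Q := act 7 n4888
theorem D6385 : act 7 n4888 = n6385 := rfl
theorem F21614 : act 2 n6385 = n4911 := d17_1 D6385 (iv D4911) (iv F16743)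
theorem F21615 : act 3 n6385 = n5103 := d21_1 D6385 (iv D5103) (iv F16744)
def n6386 : Q := act 1 n4890
theorem D6386 : act 1 n4890 = n6386 := rfl
theorem F21616 : act 0 n6386 = n6386 := d0_1 D6386 (iv D6386) F16748 F12972 (iv F16748)
theorem F21617 : act 3 n6386 = n5104 := d8_2 (iv F16749) D6386 (iv D5104)
theorem F21618 : act 5 n6386 = n6386 := d10_2 F16750 D6386 (iv D6386)
theorem F21619 : act 7 n6386 = n4895 := d12_2 (iv F16751) D6386 (iv D4895)
def n6387 : Q := act 4 n4890
theorem D6387 : act 4 n4890 = n6387 := rfl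
theorem F21620 : act 0 n6387 = n4892 := d3_1 D6387 (iv D4892) (iv F16748)
theorem F21621 : act 2 n6387 = n4891 := d14_1 D6387 (iv D4891) D4890
theorem F21622 : act 7 n6387 = n4896 := d24_2 (iv F16751) D6387 (iv D4896)
def n6388 : Q := act 6 n4890
theorem D6388 : act 6 n4890 = n6388 := rfl
theorem F21623 : act 0 n6388 = n4893 := d5_1 D6388 (iv D4893) (iv F16748)
theorem F21624 : act 2 n6388 = n6388 := d16_1 D6388 (iv D6388) (iv D4890) F12970 D4890
theorem F21625 : act 3 n6388 = n5106 := d20_1 D6388 (iv D5106) (iv F16749)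
theorem F21626 : act 5 n6388 = n6388 := d25_1 D6388 (iv D6388) F16750
theorem F21627 : act 7 n6388 = n6388 := d27_2 (iv F16751) D6388 (iv D6388) F16751 F12986
def n6389 : Q := act 5 n4891
theorem D6389 : act 5 n4891 = n6389 := rfl
theorem F21628 : act 0 n6389 = n4894 := d4_1 D6389 (iv D4894) (iv F16752)
theorem F21629 : act 4 n6389 = n6389 := d22_1 D6389 (iv D6389) (iv D4891) F12969 D4891
theorem F21630 : act 6 n6389 = n6389 := d25_2 F16753 D6389 (iv D6389)
theorem F21631 : act 7 n6389 = n4897 := d26_2 (iv F16754) D6389 (iv D4897)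
def n6390 : Q := act 3 n4892
theorem D6390 : act 3 n4892 = n6390 := rfl
theorem F21632 : act 1 n6390 = n6390 := d8_1 D6390 (iv D6390) F16755
theorem F21633 : act 4 n6390 = n5108 := d18_2 D4892 D6390 (iv D5108) (iv D3897) (iv F12973)
theorem F21634 : act 7 n6390 = n4898 := d21_2 (iv F16757) D6390 (iv D4898)
def n6391 : Q := act 5 n4892
theorem D6391 : act 5 n4892 = n6391 := rfl
theorem F21635 : act 1 n6391 = n6391 := d10_1 D6391 (iv D6391) F16755
theorem F21636 : act 2 n6391 = n4894 := d15_1 D6391 (iv D4894) (iv F16756)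
theorem F21637 : act 4 n6391 = n6391 := d22_1 D6391 (iv D6391) (iv D4892) F12974 D4892
theorem F21638 : act 7 n6391 = n4899 := d26_2 (iv F16757) D6391 (iv D4899)
def n6392 : Q := act 6 n4892
theorem D6392 : act 6 n4892 = n6392 := rfl
theorem F21639 : act 1 n6392 = n6392 := d11_1 D6392 (iv D6392) F16755
theorem F21640 : act 2 n6392 = n6392 := d16_1 D6392 (iv D6392) F16756 F12977 (iv F16756)
theorem F21641 : act 4 n6392 = n4893 := d23_1 D6392 (iv D4893) D4892
theorem F21642 : act 7 n6392 = n6392 := d27_2 (iv F16757) D6392 (iv D6392) F16757 F12991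
def n6393 : Q := act 4 n4895
theorem D6393 : act 4 n4895 = n6393 := rfl
theorem F21643 : act 0 n6393 = n6393 := d3_1 D6393 (iv D6393) F16767
theorem F21644 : act 1 n6393 = n4896 := d9_1 D6393 (iv D4896) D4895
theorem F21645 : act 6 n6393 = n6393 := d23_2 F16770 D6393 (iv D6393)
def n6394 : Q := act 3 n4896
theorem D6394 : act 3 n4896 = n6394 := rfl
theorem F21646 : act 0 n6394 = n4898 := d2_1 D6394 (iv D4898) (iv F16771)
theorem F21647 : act 4 n6394 = n5112 := d18_2 D4896 D6394 (iv D5112) (iv D3901) (iv F12984)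
theorem F21648 : act 6 n6394 = n6394 := d20_2 F16773 D6394 (iv D6394)
def n6395 : Q := act 5 n4896
theorem D6395 : act 5 n4896 = n6395 := rfl
theorem F21649 : act 0 n6395 = n4899 := d4_1 D6395 (iv D4899) (iv F16771)
theorem F21650 : act 2 n6395 = n4897 := d15_1 D6395 (iv D4897) (iv F16772)
theorem F21651 : act 4 n6395 = n6395 := d22_1 D6395 (iv D6395) (iv D4896) F12985 D4896
theorem F21652 : act 6 n6395 = n6395 := d25_2 F16773 D6395 (iv D6395)
def n6396 : Q := act 5 n4898
theorem D6396 : act 5 n4898 = n6396 := rfl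
theorem F21653 : act 1 n6396 = n6396 := d10_1 D6396 (iv D6396) F16777
theorem F21654 : act 3 n6396 = n4899 := d19_1 D6396 (iv D4899) D4898
theorem F21655 : act 6 n6396 = n6396 := d25_2 F16779 D6396 (iv D6396)
def n6397 : Q := act 1 n4900
theorem D6397 : act 1 n4900 = n6397 := rfl
theorem F21656 : act 0 n6397 = n6397 := d0_1 D6397 (iv D6397) F16784 F12998 (iv F16784)
theorem F21657 : act 3 n6397 = n4912 := d8_2 (iv F16785) D6397 (iv D4912)
theorem F21658 : act 5 n6397 = n4905 := d10_2 (iv F16786) D6397 (iv D4905)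
theorem F21659 : act 7 n6397 = n6397 := d12_2 F16787 D6397 (iv D6397)
def n6398 : Q := act 4 n4900
theorem D6398 : act 4 n4900 = n6398 := rfl
theorem F21660 : act 0 n6398 = n4902 := d3_1 D6398 (iv D4902) (iv F16784)
theorem F21661 : act 2 n6398 = n4901 := d14_1 D6398 (iv D4901) D4900
theorem F21662 : act 7 n6398 = n6398 := d24_2 F16787 D6398 (iv D6398)
def n6399 : Q := act 6 n4900
theorem D6399 : act 6 n4900 = n6399 := rfl
theorem F21663 : act 0 n6399 = n4903 := d5_1 D6399 (iv D4903) (iv F16784)
theorem F21664 : act 3 n6399 = n4914 := d20_1 D6399 (iv D4914) (iv F16785)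
theorem F21665 : act 5 n6399 = n4907 := d25_1 D6399 (iv D4907) (iv F16786)
def n6400 : Q := act 5 n4901
theorem D6400 : act 5 n4901 = n6400 := rfl
theorem F21666 : act 0 n6400 = n4904 := d4_1 D6400 (iv D4904) (iv F16788)
theorem F21667 : act 3 n6400 = n6400 := d19_1 D6400 (iv D6400) F16789
theorem F21668 : act 4 n6400 = n4908 := d22_1 D6400 (iv D4908) (iv D3751) (iv F12996) D4901
theorem F21669 : act 7 n6400 = n6400 := d26_2 F16790 D6400 (iv D6400)
def n6401 : Q := act 3 n4902
theorem D6401 : act 3 n4902 = n6401 := rfl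
theorem F21670 : act 1 n6401 = n6401 := d8_1 D6401 (iv D6401) F16791
theorem F21671 : act 2 n6401 = n6401 := d13_1 D6401 (iv D6401) F16792 F13003 (iv F16792)
theorem F21672 : act 4 n6401 = n4915 := d18_2 D4902 D6401 (iv D4915) (iv D3758) (iv F12999)
theorem F21673 : act 7 n6401 = n6401 := d21_2 F16793 D6401 (iv D6401)
def n6402 : Q := act 5 n4902
theorem D6402 : act 5 n4902 = n6402 := rfl
theorem F21674 : act 1 n6402 = n6402 := d10_1 D6402 (iv D6402) F16791
theorem F21675 : act 2 n6402 = n4904 := d15_1 D6402 (iv D4904) (iv F16792)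
theorem F21676 : act 4 n6402 = n4909 := d22_1 D6402 (iv D4909) (iv D3752) (iv F13000) D4902
theorem F21677 : act 7 n6402 = n6402 := d26_2 F16793 D6402 (iv D6402)
def n6403 : Q := act 6 n4902
theorem D6403 : act 6 n4902 = n6403 := rfl
theorem F21678 : act 1 n6403 = n6403 := d11_1 D6403 (iv D6403) F16791
theorem F21679 : act 4 n6403 = n4903 := d23_1 D6403 (iv D4903) D4902
def n6404 : Q := act 7 n4903
theorem D6404 : act 7 n4903 = n6404 := rfl
theorem F21680 : act 1 n6404 = n6404 := d12_1 D6404 (iv D6404) F16794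
theorem F21681 : act 3 n6404 = n4917 := d21_1 D6404 (iv D4917) (iv F16795)
theorem F21682 : act 5 n6404 = n4911 := d26_1 D6404 (iv D4911) (iv F16796)
theorem F21683 : act 6 n6404 = n6404 := d27_1 D6404 (iv D6404) (iv D4903) F13001 D4903
def n6405 : Q := act 4 n4905
theorem D6405 : act 4 n4905 = n6405 := rfl
theorem F21684 : act 0 n6405 = n6405 := d3_1 D6405 (iv D6405) F16801
theorem F21685 : act 1 n6405 = n4906 := d9_1 D6405 (iv D4906) D4905
theorem F21686 : act 3 n6405 = n6405 := d18_1 D6405 (iv D6405) F16802 F13046 (iv F16802)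
theorem F21687 : act 7 n6405 = n6405 := d24_2 F16803 D6405 (iv D6405)
def n6406 : Q := act 6 n4905
theorem D6406 : act 6 n4905 = n6406 := rfl
theorem F21688 : act 0 n6406 = n6406 := d5_1 D6406 (iv D6406) F16801
theorem F21689 : act 1 n6406 = n4907 := d11_1 D6406 (iv D4907) D4905
theorem F21690 : act 3 n6406 = n4918 := d20_1 D6406 (iv D4918) (iv F16802)
def n6407 : Q := act 5 n4906
theorem D6407 : act 5 n4906 = n6407 := rfl
theorem F21691 : act 0 n6407 = n4909 := d4_1 D6407 (iv D4909) (iv F16804)
theorem F21692 : act 2 n6407 = n4908 := d15_1 D6407 (iv D4908) (iv F16805)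
theorem F21693 : act 3 n6407 = n6407 := d19_1 D6407 (iv D6407) F16806
theorem F21694 : act 7 n6407 = n6407 := d26_2 F16807 D6407 (iv D6407)
def n6408 : Q := act 6 n4906
theorem D6408 : act 6 n4906 = n6408 := rfl
theorem F21695 : act 0 n6408 = n4910 := d5_1 D6408 (iv D4910) (iv F16804)
theorem F21696 : act 3 n6408 = n6408 := d20_1 D6408 (iv D6408) F16806
theorem F21697 : act 4 n6408 = n4907 := d23_1 D6408 (iv D4907) D4906
def n6409 : Q := act 7 n4907
theorem D6409 : act 7 n4907 = n6409 := rfl
theorem F21698 : act 0 n6409 = n4911 := d6_1 D6409 (iv D4911) (iv F16808)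
theorem F21699 : act 3 n6409 = n4919 := d21_1 D6409 (iv D4919) (iv F16809)
theorem F21700 : act 6 n6409 = n6409 := d27_1 D6409 (iv D6409) (iv D4907) F13011 D4907
def n6410 : Q := act 6 n4909
theorem D6410 : act 6 n4909 = n6410 := rfl
theorem F21701 : act 1 n6410 = n6410 := d11_1 D6410 (iv D6410) F16813
theorem F21702 : act 3 n6410 = n6410 := d20_1 D6410 (iv D6410) F16815
theorem F21703 : act 5 n6410 = n4910 := d25_1 D6410 (iv D4910) D4909
def n6411 : Q := act 7 n4910
theorem D6411 : act 7 n4910 = n6411 := rfl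
theorem F21704 : act 1 n6411 = n6411 := d12_1 D6411 (iv D6411) F16817
theorem F21705 : act 3 n6411 = n6411 := d21_1 D6411 (iv D6411) F16818
theorem F21706 : act 4 n6411 = n4911 := d24_1 D6411 (iv D4911) (iv F16819)
theorem F21707 : act 6 n6411 = n6411 := d27_1 D6411 (iv D6411) (iv D4910) F13018 D4910
def n6412 : Q := act 4 n4912
theorem D6412 : act 4 n4912 = n6412 := rfl
theorem F21708 : act 0 n6412 = n6412 := d3_1 D6412 (iv D6412) F16823
theorem F21709 : act 1 n6412 = n4913 := d9_1 D6412 (iv D4913) D4912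
theorem F21710 : act 2 n6412 = n6412 := d14_1 D6412 (iv D6412) F16824
theorem F21711 : act 5 n6412 = n6412 := d22_2 (iv F16825) D6412 (iv D6412) F16825 F13046
theorem F21712 : act 7 n6412 = n6412 := d24_2 F16826 D6412 (iv D6412)
def n6413 : Q := act 6 n4912
theorem D6413 : act 6 n4912 = n6413 := rfl
theorem F21713 : act 0 n6413 = n6413 := d5_1 D6413 (iv D6413) F16823
theorem F21714 : act 1 n6413 = n4914 := d11_1 D6413 (iv D4914) D4912
theorem F21715 : act 5 n6413 = n4918 := d25_1 D6413 (iv D4918) (iv F16825)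
def n6414 : Q := act 3 n4913
theorem D6414 : act 3 n4913 = n6414 := rfl
theorem F21716 : act 0 n6414 = n4915 := d2_1 D6414 (iv D4915) (iv F16827)
theorem F21717 : act 2 n6414 = n6414 := d13_1 D6414 (iv D6414) F16828 F13033 (iv F16828)
theorem F21718 : act 5 n6414 = n6414 := d19_2 F16829 D6414 (iv D6414)
theorem F21719 : act 7 n6414 = n6414 := d21_2 F16830 D6414 (iv D6414)
def n6415 : Q := act 6 n4913
theorem D6415 : act 6 n4913 = n6415 := rfl
theorem F21721 : act 2 n6415 = n5133 := d16_1 D6415 (iv D5133) F13533 (iv F13035) (iv F16828)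
theorem F21722 : act 4 n6415 = n4914 := d23_1 D6415 (iv D4914) D4913
def n6416 : Q := act 7 n4914
theorem D6416 : act 7 n4914 = n6416 := rfl
theorem F21724 : act 0 n6416 = n4917 := d6_1 D6416 (iv D4917) (iv F16831)
theorem F21726 : act 5 n6416 = n4919 := d26_1 D6416 (iv D4919) (iv F16833)
theorem F21727 : act 6 n6416 = n6416 := d27_1 D6416 (iv D6416) (iv D4914) F13030 D4914
def n6417 : Q := act 6 n4915
theorem D6417 : act 6 n4915 = n6417 := rfl
theorem F21729 : act 3 n6417 = n4916 := d20_1 D6417 (iv D4916) D4915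
def n6418 : Q := act 7 n4916
theorem D6418 : act 7 n4916 = n6418 := rfl
theorem F21732 : act 2 n6418 = n5136 := d17_1 D6418 (iv D5136) (iv F16839)
theorem F21733 : act 4 n6418 = n4917 := d24_1 D6418 (iv D4917) (iv F16840)
theorem F21735 : act 6 n6418 = n6418 := d27_1 D6418 (iv D6418) (iv D4916) F13040 D4916
def n6419 : Q := act 2 n4918
theorem D6419 : act 2 n4918 = n6419 := rfl
theorem F21736 : act 0 n6419 = n6419 := d1_1 D6419 (iv D6419) F16846
theorem F21737 : act 1 n6419 = n5137 := d7_1 D6419 (iv D5137) F13549 (iv F13049) (iv F16847)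
theorem F21738 : act 4 n6419 = n6419 := d14_2 F16848 D6419 (iv D6419)
theorem F21739 : act 6 n6419 = n6419 := d16_2 D4918 D6419 (iv D6419) (iv D4918) F13045
def n6420 : Q := act 7 n4918
theorem D6420 : act 7 n4918 = n6420 := rfl
theorem F21740 : act 0 n6420 = n6420 := d6_1 D6420 (iv D6420) F16846
theorem F21741 : act 1 n6420 = n4919 := d12_1 D6420 (iv D4919) (iv F16847)
theorem F21742 : act 4 n6420 = n6420 := d24_1 D6420 (iv D6420) F16848
theorem F21743 : act 6 n6420 = n6420 := d27_1 D6420 (iv D6420) (iv D4918) F13047 D4918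
def n6432 : Q := act 1 n4928
theorem D6432 : act 1 n4928 = n6432 := rfl
theorem F21781 : act 2 n6432 = n5145 := d7_2 D4928 D6432 (iv D5145) (iv D3930) (iv F13072)
theorem F21783 : act 6 n6432 = n4943 := d11_2 (iv F16884) D6432 (iv D4943)
def n6440 : Q := act 0 n4933
theorem D6440 : act 0 n4933 = n6440 := rfl
theorem F21806 : act 2 n6440 = n5149 := d1_2 (iv F16897) D6440 (iv D5149)
theorem F21808 : act 6 n6440 = n4951 := d5_2 (iv F16899) D6440 (iv D4951)
def n6441 : Q := act 3 n4933
theorem D6441 : act 3 n4933 = n6441 := rfl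
theorem F21810 : act 6 n6441 = n4952 := d20_2 (iv F16899) D6441 (iv D4952)
def n6442 : Q := act 4 n4934
theorem D6442 : act 4 n4934 = n6442 := rfl
theorem F21813 : act 6 n6442 = n4953 := d23_2 (iv F16901) D6442 (iv D4953)
def n6445 : Q := act 6 n4936
theorem D6445 : act 6 n4936 = n6445 := rfl
theorem F21822 : act 4 n6445 = n4941 := d23_1 D6445 (iv D4941) (iv F16907)
def n6446 : Q := act 2 n4937
theorem D6446 : act 2 n4937 = n6446 := rfl
def n6451 : Q := act 6 n4940
theorem D6451 : act 6 n4940 = n6451 := rfl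
theorem F21840 : act 5 n6451 = n4947 := d25_1 D6451 (iv D4947) (iv F16921)
def n6452 : Q := act 2 n4941
theorem D6452 : act 2 n4941 = n6452 := rfl
theorem F21841 : act 5 n6452 = n4948 := d15_2 (iv F16923) D6452 (iv D4948)
theorem F21842 : act 6 n6452 = n4942 := d16_2 D4941 D6452 (iv D4942) (iv D3778) (iv F13102)
def n6453 : Q := act 1 n4942
theorem D6453 : act 1 n4942 = n6453 := rfl
theorem F21843 : act 2 n6453 = n4994 := d7_2 D4942 D6453 (iv D4994) (iv D3815) (iv F13104)
theorem F21844 : act 5 n6453 = n4949 := d10_2 (iv F16924) D6453 (iv D4949)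
theorem F21845 : act 7 n6453 = n4943 := d12_2 (iv F16925) D6453 (iv D4943)
def n6454 : Q := act 3 n4942
theorem D6454 : act 3 n4942 = n6454 := rfl
theorem F21846 : act 2 n6454 = n4959 := d13_1 D6454 (iv D4959) (iv D3789) (iv F13105) D4942
theorem F21848 : act 7 n6454 = n4944 := d21_2 (iv F16925) D6454 (iv D4944)
def n6455 : Q := act 0 n4943
theorem D6455 : act 0 n4943 = n6455 := rfl
theorem F21849 : act 2 n6455 = n4996 := d1_2 (iv F16926) D6455 (iv D4996)
theorem F21850 : act 5 n6455 = n4951 := d4_2 (iv F16927) D6455 (iv D4951)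
def n6456 : Q := act 3 n4943
theorem D6456 : act 3 n4943 = n6456 := rfl
theorem F21851 : act 1 n6456 = n4944 := d8_1 D6456 (iv D4944) D4943
theorem F21852 : act 5 n6456 = n4952 := d19_2 (iv F16927) D6456 (iv D4952)
def n6458 : Q := act 7 n4945
theorem D6458 : act 7 n4945 = n6458 := rfl
theorem F21855 : act 2 n6458 = n4963 := d17_1 D6458 (iv D4963) (iv F16931)
theorem F21857 : act 5 n6458 = n4946 := d26_1 D6458 (iv D4946) D4945
def n6459 : Q := act 6 n4946
theorem D6459 : act 6 n4946 = n6459 := rfl
theorem F21860 : act 4 n6459 = n4947 := d23_1 D6459 (iv D4947) (iv F16936)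
def n6460 : Q := act 2 n4947
theorem D6460 : act 2 n4947 = n6460 := rfl
theorem F21861 : act 6 n6460 = n4965 := d16_2 D4947 D6460 (iv D4965) (iv D3794) (iv F13113)
def n6461 : Q := act 1 n4948
theorem D6461 : act 1 n4948 = n6461 := rfl
theorem F21864 : act 6 n6461 = n4949 := d11_2 (iv F16940) D6461 (iv D4949)
def n6462 : Q := act 3 n4948
theorem D6462 : act 3 n4948 = n6462 := rfl
theorem F21865 : act 6 n6462 = n4950 := d20_2 (iv F16940) D6462 (iv D4950)
def n6463 : Q := act 0 n4949
theorem D6463 : act 0 n4949 = n6463 := rfl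
theorem F21866 : act 2 n6463 = n4999 := d1_2 (iv F16941) D6463 (iv D4999)
theorem F21868 : act 7 n6463 = n4951 := d6_2 (iv F16943) D6463 (iv D4951)
def n6464 : Q := act 3 n4949
theorem D6464 : act 3 n4949 = n6464 := rfl
theorem F21869 : act 1 n6464 = n4950 := d8_1 D6464 (iv D4950) D4949
theorem F21870 : act 7 n6464 = n4952 := d21_2 (iv F16943) D6464 (iv D4952)
def n6465 : Q := act 4 n4950
theorem D6465 : act 4 n4950 = n6465 := rfl
theorem F21871 : act 2 n6465 = n4970 := d14_1 D6465 (iv D4970) (iv F16944)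
theorem F21873 : act 7 n6465 = n4953 := d24_2 (iv F16945) D6465 (iv D4953)
def n6466 : Q := act 3 n4951
theorem D6466 : act 3 n4951 = n6466 := rfl
theorem F21874 : act 0 n6466 = n4952 := d2_1 D6466 (iv D4952) D4951
def n6467 : Q := act 2 n4952
theorem D6467 : act 2 n4952 = n6467 := rfl
theorem F21875 : act 1 n6467 = n4972 := d7_1 D6467 (iv D4972) F13160 (iv F13121) (iv F16948)
theorem F21876 : act 3 n6467 = n5003 := d13_2 D4952 D6467 (iv D5003) (iv D3821) (iv F13119)
def n6468 : Q := act 4 n4952
theorem D6468 : act 4 n4952 = n6468 := rfl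
theorem F21877 : act 1 n6468 = n4953 := d9_1 D6468 (iv D4953) (iv F16948)
theorem F21878 : act 3 n6468 = n6468 := d18_1 D6468 (iv D6468) (iv D4952) F13120 D4952
def n6472 : Q := act 2 n4956
theorem D6472 : act 2 n4956 = n6472 := rfl
def n6473 : Q := act 1 n4957
theorem D6473 : act 1 n4957 = n6473 := rfl
theorem F21891 : act 2 n6473 = n5538 := d7_2 D4957 D6473 (iv D5538) (iv D4232) (iv F13128)
theorem F21893 : act 5 n6473 = n4966 := d10_2 (iv F16963) D6473 (iv D4966)
theorem F21894 : act 6 n6473 = n4958 := d11_2 (iv F16964) D6473 (iv D4958)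
def n6474 : Q := act 3 n4957
theorem D6474 : act 3 n4957 = n6474 := rfl
def n6475 : Q := act 0 n4958
theorem D6475 : act 0 n4958 = n6475 := rfl
theorem F21901 : act 5 n6475 = n4968 := d4_2 (iv F16968) D6475 (iv D4968)
theorem F21902 : act 7 n6475 = n4960 := d6_2 (iv F16969) D6475 (iv D4960)
def n6476 : Q := act 3 n4958
theorem D6476 : act 3 n4958 = n6476 := rfl
theorem F21903 : act 1 n6476 = n4959 := d8_1 D6476 (iv D4959) D4958
theorem F21904 : act 5 n6476 = n4969 := d19_2 (iv F16968) D6476 (iv D4969)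
theorem F21905 : act 7 n6476 = n4961 := d21_2 (iv F16969) D6476 (iv D4961)
def n6477 : Q := act 4 n4959
theorem D6477 : act 4 n4959 = n6477 := rfl
theorem F21907 : act 7 n6477 = n4962 := d24_2 (iv F16971) D6477 (iv D4962)
def n6478 : Q := act 3 n4960
theorem D6478 : act 3 n4960 = n6478 := rfl
theorem F21908 : act 0 n6478 = n4961 := d2_1 D6478 (iv D4961) D4960
theorem F21909 : act 5 n6478 = n4971 := d19_2 (iv F16974) D6478 (iv D4971)
theorem F21910 : act 6 n6478 = n6478 := d20_2 F16975 D6478 (iv D6478)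
def n6479 : Q := act 2 n4961
theorem D6479 : act 2 n4961 = n6479 := rfl
theorem F21911 : act 3 n6479 = n5010 := d13_2 D4961 D6479 (iv D5010) (iv D3826) (iv F13135)
theorem F21912 : act 5 n6479 = n4972 := d15_2 (iv F16977) D6479 (iv D4972)
def n6480 : Q := act 4 n4961
theorem D6480 : act 4 n4961 = n6480 := rfl
theorem F21913 : act 1 n6480 = n4962 := d9_1 D6480 (iv D4962) (iv F16976)
theorem F21914 : act 3 n6480 = n6480 := d18_1 D6480 (iv D6480) (iv D4961) F13136 D4961
theorem F21915 : act 6 n6480 = n6480 := d23_2 F16978 D6480 (iv D6480)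
def n6481 : Q := act 5 n4962
theorem D6481 : act 5 n4962 = n6481 := rfl
theorem F21917 : act 4 n6481 = n4974 := d22_1 D6481 (iv D4974) (iv D3800) (iv F13139) D4962
def n6483 : Q := act 2 n4964
theorem D6483 : act 2 n4964 = n6483 := rfl
theorem F21923 : act 4 n6483 = n4965 := d14_2 (iv F16986) D6483 (iv D4965)
def n6484 : Q := act 1 n4965
theorem D6484 : act 1 n4965 = n6484 := rfl
theorem F21925 : act 2 n6484 = n5549 := d7_2 D4965 D6484 (iv D5549) (iv D4240) (iv F13147)
def n6485 : Q := act 3 n4965
theorem D6485 : act 3 n4965 = n6485 := rfl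
theorem F21927 : act 2 n6485 = n4967 := d13_1 D6485 (iv D4967) (iv D3795) (iv F13148) D4965
def n6486 : Q := act 0 n4966
theorem D6486 : act 0 n4966 = n6486 := rfl
theorem F21929 : act 2 n6486 = n5551 := d1_2 (iv F16989) D6486 (iv D5551)
theorem F21930 : act 4 n6486 = n4979 := d3_2 (iv F16990) D6486 (iv D4979)
theorem F21931 : act 6 n6486 = n4968 := d5_2 (iv F16991) D6486 (iv D4968)
def n6487 : Q := act 3 n4966
theorem D6487 : act 3 n4966 = n6487 := rfl
theorem F21933 : act 1 n6487 = n4967 := d8_1 D6487 (iv D4967) D4966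
theorem F21934 : act 6 n6487 = n4969 := d20_2 (iv F16991) D6487 (iv D4969)
def n6488 : Q := act 4 n4967
theorem D6488 : act 4 n4967 = n6488 := rfl
theorem F21936 : act 3 n6488 = n4981 := d18_1 D6488 (iv D4981) (iv D3805) (iv F13150) D4967
theorem F21937 : act 6 n6488 = n4970 := d23_2 (iv F16993) D6488 (iv D4970)
def n6489 : Q := act 3 n4968
theorem D6489 : act 3 n4968 = n6489 := rfl
theorem F21939 : act 0 n6489 = n4969 := d2_1 D6489 (iv D4969) D4968
theorem F21940 : act 7 n6489 = n4971 := d21_2 (iv F16997) D6489 (iv D4971)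
def n6490 : Q := act 2 n4969
theorem D6490 : act 2 n4969 = n6490 := rfl
theorem F21941 : act 3 n6490 = n5014 := d13_2 D4969 D6490 (iv D5014) (iv D3829) (iv F13153)
theorem F21942 : act 7 n6490 = n4972 := d17_2 (iv F16999) D6490 (iv D4972)
def n6491 : Q := act 4 n4969
theorem D6491 : act 4 n4969 = n6491 := rfl
theorem F21943 : act 1 n6491 = n4970 := d9_1 D6491 (iv D4970) (iv F16998)
theorem F21944 : act 3 n6491 = n4984 := d18_1 D6491 (iv D4984) (iv D3807) (iv F13154) D4969
theorem F21945 : act 7 n6491 = n4973 := d24_2 (iv F16999) D6491 (iv D4973)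
def n6492 : Q := act 5 n4970
theorem D6492 : act 5 n4970 = n6492 := rfl
theorem F21946 : act 3 n6492 = n4985 := d19_1 D6492 (iv D4985) (iv F17000)
theorem F21947 : act 7 n6492 = n4974 := d26_2 (iv F17001) D6492 (iv D4974)
def n6493 : Q := act 2 n4971
theorem D6493 : act 2 n4971 = n6493 := rfl
theorem F21948 : act 0 n6493 = n4972 := d1_1 D6493 (iv D4972) (iv F17002)
theorem F21949 : act 3 n6493 = n5017 := d13_2 D4971 D6493 (iv D5017) (iv D3831) (iv F13157)
def n6494 : Q := act 4 n4971
theorem D6494 : act 4 n4971 = n6494 := rfl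
theorem F21950 : act 0 n6494 = n4973 := d3_1 D6494 (iv D4973) (iv F17002)
theorem F21951 : act 3 n6494 = n4987 := d18_1 D6494 (iv D4987) (iv D3809) (iv F13158) D4971
theorem F21952 : act 6 n6494 = n6494 := d23_2 F17003 D6494 (iv D6494)
def n6495 : Q := act 4 n4972
theorem D6495 : act 4 n4972 = n6495 := rfl
theorem F21953 : act 2 n6495 = n4973 := d14_1 D6495 (iv D4973) D4972
def n6496 : Q := act 6 n4972
theorem D6496 : act 6 n4972 = n6496 := rfl
theorem F21954 : act 2 n6496 = n6496 := d16_1 D6496 (iv D6496) (iv D4972) F13161 D4972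
theorem F21955 : act 3 n6496 = n5020 := d20_1 D6496 (iv D5020) (iv F17004)
def n6497 : Q := act 5 n4973
theorem D6497 : act 5 n4973 = n6497 := rfl
theorem F21956 : act 1 n6497 = n4974 := d10_1 D6497 (iv D4974) (iv F17005)
theorem F21957 : act 3 n6497 = n4990 := d19_1 D6497 (iv D4990) (iv F17006)
theorem F21958 : act 6 n6497 = n6497 := d25_2 F17007 D6497 (iv D6497)
def n6500 : Q := act 3 n4976
theorem D6500 : act 3 n4976 = n6500 := rfl
def n6501 : Q := act 0 n4977
theorem D6501 : act 0 n4977 = n6501 := rfl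
def n6502 : Q := act 3 n4977
theorem D6502 : act 3 n4977 = n6502 := rfl
theorem F21973 : act 1 n6502 = n4978 := d8_1 D6502 (iv D4978) D4977
def n6503 : Q := act 4 n4978
theorem D6503 : act 4 n4978 = n6503 := rfl
theorem F21977 : act 2 n6503 = n4981 := d14_1 D6503 (iv D4981) (iv F17021)
def n6504 : Q := act 3 n4979
theorem D6504 : act 3 n4979 = n6504 := rfl
theorem F21980 : act 0 n6504 = n4980 := d2_1 D6504 (iv D4980) D4979
theorem F21981 : act 5 n6504 = n6504 := d19_2 F17026 D6504 (iv D6504)
theorem F21982 : act 6 n6504 = n4982 := d20_2 (iv F17027) D6504 (iv D4982)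
theorem F21983 : act 7 n6504 = n6504 := d21_2 F17028 D6504 (iv D6504)
def n6505 : Q := act 2 n4980
theorem D6505 : act 2 n4980 = n6505 := rfl
def n6506 : Q := act 4 n4980
theorem D6506 : act 4 n4980 = n6506 := rfl
theorem F21987 : act 1 n6506 = n4981 := d9_1 D6506 (iv D4981) (iv F17029)
theorem F21988 : act 6 n6506 = n4984 := d23_2 (iv F17031) D6506 (iv D4984)
theorem F21989 : act 7 n6506 = n6506 := d24_2 F17032 D6506 (iv D6506)
def n6507 : Q := act 5 n4981
theorem D6507 : act 5 n4981 = n6507 := rfl
theorem F21991 : act 6 n6507 = n4985 := d25_2 (iv F17033) D6507 (iv D4985)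
def n6508 : Q := act 2 n4982
theorem D6508 : act 2 n4982 = n6508 := rfl
theorem F21993 : act 0 n6508 = n4983 := d1_1 D6508 (iv D4983) (iv F17035)
theorem F21994 : act 3 n6508 = n5022 := d13_2 D4982 D6508 (iv D5022) (iv D3835) (iv F13181)
theorem F21995 : act 5 n6508 = n6508 := d15_2 F17036 D6508 (iv D6508)
theorem F21996 : act 7 n6508 = n4986 := d17_2 (iv F17037) D6508 (iv D4986)
def n6509 : Q := act 4 n4982
theorem D6509 : act 4 n4982 = n6509 := rfl
theorem F21997 : act 0 n6509 = n4984 := d3_1 D6509 (iv D4984) (iv F17035)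
theorem F21998 : act 7 n6509 = n4987 := d24_2 (iv F17037) D6509 (iv D4987)
def n6510 : Q := act 4 n4983
theorem D6510 : act 4 n4983 = n6510 := rfl
theorem F21999 : act 1 n6510 = n6510 := d9_1 D6510 (iv D6510) F17038
theorem F22000 : act 2 n6510 = n4984 := d14_1 D6510 (iv D4984) D4983
theorem F22001 : act 7 n6510 = n4988 := d24_2 (iv F17041) D6510 (iv D4988)
def n6511 : Q := act 6 n4983
theorem D6511 : act 6 n4983 = n6511 := rfl
def n6512 : Q := act 5 n4984
theorem D6512 : act 5 n4984 = n6512 := rfl
theorem F22005 : act 1 n6512 = n4985 := d10_1 D6512 (iv D4985) (iv F17042)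
theorem F22006 : act 4 n6512 = n6512 := d22_1 D6512 (iv D6512) (iv D4984) F13185 D4984
theorem F22007 : act 7 n6512 = n4990 := d26_2 (iv F17043) D6512 (iv D4990)
def n6513 : Q := act 1 n4986
theorem D6513 : act 1 n4986 = n6513 := rfl
theorem F22008 : act 0 n6513 = n6513 := d0_1 D6513 (iv D6513) F17047 F13192 (iv F17047)
theorem F22009 : act 3 n6513 = n5027 := d8_2 (iv F17048) D6513 (iv D5027)
theorem F22010 : act 5 n6513 = n6513 := d10_2 F17049 D6513 (iv D6513)
def n6514 : Q := act 4 n4986
theorem D6514 : act 4 n4986 = n6514 := rfl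
theorem F22011 : act 0 n6514 = n4988 := d3_1 D6514 (iv D4988) (iv F17047)
theorem F22012 : act 2 n6514 = n4987 := d14_1 D6514 (iv D4987) D4986
def n6515 : Q := act 6 n4986
theorem D6515 : act 6 n4986 = n6515 := rfl
theorem F22015 : act 3 n6515 = n5029 := d20_1 D6515 (iv D5029) (iv F17048)
def n6516 : Q := act 5 n4987
theorem D6516 : act 5 n4987 = n6516 := rfl
theorem F22017 : act 0 n6516 = n4990 := d4_1 D6516 (iv D4990) (iv F17050)
theorem F22018 : act 4 n6516 = n6516 := d22_1 D6516 (iv D6516) (iv D4987) F13190 D4987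
theorem F22019 : act 6 n6516 = n6516 := d25_2 F17051 D6516 (iv D6516)
def n6518 : Q := act 5 n4988
theorem D6518 : act 5 n4988 = n6518 := rfl
theorem F22022 : act 1 n6518 = n6518 := d10_1 D6518 (iv D6518) F17052
theorem F22023 : act 2 n6518 = n4990 := d15_1 D6518 (iv D4990) (iv F17053)
theorem F22024 : act 4 n6518 = n6518 := d22_1 D6518 (iv D6518) (iv D4988) F13194 D4988
def n6519 : Q := act 6 n4988
theorem D6519 : act 6 n4988 = n6519 := rfl
theorem F22027 : act 4 n6519 = n4989 := d23_1 D6519 (iv D4989) D4988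
def n6521 : Q := act 1 n4991
theorem D6521 : act 1 n4991 = n6521 := rfl
theorem F22035 : act 7 n6521 = n4992 := d12_2 (iv F17065) D6521 (iv D4992)
def n6523 : Q := act 0 n4992
theorem D6523 : act 0 n4992 = n6523 := rfl
theorem F22044 : act 6 n6523 = n5178 := d5_2 (iv F17068) D6523 (iv D5178)
def n6526 : Q := act 0 n4994
theorem D6526 : act 0 n4994 = n6526 := rfl
theorem F22052 : act 1 n6526 = n5066 := d0_2 D4994 D6526 (iv D5066) (iv D3867) (iv F13209)
theorem F22055 : act 7 n6526 = n4996 := d6_2 (iv F17075) D6526 (iv D4996)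
def n6527 : Q := act 3 n4994
theorem D6527 : act 3 n4994 = n6527 := rfl
theorem F22056 : act 1 n6527 = n4995 := d8_1 D6527 (iv D4995) D4994
theorem F22059 : act 7 n6527 = n4997 := d21_2 (iv F17075) D6527 (iv D4997)
def n6529 : Q := act 3 n4996
theorem D6529 : act 3 n4996 = n6529 := rfl
theorem F22064 : act 0 n6529 = n4997 := d2_1 D6529 (iv D4997) D4996
theorem F22065 : act 1 n6529 = n5069 := d8_1 D6529 (iv D5069) (iv F17081)
theorem F22066 : act 5 n6529 = n5002 := d19_2 (iv F17082) D6529 (iv D5002)
theorem F22067 : act 6 n6529 = n5181 := d20_2 (iv F17083) D6529 (iv D5181)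
def n6530 : Q := act 2 n4997
theorem D6530 : act 2 n4997 = n6530 := rfl
theorem F22068 : act 1 n6530 = n5010 := d7_1 D6530 (iv D5010) F13247 (iv F13216) (iv F17084)
def n6531 : Q := act 4 n4997
theorem D6531 : act 4 n4997 = n6531 := rfl
theorem F22070 : act 1 n6531 = n4998 := d9_1 D6531 (iv D4998) (iv F17084)
def n6532 : Q := act 5 n4998
theorem D6532 : act 5 n4998 = n6532 := rfl
theorem F22072 : act 0 n6532 = n5072 := d4_1 D6532 (iv D5072) (iv F17087)
theorem F22073 : act 2 n6532 = n5012 := d15_1 D6532 (iv D5012) (iv F17088)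
def n6533 : Q := act 3 n4999
theorem D6533 : act 3 n4999 = n6533 := rfl
theorem F22076 : act 0 n6533 = n5000 := d2_1 D6533 (iv D5000) D4999
theorem F22077 : act 1 n6533 = n5073 := d8_1 D6533 (iv D5073) (iv F17090)
theorem F22079 : act 7 n6533 = n5002 := d21_2 (iv F17093) D6533 (iv D5002)
def n6534 : Q := act 2 n5000
theorem D6534 : act 2 n5000 = n6534 := rfl
theorem F22080 : act 1 n6534 = n5014 := d7_1 D6534 (iv D5014) F13257 (iv F13223) (iv F17094)
theorem F22081 : act 7 n6534 = n5003 := d17_2 (iv F17096) D6534 (iv D5003)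
def n6535 : Q := act 4 n5000
theorem D6535 : act 4 n5000 = n6535 := rfl
theorem F22085 : act 7 n6535 = n5004 := d24_2 (iv F17096) D6535 (iv D5004)
def n6537 : Q := act 2 n5002
theorem D6537 : act 2 n5002 = n6537 := rfl
theorem F22091 : act 0 n6537 = n5003 := d1_1 D6537 (iv D5003) (iv F17102)
def n6538 : Q := act 4 n5002
theorem D6538 : act 4 n5002 = n6538 := rfl
theorem F22092 : act 0 n6538 = n5004 := d3_1 D6538 (iv D5004) (iv F17102)
theorem F22093 : act 1 n6538 = n5078 := d9_1 D6538 (iv D5078) (iv F17103)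
theorem F22094 : act 3 n6538 = n6538 := d18_1 D6538 (iv D6538) (iv D5002) F13227 D5002
theorem F22095 : act 6 n6538 = n5186 := d23_2 (iv F17104) D6538 (iv D5186)
def n6539 : Q := act 4 n5003
theorem D6539 : act 4 n5003 = n6539 := rfl
theorem F22096 : act 1 n6539 = n5019 := d9_1 D6539 (iv D5019) (iv F17105)
theorem F22097 : act 2 n6539 = n5004 := d14_1 D6539 (iv D5004) D5003
def n6540 : Q := act 6 n5003
theorem D6540 : act 6 n5003 = n6540 := rfl
theorem F22098 : act 1 n6540 = n5020 := d11_1 D6540 (iv D5020) (iv F17105)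
theorem F22099 : act 2 n6540 = n5188 := d16_1 D6540 (iv D5188) (iv D3958) (iv F13230) D5003
def n6542 : Q := act 3 n5006
theorem D6542 : act 3 n5006 = n6542 := rfl
theorem F22103 : act 0 n6542 = n5007 := d2_1 D6542 (iv D5007) D5006
theorem F22104 : act 1 n6542 = n5082 := d8_1 D6542 (iv D5082) (iv F17113)
theorem F22105 : act 5 n6542 = n5013 := d19_2 (iv F17115) D6542 (iv D5013)
theorem F22106 : act 6 n6542 = n5586 := d20_2 (iv F17116) D6542 (iv D5586)
theorem F22107 : act 7 n6542 = n5009 := d21_2 (iv F17117) D6542 (iv D5009)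
def n6543 : Q := act 2 n5007
theorem D6543 : act 2 n5007 = n6543 := rfl
theorem F22108 : act 5 n6543 = n5014 := d15_2 (iv F17119) D6543 (iv D5014)
theorem F22109 : act 7 n6543 = n5010 := d17_2 (iv F17121) D6543 (iv D5010)
def n6544 : Q := act 4 n5007
theorem D6544 : act 4 n5007 = n6544 := rfl
theorem F22112 : act 6 n6544 = n5588 := d23_2 (iv F17120) D6544 (iv D5588)
theorem F22113 : act 7 n6544 = n5011 := d24_2 (iv F17121) D6544 (iv D5011)
def n6545 : Q := act 5 n5008
theorem D6545 : act 5 n5008 = n6545 := rfl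
theorem F22114 : act 0 n6545 = n5085 := d4_1 D6545 (iv D5085) (iv F17122)
theorem F22118 : act 7 n6545 = n5012 := d26_2 (iv F17125) D6545 (iv D5012)
def n6546 : Q := act 2 n5009
theorem D6546 : act 2 n5009 = n6546 := rfl
theorem F22119 : act 0 n6546 = n5010 := d1_1 D6546 (iv D5010) (iv F17126)
theorem F22120 : act 5 n6546 = n5017 := d15_2 (iv F17128) D6546 (iv D5017)
def n6547 : Q := act 4 n5009
theorem D6547 : act 4 n5009 = n6547 := rfl
theorem F22121 : act 0 n6547 = n5011 := d3_1 D6547 (iv D5011) (iv F17126)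
theorem F22122 : act 1 n6547 = n5087 := d9_1 D6547 (iv D5087) (iv F17127)
theorem F22123 : act 3 n6547 = n6547 := d18_1 D6547 (iv D6547) (iv D5009) F13244 D5009
theorem F22124 : act 6 n6547 = n5036 := d23_2 (iv F17129) D6547 (iv D5036)
def n6548 : Q := act 4 n5010
theorem D6548 : act 4 n5010 = n6548 := rfl
theorem F22125 : act 2 n6548 = n5011 := d14_1 D6548 (iv D5011) D5010
def n6549 : Q := act 6 n5010
theorem D6549 : act 6 n5010 = n6549 := rfl
theorem F22126 : act 2 n6549 = n5038 := d16_1 D6549 (iv D5038) (iv D3845) (iv F13249) D5010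
theorem F22127 : act 5 n6549 = n5020 := d25_1 D6549 (iv D5020) (iv F17130)
def n6550 : Q := act 5 n5011
theorem D6550 : act 5 n5011 = n6550 := rfl
theorem F22131 : act 6 n6550 = n5039 := d25_2 (iv F17133) D6550 (iv D5039)
def n6551 : Q := act 2 n5013
theorem D6551 : act 2 n5013 = n6551 := rfl
theorem F22132 : act 0 n6551 = n5014 := d1_1 D6551 (iv D5014) (iv F17138)
theorem F22133 : act 7 n6551 = n5017 := d17_2 (iv F17141) D6551 (iv D5017)
def n6552 : Q := act 4 n5013
theorem D6552 : act 4 n5013 = n6552 := rfl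
theorem F22134 : act 0 n6552 = n5015 := d3_1 D6552 (iv D5015) (iv F17138)
theorem F22135 : act 1 n6552 = n5092 := d9_1 D6552 (iv D5092) (iv F17139)
theorem F22136 : act 3 n6552 = n5023 := d18_1 D6552 (iv D5023) (iv D3835) (iv F13254) D5013
theorem F22137 : act 6 n6552 = n5596 := d23_2 (iv F17140) D6552 (iv D5596)
theorem F22138 : act 7 n6552 = n5018 := d24_2 (iv F17141) D6552 (iv D5018)
def n6553 : Q := act 4 n5014
theorem D6553 : act 4 n5014 = n6553 := rfl
theorem F22139 : act 2 n6553 = n5015 := d14_1 D6553 (iv D5015) D5014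
theorem F22140 : act 7 n6553 = n5019 := d24_2 (iv F17142) D6553 (iv D5019)
def n6554 : Q := act 6 n5014
theorem D6554 : act 6 n5014 = n6554 := rfl
theorem F22141 : act 2 n6554 = n5598 := d16_1 D6554 (iv D5598) (iv D4274) (iv F13258) D5014
def n6555 : Q := act 5 n5015
theorem D6555 : act 5 n5015 = n6555 := rfl
theorem F22144 : act 6 n6555 = n5599 := d25_2 (iv F17145) D6555 (iv D5599)
theorem F22145 : act 7 n6555 = n5021 := d26_2 (iv F17146) D6555 (iv D5021)
def n6556 : Q := act 1 n5017
theorem D6556 : act 1 n5017 = n6556 := rfl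
theorem F22146 : act 2 n6556 = n5096 := d7_2 D5017 D6556 (iv D5096) (iv D3890) (iv F13265)
def n6557 : Q := act 4 n5017
theorem D6557 : act 4 n5017 = n6557 := rfl
theorem F22147 : act 0 n6557 = n5019 := d3_1 D6557 (iv D5019) (iv F17151)
theorem F22148 : act 2 n6557 = n5018 := d14_1 D6557 (iv D5018) D5017
def n6558 : Q := act 6 n5017
theorem D6558 : act 6 n5017 = n6558 := rfl
theorem F22149 : act 0 n6558 = n5020 := d5_1 D6558 (iv D5020) (iv F17151)
theorem F22150 : act 2 n6558 = n5042 := d16_1 D6558 (iv D5042) (iv D3848) (iv F13266) D5017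
def n6559 : Q := act 5 n5018
theorem D6559 : act 5 n5018 = n6559 := rfl
theorem F22152 : act 1 n6559 = n5099 := d10_1 D6559 (iv D5099) (iv F17153)
theorem F22154 : act 6 n6559 = n5043 := d25_2 (iv F17155) D6559 (iv D5043)
def n6560 : Q := act 3 n5019
theorem D6560 : act 3 n5019 = n6560 := rfl
def n6561 : Q := act 5 n5019
theorem D6561 : act 5 n5019 = n6561 := rfl
theorem F22156 : act 2 n6561 = n5021 := d15_1 D6561 (iv D5021) (iv F17156)
def n6562 : Q := act 6 n5019
theorem D6562 : act 6 n5019 = n6562 := rfl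
theorem F22158 : act 4 n6562 = n5020 := d23_1 D6562 (iv D5020) D5019
def n6563 : Q := act 7 n5020
theorem D6563 : act 7 n5020 = n6563 := rfl
theorem F22159 : act 2 n6563 = n5047 := d17_1 D6563 (iv D5047) (iv F17157)
def n6564 : Q := act 1 n5022
theorem D6564 : act 1 n5022 = n6564 := rfl
theorem F22160 : act 0 n6564 = n6564 := d0_1 D6564 (iv D6564) F17161 F13278 (iv F17161)
theorem F22161 : act 2 n6564 = n5104 := d7_2 D5022 D6564 (iv D5104) (iv D3895) (iv F13274)
theorem F22162 : act 5 n6564 = n6564 := d10_2 F17162 D6564 (iv D6564)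
theorem F22163 : act 7 n6564 = n5027 := d12_2 (iv F17163) D6564 (iv D5027)
def n6565 : Q := act 4 n5022
theorem D6565 : act 4 n5022 = n6565 := rfl
theorem F22165 : act 2 n6565 = n5023 := d14_1 D6565 (iv D5023) D5022
theorem F22166 : act 7 n6565 = n5028 := d24_2 (iv F17163) D6565 (iv D5028)
def n6566 : Q := act 6 n5022
theorem D6566 : act 6 n5022 = n6566 := rfl
def n6572 : Q := act 4 n5027
theorem D6572 : act 4 n5027 = n6572 := rfl
theorem F22189 : act 1 n6572 = n5028 := d9_1 D6572 (iv D5028) D5027
theorem F22190 : act 2 n6572 = n5111 := d14_1 D6572 (iv D5111) (iv F17179)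
def n6573 : Q := act 6 n5027
theorem D6573 : act 6 n5027 = n6573 := rfl
theorem F22192 : act 1 n6573 = n5029 := d11_1 D6573 (iv D5029) D5027
def n6582 : Q := act 1 n5035
theorem D6582 : act 1 n5035 = n6582 := rfl
theorem F22216 : act 0 n6582 = n5213 := d0_1 D6582 (iv D5213) F13740 (iv F13306) (iv F17200)
theorem F22219 : act 5 n6582 = n5040 := d10_2 (iv F17202) D6582 (iv D5040)
theorem F22220 : act 7 n6582 = n5626 := d12_2 (iv F17203) D6582 (iv D5626)
def n6583 : Q := act 4 n5035
theorem D6583 : act 4 n5035 = n6583 := rfl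
theorem F22221 : act 0 n6583 = n5037 := d3_1 D6583 (iv D5037) (iv F17200)
theorem F22222 : act 2 n6583 = n5036 := d14_1 D6583 (iv D5036) D5035
def n6584 : Q := act 6 n5035
theorem D6584 : act 6 n5035 = n6584 := rfl
theorem F22224 : act 0 n6584 = n5038 := d5_1 D6584 (iv D5038) (iv F17200)
theorem F22225 : act 3 n6584 = n6584 := d20_1 D6584 (iv D6584) F17201
theorem F22226 : act 5 n6584 = n5042 := d25_1 D6584 (iv D5042) (iv F17202)
def n6585 : Q := act 5 n5036
theorem D6585 : act 5 n5036 = n6585 := rfl
theorem F22227 : act 0 n6585 = n5039 := d4_1 D6585 (iv D5039) (iv F17204)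
def n6586 : Q := act 3 n5037
theorem D6586 : act 3 n5037 = n6586 := rfl
theorem F22232 : act 1 n6586 = n5217 := d8_1 D6586 (iv D5217) (iv F17208)
def n6587 : Q := act 5 n5037
theorem D6587 : act 5 n5037 = n6587 := rfl
theorem F22236 : act 1 n6587 = n5218 := d10_1 D6587 (iv D5218) (iv F17208)
def n6588 : Q := act 6 n5037
theorem D6588 : act 6 n5037 = n6588 := rfl
theorem F22241 : act 4 n6588 = n5038 := d23_1 D6588 (iv D5038) D5037
def n6589 : Q := act 7 n5038
theorem D6589 : act 7 n5038 = n6589 := rfl
theorem F22243 : act 3 n6589 = n6589 := d21_1 D6589 (iv D6589) F17212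
theorem F22244 : act 5 n6589 = n5047 := d26_1 D6589 (iv D5047) (iv F17213)
theorem F22245 : act 6 n6589 = n5633 := d27_1 D6589 (iv D5633) (iv D4298) (iv F13309) D5038
def n6590 : Q := act 4 n5040
theorem D6590 : act 4 n5040 = n6590 := rfl
theorem F22246 : act 0 n6590 = n5221 := d3_1 D6590 (iv D5221) (iv F17218)
def n6591 : Q := act 6 n5040
theorem D6591 : act 6 n5040 = n6591 := rfl
theorem F22251 : act 1 n6591 = n5042 := d11_1 D6591 (iv D5042) D5040
def n6593 : Q := act 5 n5041
theorem D6593 : act 5 n5041 = n6593 := rfl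
theorem F22257 : act 0 n6593 = n5045 := d4_1 D6593 (iv D5045) (iv F17222)
theorem F22258 : act 2 n6593 = n5043 := d15_1 D6593 (iv D5043) (iv F17223)
theorem F22259 : act 7 n6593 = n5637 := d26_2 (iv F17224) D6593 (iv D5637)
def n6594 : Q := act 6 n5041
theorem D6594 : act 6 n5041 = n6594 := rfl
theorem F22261 : act 4 n6594 = n5042 := d23_1 D6594 (iv D5042) D5041
def n6595 : Q := act 7 n5042
theorem D6595 : act 7 n5042 = n6595 := rfl
theorem F22262 : act 0 n6595 = n5047 := d6_1 D6595 (iv D5047) (iv F17225)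
theorem F22263 : act 3 n6595 = n6595 := d21_1 D6595 (iv D6595) F17226
theorem F22264 : act 6 n6595 = n5639 := d27_1 D6595 (iv D5639) (iv D4302) (iv F13320) D5042
def n6598 : Q := act 6 n5045
theorem D6598 : act 6 n5045 = n6598 := rfl
theorem F22273 : act 5 n6598 = n5046 := d25_1 D6598 (iv D5046) D5045
def n6614 : Q := act 0 n5061
theorem D6614 : act 0 n5061 = n6614 := rfl
theorem F22331 : act 7 n6614 = n5063 := d6_2 (iv F17296) D6614 (iv D5063)
def n6617 : Q := act 3 n5063
theorem D6617 : act 3 n5063 = n6617 := rfl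
theorem F22342 : act 6 n6617 = n5245 := d20_2 (iv F17303) D6617 (iv D5245)
def n6618 : Q := act 2 n5064
theorem D6618 : act 2 n5064 = n6618 := rfl
def n6619 : Q := act 4 n5064
theorem D6619 : act 4 n5064 = n6619 := rfl
theorem F22346 : act 3 n6619 = n5071 := d18_1 D6619 (iv D5071) (iv D3870) (iv F13377) D5064
theorem F22347 : act 6 n6619 = n5247 := d23_2 (iv F17306) D6619 (iv D5247)
def n6620 : Q := act 5 n5065
theorem D6620 : act 5 n5065 = n6620 := rfl
theorem F22349 : act 3 n6620 = n5072 := d19_1 D6620 (iv D5072) (iv F17308)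
def n6621 : Q := act 3 n5066
theorem D6621 : act 3 n5066 = n6621 := rfl
theorem F22352 : act 0 n6621 = n5067 := d2_1 D6621 (iv D5067) D5066
theorem F22353 : act 5 n6621 = n5073 := d19_2 (iv F17310) D6621 (iv D5073)
theorem F22355 : act 7 n6621 = n5069 := d21_2 (iv F17312) D6621 (iv D5069)
def n6622 : Q := act 2 n5067
theorem D6622 : act 2 n5067 = n6622 := rfl
theorem F22356 : act 1 n6622 = n5083 := d7_1 D6622 (iv D5083) F13420 (iv F13386) (iv F17313)
theorem F22357 : act 5 n6622 = n5074 := d15_2 (iv F17314) D6622 (iv D5074)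
theorem F22358 : act 7 n6622 = n5070 := d17_2 (iv F17316) D6622 (iv D5070)
def n6623 : Q := act 4 n5067
theorem D6623 : act 4 n5067 = n6623 := rfl
theorem F22361 : act 7 n6623 = n5071 := d24_2 (iv F17316) D6623 (iv D5071)
def n6624 : Q := act 5 n5068
theorem D6624 : act 5 n5068 = n6624 := rfl
theorem F22362 : act 2 n6624 = n5085 := d15_1 D6624 (iv D5085) (iv F17317)
theorem F22363 : act 4 n6624 = n5076 := d22_1 D6624 (iv D5076) (iv D3874) (iv F13387) D5068
theorem F22365 : act 7 n6624 = n5072 := d26_2 (iv F17319) D6624 (iv D5072)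
def n6625 : Q := act 2 n5069
theorem D6625 : act 2 n5069 = n6625 := rfl
theorem F22366 : act 0 n6625 = n5070 := d1_1 D6625 (iv D5070) (iv F17320)
theorem F22367 : act 5 n6625 = n5077 := d15_2 (iv F17321) D6625 (iv D5077)
def n6626 : Q := act 4 n5069
theorem D6626 : act 4 n5069 = n6626 := rfl
theorem F22368 : act 0 n6626 = n5071 := d3_1 D6626 (iv D5071) (iv F17320)
theorem F22369 : act 6 n6626 = n5250 := d23_2 (iv F17322) D6626 (iv D5250)
def n6627 : Q := act 4 n5070
theorem D6627 : act 4 n5070 = n6627 := rfl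
theorem F22370 : act 1 n6627 = n5088 := d9_1 D6627 (iv D5088) (iv F17323)
theorem F22371 : act 2 n6627 = n5071 := d14_1 D6627 (iv D5071) D5070
def n6628 : Q := act 6 n5070
theorem D6628 : act 6 n5070 = n6628 := rfl
theorem F22372 : act 1 n6628 = n5089 := d11_1 D6628 (iv D5089) (iv F17323)
theorem F22374 : act 5 n6628 = n5080 := d25_1 D6628 (iv D5080) (iv F17324)
def n6629 : Q := act 5 n5071
theorem D6629 : act 5 n5071 = n6629 := rfl
theorem F22375 : act 1 n6629 = n5072 := d10_1 D6629 (iv D5072) (iv F17325)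
theorem F22376 : act 4 n6629 = n5081 := d22_1 D6629 (iv D5081) (iv D3877) (iv F13393) D5071
theorem F22377 : act 6 n6629 = n5253 := d25_2 (iv F17326) D6629 (iv D5253)
def n6630 : Q := act 2 n5073
theorem D6630 : act 2 n5073 = n6630 := rfl
theorem F22378 : act 0 n6630 = n5074 := d1_1 D6630 (iv D5074) (iv F17330)
theorem F22379 : act 7 n6630 = n5077 := d17_2 (iv F17332) D6630 (iv D5077)
def n6631 : Q := act 4 n5073
theorem D6631 : act 4 n5073 = n6631 := rfl
theorem F22380 : act 0 n6631 = n5075 := d3_1 D6631 (iv D5075) (iv F17330)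
theorem F22381 : act 3 n6631 = n6631 := d18_1 D6631 (iv D6631) (iv D5073) F13397 D5073
theorem F22382 : act 6 n6631 = n6631 := d23_2 F17331 D6631 (iv D6631)
theorem F22383 : act 7 n6631 = n5078 := d24_2 (iv F17332) D6631 (iv D5078)
def n6632 : Q := act 4 n5074
theorem D6632 : act 4 n5074 = n6632 := rfl
theorem F22384 : act 1 n6632 = n5093 := d9_1 D6632 (iv D5093) (iv F17333)
theorem F22385 : act 2 n6632 = n5075 := d14_1 D6632 (iv D5075) D5074
theorem F22386 : act 7 n6632 = n5079 := d24_2 (iv F17334) D6632 (iv D5079)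
def n6633 : Q := act 6 n5074
theorem D6633 : act 6 n5074 = n6633 := rfl
theorem F22387 : act 1 n6633 = n5094 := d11_1 D6633 (iv D5094) (iv F17333)
theorem F22388 : act 2 n6633 = n6633 := d16_1 D6633 (iv D6633) (iv D5074) F13401 D5074
def n6634 : Q := act 5 n5075
theorem D6634 : act 5 n5075 = n6634 := rfl
theorem F22389 : act 1 n6634 = n5076 := d10_1 D6634 (iv D5076) (iv F17335)
theorem F22390 : act 3 n6634 = n6634 := d19_1 D6634 (iv D6634) F17336
theorem F22391 : act 6 n6634 = n6634 := d25_2 F17337 D6634 (iv D6634)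
theorem F22392 : act 7 n6634 = n5081 := d26_2 (iv F17338) D6634 (iv D5081)
def n6635 : Q := act 1 n5077
theorem D6635 : act 1 n5077 = n6635 := rfl
theorem F22393 : act 0 n6635 = n5096 := d0_1 D6635 (iv D5096) F13448 (iv F13409) (iv F17343)
def n6636 : Q := act 4 n5077
theorem D6636 : act 4 n5077 = n6636 := rfl
theorem F22394 : act 0 n6636 = n5079 := d3_1 D6636 (iv D5079) (iv F17343)
theorem F22395 : act 2 n6636 = n5078 := d14_1 D6636 (iv D5078) D5077
def n6637 : Q := act 6 n5077
theorem D6637 : act 6 n5077 = n6637 := rfl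
theorem F22396 : act 0 n6637 = n5080 := d5_1 D6637 (iv D5080) (iv F17343)
theorem F22397 : act 2 n6637 = n5256 := d16_1 D6637 (iv D5256) (iv D4011) (iv F13408) D5077
def n6638 : Q := act 5 n5078
theorem D6638 : act 5 n5078 = n6638 := rfl
theorem F22398 : act 0 n6638 = n5081 := d4_1 D6638 (iv D5081) (iv F17344)
theorem F22399 : act 3 n6638 = n6638 := d19_1 D6638 (iv D6638) F17345
theorem F22400 : act 6 n6638 = n5257 := d25_2 (iv F17346) D6638 (iv D5257)
def n6639 : Q := act 3 n5079
theorem D6639 : act 3 n5079 = n6639 := rfl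
theorem F22401 : act 1 n6639 = n5100 := d8_1 D6639 (iv D5100) (iv F17347)
theorem F22402 : act 2 n6639 = n6639 := d13_1 D6639 (iv D6639) F17348 F13411 (iv F17348)
def n6640 : Q := act 5 n5079
theorem D6640 : act 5 n5079 = n6640 := rfl
theorem F22403 : act 1 n6640 = n5101 := d10_1 D6640 (iv D5101) (iv F17347)
theorem F22404 : act 2 n6640 = n5081 := d15_1 D6640 (iv D5081) (iv F17348)
def n6641 : Q := act 6 n5079
theorem D6641 : act 6 n5079 = n6641 := rfl
theorem F22405 : act 1 n6641 = n5102 := d11_1 D6641 (iv D5102) (iv F17347)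
theorem F22406 : act 2 n6641 = n5260 := d16_1 D6641 (iv D5260) F13853 (iv F13412) (iv F17348)
theorem F22407 : act 4 n6641 = n5080 := d23_1 D6641 (iv D5080) D5079
def n6642 : Q := act 7 n5080
theorem D6642 : act 7 n5080 = n6642 := rfl
theorem F22408 : act 1 n6642 = n5103 := d12_1 D6642 (iv D5103) (iv F17349)
theorem F22409 : act 2 n6642 = n5261 := d17_1 D6642 (iv D5261) (iv F17350)
def n6643 : Q := act 2 n5082
theorem D6643 : act 2 n5082 = n6643 := rfl
theorem F22410 : act 0 n6643 = n5083 := d1_1 D6643 (iv D5083) (iv F17354)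
theorem F22411 : act 5 n6643 = n5091 := d15_2 (iv F17355) D6643 (iv D5091)
theorem F22412 : act 7 n6643 = n5086 := d17_2 (iv F17357) D6643 (iv D5086)
def n6644 : Q := act 4 n5082
theorem D6644 : act 4 n5082 = n6644 := rfl
theorem F22415 : act 6 n6644 = n5659 := d23_2 (iv F17356) D6644 (iv D5659)
theorem F22416 : act 7 n6644 = n5087 := d24_2 (iv F17357) D6644 (iv D5087)
def n6645 : Q := act 4 n5083
theorem D6645 : act 4 n5083 = n6645 := rfl
theorem F22417 : act 2 n6645 = n5084 := d14_1 D6645 (iv D5084) D5083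
theorem F22418 : act 7 n6645 = n5088 := d24_2 (iv F17359) D6645 (iv D5088)
def n6646 : Q := act 6 n5083
theorem D6646 : act 6 n5083 = n6646 := rfl
theorem F22419 : act 2 n6646 = n5661 := d16_1 D6646 (iv D5661) (iv D4322) (iv F13422) D5083
theorem F22420 : act 5 n6646 = n5094 := d25_1 D6646 (iv D5094) (iv F17358)
def n6647 : Q := act 5 n5084
theorem D6647 : act 5 n5084 = n6647 := rfl
theorem F22421 : act 1 n6647 = n5085 := d10_1 D6647 (iv D5085) (iv F17360)
theorem F22424 : act 6 n6647 = n5662 := d25_2 (iv F17362) D6647 (iv D5662)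
theorem F22425 : act 7 n6647 = n5090 := d26_2 (iv F17363) D6647 (iv D5090)
def n6648 : Q := act 1 n5086
theorem D6648 : act 1 n5086 = n6648 := rfl
theorem F22426 : act 5 n6648 = n5096 := d10_2 (iv F17369) D6648 (iv D5096)
def n6649 : Q := act 4 n5086
theorem D6649 : act 4 n5086 = n6649 := rfl
theorem F22428 : act 2 n6649 = n5087 := d14_1 D6649 (iv D5087) D5086
def n6650 : Q := act 6 n5086
theorem D6650 : act 6 n5086 = n6650 := rfl
theorem F22430 : act 2 n6650 = n5117 := d16_1 D6650 (iv D5117) (iv D3905) (iv F13429) D5086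
def n6651 : Q := act 5 n5087
theorem D6651 : act 5 n5087 = n6651 := rfl
theorem F22434 : act 4 n6651 = n5099 := d22_1 D6651 (iv D5099) (iv D3891) (iv F13428) D5087
theorem F22435 : act 6 n6651 = n5118 := d25_2 (iv F17372) D6651 (iv D5118)
def n6652 : Q := act 3 n5088
theorem D6652 : act 3 n5088 = n6652 := rfl
def n6653 : Q := act 5 n5088
theorem D6653 : act 5 n5088 = n6653 := rfl
theorem F22437 : act 2 n6653 = n5090 := d15_1 D6653 (iv D5090) (iv F17373)
def n6654 : Q := act 6 n5088
theorem D6654 : act 6 n5088 = n6654 := rfl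
theorem F22439 : act 2 n6654 = n5121 := d16_1 D6654 (iv D5121) F13497 (iv F13433) (iv F17373)
def n6655 : Q := act 7 n5089
theorem D6655 : act 7 n5089 = n6655 := rfl
def n6656 : Q := act 1 n5091
theorem D6656 : act 1 n5091 = n6656 := rfl
theorem F22443 : act 7 n6656 = n5096 := d12_2 (iv F17381) D6656 (iv D5096)
def n6657 : Q := act 4 n5091
theorem D6657 : act 4 n5091 = n6657 := rfl
theorem F22444 : act 0 n6657 = n5093 := d3_1 D6657 (iv D5093) (iv F17380)
theorem F22445 : act 2 n6657 = n5092 := d14_1 D6657 (iv D5092) D5091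
theorem F22446 : act 7 n6657 = n5097 := d24_2 (iv F17381) D6657 (iv D5097)
def n6658 : Q := act 6 n5091
theorem D6658 : act 6 n5091 = n6658 := rfl
theorem F22447 : act 0 n6658 = n5094 := d5_1 D6658 (iv D5094) (iv F17380)
theorem F22448 : act 2 n6658 = n5673 := d16_1 D6658 (iv D5673) (iv D4330) (iv F13438) D5091
def n6659 : Q := act 5 n5092
theorem D6659 : act 5 n5092 = n6659 := rfl
theorem F22449 : act 0 n6659 = n5095 := d4_1 D6659 (iv D5095) (iv F17382)
theorem F22450 : act 3 n6659 = n5107 := d19_1 D6659 (iv D5107) (iv F17383)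
theorem F22451 : act 6 n6659 = n5674 := d25_2 (iv F17384) D6659 (iv D5674)
theorem F22452 : act 7 n6659 = n5099 := d26_2 (iv F17385) D6659 (iv D5099)
def n6660 : Q := act 3 n5093
theorem D6660 : act 3 n5093 = n6660 := rfl
theorem F22453 : act 2 n6660 = n5108 := d13_1 D6660 (iv D5108) F13464 (iv F13442) (iv F17386)
theorem F22454 : act 7 n6660 = n5100 := d21_2 (iv F17387) D6660 (iv D5100)
def n6661 : Q := act 5 n5093
theorem D6661 : act 5 n5093 = n6661 := rfl
theorem F22455 : act 2 n6661 = n5095 := d15_1 D6661 (iv D5095) (iv F17386)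
theorem F22456 : act 7 n6661 = n5101 := d26_2 (iv F17387) D6661 (iv D5101)
def n6662 : Q := act 6 n5093
theorem D6662 : act 6 n5093 = n6662 := rfl
theorem F22457 : act 2 n6662 = n5677 := d16_1 D6662 (iv D5677) F14901 (iv F13443) (iv F17386)
theorem F22458 : act 4 n6662 = n5094 := d23_1 D6662 (iv D5094) D5093
def n6663 : Q := act 7 n5094
theorem D6663 : act 7 n5094 = n6663 := rfl
theorem F22459 : act 2 n6663 = n5678 := d17_1 D6663 (iv D5678) (iv F17388)
theorem F22460 : act 6 n6663 = n5103 := d27_1 D6663 (iv D5103) (iv D3893) (iv F13440) D5094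
def n6664 : Q := act 4 n5096
theorem D6664 : act 4 n5096 = n6664 := rfl
theorem F22461 : act 1 n6664 = n5097 := d9_1 D6664 (iv D5097) D5096
def n6665 : Q := act 6 n5096
theorem D6665 : act 6 n5096 = n6665 := rfl
theorem F22462 : act 1 n6665 = n5098 := d11_1 D6665 (iv D5098) D5096
def n6666 : Q := act 3 n5097
theorem D6666 : act 3 n5097 = n6666 := rfl
theorem F22463 : act 0 n6666 = n5100 := d2_1 D6666 (iv D5100) (iv F17393)
theorem F22464 : act 2 n6666 = n5112 := d13_1 D6666 (iv D5112) F13478 (iv F13450) (iv F17394)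
def n6667 : Q := act 5 n5097
theorem D6667 : act 5 n5097 = n6667 := rfl
theorem F22465 : act 0 n6667 = n5101 := d4_1 D6667 (iv D5101) (iv F17393)
theorem F22466 : act 2 n6667 = n5099 := d15_1 D6667 (iv D5099) (iv F17394)
def n6668 : Q := act 6 n5097
theorem D6668 : act 6 n5097 = n6668 := rfl
theorem F22467 : act 0 n6668 = n5102 := d5_1 D6668 (iv D5102) (iv F17393)
theorem F22468 : act 2 n6668 = n5126 := d16_1 D6668 (iv D5126) F13510 (iv F13451) (iv F17394)
theorem F22469 : act 4 n6668 = n5098 := d23_1 D6668 (iv D5098) D5097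
def n6669 : Q := act 7 n5098
theorem D6669 : act 7 n5098 = n6669 := rfl
theorem F22470 : act 0 n6669 = n5103 := d6_1 D6669 (iv D5103) (iv F17395)
theorem F22471 : act 2 n6669 = n5127 := d17_1 D6669 (iv D5127) (iv F17396)
def n6670 : Q := act 5 n5100
theorem D6670 : act 5 n5100 = n6670 := rfl
theorem F22472 : act 2 n6670 = n5114 := d15_1 D6670 (iv D5114) (iv F17400)
theorem F22473 : act 3 n6670 = n5101 := d19_1 D6670 (iv D5101) D5100
def n6671 : Q := act 6 n5100
theorem D6671 : act 6 n5100 = n6671 := rfl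
theorem F22474 : act 2 n6671 = n6671 := d16_1 D6671 (iv D6671) F17400 F13484 (iv F17400)
theorem F22475 : act 3 n6671 = n5102 := d20_1 D6671 (iv D5102) D5100
def n6672 : Q := act 6 n5101
theorem D6672 : act 6 n5101 = n6672 := rfl
theorem F22476 : act 2 n6672 = n5128 := d16_1 D6672 (iv D5128) F13519 (iv F13456) (iv F17401)
theorem F22477 : act 5 n6672 = n5102 := d25_1 D6672 (iv D5102) D5101
def n6673 : Q := act 7 n5102
theorem D6673 : act 7 n5102 = n6673 := rfl
theorem F22478 : act 2 n6673 = n5129 := d17_1 D6673 (iv D5129) (iv F17402)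
theorem F22479 : act 4 n6673 = n5103 := d24_1 D6673 (iv D5103) (iv F17403)
def n6674 : Q := act 4 n5104
theorem D6674 : act 4 n5104 = n6674 := rfl
theorem F22480 : act 0 n6674 = n6674 := d3_1 D6674 (iv D6674) F17405
theorem F22481 : act 1 n6674 = n5105 := d9_1 D6674 (iv D5105) D5104
theorem F22482 : act 7 n6674 = n5111 := d24_2 (iv F17407) D6674 (iv D5111)
def n6675 : Q := act 6 n5104
theorem D6675 : act 6 n5104 = n6675 := rfl
theorem F22483 : act 0 n6675 = n6675 := d5_1 D6675 (iv D6675) F17405
theorem F22484 : act 1 n6675 = n5106 := d11_1 D6675 (iv D5106) D5104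
theorem F22485 : act 5 n6675 = n6675 := d25_1 D6675 (iv D6675) F17406
theorem F22486 : act 7 n6675 = n6675 := d27_2 (iv F17407) D6675 (iv D6675) F17407 F13476
def n6676 : Q := act 3 n5105
theorem D6676 : act 3 n5105 = n6676 := rfl
theorem F22487 : act 0 n6676 = n5108 := d2_1 D6676 (iv D5108) (iv F17408)
theorem F22488 : act 7 n6676 = n5112 := d21_2 (iv F17410) D6676 (iv D5112)
def n6677 : Q := act 5 n5105
theorem D6677 : act 5 n5105 = n6677 := rfl
theorem F22489 : act 0 n6677 = n5109 := d4_1 D6677 (iv D5109) (iv F17408)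
theorem F22490 : act 2 n6677 = n5107 := d15_1 D6677 (iv D5107) (iv F17409)
theorem F22491 : act 4 n6677 = n6677 := d22_1 D6677 (iv D6677) (iv D5105) F13458 D5105
theorem F22492 : act 7 n6677 = n5113 := d26_2 (iv F17410) D6677 (iv D5113)
def n6678 : Q := act 6 n5105
theorem D6678 : act 6 n5105 = n6678 := rfl
theorem F22493 : act 0 n6678 = n5110 := d5_1 D6678 (iv D5110) (iv F17408)
theorem F22494 : act 2 n6678 = n5693 := d16_1 D6678 (iv D5693) F14934 (iv F13461) (iv F17409)
theorem F22495 : act 4 n6678 = n5106 := d23_1 D6678 (iv D5106) D5105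
theorem F22496 : act 7 n6678 = n6678 := d27_2 (iv F17410) D6678 (iv D6678) F17410 F13479
def n6679 : Q := act 5 n5108
theorem D6679 : act 5 n5108 = n6679 := rfl
theorem F22498 : act 3 n6679 = n5109 := d19_1 D6679 (iv D5109) D5108
theorem F22499 : act 7 n6679 = n5114 := d26_2 (iv F17420) D6679 (iv D5114)
def n6680 : Q := act 6 n5108
theorem D6680 : act 6 n5108 = n6680 := rfl
theorem F22501 : act 3 n6680 = n5110 := d20_1 D6680 (iv D5110) D5108
def n6681 : Q := act 6 n5109
theorem D6681 : act 6 n5109 = n6681 := rfl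
def n6682 : Q := act 3 n5111
theorem D6682 : act 3 n5111 = n6682 := rfl
theorem F22508 : act 0 n6682 = n6682 := d2_1 D6682 (iv D6682) F17429
theorem F22509 : act 1 n6682 = n5112 := d8_1 D6682 (iv D5112) (iv F17430)
theorem F22510 : act 6 n6682 = n6682 := d20_2 F17431 D6682 (iv D6682)
def n6683 : Q := act 5 n5111
theorem D6683 : act 5 n5111 = n6683 := rfl
theorem F22512 : act 1 n6683 = n5113 := d10_1 D6683 (iv D5113) (iv F17430)
def n6684 : Q := act 5 n5112
theorem D6684 : act 5 n5112 = n6684 := rfl
theorem F22515 : act 0 n6684 = n5114 := d4_1 D6684 (iv D5114) (iv F17432)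
theorem F22516 : act 3 n6684 = n5113 := d19_1 D6684 (iv D5113) D5112
theorem F22517 : act 6 n6684 = n6684 := d25_2 F17433 D6684 (iv D6684)
def n6686 : Q := act 4 n5115
theorem D6686 : act 4 n5115 = n6686 := rfl
theorem F22521 : act 0 n6686 = n5284 := d3_1 D6686 (iv D5284) (iv F17441)
theorem F22522 : act 1 n6686 = n5116 := d9_1 D6686 (iv D5116) D5115
theorem F22523 : act 7 n6686 = n5701 := d24_2 (iv F17444) D6686 (iv D5701)
def n6687 : Q := act 6 n5115
theorem D6687 : act 6 n5115 = n6687 := rfl
theorem F22525 : act 1 n6687 = n5117 := d11_1 D6687 (iv D5117) D5115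
def n6688 : Q := act 3 n5116
theorem D6688 : act 3 n5116 = n6688 := rfl
theorem F22528 : act 0 n6688 = n5119 := d2_1 D6688 (iv D5119) (iv F17445)
theorem F22531 : act 7 n6688 = n5703 := d21_2 (iv F17447) D6688 (iv D5703)
def n6689 : Q := act 5 n5116
theorem D6689 : act 5 n5116 = n6689 := rfl
theorem F22532 : act 0 n6689 = n5120 := d4_1 D6689 (iv D5120) (iv F17445)
theorem F22533 : act 2 n6689 = n5118 := d15_1 D6689 (iv D5118) (iv F17446)
theorem F22535 : act 7 n6689 = n5704 := d26_2 (iv F17447) D6689 (iv D5704)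
def n6690 : Q := act 6 n5116
theorem D6690 : act 6 n5116 = n6690 := rfl
def n6691 : Q := act 7 n5117
theorem D6691 : act 7 n5117 = n6691 := rfl
theorem F22541 : act 6 n6691 = n5706 := d27_1 D6691 (iv D5706) (iv D4356) (iv F13492) D5117
def n6692 : Q := act 5 n5119
theorem D6692 : act 5 n5119 = n6692 := rfl
theorem F22542 : act 1 n6692 = n5290 := d10_1 D6692 (iv D5290) (iv F17455)
def n6693 : Q := act 6 n5119
theorem D6693 : act 6 n5119 = n6693 := rfl
def n6695 : Q := act 7 n5121
theorem D6695 : act 7 n5121 = n6695 := rfl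
theorem F22555 : act 6 n6695 = n5710 := d27_1 D6695 (iv D5710) (iv D4360) (iv F13498) D5121
def n6696 : Q := act 5 n5123
theorem D6696 : act 5 n5123 = n6696 := rfl
theorem F22556 : act 0 n6696 = n5294 := d4_1 D6696 (iv D5294) (iv F17469)
theorem F22559 : act 7 n6696 = n5711 := d26_2 (iv F17472) D6696 (iv D5711)
def n6697 : Q := act 6 n5123
theorem D6697 : act 6 n5123 = n6697 := rfl
theorem F22561 : act 1 n6697 = n5126 := d11_1 D6697 (iv D5126) (iv F17470)
def n6698 : Q := act 2 n5124
theorem D6698 : act 2 n5124 = n6698 := rfl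
def n6700 : Q := act 6 n5125
theorem D6700 : act 6 n5125 = n6700 := rfl
theorem F22571 : act 5 n6700 = n5126 := d25_1 D6700 (iv D5126) D5125
def n6701 : Q := act 7 n5126
theorem D6701 : act 7 n5126 = n6701 := rfl
theorem F22572 : act 0 n6701 = n5129 := d6_1 D6701 (iv D5129) (iv F17480)
theorem F22573 : act 3 n6701 = n6701 := d21_1 D6701 (iv D6701) F17481
theorem F22574 : act 4 n6701 = n5127 := d24_1 D6701 (iv D5127) (iv F17482)
theorem F22575 : act 6 n6701 = n5716 := d27_1 D6701 (iv D5716) (iv D4365) (iv F13512) D5126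
def n6702 : Q := act 7 n5128
theorem D6702 : act 7 n5128 = n6702 := rfl
theorem F22578 : act 5 n6702 = n5129 := d26_1 D6702 (iv D5129) (iv F17488)
theorem F22579 : act 6 n6702 = n5717 := d27_1 D6702 (iv D5717) (iv D4367) (iv F13521) D5128
def n6704 : Q := act 6 n5130
theorem D6704 : act 6 n5130 = n6704 := rfl
theorem F22585 : act 1 n6704 = n5133 := d11_1 D6704 (iv D5133) (iv F17494)
def n6705 : Q := act 2 n5131
theorem D6705 : act 2 n5131 = n6705 := rfl
def n6707 : Q := act 6 n5132
theorem D6707 : act 6 n5132 = n6707 := rfl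
theorem F22595 : act 0 n6707 = n5135 := d5_1 D6707 (iv D5135) (iv F17501)
theorem F22596 : act 3 n6707 = n5133 := d20_1 D6707 (iv D5133) D5132
def n6708 : Q := act 7 n5133
theorem D6708 : act 7 n5133 = n6708 := rfl
theorem F22601 : act 6 n6708 = n5723 := d27_1 D6708 (iv D5723) (iv D4372) (iv F13535) D5133
def n6709 : Q := act 2 n5135
theorem D6709 : act 2 n5135 = n6709 := rfl
def n6710 : Q := act 7 n5135
theorem D6710 : act 7 n5135 = n6710 := rfl
theorem F22604 : act 1 n6710 = n5308 := d12_1 D6710 (iv D5308) (iv F17511)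
theorem F22605 : act 3 n6710 = n5136 := d21_1 D6710 (iv D5136) (iv F17512)
theorem F22607 : act 6 n6710 = n5725 := d27_1 D6710 (iv D5725) (iv D4374) (iv F13541) D5135
def n6722 : Q := act 0 n5145
theorem D6722 : act 0 n5145 = n6722 := rfl
theorem F22651 : act 5 n6722 = n5149 := d4_2 (iv F17550) D6722 (iv D5149)
theorem F22652 : act 6 n6722 = n5154 := d5_2 (iv F17551) D6722 (iv D5154)
def n6723 : Q := act 3 n5145
theorem D6723 : act 3 n5145 = n6723 := rfl
theorem F22654 : act 5 n6723 = n5150 := d19_2 (iv F17550) D6723 (iv D5150)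
theorem F22655 : act 6 n6723 = n5155 := d20_2 (iv F17551) D6723 (iv D5155)
def n6728 : Q := act 3 n5149
theorem D6728 : act 3 n5149 = n6728 := rfl
theorem F22671 : act 0 n6728 = n5150 := d2_1 D6728 (iv D5150) D5149
theorem F22672 : act 1 n6728 = n6728 := d8_1 D6728 (iv D6728) F17563
theorem F22673 : act 6 n6728 = n5157 := d20_2 (iv F17565) D6728 (iv D5157)
def n6729 : Q := act 2 n5150
theorem D6729 : act 2 n5150 = n6729 := rfl
theorem F22674 : act 1 n6729 = n6729 := d7_1 D6729 (iv D6729) F17566 F13584 (iv F17566)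
def n6730 : Q := act 4 n5150
theorem D6730 : act 4 n5150 = n6730 := rfl
theorem F22675 : act 1 n6730 = n5151 := d9_1 D6730 (iv D5151) (iv F17566)
theorem F22676 : act 3 n6730 = n6730 := d18_1 D6730 (iv D6730) (iv D5150) F13581 D5150
theorem F22677 : act 6 n6730 = n5159 := d23_2 (iv F17567) D6730 (iv D5159)
def n6731 : Q := act 5 n5151
theorem D6731 : act 5 n5151 = n6731 := rfl
theorem F22681 : act 6 n6731 = n5160 := d25_2 (iv F17571) D6731 (iv D5160)
def n6732 : Q := act 0 n5152
theorem D6732 : act 0 n5152 = n6732 := rfl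
theorem F22683 : act 2 n6732 = n5178 := d1_2 (iv F17572) D6732 (iv D5178)
theorem F22684 : act 4 n6732 = n5154 := d3_2 (iv F17573) D6732 (iv D5154)
def n6735 : Q := act 3 n5154
theorem D6735 : act 3 n5154 = n6735 := rfl
theorem F22694 : act 0 n6735 = n5155 := d2_1 D6735 (iv D5155) D5154
theorem F22695 : act 1 n6735 = n6735 := d8_1 D6735 (iv D6735) F17580
theorem F22696 : act 5 n6735 = n5157 := d19_2 (iv F17582) D6735 (iv D5157)
theorem F22697 : act 7 n6735 = n6735 := d21_2 F17583 D6735 (iv D6735)
def n6736 : Q := act 2 n5155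
theorem D6736 : act 2 n5155 = n6736 := rfl
theorem F22698 : act 1 n6736 = n5162 := d7_1 D6736 (iv D5162) F13613 (iv F13594) (iv F17584)
theorem F22699 : act 3 n6736 = n5182 := d13_2 D5155 D6736 (iv D5182) (iv D3955) (iv F13590)
theorem F22700 : act 5 n6736 = n5158 := d15_2 (iv F17585) D6736 (iv D5158)
theorem F22701 : act 7 n6736 = n6736 := d17_2 F17586 D6736 (iv D6736)
def n6737 : Q := act 4 n5155
theorem D6737 : act 4 n5155 = n6737 := rfl
def n6739 : Q := act 2 n5157
theorem D6739 : act 2 n5157 = n6739 := rfl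
theorem F22708 : act 0 n6739 = n5158 := d1_1 D6739 (iv D5158) (iv F17590)
theorem F22709 : act 3 n6739 = n5185 := d13_2 D5157 D6739 (iv D5185) (iv D3957) (iv F13598)
theorem F22710 : act 7 n6739 = n6739 := d17_2 F17592 D6739 (iv D6739)
def n6740 : Q := act 4 n5157
theorem D6740 : act 4 n5157 = n6740 := rfl
theorem F22711 : act 0 n6740 = n5159 := d3_1 D6740 (iv D5159) (iv F17590)
theorem F22712 : act 1 n6740 = n6740 := d9_1 D6740 (iv D6740) F17591
theorem F22713 : act 3 n6740 = n6740 := d18_1 D6740 (iv D6740) (iv D5157) F13599 D5157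
theorem F22714 : act 7 n6740 = n6740 := d24_2 F17592 D6740 (iv D6740)
def n6741 : Q := act 4 n5158
theorem D6741 : act 4 n5158 = n6741 := rfl
theorem F22715 : act 1 n6741 = n5167 := d9_1 D6741 (iv D5167) (iv F17593)
theorem F22716 : act 2 n6741 = n5159 := d14_1 D6741 (iv D5159) D5158
def n6743 : Q := act 5 n5159
theorem D6743 : act 5 n5159 = n6743 := rfl
def n6744 : Q := act 2 n5161
theorem D6744 : act 2 n5161 = n6744 := rfl
theorem F22725 : act 5 n6744 = n5165 := d15_2 (iv F17605) D6744 (iv D5165)
def n6746 : Q := act 4 n5162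
theorem D6746 : act 4 n5162 = n6746 := rfl
theorem F22732 : act 2 n6746 = n5163 := d14_1 D6746 (iv D5163) D5162
def n6749 : Q := act 1 n5165
theorem D6749 : act 1 n5165 = n6749 := rfl
theorem F22743 : act 3 n6749 = n5195 := d8_2 (iv F17621) D6749 (iv D5195)
def n6753 : Q := act 3 n5167
theorem D6753 : act 3 n5167 = n6753 := rfl
theorem F22756 : act 2 n6753 = n5174 := d13_1 D6753 (iv D5174) F13644 (iv F13628) (iv F17628)
def n6758 : Q := act 6 n5170
theorem D6758 : act 6 n5170 = n6758 := rfl
theorem F22771 : act 1 n6758 = n5172 := d11_1 D6758 (iv D5172) D5170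
theorem F22773 : act 5 n6758 = n5356 := d25_1 D6758 (iv D5356) (iv F17639)
def n6762 : Q := act 7 n5172
theorem D6762 : act 7 n5172 = n6762 := rfl
theorem F22786 : act 3 n6762 = n5208 := d21_1 D6762 (iv D5208) (iv F17646)
theorem F22787 : act 5 n6762 = n5360 := d26_1 D6762 (iv D5360) (iv F17647)
def n6763 : Q := act 5 n5174
theorem D6763 : act 5 n5174 = n6763 := rfl
theorem F22790 : act 3 n6763 = n5175 := d19_1 D6763 (iv D5175) D5174
def n6764 : Q := act 6 n5174
theorem D6764 : act 6 n5174 = n6764 := rfl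
theorem F22793 : act 3 n6764 = n5176 := d20_1 D6764 (iv D5176) D5174
def n6765 : Q := act 6 n5175
theorem D6765 : act 6 n5175 = n6765 := rfl
theorem F22797 : act 4 n6765 = n5363 := d23_1 D6765 (iv D5363) (iv F17658)
def n6766 : Q := act 7 n5176
theorem D6766 : act 7 n5176 = n6766 := rfl
theorem F22801 : act 4 n6766 = n5177 := d24_1 D6766 (iv D5177) (iv F17662)
def n6767 : Q := act 3 n5178
theorem D6767 : act 3 n5178 = n6767 := rfl
theorem F22803 : act 0 n6767 = n5179 := d2_1 D6767 (iv D5179) D5178
theorem F22804 : act 1 n6767 = n5245 := d8_1 D6767 (iv D5245) (iv F17668)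
def n6769 : Q := act 4 n5179
theorem D6769 : act 4 n5179 = n6769 := rfl
theorem F22810 : act 1 n6769 = n5180 := d9_1 D6769 (iv D5180) (iv F17672)
def n6770 : Q := act 5 n5180
theorem D6770 : act 5 n5180 = n6770 := rfl
theorem F22813 : act 0 n6770 = n5248 := d4_1 D6770 (iv D5248) (iv F17675)
theorem F22814 : act 2 n6770 = n5368 := d15_1 D6770 (iv D5368) (iv F17676)
def n6771 : Q := act 2 n5181
theorem D6771 : act 2 n5181 = n6771 := rfl
theorem F22818 : act 0 n6771 = n5182 := d1_1 D6771 (iv D5182) (iv F17679)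
theorem F22819 : act 5 n6771 = n5185 := d15_2 (iv F17681) D6771 (iv D5185)
theorem F22820 : act 7 n6771 = n6771 := d17_2 F17682 D6771 (iv D6771)
def n6772 : Q := act 4 n5181
theorem D6772 : act 4 n5181 = n6772 := rfl
theorem F22821 : act 0 n6772 = n5183 := d3_1 D6772 (iv D5183) (iv F17679)
theorem F22822 : act 1 n6772 = n5250 := d9_1 D6772 (iv D5250) (iv F17680)
theorem F22823 : act 7 n6772 = n6772 := d24_2 F17682 D6772 (iv D6772)
def n6773 : Q := act 4 n5182
theorem D6773 : act 4 n5182 = n6773 := rfl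
theorem F22824 : act 1 n6773 = n5192 := d9_1 D6773 (iv D5192) (iv F17683)
theorem F22825 : act 2 n6773 = n5183 := d14_1 D6773 (iv D5183) D5182
def n6774 : Q := act 6 n5182
theorem D6774 : act 6 n5182 = n6774 := rfl
def n6775 : Q := act 5 n5183
theorem D6775 : act 5 n5183 = n6775 := rfl
theorem F22829 : act 1 n6775 = n5184 := d10_1 D6775 (iv D5184) (iv F17686)
def n6776 : Q := act 1 n5185
theorem D6776 : act 1 n5185 = n6776 := rfl
theorem F22832 : act 0 n6776 = n5195 := d0_1 D6776 (iv D5195) F13698 (iv F13673) (iv F17692)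
def n6777 : Q := act 4 n5185
theorem D6777 : act 4 n5185 = n6777 := rfl
theorem F22835 : act 0 n6777 = n5187 := d3_1 D6777 (iv D5187) (iv F17692)
def n6778 : Q := act 6 n5185
theorem D6778 : act 6 n5185 = n6778 := rfl
def n6781 : Q := act 5 n5187
theorem D6781 : act 5 n5187 = n6781 := rfl
theorem F22846 : act 1 n6781 = n5200 := d10_1 D6781 (iv D5200) (iv F17698)
def n6788 : Q := act 3 n5192
theorem D6788 : act 3 n5192 = n6788 := rfl
theorem F22868 : act 2 n6788 = n5386 := d13_1 D6788 (iv D5386) F14182 (iv F13690) (iv F17713)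
def n6792 : Q := act 4 n5195
theorem D6792 : act 4 n5195 = n6792 := rfl
theorem F22878 : act 1 n6792 = n5196 := d9_1 D6792 (iv D5196) D5195
theorem F22879 : act 2 n6792 = n5270 := d14_1 D6792 (iv D5270) (iv F17722)
def n6796 : Q := act 6 n5196
theorem D6796 : act 6 n5196 = n6796 := rfl
theorem F22889 : act 2 n6796 = n5225 := d16_1 D6796 (iv D5225) F13760 (iv F13703) (iv F17725)
def n6815 : Q := act 4 n5213
theorem D6815 : act 4 n5213 = n6815 := rfl
theorem F22948 : act 1 n6815 = n5214 := d9_1 D6815 (iv D5214) D5213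
theorem F22949 : act 2 n6815 = n5284 := d14_1 D6815 (iv D5284) (iv F17776)
def n6817 : Q := act 3 n5214
theorem D6817 : act 3 n5214 = n6817 := rfl
theorem F22955 : act 2 n6817 = n5415 := d13_1 D6817 (iv D5415) F14246 (iv F13746) (iv F17781)
def n6818 : Q := act 5 n5214
theorem D6818 : act 5 n5214 = n6818 := rfl
theorem F22959 : act 2 n6818 = n5216 := d15_1 D6818 (iv D5216) (iv F17781)
theorem F22960 : act 4 n6818 = n5224 := d22_1 D6818 (iv D5224) (iv D3984) (iv F13742) D5214
def n6821 : Q := act 5 n5217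
theorem D6821 : act 5 n5217 = n6821 := rfl
theorem F22968 : act 2 n6821 = n5419 := d15_1 D6821 (iv D5419) (iv F17791)
def n6826 : Q := act 5 n5221
theorem D6826 : act 5 n5221 = n6826 := rfl
theorem F22981 : act 1 n6826 = n5224 := d10_1 D6826 (iv D5224) (iv F17801)
theorem F22983 : act 7 n6826 = n5739 := d26_2 (iv F17803) D6826 (iv D5739)
def n6827 : Q := act 6 n5221
theorem D6827 : act 6 n5221 = n6827 := rfl
def n6830 : Q := act 5 n5223
theorem D6830 : act 5 n5223 = n6830 := rfl
theorem F22991 : act 2 n6830 = n5231 := d15_1 D6830 (iv D5231) (iv F17807)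
theorem F22993 : act 7 n6830 = n5743 := d26_2 (iv F17809) D6830 (iv D5743)
def n6831 : Q := act 6 n5223
theorem D6831 : act 6 n5223 = n6831 := rfl
def n6832 : Q := act 6 n5224
theorem D6832 : act 6 n5224 = n6832 := rfl
theorem F22998 : act 5 n6832 = n5225 := d25_1 D6832 (iv D5225) D5224
def n6839 : Q := act 4 n5231
theorem D6839 : act 4 n5231 = n6839 := rfl
theorem F23016 : act 3 n6839 = n5437 := d18_1 D6839 (iv D5437) F14301 (iv F13783) (iv F17828)
theorem F23018 : act 7 n6839 = n5752 := d24_2 (iv F17829) D6839 (iv D5752)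
def n6841 : Q := act 2 n5232
theorem D6841 : act 2 n5232 = n6841 := rfl
def n6842 : Q := act 7 n5232
theorem D6842 : act 7 n5232 = n6842 := rfl
theorem F23027 : act 3 n6842 = n5234 := d21_1 D6842 (iv D5234) (iv F17832)
theorem F23029 : act 6 n6842 = n5755 := d27_1 D6842 (iv D5755) (iv D4397) (iv F13779) D5232
def n6844 : Q := act 6 n5235
theorem D6844 : act 6 n5235 = n6844 := rfl
theorem F23036 : act 3 n6844 = n5442 := d20_1 D6844 (iv D5442) (iv F17843)
def n6856 : Q := act 2 n5245
theorem D6856 : act 2 n5245 = n6856 := rfl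
theorem F23072 : act 0 n6856 = n5246 := d1_1 D6856 (iv D5246) (iv F17875)
def n6857 : Q := act 4 n5245
theorem D6857 : act 4 n5245 = n6857 := rfl
theorem F23076 : act 0 n6857 = n5247 := d3_1 D6857 (iv D5247) (iv F17875)
def n6858 : Q := act 4 n5246
theorem D6858 : act 4 n5246 = n6858 := rfl
theorem F23079 : act 1 n6858 = n5456 := d9_1 D6858 (iv D5456) (iv F17878)
theorem F23080 : act 2 n6858 = n5247 := d14_1 D6858 (iv D5247) D5246
def n6860 : Q := act 5 n5247
theorem D6860 : act 5 n5247 = n6860 := rfl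
def n6861 : Q := act 1 n5249
theorem D6861 : act 1 n5249 = n6861 := rfl
theorem F23089 : act 0 n6861 = n5262 := d0_1 D6861 (iv D5262) F13860 (iv F13837) (iv F17889)
theorem F23091 : act 5 n6861 = n5254 := d10_2 (iv F17891) D6861 (iv D5254)
def n6863 : Q := act 6 n5249
theorem D6863 : act 6 n5249 = n6863 := rfl
theorem F23096 : act 0 n6863 = n5252 := d5_1 D6863 (iv D5252) (iv F17889)
theorem F23098 : act 5 n6863 = n5256 := d25_1 D6863 (iv D5256) (iv F17891)
def n6864 : Q := act 5 n5250
theorem D6864 : act 5 n5250 = n6864 := rfl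
theorem F23099 : act 0 n6864 = n5253 := d4_1 D6864 (iv D5253) (iv F17893)
theorem F23100 : act 4 n6864 = n5257 := d22_1 D6864 (iv D5257) (iv D4012) (iv F13835) D5250
def n6866 : Q := act 5 n5251
theorem D6866 : act 5 n5251 = n6866 := rfl
theorem F23105 : act 1 n6866 = n5267 := d10_1 D6866 (iv D5267) (iv F17895)
theorem F23106 : act 2 n6866 = n5253 := d15_1 D6866 (iv D5253) (iv F17896)
def n6868 : Q := act 7 n5252
theorem D6868 : act 7 n5252 = n6868 := rfl
theorem F23113 : act 5 n6868 = n5261 := d26_1 D6868 (iv D5261) (iv F17900)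
def n6869 : Q := act 4 n5254
theorem D6869 : act 4 n5254 = n6869 := rfl
theorem F23115 : act 0 n6869 = n5270 := d3_1 D6869 (iv D5270) (iv F17904)
theorem F23116 : act 1 n6869 = n5255 := d9_1 D6869 (iv D5255) D5254
def n6870 : Q := act 6 n5254
theorem D6870 : act 6 n5254 = n6870 := rfl
theorem F23118 : act 0 n6870 = n5271 := d5_1 D6870 (iv D5271) (iv F17904)
theorem F23119 : act 1 n6870 = n5256 := d11_1 D6870 (iv D5256) D5254
def n6871 : Q := act 3 n5255
theorem D6871 : act 3 n5255 = n6871 := rfl
theorem F23121 : act 0 n6871 = n5258 := d2_1 D6871 (iv D5258) (iv F17907)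
theorem F23122 : act 2 n6871 = n6871 := d13_1 D6871 (iv D6871) F17908 F13850 (iv F17908)
theorem F23123 : act 4 n6871 = n6871 := d18_2 D5255 D6871 (iv D6871) (iv D5255) F13847
theorem F23124 : act 7 n6871 = n6871 := d21_2 F17909 D6871 (iv D6871)
def n6872 : Q := act 5 n5255
theorem D6872 : act 5 n5255 = n6872 := rfl
theorem F23125 : act 0 n6872 = n5259 := d4_1 D6872 (iv D5259) (iv F17907)
theorem F23126 : act 2 n6872 = n5257 := d15_1 D6872 (iv D5257) (iv F17908)
def n6873 : Q := act 6 n5255
theorem D6873 : act 6 n5255 = n6873 := rfl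
theorem F23128 : act 0 n6873 = n5260 := d5_1 D6873 (iv D5260) (iv F17907)
theorem F23129 : act 4 n6873 = n5256 := d23_1 D6873 (iv D5256) D5255
def n6874 : Q := act 7 n5256
theorem D6874 : act 7 n5256 = n6874 := rfl
theorem F23130 : act 0 n6874 = n5261 := d6_1 D6874 (iv D5261) (iv F17910)
theorem F23131 : act 3 n6874 = n6874 := d21_1 D6874 (iv D6874) F17911
theorem F23132 : act 6 n6874 = n6874 := d27_1 D6874 (iv D6874) (iv D5256) F13848 D5256
def n6876 : Q := act 6 n5258
theorem D6876 : act 6 n5258 = n6876 := rfl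
theorem F23138 : act 3 n6876 = n5260 := d20_1 D6876 (iv D5260) D5258
def n6878 : Q := act 7 n5260
theorem D6878 : act 7 n5260 = n6878 := rfl
def n6879 : Q := act 4 n5262
theorem D6879 : act 4 n5262 = n6879 := rfl
theorem F23145 : act 1 n6879 = n5263 := d9_1 D6879 (iv D5263) D5262
def n6881 : Q := act 3 n5263
theorem D6881 : act 3 n5263 = n6881 := rfl
theorem F23151 : act 2 n6881 = n5479 := d13_1 D6881 (iv D5479) F14410 (iv F13865) (iv F17931)
def n6882 : Q := act 5 n5263
theorem D6882 : act 5 n5263 = n6882 := rfl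
theorem F23155 : act 2 n6882 = n5265 := d15_1 D6882 (iv D5265) (iv F17931)
theorem F23156 : act 4 n6882 = n5273 := d22_1 D6882 (iv D5273) (iv D4022) (iv F13862) D5263
def n6891 : Q := act 6 n5270
theorem D6891 : act 6 n5270 = n6891 := rfl
theorem F23182 : act 1 n6891 = n5274 := d11_1 D6891 (iv D5274) (iv F17954)
theorem F23183 : act 4 n6891 = n5271 := d23_1 D6891 (iv D5271) D5270
def n6892 : Q := act 2 n5271
theorem D6892 : act 2 n5271 = n6892 := rfl
theorem F23184 : act 1 n6892 = n5296 := d7_1 D6892 (iv D5296) F13943 (iv F13884) (iv F17956)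
def n6894 : Q := act 5 n5272
theorem D6894 : act 5 n5272 = n6894 := rfl
theorem F23189 : act 2 n6894 = n5282 := d15_1 D6894 (iv D5282) (iv F17959)
theorem F23190 : act 3 n6894 = n5273 := d19_1 D6894 (iv D5273) D5272
def n6903 : Q := act 5 n5280
theorem D6903 : act 5 n5280 = n6903 := rfl
theorem F23220 : act 1 n6903 = n5282 := d10_1 D6903 (iv D5282) (iv F17984)
theorem F23221 : act 3 n6903 = n5281 := d19_1 D6903 (iv D5281) D5280
def n6906 : Q := act 5 n5284
theorem D6906 : act 5 n5284 = n6906 := rfl
theorem F23232 : act 1 n6906 = n5287 := d10_1 D6906 (iv D5287) (iv F18002)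
theorem F23234 : act 7 n6906 = n5770 := d26_2 (iv F18003) D6906 (iv D5770)
def n6907 : Q := act 6 n5284
theorem D6907 : act 6 n5284 = n6907 := rfl
def n6914 : Q := act 6 n5290
theorem D6914 : act 6 n5290 = n6914 := rfl
theorem F23256 : act 3 n6914 = n5292 := d20_1 D6914 (iv D5292) (iv F18022)
def n6918 : Q := act 6 n5294
theorem D6918 : act 6 n5294 = n6918 := rfl
def n6919 : Q := act 2 n5295
theorem D6919 : act 2 n5295 = n6919 := rfl
def n6932 : Q := act 1 n5307
theorem D6932 : act 1 n5307 = n6932 := rfl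
def n6933 : Q := act 7 n5307
theorem D6933 : act 7 n5307 = n6933 := rfl
theorem F23313 : act 2 n6933 = n5308 := d17_1 D6933 (iv D5308) D5307
def n6973 : Q := act 1 n5337
theorem D6973 : act 1 n5337 = n6973 := rfl
theorem F23455 : act 0 n6973 = n5347 := d0_1 D6973 (iv D5347) F14087 (iv F14062) (iv F18180)
theorem F23457 : act 3 n6973 = n5374 := d8_2 (iv F18181) D6973 (iv D5374)
def n6977 : Q := act 3 n5339
theorem D6977 : act 3 n5339 = n6977 := rfl
theorem F23468 : act 1 n6977 = n5351 := d8_1 D6977 (iv D5351) (iv F18187)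
theorem F23470 : act 4 n6977 = n5378 := d18_2 D5339 D6977 (iv D5378) (iv D4105) (iv F14063)
def n6982 : Q := act 4 n5342
theorem D6982 : act 4 n5342 = n6982 := rfl
def n6983 : Q := act 6 n5342
theorem D6983 : act 6 n5342 = n6983 := rfl
theorem F23487 : act 0 n6983 = n5345 := d5_1 D6983 (iv D5345) (iv F18195)
theorem F23490 : act 5 n6983 = n5349 := d25_1 D6983 (iv D5349) (iv F18197)
def n6985 : Q := act 3 n5344
theorem D6985 : act 3 n5344 = n6985 := rfl
def n6986 : Q := act 5 n5344
theorem D6986 : act 5 n5344 = n6986 := rfl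
theorem F23499 : act 4 n6986 = n5352 := d22_1 D6986 (iv D5352) (iv D4085) (iv F14078) D5344
def n6987 : Q := act 6 n5344
theorem D6987 : act 6 n5344 = n6987 := rfl
def n6988 : Q := act 7 n5345
theorem D6988 : act 7 n5345 = n6988 := rfl
theorem F23505 : act 5 n6988 = n5354 := d26_1 D6988 (iv D5354) (iv F18207)
def n6989 : Q := act 4 n5347
theorem D6989 : act 4 n5347 = n6989 := rfl
theorem F23507 : act 1 n6989 = n5348 := d9_1 D6989 (iv D5348) D5347
def n6991 : Q := act 3 n5348
theorem D6991 : act 3 n5348 = n6991 := rfl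
theorem F23513 : act 2 n6991 = n5357 := d13_1 D6991 (iv D5357) F14108 (iv F14092) (iv F18216)
def n6992 : Q := act 5 n5348
theorem D6992 : act 5 n5348 = n6992 := rfl
def n6993 : Q := act 6 n5348
theorem D6993 : act 6 n5348 = n6993 := rfl
theorem F23521 : act 4 n6993 = n5349 := d23_1 D6993 (iv D5349) D5348
def n6995 : Q := act 5 n5351
theorem D6995 : act 5 n5351 = n6995 := rfl
theorem F23526 : act 2 n6995 = n5361 := d15_1 D6995 (iv D5361) (iv F18226)
theorem F23527 : act 3 n6995 = n5352 := d19_1 D6995 (iv D5352) D5351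
def n6996 : Q := act 6 n5351
theorem D6996 : act 6 n5351 = n6996 := rfl
theorem F23529 : act 3 n6996 = n5353 := d20_1 D6996 (iv D5353) D5351
def n6997 : Q := act 6 n5352
theorem D6997 : act 6 n5352 = n6997 := rfl
def n6998 : Q := act 7 n5353
theorem D6998 : act 7 n5353 = n6998 := rfl
theorem F23534 : act 4 n6998 = n5354 := d24_1 D6998 (iv D5354) (iv F18232)
def n6999 : Q := act 3 n5355
theorem D6999 : act 3 n5355 = n6999 := rfl
theorem F23537 : act 1 n6999 = n5357 := d8_1 D6999 (iv D5357) (iv F18237)
theorem F23538 : act 4 n6999 = n5400 := d18_2 D5355 D6999 (iv D5400) (iv D4121) (iv F14105)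
def n7001 : Q := act 6 n5355
theorem D7001 : act 6 n5355 = n7001 := rfl
theorem F23546 : act 4 n7001 = n5356 := d23_1 D7001 (iv D5356) D5355
def n7003 : Q := act 7 n5356
theorem D7003 : act 7 n5356 = n7003 := rfl
def n7004 : Q := act 5 n5357
theorem D7004 : act 5 n5357 = n7004 := rfl
theorem F23556 : act 3 n7004 = n5358 := d19_1 D7004 (iv D5358) D5357
def n7005 : Q := act 6 n5357
theorem D7005 : act 6 n5357 = n7005 := rfl
theorem F23558 : act 0 n7005 = n5362 := d5_1 D7005 (iv D5362) (iv F18243)
theorem F23559 : act 3 n7005 = n5359 := d20_1 D7005 (iv D5359) D5357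
def n7006 : Q := act 6 n5358
theorem D7006 : act 6 n5358 = n7006 := rfl
theorem F23563 : act 5 n7006 = n5359 := d25_1 D7006 (iv D5359) D5358
def n7007 : Q := act 7 n5359
theorem D7007 : act 7 n5359 = n7007 := rfl
theorem F23566 : act 4 n7007 = n5360 := d24_1 D7007 (iv D5360) (iv F18251)
def n7008 : Q := act 4 n5361
theorem D7008 : act 4 n5361 = n7008 := rfl
def n7009 : Q := act 6 n5361
theorem D7009 : act 6 n5361 = n7009 := rfl
theorem F23572 : act 3 n7009 = n5363 := d20_1 D7009 (iv D5363) (iv F18257)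
theorem F23573 : act 5 n7009 = n5362 := d25_1 D7009 (iv D5362) D5361
def n7010 : Q := act 2 n5362
theorem D7010 : act 2 n5362 = n7010 := rfl
def n7011 : Q := act 7 n5362
theorem D7011 : act 7 n5362 = n7011 := rfl
theorem F23577 : act 3 n7011 = n5364 := d21_1 D7011 (iv D5364) (iv F18260)
def n7012 : Q := act 7 n5363
theorem D7012 : act 7 n5363 = n7012 := rfl
def n7026 : Q := act 4 n5374
theorem D7026 : act 4 n5374 = n7026 := rfl
theorem F23629 : act 0 n7026 = n5390 := d3_1 D7026 (iv D5390) (iv F18302)
theorem F23630 : act 1 n7026 = n5375 := d9_1 D7026 (iv D5375) D5374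
theorem F23631 : act 2 n7026 = n5467 := d14_1 D7026 (iv D5467) (iv F18303)
def n7027 : Q := act 6 n5374
theorem D7027 : act 6 n5374 = n7027 := rfl
def n7028 : Q := act 3 n5375
theorem D7028 : act 3 n5375 = n7028 := rfl
theorem F23635 : act 0 n7028 = n5378 := d2_1 D7028 (iv D5378) (iv F18305)
def n7030 : Q := act 6 n5375
theorem D7030 : act 6 n5375 = n7030 := rfl
theorem F23641 : act 0 n7030 = n5380 := d5_1 D7030 (iv D5380) (iv F18305)
def n7032 : Q := act 5 n5378
theorem D7032 : act 5 n5378 = n7032 := rfl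
theorem F23647 : act 1 n7032 = n5396 := d10_1 D7032 (iv D5396) (iv F18315)
def n7033 : Q := act 6 n5378
theorem D7033 : act 6 n5378 = n7033 := rfl
theorem F23651 : act 1 n7033 = n5397 := d11_1 D7033 (iv D5397) (iv F18315)
theorem F23652 : act 3 n7033 = n5380 := d20_1 D7033 (iv D5380) D5378
def n7036 : Q := act 4 n5382
theorem D7036 : act 4 n5382 = n7036 := rfl
theorem F23660 : act 1 n7036 = n5383 := d9_1 D7036 (iv D5383) D5382
theorem F23661 : act 2 n7036 = n5477 := d14_1 D7036 (iv D5477) (iv F18327)
def n7038 : Q := act 3 n5383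
theorem D7038 : act 3 n5383 = n7038 := rfl
theorem F23665 : act 0 n7038 = n5386 := d2_1 D7038 (iv D5386) (iv F18330)
def n7040 : Q := act 6 n5383
theorem D7040 : act 6 n5383 = n7040 := rfl
theorem F23671 : act 0 n7040 = n5388 := d5_1 D7040 (iv D5388) (iv F18330)
def n7042 : Q := act 5 n5386
theorem D7042 : act 5 n5386 = n7042 := rfl
theorem F23678 : act 3 n7042 = n5387 := d19_1 D7042 (iv D5387) D5386
def n7043 : Q := act 6 n5386
theorem D7043 : act 6 n5386 = n7043 := rfl
theorem F23680 : act 3 n7043 = n5388 := d20_1 D7043 (iv D5388) D5386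
def n7044 : Q := act 6 n5387
theorem D7044 : act 6 n5387 = n7044 := rfl
theorem F23681 : act 2 n7044 = n5421 := d16_1 D7044 (iv D5421) F14259 (iv F14188) (iv F18342)
def n7045 : Q := act 7 n5388
theorem D7045 : act 7 n5388 = n7045 := rfl
def n7046 : Q := act 3 n5390
theorem D7046 : act 3 n5390 = n7046 := rfl
theorem F23687 : act 1 n7046 = n5392 := d8_1 D7046 (iv D5392) (iv F18350)
def n7047 : Q := act 5 n5390
theorem D7047 : act 5 n5390 = n7047 := rfl
theorem F23690 : act 2 n7047 = n5488 := d15_1 D7047 (iv D5488) (iv F18351)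
def n7048 : Q := act 6 n5390
theorem D7048 : act 6 n5390 = n7048 := rfl
def n7049 : Q := act 2 n5391
theorem D7049 : act 2 n5391 = n7049 := rfl
theorem F23695 : act 6 n7049 = n5490 := d16_2 D5391 D7049 (iv D5490) (iv D4189) (iv F14190)
def n7051 : Q := act 5 n5392
theorem D7051 : act 5 n5392 = n7051 := rfl
theorem F23699 : act 2 n7051 = n5404 := d15_1 D7051 (iv D5404) (iv F18355)
def n7052 : Q := act 6 n5392
theorem D7052 : act 6 n5392 = n7052 := rfl
def n7055 : Q := act 4 n5396
theorem D7055 : act 4 n5396 = n7055 := rfl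
theorem F23711 : act 2 n7055 = n5408 := d14_1 D7055 (iv D5408) (iv F18366)
def n7056 : Q := act 6 n5396
theorem D7056 : act 6 n5396 = n7056 := rfl
theorem F23713 : act 3 n7056 = n5398 := d20_1 D7056 (iv D5398) (iv F18367)
def n7057 : Q := act 2 n5397
theorem D7057 : act 2 n5397 = n7057 := rfl
theorem F23716 : act 6 n7057 = n5410 := d16_2 D5397 D7057 (iv D5410) (iv D4128) (iv F14202)
def n7060 : Q := act 2 n5400
theorem D7060 : act 2 n5400 = n7060 := rfl
theorem F23723 : act 3 n7060 = n5500 := d13_2 D5400 D7060 (iv D5500) (iv D4198) (iv F14212)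
def n7061 : Q := act 5 n5400
theorem D7061 : act 5 n5400 = n7061 := rfl
theorem F23726 : act 1 n7061 = n5404 := d10_1 D7061 (iv D5404) (iv F18376)
def n7062 : Q := act 6 n5400
theorem D7062 : act 6 n5400 = n7062 := rfl
theorem F23730 : act 1 n7062 = n5405 := d11_1 D7062 (iv D5405) (iv F18376)
def n7066 : Q := act 6 n5404
theorem D7066 : act 6 n5404 = n7066 := rfl
theorem F23743 : act 0 n7066 = n5409 := d5_1 D7066 (iv D5409) (iv F18390)
theorem F23745 : act 5 n7066 = n5405 := d25_1 D7066 (iv D5405) D5404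
def n7067 : Q := act 2 n5405
theorem D7067 : act 2 n5405 = n7067 := rfl
theorem F23746 : act 0 n7067 = n5410 := d1_1 D7067 (iv D5410) (iv F18393)
theorem F23747 : act 3 n7067 = n5439 := d13_2 (iv F18394) D7067 (iv D5439) F14305 (iv F14223)
def n7068 : Q := act 7 n5405
theorem D7068 : act 7 n5405 = n7068 := rfl
theorem F23748 : act 0 n7068 = n5411 := d6_1 D7068 (iv D5411) (iv F18393)
def n7070 : Q := act 6 n5408
theorem D7070 : act 6 n5408 = n7070 := rfl
theorem F23756 : act 4 n7070 = n5409 := d23_1 D7070 (iv D5409) D5408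
def n7071 : Q := act 2 n5409
theorem D7071 : act 2 n5409 = n7071 := rfl
theorem F23758 : act 5 n7071 = n5410 := d15_2 (iv F18406) D7071 (iv D5410)
def n7072 : Q := act 7 n5409
theorem D7072 : act 7 n5409 = n7072 := rfl
theorem F23761 : act 5 n7072 = n5411 := d26_1 D7072 (iv D5411) (iv F18406)
def n7073 : Q := act 1 n5410
theorem D7073 : act 1 n5410 = n7073 := rfl
theorem F23764 : act 3 n7073 = n5445 := d8_2 (iv F18407) D7073 (iv D5445)
def n7074 : Q := act 7 n5410
theorem D7074 : act 7 n5410 = n7074 := rfl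
theorem F23766 : act 3 n7074 = n5446 := d21_1 D7074 (iv D5446) (iv F18407)
def n7077 : Q := act 6 n5413
theorem D7077 : act 6 n5413 = n7077 := rfl
theorem F23778 : act 4 n7077 = n5414 := d23_1 D7077 (iv D5414) D5413
def n7078 : Q := act 2 n5414
theorem D7078 : act 2 n5414 = n7078 := rfl
theorem F23781 : act 6 n7078 = n5506 := d16_2 D5414 D7078 (iv D5506) (iv D4203) (iv F14241)
def n7079 : Q := act 7 n5414
theorem D7079 : act 7 n5414 = n7079 := rfl
def n7080 : Q := act 5 n5415
theorem D7080 : act 5 n5415 = n7080 := rfl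
theorem F23788 : act 3 n7080 = n5416 := d19_1 D7080 (iv D5416) D5415
def n7084 : Q := act 4 n5419
theorem D7084 : act 4 n5419 = n7084 := rfl
theorem F23800 : act 3 n7084 = n5432 := d18_1 D7084 (iv D5432) F14289 (iv F14260) (iv F18437)
def n7085 : Q := act 6 n5419
theorem D7085 : act 6 n5419 = n7085 := rfl
theorem F23804 : act 3 n7085 = n5421 := d20_1 D7085 (iv D5421) (iv F18437)
def n7089 : Q := act 5 n5423
theorem D7089 : act 5 n5423 = n7089 := rfl
theorem F23816 : act 1 n7089 = n5428 := d10_1 D7089 (iv D5428) (iv F18449)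
theorem F23818 : act 3 n7089 = n5424 := d19_1 D7089 (iv D5424) D5423
def n7090 : Q := act 6 n5423
theorem D7090 : act 6 n5423 = n7090 := rfl
theorem F23821 : act 1 n7090 = n5429 := d11_1 D7090 (iv D5429) (iv F18449)
theorem F23822 : act 3 n7090 = n5425 := d20_1 D7090 (iv D5425) D5423
def n7091 : Q := act 6 n5424
theorem D7091 : act 6 n5424 = n7091 := rfl
def n7092 : Q := act 2 n5425
theorem D7092 : act 2 n5425 = n7092 := rfl
theorem F23829 : act 6 n7092 = n5517 := d16_2 D5425 D7092 (iv D5517) (iv D4213) (iv F14270)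
def n7095 : Q := act 7 n5426
theorem D7095 : act 7 n5426 = n7095 := rfl
theorem F23838 : act 2 n7095 = n5427 := d17_1 D7095 (iv D5427) D5426
def n7096 : Q := act 4 n5428
theorem D7096 : act 4 n5428 = n7096 := rfl
def n7097 : Q := act 6 n5428
theorem D7097 : act 6 n5428 = n7097 := rfl
def n7098 : Q := act 2 n5429
theorem D7098 : act 2 n5429 = n7098 := rfl
theorem F23848 : act 6 n7098 = n5439 := d16_2 D5429 D7098 (iv D5439) (iv D4150) (iv F14276)
def n7101 : Q := act 6 n5432
theorem D7101 : act 6 n5432 = n7101 := rfl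
theorem F23857 : act 4 n7101 = n5433 := d23_1 D7101 (iv D5433) D5432
def n7102 : Q := act 2 n5433
theorem D7102 : act 2 n5433 = n7102 := rfl
theorem F23860 : act 6 n7102 = n5443 := d16_2 D5433 D7102 (iv D5443) (iv D4154) (iv F14288)
def n7103 : Q := act 7 n5433
theorem D7103 : act 7 n5433 = n7103 := rfl
theorem F23864 : act 6 n7103 = n5829 := d27_1 D7103 (iv D5829) (iv D4457) (iv F14290) D5433
def n7106 : Q := act 6 n5437
theorem D7106 : act 6 n5437 = n7106 := rfl
theorem F23872 : act 4 n7106 = n5438 := d23_1 D7106 (iv D5438) D5437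
def n7107 : Q := act 2 n5438
theorem D7107 : act 2 n5438 = n7107 := rfl
theorem F23875 : act 5 n7107 = n5439 := d15_2 (iv F18501) D7107 (iv D5439)
def n7108 : Q := act 7 n5438
theorem D7108 : act 7 n5438 = n7108 := rfl
theorem F23879 : act 5 n7108 = n5440 := d26_1 D7108 (iv D5440) (iv F18501)
theorem F23880 : act 6 n7108 = n5834 := d27_1 D7108 (iv D5834) (iv D4462) (iv F14302) D5438
def n7109 : Q := act 1 n5439
theorem D7109 : act 1 n5439 = n7109 := rfl
def n7110 : Q := act 7 n5439
theorem D7110 : act 7 n5439 = n7110 := rfl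
theorem F23884 : act 2 n7110 = n5440 := d17_1 D7110 (iv D5440) D5439
def n7111 : Q := act 2 n5442
theorem D7111 : act 2 n5442 = n7111 := rfl
theorem F23886 : act 4 n7111 = n5443 := d14_2 (iv F18514) D7111 (iv D5443)
def n7112 : Q := act 7 n5442
theorem D7112 : act 7 n5442 = n7112 := rfl
theorem F23889 : act 4 n7112 = n5444 := d24_1 D7112 (iv D5444) (iv F18514)
theorem F23891 : act 6 n7112 = n5838 := d27_1 D7112 (iv D5838) (iv D4466) (iv F14316) D5442
def n7113 : Q := act 1 n5443
theorem D7113 : act 1 n5443 = n7113 := rfl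
theorem F23892 : act 2 n7113 = n5449 := d7_2 D5443 D7113 (iv D5449) (iv D4159) (iv F14317)
theorem F23893 : act 5 n7113 = n5445 := d10_2 (iv F18516) D7113 (iv D5445)
def n7114 : Q := act 7 n5443
theorem D7114 : act 7 n5443 = n7114 := rfl
theorem F23894 : act 2 n7114 = n5444 := d17_1 D7114 (iv D5444) D5443
theorem F23895 : act 5 n7114 = n5446 := d26_1 D7114 (iv D5446) (iv F18516)
def n7115 : Q := act 0 n5445
theorem D7115 : act 0 n5445 = n7115 := rfl
theorem F23896 : act 2 n7115 = n5451 := d1_2 (iv F18521) D7115 (iv D5451)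
def n7116 : Q := act 7 n5445
theorem D7116 : act 7 n5445 = n7116 := rfl
theorem F23898 : act 1 n7116 = n5446 := d12_1 D7116 (iv D5446) D5445
theorem F23899 : act 2 n7116 = n5452 := d17_1 D7116 (iv D5452) (iv F18521)
def n7117 : Q := act 6 n5446
theorem D7117 : act 6 n5446 = n7117 := rfl
theorem F23901 : act 2 n7117 = n5843 := d16_1 D7117 (iv D5843) F15308 (iv F14324) (iv F18523)
def n7118 : Q := act 1 n5447
theorem D7118 : act 1 n5447 = n7118 := rfl
theorem F23903 : act 4 n7118 = n5449 := d9_2 (iv F18526) D7118 (iv D5449)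
def n7120 : Q := act 7 n5447
theorem D7120 : act 7 n5447 = n7120 := rfl
theorem F23911 : act 2 n7120 = n5448 := d17_1 D7120 (iv D5448) D5447
theorem F23912 : act 4 n7120 = n5450 := d24_1 D7120 (iv D5450) (iv F18526)
def n7121 : Q := act 0 n5449
theorem D7121 : act 0 n5449 = n7121 := rfl
theorem F23916 : act 5 n7121 = n5451 := d4_2 (iv F18534) D7121 (iv D5451)
def n7122 : Q := act 7 n5449
theorem D7122 : act 7 n5449 = n7122 := rfl
theorem F23920 : act 5 n7122 = n5452 := d26_1 D7122 (iv D5452) (iv F18534)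
def n7124 : Q := act 7 n5451
theorem D7124 : act 7 n5451 = n7124 := rfl
theorem F23926 : act 0 n7124 = n5452 := d6_1 D7124 (iv D5452) D5451
def n7125 : Q := act 6 n5452
theorem D7125 : act 6 n5452 = n7125 := rfl
def n7138 : Q := act 6 n5460
theorem D7138 : act 6 n5460 = n7138 := rfl
theorem F23977 : act 4 n7138 = n5461 := d23_1 D7138 (iv D5461) D5460
def n7139 : Q := act 7 n5461
theorem D7139 : act 7 n5461 = n7139 := rfl
theorem F23981 : act 5 n7139 = n5472 := d26_1 D7139 (iv D5472) (iv F18580)
def n7143 : Q := act 7 n5465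
theorem D7143 : act 7 n5465 = n7143 := rfl
theorem F23995 : act 4 n7143 = n5466 := d24_1 D7143 (iv D5466) (iv F18594)
def n7144 : Q := act 3 n5467
theorem D7144 : act 3 n5467 = n7144 := rfl
theorem F23997 : act 0 n7144 = n5487 := d2_1 D7144 (iv D5487) (iv F18600)
theorem F23998 : act 1 n7144 = n5469 := d8_1 D7144 (iv D5469) (iv F18601)
theorem F23999 : act 4 n7144 = n7144 := d18_2 D5467 D7144 (iv D7144) (iv D5467) F14380
def n7146 : Q := act 6 n5467
theorem D7146 : act 6 n5467 = n7146 := rfl
theorem F24004 : act 0 n7146 = n5489 := d5_1 D7146 (iv D5489) (iv F18600)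
theorem F24006 : act 4 n7146 = n5468 := d23_1 D7146 (iv D5468) D5467
def n7147 : Q := act 2 n5468
theorem D7147 : act 2 n5468 = n7147 := rfl
def n7150 : Q := act 6 n5469
theorem D7150 : act 6 n5469 = n7150 := rfl
theorem F24017 : act 0 n7150 = n5474 := d5_1 D7150 (iv D5474) (iv F18606)
theorem F24018 : act 3 n7150 = n5471 := d20_1 D7150 (iv D5471) D5469
def n7152 : Q := act 7 n5471
theorem D7152 : act 7 n5471 = n7152 := rfl
theorem F24025 : act 4 n7152 = n5472 := d24_1 D7152 (iv D5472) (iv F18615)
def n7154 : Q := act 6 n5473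
theorem D7154 : act 6 n5473 = n7154 := rfl
theorem F24031 : act 1 n7154 = n5497 := d11_1 D7154 (iv D5497) (iv F18620)
theorem F24032 : act 3 n7154 = n5475 := d20_1 D7154 (iv D5475) (iv F18622)
def n7155 : Q := act 2 n5474
theorem D7155 : act 2 n5474 = n7155 := rfl
theorem F24035 : act 3 n7155 = n7155 := d13_2 (iv F18625) D7155 (iv D7155) F18625 F14400
theorem F24036 : act 4 n7155 = n7155 := d14_2 F18626 D7155 (iv D7155)
def n7156 : Q := act 7 n5474
theorem D7156 : act 7 n5474 = n7156 := rfl
theorem F24038 : act 1 n7156 = n5498 := d12_1 D7156 (iv D5498) (iv F18624)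
theorem F24039 : act 3 n7156 = n5476 := d21_1 D7156 (iv D5476) (iv F18625)
theorem F24040 : act 4 n7156 = n7156 := d24_1 D7156 (iv D7156) F18626
theorem F24041 : act 6 n7156 = n7156 := d27_1 D7156 (iv D7156) (iv D5474) F14395 D5474
def n7157 : Q := act 7 n5475
theorem D7157 : act 7 n5475 = n7157 := rfl
theorem F24044 : act 5 n7157 = n5476 := d26_1 D7157 (iv D5476) (iv F18629)
def n7158 : Q := act 3 n5477
theorem D7158 : act 3 n5477 = n7158 := rfl
theorem F24046 : act 1 n7158 = n5479 := d8_1 D7158 (iv D5479) (iv F18634)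
def n7160 : Q := act 6 n5477
theorem D7160 : act 6 n5477 = n7160 := rfl
theorem F24053 : act 4 n7160 = n5478 := d23_1 D7160 (iv D5478) D5477
def n7161 : Q := act 2 n5478
theorem D7161 : act 2 n5478 = n7161 := rfl
theorem F24055 : act 5 n7161 = n5490 := d15_2 (iv F18638) D7161 (iv D5490)
def n7162 : Q := act 7 n5478
theorem D7162 : act 7 n5478 = n7162 := rfl
theorem F24058 : act 5 n7162 = n5491 := d26_1 D7162 (iv D5491) (iv F18638)
def n7163 : Q := act 5 n5479
theorem D7163 : act 5 n5479 = n7163 := rfl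
theorem F24061 : act 3 n7163 = n5480 := d19_1 D7163 (iv D5480) D5479
def n7164 : Q := act 6 n5479
theorem D7164 : act 6 n5479 = n7164 := rfl
theorem F24064 : act 3 n7164 = n5481 := d20_1 D7164 (iv D5481) D5479
def n7166 : Q := act 7 n5481
theorem D7166 : act 7 n5481 = n7166 := rfl
theorem F24072 : act 4 n7166 = n5482 := d24_1 D7166 (iv D5482) (iv F18648)
def n7172 : Q := act 2 n5487
theorem D7172 : act 2 n5487 = n7172 := rfl
theorem F24088 : act 1 n7172 = n5500 := d7_1 D7172 (iv D5500) F14461 (iv F14436) (iv F18664)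
def n7173 : Q := act 5 n5487
theorem D7173 : act 5 n5487 = n7173 := rfl
def n7174 : Q := act 6 n5487
theorem D7174 : act 6 n5487 = n7174 := rfl
theorem F24094 : act 1 n7174 = n5493 := d11_1 D7174 (iv D5493) (iv F18664)
theorem F24095 : act 3 n7174 = n5489 := d20_1 D7174 (iv D5489) D5487
def n7175 : Q := act 6 n5488
theorem D7175 : act 6 n5488 = n7175 := rfl
theorem F24098 : act 5 n7175 = n5489 := d25_1 D7175 (iv D5489) D5488
def n7176 : Q := act 2 n5489
theorem D7176 : act 2 n5489 = n7176 := rfl
theorem F24099 : act 1 n7176 = n5517 := d7_1 D7176 (iv D5517) F14515 (iv F14443) (iv F18669)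
theorem F24100 : act 4 n7176 = n5490 := d14_2 (iv F18670) D7176 (iv D5490)
def n7177 : Q := act 7 n5489
theorem D7177 : act 7 n5489 = n7177 := rfl
theorem F24101 : act 1 n7177 = n5495 := d12_1 D7177 (iv D5495) (iv F18669)
theorem F24102 : act 4 n7177 = n5491 := d24_1 D7177 (iv D5491) (iv F18670)
def n7179 : Q := act 7 n5490
theorem D7179 : act 7 n5490 = n7179 := rfl
def n7180 : Q := act 4 n5492
theorem D7180 : act 4 n5492 = n7180 := rfl
theorem F24109 : act 2 n7180 = n5502 := d14_1 D7180 (iv D5502) (iv F18676)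
def n7181 : Q := act 6 n5492
theorem D7181 : act 6 n5492 = n7181 := rfl
theorem F24112 : act 0 n7181 = n5497 := d5_1 D7181 (iv D5497) (iv F18675)
theorem F24114 : act 3 n7181 = n5494 := d20_1 D7181 (iv D5494) (iv F18677)
theorem F24115 : act 5 n7181 = n5493 := d25_1 D7181 (iv D5493) D5492
def n7182 : Q := act 7 n5493
theorem D7182 : act 7 n5493 = n7182 := rfl
theorem F24116 : act 0 n7182 = n5498 := d6_1 D7182 (iv D5498) (iv F18679)
theorem F24118 : act 3 n7182 = n5495 := d21_1 D7182 (iv D5495) (iv F18681)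
def n7183 : Q := act 7 n5494
theorem D7183 : act 7 n5494 = n7183 := rfl
theorem F24123 : act 5 n7183 = n5495 := d26_1 D7183 (iv D5495) (iv F18685)
def n7185 : Q := act 7 n5497
theorem D7185 : act 7 n5497 = n7185 := rfl
theorem F24129 : act 3 n7185 = n5499 := d21_1 D7185 (iv D5499) (iv F18694)
def n7186 : Q := act 5 n5500
theorem D7186 : act 5 n5500 = n7186 := rfl
def n7187 : Q := act 6 n5500
theorem D7187 : act 6 n5500 = n7187 := rfl
def n7188 : Q := act 4 n5501
theorem D7188 : act 4 n5501 = n7188 := rfl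
def n7193 : Q := act 2 n5505
theorem D7193 : act 2 n5505 = n7193 := rfl
theorem F24160 : act 4 n7193 = n5506 := d14_2 (iv F18725) D7193 (iv D5506)
def n7194 : Q := act 7 n5505
theorem D7194 : act 7 n5505 = n7194 := rfl
theorem F24163 : act 4 n7194 = n5507 := d24_1 D7194 (iv D5507) (iv F18725)
def n7195 : Q := act 3 n5506
theorem D7195 : act 3 n5506 = n7195 := rfl
theorem F24166 : act 2 n7195 = n5526 := d13_1 D7195 (iv D5526) (iv D4221) (iv F14482) D5506
theorem F24167 : act 5 n7195 = n5519 := d19_2 (iv F18727) D7195 (iv D5519)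
def n7196 : Q := act 7 n5506
theorem D7196 : act 7 n5506 = n7196 := rfl
theorem F24170 : act 5 n7196 = n5520 := d26_1 D7196 (iv D5520) (iv F18727)
def n7199 : Q := act 7 n5509
theorem D7199 : act 7 n5509 = n7199 := rfl
theorem F24178 : act 3 n7199 = n5511 := d21_1 D7199 (iv D5511) (iv F18738)
def n7200 : Q := act 7 n5510
theorem D7200 : act 7 n5510 = n7200 := rfl
theorem F24182 : act 4 n7200 = n5521 := d24_1 D7200 (iv D5521) (iv F18741)
def n7201 : Q := act 2 n5512
theorem D7201 : act 2 n5512 = n7201 := rfl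
def n7202 : Q := act 7 n5512
theorem D7202 : act 7 n5512 = n7202 := rfl
theorem F24188 : act 3 n7202 = n5515 := d21_1 D7202 (iv D5515) (iv F18747)
theorem F24191 : act 6 n7202 = n5865 := d27_1 D7202 (iv D5865) (iv D4487) (iv F14500) D5512
def n7205 : Q := act 2 n5516
theorem D7205 : act 2 n5516 = n7205 := rfl
theorem F24197 : act 5 n7205 = n5517 := d15_2 (iv F18762) D7205 (iv D5517)
def n7206 : Q := act 7 n5516
theorem D7206 : act 7 n5516 = n7206 := rfl
theorem F24201 : act 5 n7206 = n5518 := d26_1 D7206 (iv D5518) (iv F18762)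
theorem F24202 : act 6 n7206 = n5869 := d27_1 D7206 (iv D5869) (iv D4491) (iv F14513) D5516
def n7207 : Q := act 3 n5517
theorem D7207 : act 3 n5517 = n7207 := rfl
def n7208 : Q := act 7 n5517
theorem D7208 : act 7 n5517 = n7208 := rfl
theorem F24207 : act 4 n7208 = n5520 := d24_1 D7208 (iv D5520) (iv F18764)
def n7210 : Q := act 7 n5519
theorem D7210 : act 7 n5519 = n7210 := rfl
theorem F24211 : act 2 n7210 = n5533 := d17_1 D7210 (iv D5533) (iv F18771)
theorem F24212 : act 3 n7210 = n5520 := d21_1 D7210 (iv D5520) D5519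
def n7211 : Q := act 6 n5520
theorem D7211 : act 6 n5520 = n7211 := rfl
theorem F24214 : act 2 n7211 = n5874 := d16_1 D7211 (iv D5874) F15394 (iv F14522) (iv F18773)
def n7216 : Q := act 7 n5524
theorem D7216 : act 7 n5524 = n7216 := rfl
theorem F24231 : act 2 n7216 = n5525 := d17_1 D7216 (iv D5525) D5524
theorem F24232 : act 4 n7216 = n5527 := d24_1 D7216 (iv D5527) (iv F18788)
def n7217 : Q := act 4 n5526
theorem D7217 : act 4 n5526 = n7217 := rfl
def n7218 : Q := act 7 n5526
theorem D7218 : act 7 n5526 = n7218 := rfl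
theorem F24240 : act 5 n7218 = n5533 := d26_1 D7218 (iv D5533) (iv F18798)
def n7219 : Q := act 6 n5527
theorem D7219 : act 6 n5527 = n7219 := rfl
theorem F24243 : act 2 n7219 = n5882 := d16_1 D7219 (iv D5882) F15421 (iv F14549) (iv F18802)
def n7227 : Q := act 6 n5533
theorem D7227 : act 6 n5533 = n7227 := rfl
def n7233 : Q := act 3 n5538
theorem D7233 : act 3 n5538 = n7233 := rfl
theorem F24297 : act 5 n7233 = n5552 := d19_2 (iv F18843) D7233 (iv D5552)
theorem F24298 : act 6 n7233 = n5541 := d20_2 (iv F18844) D7233 (iv D5541)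
def n7235 : Q := act 3 n5540
theorem D7235 : act 3 n5540 = n7235 := rfl
theorem F24304 : act 0 n7235 = n5541 := d2_1 D7235 (iv D5541) D5540
theorem F24306 : act 5 n7235 = n5554 := d19_2 (iv F18853) D7235 (iv D5554)
theorem F24307 : act 7 n7235 = n5543 := d21_2 (iv F18854) D7235 (iv D5543)
def n7236 : Q := act 2 n5541
theorem D7236 : act 2 n5541 = n7236 := rfl
theorem F24309 : act 3 n7236 = n5587 := d13_2 D5541 D7236 (iv D5587) (iv D4267) (iv F14589)
theorem F24310 : act 5 n7236 = n5555 := d15_2 (iv F18856) D7236 (iv D5555)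
theorem F24311 : act 7 n7236 = n5544 := d17_2 (iv F18857) D7236 (iv D5544)
def n7237 : Q := act 4 n5541
theorem D7237 : act 4 n5541 = n7237 := rfl
theorem F24314 : act 7 n7237 = n5545 := d24_2 (iv F18857) D7237 (iv D5545)
def n7239 : Q := act 2 n5543
theorem D7239 : act 2 n5543 = n7239 := rfl
theorem F24320 : act 0 n7239 = n5544 := d1_1 D7239 (iv D5544) (iv F18862)
theorem F24321 : act 3 n7239 = n5590 := d13_2 D5543 D7239 (iv D5590) (iv D4269) (iv F14598)
theorem F24322 : act 5 n7239 = n5558 := d15_2 (iv F18864) D7239 (iv D5558)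
def n7240 : Q := act 4 n5543
theorem D7240 : act 4 n5543 = n7240 := rfl
theorem F24323 : act 0 n7240 = n5545 := d3_1 D7240 (iv D5545) (iv F18862)
theorem F24324 : act 1 n7240 = n7240 := d9_1 D7240 (iv D7240) F18863
theorem F24325 : act 3 n7240 = n7240 := d18_1 D7240 (iv D7240) (iv D5543) F14599 D5543
theorem F24326 : act 6 n7240 = n7240 := d23_2 F18865 D7240 (iv D7240)
def n7241 : Q := act 4 n5544
theorem D7241 : act 4 n5544 = n7241 := rfl
theorem F24327 : act 1 n7241 = n7241 := d9_1 D7241 (iv D7241) F18866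
theorem F24328 : act 2 n7241 = n5545 := d14_1 D7241 (iv D5545) D5544
def n7242 : Q := act 6 n5544
theorem D7242 : act 6 n5544 = n7242 := rfl
theorem F24329 : act 1 n7242 = n7242 := d11_1 D7242 (iv D7242) F18866
theorem F24330 : act 2 n7242 = n7242 := d16_1 D7242 (iv D7242) (iv D5544) F14604 D5544
theorem F24331 : act 3 n7242 = n5593 := d20_1 D7242 (iv D5593) (iv F18867)
theorem F24332 : act 5 n7242 = n5561 := d25_1 D7242 (iv D5561) (iv F18868)
def n7243 : Q := act 5 n5545
theorem D7243 : act 5 n5545 = n7243 := rfl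
theorem F24333 : act 1 n7243 = n5546 := d10_1 D7243 (iv D5546) (iv F18869)
def n7250 : Q := act 3 n5551
theorem D7250 : act 3 n5551 = n7250 := rfl
theorem F24358 : act 0 n7250 = n5552 := d2_1 D7250 (iv D5552) D5551
def n7251 : Q := act 2 n5552
theorem D7251 : act 2 n5552 = n7251 := rfl
def n7254 : Q := act 2 n5554
theorem D7254 : act 2 n5554 = n7254 := rfl
theorem F24371 : act 0 n7254 = n5555 := d1_1 D7254 (iv D5555) (iv F18902)
theorem F24372 : act 3 n7254 = n5595 := d13_2 D5554 D7254 (iv D5595) (iv D4273) (iv F14627)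
theorem F24373 : act 7 n7254 = n5558 := d17_2 (iv F18904) D7254 (iv D5558)
def n7255 : Q := act 4 n5554
theorem D7255 : act 4 n5554 = n7255 := rfl
def n7256 : Q := act 4 n5555
theorem D7256 : act 4 n5555 = n7256 := rfl
def n7257 : Q := act 6 n5555
theorem D7257 : act 6 n5555 = n7257 := rfl
theorem F24381 : act 1 n7257 = n7257 := d11_1 D7257 (iv D7257) F18905
theorem F24382 : act 3 n7257 = n5598 := d20_1 D7257 (iv D5598) (iv F18906)
def n7259 : Q := act 1 n5558
theorem D7259 : act 1 n5558 = n7259 := rfl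
theorem F24386 : act 0 n7259 = n7259 := d0_1 D7259 (iv D7259) F18915 F14639 (iv F18915)
theorem F24387 : act 2 n7259 = n7259 := d7_2 D5558 D7259 (iv D7259) (iv D5558) F14637
theorem F24388 : act 3 n7259 = n5600 := d8_2 (iv F18916) D7259 (iv D5600)
def n7260 : Q := act 4 n5558
theorem D7260 : act 4 n5558 = n7260 := rfl
def n7261 : Q := act 6 n5558
theorem D7261 : act 6 n5558 = n7261 := rfl
theorem F24391 : act 0 n7261 = n5561 := d5_1 D7261 (iv D5561) (iv F18915)
theorem F24392 : act 2 n7261 = n7261 := d16_1 D7261 (iv D7261) (iv D5558) F14638 D5558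
theorem F24393 : act 3 n7261 = n5602 := d20_1 D7261 (iv D5602) (iv F18916)
def n7265 : Q := act 6 n5560
theorem D7265 : act 6 n5560 = n7265 := rfl
theorem F24405 : act 4 n7265 = n5561 := d23_1 D7265 (iv D5561) D5560
def n7266 : Q := act 7 n5561
theorem D7266 : act 7 n5561 = n7266 := rfl
theorem F24406 : act 1 n7266 = n7266 := d12_1 D7266 (iv D7266) F18923
theorem F24407 : act 2 n7266 = n7266 := d17_1 D7266 (iv D7266) F18924
theorem F24408 : act 3 n7266 = n5607 := d21_1 D7266 (iv D5607) (iv F18925)
def n7299 : Q := act 2 n5586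
theorem D7299 : act 2 n5586 = n7299 := rfl
theorem F24518 : act 0 n7299 = n5587 := d1_1 D7299 (iv D5587) (iv F19008)
theorem F24519 : act 5 n7299 = n5595 := d15_2 (iv F19010) D7299 (iv D5595)
theorem F24520 : act 7 n7299 = n5590 := d17_2 (iv F19011) D7299 (iv D5590)
def n7300 : Q := act 4 n5586
theorem D7300 : act 4 n5586 = n7300 := rfl
theorem F24521 : act 0 n7300 = n5588 := d3_1 D7300 (iv D5588) (iv F19008)
theorem F24522 : act 1 n7300 = n5659 := d9_1 D7300 (iv D5659) (iv F19009)
theorem F24523 : act 3 n7300 = n7300 := d18_1 D7300 (iv D7300) (iv D5586) F14705 D5586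
theorem F24524 : act 7 n7300 = n5591 := d24_2 (iv F19011) D7300 (iv D5591)
def n7301 : Q := act 4 n5587
theorem D7301 : act 4 n5587 = n7301 := rfl
theorem F24525 : act 1 n7301 = n7301 := d9_1 D7301 (iv D7301) F19012
theorem F24526 : act 2 n7301 = n5588 := d14_1 D7301 (iv D5588) D5587
theorem F24527 : act 7 n7301 = n5592 := d24_2 (iv F19014) D7301 (iv D5592)
def n7302 : Q := act 6 n5587
theorem D7302 : act 6 n5587 = n7302 := rfl
theorem F24528 : act 1 n7302 = n7302 := d11_1 D7302 (iv D7302) F19012
theorem F24529 : act 5 n7302 = n5598 := d25_1 D7302 (iv D5598) (iv F19013)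
def n7304 : Q := act 1 n5590
theorem D7304 : act 1 n5590 = n7304 := rfl
theorem F24534 : act 0 n7304 = n7304 := d0_1 D7304 (iv D7304) F19023 F14719 (iv F19023)
theorem F24535 : act 2 n7304 = n5663 := d7_2 D5590 D7304 (iv D5663) (iv D4325) (iv F14716)
theorem F24536 : act 5 n7304 = n5600 := d10_2 (iv F19024) D7304 (iv D5600)
def n7305 : Q := act 4 n5590
theorem D7305 : act 4 n5590 = n7305 := rfl
theorem F24537 : act 0 n7305 = n5592 := d3_1 D7305 (iv D5592) (iv F19023)
theorem F24538 : act 2 n7305 = n5591 := d14_1 D7305 (iv D5591) D5590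
def n7306 : Q := act 6 n5590
theorem D7306 : act 6 n5590 = n7306 := rfl
theorem F24539 : act 0 n7306 = n5593 := d5_1 D7306 (iv D5593) (iv F19023)
theorem F24540 : act 2 n7306 = n5628 := d16_1 D7306 (iv D5628) (iv D4295) (iv F14718) D5590
theorem F24541 : act 5 n7306 = n5602 := d25_1 D7306 (iv D5602) (iv F19024)
def n7308 : Q := act 3 n5592
theorem D7308 : act 3 n5592 = n7308 := rfl
theorem F24547 : act 1 n7308 = n7308 := d8_1 D7308 (iv D7308) F19029
theorem F24548 : act 2 n7308 = n7308 := d13_1 D7308 (iv D7308) F19030 F14722 (iv F19030)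
def n7311 : Q := act 7 n5593
theorem D7311 : act 7 n5593 = n7311 := rfl
theorem F24555 : act 1 n7311 = n7311 := d12_1 D7311 (iv D7311) F19031
theorem F24556 : act 2 n7311 = n5633 := d17_1 D7311 (iv D5633) (iv F19032)
theorem F24557 : act 5 n7311 = n5607 := d26_1 D7311 (iv D5607) (iv F19033)
def n7312 : Q := act 1 n5595
theorem D7312 : act 1 n5595 = n7312 := rfl
theorem F24558 : act 0 n7312 = n7312 := d0_1 D7312 (iv D7312) F19038 F14732 (iv F19038)
theorem F24559 : act 2 n7312 = n5671 := d7_2 D5595 D7312 (iv D5671) (iv D4330) (iv F14730)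
theorem F24560 : act 7 n7312 = n5600 := d12_2 (iv F19039) D7312 (iv D5600)
def n7313 : Q := act 4 n5595
theorem D7313 : act 4 n5595 = n7313 := rfl
theorem F24561 : act 0 n7313 = n5597 := d3_1 D7313 (iv D5597) (iv F19038)
theorem F24562 : act 2 n7313 = n5596 := d14_1 D7313 (iv D5596) D5595
theorem F24563 : act 7 n7313 = n5601 := d24_2 (iv F19039) D7313 (iv D5601)
def n7314 : Q := act 6 n5595
theorem D7314 : act 6 n5595 = n7314 := rfl
theorem F24564 : act 0 n7314 = n5598 := d5_1 D7314 (iv D5598) (iv F19038)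
def n7315 : Q := act 5 n5596
theorem D7315 : act 5 n5596 = n7315 := rfl
theorem F24566 : act 1 n7315 = n5674 := d10_1 D7315 (iv D5674) (iv F19041)
def n7316 : Q := act 3 n5597
theorem D7316 : act 3 n5597 = n7316 := rfl
def n7317 : Q := act 5 n5597
theorem D7317 : act 5 n5597 = n7317 := rfl
theorem F24573 : act 2 n7317 = n5599 := d15_1 D7317 (iv D5599) (iv F19045)
def n7318 : Q := act 6 n5597
theorem D7318 : act 6 n5597 = n7318 := rfl
theorem F24575 : act 1 n7318 = n7318 := d11_1 D7318 (iv D7318) F19044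
theorem F24576 : act 4 n7318 = n5598 := d23_1 D7318 (iv D5598) D5597
def n7319 : Q := act 7 n5598
theorem D7319 : act 7 n5598 = n7319 := rfl
theorem F24577 : act 1 n7319 = n7319 := d12_1 D7319 (iv D7319) F19047
theorem F24578 : act 6 n7319 = n5607 := d27_1 D7319 (iv D5607) (iv D4280) (iv F14733) D5598
def n7320 : Q := act 4 n5600
theorem D7320 : act 4 n5600 = n7320 := rfl
theorem F24579 : act 0 n7320 = n7320 := d3_1 D7320 (iv D7320) F19051
theorem F24580 : act 1 n7320 = n5601 := d9_1 D7320 (iv D5601) D5600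
theorem F24581 : act 2 n7320 = n5679 := d14_1 D7320 (iv D5679) (iv F19052)
def n7321 : Q := act 6 n5600
theorem D7321 : act 6 n5600 = n7321 := rfl
theorem F24582 : act 0 n7321 = n7321 := d5_1 D7321 (iv D7321) F19051
theorem F24583 : act 1 n7321 = n5602 := d11_1 D7321 (iv D5602) D5600
def n7322 : Q := act 3 n5601
theorem D7322 : act 3 n5601 = n7322 := rfl
def n7323 : Q := act 5 n5601
theorem D7323 : act 5 n5601 = n7323 := rfl
theorem F24587 : act 2 n7323 = n5603 := d15_1 D7323 (iv D5603) (iv F19054)
def n7324 : Q := act 6 n5601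
theorem D7324 : act 6 n5601 = n7324 := rfl
theorem F24589 : act 2 n7324 = n5638 := d16_1 D7324 (iv D5638) F14807 (iv F14745) (iv F19054)
def n7325 : Q := act 7 n5602
theorem D7325 : act 7 n5602 = n7325 := rfl
theorem F24591 : act 0 n7325 = n5607 := d6_1 D7325 (iv D5607) (iv F19055)
theorem F24592 : act 2 n7325 = n5639 := d17_1 D7325 (iv D5639) (iv F19056)
def n7353 : Q := act 4 n5626
theorem D7353 : act 4 n5626 = n7353 := rfl
theorem F24670 : act 0 n7353 = n5728 := d3_1 D7353 (iv D5728) (iv F19122)
def n7354 : Q := act 6 n5626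
theorem D7354 : act 6 n5626 = n7354 := rfl
theorem F24674 : act 1 n7354 = n5628 := d11_1 D7354 (iv D5628) D5626
def n7358 : Q := act 7 n5628
theorem D7358 : act 7 n5628 = n7358 := rfl
theorem F24685 : act 0 n7358 = n5633 := d6_1 D7358 (iv D5633) (iv F19128)
theorem F24686 : act 3 n7358 = n7358 := d21_1 D7358 (iv D7358) F19129
theorem F24687 : act 5 n7358 = n5639 := d26_1 D7358 (iv D5639) (iv F19130)
def n7366 : Q := act 2 n5635
theorem D7366 : act 2 n5635 = n7366 := rfl
def n7394 : Q := act 1 n5658
theorem D7394 : act 1 n5658 = n7394 := rfl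
theorem F24793 : act 0 n7394 = n7394 := d0_1 D7394 (iv D7394) F19216 F14867 (iv F19216)
theorem F24794 : act 3 n7394 = n7394 := d8_2 F19217 D7394 (iv D7394)
theorem F24795 : act 5 n7394 = n5671 := d10_2 (iv F19218) D7394 (iv D5671)
theorem F24796 : act 7 n7394 = n5663 := d12_2 (iv F19219) D7394 (iv D5663)
def n7395 : Q := act 4 n5658
theorem D7395 : act 4 n5658 = n7395 := rfl
theorem F24798 : act 2 n7395 = n5659 := d14_1 D7395 (iv D5659) D5658
theorem F24799 : act 7 n7395 = n5664 := d24_2 (iv F19219) D7395 (iv D5664)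
def n7396 : Q := act 6 n5658
theorem D7396 : act 6 n5658 = n7396 := rfl
theorem F24800 : act 0 n7396 = n5661 := d5_1 D7396 (iv D5661) (iv F19216)
theorem F24801 : act 3 n7396 = n7396 := d20_1 D7396 (iv D7396) F19217
theorem F24802 : act 5 n7396 = n5673 := d25_1 D7396 (iv D5673) (iv F19218)
def n7397 : Q := act 5 n5659
theorem D7397 : act 5 n5659 = n7397 := rfl
theorem F24805 : act 4 n7397 = n5674 := d22_1 D7397 (iv D5674) (iv D4331) (iv F14865) D5659
def n7398 : Q := act 3 n5660
theorem D7398 : act 3 n5660 = n7398 := rfl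
theorem F24809 : act 4 n7398 = n7398 := d18_2 D5660 D7398 (iv D7398) (iv D5660) F14868
theorem F24810 : act 7 n7398 = n5667 := d21_2 (iv F19225) D7398 (iv D5667)
def n7399 : Q := act 5 n5660
theorem D7399 : act 5 n5660 = n7399 := rfl
theorem F24812 : act 2 n7399 = n5662 := d15_1 D7399 (iv D5662) (iv F19224)
theorem F24813 : act 4 n7399 = n5676 := d22_1 D7399 (iv D5676) (iv D4332) (iv F14869) D5660
theorem F24814 : act 7 n7399 = n5668 := d26_2 (iv F19225) D7399 (iv D5668)
def n7400 : Q := act 6 n5660
theorem D7400 : act 6 n5660 = n7400 := rfl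
theorem F24816 : act 4 n7400 = n5661 := d23_1 D7400 (iv D5661) D5660
def n7401 : Q := act 7 n5661
theorem D7401 : act 7 n5661 = n7401 := rfl
theorem F24818 : act 3 n7401 = n7401 := d21_1 D7401 (iv D7401) F19227
def n7402 : Q := act 4 n5663
theorem D7402 : act 4 n5663 = n7402 := rfl
theorem F24822 : act 1 n7402 = n5664 := d9_1 D7402 (iv D5664) D5663
def n7403 : Q := act 6 n5663
theorem D7403 : act 6 n5663 = n7403 := rfl
theorem F24824 : act 1 n7403 = n5665 := d11_1 D7403 (iv D5665) D5663
theorem F24825 : act 3 n7403 = n7403 := d20_1 D7403 (iv D7403) F19234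
def n7404 : Q := act 3 n5664
theorem D7404 : act 3 n5664 = n7404 := rfl
theorem F24829 : act 4 n7404 = n7404 := d18_2 D5664 D7404 (iv D7404) (iv D5664) F14879
def n7405 : Q := act 5 n5664
theorem D7405 : act 5 n5664 = n7405 := rfl
theorem F24831 : act 2 n7405 = n5666 := d15_1 D7405 (iv D5666) (iv F19237)
theorem F24832 : act 4 n7405 = n5682 := d22_1 D7405 (iv D5682) (iv D4336) (iv F14880) D5664
def n7406 : Q := act 6 n5664
theorem D7406 : act 6 n5664 = n7406 := rfl
theorem F24834 : act 2 n7406 = n5705 := d16_1 D7406 (iv D5705) F14970 (iv F14883) (iv F19237)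
def n7407 : Q := act 7 n5665
theorem D7407 : act 7 n5665 = n7407 := rfl
theorem F24837 : act 2 n7407 = n5706 := d17_1 D7407 (iv D5706) (iv F19239)
theorem F24838 : act 3 n7407 = n7407 := d21_1 D7407 (iv D7407) F19240
def n7408 : Q := act 5 n5667
theorem D7408 : act 5 n5667 = n7408 := rfl
theorem F24842 : act 3 n7408 = n5668 := d19_1 D7408 (iv D5668) D5667
def n7409 : Q := act 6 n5667
theorem D7409 : act 6 n5667 = n7409 := rfl
theorem F24844 : act 3 n7409 = n5669 := d20_1 D7409 (iv D5669) D5667
theorem F24845 : act 4 n7409 = n7409 := d23_1 D7409 (iv D7409) F19248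
def n7410 : Q := act 6 n5668
theorem D7410 : act 6 n5668 = n7410 := rfl
theorem F24847 : act 2 n7410 = n5709 := d16_1 D7410 (iv D5709) F14981 (iv F14893) (iv F19250)
def n7411 : Q := act 7 n5669
theorem D7411 : act 7 n5669 = n7411 := rfl
theorem F24851 : act 2 n7411 = n5710 := d17_1 D7411 (iv D5710) (iv F19253)
def n7412 : Q := act 4 n5671
theorem D7412 : act 4 n5671 = n7412 := rfl
theorem F24853 : act 0 n7412 = n7412 := d3_1 D7412 (iv D7412) F19259
theorem F24854 : act 1 n7412 = n5672 := d9_1 D7412 (iv D5672) D5671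
theorem F24855 : act 7 n7412 = n5679 := d24_2 (iv F19261) D7412 (iv D5679)
def n7413 : Q := act 6 n5671
theorem D7413 : act 6 n5671 = n7413 := rfl
theorem F24856 : act 0 n7413 = n7413 := d5_1 D7413 (iv D7413) F19259
theorem F24857 : act 1 n7413 = n5673 := d11_1 D7413 (iv D5673) D5671
theorem F24858 : act 3 n7413 = n7413 := d20_1 D7413 (iv D7413) F19260
def n7414 : Q := act 3 n5672
theorem D7414 : act 3 n5672 = n7414 := rfl
theorem F24859 : act 0 n7414 = n5675 := d2_1 D7414 (iv D5675) (iv F19262)
theorem F24860 : act 2 n7414 = n5691 := d13_1 D7414 (iv D5691) F14934 (iv F14898) (iv F19263)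
theorem F24861 : act 4 n7414 = n7414 := d18_2 D5672 D7414 (iv D7414) (iv D5672) F14895
theorem F24862 : act 7 n7414 = n5681 := d21_2 (iv F19264) D7414 (iv D5681)
def n7415 : Q := act 5 n5672
theorem D7415 : act 5 n5672 = n7415 := rfl
theorem F24863 : act 0 n7415 = n5676 := d4_1 D7415 (iv D5676) (iv F19262)
theorem F24864 : act 2 n7415 = n5674 := d15_1 D7415 (iv D5674) (iv F19263)
theorem F24865 : act 7 n7415 = n5682 := d26_2 (iv F19264) D7415 (iv D5682)
def n7416 : Q := act 6 n5672
theorem D7416 : act 6 n5672 = n7416 := rfl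
theorem F24866 : act 0 n7416 = n5677 := d5_1 D7416 (iv D5677) (iv F19262)
theorem F24867 : act 4 n7416 = n5673 := d23_1 D7416 (iv D5673) D5672
def n7417 : Q := act 7 n5673
theorem D7417 : act 7 n5673 = n7417 := rfl
theorem F24868 : act 0 n7417 = n5678 := d6_1 D7417 (iv D5678) (iv F19265)
theorem F24869 : act 3 n7417 = n7417 := d21_1 D7417 (iv D7417) F19266
theorem F24870 : act 6 n7417 = n5684 := d27_1 D7417 (iv D5684) (iv D4337) (iv F14896) D5673
def n7418 : Q := act 5 n5675
theorem D7418 : act 5 n5675 = n7418 := rfl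
theorem F24872 : act 2 n7418 = n5694 := d15_1 D7418 (iv D5694) (iv F19271)
theorem F24873 : act 3 n7418 = n5676 := d19_1 D7418 (iv D5676) D5675
theorem F24874 : act 7 n7418 = n5685 := d26_2 (iv F19273) D7418 (iv D5685)
def n7419 : Q := act 6 n5675
theorem D7419 : act 6 n5675 = n7419 := rfl
theorem F24876 : act 3 n7419 = n5677 := d20_1 D7419 (iv D5677) D5675
def n7420 : Q := act 6 n5676
theorem D7420 : act 6 n5676 = n7420 := rfl
theorem F24879 : act 5 n7420 = n5677 := d25_1 D7420 (iv D5677) D5676
def n7421 : Q := act 7 n5677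
theorem D7421 : act 7 n5677 = n7421 := rfl
theorem F24880 : act 1 n7421 = n7421 := d12_1 D7421 (iv D7421) F19277
theorem F24881 : act 4 n7421 = n5678 := d24_1 D7421 (iv D5678) (iv F19278)
theorem F24882 : act 6 n7421 = n5688 := d27_1 D7421 (iv D5688) (iv D4341) (iv F14902) D5677
def n7422 : Q := act 3 n5679
theorem D7422 : act 3 n5679 = n7422 := rfl
theorem F24883 : act 0 n7422 = n7422 := d2_1 D7422 (iv D7422) F19282
theorem F24884 : act 1 n7422 = n5681 := d8_1 D7422 (iv D5681) (iv F19283)
theorem F24885 : act 4 n7422 = n7422 := d18_2 D5679 D7422 (iv D7422) (iv D5679) F14909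
def n7423 : Q := act 5 n5679
theorem D7423 : act 5 n5679 = n7423 := rfl
theorem F24886 : act 0 n7423 = n7423 := d4_1 D7423 (iv D7423) F19282
theorem F24887 : act 1 n7423 = n5682 := d10_1 D7423 (iv D5682) (iv F19283)
def n7424 : Q := act 6 n5679
theorem D7424 : act 6 n5679 = n7424 := rfl
theorem F24888 : act 0 n7424 = n7424 := d5_1 D7424 (iv D7424) F19282
theorem F24889 : act 1 n7424 = n5683 := d11_1 D7424 (iv D5683) (iv F19283)
theorem F24890 : act 4 n7424 = n5680 := d23_1 D7424 (iv D5680) D5679
def n7425 : Q := act 2 n5680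
theorem D7425 : act 2 n5680 = n7425 := rfl
theorem F24892 : act 1 n7425 = n5713 := d7_1 D7425 (iv D5713) F14992 (iv F14913) (iv F19285)
def n7426 : Q := act 7 n5680
theorem D7426 : act 7 n5680 = n7426 := rfl
theorem F24893 : act 0 n7426 = n7426 := d6_1 D7426 (iv D7426) F19284
theorem F24894 : act 1 n7426 = n5684 := d12_1 D7426 (iv D5684) (iv F19285)
theorem F24895 : act 3 n7426 = n7426 := d21_1 D7426 (iv D7426) F19286
def n7427 : Q := act 5 n5681
theorem D7427 : act 5 n5681 = n7427 := rfl
theorem F24896 : act 0 n7427 = n5685 := d4_1 D7427 (iv D5685) (iv F19287)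
theorem F24897 : act 2 n7427 = n5699 := d15_1 D7427 (iv D5699) (iv F19288)
theorem F24898 : act 3 n7427 = n5682 := d19_1 D7427 (iv D5682) D5681
def n7428 : Q := act 6 n5681
theorem D7428 : act 6 n5681 = n7428 := rfl
theorem F24899 : act 0 n7428 = n5686 := d5_1 D7428 (iv D5686) (iv F19287)
theorem F24900 : act 2 n7428 = n7428 := d16_1 D7428 (iv D7428) F19288 F14958 (iv F19288)
theorem F24901 : act 3 n7428 = n5683 := d20_1 D7428 (iv D5683) D5681
theorem F24902 : act 4 n7428 = n7428 := d23_1 D7428 (iv D7428) F19289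
def n7429 : Q := act 6 n5682
theorem D7429 : act 6 n5682 = n7429 := rfl
theorem F24904 : act 2 n7429 = n5715 := d16_1 D7429 (iv D5715) F14995 (iv F14917) (iv F19291)
theorem F24905 : act 5 n7429 = n5683 := d25_1 D7429 (iv D5683) D5682
def n7430 : Q := act 7 n5683
theorem D7430 : act 7 n5683 = n7430 := rfl
theorem F24906 : act 0 n7430 = n5688 := d6_1 D7430 (iv D5688) (iv F19292)
theorem F24907 : act 2 n7430 = n5716 := d17_1 D7430 (iv D5716) (iv F19293)
theorem F24908 : act 4 n7430 = n5684 := d24_1 D7430 (iv D5684) (iv F19294)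
def n7431 : Q := act 4 n5685
theorem D7431 : act 4 n5685 = n7431 := rfl
def n7432 : Q := act 6 n5685
theorem D7432 : act 6 n5685 = n7432 := rfl
theorem F24914 : act 3 n7432 = n5687 := d20_1 D7432 (iv D5687) (iv F19300)
theorem F24915 : act 5 n7432 = n5686 := d25_1 D7432 (iv D5686) D5685
def n7433 : Q := act 7 n5686
theorem D7433 : act 7 n5686 = n7433 := rfl
theorem F24916 : act 1 n7433 = n7433 := d12_1 D7433 (iv D7433) F19301
theorem F24917 : act 2 n7433 = n7433 := d17_1 D7433 (iv D7433) F19302
theorem F24918 : act 3 n7433 = n5688 := d21_1 D7433 (iv D5688) (iv F19303)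
theorem F24919 : act 4 n7433 = n7433 := d24_1 D7433 (iv D7433) F19304
def n7434 : Q := act 7 n5687
theorem D7434 : act 7 n5687 = n7434 := rfl
theorem F24921 : act 2 n7434 = n5717 := d17_1 D7434 (iv D5717) (iv F19306)
theorem F24922 : act 5 n7434 = n5688 := d26_1 D7434 (iv D5688) (iv F19307)
def n7435 : Q := act 3 n5689
theorem D7435 : act 3 n5689 = n7435 := rfl
theorem F24924 : act 1 n7435 = n5691 := d8_1 D7435 (iv D5691) (iv F19312)
theorem F24926 : act 7 n7435 = n5697 := d21_2 (iv F19313) D7435 (iv D5697)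
def n7436 : Q := act 5 n5689
theorem D7436 : act 5 n5689 = n7436 := rfl
theorem F24928 : act 1 n7436 = n5692 := d10_1 D7436 (iv D5692) (iv F19312)
theorem F24930 : act 7 n7436 = n5698 := d26_2 (iv F19313) D7436 (iv D5698)
def n7437 : Q := act 6 n5689
theorem D7437 : act 6 n5689 = n7437 := rfl
theorem F24932 : act 1 n7437 = n5693 := d11_1 D7437 (iv D5693) (iv F19312)
def n7439 : Q := act 5 n5691
theorem D7439 : act 5 n5691 = n7439 := rfl
theorem F24939 : act 3 n7439 = n5692 := d19_1 D7439 (iv D5692) D5691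
theorem F24940 : act 7 n7439 = n5699 := d26_2 (iv F19321) D7439 (iv D5699)
def n7440 : Q := act 6 n5691
theorem D7440 : act 6 n5691 = n7440 := rfl
theorem F24942 : act 3 n7440 = n5693 := d20_1 D7440 (iv D5693) D5691
def n7441 : Q := act 6 n5692
theorem D7441 : act 6 n5692 = n7441 := rfl
def n7443 : Q := act 6 n5694
theorem D7443 : act 6 n5694 = n7443 := rfl
theorem F24953 : act 1 n7443 = n6028 := d11_1 D7443 (iv D6028) (iv F19329)
theorem F24954 : act 3 n7443 = n5696 := d20_1 D7443 (iv D5696) (iv F19330)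
def n7444 : Q := act 2 n5695
theorem D7444 : act 2 n5695 = n7444 := rfl
def n7446 : Q := act 5 n5697
theorem D7446 : act 5 n5697 = n7446 := rfl
theorem F24962 : act 1 n7446 = n5699 := d10_1 D7446 (iv D5699) (iv F19341)
theorem F24963 : act 3 n7446 = n5698 := d19_1 D7446 (iv D5698) D5697
def n7449 : Q := act 5 n5701
theorem D7449 : act 5 n5701 = n7449 := rfl
def n7451 : Q := act 2 n5702
theorem D7451 : act 2 n5702 = n7451 := rfl
def n7452 : Q := act 7 n5702
theorem D7452 : act 7 n5702 = n7452 := rfl
def n7453 : Q := act 5 n5703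
theorem D7453 : act 5 n5703 = n7453 := rfl
theorem F24984 : act 0 n7453 = n5707 := d4_1 D7453 (iv D5707) (iv F19361)
def n7454 : Q := act 6 n5703
theorem D7454 : act 6 n5703 = n7454 := rfl
theorem F24989 : act 3 n7454 = n5705 := d20_1 D7454 (iv D5705) D5703
def n7455 : Q := act 6 n5704
theorem D7455 : act 6 n5704 = n7455 := rfl
def n7456 : Q := act 7 n5705
theorem D7456 : act 7 n5705 = n7456 := rfl
def n7457 : Q := act 6 n5707
theorem D7457 : act 6 n5707 = n7457 := rfl
theorem F24996 : act 1 n7457 = n5778 := d11_1 D7457 (iv D5778) (iv F19372)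
theorem F24997 : act 3 n7457 = n5709 := d20_1 D7457 (iv D5709) (iv F19374)
theorem F24999 : act 5 n7457 = n5708 := d25_1 D7457 (iv D5708) D5707
def n7458 : Q := act 2 n5708
theorem D7458 : act 2 n5708 = n7458 := rfl
def n7459 : Q := act 7 n5708
theorem D7459 : act 7 n5708 = n7459 := rfl
def n7461 : Q := act 6 n5711
theorem D7461 : act 6 n5711 = n7461 := rfl
theorem F25008 : act 0 n7461 = n5782 := d5_1 D7461 (iv D5782) (iv F19384)
def n7462 : Q := act 2 n5712
theorem D7462 : act 2 n5712 = n7462 := rfl
theorem F25012 : act 0 n7462 = n5783 := d1_1 D7462 (iv D5783) (iv F19387)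
def n7466 : Q := act 7 n5715
theorem D7466 : act 7 n5715 = n7466 := rfl
theorem F25024 : act 5 n7466 = n5716 := d26_1 D7466 (iv D5716) (iv F19397)
def n7469 : Q := act 2 n5719
theorem D7469 : act 2 n5719 = n7469 := rfl
theorem F25034 : act 1 n7469 = n7469 := d7_1 D7469 (iv D7469) F19408 F15019 (iv F19408)
def n7473 : Q := act 2 n5722
theorem D7473 : act 2 n5722 = n7473 := rfl
theorem F25051 : act 3 n7473 = n7473 := d13_2 (iv F19419) D7473 (iv D7473) F19419 F15019
def n7474 : Q := act 7 n5722
theorem D7474 : act 7 n5722 = n7474 := rfl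
def n7475 : Q := act 1 n5724
theorem D7475 : act 1 n5724 = n7475 := rfl
theorem F25058 : act 3 n7475 = n7475 := d8_2 F19425 D7475 (iv D7475)
def n7476 : Q := act 7 n5724
theorem D7476 : act 7 n5724 = n7476 := rfl
theorem F25061 : act 2 n7476 = n5725 := d17_1 D7476 (iv D5725) D5724
theorem F25062 : act 3 n7476 = n7476 := d21_1 D7476 (iv D7476) F19425
def n7480 : Q := act 3 n5728
theorem D7480 : act 3 n5728 = n7480 := rfl
theorem F25075 : act 1 n7480 = n5730 := d8_1 D7480 (iv D5730) (iv F19438)
def n7485 : Q := act 5 n5730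
theorem D7485 : act 5 n5730 = n7485 := rfl
theorem F25089 : act 2 n7485 = n5806 := d15_1 D7485 (iv D5806) (iv F19444)
def n7489 : Q := act 4 n5734
theorem D7489 : act 4 n5734 = n7489 := rfl
theorem F25101 : act 2 n7489 = n5810 := d14_1 D7489 (iv D5810) (iv F19456)
theorem F25102 : act 3 n7489 = n5747 := d18_1 D7489 (iv D5747) F15078 (iv F15056) (iv F19457)
def n7490 : Q := act 6 n5734
theorem D7490 : act 6 n5734 = n7490 := rfl
def n7495 : Q := act 6 n5738
theorem D7495 : act 6 n5738 = n7495 := rfl
theorem F25117 : act 1 n7495 = n5744 := d11_1 D7495 (iv D5744) (iv F19465)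
def n7496 : Q := act 6 n5739
theorem D7496 : act 6 n5739 = n7496 := rfl
def n7501 : Q := act 4 n5743
theorem D7501 : act 4 n5743 = n7501 := rfl
theorem F25133 : act 2 n7501 = n5752 := d14_1 D7501 (iv D5752) (iv F19477)
def n7502 : Q := act 6 n5743
theorem D7502 : act 6 n5743 = n7502 := rfl
theorem F25137 : act 5 n7502 = n5744 := d25_1 D7502 (iv D5744) D5743
def n7503 : Q := act 2 n5744
theorem D7503 : act 2 n5744 = n7503 := rfl
theorem F25141 : act 6 n7503 = n5754 := d16_2 D5744 D7503 (iv D5754) (iv D4397) (iv F15067)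
def n7506 : Q := act 6 n5747
theorem D7506 : act 6 n5747 = n7506 := rfl
def n7511 : Q := act 6 n5752
theorem D7511 : act 6 n5752 = n7511 := rfl
def n7514 : Q := act 1 n5754
theorem D7514 : act 1 n5754 = n7514 := rfl
def n7515 : Q := act 7 n5754
theorem D7515 : act 7 n5754 = n7515 := rfl
theorem F25177 : act 2 n7515 = n5755 := d17_1 D7515 (iv D5755) D5754
def n7516 : Q := act 2 n5757
theorem D7516 : act 2 n5757 = n7516 := rfl
def n7517 : Q := act 7 n5757
theorem D7517 : act 7 n5757 = n7517 := rfl
def n7543 : Q := act 2 n5778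
theorem D7543 : act 2 n5778 = n7543 := rfl
theorem F25266 : act 6 n7543 = n5864 := d16_2 D5778 D7543 (iv D5864) (iv D4487) (iv F15149)
def n7547 : Q := act 2 n5782
theorem D7547 : act 2 n5782 = n7547 := rfl
def n7548 : Q := act 7 n5782
theorem D7548 : act 7 n5782 = n7548 := rfl
def n7549 : Q := act 3 n5783
theorem D7549 : act 3 n5783 = n7549 := rfl
def n7565 : Q := act 7 n5796
theorem D7565 : act 7 n5796 = n7565 := rfl
theorem F25324 : act 1 n7565 = n5797 := d12_1 D7565 (iv D5797) D5796
theorem F25325 : act 3 n7565 = n5902 := d21_1 D7565 (iv D5902) (iv F19634)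
def n7566 : Q := act 6 n5797
theorem D7566 : act 6 n5797 = n7566 := rfl
def n7578 : Q := act 4 n5806
theorem D7578 : act 4 n5806 = n7578 := rfl
theorem F25369 : act 0 n7578 = n5810 := d3_1 D7578 (iv D5810) (iv F19666)
theorem F25370 : act 3 n7578 = n5822 := d18_1 D7578 (iv D5822) F15254 (iv F15216) (iv F19667)
def n7579 : Q := act 6 n5806
theorem D7579 : act 6 n5806 = n7579 := rfl
theorem F25373 : act 3 n7579 = n5808 := d20_1 D7579 (iv D5808) (iv F19667)
def n7583 : Q := act 6 n5810
theorem D7583 : act 6 n5810 = n7583 := rfl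
theorem F25386 : act 3 n7583 = n5827 := d20_1 D7583 (iv D5827) (iv F19679)
theorem F25387 : act 4 n7583 = n5811 := d23_1 D7583 (iv D5811) D5810
def n7584 : Q := act 2 n5811
theorem D7584 : act 2 n5811 = n7584 := rfl
def n7589 : Q := act 6 n5815
theorem D7589 : act 6 n5815 = n7589 := rfl
theorem F25405 : act 1 n7589 = n5823 := d11_1 D7589 (iv D5823) (iv F19694)
theorem F25406 : act 3 n7589 = n5817 := d20_1 D7589 (iv D5817) (iv F19696)
def n7592 : Q := act 2 n5817
theorem D7592 : act 2 n5817 = n7592 := rfl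
theorem F25418 : act 6 n7592 = n5868 := d16_2 D5817 D7592 (iv D5868) (iv D4491) (iv F15242)
def n7598 : Q := act 6 n5821
theorem D7598 : act 6 n5821 = n7598 := rfl
theorem F25439 : act 7 n7598 = n5874 := d27_2 D5821 D7598 (iv D5874) (iv D4495) (iv F15248)
def n7599 : Q := act 6 n5822
theorem D7599 : act 6 n5822 = n7599 := rfl
theorem F25441 : act 4 n7599 = n5823 := d23_1 D7599 (iv D5823) D5822
def n7600 : Q := act 2 n5823
theorem D7600 : act 2 n5823 = n7600 := rfl
theorem F25446 : act 6 n7600 = n5833 := d16_2 D5823 D7600 (iv D5833) (iv D4462) (iv F15253)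
def n7604 : Q := act 2 n5827
theorem D7604 : act 2 n5827 = n7604 := rfl
theorem F25459 : act 6 n7604 = n5837 := d16_2 D5827 D7604 (iv D5837) (iv D4466) (iv F15265)
def n7606 : Q := act 1 n5828
theorem D7606 : act 1 n5828 = n7606 := rfl
theorem F25465 : act 5 n7606 = n5830 := d10_2 (iv F19738) D7606 (iv D5830)
theorem F25466 : act 6 n7606 = n5839 := d11_2 (iv F19739) D7606 (iv D5839)
def n7607 : Q := act 7 n5828
theorem D7607 : act 7 n5828 = n7607 := rfl
theorem F25467 : act 2 n7607 = n5829 := d17_1 D7607 (iv D5829) D5828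
def n7608 : Q := act 0 n5830
theorem D7608 : act 0 n5830 = n7608 := rfl
theorem F25473 : act 6 n7608 = n5841 := d5_2 (iv F19746) D7608 (iv D5841)
def n7611 : Q := act 2 n5832
theorem D7611 : act 2 n5832 = n7611 := rfl
def n7612 : Q := act 7 n5832
theorem D7612 : act 7 n5832 = n7612 := rfl
def n7613 : Q := act 1 n5833
theorem D7613 : act 1 n5833 = n7613 := rfl
def n7614 : Q := act 7 n5833
theorem D7614 : act 7 n5833 = n7614 := rfl
theorem F25492 : act 2 n7614 = n5834 := d17_1 D7614 (iv D5834) D5833
def n7618 : Q := act 1 n5837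
theorem D7618 : act 1 n5837 = n7618 := rfl
theorem F25507 : act 4 n7618 = n5839 := d9_2 (iv F19768) D7618 (iv D5839)
def n7619 : Q := act 3 n5837
theorem D7619 : act 3 n5837 = n7619 := rfl
def n7620 : Q := act 7 n5837
theorem D7620 : act 7 n5837 = n7620 := rfl
theorem F25511 : act 2 n7620 = n5838 := d17_1 D7620 (iv D5838) D5837
def n7621 : Q := act 0 n5839
theorem D7621 : act 0 n5839 = n7621 := rfl
def n7622 : Q := act 7 n5839
theorem D7622 : act 7 n5839 = n7622 := rfl
theorem F25517 : act 1 n7622 = n5840 := d12_1 D7622 (iv D5840) D5839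
theorem F25520 : act 5 n7622 = n5842 := d26_1 D7622 (iv D5842) (iv F19775)
def n7623 : Q := act 6 n5840
theorem D7623 : act 6 n5840 = n7623 := rfl
def n7624 : Q := act 7 n5841
theorem D7624 : act 7 n5841 = n7624 := rfl
theorem F25523 : act 0 n7624 = n5842 := d6_1 D7624 (iv D5842) D5841
def n7625 : Q := act 6 n5842
theorem D7625 : act 6 n5842 = n7625 := rfl
theorem F25527 : act 1 n7625 = n5843 := d11_1 D7625 (iv D5843) (iv F19782)
def n7651 : Q := act 1 n5864
theorem D7651 : act 1 n5864 = n7651 := rfl
def n7652 : Q := act 7 n5864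
theorem D7652 : act 7 n5864 = n7652 := rfl
theorem F25623 : act 2 n7652 = n5865 := d17_1 D7652 (iv D5865) D5864
def n7656 : Q := act 3 n5868
theorem D7656 : act 3 n5868 = n7656 := rfl
def n7657 : Q := act 7 n5868
theorem D7657 : act 7 n5868 = n7657 := rfl
theorem F25642 : act 2 n7657 = n5869 := d17_1 D7657 (iv D5869) D5868
def n7698 : Q := act 6 n5902
theorem D7698 : act 6 n5902 = n7698 := rfl
def n8081 : Q := act 2 n6204
theorem D8081 : act 2 n6204 = n8081 := rfl
theorem F27090 : act 5 n8081 = n6214 := d15_2 (iv F21027) D8081 (iv D6214)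
theorem F27091 : act 6 n8081 = n6205 := d16_2 D6204 D8081 (iv D6205) (iv D4759) (iv F16312)
def n8082 : Q := act 1 n6205
theorem D8082 : act 1 n6205 = n8082 := rfl
theorem F27092 : act 2 n8082 = n6266 := d7_2 D6205 D8082 (iv D6266) (iv D4803) (iv F16315)
theorem F27093 : act 5 n8082 = n6215 := d10_2 (iv F21029) D8082 (iv D6215)
def n8083 : Q := act 3 n6205
theorem D8083 : act 3 n6205 = n8083 := rfl
theorem F27096 : act 2 n8083 = n6225 := d13_1 D8083 (iv D6225) (iv D4772) (iv F16316) D6205
def n8093 : Q := act 2 n6213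
theorem D8093 : act 2 n6213 = n8093 := rfl
theorem F27128 : act 0 n8093 = n6460 := d1_1 D8093 (iv D6460) (iv F21054)
theorem F27129 : act 6 n8093 = n6231 := d16_2 D6213 D8093 (iv D6231) (iv D4777) (iv F16332)
def n8094 : Q := act 1 n6214
theorem D8094 : act 1 n6214 = n8094 := rfl
theorem F27131 : act 6 n8094 = n6215 := d11_2 (iv F21058) D8094 (iv D6215)
def n8095 : Q := act 3 n6214
theorem D8095 : act 3 n6214 = n8095 := rfl
theorem F27132 : act 0 n8095 = n6462 := d2_1 D8095 (iv D6462) (iv F21056)
theorem F27133 : act 6 n8095 = n6216 := d20_2 (iv F21058) D8095 (iv D6216)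
def n8096 : Q := act 0 n6215
theorem D8096 : act 0 n6215 = n8096 := rfl
theorem F27134 : act 1 n8096 = n6463 := d0_2 D6215 D8096 (iv D6463) (iv D4949) (iv F16336)
theorem F27135 : act 2 n8096 = n6274 := d1_2 (iv F21059) D8096 (iv D6274)
theorem F27137 : act 7 n8096 = n6217 := d6_2 (iv F21061) D8096 (iv D6217)
def n8097 : Q := act 3 n6215
theorem D8097 : act 3 n6215 = n8097 := rfl
theorem F27138 : act 1 n8097 = n6216 := d8_1 D8097 (iv D6216) D6215
theorem F27139 : act 7 n8097 = n6218 := d21_2 (iv F21061) D8097 (iv D6218)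
def n8098 : Q := act 4 n6216
theorem D8098 : act 4 n6216 = n8098 := rfl
theorem F27141 : act 2 n8098 = n6236 := d14_1 D8098 (iv D6236) (iv F21063)
theorem F27143 : act 7 n8098 = n6219 := d24_2 (iv F21064) D8098 (iv D6219)
def n8099 : Q := act 3 n6217
theorem D8099 : act 3 n6217 = n8099 := rfl
theorem F27144 : act 0 n8099 = n6218 := d2_1 D8099 (iv D6218) D6217
theorem F27145 : act 1 n8099 = n6466 := d8_1 D8099 (iv D6466) (iv F21065)
def n8100 : Q := act 2 n6218
theorem D8100 : act 2 n6218 = n8100 := rfl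
theorem F27146 : act 1 n8100 = n6238 := d7_1 D8100 (iv D6238) F16392 (iv F16342) (iv F21068)
theorem F27147 : act 3 n8100 = n6278 := d13_2 D6218 D8100 (iv D6278) (iv D4811) (iv F16339)
def n8101 : Q := act 4 n6218
theorem D8101 : act 4 n6218 = n8101 := rfl
def n8108 : Q := act 0 n6224
theorem D8108 : act 0 n6224 = n8108 := rfl
theorem F27176 : act 2 n8108 = n6281 := d1_2 (iv F21091) D8108 (iv D6281)
theorem F27178 : act 5 n8108 = n6234 := d4_2 (iv F21093) D8108 (iv D6234)
theorem F27179 : act 7 n8108 = n6226 := d6_2 (iv F21094) D8108 (iv D6226)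
def n8109 : Q := act 3 n6224
theorem D8109 : act 3 n6224 = n8109 := rfl
theorem F27180 : act 1 n8109 = n6225 := d8_1 D8109 (iv D6225) D6224
theorem F27181 : act 5 n8109 = n6235 := d19_2 (iv F21093) D8109 (iv D6235)
theorem F27182 : act 7 n8109 = n6227 := d21_2 (iv F21094) D8109 (iv D6227)
def n8111 : Q := act 3 n6226
theorem D8111 : act 3 n6226 = n8111 := rfl
theorem F27186 : act 0 n8111 = n6227 := d2_1 D8111 (iv D6227) D6226
theorem F27187 : act 1 n8111 = n6478 := d8_1 D8111 (iv D6478) (iv F21098)
theorem F27188 : act 5 n8111 = n6237 := d19_2 (iv F21101) D8111 (iv D6237)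
def n8112 : Q := act 2 n6227
theorem D8112 : act 2 n6227 = n8112 := rfl
theorem F27190 : act 3 n8112 = n6285 := d13_2 D6227 D8112 (iv D6285) (iv D4816) (iv F16360)
theorem F27191 : act 5 n8112 = n6238 := d15_2 (iv F21104) D8112 (iv D6238)
def n8118 : Q := act 3 n6231
theorem D8118 : act 3 n6231 = n8118 := rfl
theorem F27210 : act 2 n8118 = n6233 := d13_1 D8118 (iv D6233) (iv D4778) (iv F16377) D6231
def n8119 : Q := act 0 n6232
theorem D8119 : act 0 n6232 = n8119 := rfl
theorem F27214 : act 4 n8119 = n6245 := d3_2 (iv F21121) D8119 (iv D6245)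
def n8120 : Q := act 3 n6232
theorem D8120 : act 3 n6232 = n8120 := rfl
theorem F27217 : act 1 n8120 = n6233 := d8_1 D8120 (iv D6233) D6232
def n8121 : Q := act 4 n6233
theorem D8121 : act 4 n6233 = n8121 := rfl
theorem F27220 : act 0 n8121 = n6488 := d3_1 D8121 (iv D6488) (iv F21124)
theorem F27221 : act 3 n8121 = n6247 := d18_1 D8121 (iv D6247) (iv D4788) (iv F16380) D6233
theorem F27222 : act 6 n8121 = n6236 := d23_2 (iv F21125) D8121 (iv D6236)
def n8122 : Q := act 3 n6234
theorem D8122 : act 3 n6234 = n8122 := rfl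
theorem F27224 : act 0 n8122 = n6235 := d2_1 D8122 (iv D6235) D6234
theorem F27225 : act 1 n8122 = n6489 := d8_1 D8122 (iv D6489) (iv F21127)
theorem F27226 : act 7 n8122 = n6237 := d21_2 (iv F21130) D8122 (iv D6237)
def n8123 : Q := act 2 n6235
theorem D8123 : act 2 n6235 = n8123 := rfl
theorem F27227 : act 3 n8123 = n6289 := d13_2 D6235 D8123 (iv D6289) (iv D4819) (iv F16383)
theorem F27228 : act 7 n8123 = n6238 := d17_2 (iv F21132) D8123 (iv D6238)
def n8124 : Q := act 4 n6235
theorem D8124 : act 4 n6235 = n8124 := rfl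
theorem F27229 : act 1 n8124 = n6236 := d9_1 D8124 (iv D6236) (iv F21131)
theorem F27230 : act 3 n8124 = n6250 := d18_1 D8124 (iv D6250) (iv D4790) (iv F16384) D6235
theorem F27231 : act 7 n8124 = n6239 := d24_2 (iv F21132) D8124 (iv D6239)
def n8125 : Q := act 5 n6236
theorem D8125 : act 5 n6236 = n8125 := rfl
theorem F27232 : act 0 n8125 = n6492 := d4_1 D8125 (iv D6492) (iv F21133)
theorem F27233 : act 3 n8125 = n6251 := d19_1 D8125 (iv D6251) (iv F21134)
theorem F27234 : act 7 n8125 = n6240 := d26_2 (iv F21135) D8125 (iv D6240)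
def n8126 : Q := act 2 n6237
theorem D8126 : act 2 n6237 = n8126 := rfl
theorem F27235 : act 0 n8126 = n6238 := d1_1 D8126 (iv D6238) (iv F21136)
theorem F27236 : act 3 n8126 = n6292 := d13_2 D6237 D8126 (iv D6292) (iv D4821) (iv F16389)
def n8127 : Q := act 4 n6237
theorem D8127 : act 4 n6237 = n8127 := rfl
theorem F27237 : act 0 n8127 = n6239 := d3_1 D8127 (iv D6239) (iv F21136)
theorem F27238 : act 1 n8127 = n6494 := d9_1 D8127 (iv D6494) (iv F21137)
theorem F27239 : act 3 n8127 = n6253 := d18_1 D8127 (iv D6253) (iv D4792) (iv F16390) D6237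
theorem F27240 : act 6 n8127 = n8127 := d23_2 F21138 D8127 (iv D8127)
def n8128 : Q := act 4 n6238
theorem D8128 : act 4 n6238 = n8128 := rfl
theorem F27241 : act 2 n8128 = n6239 := d14_1 D8128 (iv D6239) D6238
def n8129 : Q := act 6 n6238
theorem D8129 : act 6 n6238 = n8129 := rfl
theorem F27242 : act 2 n8129 = n8129 := d16_1 D8129 (iv D8129) (iv D6238) F16393 D6238
theorem F27243 : act 3 n8129 = n6295 := d20_1 D8129 (iv D6295) (iv F21139)
def n8130 : Q := act 5 n6239
theorem D8130 : act 5 n6239 = n8130 := rfl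
theorem F27244 : act 1 n8130 = n6240 := d10_1 D8130 (iv D6240) (iv F21140)
theorem F27245 : act 3 n8130 = n6256 := d19_1 D8130 (iv D6256) (iv F21141)
theorem F27246 : act 6 n8130 = n8130 := d25_2 F21142 D8130 (iv D8130)
def n8134 : Q := act 0 n6243
theorem D8134 : act 0 n6243 = n8134 := rfl
theorem F27259 : act 1 n8134 = n6501 := d0_2 D6243 D8134 (iv D6501) (iv D4977) (iv F16406)
def n8135 : Q := act 3 n6243
theorem D8135 : act 3 n6243 = n8135 := rfl
theorem F27264 : act 1 n8135 = n6244 := d8_1 D8135 (iv D6244) D6243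
def n8137 : Q := act 3 n6245
theorem D8137 : act 3 n6245 = n8137 := rfl
theorem F27272 : act 0 n8137 = n6246 := d2_1 D8137 (iv D6246) D6245
theorem F27273 : act 1 n8137 = n6504 := d8_1 D8137 (iv D6504) (iv F21164)
theorem F27275 : act 6 n8137 = n6248 := d20_2 (iv F21167) D8137 (iv D6248)
def n8138 : Q := act 2 n6246
theorem D8138 : act 2 n6246 = n8138 := rfl
def n8139 : Q := act 4 n6246
theorem D8139 : act 4 n6246 = n8139 := rfl
theorem F27281 : act 6 n8139 = n6250 := d23_2 (iv F21171) D8139 (iv D6250)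
def n8140 : Q := act 5 n6247
theorem D8140 : act 5 n6247 = n8140 := rfl
theorem F27285 : act 6 n8140 = n6251 := d25_2 (iv F21174) D8140 (iv D6251)
def n8141 : Q := act 2 n6248
theorem D8141 : act 2 n6248 = n8141 := rfl
theorem F27287 : act 0 n8141 = n6249 := d1_1 D8141 (iv D6249) (iv F21176)
theorem F27288 : act 3 n8141 = n6297 := d13_2 D6248 D8141 (iv D6297) (iv D4825) (iv F16419)
theorem F27289 : act 5 n8141 = n8141 := d15_2 F21178 D8141 (iv D8141)
theorem F27290 : act 7 n8141 = n6252 := d17_2 (iv F21179) D8141 (iv D6252)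
def n8142 : Q := act 4 n6248
theorem D8142 : act 4 n6248 = n8142 := rfl
theorem F27291 : act 0 n8142 = n6250 := d3_1 D8142 (iv D6250) (iv F21176)
theorem F27292 : act 1 n8142 = n6509 := d9_1 D8142 (iv D6509) (iv F21177)
theorem F27293 : act 7 n8142 = n6253 := d24_2 (iv F21179) D8142 (iv D6253)
def n8143 : Q := act 4 n6249
theorem D8143 : act 4 n6249 = n8143 := rfl
theorem F27294 : act 1 n8143 = n8143 := d9_1 D8143 (iv D8143) F21180
theorem F27295 : act 2 n8143 = n6250 := d14_1 D8143 (iv D6250) D6249
theorem F27296 : act 7 n8143 = n6254 := d24_2 (iv F21183) D8143 (iv D6254)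
def n8144 : Q := act 6 n6249
theorem D8144 : act 6 n6249 = n8144 := rfl
theorem F27297 : act 1 n8144 = n8144 := d11_1 D8144 (iv D8144) F21180
theorem F27298 : act 3 n8144 = n6300 := d20_1 D8144 (iv D6300) (iv F21181)
theorem F27299 : act 5 n8144 = n8144 := d25_1 D8144 (iv D8144) F21182
def n8145 : Q := act 5 n6250
theorem D8145 : act 5 n6250 = n8145 := rfl
theorem F27300 : act 1 n8145 = n6251 := d10_1 D8145 (iv D6251) (iv F21184)
theorem F27301 : act 4 n8145 = n8145 := d22_1 D8145 (iv D8145) (iv D6250) F16423 D6250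
theorem F27302 : act 7 n8145 = n6256 := d26_2 (iv F21185) D8145 (iv D6256)
def n8146 : Q := act 1 n6252
theorem D8146 : act 1 n6252 = n8146 := rfl
theorem F27303 : act 0 n8146 = n8146 := d0_1 D8146 (iv D8146) F21190 F16432 (iv F21190)
theorem F27304 : act 2 n8146 = n6513 := d7_2 D6252 D8146 (iv D6513) (iv D4986) (iv F16429)
theorem F27305 : act 3 n8146 = n6302 := d8_2 (iv F21191) D8146 (iv D6302)
theorem F27306 : act 5 n8146 = n8146 := d10_2 F21192 D8146 (iv D8146)
def n8147 : Q := act 4 n6252
theorem D8147 : act 4 n6252 = n8147 := rfl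
theorem F27307 : act 0 n8147 = n6254 := d3_1 D8147 (iv D6254) (iv F21190)
theorem F27308 : act 2 n8147 = n6253 := d14_1 D8147 (iv D6253) D6252
def n8148 : Q := act 6 n6252
theorem D8148 : act 6 n6252 = n8148 := rfl
theorem F27309 : act 0 n8148 = n6255 := d5_1 D8148 (iv D6255) (iv F21190)
theorem F27310 : act 2 n8148 = n8148 := d16_1 D8148 (iv D8148) (iv D6252) F16431 D6252
theorem F27311 : act 3 n8148 = n6304 := d20_1 D8148 (iv D6304) (iv F21191)
theorem F27312 : act 5 n8148 = n8148 := d25_1 D8148 (iv D8148) F21192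
def n8149 : Q := act 5 n6253
theorem D8149 : act 5 n6253 = n8149 := rfl
theorem F27313 : act 0 n8149 = n6256 := d4_1 D8149 (iv D6256) (iv F21193)
theorem F27314 : act 1 n8149 = n6516 := d10_1 D8149 (iv D6516) (iv F21194)
theorem F27315 : act 4 n8149 = n8149 := d22_1 D8149 (iv D8149) (iv D6253) F16430 D6253
theorem F27316 : act 6 n8149 = n8149 := d25_2 F21195 D8149 (iv D8149)
def n8150 : Q := act 3 n6254
theorem D8150 : act 3 n6254 = n8150 := rfl
theorem F27317 : act 1 n8150 = n8150 := d8_1 D8150 (iv D8150) F21196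
theorem F27318 : act 4 n8150 = n6306 := d18_2 D6254 D8150 (iv D6306) (iv D4831) (iv F16433)
def n8151 : Q := act 5 n6254
theorem D8151 : act 5 n6254 = n8151 := rfl
theorem F27319 : act 1 n8151 = n8151 := d10_1 D8151 (iv D8151) F21196
theorem F27320 : act 2 n8151 = n6256 := d15_1 D8151 (iv D6256) (iv F21197)
theorem F27321 : act 4 n8151 = n8151 := d22_1 D8151 (iv D8151) (iv D6254) F16434 D6254
def n8152 : Q := act 6 n6254
theorem D8152 : act 6 n6254 = n8152 := rfl
theorem F27322 : act 1 n8152 = n8152 := d11_1 D8152 (iv D8152) F21196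
theorem F27323 : act 2 n8152 = n8152 := d16_1 D8152 (iv D8152) F21197 F16436 (iv F21197)
theorem F27324 : act 4 n8152 = n6255 := d23_1 D8152 (iv D6255) D6254
def n8153 : Q := act 7 n6255
theorem D8153 : act 7 n6255 = n8153 := rfl
theorem F27325 : act 1 n8153 = n8153 := d12_1 D8153 (iv D8153) F21198
theorem F27326 : act 2 n8153 = n8153 := d17_1 D8153 (iv D8153) F21199
theorem F27327 : act 3 n8153 = n6309 := d21_1 D8153 (iv D6309) (iv F21200)
theorem F27328 : act 5 n8153 = n8153 := d26_1 D8153 (iv D8153) F21201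
def n8167 : Q := act 0 n6266
theorem D8167 : act 0 n6266 = n8167 := rfl
theorem F27384 : act 7 n8167 = n6268 := d6_2 (iv F21244) D8167 (iv D6268)
def n8168 : Q := act 3 n6266
theorem D8168 : act 3 n6266 = n8168 := rfl
theorem F27385 : act 1 n8168 = n6267 := d8_1 D8168 (iv D6267) D6266
theorem F27387 : act 7 n8168 = n6269 := d21_2 (iv F21244) D8168 (iv D6269)
def n8170 : Q := act 3 n6268
theorem D8170 : act 3 n6268 = n8170 := rfl
theorem F27391 : act 0 n8170 = n6269 := d2_1 D8170 (iv D6269) D6268
theorem F27392 : act 1 n8170 = n6348 := d8_1 D8170 (iv D6348) (iv F21249)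
theorem F27393 : act 5 n8170 = n6277 := d19_2 (iv F21250) D8170 (iv D6277)
def n8171 : Q := act 2 n6269
theorem D8171 : act 2 n6269 = n8171 := rfl
theorem F27395 : act 1 n8171 = n6285 := d7_1 D8171 (iv D6285) F16515 (iv F16477) (iv F21252)
theorem F27396 : act 5 n8171 = n6278 := d15_2 (iv F21253) D8171 (iv D6278)
def n8172 : Q := act 4 n6269
theorem D8172 : act 4 n6269 = n8172 := rfl
def n8178 : Q := act 4 n6273
theorem D8178 : act 4 n6273 = n8178 := rfl
theorem F27417 : act 2 n8178 = n8178 := d14_1 D8178 (iv D8178) F21265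
theorem F27419 : act 6 n8178 = n6276 := d23_2 (iv F21266) D8178 (iv D6276)
def n8179 : Q := act 3 n6274
theorem D8179 : act 3 n6274 = n8179 := rfl
theorem F27421 : act 0 n8179 = n6275 := d2_1 D8179 (iv D6275) D6274
theorem F27422 : act 1 n8179 = n6355 := d8_1 D8179 (iv D6355) (iv F21268)
theorem F27423 : act 7 n8179 = n6277 := d21_2 (iv F21270) D8179 (iv D6277)
def n8180 : Q := act 2 n6275
theorem D8180 : act 2 n6275 = n8180 := rfl
theorem F27424 : act 1 n8180 = n6289 := d7_1 D8180 (iv D6289) F16525 (iv F16492) (iv F21271)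
theorem F27425 : act 7 n8180 = n6278 := d17_2 (iv F21272) D8180 (iv D6278)
def n8181 : Q := act 4 n6275
theorem D8181 : act 4 n6275 = n8181 := rfl
theorem F27426 : act 1 n8181 = n6276 := d9_1 D8181 (iv D6276) (iv F21271)
theorem F27428 : act 7 n8181 = n6279 := d24_2 (iv F21272) D8181 (iv D6279)
def n8182 : Q := act 5 n6276
theorem D8182 : act 5 n6276 = n8182 := rfl
theorem F27429 : act 0 n8182 = n6358 := d4_1 D8182 (iv D6358) (iv F21273)
theorem F27430 : act 2 n8182 = n6291 := d15_1 D8182 (iv D6291) (iv F21274)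
def n8183 : Q := act 2 n6277
theorem D8183 : act 2 n6277 = n8183 := rfl
theorem F27433 : act 0 n8183 = n6278 := d1_1 D8183 (iv D6278) (iv F21277)
def n8184 : Q := act 4 n6277
theorem D8184 : act 4 n6277 = n8184 := rfl
theorem F27434 : act 0 n8184 = n6279 := d3_1 D8184 (iv D6279) (iv F21277)
theorem F27435 : act 1 n8184 = n6360 := d9_1 D8184 (iv D6360) (iv F21278)
theorem F27436 : act 3 n8184 = n8184 := d18_1 D8184 (iv D8184) (iv D6277) F16495 D6277
theorem F27437 : act 6 n8184 = n8184 := d23_2 F21279 D8184 (iv D8184)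
def n8185 : Q := act 4 n6278
theorem D8185 : act 4 n6278 = n8185 := rfl
theorem F27438 : act 1 n8185 = n6294 := d9_1 D8185 (iv D6294) (iv F21280)
theorem F27439 : act 2 n8185 = n6279 := d14_1 D8185 (iv D6279) D6278
def n8186 : Q := act 6 n6278
theorem D8186 : act 6 n6278 = n8186 := rfl
theorem F27440 : act 1 n8186 = n6295 := d11_1 D8186 (iv D6295) (iv F21280)
theorem F27441 : act 2 n8186 = n8186 := d16_1 D8186 (iv D8186) (iv D6278) F16498 D6278
def n8187 : Q := act 5 n6279
theorem D8187 : act 5 n6279 = n8187 := rfl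
theorem F27442 : act 1 n8187 = n6280 := d10_1 D8187 (iv D6280) (iv F21281)
theorem F27443 : act 3 n8187 = n8187 := d19_1 D8187 (iv D8187) F21282
theorem F27444 : act 6 n8187 = n8187 := d25_2 F21283 D8187 (iv D8187)
def n8188 : Q := act 3 n6281
theorem D8188 : act 3 n6281 = n8188 := rfl
theorem F27445 : act 0 n8188 = n6282 := d2_1 D8188 (iv D6282) D6281
theorem F27446 : act 1 n8188 = n6364 := d8_1 D8188 (iv D6364) (iv F21288)
theorem F27447 : act 5 n8188 = n6288 := d19_2 (iv F21290) D8188 (iv D6288)
theorem F27449 : act 7 n8188 = n6284 := d21_2 (iv F21292) D8188 (iv D6284)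
def n8189 : Q := act 2 n6282
theorem D8189 : act 2 n6282 = n8189 := rfl
theorem F27450 : act 5 n8189 = n6289 := d15_2 (iv F21294) D8189 (iv D6289)
theorem F27451 : act 7 n8189 = n6285 := d17_2 (iv F21296) D8189 (iv D6285)
def n8190 : Q := act 4 n6282
theorem D8190 : act 4 n6282 = n8190 := rfl
theorem F27452 : act 1 n8190 = n6283 := d9_1 D8190 (iv D6283) (iv F21293)
theorem F27455 : act 7 n8190 = n6286 := d24_2 (iv F21296) D8190 (iv D6286)
def n8191 : Q := act 5 n6283
theorem D8191 : act 5 n6283 = n8191 := rfl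
theorem F27458 : act 4 n8191 = n6291 := d22_1 D8191 (iv D6291) (iv D4820) (iv F16508) D6283
def n8192 : Q := act 2 n6284
theorem D8192 : act 2 n6284 = n8192 := rfl
theorem F27461 : act 0 n8192 = n6285 := d1_1 D8192 (iv D6285) (iv F21301)
theorem F27462 : act 5 n8192 = n6292 := d15_2 (iv F21303) D8192 (iv D6292)
def n8193 : Q := act 4 n6284
theorem D8193 : act 4 n6284 = n8193 := rfl
theorem F27463 : act 0 n8193 = n6286 := d3_1 D8193 (iv D6286) (iv F21301)
theorem F27464 : act 1 n8193 = n6369 := d9_1 D8193 (iv D6369) (iv F21302)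
theorem F27465 : act 3 n8193 = n8193 := d18_1 D8193 (iv D8193) (iv D6284) F16512 D6284
theorem F27466 : act 6 n8193 = n6311 := d23_2 (iv F21304) D8193 (iv D6311)
def n8194 : Q := act 4 n6285
theorem D8194 : act 4 n6285 = n8194 := rfl
theorem F27467 : act 2 n8194 = n6286 := d14_1 D8194 (iv D6286) D6285
def n8195 : Q := act 6 n6285
theorem D8195 : act 6 n6285 = n8195 := rfl
theorem F27468 : act 2 n8195 = n6313 := d16_1 D8195 (iv D6313) (iv D4835) (iv F16517) D6285
theorem F27469 : act 5 n8195 = n6295 := d25_1 D8195 (iv D6295) (iv F21305)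
def n8196 : Q := act 5 n6286
theorem D8196 : act 5 n6286 = n8196 := rfl
theorem F27470 : act 1 n8196 = n6287 := d10_1 D8196 (iv D6287) (iv F21306)
theorem F27471 : act 3 n8196 = n8196 := d19_1 D8196 (iv D8196) F21307
theorem F27472 : act 4 n8196 = n6296 := d22_1 D8196 (iv D6296) (iv D4823) (iv F16516) D6286
theorem F27473 : act 6 n8196 = n6314 := d25_2 (iv F21308) D8196 (iv D6314)
def n8197 : Q := act 2 n6288
theorem D8197 : act 2 n6288 = n8197 := rfl
theorem F27474 : act 0 n8197 = n6289 := d1_1 D8197 (iv D6289) (iv F21313)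
theorem F27475 : act 7 n8197 = n6292 := d17_2 (iv F21316) D8197 (iv D6292)
def n8198 : Q := act 4 n6288
theorem D8198 : act 4 n6288 = n8198 := rfl
theorem F27476 : act 0 n8198 = n6290 := d3_1 D8198 (iv D6290) (iv F21313)
theorem F27477 : act 1 n8198 = n6374 := d9_1 D8198 (iv D6374) (iv F21314)
theorem F27478 : act 3 n8198 = n6298 := d18_1 D8198 (iv D6298) (iv D4825) (iv F16522) D6288
theorem F27479 : act 6 n8198 = n8198 := d23_2 F21315 D8198 (iv D8198)
theorem F27480 : act 7 n8198 = n6293 := d24_2 (iv F21316) D8198 (iv D6293)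
def n8199 : Q := act 4 n6289
theorem D8199 : act 4 n6289 = n8199 := rfl
theorem F27481 : act 2 n8199 = n6290 := d14_1 D8199 (iv D6290) D6289
theorem F27482 : act 7 n8199 = n6294 := d24_2 (iv F21317) D8199 (iv D6294)
def n8200 : Q := act 6 n6289
theorem D8200 : act 6 n6289 = n8200 := rfl
theorem F27483 : act 2 n8200 = n8200 := d16_1 D8200 (iv D8200) (iv D6289) F16526 D6289
def n8201 : Q := act 5 n6290
theorem D8201 : act 5 n6290 = n8201 := rfl
theorem F27484 : act 1 n8201 = n6291 := d10_1 D8201 (iv D6291) (iv F21318)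
theorem F27485 : act 3 n8201 = n6301 := d19_1 D8201 (iv D6301) (iv F21319)
theorem F27486 : act 6 n8201 = n8201 := d25_2 F21320 D8201 (iv D8201)
theorem F27487 : act 7 n8201 = n6296 := d26_2 (iv F21321) D8201 (iv D6296)
def n8202 : Q := act 1 n6292
theorem D8202 : act 1 n6292 = n8202 := rfl
theorem F27488 : act 2 n8202 = n6378 := d7_2 D6292 D8202 (iv D6378) (iv D4885) (iv F16533)
def n8203 : Q := act 4 n6292
theorem D8203 : act 4 n6292 = n8203 := rfl
theorem F27489 : act 0 n8203 = n6294 := d3_1 D8203 (iv D6294) (iv F21326)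
theorem F27490 : act 2 n8203 = n6293 := d14_1 D8203 (iv D6293) D6292
def n8204 : Q := act 6 n6292
theorem D8204 : act 6 n6292 = n8204 := rfl
theorem F27491 : act 0 n8204 = n6295 := d5_1 D8204 (iv D6295) (iv F21326)
theorem F27492 : act 2 n8204 = n6317 := d16_1 D8204 (iv D6317) (iv D4838) (iv F16534) D6292
def n8205 : Q := act 5 n6293
theorem D8205 : act 5 n6293 = n8205 := rfl
theorem F27493 : act 0 n8205 = n6296 := d4_1 D8205 (iv D6296) (iv F21327)
theorem F27494 : act 1 n8205 = n6381 := d10_1 D8205 (iv D6381) (iv F21328)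
theorem F27495 : act 3 n8205 = n6305 := d19_1 D8205 (iv D6305) (iv F21329)
theorem F27496 : act 6 n8205 = n6318 := d25_2 (iv F21330) D8205 (iv D6318)
def n8206 : Q := act 3 n6294
theorem D8206 : act 3 n6294 = n8206 := rfl
theorem F27497 : act 2 n8206 = n6306 := d13_1 D8206 (iv D6306) F16563 (iv F16536) (iv F21331)
def n8207 : Q := act 5 n6294
theorem D8207 : act 5 n6294 = n8207 := rfl
theorem F27498 : act 2 n8207 = n6296 := d15_1 D8207 (iv D6296) (iv F21331)
def n8208 : Q := act 6 n6294
theorem D8208 : act 6 n6294 = n8208 := rfl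
theorem F27499 : act 2 n8208 = n6321 := d16_1 D8208 (iv D6321) F16594 (iv F16537) (iv F21331)
theorem F27500 : act 4 n8208 = n6295 := d23_1 D8208 (iv D6295) D6294
def n8209 : Q := act 7 n6295
theorem D8209 : act 7 n6295 = n8209 := rfl
theorem F27501 : act 2 n8209 = n6322 := d17_1 D8209 (iv D6322) (iv F21332)
def n8210 : Q := act 1 n6297
theorem D8210 : act 1 n6297 = n8210 := rfl
theorem F27502 : act 0 n8210 = n8210 := d0_1 D8210 (iv D8210) F21336 F16546 (iv F21336)
theorem F27503 : act 2 n8210 = n6386 := d7_2 D6297 D8210 (iv D6386) (iv D4890) (iv F16542)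
theorem F27504 : act 5 n8210 = n8210 := d10_2 F21337 D8210 (iv D8210)
theorem F27505 : act 7 n8210 = n6302 := d12_2 (iv F21338) D8210 (iv D6302)
def n8211 : Q := act 4 n6297
theorem D8211 : act 4 n6297 = n8211 := rfl
theorem F27506 : act 0 n8211 = n6299 := d3_1 D8211 (iv D6299) (iv F21336)
theorem F27507 : act 2 n8211 = n6298 := d14_1 D8211 (iv D6298) D6297
theorem F27508 : act 7 n8211 = n6303 := d24_2 (iv F21338) D8211 (iv D6303)
def n8212 : Q := act 6 n6297
theorem D8212 : act 6 n6297 = n8212 := rfl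
theorem F27509 : act 0 n8212 = n6300 := d5_1 D8212 (iv D6300) (iv F21336)
theorem F27510 : act 2 n8212 = n8212 := d16_1 D8212 (iv D8212) (iv D6297) F16544 D6297
theorem F27511 : act 5 n8212 = n8212 := d25_1 D8212 (iv D8212) F21337
def n8213 : Q := act 5 n6298
theorem D8213 : act 5 n6298 = n8213 := rfl
theorem F27512 : act 0 n8213 = n6301 := d4_1 D8213 (iv D6301) (iv F21339)
theorem F27513 : act 1 n8213 = n6389 := d10_1 D8213 (iv D6389) (iv F21340)
theorem F27514 : act 4 n8213 = n8213 := d22_1 D8213 (iv D8213) (iv D6298) F16543 D6298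
theorem F27515 : act 6 n8213 = n8213 := d25_2 F21341 D8213 (iv D8213)
theorem F27516 : act 7 n8213 = n6305 := d26_2 (iv F21342) D8213 (iv D6305)
def n8214 : Q := act 3 n6299
theorem D8214 : act 3 n6299 = n8214 := rfl
theorem F27517 : act 1 n8214 = n8214 := d8_1 D8214 (iv D8214) F21343
theorem F27518 : act 7 n8214 = n6306 := d21_2 (iv F21345) D8214 (iv D6306)
def n8215 : Q := act 5 n6299
theorem D8215 : act 5 n6299 = n8215 := rfl
theorem F27519 : act 1 n8215 = n8215 := d10_1 D8215 (iv D8215) F21343
theorem F27520 : act 2 n8215 = n6301 := d15_1 D8215 (iv D6301) (iv F21344)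
theorem F27521 : act 4 n8215 = n8215 := d22_1 D8215 (iv D8215) (iv D6299) F16547 D6299
theorem F27522 : act 7 n8215 = n6307 := d26_2 (iv F21345) D8215 (iv D6307)
def n8216 : Q := act 6 n6299
theorem D8216 : act 6 n6299 = n8216 := rfl
theorem F27523 : act 1 n8216 = n8216 := d11_1 D8216 (iv D8216) F21343
theorem F27524 : act 2 n8216 = n8216 := d16_1 D8216 (iv D8216) F21344 F16550 (iv F21344)
theorem F27525 : act 4 n8216 = n6300 := d23_1 D8216 (iv D6300) D6299
def n8217 : Q := act 7 n6300
theorem D8217 : act 7 n6300 = n8217 := rfl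
theorem F27526 : act 1 n8217 = n8217 := d12_1 D8217 (iv D8217) F21346
theorem F27527 : act 2 n8217 = n8217 := d17_1 D8217 (iv D8217) F21347
theorem F27528 : act 5 n8217 = n8217 := d26_1 D8217 (iv D8217) F21348
theorem F27529 : act 6 n8217 = n6309 := d27_1 D8217 (iv D6309) (iv D4832) (iv F16548) D6300
def n8218 : Q := act 4 n6302
theorem D8218 : act 4 n6302 = n8218 := rfl
theorem F27530 : act 0 n8218 = n8218 := d3_1 D8218 (iv D8218) F21353
theorem F27531 : act 1 n8218 = n6303 := d9_1 D8218 (iv D6303) D6302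
theorem F27532 : act 2 n8218 = n6393 := d14_1 D8218 (iv D6393) (iv F21354)
def n8219 : Q := act 6 n6302
theorem D8219 : act 6 n6302 = n8219 := rfl
theorem F27533 : act 0 n8219 = n8219 := d5_1 D8219 (iv D8219) F21353
theorem F27534 : act 1 n8219 = n6304 := d11_1 D8219 (iv D6304) D6302
theorem F27535 : act 2 n8219 = n8219 := d16_1 D8219 (iv D8219) F21354 F16770 (iv F21354)
theorem F27536 : act 5 n8219 = n8219 := d25_1 D8219 (iv D8219) F21355
def n8220 : Q := act 3 n6303
theorem D8220 : act 3 n6303 = n8220 := rfl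
theorem F27537 : act 0 n8220 = n6306 := d2_1 D8220 (iv D6306) (iv F21356)
def n8221 : Q := act 5 n6303
theorem D8221 : act 5 n6303 = n8221 := rfl
theorem F27538 : act 0 n8221 = n6307 := d4_1 D8221 (iv D6307) (iv F21356)
theorem F27539 : act 2 n8221 = n6305 := d15_1 D8221 (iv D6305) (iv F21357)
theorem F27540 : act 4 n8221 = n8221 := d22_1 D8221 (iv D8221) (iv D6303) F16558 D6303
def n8222 : Q := act 6 n6303
theorem D8222 : act 6 n6303 = n8222 := rfl
theorem F27541 : act 0 n8222 = n6308 := d5_1 D8222 (iv D6308) (iv F21356)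
theorem F27542 : act 2 n8222 = n6325 := d16_1 D8222 (iv D6325) F16603 (iv F16561) (iv F21357)
theorem F27543 : act 4 n8222 = n6304 := d23_1 D8222 (iv D6304) D6303
def n8223 : Q := act 7 n6304
theorem D8223 : act 7 n6304 = n8223 := rfl
theorem F27544 : act 0 n8223 = n6309 := d6_1 D8223 (iv D6309) (iv F21358)
theorem F27545 : act 2 n8223 = n6326 := d17_1 D8223 (iv D6326) (iv F21359)
theorem F27546 : act 5 n8223 = n8223 := d26_1 D8223 (iv D8223) F21360
def n8224 : Q := act 5 n6306
theorem D8224 : act 5 n6306 = n8224 := rfl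
def n8225 : Q := act 6 n6306
theorem D8225 : act 6 n6306 = n8225 := rfl
def n8226 : Q := act 6 n6307
theorem D8226 : act 6 n6307 = n8226 := rfl
theorem F27552 : act 2 n8226 = n6329 := d16_1 D8226 (iv D6329) F16617 (iv F16569) (iv F21367)
theorem F27554 : act 5 n8226 = n6308 := d25_1 D8226 (iv D6308) D6307
def n8227 : Q := act 7 n6308
theorem D8227 : act 7 n6308 = n8227 := rfl
theorem F27557 : act 4 n8227 = n6309 := d24_1 D8227 (iv D6309) (iv F21371)
def n8228 : Q := act 1 n6310
theorem D8228 : act 1 n6310 = n8228 := rfl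
theorem F27558 : act 0 n8228 = n8228 := d0_1 D8228 (iv D8228) F21375 F16574 (iv F21375)
theorem F27559 : act 2 n8228 = n6397 := d7_2 D6310 D8228 (iv D6397) (iv D4900) (iv F16571)
theorem F27560 : act 3 n8228 = n8228 := d8_2 F21376 D8228 (iv D8228)
theorem F27561 : act 5 n8228 = n6315 := d10_2 (iv F21377) D8228 (iv D6315)
theorem F27562 : act 7 n8228 = n8228 := d12_2 F21378 D8228 (iv D8228)
def n8229 : Q := act 4 n6310
theorem D8229 : act 4 n6310 = n8229 := rfl
theorem F27563 : act 0 n8229 = n6312 := d3_1 D8229 (iv D6312) (iv F21375)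
theorem F27564 : act 2 n8229 = n6311 := d14_1 D8229 (iv D6311) D6310
theorem F27565 : act 7 n8229 = n8229 := d24_2 F21378 D8229 (iv D8229)
def n8230 : Q := act 6 n6310
theorem D8230 : act 6 n6310 = n8230 := rfl
theorem F27566 : act 0 n8230 = n6313 := d5_1 D8230 (iv D6313) (iv F21375)
theorem F27567 : act 3 n8230 = n8230 := d20_1 D8230 (iv D8230) F21376
theorem F27568 : act 5 n8230 = n6317 := d25_1 D8230 (iv D6317) (iv F21377)
def n8231 : Q := act 5 n6311
theorem D8231 : act 5 n6311 = n8231 := rfl
theorem F27569 : act 0 n8231 = n6314 := d4_1 D8231 (iv D6314) (iv F21379)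
theorem F27570 : act 1 n8231 = n6400 := d10_1 D8231 (iv D6400) (iv F21380)
theorem F27571 : act 3 n8231 = n8231 := d19_1 D8231 (iv D8231) F21381
theorem F27572 : act 4 n8231 = n6318 := d22_1 D8231 (iv D6318) (iv D4839) (iv F16572) D6311
theorem F27573 : act 7 n8231 = n8231 := d26_2 F21382 D8231 (iv D8231)
def n8232 : Q := act 3 n6312
theorem D8232 : act 3 n6312 = n8232 := rfl
theorem F27574 : act 1 n8232 = n8232 := d8_1 D8232 (iv D8232) F21383
theorem F27575 : act 2 n8232 = n8232 := d13_1 D8232 (iv D8232) F21384 F16579 (iv F21384)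
theorem F27576 : act 4 n8232 = n8232 := d18_2 D6312 D8232 (iv D8232) (iv D6312) F16575
theorem F27577 : act 7 n8232 = n8232 := d21_2 F21385 D8232 (iv D8232)
def n8233 : Q := act 5 n6312
theorem D8233 : act 5 n6312 = n8233 := rfl
theorem F27578 : act 1 n8233 = n8233 := d10_1 D8233 (iv D8233) F21383
theorem F27579 : act 2 n8233 = n6314 := d15_1 D8233 (iv D6314) (iv F21384)
theorem F27580 : act 4 n8233 = n6320 := d22_1 D8233 (iv D6320) (iv D4840) (iv F16576) D6312
theorem F27581 : act 7 n8233 = n8233 := d26_2 F21385 D8233 (iv D8233)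
def n8234 : Q := act 6 n6312
theorem D8234 : act 6 n6312 = n8234 := rfl
theorem F27582 : act 1 n8234 = n8234 := d11_1 D8234 (iv D8234) F21383
theorem F27583 : act 4 n8234 = n6313 := d23_1 D8234 (iv D6313) D6312
def n8235 : Q := act 7 n6313
theorem D8235 : act 7 n6313 = n8235 := rfl
theorem F27584 : act 1 n8235 = n8235 := d12_1 D8235 (iv D8235) F21386
theorem F27585 : act 3 n8235 = n8235 := d21_1 D8235 (iv D8235) F21387
theorem F27586 : act 5 n8235 = n6322 := d26_1 D8235 (iv D6322) (iv F21388)
theorem F27587 : act 6 n8235 = n8235 := d27_1 D8235 (iv D8235) (iv D6313) F16577 D6313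
def n8236 : Q := act 4 n6315
theorem D8236 : act 4 n6315 = n8236 := rfl
theorem F27588 : act 0 n8236 = n8236 := d3_1 D8236 (iv D8236) F21393
theorem F27589 : act 1 n8236 = n6316 := d9_1 D8236 (iv D6316) D6315
theorem F27590 : act 2 n8236 = n6405 := d14_1 D8236 (iv D6405) (iv F21394)
theorem F27591 : act 7 n8236 = n8236 := d24_2 F21396 D8236 (iv D8236)
def n8237 : Q := act 6 n6315
theorem D8237 : act 6 n6315 = n8237 := rfl
theorem F27592 : act 0 n8237 = n8237 := d5_1 D8237 (iv D8237) F21393
theorem F27593 : act 1 n8237 = n6317 := d11_1 D8237 (iv D6317) D6315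
theorem F27594 : act 3 n8237 = n8237 := d20_1 D8237 (iv D8237) F21395
def n8238 : Q := act 3 n6316
theorem D8238 : act 3 n6316 = n8238 := rfl
theorem F27595 : act 0 n8238 = n6319 := d2_1 D8238 (iv D6319) (iv F21397)
theorem F27596 : act 2 n8238 = n6323 := d13_1 D8238 (iv D6323) F16603 (iv F16591) (iv F21398)
theorem F27597 : act 4 n8238 = n8238 := d18_2 D6316 D8238 (iv D8238) (iv D6316) F16587
theorem F27598 : act 7 n8238 = n8238 := d21_2 F21399 D8238 (iv D8238)
def n8239 : Q := act 5 n6316
theorem D8239 : act 5 n6316 = n8239 := rfl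
theorem F27599 : act 0 n8239 = n6320 := d4_1 D8239 (iv D6320) (iv F21397)
theorem F27600 : act 2 n8239 = n6318 := d15_1 D8239 (iv D6318) (iv F21398)
theorem F27601 : act 7 n8239 = n8239 := d26_2 F21399 D8239 (iv D8239)
def n8240 : Q := act 6 n6316
theorem D8240 : act 6 n6316 = n8240 := rfl
theorem F27602 : act 0 n8240 = n6321 := d5_1 D8240 (iv D6321) (iv F21397)
theorem F27603 : act 4 n8240 = n6317 := d23_1 D8240 (iv D6317) D6316
def n8241 : Q := act 7 n6317
theorem D8241 : act 7 n6317 = n8241 := rfl
theorem F27604 : act 0 n8241 = n6322 := d6_1 D8241 (iv D6322) (iv F21400)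
theorem F27605 : act 3 n8241 = n8241 := d21_1 D8241 (iv D8241) F21401
theorem F27606 : act 6 n8241 = n8241 := d27_1 D8241 (iv D8241) (iv D6317) F16588 D6317
def n8242 : Q := act 5 n6319
theorem D8242 : act 5 n6319 = n8242 := rfl
theorem F27609 : act 3 n8242 = n6320 := d19_1 D8242 (iv D6320) D6319
def n8243 : Q := act 6 n6319
theorem D8243 : act 6 n6319 = n8243 := rfl
theorem F27612 : act 3 n8243 = n6321 := d20_1 D8243 (iv D6321) D6319
def n8244 : Q := act 6 n6320
theorem D8244 : act 6 n6320 = n8244 := rfl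
theorem F27615 : act 5 n8244 = n6321 := d25_1 D8244 (iv D6321) D6320
def n8245 : Q := act 7 n6321
theorem D8245 : act 7 n6321 = n8245 := rfl
theorem F27617 : act 4 n8245 = n6322 := d24_1 D8245 (iv D6322) (iv F21414)
def n8246 : Q := act 5 n6323
theorem D8246 : act 5 n6323 = n8246 := rfl
theorem F27621 : act 3 n8246 = n6324 := d19_1 D8246 (iv D6324) D6323
def n8247 : Q := act 6 n6323
theorem D8247 : act 6 n6323 = n8247 := rfl
theorem F27625 : act 3 n8247 = n6325 := d20_1 D8247 (iv D6325) D6323
def n8248 : Q := act 6 n6324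
theorem D8248 : act 6 n6324 = n8248 := rfl
theorem F27630 : act 5 n8248 = n6325 := d25_1 D8248 (iv D6325) D6324
def n8249 : Q := act 7 n6325
theorem D8249 : act 7 n6325 = n8249 := rfl
theorem F27633 : act 4 n8249 = n6326 := d24_1 D8249 (iv D6326) (iv F21429)
def n8273 : Q := act 3 n6345
theorem D8273 : act 3 n6345 = n8273 := rfl
theorem F27716 : act 0 n8273 = n6346 := d2_1 D8273 (iv D6346) D6345
theorem F27717 : act 5 n8273 = n6355 := d19_2 (iv F21503) D8273 (iv D6355)
def n8274 : Q := act 2 n6346
theorem D8274 : act 2 n6346 = n8274 := rfl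
theorem F27722 : act 7 n8274 = n6349 := d17_2 (iv F21507) D8274 (iv D6349)
def n8277 : Q := act 2 n6348
theorem D8277 : act 2 n6348 = n8277 := rfl
theorem F27728 : act 0 n8277 = n6349 := d1_1 D8277 (iv D6349) (iv F21510)
theorem F27729 : act 3 n8277 = n6625 := d13_2 D6348 D8277 (iv D6625) (iv D5069) (iv F16669)
theorem F27730 : act 5 n8277 = n6359 := d15_2 (iv F21511) D8277 (iv D6359)
def n8278 : Q := act 4 n6348
theorem D8278 : act 4 n6348 = n8278 := rfl
def n8279 : Q := act 4 n6349
theorem D8279 : act 4 n6349 = n8279 := rfl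
def n8280 : Q := act 6 n6349
theorem D8280 : act 6 n6349 = n8280 := rfl
theorem F27735 : act 1 n8280 = n6371 := d11_1 D8280 (iv D6371) (iv F21513)
theorem F27737 : act 3 n8280 = n6628 := d20_1 D8280 (iv D6628) (iv F21514)
theorem F27738 : act 5 n8280 = n6362 := d25_1 D8280 (iv D6362) (iv F21515)
def n8286 : Q := act 2 n6355
theorem D8286 : act 2 n6355 = n8286 := rfl
theorem F27756 : act 0 n8286 = n6356 := d1_1 D8286 (iv D6356) (iv F21532)
theorem F27757 : act 3 n8286 = n6630 := d13_2 D6355 D8286 (iv D6630) (iv D5073) (iv F16684)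
theorem F27758 : act 7 n8286 = n6359 := d17_2 (iv F21533) D8286 (iv D6359)
def n8287 : Q := act 4 n6355
theorem D8287 : act 4 n6355 = n8287 := rfl
theorem F27761 : act 7 n8287 = n6360 := d24_2 (iv F21533) D8287 (iv D6360)
def n8288 : Q := act 4 n6356
theorem D8288 : act 4 n6356 = n8288 := rfl
theorem F27762 : act 1 n8288 = n6375 := d9_1 D8288 (iv D6375) (iv F21534)
theorem F27763 : act 2 n8288 = n6357 := d14_1 D8288 (iv D6357) D6356
theorem F27764 : act 7 n8288 = n6361 := d24_2 (iv F21536) D8288 (iv D6361)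
def n8290 : Q := act 5 n6357
theorem D8290 : act 5 n6357 = n8290 := rfl
theorem F27769 : act 7 n8290 = n6363 := d26_2 (iv F21539) D8290 (iv D6363)
def n8291 : Q := act 1 n6359
theorem D8291 : act 1 n6359 = n8291 := rfl
theorem F27770 : act 0 n8291 = n6378 := d0_1 D8291 (iv D6378) F16737 (iv F16694) (iv F21543)
theorem F27771 : act 3 n8291 = n6635 := d8_2 (iv F21544) D8291 (iv D6635)
def n8292 : Q := act 4 n6359
theorem D8292 : act 4 n6359 = n8292 := rfl
theorem F27772 : act 0 n8292 = n6361 := d3_1 D8292 (iv D6361) (iv F21543)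
theorem F27773 : act 2 n8292 = n6360 := d14_1 D8292 (iv D6360) D6359
def n8293 : Q := act 6 n6359
theorem D8293 : act 6 n6359 = n8293 := rfl
theorem F27774 : act 0 n8293 = n6362 := d5_1 D8293 (iv D6362) (iv F21543)
theorem F27775 : act 2 n8293 = n8293 := d16_1 D8293 (iv D8293) (iv D6359) F16693 D6359
theorem F27776 : act 3 n8293 = n6637 := d20_1 D8293 (iv D6637) (iv F21544)
def n8294 : Q := act 5 n6360
theorem D8294 : act 5 n6360 = n8294 := rfl
theorem F27777 : act 0 n8294 = n6363 := d4_1 D8294 (iv D6363) (iv F21545)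
theorem F27778 : act 3 n8294 = n8294 := d19_1 D8294 (iv D8294) F21546
theorem F27779 : act 6 n8294 = n8294 := d25_2 F21547 D8294 (iv D8294)
def n8295 : Q := act 3 n6361
theorem D8295 : act 3 n6361 = n8295 := rfl
theorem F27780 : act 1 n8295 = n6382 := d8_1 D8295 (iv D6382) (iv F21548)
theorem F27781 : act 2 n8295 = n8295 := d13_1 D8295 (iv D8295) F21549 F16697 (iv F21549)
theorem F27782 : act 4 n8295 = n6639 := d18_2 D6361 D8295 (iv D6639) (iv D5079) (iv F16695)
def n8296 : Q := act 5 n6361
theorem D8296 : act 5 n6361 = n8296 := rfl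
theorem F27783 : act 1 n8296 = n6383 := d10_1 D8296 (iv D6383) (iv F21548)
theorem F27784 : act 2 n8296 = n6363 := d15_1 D8296 (iv D6363) (iv F21549)
def n8297 : Q := act 6 n6361
theorem D8297 : act 6 n6361 = n8297 := rfl
theorem F27785 : act 1 n8297 = n6384 := d11_1 D8297 (iv D6384) (iv F21548)
theorem F27786 : act 2 n8297 = n8297 := d16_1 D8297 (iv D8297) F21549 F16698 (iv F21549)
theorem F27787 : act 4 n8297 = n6362 := d23_1 D8297 (iv D6362) D6361
def n8298 : Q := act 7 n6362
theorem D8298 : act 7 n6362 = n8298 := rfl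
theorem F27788 : act 1 n8298 = n6385 := d12_1 D8298 (iv D6385) (iv F21550)
theorem F27789 : act 2 n8298 = n8298 := d17_1 D8298 (iv D8298) F21551
theorem F27790 : act 3 n8298 = n6642 := d21_1 D8298 (iv D6642) (iv F21552)
def n8299 : Q := act 2 n6364
theorem D8299 : act 2 n6364 = n8299 := rfl
theorem F27791 : act 0 n8299 = n6365 := d1_1 D8299 (iv D6365) (iv F21556)
theorem F27792 : act 3 n8299 = n6643 := d13_2 D6364 D8299 (iv D6643) (iv D5082) (iv F16702)
theorem F27793 : act 5 n8299 = n6373 := d15_2 (iv F21557) D8299 (iv D6373)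
theorem F27794 : act 7 n8299 = n6368 := d17_2 (iv F21559) D8299 (iv D6368)
def n8300 : Q := act 4 n6364
theorem D8300 : act 4 n6364 = n8300 := rfl
theorem F27798 : act 7 n8300 = n6369 := d24_2 (iv F21559) D8300 (iv D6369)
def n8301 : Q := act 4 n6365
theorem D8301 : act 4 n6365 = n8301 := rfl
theorem F27799 : act 2 n8301 = n6366 := d14_1 D8301 (iv D6366) D6365
theorem F27800 : act 7 n8301 = n6370 := d24_2 (iv F21562) D8301 (iv D6370)
def n8303 : Q := act 5 n6366
theorem D8303 : act 5 n6366 = n8303 := rfl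
theorem F27804 : act 1 n8303 = n6367 := d10_1 D8303 (iv D6367) (iv F21563)
theorem F27808 : act 7 n8303 = n6372 := d26_2 (iv F21566) D8303 (iv D6372)
def n8304 : Q := act 1 n6368
theorem D8304 : act 1 n6368 = n8304 := rfl
theorem F27809 : act 3 n8304 = n6648 := d8_2 (iv F21572) D8304 (iv D6648)
theorem F27810 : act 5 n8304 = n6378 := d10_2 (iv F21573) D8304 (iv D6378)
def n8305 : Q := act 4 n6368
theorem D8305 : act 4 n6368 = n8305 := rfl
theorem F27811 : act 0 n8305 = n6370 := d3_1 D8305 (iv D6370) (iv F21571)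
theorem F27812 : act 2 n8305 = n6369 := d14_1 D8305 (iv D6369) D6368
def n8306 : Q := act 6 n6368
theorem D8306 : act 6 n6368 = n8306 := rfl
theorem F27813 : act 0 n8306 = n6371 := d5_1 D8306 (iv D6371) (iv F21571)
theorem F27814 : act 2 n8306 = n6399 := d16_1 D8306 (iv D6399) (iv D4900) (iv F16716) D6368
theorem F27815 : act 3 n8306 = n6650 := d20_1 D8306 (iv D6650) (iv F21572)
theorem F27816 : act 5 n8306 = n6380 := d25_1 D8306 (iv D6380) (iv F21573)
def n8307 : Q := act 5 n6369
theorem D8307 : act 5 n6369 = n8307 := rfl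
theorem F27817 : act 0 n8307 = n6372 := d4_1 D8307 (iv D6372) (iv F21574)
theorem F27818 : act 3 n8307 = n8307 := d19_1 D8307 (iv D8307) F21575
theorem F27819 : act 4 n8307 = n6381 := d22_1 D8307 (iv D6381) (iv D4886) (iv F16715) D6369
theorem F27820 : act 6 n8307 = n6400 := d25_2 (iv F21576) D8307 (iv D6400)
def n8308 : Q := act 3 n6370
theorem D8308 : act 3 n6370 = n8308 := rfl
theorem F27821 : act 2 n8308 = n8308 := d13_1 D8308 (iv D8308) F21577 F16720 (iv F21577)
theorem F27822 : act 4 n8308 = n6652 := d18_2 D6370 D8308 (iv D6652) (iv D5088) (iv F16717)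
def n8309 : Q := act 5 n6370
theorem D8309 : act 5 n6370 = n8309 := rfl
theorem F27823 : act 2 n8309 = n6372 := d15_1 D8309 (iv D6372) (iv F21577)
theorem F27824 : act 4 n8309 = n6383 := d22_1 D8309 (iv D6383) (iv D4887) (iv F16718) D6370
def n8310 : Q := act 6 n6370
theorem D8310 : act 6 n6370 = n8310 := rfl
theorem F27825 : act 2 n8310 = n6403 := d16_1 D8310 (iv D6403) F16792 (iv F16721) (iv F21577)
theorem F27826 : act 4 n8310 = n6371 := d23_1 D8310 (iv D6371) D6370
def n8311 : Q := act 7 n6371
theorem D8311 : act 7 n6371 = n8311 := rfl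
theorem F27827 : act 2 n8311 = n6404 := d17_1 D8311 (iv D6404) (iv F21578)
theorem F27829 : act 5 n8311 = n6385 := d26_1 D8311 (iv D6385) (iv F21580)
def n8312 : Q := act 1 n6373
theorem D8312 : act 1 n6373 = n8312 := rfl
theorem F27830 : act 3 n8312 = n6656 := d8_2 (iv F21586) D8312 (iv D6656)
theorem F27831 : act 7 n8312 = n6378 := d12_2 (iv F21587) D8312 (iv D6378)
def n8313 : Q := act 4 n6373
theorem D8313 : act 4 n6373 = n8313 := rfl
theorem F27832 : act 0 n8313 = n6375 := d3_1 D8313 (iv D6375) (iv F21585)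
theorem F27833 : act 2 n8313 = n6374 := d14_1 D8313 (iv D6374) D6373
theorem F27834 : act 7 n8313 = n6379 := d24_2 (iv F21587) D8313 (iv D6379)
def n8314 : Q := act 6 n6373
theorem D8314 : act 6 n6373 = n8314 := rfl
theorem F27835 : act 0 n8314 = n6376 := d5_1 D8314 (iv D6376) (iv F21585)
theorem F27836 : act 2 n8314 = n8314 := d16_1 D8314 (iv D8314) (iv D6373) F16726 D6373
theorem F27837 : act 3 n8314 = n6658 := d20_1 D8314 (iv D6658) (iv F21586)
def n8315 : Q := act 5 n6374
theorem D8315 : act 5 n6374 = n8315 := rfl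
theorem F27838 : act 0 n8315 = n6377 := d4_1 D8315 (iv D6377) (iv F21588)
theorem F27839 : act 3 n8315 = n6389 := d19_1 D8315 (iv D6389) (iv F21589)
theorem F27840 : act 6 n8315 = n8315 := d25_2 F21590 D8315 (iv D8315)
theorem F27841 : act 7 n8315 = n6381 := d26_2 (iv F21591) D8315 (iv D6381)
def n8316 : Q := act 3 n6375
theorem D8316 : act 3 n6375 = n8316 := rfl
theorem F27842 : act 2 n8316 = n6390 := d13_1 D8316 (iv D6390) F16756 (iv F16731) (iv F21592)
theorem F27843 : act 4 n8316 = n6660 := d18_2 D6375 D8316 (iv D6660) (iv D5093) (iv F16728)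
theorem F27844 : act 7 n8316 = n6382 := d21_2 (iv F21593) D8316 (iv D6382)
def n8317 : Q := act 5 n6375
theorem D8317 : act 5 n6375 = n8317 := rfl
theorem F27845 : act 2 n8317 = n6377 := d15_1 D8317 (iv D6377) (iv F21592)
theorem F27846 : act 7 n8317 = n6383 := d26_2 (iv F21593) D8317 (iv D6383)
def n8318 : Q := act 6 n6375
theorem D8318 : act 6 n6375 = n8318 := rfl
theorem F27847 : act 2 n8318 = n8318 := d16_1 D8318 (iv D8318) F21592 F16732 (iv F21592)
theorem F27848 : act 4 n8318 = n6376 := d23_1 D8318 (iv D6376) D6375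
def n8319 : Q := act 7 n6376
theorem D8319 : act 7 n6376 = n8319 := rfl
theorem F27849 : act 2 n8319 = n8319 := d17_1 D8319 (iv D8319) F21594
theorem F27850 : act 3 n8319 = n6663 := d21_1 D8319 (iv D6663) (iv F21595)
theorem F27851 : act 6 n8319 = n6385 := d27_1 D8319 (iv D6385) (iv D4888) (iv F16729) D6376
def n8320 : Q := act 4 n6378
theorem D8320 : act 4 n6378 = n8320 := rfl
theorem F27852 : act 1 n8320 = n6379 := d9_1 D8320 (iv D6379) D6378
def n8321 : Q := act 6 n6378
theorem D8321 : act 6 n6378 = n8321 := rfl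
theorem F27853 : act 1 n8321 = n6380 := d11_1 D8321 (iv D6380) D6378
theorem F27854 : act 3 n8321 = n6665 := d20_1 D8321 (iv D6665) (iv F21600)
def n8322 : Q := act 3 n6379
theorem D8322 : act 3 n6379 = n8322 := rfl
theorem F27855 : act 0 n8322 = n6382 := d2_1 D8322 (iv D6382) (iv F21601)
theorem F27856 : act 2 n8322 = n6394 := d13_1 D8322 (iv D6394) F16772 (iv F16740) (iv F21602)
theorem F27857 : act 4 n8322 = n6666 := d18_2 D6379 D8322 (iv D6666) (iv D5097) (iv F16738)
def n8323 : Q := act 5 n6379
theorem D8323 : act 5 n6379 = n8323 := rfl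
theorem F27858 : act 0 n8323 = n6383 := d4_1 D8323 (iv D6383) (iv F21601)
theorem F27859 : act 2 n8323 = n6381 := d15_1 D8323 (iv D6381) (iv F21602)
def n8324 : Q := act 6 n6379
theorem D8324 : act 6 n6379 = n8324 := rfl
theorem F27860 : act 0 n8324 = n6384 := d5_1 D8324 (iv D6384) (iv F21601)
theorem F27861 : act 2 n8324 = n6408 := d16_1 D8324 (iv D6408) F16805 (iv F16741) (iv F21602)
theorem F27862 : act 4 n8324 = n6380 := d23_1 D8324 (iv D6380) D6379
def n8325 : Q := act 7 n6380
theorem D8325 : act 7 n6380 = n8325 := rfl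
theorem F27863 : act 0 n8325 = n6385 := d6_1 D8325 (iv D6385) (iv F21603)
theorem F27864 : act 2 n8325 = n6409 := d17_1 D8325 (iv D6409) (iv F21604)
theorem F27865 : act 3 n8325 = n6669 := d21_1 D8325 (iv D6669) (iv F21605)
def n8326 : Q := act 5 n6382
theorem D8326 : act 5 n6382 = n8326 := rfl
theorem F27866 : act 2 n8326 = n6396 := d15_1 D8326 (iv D6396) (iv F21609)
theorem F27867 : act 3 n8326 = n6383 := d19_1 D8326 (iv D6383) D6382
def n8327 : Q := act 6 n6382
theorem D8327 : act 6 n6382 = n8327 := rfl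
theorem F27868 : act 2 n8327 = n8327 := d16_1 D8327 (iv D8327) F21609 F16779 (iv F21609)
theorem F27869 : act 3 n8327 = n6384 := d20_1 D8327 (iv D6384) D6382
theorem F27870 : act 4 n8327 = n6671 := d23_1 D8327 (iv D6671) (iv F21610)
def n8328 : Q := act 6 n6383
theorem D8328 : act 6 n6383 = n8328 := rfl
theorem F27871 : act 2 n8328 = n6410 := d16_1 D8328 (iv D6410) F16814 (iv F16747) (iv F21611)
theorem F27872 : act 5 n8328 = n6384 := d25_1 D8328 (iv D6384) D6383
def n8329 : Q := act 7 n6384
theorem D8329 : act 7 n6384 = n8329 := rfl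
theorem F27873 : act 2 n8329 = n6411 := d17_1 D8329 (iv D6411) (iv F21612)
theorem F27874 : act 4 n8329 = n6385 := d24_1 D8329 (iv D6385) (iv F21613)
def n8330 : Q := act 4 n6386
theorem D8330 : act 4 n6386 = n8330 := rfl
theorem F27875 : act 0 n8330 = n8330 := d3_1 D8330 (iv D8330) F21616
theorem F27876 : act 1 n8330 = n6387 := d9_1 D8330 (iv D6387) D6386
theorem F27877 : act 7 n8330 = n6393 := d24_2 (iv F21619) D8330 (iv D6393)
def n8331 : Q := act 6 n6386
theorem D8331 : act 6 n6386 = n8331 := rfl
theorem F27878 : act 0 n8331 = n8331 := d5_1 D8331 (iv D8331) F21616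
theorem F27879 : act 1 n8331 = n6388 := d11_1 D8331 (iv D6388) D6386
theorem F27880 : act 3 n8331 = n6675 := d20_1 D8331 (iv D6675) (iv F21617)
theorem F27881 : act 5 n8331 = n8331 := d25_1 D8331 (iv D8331) F21618
theorem F27882 : act 7 n8331 = n8331 := d27_2 (iv F21619) D8331 (iv D8331) F21619 F16770
def n8332 : Q := act 3 n6387
theorem D8332 : act 3 n6387 = n8332 := rfl
theorem F27883 : act 0 n8332 = n6390 := d2_1 D8332 (iv D6390) (iv F21620)
theorem F27884 : act 4 n8332 = n6676 := d18_2 D6387 D8332 (iv D6676) (iv D5105) (iv F16749)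
theorem F27885 : act 7 n8332 = n6394 := d21_2 (iv F21622) D8332 (iv D6394)
def n8333 : Q := act 5 n6387
theorem D8333 : act 5 n6387 = n8333 := rfl
theorem F27886 : act 0 n8333 = n6391 := d4_1 D8333 (iv D6391) (iv F21620)
theorem F27887 : act 2 n8333 = n6389 := d15_1 D8333 (iv D6389) (iv F21621)
theorem F27888 : act 4 n8333 = n8333 := d22_1 D8333 (iv D8333) (iv D6387) F16750 D6387
theorem F27889 : act 7 n8333 = n6395 := d26_2 (iv F21622) D8333 (iv D6395)
def n8334 : Q := act 6 n6387
theorem D8334 : act 6 n6387 = n8334 := rfl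
theorem F27890 : act 0 n8334 = n6392 := d5_1 D8334 (iv D6392) (iv F21620)
theorem F27891 : act 2 n8334 = n8334 := d16_1 D8334 (iv D8334) F21621 F16753 (iv F21621)
theorem F27892 : act 4 n8334 = n6388 := d23_1 D8334 (iv D6388) D6387
theorem F27893 : act 7 n8334 = n8334 := d27_2 (iv F21622) D8334 (iv D8334) F21622 F16773
def n8335 : Q := act 5 n6390
theorem D8335 : act 5 n6390 = n8335 := rfl
theorem F27895 : act 3 n8335 = n6391 := d19_1 D8335 (iv D6391) D6390
theorem F27896 : act 7 n8335 = n6396 := d26_2 (iv F21634) D8335 (iv D6396)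
def n8336 : Q := act 6 n6390
theorem D8336 : act 6 n6390 = n8336 := rfl
theorem F27898 : act 3 n8336 = n6392 := d20_1 D8336 (iv D6392) D6390
def n8337 : Q := act 6 n6391
theorem D8337 : act 6 n6391 = n8337 := rfl
def n8338 : Q := act 3 n6393
theorem D8338 : act 3 n6393 = n8338 := rfl
theorem F27906 : act 0 n8338 = n8338 := d2_1 D8338 (iv D8338) F21643
theorem F27907 : act 1 n8338 = n6394 := d8_1 D8338 (iv D6394) (iv F21644)
theorem F27908 : act 4 n8338 = n6682 := d18_2 D6393 D8338 (iv D6682) (iv D5111) (iv F16768)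
theorem F27909 : act 6 n8338 = n8338 := d20_2 F21645 D8338 (iv D8338)
def n8339 : Q := act 5 n6393
theorem D8339 : act 5 n6393 = n8339 := rfl
theorem F27910 : act 0 n8339 = n8339 := d4_1 D8339 (iv D8339) F21643
theorem F27911 : act 1 n8339 = n6395 := d10_1 D8339 (iv D6395) (iv F21644)
theorem F27912 : act 4 n8339 = n8339 := d22_1 D8339 (iv D8339) (iv D6393) F16769 D6393
theorem F27913 : act 6 n8339 = n8339 := d25_2 F21645 D8339 (iv D8339)
def n8340 : Q := act 5 n6394
theorem D8340 : act 5 n6394 = n8340 := rfl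
theorem F27914 : act 0 n8340 = n6396 := d4_1 D8340 (iv D6396) (iv F21646)
theorem F27915 : act 3 n8340 = n6395 := d19_1 D8340 (iv D6395) D6394
theorem F27916 : act 6 n8340 = n8340 := d25_2 F21648 D8340 (iv D8340)
def n8342 : Q := act 4 n6397
theorem D8342 : act 4 n6397 = n8342 := rfl
theorem F27921 : act 0 n8342 = n8342 := d3_1 D8342 (iv D8342) F21656
theorem F27922 : act 1 n8342 = n6398 := d9_1 D8342 (iv D6398) D6397
theorem F27923 : act 7 n8342 = n8342 := d24_2 F21659 D8342 (iv D8342)
def n8343 : Q := act 6 n6397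
theorem D8343 : act 6 n6397 = n8343 := rfl
theorem F27924 : act 0 n8343 = n8343 := d5_1 D8343 (iv D8343) F21656
theorem F27925 : act 1 n8343 = n6399 := d11_1 D8343 (iv D6399) D6397
theorem F27926 : act 3 n8343 = n6413 := d20_1 D8343 (iv D6413) (iv F21657)
theorem F27927 : act 5 n8343 = n6406 := d25_1 D8343 (iv D6406) (iv F21658)
def n8344 : Q := act 3 n6398
theorem D8344 : act 3 n6398 = n8344 := rfl
theorem F27928 : act 0 n8344 = n6401 := d2_1 D8344 (iv D6401) (iv F21660)
theorem F27929 : act 2 n8344 = n8344 := d13_1 D8344 (iv D8344) F21661 F16789 (iv F21661)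
theorem F27930 : act 4 n8344 = n6414 := d18_2 D6398 D8344 (iv D6414) (iv D4913) (iv F16785)
theorem F27931 : act 7 n8344 = n8344 := d21_2 F21662 D8344 (iv D8344)
def n8345 : Q := act 5 n6398
theorem D8345 : act 5 n6398 = n8345 := rfl
theorem F27932 : act 0 n8345 = n6402 := d4_1 D8345 (iv D6402) (iv F21660)
theorem F27933 : act 2 n8345 = n6400 := d15_1 D8345 (iv D6400) (iv F21661)
theorem F27934 : act 4 n8345 = n6407 := d22_1 D8345 (iv D6407) (iv D4906) (iv F16786) D6398
theorem F27935 : act 7 n8345 = n8345 := d26_2 F21662 D8345 (iv D8345)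
def n8346 : Q := act 6 n6398
theorem D8346 : act 6 n6398 = n8346 := rfl
theorem F27936 : act 0 n8346 = n6403 := d5_1 D8346 (iv D6403) (iv F21660)
theorem F27937 : act 4 n8346 = n6399 := d23_1 D8346 (iv D6399) D6398
def n8347 : Q := act 7 n6399
theorem D8347 : act 7 n6399 = n8347 := rfl
theorem F27938 : act 0 n8347 = n6404 := d6_1 D8347 (iv D6404) (iv F21663)
theorem F27939 : act 3 n8347 = n6416 := d21_1 D8347 (iv D6416) (iv F21664)
theorem F27940 : act 5 n8347 = n6409 := d26_1 D8347 (iv D6409) (iv F21665)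
theorem F27941 : act 6 n8347 = n8347 := d27_1 D8347 (iv D8347) (iv D6399) F16787 D6399
def n8348 : Q := act 5 n6401
theorem D8348 : act 5 n6401 = n8348 := rfl
theorem F27942 : act 1 n8348 = n8348 := d10_1 D8348 (iv D8348) F21670
theorem F27943 : act 2 n8348 = n8348 := d15_1 D8348 (iv D8348) F21671
theorem F27944 : act 3 n8348 = n6402 := d19_1 D8348 (iv D6402) D6401
theorem F27945 : act 4 n8348 = n8348 := d22_1 D8348 (iv D8348) F21672 F16836 (iv F21672)
theorem F27946 : act 7 n8348 = n8348 := d26_2 F21673 D8348 (iv D8348)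
def n8349 : Q := act 6 n6401
theorem D8349 : act 6 n6401 = n8349 := rfl
theorem F27948 : act 3 n8349 = n6403 := d20_1 D8349 (iv D6403) D6401
theorem F27949 : act 4 n8349 = n6417 := d23_1 D8349 (iv D6417) (iv F21672)
def n8350 : Q := act 6 n6402
theorem D8350 : act 6 n6402 = n8350 := rfl
theorem F27950 : act 1 n8350 = n8350 := d11_1 D8350 (iv D8350) F21674
theorem F27951 : act 4 n8350 = n6410 := d23_1 D8350 (iv D6410) (iv F21676)
theorem F27952 : act 5 n8350 = n6403 := d25_1 D8350 (iv D6403) D6402
def n8351 : Q := act 7 n6403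
theorem D8351 : act 7 n6403 = n8351 := rfl
theorem F27953 : act 1 n8351 = n8351 := d12_1 D8351 (iv D8351) F21678
theorem F27954 : act 4 n8351 = n6404 := d24_1 D8351 (iv D6404) (iv F21679)
theorem F27955 : act 6 n8351 = n8351 := d27_1 D8351 (iv D8351) (iv D6403) F16793 D6403
def n8352 : Q := act 5 n6405
theorem D8352 : act 5 n6405 = n8352 := rfl
theorem F27956 : act 0 n8352 = n8352 := d4_1 D8352 (iv D8352) F21684
theorem F27957 : act 1 n8352 = n6407 := d10_1 D8352 (iv D6407) (iv F21685)
theorem F27958 : act 3 n8352 = n8352 := d19_1 D8352 (iv D8352) F21686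
theorem F27959 : act 7 n8352 = n8352 := d26_2 F21687 D8352 (iv D8352)
def n8353 : Q := act 6 n6405
theorem D8353 : act 6 n6405 = n8353 := rfl
theorem F27960 : act 0 n8353 = n8353 := d5_1 D8353 (iv D8353) F21684
theorem F27961 : act 1 n8353 = n6408 := d11_1 D8353 (iv D6408) (iv F21685)
theorem F27962 : act 3 n8353 = n8353 := d20_1 D8353 (iv D8353) F21686
theorem F27963 : act 4 n8353 = n6406 := d23_1 D8353 (iv D6406) D6405
def n8354 : Q := act 2 n6406
theorem D8354 : act 2 n6406 = n8354 := rfl
theorem F27964 : act 0 n8354 = n8354 := d1_1 D8354 (iv D8354) F21688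
def n8355 : Q := act 7 n6406
theorem D8355 : act 7 n6406 = n8355 := rfl
theorem F27965 : act 0 n8355 = n8355 := d6_1 D8355 (iv D8355) F21688
theorem F27966 : act 1 n8355 = n6409 := d12_1 D8355 (iv D6409) (iv F21689)
theorem F27967 : act 3 n8355 = n6420 := d21_1 D8355 (iv D6420) (iv F21690)
theorem F27968 : act 6 n8355 = n8355 := d27_1 D8355 (iv D8355) (iv D6406) F16803 D6406
def n8356 : Q := act 6 n6407
theorem D8356 : act 6 n6407 = n8356 := rfl
theorem F27969 : act 0 n8356 = n6410 := d5_1 D8356 (iv D6410) (iv F21691)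
theorem F27970 : act 3 n8356 = n8356 := d20_1 D8356 (iv D8356) F21693
theorem F27971 : act 5 n8356 = n6408 := d25_1 D8356 (iv D6408) D6407
def n8357 : Q := act 7 n6408
theorem D8357 : act 7 n6408 = n8357 := rfl
theorem F27972 : act 0 n8357 = n6411 := d6_1 D8357 (iv D6411) (iv F21695)
theorem F27973 : act 3 n8357 = n8357 := d21_1 D8357 (iv D8357) F21696
theorem F27974 : act 4 n8357 = n6409 := d24_1 D8357 (iv D6409) (iv F21697)
theorem F27975 : act 6 n8357 = n8357 := d27_1 D8357 (iv D8357) (iv D6408) F16807 D6408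
def n8358 : Q := act 7 n6410
theorem D8358 : act 7 n6410 = n8358 := rfl
theorem F27976 : act 1 n8358 = n8358 := d12_1 D8358 (iv D8358) F21701
theorem F27977 : act 3 n8358 = n8358 := d21_1 D8358 (iv D8358) F21702
theorem F27978 : act 5 n8358 = n6411 := d26_1 D8358 (iv D6411) (iv F21703)
theorem F27979 : act 6 n8358 = n8358 := d27_1 D8358 (iv D8358) (iv D6410) F16816 D6410
def n8359 : Q := act 3 n6412
theorem D8359 : act 3 n6412 = n8359 := rfl
theorem F27980 : act 0 n8359 = n8359 := d2_1 D8359 (iv D8359) F21708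
theorem F27981 : act 1 n8359 = n6414 := d8_1 D8359 (iv D6414) (iv F21709)
theorem F27982 : act 5 n8359 = n8359 := d19_2 F21711 D8359 (iv D8359)
theorem F27983 : act 7 n8359 = n8359 := d21_2 F21712 D8359 (iv D8359)
def n8360 : Q := act 6 n6412
theorem D8360 : act 6 n6412 = n8360 := rfl
theorem F27985 : act 1 n8360 = n6415 := d11_1 D8360 (iv D6415) (iv F21709)
theorem F27986 : act 4 n8360 = n6413 := d23_1 D8360 (iv D6413) D6412
def n8361 : Q := act 2 n6413
theorem D8361 : act 2 n6413 = n8361 := rfl
theorem F27989 : act 1 n8361 = n6705 := d7_1 D8361 (iv D6705) F17499 (iv F16832) (iv F21714)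
theorem F27990 : act 5 n8361 = n6419 := d15_2 (iv F21715) D8361 (iv D6419)
def n8362 : Q := act 7 n6413
theorem D8362 : act 7 n6413 = n8362 := rfl
theorem F27992 : act 0 n8362 = n8362 := d6_1 D8362 (iv D8362) F21713
theorem F27993 : act 1 n8362 = n6416 := d12_1 D8362 (iv D6416) (iv F21714)
theorem F27994 : act 5 n8362 = n6420 := d26_1 D8362 (iv D6420) (iv F21715)
theorem F27995 : act 6 n8362 = n8362 := d27_1 D8362 (iv D8362) (iv D6413) F16826 D6413
def n8363 : Q := act 6 n6414
theorem D8363 : act 6 n6414 = n8363 := rfl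
theorem F27997 : act 3 n8363 = n6415 := d20_1 D8363 (iv D6415) D6414
def n8364 : Q := act 7 n6415
theorem D8364 : act 7 n6415 = n8364 := rfl
theorem F28000 : act 2 n8364 = n6708 := d17_1 D8364 (iv D6708) (iv F21721)
theorem F28001 : act 4 n8364 = n6416 := d24_1 D8364 (iv D6416) (iv F21722)
theorem F28003 : act 6 n8364 = n8364 := d27_1 D8364 (iv D8364) (iv D6415) F16830 D6415
def n8365 : Q := act 2 n6417
theorem D8365 : act 2 n6417 = n8365 := rfl
theorem F28004 : act 3 n8365 = n6709 := d13_2 (iv F21729) D8365 (iv D6709) F17512 (iv F16839)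
def n8366 : Q := act 7 n6417
theorem D8366 : act 7 n6417 = n8366 := rfl
theorem F28010 : act 6 n8366 = n8366 := d27_1 D8366 (iv D8366) (iv D6417) F16837 D6417
def n8367 : Q := act 3 n6419
theorem D8367 : act 3 n6419 = n8367 := rfl
theorem F28011 : act 0 n8367 = n8367 := d2_1 D8367 (iv D8367) F21736
theorem F28013 : act 6 n8367 = n8367 := d20_2 F21739 D8367 (iv D8367)
def n8368 : Q := act 7 n6419
theorem D8368 : act 7 n6419 = n8368 := rfl
theorem F28014 : act 0 n8368 = n8368 := d6_1 D8368 (iv D8368) F21736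
theorem F28016 : act 2 n8368 = n6420 := d17_1 D8368 (iv D6420) D6419
theorem F28017 : act 4 n8368 = n8368 := d24_1 D8368 (iv D8368) F21738
def n8386 : Q := act 0 n6432
theorem D8386 : act 0 n6432 = n8386 := rfl
theorem F28075 : act 2 n8386 = n6722 := d1_2 (iv F21781) D8386 (iv D6722)
theorem F28077 : act 6 n8386 = n6455 := d5_2 (iv F21783) D8386 (iv D6455)
def n8397 : Q := act 3 n6440
theorem D8397 : act 3 n6440 = n8397 := rfl
theorem F28108 : act 6 n8397 = n6466 := d20_2 (iv F21808) D8397 (iv D6466)
def n8398 : Q := act 2 n6441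
theorem D8398 : act 2 n6441 = n8398 := rfl
theorem F28110 : act 3 n8398 = n6729 := d13_2 D6441 D8398 (iv D6729) (iv D5150) (iv F16897)
def n8399 : Q := act 4 n6441
theorem D8399 : act 4 n6441 = n8399 := rfl
theorem F28113 : act 6 n8399 = n6468 := d23_2 (iv F21810) D8399 (iv D6468)
def n8404 : Q := act 2 n6445
theorem D8404 : act 2 n6445 = n8404 := rfl
theorem F28128 : act 4 n8404 = n6452 := d14_2 (iv F21822) D8404 (iv D6452)
theorem F28130 : act 6 n8404 = n6446 := d16_2 D6445 D8404 (iv D6446) (iv D4937) (iv F16906)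
def n8405 : Q := act 1 n6446
theorem D8405 : act 1 n6446 = n8405 := rfl
theorem F28131 : act 2 n8405 = n6521 := d7_2 D6446 D8405 (iv D6521) (iv D4991) (iv F16909)
def n8412 : Q := act 2 n6451
theorem D8412 : act 2 n6451 = n8412 := rfl
theorem F28151 : act 5 n8412 = n6460 := d15_2 (iv F21840) D8412 (iv D6460)
theorem F28152 : act 6 n8412 = n6472 := d16_2 D6451 D8412 (iv D6472) (iv D4956) (iv F16919)
def n8413 : Q := act 1 n6452
theorem D8413 : act 1 n6452 = n8413 := rfl
theorem F28154 : act 5 n8413 = n6461 := d10_2 (iv F21841) D8413 (iv D6461)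
theorem F28155 : act 6 n8413 = n6453 := d11_2 (iv F21842) D8413 (iv D6453)
def n8414 : Q := act 3 n6452
theorem D8414 : act 3 n6452 = n8414 := rfl
theorem F28156 : act 5 n8414 = n6462 := d19_2 (iv F21841) D8414 (iv D6462)
theorem F28157 : act 6 n8414 = n6454 := d20_2 (iv F21842) D8414 (iv D6454)
def n8415 : Q := act 0 n6453
theorem D8415 : act 0 n6453 = n8415 := rfl
theorem F28158 : act 2 n8415 = n6526 := d1_2 (iv F21843) D8415 (iv D6526)
theorem F28160 : act 7 n8415 = n6455 := d6_2 (iv F21845) D8415 (iv D6455)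
def n8416 : Q := act 3 n6453
theorem D8416 : act 3 n6453 = n8416 := rfl
theorem F28161 : act 1 n8416 = n6454 := d8_1 D8416 (iv D6454) D6453
theorem F28162 : act 5 n8416 = n6464 := d19_2 (iv F21844) D8416 (iv D6464)
theorem F28163 : act 7 n8416 = n6456 := d21_2 (iv F21845) D8416 (iv D6456)
def n8417 : Q := act 4 n6454
theorem D8417 : act 4 n6454 = n8417 := rfl
theorem F28164 : act 2 n8417 = n6477 := d14_1 D8417 (iv D6477) (iv F21846)
def n8418 : Q := act 3 n6455
theorem D8418 : act 3 n6455 = n8418 := rfl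
theorem F28166 : act 0 n8418 = n6456 := d2_1 D8418 (iv D6456) D6455
theorem F28167 : act 5 n8418 = n6466 := d19_2 (iv F21850) D8418 (iv D6466)
def n8419 : Q := act 2 n6456
theorem D8419 : act 2 n6456 = n8419 := rfl
theorem F28168 : act 1 n8419 = n6479 := d7_1 D8419 (iv D6479) F16976 (iv F16928) (iv F21851)
theorem F28169 : act 3 n8419 = n6530 := d13_2 D6456 D8419 (iv D6530) (iv D4997) (iv F16926)
theorem F28170 : act 5 n8419 = n6467 := d15_2 (iv F21852) D8419 (iv D6467)
def n8422 : Q := act 6 n6458
theorem D8422 : act 6 n6458 = n8422 := rfl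
theorem F28176 : act 5 n8422 = n6459 := d25_1 D8422 (iv D6459) (iv F21857)
def n8423 : Q := act 2 n6459
theorem D8423 : act 2 n6459 = n8423 := rfl
theorem F28177 : act 4 n8423 = n6460 := d14_2 (iv F21860) D8423 (iv D6460)
theorem F28178 : act 6 n8423 = n6483 := d16_2 D6459 D8423 (iv D6483) (iv D4964) (iv F16934)
def n8424 : Q := act 1 n6460
theorem D8424 : act 1 n6460 = n8424 := rfl
theorem F28180 : act 6 n8424 = n6484 := d11_2 (iv F21861) D8424 (iv D6484)
def n8425 : Q := act 3 n6460
theorem D8425 : act 3 n6460 = n8425 := rfl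
theorem F28181 : act 2 n8425 = n6462 := d13_1 D8425 (iv D6462) (iv D4948) (iv F16938) D6460
theorem F28182 : act 6 n8425 = n6485 := d20_2 (iv F21861) D8425 (iv D6485)
def n8426 : Q := act 0 n6461
theorem D8426 : act 0 n6461 = n8426 := rfl
theorem F28185 : act 6 n8426 = n6463 := d5_2 (iv F21864) D8426 (iv D6463)
def n8427 : Q := act 3 n6461
theorem D8427 : act 3 n6461 = n8427 := rfl
theorem F28186 : act 1 n8427 = n6462 := d8_1 D8427 (iv D6462) D6461
theorem F28187 : act 6 n8427 = n6464 := d20_2 (iv F21864) D8427 (iv D6464)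
def n8428 : Q := act 4 n6462
theorem D8428 : act 4 n6462 = n8428 := rfl
theorem F28189 : act 6 n8428 = n6465 := d23_2 (iv F21865) D8428 (iv D6465)
def n8429 : Q := act 3 n6463
theorem D8429 : act 3 n6463 = n8429 := rfl
theorem F28190 : act 0 n8429 = n6464 := d2_1 D8429 (iv D6464) D6463
theorem F28191 : act 7 n8429 = n6466 := d21_2 (iv F21868) D8429 (iv D6466)
def n8430 : Q := act 2 n6464
theorem D8430 : act 2 n6464 = n8430 := rfl
theorem F28192 : act 1 n8430 = n6490 := d7_1 D8430 (iv D6490) F16998 (iv F16944) (iv F21869)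
theorem F28194 : act 7 n8430 = n6467 := d17_2 (iv F21870) D8430 (iv D6467)
def n8431 : Q := act 4 n6464
theorem D8431 : act 4 n6464 = n8431 := rfl
theorem F28197 : act 7 n8431 = n6468 := d24_2 (iv F21870) D8431 (iv D6468)
def n8432 : Q := act 5 n6465
theorem D8432 : act 5 n6465 = n8432 := rfl
theorem F28198 : act 2 n8432 = n6492 := d15_1 D8432 (iv D6492) (iv F21871)
def n8433 : Q := act 2 n6466
theorem D8433 : act 2 n6466 = n8433 := rfl
theorem F28201 : act 0 n8433 = n6467 := d1_1 D8433 (iv D6467) (iv F21874)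
theorem F28202 : act 3 n8433 = n6537 := d13_2 D6466 D8433 (iv D6537) (iv D5002) (iv F16946)
def n8434 : Q := act 4 n6466
theorem D8434 : act 4 n6466 = n8434 := rfl
theorem F28203 : act 0 n8434 = n6468 := d3_1 D8434 (iv D6468) (iv F21874)
theorem F28204 : act 3 n8434 = n8434 := d18_1 D8434 (iv D8434) (iv D6466) F16947 D6466
def n8435 : Q := act 4 n6467
theorem D8435 : act 4 n6467 = n8435 := rfl
theorem F28205 : act 1 n8435 = n6495 := d9_1 D8435 (iv D6495) (iv F21875)
theorem F28206 : act 2 n8435 = n6468 := d14_1 D8435 (iv D6468) D6467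
def n8436 : Q := act 6 n6467
theorem D8436 : act 6 n6467 = n8436 := rfl
theorem F28207 : act 1 n8436 = n6496 := d11_1 D8436 (iv D6496) (iv F21875)
theorem F28208 : act 3 n8436 = n6540 := d20_1 D8436 (iv D6540) (iv F21876)
def n8437 : Q := act 5 n6468
theorem D8437 : act 5 n6468 = n8437 := rfl
def n8440 : Q := act 1 n6472
theorem D8440 : act 1 n6472 = n8440 := rfl
def n8441 : Q := act 3 n6472
theorem D8441 : act 3 n6472 = n8441 := rfl
theorem F28221 : act 2 n8441 = n6474 := d13_1 D8441 (iv D6474) (iv D4957) (iv F16959) D6472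
def n8443 : Q := act 3 n6473
theorem D8443 : act 3 n6473 = n8443 := rfl
theorem F28229 : act 1 n8443 = n6474 := d8_1 D8443 (iv D6474) D6473
theorem F28230 : act 5 n8443 = n6487 := d19_2 (iv F21893) D8443 (iv D6487)
theorem F28231 : act 6 n8443 = n6476 := d20_2 (iv F21894) D8443 (iv D6476)
def n8445 : Q := act 3 n6475
theorem D8445 : act 3 n6475 = n8445 := rfl
theorem F28236 : act 0 n8445 = n6476 := d2_1 D8445 (iv D6476) D6475
theorem F28237 : act 5 n8445 = n6489 := d19_2 (iv F21901) D8445 (iv D6489)
theorem F28238 : act 7 n8445 = n6478 := d21_2 (iv F21902) D8445 (iv D6478)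
def n8446 : Q := act 2 n6476
theorem D8446 : act 2 n6476 = n8446 := rfl
theorem F28240 : act 5 n8446 = n6490 := d15_2 (iv F21904) D8446 (iv D6490)
theorem F28241 : act 7 n8446 = n6479 := d17_2 (iv F21905) D8446 (iv D6479)
def n8447 : Q := act 4 n6476
theorem D8447 : act 4 n6476 = n8447 := rfl
theorem F28242 : act 1 n8447 = n6477 := d9_1 D8447 (iv D6477) (iv F21903)
theorem F28244 : act 7 n8447 = n6480 := d24_2 (iv F21905) D8447 (iv D6480)
def n8448 : Q := act 5 n6477
theorem D8448 : act 5 n6477 = n8448 := rfl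
theorem F28247 : act 7 n8448 = n6481 := d26_2 (iv F21907) D8448 (iv D6481)
def n8449 : Q := act 2 n6478
theorem D8449 : act 2 n6478 = n8449 := rfl
theorem F28248 : act 0 n8449 = n6479 := d1_1 D8449 (iv D6479) (iv F21908)
theorem F28249 : act 3 n8449 = n6546 := d13_2 D6478 D8449 (iv D6546) (iv D5009) (iv F16972)
theorem F28250 : act 5 n8449 = n6493 := d15_2 (iv F21909) D8449 (iv D6493)
def n8450 : Q := act 4 n6478
theorem D8450 : act 4 n6478 = n8450 := rfl
theorem F28251 : act 0 n8450 = n6480 := d3_1 D8450 (iv D6480) (iv F21908)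
theorem F28252 : act 3 n8450 = n8450 := d18_1 D8450 (iv D8450) (iv D6478) F16973 D6478
theorem F28253 : act 6 n8450 = n8450 := d23_2 F21910 D8450 (iv D8450)
def n8451 : Q := act 4 n6479
theorem D8451 : act 4 n6479 = n8451 := rfl
theorem F28254 : act 2 n8451 = n6480 := d14_1 D8451 (iv D6480) D6479
def n8452 : Q := act 6 n6479
theorem D8452 : act 6 n6479 = n8452 := rfl
theorem F28255 : act 2 n8452 = n8452 := d16_1 D8452 (iv D8452) (iv D6479) F16978 D6479
theorem F28256 : act 3 n8452 = n6549 := d20_1 D8452 (iv D6549) (iv F21911)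
theorem F28257 : act 5 n8452 = n6496 := d25_1 D8452 (iv D6496) (iv F21912)
def n8453 : Q := act 5 n6480
theorem D8453 : act 5 n6480 = n8453 := rfl
theorem F28260 : act 4 n8453 = n6497 := d22_1 D8453 (iv D6497) (iv D4973) (iv F16977) D6480
def n8456 : Q := act 3 n6483
theorem D8456 : act 3 n6483 = n8456 := rfl
theorem F28267 : act 2 n8456 = n6500 := d13_1 D8456 (iv D6500) (iv D4976) (iv F16985) D6483
def n8457 : Q := act 0 n6484
theorem D8457 : act 0 n6484 = n8457 := rfl
def n8458 : Q := act 3 n6484
theorem D8458 : act 3 n6484 = n8458 := rfl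
theorem F28271 : act 1 n8458 = n6485 := d8_1 D8458 (iv D6485) D6484
def n8459 : Q := act 4 n6485
theorem D8459 : act 4 n6485 = n8459 := rfl
theorem F28273 : act 2 n8459 = n6488 := d14_1 D8459 (iv D6488) (iv F21927)
def n8460 : Q := act 3 n6486
theorem D8460 : act 3 n6486 = n8460 := rfl
theorem F28275 : act 0 n8460 = n6487 := d2_1 D8460 (iv D6487) D6486
theorem F28276 : act 6 n8460 = n6489 := d20_2 (iv F21931) D8460 (iv D6489)
def n8461 : Q := act 2 n6487
theorem D8461 : act 2 n6487 = n8461 := rfl
theorem F28278 : act 3 n8461 = n7251 := d13_2 D6487 D8461 (iv D7251) (iv D5552) (iv F16989)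
def n8462 : Q := act 4 n6487
theorem D8462 : act 4 n6487 = n8462 := rfl
theorem F28280 : act 1 n8462 = n6488 := d9_1 D8462 (iv D6488) (iv F21933)
theorem F28281 : act 3 n8462 = n6506 := d18_1 D8462 (iv D6506) (iv D4980) (iv F16990) D6487
theorem F28282 : act 6 n8462 = n6491 := d23_2 (iv F21934) D8462 (iv D6491)
def n8463 : Q := act 5 n6488
theorem D8463 : act 5 n6488 = n8463 := rfl
theorem F28284 : act 3 n8463 = n6507 := d19_1 D8463 (iv D6507) (iv F21936)
theorem F28285 : act 6 n8463 = n6492 := d25_2 (iv F21937) D8463 (iv D6492)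
def n8464 : Q := act 2 n6489
theorem D8464 : act 2 n6489 = n8464 := rfl
theorem F28287 : act 0 n8464 = n6490 := d1_1 D8464 (iv D6490) (iv F21939)
theorem F28288 : act 3 n8464 = n6551 := d13_2 D6489 D8464 (iv D6551) (iv D5013) (iv F16995)
theorem F28289 : act 7 n8464 = n6493 := d17_2 (iv F21940) D8464 (iv D6493)
def n8465 : Q := act 4 n6489
theorem D8465 : act 4 n6489 = n8465 := rfl
theorem F28290 : act 0 n8465 = n6491 := d3_1 D8465 (iv D6491) (iv F21939)
theorem F28291 : act 3 n8465 = n6509 := d18_1 D8465 (iv D6509) (iv D4982) (iv F16996) D6489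
theorem F28292 : act 7 n8465 = n6494 := d24_2 (iv F21940) D8465 (iv D6494)
def n8466 : Q := act 4 n6490
theorem D8466 : act 4 n6490 = n8466 := rfl
theorem F28293 : act 2 n8466 = n6491 := d14_1 D8466 (iv D6491) D6490
theorem F28294 : act 7 n8466 = n6495 := d24_2 (iv F21942) D8466 (iv D6495)
def n8467 : Q := act 6 n6490
theorem D8467 : act 6 n6490 = n8467 := rfl
theorem F28295 : act 3 n8467 = n6554 := d20_1 D8467 (iv D6554) (iv F21941)
def n8468 : Q := act 5 n6491
theorem D8468 : act 5 n6491 = n8468 := rfl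
theorem F28296 : act 1 n8468 = n6492 := d10_1 D8468 (iv D6492) (iv F21943)
theorem F28297 : act 3 n8468 = n6512 := d19_1 D8468 (iv D6512) (iv F21944)
theorem F28298 : act 7 n8468 = n6497 := d26_2 (iv F21945) D8468 (iv D6497)
def n8469 : Q := act 1 n6493
theorem D8469 : act 1 n6493 = n8469 := rfl
theorem F28299 : act 3 n8469 = n6556 := d8_2 (iv F21949) D8469 (iv D6556)
def n8470 : Q := act 4 n6493
theorem D8470 : act 4 n6493 = n8470 := rfl
theorem F28300 : act 0 n8470 = n6495 := d3_1 D8470 (iv D6495) (iv F21948)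
theorem F28301 : act 2 n8470 = n6494 := d14_1 D8470 (iv D6494) D6493
def n8471 : Q := act 6 n6493
theorem D8471 : act 6 n6493 = n8471 := rfl
theorem F28302 : act 0 n8471 = n6496 := d5_1 D8471 (iv D6496) (iv F21948)
theorem F28303 : act 2 n8471 = n8471 := d16_1 D8471 (iv D8471) (iv D6493) F17003 D6493
theorem F28304 : act 3 n8471 = n6558 := d20_1 D8471 (iv D6558) (iv F21949)
def n8472 : Q := act 5 n6494
theorem D8472 : act 5 n6494 = n8472 := rfl
theorem F28305 : act 0 n8472 = n6497 := d4_1 D8472 (iv D6497) (iv F21950)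
theorem F28306 : act 3 n8472 = n6516 := d19_1 D8472 (iv D6516) (iv F21951)
theorem F28307 : act 6 n8472 = n8472 := d25_2 F21952 D8472 (iv D8472)
def n8473 : Q := act 3 n6495
theorem D8473 : act 3 n6495 = n8473 := rfl
theorem F28309 : act 4 n8473 = n6560 := d18_2 D6495 D8473 (iv D6560) (iv D5019) (iv F17004)
def n8474 : Q := act 5 n6495
theorem D8474 : act 5 n6495 = n8474 := rfl
theorem F28310 : act 2 n8474 = n6497 := d15_1 D8474 (iv D6497) (iv F21953)
def n8475 : Q := act 6 n6495
theorem D8475 : act 6 n6495 = n8475 := rfl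
theorem F28312 : act 4 n8475 = n6496 := d23_1 D8475 (iv D6496) D6495
def n8476 : Q := act 7 n6496
theorem D8476 : act 7 n6496 = n8476 := rfl
theorem F28313 : act 2 n8476 = n8476 := d17_1 D8476 (iv D8476) F21954
theorem F28314 : act 3 n8476 = n6563 := d21_1 D8476 (iv D6563) (iv F21955)
def n8481 : Q := act 4 n6500
theorem D8481 : act 4 n6500 = n8481 := rfl
theorem F28330 : act 3 n8481 = n6503 := d18_1 D8481 (iv D6503) (iv D4978) (iv F17014) D6500
def n8482 : Q := act 3 n6501
theorem D8482 : act 3 n6501 = n8482 := rfl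
theorem F28333 : act 0 n8482 = n6502 := d2_1 D8482 (iv D6502) D6501
def n8483 : Q := act 2 n6502
theorem D8483 : act 2 n6502 = n8483 := rfl
theorem F28337 : act 1 n8483 = n6505 := d7_1 D8483 (iv D6505) F17029 (iv F17021) (iv F21973)
def n8486 : Q := act 2 n6504
theorem D8486 : act 2 n6504 = n8486 := rfl
theorem F28348 : act 0 n8486 = n6505 := d1_1 D8486 (iv D6505) (iv F21980)
def n8487 : Q := act 4 n6504
theorem D8487 : act 4 n6504 = n8487 := rfl
theorem F28352 : act 0 n8487 = n6506 := d3_1 D8487 (iv D6506) (iv F21980)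
theorem F28353 : act 6 n8487 = n6509 := d23_2 (iv F21982) D8487 (iv D6509)
theorem F28354 : act 7 n8487 = n8487 := d24_2 F21983 D8487 (iv D8487)
def n8488 : Q := act 4 n6505
theorem D8488 : act 4 n6505 = n8488 := rfl
theorem F28355 : act 2 n8488 = n6506 := d14_1 D8488 (iv D6506) D6505
def n8490 : Q := act 5 n6506
theorem D8490 : act 5 n6506 = n8490 := rfl
theorem F28362 : act 6 n8490 = n6512 := d25_2 (iv F21988) D8490 (iv D6512)
def n8491 : Q := act 1 n6508
theorem D8491 : act 1 n6508 = n8491 := rfl
theorem F28364 : act 0 n8491 = n8491 := d0_1 D8491 (iv D8491) F21993 F17038 (iv F21993)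
theorem F28365 : act 3 n8491 = n6564 := d8_2 (iv F21994) D8491 (iv D6564)
theorem F28366 : act 5 n8491 = n8491 := d10_2 F21995 D8491 (iv D8491)
theorem F28367 : act 7 n8491 = n6513 := d12_2 (iv F21996) D8491 (iv D6513)
def n8492 : Q := act 4 n6508
theorem D8492 : act 4 n6508 = n8492 := rfl
theorem F28368 : act 0 n8492 = n6510 := d3_1 D8492 (iv D6510) (iv F21993)
theorem F28369 : act 2 n8492 = n6509 := d14_1 D8492 (iv D6509) D6508
theorem F28370 : act 7 n8492 = n6514 := d24_2 (iv F21996) D8492 (iv D6514)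
def n8493 : Q := act 6 n6508
theorem D8493 : act 6 n6508 = n8493 := rfl
def n8494 : Q := act 5 n6509
theorem D8494 : act 5 n6509 = n8494 := rfl
theorem F28374 : act 0 n8494 = n6512 := d4_1 D8494 (iv D6512) (iv F21997)
theorem F28375 : act 4 n8494 = n8494 := d22_1 D8494 (iv D8494) (iv D6509) F17036 D6509
theorem F28376 : act 7 n8494 = n6516 := d26_2 (iv F21998) D8494 (iv D6516)
def n8496 : Q := act 5 n6510
theorem D8496 : act 5 n6510 = n8496 := rfl
theorem F28380 : act 1 n8496 = n8496 := d10_1 D8496 (iv D8496) F21999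
theorem F28381 : act 2 n8496 = n6512 := d15_1 D8496 (iv D6512) (iv F22000)
theorem F28382 : act 4 n8496 = n8496 := d22_1 D8496 (iv D8496) (iv D6510) F17040 D6510
theorem F28383 : act 7 n8496 = n6518 := d26_2 (iv F22001) D8496 (iv D6518)
def n8497 : Q := act 6 n6510
theorem D8497 : act 6 n6510 = n8497 := rfl
def n8499 : Q := act 4 n6513
theorem D8499 : act 4 n6513 = n8499 := rfl
theorem F28390 : act 0 n8499 = n8499 := d3_1 D8499 (iv D8499) F22008
theorem F28391 : act 1 n8499 = n6514 := d9_1 D8499 (iv D6514) D6513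
def n8500 : Q := act 6 n6513
theorem D8500 : act 6 n6513 = n8500 := rfl
theorem F28394 : act 3 n8500 = n6573 := d20_1 D8500 (iv D6573) (iv F22009)
def n8502 : Q := act 5 n6514
theorem D8502 : act 5 n6514 = n8502 := rfl
theorem F28398 : act 0 n8502 = n6518 := d4_1 D8502 (iv D6518) (iv F22011)
theorem F28399 : act 2 n8502 = n6516 := d15_1 D8502 (iv D6516) (iv F22012)
theorem F28400 : act 4 n8502 = n8502 := d22_1 D8502 (iv D8502) (iv D6514) F17049 D6514
def n8503 : Q := act 6 n6514
theorem D8503 : act 6 n6514 = n8503 := rfl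
theorem F28403 : act 4 n8503 = n6515 := d23_1 D8503 (iv D6515) D6514
def n8507 : Q := act 6 n6518
theorem D8507 : act 6 n6518 = n8507 := rfl
theorem F28416 : act 5 n8507 = n6519 := d25_1 D8507 (iv D6519) D6518
def n8509 : Q := act 0 n6521
theorem D8509 : act 0 n6521 = n8509 := rfl
theorem F28420 : act 1 n8509 = n6614 := d0_2 D6521 D8509 (iv D6614) (iv D5061) (iv F17061)
theorem F28424 : act 7 n8509 = n6523 := d6_2 (iv F22035) D8509 (iv D6523)
def n8516 : Q := act 3 n6526
theorem D8516 : act 3 n6526 = n8516 := rfl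
theorem F28448 : act 0 n8516 = n6527 := d2_1 D8516 (iv D6527) D6526
theorem F28449 : act 1 n8516 = n6621 := d8_1 D8516 (iv D6621) (iv F22052)
theorem F28452 : act 7 n8516 = n6529 := d21_2 (iv F22055) D8516 (iv D6529)
def n8517 : Q := act 2 n6527
theorem D8517 : act 2 n6527 = n8517 := rfl
theorem F28453 : act 1 n8517 = n6543 := d7_1 D8517 (iv D6543) F17118 (iv F17077) (iv F22056)
theorem F28455 : act 7 n8517 = n6530 := d17_2 (iv F22059) D8517 (iv D6530)
def n8520 : Q := act 2 n6529
theorem D8520 : act 2 n6529 = n8520 := rfl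
theorem F28464 : act 0 n8520 = n6530 := d1_1 D8520 (iv D6530) (iv F22064)
theorem F28465 : act 5 n8520 = n6537 := d15_2 (iv F22066) D8520 (iv D6537)
def n8521 : Q := act 4 n6529
theorem D8521 : act 4 n6529 = n8521 := rfl
theorem F28466 : act 0 n8521 = n6531 := d3_1 D8521 (iv D6531) (iv F22064)
theorem F28467 : act 1 n8521 = n6626 := d9_1 D8521 (iv D6626) (iv F22065)
theorem F28468 : act 6 n8521 = n6772 := d23_2 (iv F22067) D8521 (iv D6772)
def n8522 : Q := act 4 n6530
theorem D8522 : act 4 n6530 = n8522 := rfl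
theorem F28469 : act 1 n8522 = n6548 := d9_1 D8522 (iv D6548) (iv F22068)
def n8523 : Q := act 6 n6530
theorem D8523 : act 6 n6530 = n8523 := rfl
theorem F28471 : act 1 n8523 = n6549 := d11_1 D8523 (iv D6549) (iv F22068)
def n8524 : Q := act 5 n6531
theorem D8524 : act 5 n6531 = n8524 := rfl
theorem F28474 : act 1 n8524 = n6532 := d10_1 D8524 (iv D6532) (iv F22070)
def n8525 : Q := act 2 n6533
theorem D8525 : act 2 n6533 = n8525 := rfl
theorem F28477 : act 0 n8525 = n6534 := d1_1 D8525 (iv D6534) (iv F22076)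
theorem F28478 : act 7 n8525 = n6537 := d17_2 (iv F22079) D8525 (iv D6537)
def n8526 : Q := act 4 n6533
theorem D8526 : act 4 n6533 = n8526 := rfl
theorem F28480 : act 1 n8526 = n6631 := d9_1 D8526 (iv D6631) (iv F22077)
theorem F28483 : act 7 n8526 = n6538 := d24_2 (iv F22079) D8526 (iv D6538)
def n8527 : Q := act 4 n6534
theorem D8527 : act 4 n6534 = n8527 := rfl
theorem F28484 : act 1 n8527 = n6553 := d9_1 D8527 (iv D6553) (iv F22080)
theorem F28486 : act 7 n8527 = n6539 := d24_2 (iv F22081) D8527 (iv D6539)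
def n8530 : Q := act 1 n6537
theorem D8530 : act 1 n6537 = n8530 := rfl
theorem F28493 : act 0 n8530 = n6556 := d0_1 D8530 (iv D6556) F17151 (iv F17105) (iv F22091)
theorem F28494 : act 2 n8530 = n6635 := d7_2 D6537 D8530 (iv D6635) (iv D5077) (iv F17103)
def n8531 : Q := act 4 n6537
theorem D8531 : act 4 n6537 = n8531 := rfl
theorem F28495 : act 0 n8531 = n6539 := d3_1 D8531 (iv D6539) (iv F22091)
theorem F28496 : act 2 n8531 = n6538 := d14_1 D8531 (iv D6538) D6537
def n8532 : Q := act 6 n6537
theorem D8532 : act 6 n6537 = n8532 := rfl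
theorem F28497 : act 0 n8532 = n6540 := d5_1 D8532 (iv D6540) (iv F22091)
def n8534 : Q := act 3 n6539
theorem D8534 : act 3 n6539 = n8534 := rfl
def n8537 : Q := act 7 n6540
theorem D8537 : act 7 n6540 = n8537 := rfl
theorem F28510 : act 1 n8537 = n6563 := d12_1 D8537 (iv D6563) (iv F22098)
def n8538 : Q := act 2 n6542
theorem D8538 : act 2 n6542 = n8538 := rfl
theorem F28512 : act 0 n8538 = n6543 := d1_1 D8538 (iv D6543) (iv F22103)
theorem F28513 : act 5 n8538 = n6551 := d15_2 (iv F22105) D8538 (iv D6551)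
theorem F28514 : act 7 n8538 = n6546 := d17_2 (iv F22107) D8538 (iv D6546)
def n8539 : Q := act 4 n6542
theorem D8539 : act 4 n6542 = n8539 := rfl
theorem F28518 : act 6 n8539 = n7300 := d23_2 (iv F22106) D8539 (iv D7300)
theorem F28519 : act 7 n8539 = n6547 := d24_2 (iv F22107) D8539 (iv D6547)
def n8540 : Q := act 4 n6543
theorem D8540 : act 4 n6543 = n8540 := rfl
theorem F28520 : act 2 n8540 = n6544 := d14_1 D8540 (iv D6544) D6543
theorem F28521 : act 7 n8540 = n6548 := d24_2 (iv F22109) D8540 (iv D6548)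
def n8541 : Q := act 6 n6543
theorem D8541 : act 6 n6543 = n8541 := rfl
theorem F28522 : act 2 n8541 = n7302 := d16_1 D8541 (iv D7302) (iv D5587) (iv F17120) D6543
theorem F28523 : act 5 n8541 = n6554 := d25_1 D8541 (iv D6554) (iv F22108)
def n8543 : Q := act 1 n6546
theorem D8543 : act 1 n6546 = n8543 := rfl
theorem F28529 : act 2 n8543 = n6648 := d7_2 D6546 D8543 (iv D6648) (iv D5086) (iv F17127)
theorem F28530 : act 5 n8543 = n6556 := d10_2 (iv F22120) D8543 (iv D6556)
def n8544 : Q := act 4 n6546
theorem D8544 : act 4 n6546 = n8544 := rfl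
theorem F28531 : act 0 n8544 = n6548 := d3_1 D8544 (iv D6548) (iv F22119)
theorem F28532 : act 2 n8544 = n6547 := d14_1 D8544 (iv D6547) D6546
def n8545 : Q := act 6 n6546
theorem D8545 : act 6 n6546 = n8545 := rfl
theorem F28533 : act 0 n8545 = n6549 := d5_1 D8545 (iv D6549) (iv F22119)
theorem F28534 : act 2 n8545 = n6584 := d16_1 D8545 (iv D6584) (iv D5035) (iv F17129) D6546
theorem F28535 : act 5 n8545 = n6558 := d25_1 D8545 (iv D6558) (iv F22120)
def n8546 : Q := act 5 n6547
theorem D8546 : act 5 n6547 = n8546 := rfl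
theorem F28540 : act 6 n8546 = n6585 := d25_2 (iv F22124) D8546 (iv D6585)
def n8547 : Q := act 3 n6548
theorem D8547 : act 3 n6548 = n8547 := rfl
theorem F28541 : act 2 n8547 = n8547 := d13_1 D8547 (iv D8547) F22125 F17132 (iv F22125)
def n8548 : Q := act 5 n6548
theorem D8548 : act 5 n6548 = n8548 := rfl
theorem F28542 : act 2 n8548 = n6550 := d15_1 D8548 (iv D6550) (iv F22125)
def n8549 : Q := act 6 n6548
theorem D8549 : act 6 n6548 = n8549 := rfl
theorem F28544 : act 2 n8549 = n6588 := d16_1 D8549 (iv D6588) F17209 (iv F17133) (iv F22125)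
theorem F28545 : act 4 n8549 = n6549 := d23_1 D8549 (iv D6549) D6548
def n8550 : Q := act 7 n6549
theorem D8550 : act 7 n6549 = n8550 := rfl
theorem F28546 : act 2 n8550 = n6589 := d17_1 D8550 (iv D6589) (iv F22126)
theorem F28547 : act 5 n8550 = n6563 := d26_1 D8550 (iv D6563) (iv F22127)
def n8551 : Q := act 1 n6551
theorem D8551 : act 1 n6551 = n8551 := rfl
theorem F28548 : act 2 n8551 = n6656 := d7_2 D6551 D8551 (iv D6656) (iv D5091) (iv F17139)
theorem F28549 : act 7 n8551 = n6556 := d12_2 (iv F22133) D8551 (iv D6556)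
def n8552 : Q := act 4 n6551
theorem D8552 : act 4 n6551 = n8552 := rfl
theorem F28550 : act 0 n8552 = n6553 := d3_1 D8552 (iv D6553) (iv F22132)
theorem F28551 : act 2 n8552 = n6552 := d14_1 D8552 (iv D6552) D6551
theorem F28552 : act 7 n8552 = n6557 := d24_2 (iv F22133) D8552 (iv D6557)
def n8553 : Q := act 6 n6551
theorem D8553 : act 6 n6551 = n8553 := rfl
theorem F28553 : act 0 n8553 = n6554 := d5_1 D8553 (iv D6554) (iv F22132)
theorem F28554 : act 2 n8553 = n7314 := d16_1 D8553 (iv D7314) (iv D5595) (iv F17140) D6551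
def n8554 : Q := act 5 n6552
theorem D8554 : act 5 n6552 = n8554 := rfl
theorem F28556 : act 1 n8554 = n6659 := d10_1 D8554 (iv D6659) (iv F22135)
theorem F28558 : act 6 n8554 = n7315 := d25_2 (iv F22137) D8554 (iv D7315)
theorem F28559 : act 7 n8554 = n6559 := d26_2 (iv F22138) D8554 (iv D6559)
def n8555 : Q := act 3 n6553
theorem D8555 : act 3 n6553 = n8555 := rfl
theorem F28561 : act 7 n8555 = n6560 := d21_2 (iv F22140) D8555 (iv D6560)
def n8556 : Q := act 5 n6553
theorem D8556 : act 5 n6553 = n8556 := rfl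
theorem F28562 : act 2 n8556 = n6555 := d15_1 D8556 (iv D6555) (iv F22139)
theorem F28563 : act 7 n8556 = n6561 := d26_2 (iv F22140) D8556 (iv D6561)
def n8557 : Q := act 6 n6553
theorem D8557 : act 6 n6553 = n8557 := rfl
theorem F28564 : act 2 n8557 = n7318 := d16_1 D8557 (iv D7318) F19045 (iv F17145) (iv F22139)
theorem F28565 : act 4 n8557 = n6554 := d23_1 D8557 (iv D6554) D6553
def n8558 : Q := act 7 n6554
theorem D8558 : act 7 n6554 = n8558 := rfl
theorem F28566 : act 2 n8558 = n7319 := d17_1 D8558 (iv D7319) (iv F22141)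
theorem F28567 : act 6 n8558 = n6563 := d27_1 D8558 (iv D6563) (iv D5020) (iv F17142) D6554
def n8559 : Q := act 4 n6556
theorem D8559 : act 4 n6556 = n8559 := rfl
theorem F28568 : act 1 n8559 = n6557 := d9_1 D8559 (iv D6557) D6556
theorem F28569 : act 2 n8559 = n6664 := d14_1 D8559 (iv D6664) (iv F22146)
def n8560 : Q := act 6 n6556
theorem D8560 : act 6 n6556 = n8560 := rfl
theorem F28570 : act 1 n8560 = n6558 := d11_1 D8560 (iv D6558) D6556
def n8561 : Q := act 3 n6557
theorem D8561 : act 3 n6557 = n8561 := rfl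
def n8562 : Q := act 5 n6557
theorem D8562 : act 5 n6557 = n8562 := rfl
theorem F28574 : act 2 n8562 = n6559 := d15_1 D8562 (iv D6559) (iv F22148)
def n8563 : Q := act 6 n6557
theorem D8563 : act 6 n6557 = n8563 := rfl
theorem F28577 : act 4 n8563 = n6558 := d23_1 D8563 (iv D6558) D6557
def n8564 : Q := act 7 n6558
theorem D8564 : act 7 n6558 = n8564 := rfl
theorem F28578 : act 0 n8564 = n6563 := d6_1 D8564 (iv D6563) (iv F22149)
theorem F28579 : act 2 n8564 = n6595 := d17_1 D8564 (iv D6595) (iv F22150)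
def n8565 : Q := act 5 n6560
theorem D8565 : act 5 n6560 = n8565 := rfl
theorem F28581 : act 3 n8565 = n6561 := d19_1 D8565 (iv D6561) D6560
def n8566 : Q := act 6 n6560
theorem D8566 : act 6 n6560 = n8566 := rfl
def n8567 : Q := act 6 n6561
theorem D8567 : act 6 n6561 = n8567 := rfl
theorem F28583 : act 2 n8567 = n6598 := d16_1 D8567 (iv D6598) F17236 (iv F17160) (iv F22156)
theorem F28584 : act 5 n8567 = n6562 := d25_1 D8567 (iv D6562) D6561
def n8568 : Q := act 7 n6562
theorem D8568 : act 7 n6562 = n8568 := rfl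
def n8570 : Q := act 6 n6564
theorem D8570 : act 6 n6564 = n8570 := rfl
def n8579 : Q := act 3 n6572
theorem D8579 : act 3 n6572 = n8579 := rfl
def n8592 : Q := act 4 n6582
theorem D8592 : act 4 n6582 = n8592 := rfl
theorem F28657 : act 0 n8592 = n6815 := d3_1 D8592 (iv D6815) (iv F22216)
theorem F28658 : act 1 n8592 = n6583 := d9_1 D8592 (iv D6583) D6582
def n8593 : Q := act 6 n6582
theorem D8593 : act 6 n6582 = n8593 := rfl
theorem F28662 : act 1 n8593 = n6584 := d11_1 D8593 (iv D6584) D6582
def n8594 : Q := act 3 n6583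
theorem D8594 : act 3 n6583 = n8594 := rfl
theorem F28665 : act 0 n8594 = n6586 := d2_1 D8594 (iv D6586) (iv F22221)
def n8595 : Q := act 5 n6583
theorem D8595 : act 5 n6583 = n8595 := rfl
theorem F28669 : act 0 n8595 = n6587 := d4_1 D8595 (iv D6587) (iv F22221)
theorem F28671 : act 4 n8595 = n6593 := d22_1 D8595 (iv D6593) (iv D5041) (iv F17202) D6583
def n8597 : Q := act 7 n6584
theorem D8597 : act 7 n6584 = n8597 := rfl
theorem F28675 : act 0 n8597 = n6589 := d6_1 D8597 (iv D6589) (iv F22224)
theorem F28676 : act 3 n8597 = n8597 := d21_1 D8597 (iv D8597) F22225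
theorem F28677 : act 5 n8597 = n6595 := d26_1 D8597 (iv D6595) (iv F22226)
theorem F28678 : act 6 n8597 = n7358 := d27_1 D8597 (iv D7358) (iv D5628) (iv F17203) D6584
def n8598 : Q := act 5 n6586
theorem D8598 : act 5 n6586 = n8598 := rfl
theorem F28679 : act 1 n8598 = n6821 := d10_1 D8598 (iv D6821) (iv F22232)
def n8601 : Q := act 7 n6588
theorem D8601 : act 7 n6588 = n8601 := rfl
theorem F28690 : act 4 n8601 = n6589 := d24_1 D8601 (iv D6589) (iv F22241)
def n8603 : Q := act 5 n6590
theorem D8603 : act 5 n6590 = n8603 := rfl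
theorem F28697 : act 0 n8603 = n6826 := d4_1 D8603 (iv D6826) (iv F22246)
def n8605 : Q := act 2 n6591
theorem D8605 : act 2 n6591 = n8605 := rfl
def n8609 : Q := act 6 n6593
theorem D8609 : act 6 n6593 = n8609 := rfl
theorem F28718 : act 5 n8609 = n6594 := d25_1 D8609 (iv D6594) D6593
def n8637 : Q := act 2 n6617
theorem D8637 : act 2 n6617 = n8637 := rfl
def n8638 : Q := act 4 n6617
theorem D8638 : act 4 n6617 = n8638 := rfl
theorem F28819 : act 3 n8638 = n6626 := d18_1 D8638 (iv D6626) (iv D5069) (iv F17301) D6617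
theorem F28820 : act 6 n8638 = n6857 := d23_2 (iv F22342) D8638 (iv D6857)
def n8639 : Q := act 4 n6618
theorem D8639 : act 4 n6618 = n8639 := rfl
theorem F28822 : act 2 n8639 = n6619 := d14_1 D8639 (iv D6619) D6618
def n8640 : Q := act 6 n6618
theorem D8640 : act 6 n6618 = n8640 := rfl
def n8641 : Q := act 5 n6619
theorem D8641 : act 5 n6619 = n8641 := rfl
theorem F28827 : act 3 n8641 = n6629 := d19_1 D8641 (iv D6629) (iv F22346)
theorem F28829 : act 6 n8641 = n6860 := d25_2 (iv F22347) D8641 (iv D6860)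
def n8642 : Q := act 2 n6621
theorem D8642 : act 2 n6621 = n8642 := rfl
theorem F28830 : act 0 n8642 = n6622 := d1_1 D8642 (iv D6622) (iv F22352)
theorem F28831 : act 5 n8642 = n6630 := d15_2 (iv F22353) D8642 (iv D6630)
theorem F28832 : act 7 n8642 = n6625 := d17_2 (iv F22355) D8642 (iv D6625)
def n8643 : Q := act 4 n6621
theorem D8643 : act 4 n6621 = n8643 := rfl
theorem F28835 : act 7 n8643 = n6626 := d24_2 (iv F22355) D8643 (iv D6626)
def n8644 : Q := act 4 n6622
theorem D8644 : act 4 n6622 = n8644 := rfl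
theorem F28836 : act 1 n8644 = n6645 := d9_1 D8644 (iv D6645) (iv F22356)
theorem F28838 : act 7 n8644 = n6627 := d24_2 (iv F22358) D8644 (iv D6627)
def n8646 : Q := act 5 n6623
theorem D8646 : act 5 n6623 = n8646 := rfl
theorem F28843 : act 4 n8646 = n6634 := d22_1 D8646 (iv D6634) (iv D5075) (iv F17314) D6623
theorem F28845 : act 7 n8646 = n6629 := d26_2 (iv F22361) D8646 (iv D6629)
def n8647 : Q := act 1 n6625
theorem D8647 : act 1 n6625 = n8647 := rfl
theorem F28846 : act 0 n8647 = n6648 := d0_1 D8647 (iv D6648) F17368 (iv F17323) (iv F22366)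
theorem F28847 : act 5 n8647 = n6635 := d10_2 (iv F22367) D8647 (iv D6635)
def n8648 : Q := act 4 n6625
theorem D8648 : act 4 n6625 = n8648 := rfl
theorem F28848 : act 0 n8648 = n6627 := d3_1 D8648 (iv D6627) (iv F22366)
theorem F28849 : act 2 n8648 = n6626 := d14_1 D8648 (iv D6626) D6625
def n8649 : Q := act 6 n6625
theorem D8649 : act 6 n6625 = n8649 := rfl
theorem F28850 : act 0 n8649 = n6628 := d5_1 D8649 (iv D6628) (iv F22366)
theorem F28852 : act 5 n8649 = n6637 := d25_1 D8649 (iv D6637) (iv F22367)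
def n8650 : Q := act 5 n6626
theorem D8650 : act 5 n6626 = n8650 := rfl
theorem F28853 : act 0 n8650 = n6629 := d4_1 D8650 (iv D6629) (iv F22368)
theorem F28854 : act 4 n8650 = n6638 := d22_1 D8650 (iv D6638) (iv D5078) (iv F17321) D6626
def n8651 : Q := act 3 n6627
theorem D8651 : act 3 n6627 = n8651 := rfl
theorem F28856 : act 1 n8651 = n6652 := d8_1 D8651 (iv D6652) (iv F22370)
def n8652 : Q := act 5 n6627
theorem D8652 : act 5 n6627 = n8652 := rfl
theorem F28857 : act 1 n8652 = n6653 := d10_1 D8652 (iv D6653) (iv F22370)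
theorem F28858 : act 2 n8652 = n6629 := d15_1 D8652 (iv D6629) (iv F22371)
def n8654 : Q := act 7 n6628
theorem D8654 : act 7 n6628 = n8654 := rfl
theorem F28865 : act 5 n8654 = n6642 := d26_1 D8654 (iv D6642) (iv F22374)
def n8655 : Q := act 1 n6630
theorem D8655 : act 1 n6630 = n8655 := rfl
theorem F28866 : act 0 n8655 = n6656 := d0_1 D8655 (iv D6656) F17380 (iv F17333) (iv F22378)
theorem F28867 : act 7 n8655 = n6635 := d12_2 (iv F22379) D8655 (iv D6635)
def n8656 : Q := act 4 n6630
theorem D8656 : act 4 n6630 = n8656 := rfl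
theorem F28868 : act 0 n8656 = n6632 := d3_1 D8656 (iv D6632) (iv F22378)
theorem F28869 : act 2 n8656 = n6631 := d14_1 D8656 (iv D6631) D6630
theorem F28870 : act 7 n8656 = n6636 := d24_2 (iv F22379) D8656 (iv D6636)
def n8657 : Q := act 6 n6630
theorem D8657 : act 6 n6630 = n8657 := rfl
theorem F28871 : act 0 n8657 = n6633 := d5_1 D8657 (iv D6633) (iv F22378)
theorem F28872 : act 2 n8657 = n8657 := d16_1 D8657 (iv D8657) (iv D6630) F17331 D6630
def n8658 : Q := act 5 n6631
theorem D8658 : act 5 n6631 = n8658 := rfl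
theorem F28873 : act 0 n8658 = n6634 := d4_1 D8658 (iv D6634) (iv F22380)
theorem F28874 : act 3 n8658 = n8658 := d19_1 D8658 (iv D8658) F22381
theorem F28875 : act 6 n8658 = n8658 := d25_2 F22382 D8658 (iv D8658)
theorem F28876 : act 7 n8658 = n6638 := d26_2 (iv F22383) D8658 (iv D6638)
def n8659 : Q := act 3 n6632
theorem D8659 : act 3 n6632 = n8659 := rfl
theorem F28877 : act 1 n8659 = n6660 := d8_1 D8659 (iv D6660) (iv F22384)
theorem F28878 : act 2 n8659 = n8659 := d13_1 D8659 (iv D8659) F22385 F17336 (iv F22385)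
theorem F28879 : act 7 n8659 = n6639 := d21_2 (iv F22386) D8659 (iv D6639)
def n8660 : Q := act 5 n6632
theorem D8660 : act 5 n6632 = n8660 := rfl
theorem F28880 : act 1 n8660 = n6661 := d10_1 D8660 (iv D6661) (iv F22384)
theorem F28881 : act 2 n8660 = n6634 := d15_1 D8660 (iv D6634) (iv F22385)
theorem F28882 : act 7 n8660 = n6640 := d26_2 (iv F22386) D8660 (iv D6640)
def n8661 : Q := act 6 n6632
theorem D8661 : act 6 n6632 = n8661 := rfl
theorem F28883 : act 1 n8661 = n6662 := d11_1 D8661 (iv D6662) (iv F22384)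
theorem F28884 : act 2 n8661 = n8661 := d16_1 D8661 (iv D8661) F22385 F17337 (iv F22385)
theorem F28885 : act 4 n8661 = n6633 := d23_1 D8661 (iv D6633) D6632
def n8662 : Q := act 7 n6633
theorem D8662 : act 7 n6633 = n8662 := rfl
theorem F28886 : act 1 n8662 = n6663 := d12_1 D8662 (iv D6663) (iv F22387)
theorem F28887 : act 2 n8662 = n8662 := d17_1 D8662 (iv D8662) F22388
theorem F28888 : act 6 n8662 = n6642 := d27_1 D8662 (iv D6642) (iv D5080) (iv F17334) D6633
def n8663 : Q := act 4 n6635
theorem D8663 : act 4 n6635 = n8663 := rfl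
theorem F28889 : act 0 n8663 = n6664 := d3_1 D8663 (iv D6664) (iv F22393)
theorem F28890 : act 1 n8663 = n6636 := d9_1 D8663 (iv D6636) D6635
def n8664 : Q := act 6 n6635
theorem D8664 : act 6 n6635 = n8664 := rfl
theorem F28891 : act 0 n8664 = n6665 := d5_1 D8664 (iv D6665) (iv F22393)
theorem F28892 : act 1 n8664 = n6637 := d11_1 D8664 (iv D6637) D6635
def n8665 : Q := act 3 n6636
theorem D8665 : act 3 n6636 = n8665 := rfl
theorem F28893 : act 0 n8665 = n6639 := d2_1 D8665 (iv D6639) (iv F22394)
theorem F28894 : act 2 n8665 = n8665 := d13_1 D8665 (iv D8665) F22395 F17345 (iv F22395)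
def n8666 : Q := act 5 n6636
theorem D8666 : act 5 n6636 = n8666 := rfl
theorem F28895 : act 0 n8666 = n6640 := d4_1 D8666 (iv D6640) (iv F22394)
theorem F28896 : act 2 n8666 = n6638 := d15_1 D8666 (iv D6638) (iv F22395)
def n8667 : Q := act 6 n6636
theorem D8667 : act 6 n6636 = n8667 := rfl
theorem F28897 : act 0 n8667 = n6641 := d5_1 D8667 (iv D6641) (iv F22394)
theorem F28898 : act 2 n8667 = n6873 := d16_1 D8667 (iv D6873) F17908 (iv F17346) (iv F22395)
theorem F28899 : act 4 n8667 = n6637 := d23_1 D8667 (iv D6637) D6636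
def n8668 : Q := act 7 n6637
theorem D8668 : act 7 n6637 = n8668 := rfl
theorem F28900 : act 0 n8668 = n6642 := d6_1 D8668 (iv D6642) (iv F22396)
theorem F28901 : act 2 n8668 = n6874 := d17_1 D8668 (iv D6874) (iv F22397)
def n8669 : Q := act 5 n6639
theorem D8669 : act 5 n6639 = n8669 := rfl
theorem F28902 : act 1 n8669 = n6670 := d10_1 D8669 (iv D6670) (iv F22401)
theorem F28903 : act 2 n8669 = n8669 := d15_1 D8669 (iv D8669) F22402
theorem F28904 : act 3 n8669 = n6640 := d19_1 D8669 (iv D6640) D6639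
def n8670 : Q := act 6 n6639
theorem D8670 : act 6 n6639 = n8670 := rfl
theorem F28905 : act 1 n8670 = n6671 := d11_1 D8670 (iv D6671) (iv F22401)
theorem F28906 : act 3 n8670 = n6641 := d20_1 D8670 (iv D6641) D6639
def n8672 : Q := act 7 n6641
theorem D8672 : act 7 n6641 = n8672 := rfl
theorem F28910 : act 1 n8672 = n6673 := d12_1 D8672 (iv D6673) (iv F22405)
def n8673 : Q := act 1 n6643
theorem D8673 : act 1 n6643 = n8673 := rfl
theorem F28913 : act 5 n8673 = n6656 := d10_2 (iv F22411) D8673 (iv D6656)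
theorem F28914 : act 7 n8673 = n6648 := d12_2 (iv F22412) D8673 (iv D6648)
def n8674 : Q := act 4 n6643
theorem D8674 : act 4 n6643 = n8674 := rfl
theorem F28916 : act 2 n8674 = n6644 := d14_1 D8674 (iv D6644) D6643
theorem F28917 : act 7 n8674 = n6649 := d24_2 (iv F22412) D8674 (iv D6649)
def n8675 : Q := act 6 n6643
theorem D8675 : act 6 n6643 = n8675 := rfl
theorem F28918 : act 0 n8675 = n6646 := d5_1 D8675 (iv D6646) (iv F22410)
theorem F28919 : act 2 n8675 = n7396 := d16_1 D8675 (iv D7396) (iv D5658) (iv F17356) D6643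
theorem F28920 : act 5 n8675 = n6658 := d25_1 D8675 (iv D6658) (iv F22411)
def n8676 : Q := act 5 n6644
theorem D8676 : act 5 n6644 = n8676 := rfl
theorem F28923 : act 4 n8676 = n6659 := d22_1 D8676 (iv D6659) (iv D5092) (iv F17355) D6644
theorem F28924 : act 6 n8676 = n7397 := d25_2 (iv F22415) D8676 (iv D7397)
theorem F28925 : act 7 n8676 = n6651 := d26_2 (iv F22416) D8676 (iv D6651)
def n8677 : Q := act 3 n6645
theorem D8677 : act 3 n6645 = n8677 := rfl
theorem F28927 : act 7 n8677 = n6652 := d21_2 (iv F22418) D8677 (iv D6652)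
def n8678 : Q := act 5 n6645
theorem D8678 : act 5 n6645 = n8678 := rfl
theorem F28928 : act 2 n8678 = n6647 := d15_1 D8678 (iv D6647) (iv F22417)
theorem F28929 : act 4 n8678 = n6661 := d22_1 D8678 (iv D6661) (iv D5093) (iv F17358) D6645
theorem F28930 : act 7 n8678 = n6653 := d26_2 (iv F22418) D8678 (iv D6653)
def n8679 : Q := act 6 n6645
theorem D8679 : act 6 n6645 = n8679 := rfl
theorem F28931 : act 2 n8679 = n7400 := d16_1 D8679 (iv D7400) F19224 (iv F17362) (iv F22417)
theorem F28932 : act 4 n8679 = n6646 := d23_1 D8679 (iv D6646) D6645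
def n8680 : Q := act 7 n6646
theorem D8680 : act 7 n6646 = n8680 := rfl
theorem F28933 : act 2 n8680 = n7401 := d17_1 D8680 (iv D7401) (iv F22419)
theorem F28935 : act 6 n8680 = n6655 := d27_1 D8680 (iv D6655) (iv D5089) (iv F17359) D6646
def n8681 : Q := act 4 n6648
theorem D8681 : act 4 n6648 = n8681 := rfl
theorem F28936 : act 1 n8681 = n6649 := d9_1 D8681 (iv D6649) D6648
def n8682 : Q := act 6 n6648
theorem D8682 : act 6 n6648 = n8682 := rfl
theorem F28937 : act 1 n8682 = n6650 := d11_1 D8682 (iv D6650) D6648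
def n8683 : Q := act 3 n6649
theorem D8683 : act 3 n6649 = n8683 := rfl
def n8684 : Q := act 5 n6649
theorem D8684 : act 5 n6649 = n8684 := rfl
theorem F28942 : act 2 n8684 = n6651 := d15_1 D8684 (iv D6651) (iv F22428)
theorem F28943 : act 4 n8684 = n6667 := d22_1 D8684 (iv D6667) (iv D5097) (iv F17369) D6649
def n8685 : Q := act 6 n6649
theorem D8685 : act 6 n6649 = n8685 := rfl
theorem F28945 : act 2 n8685 = n6690 := d16_1 D8685 (iv D6690) F17446 (iv F17372) (iv F22428)
def n8686 : Q := act 7 n6650
theorem D8686 : act 7 n6650 = n8686 := rfl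
def n8687 : Q := act 5 n6652
theorem D8687 : act 5 n6652 = n8687 := rfl
theorem F28951 : act 3 n8687 = n6653 := d19_1 D8687 (iv D6653) D6652
def n8688 : Q := act 6 n6652
theorem D8688 : act 6 n6652 = n8688 := rfl
theorem F28952 : act 3 n8688 = n6654 := d20_1 D8688 (iv D6654) D6652
def n8689 : Q := act 6 n6653
theorem D8689 : act 6 n6653 = n8689 := rfl
theorem F28955 : act 5 n8689 = n6654 := d25_1 D8689 (iv D6654) D6653
def n8690 : Q := act 7 n6654
theorem D8690 : act 7 n6654 = n8690 := rfl
def n8691 : Q := act 4 n6656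
theorem D8691 : act 4 n6656 = n8691 := rfl
theorem F28958 : act 1 n8691 = n6657 := d9_1 D8691 (iv D6657) D6656
theorem F28959 : act 7 n8691 = n6664 := d24_2 (iv F22443) D8691 (iv D6664)
def n8692 : Q := act 6 n6656
theorem D8692 : act 6 n6656 = n8692 := rfl
theorem F28960 : act 1 n8692 = n6658 := d11_1 D8692 (iv D6658) D6656
def n8693 : Q := act 3 n6657
theorem D8693 : act 3 n6657 = n8693 := rfl
theorem F28961 : act 0 n8693 = n6660 := d2_1 D8693 (iv D6660) (iv F22444)
theorem F28962 : act 2 n8693 = n6676 := d13_1 D8693 (iv D6676) F17409 (iv F17383) (iv F22445)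
theorem F28963 : act 7 n8693 = n6666 := d21_2 (iv F22446) D8693 (iv D6666)
def n8694 : Q := act 5 n6657
theorem D8694 : act 5 n6657 = n8694 := rfl
theorem F28964 : act 0 n8694 = n6661 := d4_1 D8694 (iv D6661) (iv F22444)
theorem F28965 : act 2 n8694 = n6659 := d15_1 D8694 (iv D6659) (iv F22445)
theorem F28966 : act 7 n8694 = n6667 := d26_2 (iv F22446) D8694 (iv D6667)
def n8695 : Q := act 6 n6657
theorem D8695 : act 6 n6657 = n8695 := rfl
theorem F28967 : act 0 n8695 = n6662 := d5_1 D8695 (iv D6662) (iv F22444)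
theorem F28968 : act 2 n8695 = n7416 := d16_1 D8695 (iv D7416) F19263 (iv F17384) (iv F22445)
theorem F28969 : act 4 n8695 = n6658 := d23_1 D8695 (iv D6658) D6657
def n8696 : Q := act 7 n6658
theorem D8696 : act 7 n6658 = n8696 := rfl
theorem F28970 : act 0 n8696 = n6663 := d6_1 D8696 (iv D6663) (iv F22447)
theorem F28971 : act 2 n8696 = n7417 := d17_1 D8696 (iv D7417) (iv F22448)
theorem F28972 : act 6 n8696 = n6669 := d27_1 D8696 (iv D6669) (iv D5098) (iv F17381) D6658
def n8697 : Q := act 5 n6660
theorem D8697 : act 5 n6660 = n8697 := rfl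
theorem F28973 : act 2 n8697 = n6679 := d15_1 D8697 (iv D6679) (iv F22453)
theorem F28974 : act 3 n8697 = n6661 := d19_1 D8697 (iv D6661) D6660
theorem F28975 : act 7 n8697 = n6670 := d26_2 (iv F22454) D8697 (iv D6670)
def n8698 : Q := act 6 n6660
theorem D8698 : act 6 n6660 = n8698 := rfl
theorem F28976 : act 3 n8698 = n6662 := d20_1 D8698 (iv D6662) D6660
def n8699 : Q := act 6 n6661
theorem D8699 : act 6 n6661 = n8699 := rfl
theorem F28977 : act 2 n8699 = n7420 := d16_1 D8699 (iv D7420) F19275 (iv F17391) (iv F22455)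
theorem F28978 : act 5 n8699 = n6662 := d25_1 D8699 (iv D6662) D6661
def n8700 : Q := act 7 n6662
theorem D8700 : act 7 n6662 = n8700 := rfl
theorem F28979 : act 2 n8700 = n7421 := d17_1 D8700 (iv D7421) (iv F22457)
theorem F28980 : act 4 n8700 = n6663 := d24_1 D8700 (iv D6663) (iv F22458)
theorem F28981 : act 6 n8700 = n6673 := d27_1 D8700 (iv D6673) (iv D5102) (iv F17387) D6662
def n8701 : Q := act 3 n6664
theorem D8701 : act 3 n6664 = n8701 := rfl
theorem F28982 : act 1 n8701 = n6666 := d8_1 D8701 (iv D6666) (iv F22461)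
def n8702 : Q := act 5 n6664
theorem D8702 : act 5 n6664 = n8702 := rfl
theorem F28983 : act 1 n8702 = n6667 := d10_1 D8702 (iv D6667) (iv F22461)
def n8703 : Q := act 6 n6664
theorem D8703 : act 6 n6664 = n8703 := rfl
theorem F28984 : act 1 n8703 = n6668 := d11_1 D8703 (iv D6668) (iv F22461)
theorem F28985 : act 4 n8703 = n6665 := d23_1 D8703 (iv D6665) D6664
def n8704 : Q := act 2 n6665
theorem D8704 : act 2 n6665 = n8704 := rfl
theorem F28986 : act 1 n8704 = n6698 := d7_1 D8704 (iv D6698) F17474 (iv F17396) (iv F22462)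
def n8705 : Q := act 7 n6665
theorem D8705 : act 7 n6665 = n8705 := rfl
theorem F28987 : act 1 n8705 = n6669 := d12_1 D8705 (iv D6669) (iv F22462)
def n8706 : Q := act 5 n6666
theorem D8706 : act 5 n6666 = n8706 := rfl
theorem F28988 : act 0 n8706 = n6670 := d4_1 D8706 (iv D6670) (iv F22463)
theorem F28989 : act 2 n8706 = n6684 := d15_1 D8706 (iv D6684) (iv F22464)
theorem F28990 : act 3 n8706 = n6667 := d19_1 D8706 (iv D6667) D6666
def n8707 : Q := act 6 n6666
theorem D8707 : act 6 n6666 = n8707 := rfl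
theorem F28991 : act 0 n8707 = n6671 := d5_1 D8707 (iv D6671) (iv F22463)
theorem F28992 : act 2 n8707 = n8707 := d16_1 D8707 (iv D8707) F22464 F17433 (iv F22464)
theorem F28993 : act 3 n8707 = n6668 := d20_1 D8707 (iv D6668) D6666
def n8708 : Q := act 6 n6667
theorem D8708 : act 6 n6667 = n8708 := rfl
theorem F28995 : act 2 n8708 = n6700 := d16_1 D8708 (iv D6700) F17477 (iv F17399) (iv F22466)
theorem F28996 : act 5 n8708 = n6668 := d25_1 D8708 (iv D6668) D6667
def n8709 : Q := act 7 n6668
theorem D8709 : act 7 n6668 = n8709 := rfl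
theorem F28997 : act 0 n8709 = n6673 := d6_1 D8709 (iv D6673) (iv F22467)
theorem F28998 : act 2 n8709 = n6701 := d17_1 D8709 (iv D6701) (iv F22468)
theorem F28999 : act 4 n8709 = n6669 := d24_1 D8709 (iv D6669) (iv F22469)
def n8710 : Q := act 4 n6670
theorem D8710 : act 4 n6670 = n8710 := rfl
def n8711 : Q := act 6 n6670
theorem D8711 : act 6 n6670 = n8711 := rfl
theorem F29002 : act 3 n8711 = n6672 := d20_1 D8711 (iv D6672) (iv F22473)
theorem F29003 : act 5 n8711 = n6671 := d25_1 D8711 (iv D6671) D6670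
def n8712 : Q := act 7 n6671
theorem D8712 : act 7 n6671 = n8712 := rfl
theorem F29004 : act 2 n8712 = n8712 := d17_1 D8712 (iv D8712) F22474
theorem F29005 : act 3 n8712 = n6673 := d21_1 D8712 (iv D6673) (iv F22475)
def n8713 : Q := act 7 n6672
theorem D8713 : act 7 n6672 = n8713 := rfl
theorem F29007 : act 5 n8713 = n6673 := d26_1 D8713 (iv D6673) (iv F22477)
def n8714 : Q := act 3 n6674
theorem D8714 : act 3 n6674 = n8714 := rfl
theorem F29008 : act 0 n8714 = n8714 := d2_1 D8714 (iv D8714) F22480
theorem F29009 : act 1 n8714 = n6676 := d8_1 D8714 (iv D6676) (iv F22481)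
theorem F29010 : act 7 n8714 = n6682 := d21_2 (iv F22482) D8714 (iv D6682)
def n8715 : Q := act 5 n6674
theorem D8715 : act 5 n6674 = n8715 := rfl
theorem F29012 : act 1 n8715 = n6677 := d10_1 D8715 (iv D6677) (iv F22481)
theorem F29014 : act 7 n8715 = n6683 := d26_2 (iv F22482) D8715 (iv D6683)
def n8716 : Q := act 6 n6674
theorem D8716 : act 6 n6674 = n8716 := rfl
theorem F29015 : act 0 n8716 = n8716 := d5_1 D8716 (iv D8716) F22480
theorem F29016 : act 1 n8716 = n6678 := d11_1 D8716 (iv D6678) (iv F22481)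
theorem F29017 : act 4 n8716 = n6675 := d23_1 D8716 (iv D6675) D6674
theorem F29018 : act 7 n8716 = n8716 := d27_2 (iv F22482) D8716 (iv D8716) F22482 F17431
def n8717 : Q := act 2 n6675
theorem D8717 : act 2 n6675 = n8717 := rfl
def n8718 : Q := act 5 n6676
theorem D8718 : act 5 n6676 = n8718 := rfl
theorem F29024 : act 3 n8718 = n6677 := d19_1 D8718 (iv D6677) D6676
theorem F29025 : act 7 n8718 = n6684 := d26_2 (iv F22488) D8718 (iv D6684)
def n8719 : Q := act 6 n6676
theorem D8719 : act 6 n6676 = n8719 := rfl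
theorem F29027 : act 3 n8719 = n6678 := d20_1 D8719 (iv D6678) D6676
def n8720 : Q := act 6 n6677
theorem D8720 : act 6 n6677 = n8720 := rfl
def n8721 : Q := act 4 n6679
theorem D8721 : act 4 n6679 = n8721 := rfl
def n8722 : Q := act 6 n6679
theorem D8722 : act 6 n6679 = n8722 := rfl
theorem F29038 : act 3 n8722 = n6681 := d20_1 D8722 (iv D6681) (iv F22498)
def n8723 : Q := act 2 n6680
theorem D8723 : act 2 n6680 = n8723 := rfl
def n8724 : Q := act 2 n6682
theorem D8724 : act 2 n6682 = n8724 := rfl
theorem F29043 : act 0 n8724 = n8724 := d1_1 D8724 (iv D8724) F22508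
def n8725 : Q := act 5 n6682
theorem D8725 : act 5 n6682 = n8725 := rfl
theorem F29045 : act 1 n8725 = n6684 := d10_1 D8725 (iv D6684) (iv F22509)
theorem F29046 : act 3 n8725 = n6683 := d19_1 D8725 (iv D6683) D6682
def n8728 : Q := act 5 n6686
theorem D8728 : act 5 n6686 = n8728 := rfl
theorem F29055 : act 0 n8728 = n6906 := d4_1 D8728 (iv D6906) (iv F22521)
theorem F29056 : act 1 n8728 = n6689 := d10_1 D8728 (iv D6689) (iv F22522)
theorem F29058 : act 7 n8728 = n7449 := d26_2 (iv F22523) D8728 (iv D7449)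
def n8729 : Q := act 6 n6686
theorem D8729 : act 6 n6686 = n8729 := rfl
theorem F29060 : act 1 n8729 = n6690 := d11_1 D8729 (iv D6690) (iv F22522)
def n8730 : Q := act 2 n6687
theorem D8730 : act 2 n6687 = n8730 := rfl
def n8731 : Q := act 7 n6687
theorem D8731 : act 7 n6687 = n8731 := rfl
theorem F29068 : act 6 n8731 = n7452 := d27_1 D8731 (iv D7452) (iv D5702) (iv F17444) D6687
def n8732 : Q := act 5 n6688
theorem D8732 : act 5 n6688 = n8732 := rfl
theorem F29069 : act 0 n8732 = n6692 := d4_1 D8732 (iv D6692) (iv F22528)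
def n8733 : Q := act 6 n6688
theorem D8733 : act 6 n6688 = n8733 := rfl
def n8734 : Q := act 6 n6689
theorem D8734 : act 6 n6689 = n8734 := rfl
def n8735 : Q := act 7 n6690
theorem D8735 : act 7 n6690 = n8735 := rfl
theorem F29082 : act 6 n8735 = n7456 := d27_1 D8735 (iv D7456) (iv D5705) (iv F17447) D6690
def n8736 : Q := act 6 n6692
theorem D8736 : act 6 n6692 = n8736 := rfl
theorem F29083 : act 1 n8736 = n6914 := d11_1 D8736 (iv D6914) (iv F22542)
theorem F29086 : act 5 n8736 = n6693 := d25_1 D8736 (iv D6693) D6692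
def n8738 : Q := act 7 n6693
theorem D8738 : act 7 n6693 = n8738 := rfl
theorem F29092 : act 6 n8738 = n7459 := d27_1 D8738 (iv D7459) (iv D5708) (iv F17458) D6693
def n8741 : Q := act 2 n6697
theorem D8741 : act 2 n6697 = n8741 := rfl
def n8745 : Q := act 7 n6700
theorem D8745 : act 7 n6700 = n8745 := rfl
theorem F29114 : act 5 n8745 = n6701 := d26_1 D8745 (iv D6701) (iv F22571)
theorem F29115 : act 6 n8745 = n7466 := d27_1 D8745 (iv D7466) (iv D5715) (iv F17479) D6700
def n8748 : Q := act 2 n6704
theorem D8748 : act 2 n6704 = n8748 := rfl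
def n8752 : Q := act 2 n6707
theorem D8752 : act 2 n6707 = n8752 := rfl
def n8753 : Q := act 7 n6707
theorem D8753 : act 7 n6707 = n8753 := rfl
theorem F29143 : act 0 n8753 = n6710 := d6_1 D8753 (iv D6710) (iv F22595)
theorem F29144 : act 3 n8753 = n6708 := d21_1 D8753 (iv D6708) (iv F22596)
theorem F29146 : act 6 n8753 = n7474 := d27_1 D8753 (iv D7474) (iv D5722) (iv F17504) D6707
def n8755 : Q := act 7 n6709
theorem D8755 : act 7 n6709 = n8755 := rfl
theorem F29150 : act 2 n8755 = n6710 := d17_1 D8755 (iv D6710) D6709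
def n8773 : Q := act 3 n6722
theorem D8773 : act 3 n6722 = n8773 := rfl
theorem F29218 : act 5 n8773 = n6728 := d19_2 (iv F22651) D8773 (iv D6728)
theorem F29219 : act 6 n8773 = n6735 := d20_2 (iv F22652) D8773 (iv D6735)
def n8774 : Q := act 2 n6723
theorem D8774 : act 2 n6723 = n8774 := rfl
theorem F29221 : act 5 n8774 = n6729 := d15_2 (iv F22654) D8774 (iv D6729)
def n8781 : Q := act 2 n6728
theorem D8781 : act 2 n6728 = n8781 := rfl
theorem F29243 : act 0 n8781 = n6729 := d1_1 D8781 (iv D6729) (iv F22671)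
def n8782 : Q := act 4 n6728
theorem D8782 : act 4 n6728 = n8782 := rfl
theorem F29244 : act 0 n8782 = n6730 := d3_1 D8782 (iv D6730) (iv F22671)
theorem F29245 : act 1 n8782 = n8782 := d9_1 D8782 (iv D8782) F22672
theorem F29246 : act 3 n8782 = n8782 := d18_1 D8782 (iv D8782) (iv D6728) F17564 D6728
theorem F29247 : act 6 n8782 = n6740 := d23_2 (iv F22673) D8782 (iv D6740)
def n8783 : Q := act 4 n6729
theorem D8783 : act 4 n6729 = n8783 := rfl
theorem F29249 : act 2 n8783 = n6730 := d14_1 D8783 (iv D6730) D6729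
def n8785 : Q := act 5 n6730
theorem D8785 : act 5 n6730 = n8785 := rfl
theorem F29254 : act 6 n8785 = n6743 := d25_2 (iv F22677) D8785 (iv D6743)
def n8790 : Q := act 2 n6735
theorem D8790 : act 2 n6735 = n8790 := rfl
theorem F29271 : act 0 n8790 = n6736 := d1_1 D8790 (iv D6736) (iv F22694)
theorem F29272 : act 3 n8790 = n6771 := d13_2 D6735 D8790 (iv D6771) (iv D5181) (iv F17581)
theorem F29273 : act 5 n8790 = n6739 := d15_2 (iv F22696) D8790 (iv D6739)
theorem F29274 : act 7 n8790 = n8790 := d17_2 F22697 D8790 (iv D8790)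
def n8791 : Q := act 4 n6735
theorem D8791 : act 4 n6735 = n8791 := rfl
def n8792 : Q := act 4 n6736
theorem D8792 : act 4 n6736 = n8792 := rfl
theorem F29279 : act 2 n8792 = n6737 := d14_1 D8792 (iv D6737) D6736
def n8795 : Q := act 1 n6739
theorem D8795 : act 1 n6739 = n8795 := rfl
theorem F29287 : act 0 n8795 = n6749 := d0_1 D8795 (iv D6749) F17620 (iv F17593) (iv F22708)
theorem F29289 : act 3 n8795 = n6776 := d8_2 (iv F22709) D8795 (iv D6776)
def n8796 : Q := act 4 n6739
theorem D8796 : act 4 n6739 = n8796 := rfl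
theorem F29291 : act 0 n8796 = n6741 := d3_1 D8796 (iv D6741) (iv F22708)
theorem F29292 : act 2 n8796 = n6740 := d14_1 D8796 (iv D6740) D6739
def n8797 : Q := act 6 n6739
theorem D8797 : act 6 n6739 = n8797 := rfl
def n8798 : Q := act 5 n6740
theorem D8798 : act 5 n6740 = n8798 := rfl
def n8799 : Q := act 3 n6741
theorem D8799 : act 3 n6741 = n8799 := rfl
theorem F29300 : act 1 n8799 = n6753 := d8_1 D8799 (iv D6753) (iv F22715)
def n8800 : Q := act 5 n6741
theorem D8800 : act 5 n6741 = n8800 := rfl
theorem F29305 : act 2 n8800 = n6743 := d15_1 D8800 (iv D6743) (iv F22716)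
def n8801 : Q := act 6 n6741
theorem D8801 : act 6 n6741 = n8801 := rfl
def n8803 : Q := act 1 n6744
theorem D8803 : act 1 n6744 = n8803 := rfl
theorem F29314 : act 5 n8803 = n6749 := d10_2 (iv F22725) D8803 (iv D6749)
def n8807 : Q := act 3 n6746
theorem D8807 : act 3 n6746 = n8807 := rfl
theorem F29329 : act 2 n8807 = n6985 := d13_1 D8807 (iv D6985) F18203 (iv F17612) (iv F22732)
theorem F29330 : act 4 n8807 = n6788 := d18_2 D6746 D8807 (iv D6788) (iv D5192) (iv F17608)
def n8817 : Q := act 5 n6753
theorem D8817 : act 5 n6753 = n8817 := rfl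
theorem F29360 : act 2 n8817 = n6763 := d15_1 D8817 (iv D6763) (iv F22756)
def n8818 : Q := act 6 n6753
theorem D8818 : act 6 n6753 = n8818 := rfl
def n8831 : Q := act 6 n6763
theorem D8831 : act 6 n6763 = n8831 := rfl
theorem F29411 : act 3 n8831 = n6765 := d20_1 D8831 (iv D6765) (iv F22790)
def n8832 : Q := act 2 n6764
theorem D8832 : act 2 n6764 = n8832 := rfl
def n8833 : Q := act 7 n6764
theorem D8833 : act 7 n6764 = n8833 := rfl
theorem F29416 : act 3 n8833 = n6766 := d21_1 D8833 (iv D6766) (iv F22793)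
def n8834 : Q := act 7 n6765
theorem D8834 : act 7 n6765 = n8834 := rfl
theorem F29421 : act 4 n8834 = n7012 := d24_1 D8834 (iv D7012) (iv F22797)
def n8836 : Q := act 4 n6767
theorem D8836 : act 4 n6767 = n8836 := rfl
theorem F29427 : act 0 n8836 = n6769 := d3_1 D8836 (iv D6769) (iv F22803)
theorem F29428 : act 1 n8836 = n6857 := d9_1 D8836 (iv D6857) (iv F22804)
def n8839 : Q := act 5 n6769
theorem D8839 : act 5 n6769 = n8839 := rfl
theorem F29436 : act 1 n8839 = n6770 := d10_1 D8839 (iv D6770) (iv F22810)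
def n8840 : Q := act 1 n6771
theorem D8840 : act 1 n6771 = n8840 := rfl
theorem F29441 : act 2 n8840 = n6861 := d7_2 D6771 D8840 (iv D6861) (iv D5249) (iv F17680)
def n8841 : Q := act 4 n6771
theorem D8841 : act 4 n6771 = n8841 := rfl
theorem F29444 : act 0 n8841 = n6773 := d3_1 D8841 (iv D6773) (iv F22818)
theorem F29445 : act 2 n8841 = n6772 := d14_1 D8841 (iv D6772) D6771
def n8842 : Q := act 6 n6771
theorem D8842 : act 6 n6771 = n8842 := rfl
def n8843 : Q := act 5 n6772
theorem D8843 : act 5 n6772 = n8843 := rfl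
theorem F29449 : act 0 n8843 = n6775 := d4_1 D8843 (iv D6775) (iv F22821)
theorem F29450 : act 1 n8843 = n6864 := d10_1 D8843 (iv D6864) (iv F22822)
def n8844 : Q := act 3 n6773
theorem D8844 : act 3 n6773 = n8844 := rfl
theorem F29453 : act 1 n8844 = n6788 := d8_1 D8844 (iv D6788) (iv F22824)
def n8851 : Q := act 5 n6777
theorem D8851 : act 5 n6777 = n8851 := rfl
theorem F29473 : act 0 n8851 = n6781 := d4_1 D8851 (iv D6781) (iv F22835)
def n8870 : Q := act 6 n6792
theorem D8870 : act 6 n6792 = n8870 := rfl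
theorem F29525 : act 1 n8870 = n6796 := d11_1 D8870 (iv D6796) (iv F22878)
def n8897 : Q := act 3 n6815
theorem D8897 : act 3 n6815 = n8897 := rfl
theorem F29604 : act 1 n8897 = n6817 := d8_1 D8897 (iv D6817) (iv F22948)
def n8898 : Q := act 5 n6815
theorem D8898 : act 5 n6815 = n8898 := rfl
theorem F29607 : act 1 n8898 = n6818 := d10_1 D8898 (iv D6818) (iv F22948)
theorem F29609 : act 4 n8898 = n6826 := d22_1 D8898 (iv D6826) (iv D5221) (iv F17778) D6815
def n8902 : Q := act 5 n6817
theorem D8902 : act 5 n6817 = n8902 := rfl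
theorem F29620 : act 2 n8902 = n7080 := d15_1 D8902 (iv D7080) (iv F22955)
def n8906 : Q := act 4 n6821
theorem D8906 : act 4 n6821 = n8906 := rfl
theorem F29632 : act 2 n8906 = n7084 := d14_1 D8906 (iv D7084) (iv F22968)
def n8913 : Q := act 6 n6826
theorem D8913 : act 6 n6826 = n8913 := rfl
theorem F29654 : act 5 n8913 = n6827 := d25_1 D8913 (iv D6827) D6826
def n8914 : Q := act 2 n6827
theorem D8914 : act 2 n6827 = n8914 := rfl
def n8918 : Q := act 4 n6830
theorem D8918 : act 4 n6830 = n8918 := rfl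
theorem F29664 : act 2 n8918 = n6839 := d14_1 D8918 (iv D6839) (iv F22991)
def n8920 : Q := act 2 n6831
theorem D8920 : act 2 n6831 = n8920 := rfl
theorem F29672 : act 6 n8920 = n6841 := d16_2 D6831 D8920 (iv D6841) (iv D5232) (iv F17807)
def n8928 : Q := act 6 n6839
theorem D8928 : act 6 n6839 = n8928 := rfl
theorem F29693 : act 3 n8928 = n7106 := d20_1 D8928 (iv D7106) (iv F23016)
def n8932 : Q := act 7 n6841
theorem D8932 : act 7 n6841 = n8932 := rfl
theorem F29706 : act 2 n8932 = n6842 := d17_1 D8932 (iv D6842) D6841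
def n8934 : Q := act 7 n6844
theorem D8934 : act 7 n6844 = n8934 := rfl
theorem F29711 : act 3 n8934 = n7112 := d21_1 D8934 (iv D7112) (iv F23036)
theorem F29714 : act 6 n8934 = n7517 := d27_1 D8934 (iv D7517) (iv D5757) (iv F17845) D6844
def n8949 : Q := act 4 n6856
theorem D8949 : act 4 n6856 = n8949 := rfl
theorem F29757 : act 0 n8949 = n6858 := d3_1 D8949 (iv D6858) (iv F23072)
theorem F29758 : act 2 n8949 = n6857 := d14_1 D8949 (iv D6857) D6856
def n8951 : Q := act 5 n6857
theorem D8951 : act 5 n6857 = n8951 := rfl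
def n8953 : Q := act 5 n6858
theorem D8953 : act 5 n6858 = n8953 := rfl
theorem F29772 : act 2 n8953 = n6860 := d15_1 D8953 (iv D6860) (iv F23080)
def n8954 : Q := act 6 n6858
theorem D8954 : act 6 n6858 = n8954 := rfl
def n8956 : Q := act 4 n6861
theorem D8956 : act 4 n6861 = n8956 := rfl
theorem F29781 : act 0 n8956 = n6879 := d3_1 D8956 (iv D6879) (iv F23089)
def n8961 : Q := act 7 n6863
theorem D8961 : act 7 n6863 = n8961 := rfl
theorem F29799 : act 5 n8961 = n6874 := d26_1 D8961 (iv D6874) (iv F23098)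
def n8964 : Q := act 6 n6866
theorem D8964 : act 6 n6866 = n8964 := rfl
def n8968 : Q := act 6 n6869
theorem D8968 : act 6 n6869 = n8968 := rfl
theorem F29820 : act 0 n8968 = n6891 := d5_1 D8968 (iv D6891) (iv F23115)
theorem F29821 : act 1 n8968 = n6873 := d11_1 D8968 (iv D6873) (iv F23116)
theorem F29822 : act 4 n8968 = n6870 := d23_1 D8968 (iv D6870) D6869
def n8969 : Q := act 2 n6870
theorem D8969 : act 2 n6870 = n8969 := rfl
theorem F29823 : act 0 n8969 = n6892 := d1_1 D8969 (iv D6892) (iv F23118)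
def n8970 : Q := act 7 n6870
theorem D8970 : act 7 n6870 = n8970 := rfl
theorem F29825 : act 1 n8970 = n6874 := d12_1 D8970 (iv D6874) (iv F23119)
def n8972 : Q := act 6 n6871
theorem D8972 : act 6 n6871 = n8972 := rfl
theorem F29833 : act 3 n8972 = n6873 := d20_1 D8972 (iv D6873) D6871
def n8973 : Q := act 6 n6872
theorem D8973 : act 6 n6872 = n8973 := rfl
def n8974 : Q := act 7 n6873
theorem D8974 : act 7 n6873 = n8974 := rfl
def n8980 : Q := act 3 n6879
theorem D8980 : act 3 n6879 = n8980 := rfl
theorem F29857 : act 1 n8980 = n6881 := d8_1 D8980 (iv D6881) (iv F23145)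
def n8981 : Q := act 5 n6879
theorem D8981 : act 5 n6879 = n8981 := rfl
theorem F29860 : act 1 n8981 = n6882 := d10_1 D8981 (iv D6882) (iv F23145)
def n8985 : Q := act 5 n6881
theorem D8985 : act 5 n6881 = n8985 := rfl
theorem F29872 : act 2 n8985 = n7163 := d15_1 D8985 (iv D7163) (iv F23151)
theorem F29873 : act 3 n8985 = n6882 := d19_1 D8985 (iv D6882) D6881
def n8998 : Q := act 2 n6891
theorem D8998 : act 2 n6891 = n8998 := rfl
theorem F29913 : act 1 n8998 = n6919 := d7_1 D8998 (iv D6919) F18034 (iv F17966) (iv F23182)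
theorem F29914 : act 4 n8998 = n6892 := d14_2 (iv F23183) D8998 (iv D6892)
def n9002 : Q := act 4 n6894
theorem D9002 : act 4 n6894 = n9002 := rfl
def n9010 : Q := act 4 n6903
theorem D9010 : act 4 n6903 = n9010 := rfl
theorem F29954 : act 3 n9010 = n7188 := d18_1 D9010 (iv D7188) F18708 (iv F17990) (iv F23221)
def n9014 : Q := act 6 n6906
theorem D9014 : act 6 n6906 = n9014 := rfl
theorem F29970 : act 5 n9014 = n6907 := d25_1 D9014 (iv D6907) D6906
def n9015 : Q := act 2 n6907
theorem D9015 : act 2 n6907 = n9015 := rfl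
def n9023 : Q := act 2 n6914
theorem D9023 : act 2 n6914 = n9023 := rfl
theorem F29996 : act 6 n9023 = n7201 := d16_2 D6914 D9023 (iv D7201) (iv D5512) (iv F18021)
def n9028 : Q := act 7 n6918
theorem D9028 : act 7 n6918 = n9028 := rfl
theorem F30009 : act 6 n9028 = n7548 := d27_1 D9028 (iv D7548) (iv D5782) (iv F18033) D6918
def n9029 : Q := act 3 n6919
theorem D9029 : act 3 n6919 = n9029 := rfl
def n9030 : Q := act 7 n6919
theorem D9030 : act 7 n6919 = n9030 := rfl
def n9045 : Q := act 7 n6932
theorem D9045 : act 7 n6932 = n9045 := rfl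
theorem F30051 : act 1 n9045 = n6933 := d12_1 D9045 (iv D6933) D6932
def n9046 : Q := act 6 n6933
theorem D9046 : act 6 n6933 = n9046 := rfl
theorem F30054 : act 2 n9046 = n7566 := d16_1 D9046 (iv D7566) F19637 (iv F18075) (iv F23313)
def n9100 : Q := act 4 n6973
theorem D9100 : act 4 n6973 = n9100 := rfl
theorem F30242 : act 0 n9100 = n6989 := d3_1 D9100 (iv D6989) (iv F23455)
def n9101 : Q := act 6 n6973
theorem D9101 : act 6 n6973 = n9101 := rfl
theorem F30248 : act 3 n9101 = n7027 := d20_1 D9101 (iv D7027) (iv F23457)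
def n9107 : Q := act 6 n6977
theorem D9107 : act 6 n6977 = n9107 := rfl
theorem F30265 : act 1 n9107 = n6996 := d11_1 D9107 (iv D6996) (iv F23468)
theorem F30267 : act 4 n9107 = n7033 := d23_1 D9107 (iv D7033) (iv F23470)
def n9112 : Q := act 3 n6982
theorem D9112 : act 3 n6982 = n9112 := rfl
theorem F30280 : act 4 n9112 = n7038 := d18_2 D6982 D9112 (iv D7038) (iv D5383) (iv F18196)
def n9113 : Q := act 5 n6982
theorem D9113 : act 5 n6982 = n9113 := rfl
theorem F30284 : act 4 n9113 = n6992 := d22_1 D9113 (iv D6992) (iv D5348) (iv F18197) D6982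
def n9116 : Q := act 5 n6985
theorem D9116 : act 5 n6985 = n9116 := rfl
theorem F30294 : act 3 n9116 = n6986 := d19_1 D9116 (iv D6986) D6985
def n9117 : Q := act 6 n6985
theorem D9117 : act 6 n6985 = n9117 := rfl
theorem F30296 : act 3 n9117 = n6987 := d20_1 D9117 (iv D6987) D6985
def n9118 : Q := act 6 n6986
theorem D9118 : act 6 n6986 = n9118 := rfl
theorem F30299 : act 4 n9118 = n6997 := d23_1 D9118 (iv D6997) (iv F23499)
theorem F30300 : act 5 n9118 = n6987 := d25_1 D9118 (iv D6987) D6986
def n9119 : Q := act 7 n6987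
theorem D9119 : act 7 n6987 = n9119 := rfl
def n9120 : Q := act 3 n6989
theorem D9120 : act 3 n6989 = n9120 := rfl
theorem F30304 : act 1 n9120 = n6991 := d8_1 D9120 (iv D6991) (iv F23507)
theorem F30305 : act 4 n9120 = n7046 := d18_2 D6989 D9120 (iv D7046) (iv D5390) (iv F18213)
def n9122 : Q := act 6 n6989
theorem D9122 : act 6 n6989 = n9122 := rfl
def n9125 : Q := act 5 n6991
theorem D9125 : act 5 n6991 = n9125 := rfl
theorem F30318 : act 2 n9125 = n7004 := d15_1 D9125 (iv D7004) (iv F23513)
theorem F30319 : act 3 n9125 = n6992 := d19_1 D9125 (iv D6992) D6991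
def n9126 : Q := act 6 n6991
theorem D9126 : act 6 n6991 = n9126 := rfl
theorem F30322 : act 3 n9126 = n6993 := d20_1 D9126 (iv D6993) D6991
def n9129 : Q := act 4 n6995
theorem D9129 : act 4 n6995 = n9129 := rfl
theorem F30331 : act 2 n9129 = n7008 := d14_1 D9129 (iv D7008) (iv F23526)
def n9130 : Q := act 6 n6995
theorem D9130 : act 6 n6995 = n9130 := rfl
theorem F30334 : act 3 n9130 = n6997 := d20_1 D9130 (iv D6997) (iv F23527)
def n9131 : Q := act 2 n6996
theorem D9131 : act 2 n6996 = n9131 := rfl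
theorem F30338 : act 6 n9131 = n7010 := d16_2 D6996 D9131 (iv D7010) (iv D5362) (iv F18226)
def n9132 : Q := act 7 n6996
theorem D9132 : act 7 n6996 = n9132 := rfl
theorem F30339 : act 3 n9132 = n6998 := d21_1 D9132 (iv D6998) (iv F23529)
def n9133 : Q := act 7 n6997
theorem D9133 : act 7 n6997 = n9133 := rfl
def n9134 : Q := act 2 n6999
theorem D9134 : act 2 n6999 = n9134 := rfl
theorem F30347 : act 4 n9134 = n7060 := d14_2 (iv F23538) D9134 (iv D7060)
def n9135 : Q := act 5 n6999
theorem D9135 : act 5 n6999 = n9135 := rfl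
def n9136 : Q := act 6 n6999
theorem D9136 : act 6 n6999 = n9136 := rfl
theorem F30354 : act 1 n9136 = n7005 := d11_1 D9136 (iv D7005) (iv F23537)
theorem F30355 : act 3 n9136 = n7001 := d20_1 D9136 (iv D7001) D6999
theorem F30356 : act 4 n9136 = n7062 := d23_1 D9136 (iv D7062) (iv F23538)
def n9139 : Q := act 7 n7001
theorem D9139 : act 7 n7001 = n9139 := rfl
theorem F30366 : act 4 n9139 = n7003 := d24_1 D9139 (iv D7003) (iv F23546)
def n9141 : Q := act 4 n7004
theorem D9141 : act 4 n7004 = n9141 := rfl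
def n9142 : Q := act 6 n7004
theorem D9142 : act 6 n7004 = n9142 := rfl
theorem F30376 : act 3 n9142 = n7006 := d20_1 D9142 (iv D7006) (iv F23556)
theorem F30377 : act 5 n9142 = n7005 := d25_1 D9142 (iv D7005) D7004
def n9143 : Q := act 2 n7005
theorem D9143 : act 2 n7005 = n9143 := rfl
theorem F30378 : act 0 n9143 = n7010 := d1_1 D9143 (iv D7010) (iv F23558)
def n9144 : Q := act 7 n7005
theorem D9144 : act 7 n7005 = n9144 := rfl
theorem F30381 : act 0 n9144 = n7011 := d6_1 D9144 (iv D7011) (iv F23558)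
theorem F30382 : act 3 n9144 = n7007 := d21_1 D9144 (iv D7007) (iv F23559)
def n9145 : Q := act 7 n7006
theorem D9145 : act 7 n7006 = n9145 := rfl
theorem F30387 : act 5 n9145 = n7007 := d26_1 D9145 (iv D7007) (iv F23563)
def n9146 : Q := act 6 n7008
theorem D9146 : act 6 n7008 = n9146 := rfl
theorem F30390 : act 4 n9146 = n7009 := d23_1 D9146 (iv D7009) D7008
def n9147 : Q := act 2 n7009
theorem D9147 : act 2 n7009 = n9147 := rfl
theorem F30393 : act 5 n9147 = n7010 := d15_2 (iv F23573) D9147 (iv D7010)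
def n9148 : Q := act 7 n7009
theorem D9148 : act 7 n7009 = n9148 := rfl
theorem F30395 : act 3 n9148 = n7012 := d21_1 D9148 (iv D7012) (iv F23572)
theorem F30396 : act 5 n9148 = n7011 := d26_1 D9148 (iv D7011) (iv F23573)
def n9150 : Q := act 7 n7010
theorem D9150 : act 7 n7010 = n9150 := rfl
def n9169 : Q := act 3 n7026
theorem D9169 : act 3 n7026 = n9169 := rfl
theorem F30462 : act 0 n9169 = n7046 := d2_1 D9169 (iv D7046) (iv F23629)
theorem F30463 : act 1 n9169 = n7028 := d8_1 D9169 (iv D7028) (iv F23630)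
def n9171 : Q := act 6 n7026
theorem D9171 : act 6 n7026 = n9171 := rfl
theorem F30470 : act 1 n9171 = n7030 := d11_1 D9171 (iv D7030) (iv F23630)
def n9172 : Q := act 2 n7027
theorem D9172 : act 2 n7027 = n9172 := rfl
theorem F30474 : act 6 n9172 = n7147 := d16_2 D7027 D9172 (iv D7147) (iv D5468) (iv F18303)
def n9175 : Q := act 6 n7028
theorem D9175 : act 6 n7028 = n9175 := rfl
theorem F30482 : act 0 n9175 = n7033 := d5_1 D9175 (iv D7033) (iv F23635)
def n9179 : Q := act 6 n7032
theorem D9179 : act 6 n7032 = n9179 := rfl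
theorem F30494 : act 1 n9179 = n7056 := d11_1 D9179 (iv D7056) (iv F23647)
theorem F30496 : act 5 n9179 = n7033 := d25_1 D9179 (iv D7033) D7032
def n9180 : Q := act 2 n7033
theorem D9180 : act 2 n7033 = n9180 := rfl
def n9183 : Q := act 3 n7036
theorem D9183 : act 3 n7036 = n9183 := rfl
theorem F30506 : act 1 n9183 = n7038 := d8_1 D9183 (iv D7038) (iv F23660)
def n9185 : Q := act 6 n7036
theorem D9185 : act 6 n7036 = n9185 := rfl
theorem F30512 : act 1 n9185 = n7040 := d11_1 D9185 (iv D7040) (iv F23660)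
def n9189 : Q := act 6 n7038
theorem D9189 : act 6 n7038 = n9189 := rfl
theorem F30523 : act 0 n9189 = n7043 := d5_1 D9189 (iv D7043) (iv F23665)
theorem F30524 : act 3 n9189 = n7040 := d20_1 D9189 (iv D7040) D7038
def n9191 : Q := act 7 n7040
theorem D9191 : act 7 n7040 = n9191 := rfl
theorem F30529 : act 0 n9191 = n7045 := d6_1 D9191 (iv D7045) (iv F23671)
def n9192 : Q := act 4 n7042
theorem D9192 : act 4 n7042 = n9192 := rfl
theorem F30533 : act 3 n9192 = n7055 := d18_1 D9192 (iv D7055) F18367 (iv F18343) (iv F23678)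
def n9193 : Q := act 6 n7042
theorem D9193 : act 6 n7042 = n9193 := rfl
theorem F30535 : act 3 n9193 = n7044 := d20_1 D9193 (iv D7044) (iv F23678)
def n9194 : Q := act 2 n7043
theorem D9194 : act 2 n7043 = n9194 := rfl
def n9195 : Q := act 7 n7043
theorem D9195 : act 7 n7043 = n9195 := rfl
theorem F30538 : act 3 n9195 = n7045 := d21_1 D9195 (iv D7045) (iv F23680)
def n9197 : Q := act 2 n7046
theorem D9197 : act 2 n7046 = n9197 := rfl
theorem F30544 : act 1 n9197 = n7060 := d7_1 D9197 (iv D7060) F18376 (iv F18355) (iv F23687)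
theorem F30545 : act 3 n9197 = n7172 := d13_2 D7046 D9197 (iv D7172) (iv D5487) (iv F18351)
def n9198 : Q := act 5 n7046
theorem D9198 : act 5 n7046 = n9198 := rfl
theorem F30547 : act 1 n9198 = n7051 := d10_1 D9198 (iv D7051) (iv F23687)
theorem F30548 : act 3 n9198 = n7047 := d19_1 D9198 (iv D7047) D7046
def n9199 : Q := act 6 n7046
theorem D9199 : act 6 n7046 = n9199 := rfl
theorem F30550 : act 1 n9199 = n7052 := d11_1 D9199 (iv D7052) (iv F23687)
theorem F30551 : act 3 n9199 = n7048 := d20_1 D9199 (iv D7048) D7046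
def n9200 : Q := act 6 n7047
theorem D9200 : act 6 n7047 = n9200 := rfl
def n9201 : Q := act 2 n7048
theorem D9201 : act 2 n7048 = n9201 := rfl
theorem F30556 : act 6 n9201 = n7176 := d16_2 D7048 D9201 (iv D7176) (iv D5489) (iv F18351)
def n9206 : Q := act 6 n7051
theorem D9206 : act 6 n7051 = n9206 := rfl
def n9207 : Q := act 2 n7052
theorem D9207 : act 2 n7052 = n9207 := rfl
theorem F30572 : act 6 n9207 = n7067 := d16_2 D7052 D9207 (iv D7067) (iv D5405) (iv F18355)
def n9210 : Q := act 6 n7055
theorem D9210 : act 6 n7055 = n9210 := rfl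
def n9211 : Q := act 2 n7056
theorem D9211 : act 2 n7056 = n9211 := rfl
theorem F30581 : act 3 n9211 = n7102 := d13_2 (iv F23713) D9211 (iv D7102) F18483 (iv F18370)
theorem F30583 : act 6 n9211 = n7071 := d16_2 D7056 D9211 (iv D7071) (iv D5409) (iv F18366)
def n9213 : Q := act 1 n7057
theorem D9213 : act 1 n7057 = n9213 := rfl
theorem F30588 : act 6 n9213 = n7073 := d11_2 (iv F23716) D9213 (iv D7073)
def n9215 : Q := act 5 n7060
theorem D9215 : act 5 n7060 = n9215 := rfl
theorem F30593 : act 3 n9215 = n7186 := d19_1 D9215 (iv D7186) (iv F23723)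
def n9216 : Q := act 6 n7060
theorem D9216 : act 6 n7060 = n9216 := rfl
theorem F30596 : act 3 n9216 = n7187 := d20_1 D9216 (iv D7187) (iv F23723)
def n9218 : Q := act 6 n7061
theorem D9218 : act 6 n7061 = n9218 := rfl
theorem F30601 : act 1 n9218 = n7066 := d11_1 D9218 (iv D7066) (iv F23726)
theorem F30603 : act 5 n9218 = n7062 := d25_1 D9218 (iv D7062) D7061
def n9219 : Q := act 2 n7062
theorem D9219 : act 2 n7062 = n9219 := rfl
def n9220 : Q := act 7 n7062
theorem D9220 : act 7 n7062 = n9220 := rfl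
theorem F30607 : act 1 n9220 = n7068 := d12_1 D9220 (iv D7068) (iv F23730)
def n9223 : Q := act 2 n7066
theorem D9223 : act 2 n7066 = n9223 := rfl
theorem F30619 : act 5 n9223 = n7067 := d15_2 (iv F23745) D9223 (iv D7067)
def n9224 : Q := act 7 n7066
theorem D9224 : act 7 n7066 = n9224 := rfl
theorem F30620 : act 0 n9224 = n7072 := d6_1 D9224 (iv D7072) (iv F23743)
def n9225 : Q := act 1 n7067
theorem D9225 : act 1 n7067 = n9225 := rfl
theorem F30624 : act 3 n9225 = n7109 := d8_2 (iv F23747) D9225 (iv D7109)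
def n9226 : Q := act 7 n7067
theorem D9226 : act 7 n7067 = n9226 := rfl
theorem F30625 : act 0 n9226 = n7074 := d6_1 D9226 (iv D7074) (iv F23746)
theorem F30627 : act 3 n9226 = n7110 := d21_1 D9226 (iv D7110) (iv F23747)
def n9227 : Q := act 2 n7070
theorem D9227 : act 2 n7070 = n9227 := rfl
theorem F30628 : act 4 n9227 = n7071 := d14_2 (iv F23756) D9227 (iv D7071)
def n9229 : Q := act 1 n7071
theorem D9229 : act 1 n7071 = n9229 := rfl
theorem F30634 : act 5 n9229 = n7073 := d10_2 (iv F23758) D9229 (iv D7073)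
def n9230 : Q := act 7 n7071
theorem D9230 : act 7 n7071 = n9230 := rfl
theorem F30637 : act 5 n9230 = n7074 := d26_1 D9230 (iv D7074) (iv F23758)
def n9231 : Q := act 0 n7073
theorem D9231 : act 0 n7073 = n9231 := rfl
theorem F30639 : act 3 n9231 = n7115 := d2_2 (iv F23764) D9231 (iv D7115)
def n9232 : Q := act 7 n7073
theorem D9232 : act 7 n7073 = n9232 := rfl
theorem F30642 : act 3 n9232 = n7116 := d21_1 D9232 (iv D7116) (iv F23764)
def n9238 : Q := act 2 n7077
theorem D9238 : act 2 n7077 = n9238 := rfl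
theorem F30663 : act 6 n9238 = n7193 := d16_2 D7077 D9238 (iv D7193) (iv D5505) (iv F18417)
def n9241 : Q := act 7 n7078
theorem D9241 : act 7 n7078 = n9241 := rfl
theorem F30673 : act 2 n9241 = n7079 := d17_1 D9241 (iv D7079) D7078
def n9242 : Q := act 4 n7080
theorem D9242 : act 4 n7080 = n9242 := rfl
theorem F30676 : act 3 n9242 = n7096 := d18_1 D9242 (iv D7096) F18468 (iv F18428) (iv F23788)
def n9247 : Q := act 6 n7084
theorem D9247 : act 6 n7084 = n9247 := rfl
theorem F30693 : act 3 n9247 = n7101 := d20_1 D9247 (iv D7101) (iv F23800)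
theorem F30694 : act 4 n9247 = n7085 := d23_1 D9247 (iv D7085) D7084
def n9248 : Q := act 2 n7085
theorem D9248 : act 2 n7085 = n9248 := rfl
def n9253 : Q := act 6 n7089
theorem D9253 : act 6 n7089 = n9253 := rfl
theorem F30711 : act 1 n9253 = n7097 := d11_1 D9253 (iv D7097) (iv F23816)
theorem F30712 : act 3 n9253 = n7091 := d20_1 D9253 (iv D7091) (iv F23818)
def n9254 : Q := act 2 n7090
theorem D9254 : act 2 n7090 = n9254 := rfl
def n9256 : Q := act 2 n7091
theorem D9256 : act 2 n7091 = n9256 := rfl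
theorem F30724 : act 6 n9256 = n7205 := d16_2 D7091 D9256 (iv D7205) (iv D5516) (iv F18455)
def n9258 : Q := act 3 n7092
theorem D9258 : act 3 n7092 = n9258 := rfl
theorem F30730 : act 6 n9258 = n7207 := d20_2 (iv F23829) D9258 (iv D7207)
def n9262 : Q := act 6 n7095
theorem D9262 : act 6 n7095 = n9262 := rfl
theorem F30742 : act 7 n9262 = n7211 := d27_2 D7095 D9262 (iv D7211) (iv D5520) (iv F18461)
def n9264 : Q := act 2 n7097
theorem D9264 : act 2 n7097 = n9264 := rfl
theorem F30748 : act 6 n9264 = n7107 := d16_2 D7097 D9264 (iv D7107) (iv D5438) (iv F18467)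
def n9266 : Q := act 1 n7098
theorem D9266 : act 1 n7098 = n9266 := rfl
theorem F30754 : act 6 n9266 = n7109 := d11_2 (iv F23848) D9266 (iv D7109)
def n9268 : Q := act 2 n7101
theorem D9268 : act 2 n7101 = n9268 := rfl
theorem F30758 : act 4 n9268 = n7102 := d14_2 (iv F23857) D9268 (iv D7102)
theorem F30760 : act 6 n9268 = n7111 := d16_2 D7101 D9268 (iv D7111) (iv D5442) (iv F18479)
def n9269 : Q := act 7 n7101
theorem D9269 : act 7 n7101 = n9269 := rfl
def n9270 : Q := act 1 n7102
theorem D9270 : act 1 n7102 = n9270 := rfl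
theorem F30767 : act 6 n9270 = n7113 := d11_2 (iv F23860) D9270 (iv D7113)
def n9271 : Q := act 7 n7102
theorem D9271 : act 7 n7102 = n9271 := rfl
theorem F30768 : act 2 n9271 = n7103 := d17_1 D9271 (iv D7103) D7102
def n9276 : Q := act 7 n7106
theorem D9276 : act 7 n7106 = n9276 := rfl
theorem F30784 : act 4 n9276 = n7108 := d24_1 D9276 (iv D7108) (iv F23872)
theorem F30786 : act 6 n9276 = n7612 := d27_1 D9276 (iv D7612) (iv D5832) (iv F18497) D7106
def n9277 : Q := act 1 n7107
theorem D9277 : act 1 n7107 = n9277 := rfl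
theorem F30788 : act 5 n9277 = n7109 := d10_2 (iv F23875) D9277 (iv D7109)
def n9278 : Q := act 7 n7107
theorem D9278 : act 7 n7107 = n9278 := rfl
theorem F30790 : act 2 n9278 = n7108 := d17_1 D9278 (iv D7108) D7107
theorem F30791 : act 5 n9278 = n7110 := d26_1 D9278 (iv D7110) (iv F23875)
def n9280 : Q := act 7 n7109
theorem D9280 : act 7 n7109 = n9280 := rfl
def n9282 : Q := act 1 n7111
theorem D9282 : act 1 n7111 = n9282 := rfl
theorem F30801 : act 2 n9282 = n7118 := d7_2 D7111 D9282 (iv D7118) (iv D5447) (iv F18513)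
theorem F30802 : act 4 n9282 = n7113 := d9_2 (iv F23886) D9282 (iv D7113)
def n9283 : Q := act 3 n7111
theorem D9283 : act 3 n7111 = n9283 := rfl
def n9284 : Q := act 7 n7111
theorem D9284 : act 7 n7111 = n9284 := rfl
theorem F30805 : act 2 n9284 = n7112 := d17_1 D9284 (iv D7112) D7111
theorem F30806 : act 4 n9284 = n7114 := d24_1 D9284 (iv D7114) (iv F23886)
def n9285 : Q := act 0 n7113
theorem D9285 : act 0 n7113 = n9285 := rfl
theorem F30809 : act 5 n9285 = n7115 := d4_2 (iv F23893) D9285 (iv D7115)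
def n9286 : Q := act 7 n7113
theorem D9286 : act 7 n7113 = n9286 := rfl
theorem F30810 : act 1 n9286 = n7114 := d12_1 D9286 (iv D7114) D7113
theorem F30811 : act 2 n9286 = n7122 := d17_1 D9286 (iv D7122) (iv F23892)
theorem F30812 : act 5 n9286 = n7116 := d26_1 D9286 (iv D7116) (iv F23893)
def n9287 : Q := act 6 n7114
theorem D9287 : act 6 n7114 = n9287 := rfl
theorem F30813 : act 2 n9287 = n7623 := d16_1 D9287 (iv D7623) F19776 (iv F18520) (iv F23894)
def n9288 : Q := act 7 n7115
theorem D9288 : act 7 n7115 = n9288 := rfl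
theorem F30816 : act 2 n9288 = n7124 := d17_1 D9288 (iv D7124) (iv F23896)
def n9289 : Q := act 6 n7116
theorem D9289 : act 6 n7116 = n9289 := rfl
theorem F30818 : act 1 n9289 = n7117 := d11_1 D9289 (iv D7117) (iv F23898)
def n9290 : Q := act 0 n7118
theorem D9290 : act 0 n7118 = n9290 := rfl
theorem F30821 : act 4 n9290 = n7121 := d3_2 (iv F23903) D9290 (iv D7121)
def n9295 : Q := act 7 n7121
theorem D9295 : act 7 n7121 = n9295 := rfl
theorem F30843 : act 5 n9295 = n7124 := d26_1 D9295 (iv D7124) (iv F23916)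
def n9297 : Q := act 6 n7124
theorem D9297 : act 6 n7124 = n9297 := rfl
theorem F30848 : act 0 n9297 = n7125 := d5_1 D9297 (iv D7125) (iv F23926)
def n9317 : Q := act 7 n7138
theorem D9317 : act 7 n7138 = n9317 := rfl
theorem F30919 : act 4 n9317 = n7139 := d24_1 D9317 (iv D7139) (iv F23977)
def n9323 : Q := act 2 n7144
theorem D9323 : act 2 n7144 = n9323 := rfl
theorem F30941 : act 4 n9323 = n9323 := d14_2 F23999 D9323 (iv D9323)
def n9325 : Q := act 6 n7144
theorem D9325 : act 6 n7144 = n9325 := rfl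
theorem F30947 : act 0 n9325 = n7174 := d5_1 D9325 (iv D7174) (iv F23997)
theorem F30948 : act 1 n9325 = n7150 := d11_1 D9325 (iv D7150) (iv F23998)
theorem F30949 : act 3 n9325 = n7146 := d20_1 D9325 (iv D7146) D7144
def n9327 : Q := act 2 n7146
theorem D9327 : act 2 n7146 = n9327 := rfl
theorem F30956 : act 4 n9327 = n7147 := d14_2 (iv F24006) D9327 (iv D7147)
def n9328 : Q := act 7 n7146
theorem D9328 : act 7 n7146 = n9328 := rfl
theorem F30957 : act 0 n9328 = n7177 := d6_1 D9328 (iv D7177) (iv F24004)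
def n9329 : Q := act 3 n7147
theorem D9329 : act 3 n7147 = n9329 := rfl
def n9330 : Q := act 7 n7147
theorem D9330 : act 7 n7147 = n9330 := rfl
def n9333 : Q := act 2 n7150
theorem D9333 : act 2 n7150 = n9333 := rfl
theorem F30974 : act 0 n9333 = n7155 := d1_1 D9333 (iv D7155) (iv F24017)
def n9334 : Q := act 7 n7150
theorem D9334 : act 7 n7150 = n9334 := rfl
theorem F30978 : act 0 n9334 = n7156 := d6_1 D9334 (iv D7156) (iv F24017)
theorem F30979 : act 3 n9334 = n7152 := d21_1 D9334 (iv D7152) (iv F24018)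
def n9339 : Q := act 7 n7155
theorem D9339 : act 7 n7155 = n9339 := rfl
theorem F30998 : act 2 n9339 = n7156 := d17_1 D9339 (iv D7156) D7155
theorem F30999 : act 3 n9339 = n9339 := d21_1 D9339 (iv D9339) F24035
theorem F31000 : act 4 n9339 = n9339 := d24_1 D9339 (iv D9339) F24036
def n9340 : Q := act 2 n7158
theorem D9340 : act 2 n7158 = n9340 := rfl
def n9342 : Q := act 6 n7158
theorem D9342 : act 6 n7158 = n9342 := rfl
theorem F31007 : act 3 n9342 = n7160 := d20_1 D9342 (iv D7160) D7158
def n9344 : Q := act 2 n7160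
theorem D9344 : act 2 n7160 = n9344 := rfl
theorem F31013 : act 4 n9344 = n7161 := d14_2 (iv F24053) D9344 (iv D7161)
def n9345 : Q := act 7 n7160
theorem D9345 : act 7 n7160 = n9345 := rfl
theorem F31015 : act 4 n9345 = n7162 := d24_1 D9345 (iv D7162) (iv F24053)
def n9347 : Q := act 7 n7161
theorem D9347 : act 7 n7161 = n9347 := rfl
theorem F31022 : act 5 n9347 = n7179 := d26_1 D9347 (iv D7179) (iv F24055)
def n9348 : Q := act 4 n7163
theorem D9348 : act 4 n7163 = n9348 := rfl
theorem F31024 : act 3 n9348 = n7180 := d18_1 D9348 (iv D7180) F18677 (iv F18644) (iv F24061)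
def n9351 : Q := act 7 n7164
theorem D9351 : act 7 n7164 = n9351 := rfl
theorem F31034 : act 3 n9351 = n7166 := d21_1 D9351 (iv D7166) (iv F24064)
def n9358 : Q := act 5 n7172
theorem D9358 : act 5 n7172 = n9358 := rfl
theorem F31055 : act 1 n9358 = n7186 := d10_1 D9358 (iv D7186) (iv F24088)
theorem F31056 : act 2 n9358 = n7173 := d15_1 D9358 (iv D7173) D7172
def n9359 : Q := act 6 n7172
theorem D9359 : act 6 n7172 = n9359 := rfl
theorem F31058 : act 1 n9359 = n7187 := d11_1 D9359 (iv D7187) (iv F24088)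
def n9361 : Q := act 6 n7173
theorem D9361 : act 6 n7173 = n9361 := rfl
theorem F31065 : act 5 n9361 = n7174 := d25_1 D9361 (iv D7174) D7173
def n9362 : Q := act 2 n7174
theorem D9362 : act 2 n7174 = n9362 := rfl
theorem F31066 : act 1 n9362 = n9362 := d7_1 D9362 (iv D9362) F24094 F18680 (iv F24094)
def n9363 : Q := act 7 n7174
theorem D9363 : act 7 n7174 = n9363 := rfl
theorem F31069 : act 3 n9363 = n7177 := d21_1 D9363 (iv D7177) (iv F24095)
def n9364 : Q := act 2 n7175
theorem D9364 : act 2 n7175 = n9364 := rfl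
theorem F31073 : act 5 n9364 = n7176 := d15_2 (iv F24098) D9364 (iv D7176)
def n9366 : Q := act 3 n7176
theorem D9366 : act 3 n7176 = n9366 := rfl
theorem F31077 : act 1 n9366 = n7207 := d8_1 D9366 (iv D7207) (iv F24099)
def n9367 : Q := act 7 n7176
theorem D9367 : act 7 n7176 = n9367 := rfl
theorem F31078 : act 1 n9367 = n7208 := d12_1 D9367 (iv D7208) (iv F24099)
theorem F31079 : act 2 n9367 = n7177 := d17_1 D9367 (iv D7177) D7176
theorem F31080 : act 4 n9367 = n7179 := d24_1 D9367 (iv D7179) (iv F24100)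
def n9371 : Q := act 6 n7180
theorem D9371 : act 6 n7180 = n9371 := rfl
theorem F31090 : act 4 n9371 = n7181 := d23_1 D9371 (iv D7181) D7180
def n9372 : Q := act 7 n7181
theorem D9372 : act 7 n7181 = n9372 := rfl
theorem F31094 : act 3 n9372 = n7183 := d21_1 D9372 (iv D7183) (iv F24114)
theorem F31095 : act 5 n9372 = n7182 := d26_1 D9372 (iv D7182) (iv F24115)
def n9374 : Q := act 4 n7186
theorem D9374 : act 4 n7186 = n9374 := rfl
def n9375 : Q := act 6 n7186
theorem D9375 : act 6 n7186 = n9375 := rfl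
def n9385 : Q := act 7 n7193
theorem D9385 : act 7 n7193 = n9385 := rfl
theorem F31141 : act 4 n9385 = n7196 := d24_1 D9385 (iv D7196) (iv F24160)
def n9386 : Q := act 4 n7195
theorem D9386 : act 4 n7195 = n9386 := rfl
theorem F31143 : act 2 n9386 = n7217 := d14_1 D9386 (iv D7217) (iv F24166)
def n9387 : Q := act 7 n7195
theorem D9387 : act 7 n7195 = n9387 := rfl
theorem F31147 : act 5 n9387 = n7210 := d26_1 D9387 (iv D7210) (iv F24167)
def n9388 : Q := act 6 n7196
theorem D9388 : act 6 n7196 = n9388 := rfl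
def n9394 : Q := act 7 n7201
theorem D9394 : act 7 n7201 = n9394 := rfl
theorem F31166 : act 2 n9394 = n7202 := d17_1 D9394 (iv D7202) D7201
def n9398 : Q := act 3 n7205
theorem D9398 : act 3 n7205 = n9398 := rfl
theorem F31178 : act 5 n9398 = n7207 := d19_2 (iv F24197) D9398 (iv D7207)
def n9399 : Q := act 7 n7205
theorem D9399 : act 7 n7205 = n9399 := rfl
theorem F31180 : act 2 n9399 = n7206 := d17_1 D9399 (iv D7206) D7205
theorem F31181 : act 5 n9399 = n7208 := d26_1 D9399 (iv D7208) (iv F24197)
def n9401 : Q := act 7 n7207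
theorem D9401 : act 7 n7207 = n9401 := rfl
def n9415 : Q := act 7 n7217
theorem D9415 : act 7 n7217 = n9415 := rfl
theorem F31233 : act 4 n9415 = n7218 := d24_1 D9415 (iv D7218) D7217
def n9416 : Q := act 6 n7218
theorem D9416 : act 6 n7218 = n9416 := rfl
theorem F31237 : act 5 n9416 = n7227 := d25_1 D9416 (iv D7227) (iv F24240)
def n9424 : Q := act 2 n7227
theorem D9424 : act 2 n7227 = n9424 := rfl
def n9432 : Q := act 2 n7233
theorem D9432 : act 2 n7233 = n9432 := rfl
theorem F31297 : act 5 n9432 = n7251 := d15_2 (iv F24297) D9432 (iv D7251)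
def n9435 : Q := act 2 n7235
theorem D9435 : act 2 n7235 = n9435 := rfl
theorem F31308 : act 0 n9435 = n7236 := d1_1 D9435 (iv D7236) (iv F24304)
theorem F31309 : act 3 n9435 = n7299 := d13_2 D7235 D9435 (iv D7299) (iv D5586) (iv F18851)
theorem F31310 : act 5 n9435 = n7254 := d15_2 (iv F24306) D9435 (iv D7254)
theorem F31311 : act 7 n9435 = n7239 := d17_2 (iv F24307) D9435 (iv D7239)
def n9436 : Q := act 4 n7235
theorem D9436 : act 4 n7235 = n9436 := rfl
theorem F31315 : act 7 n9436 = n7240 := d24_2 (iv F24307) D9436 (iv D7240)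
def n9437 : Q := act 4 n7236
theorem D9437 : act 4 n7236 = n9437 := rfl
theorem F31317 : act 2 n9437 = n7237 := d14_1 D9437 (iv D7237) D7236
theorem F31318 : act 7 n9437 = n7241 := d24_2 (iv F24311) D9437 (iv D7241)
def n9438 : Q := act 6 n7236
theorem D9438 : act 6 n7236 = n9438 := rfl
theorem F31320 : act 3 n9438 = n7302 := d20_1 D9438 (iv D7302) (iv F24309)
theorem F31321 : act 5 n9438 = n7257 := d25_1 D9438 (iv D7257) (iv F24310)
def n9440 : Q := act 1 n7239
theorem D9440 : act 1 n7239 = n9440 := rfl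
theorem F31326 : act 0 n9440 = n9440 := d0_1 D9440 (iv D9440) F24320 F18866 (iv F24320)
theorem F31327 : act 2 n9440 = n9440 := d7_2 D7239 D9440 (iv D9440) (iv D7239) F18863
theorem F31328 : act 3 n9440 = n7304 := d8_2 (iv F24321) D9440 (iv D7304)
theorem F31329 : act 5 n9440 = n7259 := d10_2 (iv F24322) D9440 (iv D7259)
def n9441 : Q := act 4 n7239
theorem D9441 : act 4 n7239 = n9441 := rfl
theorem F31330 : act 0 n9441 = n7241 := d3_1 D9441 (iv D7241) (iv F24320)
theorem F31331 : act 2 n9441 = n7240 := d14_1 D9441 (iv D7240) D7239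
def n9442 : Q := act 6 n7239
theorem D9442 : act 6 n7239 = n9442 := rfl
theorem F31332 : act 0 n9442 = n7242 := d5_1 D9442 (iv D7242) (iv F24320)
theorem F31333 : act 2 n9442 = n9442 := d16_1 D9442 (iv D9442) (iv D7239) F18865 D7239
theorem F31334 : act 3 n9442 = n7306 := d20_1 D9442 (iv D7306) (iv F24321)
theorem F31335 : act 5 n9442 = n7261 := d25_1 D9442 (iv D7261) (iv F24322)
def n9443 : Q := act 5 n7240
theorem D9443 : act 5 n7240 = n9443 := rfl
theorem F31336 : act 0 n9443 = n7243 := d4_1 D9443 (iv D7243) (iv F24323)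
def n9444 : Q := act 3 n7241
theorem D9444 : act 3 n7241 = n9444 := rfl
theorem F31343 : act 4 n9444 = n7308 := d18_2 D7241 D9444 (iv D7308) (iv D5592) (iv F18867)
def n9445 : Q := act 5 n7241
theorem D9445 : act 5 n7241 = n9445 := rfl
def n9446 : Q := act 6 n7241
theorem D9446 : act 6 n7241 = n9446 := rfl
theorem F31349 : act 4 n9446 = n7242 := d23_1 D9446 (iv D7242) D7241
def n9447 : Q := act 7 n7242
theorem D9447 : act 7 n7242 = n9447 := rfl
def n9457 : Q := act 2 n7250
theorem D9457 : act 2 n7250 = n9457 := rfl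
theorem F31387 : act 0 n9457 = n7251 := d1_1 D9457 (iv D7251) (iv F24358)
def n9460 : Q := act 6 n7251
theorem D9460 : act 6 n7251 = n9460 := rfl
def n9462 : Q := act 1 n7254
theorem D9462 : act 1 n7254 = n9462 := rfl
theorem F31401 : act 0 n9462 = n9462 := d0_1 D9462 (iv D9462) F24371 F18905 (iv F24371)
theorem F31402 : act 2 n9462 = n9462 := d7_2 D7254 D9462 (iv D9462) (iv D7254) F18903
theorem F31403 : act 3 n9462 = n7312 := d8_2 (iv F24372) D9462 (iv D7312)
theorem F31404 : act 7 n9462 = n7259 := d12_2 (iv F24373) D9462 (iv D7259)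
def n9463 : Q := act 4 n7254
theorem D9463 : act 4 n7254 = n9463 := rfl
def n9464 : Q := act 6 n7254
theorem D9464 : act 6 n7254 = n9464 := rfl
theorem F31408 : act 0 n9464 = n7257 := d5_1 D9464 (iv D7257) (iv F24371)
theorem F31409 : act 3 n9464 = n7314 := d20_1 D9464 (iv D7314) (iv F24372)
def n9468 : Q := act 6 n7256
theorem D9468 : act 6 n7256 = n9468 := rfl
theorem F31422 : act 4 n9468 = n7257 := d23_1 D9468 (iv D7257) D7256
def n9469 : Q := act 7 n7257
theorem D9469 : act 7 n7257 = n9469 := rfl
theorem F31425 : act 6 n9469 = n7266 := d27_1 D9469 (iv D7266) (iv D5561) (iv F18907) D7257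
def n9470 : Q := act 4 n7259
theorem D9470 : act 4 n7259 = n9470 := rfl
def n9471 : Q := act 6 n7259
theorem D9471 : act 6 n7259 = n9471 := rfl
theorem F31429 : act 0 n9471 = n9471 := d5_1 D9471 (iv D9471) F24386
theorem F31430 : act 1 n9471 = n7261 := d11_1 D9471 (iv D7261) D7259
theorem F31431 : act 3 n9471 = n7321 := d20_1 D9471 (iv D7321) (iv F24388)
def n9474 : Q := act 6 n7260
theorem D9474 : act 6 n7260 = n9474 := rfl
theorem F31439 : act 4 n9474 = n7261 := d23_1 D9474 (iv D7261) D7260
def n9475 : Q := act 7 n7261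
theorem D9475 : act 7 n7261 = n9475 := rfl
theorem F31440 : act 0 n9475 = n7266 := d6_1 D9475 (iv D7266) (iv F24391)
theorem F31441 : act 2 n9475 = n9475 := d17_1 D9475 (iv D9475) F24392
theorem F31442 : act 3 n9475 = n7325 := d21_1 D9475 (iv D7325) (iv F24393)
def n9479 : Q := act 7 n7265
theorem D9479 : act 7 n7265 = n9479 := rfl
theorem F31454 : act 4 n9479 = n7266 := d24_1 D9479 (iv D7266) (iv F24405)
def n9524 : Q := act 1 n7299
theorem D9524 : act 1 n7299 = n9524 := rfl
theorem F31600 : act 0 n9524 = n9524 := d0_1 D9524 (iv D9524) F24518 F19012 (iv F24518)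
theorem F31601 : act 2 n9524 = n7394 := d7_2 D7299 D9524 (iv D7394) (iv D5658) (iv F19009)
theorem F31602 : act 5 n9524 = n7312 := d10_2 (iv F24519) D9524 (iv D7312)
theorem F31603 : act 7 n9524 = n7304 := d12_2 (iv F24520) D9524 (iv D7304)
def n9525 : Q := act 4 n7299
theorem D9525 : act 4 n7299 = n9525 := rfl
theorem F31604 : act 0 n9525 = n7301 := d3_1 D9525 (iv D7301) (iv F24518)
theorem F31605 : act 2 n9525 = n7300 := d14_1 D9525 (iv D7300) D7299
theorem F31606 : act 7 n9525 = n7305 := d24_2 (iv F24520) D9525 (iv D7305)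
def n9526 : Q := act 6 n7299
theorem D9526 : act 6 n7299 = n9526 := rfl
theorem F31607 : act 0 n9526 = n7302 := d5_1 D9526 (iv D7302) (iv F24518)
theorem F31608 : act 5 n9526 = n7314 := d25_1 D9526 (iv D7314) (iv F24519)
def n9528 : Q := act 3 n7301
theorem D9528 : act 3 n7301 = n9528 := rfl
def n9530 : Q := act 6 n7301
theorem D9530 : act 6 n7301 = n9530 := rfl
theorem F31622 : act 4 n9530 = n7302 := d23_1 D9530 (iv D7302) D7301
def n9531 : Q := act 7 n7302
theorem D9531 : act 7 n7302 = n9531 := rfl
theorem F31624 : act 5 n9531 = n7319 := d26_1 D9531 (iv D7319) (iv F24529)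
theorem F31625 : act 6 n9531 = n7311 := d27_1 D9531 (iv D7311) (iv D5593) (iv F19014) D7302
def n9532 : Q := act 4 n7304
theorem D9532 : act 4 n7304 = n9532 := rfl
theorem F31626 : act 0 n9532 = n9532 := d3_1 D9532 (iv D9532) F24534
theorem F31627 : act 1 n9532 = n7305 := d9_1 D9532 (iv D7305) D7304
theorem F31628 : act 2 n9532 = n7402 := d14_1 D9532 (iv D7402) (iv F24535)
def n9533 : Q := act 6 n7304
theorem D9533 : act 6 n7304 = n9533 := rfl
theorem F31629 : act 0 n9533 = n9533 := d5_1 D9533 (iv D9533) F24534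
theorem F31630 : act 1 n9533 = n7306 := d11_1 D9533 (iv D7306) D7304
theorem F31631 : act 5 n9533 = n7321 := d25_1 D9533 (iv D7321) (iv F24536)
def n9534 : Q := act 3 n7305
theorem D9534 : act 3 n7305 = n9534 := rfl
theorem F31632 : act 0 n9534 = n7308 := d2_1 D9534 (iv D7308) (iv F24537)
theorem F31633 : act 2 n9534 = n9534 := d13_1 D9534 (iv D9534) F24538 F19027 (iv F24538)
def n9537 : Q := act 7 n7306
theorem D9537 : act 7 n7306 = n9537 := rfl
theorem F31640 : act 0 n9537 = n7311 := d6_1 D9537 (iv D7311) (iv F24539)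
theorem F31641 : act 2 n9537 = n7358 := d17_1 D9537 (iv D7358) (iv F24540)
theorem F31642 : act 5 n9537 = n7325 := d26_1 D9537 (iv D7325) (iv F24541)
def n9542 : Q := act 4 n7312
theorem D9542 : act 4 n7312 = n9542 := rfl
theorem F31655 : act 0 n9542 = n9542 := d3_1 D9542 (iv D9542) F24558
theorem F31656 : act 1 n9542 = n7313 := d9_1 D9542 (iv D7313) D7312
theorem F31657 : act 2 n9542 = n7412 := d14_1 D9542 (iv D7412) (iv F24559)
theorem F31658 : act 7 n9542 = n7320 := d24_2 (iv F24560) D9542 (iv D7320)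
def n9543 : Q := act 6 n7312
theorem D9543 : act 6 n7312 = n9543 := rfl
theorem F31659 : act 0 n9543 = n9543 := d5_1 D9543 (iv D9543) F24558
theorem F31660 : act 1 n9543 = n7314 := d11_1 D9543 (iv D7314) D7312
def n9544 : Q := act 3 n7313
theorem D9544 : act 3 n7313 = n9544 := rfl
def n9545 : Q := act 5 n7313
theorem D9545 : act 5 n7313 = n9545 := rfl
theorem F31665 : act 2 n9545 = n7315 := d15_1 D9545 (iv D7315) (iv F24562)
def n9546 : Q := act 6 n7313
theorem D9546 : act 6 n7313 = n9546 := rfl
theorem F31667 : act 0 n9546 = n7318 := d5_1 D9546 (iv D7318) (iv F24561)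
theorem F31668 : act 4 n9546 = n7314 := d23_1 D9546 (iv D7314) D7313
def n9547 : Q := act 7 n7314
theorem D9547 : act 7 n7314 = n9547 := rfl
theorem F31669 : act 0 n9547 = n7319 := d6_1 D9547 (iv D7319) (iv F24564)
theorem F31670 : act 6 n9547 = n7325 := d27_1 D9547 (iv D7325) (iv D5602) (iv F19039) D7314
def n9549 : Q := act 6 n7316
theorem D9549 : act 6 n7316 = n9549 := rfl
theorem F31676 : act 3 n9549 = n7318 := d20_1 D9549 (iv D7318) D7316
def n9550 : Q := act 6 n7317
theorem D9550 : act 6 n7317 = n9550 := rfl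
theorem F31678 : act 5 n9550 = n7318 := d25_1 D9550 (iv D7318) D7317
def n9551 : Q := act 7 n7318
theorem D9551 : act 7 n7318 = n9551 := rfl
def n9552 : Q := act 3 n7320
theorem D9552 : act 3 n7320 = n9552 := rfl
def n9553 : Q := act 5 n7320
theorem D9553 : act 5 n7320 = n9553 := rfl
theorem F31685 : act 1 n9553 = n7323 := d10_1 D9553 (iv D7323) (iv F24580)
theorem F31686 : act 2 n9553 = n7423 := d15_1 D9553 (iv D7423) (iv F24581)
def n9554 : Q := act 6 n7320
theorem D9554 : act 6 n7320 = n9554 := rfl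
theorem F31688 : act 1 n9554 = n7324 := d11_1 D9554 (iv D7324) (iv F24580)
def n9555 : Q := act 2 n7321
theorem D9555 : act 2 n7321 = n9555 := rfl
theorem F31691 : act 1 n9555 = n7366 := d7_1 D9555 (iv D7366) F19150 (iv F19056) (iv F24583)
def n9556 : Q := act 7 n7321
theorem D9556 : act 7 n7321 = n9556 := rfl
theorem F31693 : act 0 n9556 = n9556 := d6_1 D9556 (iv D9556) F24582
theorem F31694 : act 1 n9556 = n7325 := d12_1 D9556 (iv D7325) (iv F24583)
def n9595 : Q := act 3 n7353
theorem D9595 : act 3 n7353 = n9595 := rfl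
theorem F31802 : act 0 n9595 = n7480 := d2_1 D9595 (iv D7480) (iv F24670)
def n9598 : Q := act 2 n7354
theorem D9598 : act 2 n7354 = n9598 := rfl
def n9599 : Q := act 7 n7354
theorem D9599 : act 7 n7354 = n9599 := rfl
theorem F31816 : act 1 n9599 = n7358 := d12_1 D9599 (iv D7358) (iv F24674)
def n9646 : Q := act 4 n7394
theorem D9646 : act 4 n7394 = n9646 := rfl
theorem F31958 : act 1 n9646 = n7395 := d9_1 D9646 (iv D7395) D7394
theorem F31959 : act 7 n9646 = n7402 := d24_2 (iv F24796) D9646 (iv D7402)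
def n9647 : Q := act 6 n7394
theorem D9647 : act 6 n7394 = n9647 := rfl
theorem F31960 : act 0 n9647 = n9647 := d5_1 D9647 (iv D9647) F24793
theorem F31961 : act 1 n9647 = n7396 := d11_1 D9647 (iv D7396) D7394
theorem F31962 : act 3 n9647 = n9647 := d20_1 D9647 (iv D9647) F24794
theorem F31963 : act 5 n9647 = n7413 := d25_1 D9647 (iv D7413) (iv F24795)
def n9648 : Q := act 3 n7395
theorem D9648 : act 3 n7395 = n9648 := rfl
theorem F31966 : act 4 n9648 = n9648 := d18_2 D7395 D9648 (iv D9648) (iv D7395) F19217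
theorem F31967 : act 7 n9648 = n7404 := d21_2 (iv F24799) D9648 (iv D7404)
def n9649 : Q := act 5 n7395
theorem D9649 : act 5 n7395 = n9649 := rfl
theorem F31969 : act 2 n9649 = n7397 := d15_1 D9649 (iv D7397) (iv F24798)
theorem F31970 : act 4 n9649 = n7415 := d22_1 D9649 (iv D7415) (iv D5672) (iv F19218) D7395
def n9650 : Q := act 6 n7395
theorem D9650 : act 6 n7395 = n9650 := rfl
theorem F31973 : act 4 n9650 = n7396 := d23_1 D9650 (iv D7396) D7395
def n9651 : Q := act 7 n7396
theorem D9651 : act 7 n7396 = n9651 := rfl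
theorem F31975 : act 3 n9651 = n9651 := d21_1 D9651 (iv D9651) F24801
def n9652 : Q := act 5 n7398
theorem D9652 : act 5 n7398 = n9652 := rfl
theorem F31980 : act 3 n9652 = n7399 := d19_1 D9652 (iv D7399) D7398
theorem F31981 : act 7 n9652 = n7408 := d26_2 (iv F24810) D9652 (iv D7408)
def n9653 : Q := act 6 n7398
theorem D9653 : act 6 n7398 = n9653 := rfl
theorem F31983 : act 3 n9653 = n7400 := d20_1 D9653 (iv D7400) D7398
theorem F31984 : act 4 n9653 = n9653 := d23_1 D9653 (iv D9653) F24809
def n9654 : Q := act 6 n7399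
theorem D9654 : act 6 n7399 = n9654 := rfl
theorem F31986 : act 4 n9654 = n7420 := d23_1 D9654 (iv D7420) (iv F24813)
def n9655 : Q := act 7 n7400
theorem D9655 : act 7 n7400 = n9655 := rfl
def n9656 : Q := act 3 n7402
theorem D9656 : act 3 n7402 = n9656 := rfl
theorem F31992 : act 1 n9656 = n7404 := d8_1 D9656 (iv D7404) (iv F24822)
theorem F31993 : act 4 n9656 = n9656 := d18_2 D7402 D9656 (iv D9656) (iv D7402) F19234
def n9657 : Q := act 5 n7402
theorem D9657 : act 5 n7402 = n9657 := rfl
theorem F31995 : act 1 n9657 = n7405 := d10_1 D9657 (iv D7405) (iv F24822)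
theorem F31996 : act 4 n9657 = n7423 := d22_1 D9657 (iv D7423) (iv D5679) (iv F19235) D7402
def n9658 : Q := act 6 n7402
theorem D9658 : act 6 n7402 = n9658 := rfl
theorem F31998 : act 1 n9658 = n7406 := d11_1 D9658 (iv D7406) (iv F24822)
def n9659 : Q := act 2 n7403
theorem D9659 : act 2 n7403 = n9659 := rfl
theorem F32001 : act 1 n9659 = n7451 := d7_1 D9659 (iv D7451) F19358 (iv F19239) (iv F24824)
def n9660 : Q := act 7 n7403
theorem D9660 : act 7 n7403 = n9660 := rfl
theorem F32004 : act 1 n9660 = n7407 := d12_1 D9660 (iv D7407) (iv F24824)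
theorem F32005 : act 3 n9660 = n9660 := d21_1 D9660 (iv D9660) F24825
def n9661 : Q := act 5 n7404
theorem D9661 : act 5 n7404 = n9661 := rfl
theorem F32009 : act 3 n9661 = n7405 := d19_1 D9661 (iv D7405) D7404
def n9662 : Q := act 6 n7404
theorem D9662 : act 6 n7404 = n9662 := rfl
theorem F32011 : act 3 n9662 = n7406 := d20_1 D9662 (iv D7406) D7404
theorem F32012 : act 4 n9662 = n9662 := d23_1 D9662 (iv D9662) F24829
def n9663 : Q := act 6 n7405
theorem D9663 : act 6 n7405 = n9663 := rfl
theorem F32014 : act 2 n9663 = n7455 := d16_1 D9663 (iv D7455) F19365 (iv F19245) (iv F24831)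
def n9664 : Q := act 7 n7406
theorem D9664 : act 7 n7406 = n9664 := rfl
theorem F32018 : act 2 n9664 = n7456 := d17_1 D9664 (iv D7456) (iv F24834)
def n9665 : Q := act 4 n7408
theorem D9665 : act 4 n7408 = n9665 := rfl
theorem F32023 : act 5 n9665 = n9665 := d22_2 D7408 D9665 (iv D9665) (iv D7408) F19248
def n9666 : Q := act 6 n7408
theorem D9666 : act 6 n7408 = n9666 := rfl
theorem F32025 : act 3 n9666 = n7410 := d20_1 D9666 (iv D7410) (iv F24842)
theorem F32026 : act 5 n9666 = n7409 := d25_1 D9666 (iv D7409) D7408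
def n9667 : Q := act 2 n7409
theorem D9667 : act 2 n7409 = n9667 := rfl
theorem F32027 : act 3 n9667 = n7458 := d13_2 (iv F24844) D9667 (iv D7458) F19377 (iv F19253)
theorem F32028 : act 4 n9667 = n9667 := d14_2 F24845 D9667 (iv D9667)
def n9668 : Q := act 7 n7409
theorem D9668 : act 7 n7409 = n9668 := rfl
theorem F32031 : act 3 n9668 = n7411 := d21_1 D9668 (iv D7411) (iv F24844)
theorem F32032 : act 4 n9668 = n9668 := d24_1 D9668 (iv D9668) F24845
def n9670 : Q := act 3 n7412
theorem D9670 : act 3 n7412 = n9670 := rfl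
theorem F32037 : act 0 n9670 = n9670 := d2_1 D9670 (iv D9670) F24853
theorem F32038 : act 1 n9670 = n7414 := d8_1 D9670 (iv D7414) (iv F24854)
theorem F32039 : act 4 n9670 = n9670 := d18_2 D7412 D9670 (iv D9670) (iv D7412) F19260
theorem F32040 : act 7 n9670 = n7422 := d21_2 (iv F24855) D9670 (iv D7422)
def n9671 : Q := act 5 n7412
theorem D9671 : act 5 n7412 = n9671 := rfl
theorem F32041 : act 0 n9671 = n9671 := d4_1 D9671 (iv D9671) F24853
theorem F32042 : act 1 n9671 = n7415 := d10_1 D9671 (iv D7415) (iv F24854)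
theorem F32043 : act 7 n9671 = n7423 := d26_2 (iv F24855) D9671 (iv D7423)
def n9672 : Q := act 6 n7412
theorem D9672 : act 6 n7412 = n9672 := rfl
theorem F32044 : act 0 n9672 = n9672 := d5_1 D9672 (iv D9672) F24853
theorem F32045 : act 1 n9672 = n7416 := d11_1 D9672 (iv D7416) (iv F24854)
theorem F32046 : act 4 n9672 = n7413 := d23_1 D9672 (iv D7413) D7412
def n9673 : Q := act 2 n7413
theorem D9673 : act 2 n7413 = n9673 := rfl
theorem F32047 : act 0 n9673 = n9673 := d1_1 D9673 (iv D9673) F24856
def n9674 : Q := act 7 n7413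
theorem D9674 : act 7 n7413 = n9674 := rfl
theorem F32048 : act 0 n9674 = n9674 := d6_1 D9674 (iv D9674) F24856
theorem F32049 : act 1 n9674 = n7417 := d12_1 D9674 (iv D7417) (iv F24857)
theorem F32050 : act 3 n9674 = n9674 := d21_1 D9674 (iv D9674) F24858
theorem F32051 : act 6 n9674 = n7426 := d27_1 D9674 (iv D7426) (iv D5680) (iv F19261) D7413
def n9675 : Q := act 5 n7414
theorem D9675 : act 5 n7414 = n9675 := rfl
theorem F32053 : act 2 n9675 = n7439 := d15_1 D9675 (iv D7439) (iv F24860)
theorem F32054 : act 3 n9675 = n7415 := d19_1 D9675 (iv D7415) D7414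
theorem F32055 : act 7 n9675 = n7427 := d26_2 (iv F24862) D9675 (iv D7427)
def n9676 : Q := act 6 n7414
theorem D9676 : act 6 n7414 = n9676 := rfl
theorem F32057 : act 3 n9676 = n7416 := d20_1 D9676 (iv D7416) D7414
def n9677 : Q := act 6 n7415
theorem D9677 : act 6 n7415 = n9677 := rfl
theorem F32060 : act 5 n9677 = n7416 := d25_1 D9677 (iv D7416) D7415
def n9678 : Q := act 7 n7416
theorem D9678 : act 7 n7416 = n9678 := rfl
theorem F32061 : act 0 n9678 = n7421 := d6_1 D9678 (iv D7421) (iv F24866)
theorem F32062 : act 4 n9678 = n7417 := d24_1 D9678 (iv D7417) (iv F24867)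
theorem F32063 : act 6 n9678 = n7430 := d27_1 D9678 (iv D7430) (iv D5683) (iv F19264) D7416
def n9679 : Q := act 4 n7418
theorem D9679 : act 4 n7418 = n9679 := rfl
theorem F32067 : act 7 n9679 = n7431 := d24_2 (iv F24874) D9679 (iv D7431)
def n9680 : Q := act 6 n7418
theorem D9680 : act 6 n7418 = n9680 := rfl
theorem F32069 : act 3 n9680 = n7420 := d20_1 D9680 (iv D7420) (iv F24873)
theorem F32070 : act 5 n9680 = n7419 := d25_1 D9680 (iv D7419) D7418
def n9681 : Q := act 2 n7419
theorem D9681 : act 2 n7419 = n9681 := rfl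
theorem F32072 : act 6 n9681 = n7444 := d16_2 D7419 D9681 (iv D7444) (iv D5695) (iv F19271)
def n9682 : Q := act 7 n7419
theorem D9682 : act 7 n7419 = n9682 := rfl
theorem F32074 : act 3 n9682 = n7421 := d21_1 D9682 (iv D7421) (iv F24876)
theorem F32076 : act 6 n9682 = n7433 := d27_1 D9682 (iv D7433) (iv D5686) (iv F19273) D7419
def n9683 : Q := act 7 n7420
theorem D9683 : act 7 n7420 = n9683 := rfl
def n9684 : Q := act 2 n7422
theorem D9684 : act 2 n7422 = n9684 := rfl
def n9685 : Q := act 5 n7422
theorem D9685 : act 5 n7422 = n9685 := rfl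
theorem F32083 : act 0 n9685 = n9685 := d4_1 D9685 (iv D9685) F24883
theorem F32084 : act 1 n9685 = n7427 := d10_1 D9685 (iv D7427) (iv F24884)
theorem F32085 : act 3 n9685 = n7423 := d19_1 D9685 (iv D7423) D7422
def n9686 : Q := act 6 n7422
theorem D9686 : act 6 n7422 = n9686 := rfl
theorem F32086 : act 0 n9686 = n9686 := d5_1 D9686 (iv D9686) F24883
theorem F32087 : act 1 n9686 = n7428 := d11_1 D9686 (iv D7428) (iv F24884)
theorem F32088 : act 3 n9686 = n7424 := d20_1 D9686 (iv D7424) D7422
theorem F32089 : act 4 n9686 = n9686 := d23_1 D9686 (iv D9686) F24885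
def n9687 : Q := act 6 n7423
theorem D9687 : act 6 n7423 = n9687 := rfl
theorem F32091 : act 1 n9687 = n7429 := d11_1 D9687 (iv D7429) (iv F24887)
theorem F32092 : act 5 n9687 = n7424 := d25_1 D9687 (iv D7424) D7423
def n9688 : Q := act 2 n7424
theorem D9688 : act 2 n7424 = n9688 := rfl
theorem F32094 : act 1 n9688 = n7462 := d7_1 D9688 (iv D7462) F19388 (iv F19293) (iv F24889)
def n9689 : Q := act 7 n7424
theorem D9689 : act 7 n7424 = n9689 := rfl
theorem F32096 : act 0 n9689 = n9689 := d6_1 D9689 (iv D9689) F24888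
theorem F32097 : act 1 n9689 = n7430 := d12_1 D9689 (iv D7430) (iv F24889)
theorem F32098 : act 4 n9689 = n7426 := d24_1 D9689 (iv D7426) (iv F24890)
def n9690 : Q := act 3 n7425
theorem D9690 : act 3 n7425 = n9690 := rfl
theorem F32101 : act 2 n9690 = n9690 := d13_1 D9690 (iv D9690) (iv D7425) F19286 D7425
def n9691 : Q := act 7 n7425
theorem D9691 : act 7 n7425 = n9691 := rfl
theorem F32104 : act 2 n9691 = n7426 := d17_1 D9691 (iv D7426) D7425
def n9692 : Q := act 4 n7427
theorem D9692 : act 4 n7427 = n9692 := rfl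
def n9693 : Q := act 6 n7427
theorem D9693 : act 6 n7427 = n9693 := rfl
theorem F32110 : act 3 n9693 = n7429 := d20_1 D9693 (iv D7429) (iv F24898)
theorem F32111 : act 5 n9693 = n7428 := d25_1 D9693 (iv D7428) D7427
def n9694 : Q := act 7 n7428
theorem D9694 : act 7 n7428 = n9694 := rfl
theorem F32112 : act 0 n9694 = n7433 := d6_1 D9694 (iv D7433) (iv F24899)
theorem F32113 : act 2 n9694 = n9694 := d17_1 D9694 (iv D9694) F24900
theorem F32114 : act 3 n9694 = n7430 := d21_1 D9694 (iv D7430) (iv F24901)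
theorem F32115 : act 4 n9694 = n9694 := d24_1 D9694 (iv D9694) F24902
def n9695 : Q := act 7 n7429
theorem D9695 : act 7 n7429 = n9695 := rfl
theorem F32117 : act 2 n9695 = n7466 := d17_1 D9695 (iv D7466) (iv F24904)
theorem F32118 : act 5 n9695 = n7430 := d26_1 D9695 (iv D7430) (iv F24905)
def n9696 : Q := act 6 n7431
theorem D9696 : act 6 n7431 = n9696 := rfl
theorem F32121 : act 4 n9696 = n7432 := d23_1 D9696 (iv D7432) D7431
def n9705 : Q := act 6 n7439
theorem D9705 : act 6 n7439 = n9705 := rfl
theorem F32156 : act 3 n9705 = n7441 := d20_1 D9705 (iv D7441) (iv F24939)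
def n9706 : Q := act 2 n7440
theorem D9706 : act 2 n7440 = n9706 := rfl
def n9708 : Q := act 2 n7443
theorem D9708 : act 2 n7443 = n9708 := rfl
def n9720 : Q := act 7 n7451
theorem D9720 : act 7 n7451 = n9720 := rfl
theorem F32206 : act 2 n9720 = n7452 := d17_1 D9720 (iv D7452) D7451
def n9722 : Q := act 2 n7454
theorem D9722 : act 2 n7454 = n9722 := rfl
def n9723 : Q := act 7 n7454
theorem D9723 : act 7 n7454 = n9723 := rfl
def n9725 : Q := act 2 n7457
theorem D9725 : act 2 n7457 = n9725 := rfl
theorem F32222 : act 5 n9725 = n7458 := d15_2 (iv F24999) D9725 (iv D7458)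
def n9727 : Q := act 1 n7458
theorem D9727 : act 1 n7458 = n9727 := rfl
def n9728 : Q := act 7 n7458
theorem D9728 : act 7 n7458 = n9728 := rfl
theorem F32231 : act 2 n9728 = n7459 := d17_1 D9728 (iv D7459) D7458
def n9729 : Q := act 2 n7461
theorem D9729 : act 2 n7461 = n9729 := rfl
theorem F32233 : act 0 n9729 = n7547 := d1_1 D9729 (iv D7547) (iv F25008)
def n9731 : Q := act 3 n7462
theorem D9731 : act 3 n7462 = n9731 := rfl
theorem F32239 : act 0 n9731 = n7549 := d2_1 D9731 (iv D7549) (iv F25012)
def n9745 : Q := act 7 n7473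
theorem D9745 : act 7 n7473 = n9745 := rfl
theorem F32284 : act 2 n9745 = n7474 := d17_1 D9745 (iv D7474) D7473
theorem F32285 : act 3 n9745 = n9745 := d21_1 D9745 (iv D9745) F25051
def n9747 : Q := act 7 n7475
theorem D9747 : act 7 n7475 = n9747 := rfl
theorem F32291 : act 1 n9747 = n7476 := d12_1 D9747 (iv D7476) D7475
theorem F32293 : act 3 n9747 = n9747 := d21_1 D9747 (iv D9747) F25058
def n9748 : Q := act 6 n7476
theorem D9748 : act 6 n7476 = n9748 := rfl
theorem F32295 : act 3 n9748 = n9748 := d20_1 D9748 (iv D9748) F25062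
def n9753 : Q := act 5 n7480
theorem D9753 : act 5 n7480 = n9753 := rfl
theorem F32313 : act 1 n9753 = n7485 := d10_1 D9753 (iv D7485) (iv F25075)
def n9760 : Q := act 4 n7485
theorem D9760 : act 4 n7485 = n9760 := rfl
theorem F32334 : act 2 n9760 = n7578 := d14_1 D9760 (iv D7578) (iv F25089)
def n9761 : Q := act 6 n7485
theorem D9761 : act 6 n7485 = n9761 := rfl
def n9765 : Q := act 6 n7489
theorem D9765 : act 6 n7489 = n9765 := rfl
theorem F32351 : act 3 n9765 = n7506 := d20_1 D9765 (iv D7506) (iv F25102)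
def n9766 : Q := act 2 n7490
theorem D9766 : act 2 n7490 = n9766 := rfl
theorem F32356 : act 6 n9766 = n7584 := d16_2 D7490 D9766 (iv D7584) (iv D5811) (iv F19456)
def n9772 : Q := act 2 n7495
theorem D9772 : act 2 n7495 = n9772 := rfl
def n9774 : Q := act 2 n7496
theorem D9774 : act 2 n7496 = n9774 := rfl
theorem F32378 : act 6 n9774 = n7547 := d16_2 D7496 D9774 (iv D7547) (iv D5782) (iv F19469)
def n9781 : Q := act 6 n7501
theorem D9781 : act 6 n7501 = n9781 := rfl
def n9784 : Q := act 1 n7503
theorem D9784 : act 1 n7503 = n9784 := rfl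
theorem F32406 : act 6 n9784 = n7514 := d11_2 (iv F25141) D9784 (iv D7514)
def n9786 : Q := act 2 n7506
theorem D9786 : act 2 n7506 = n9786 := rfl
theorem F32413 : act 6 n9786 = n7516 := d16_2 D7506 D9786 (iv D7516) (iv D5757) (iv F19488)
def n9793 : Q := act 2 n7511
theorem D9793 : act 2 n7511 = n9793 := rfl
def n9794 : Q := act 7 n7511
theorem D9794 : act 7 n7511 = n9794 := rfl
def n9798 : Q := act 7 n7514
theorem D9798 : act 7 n7514 = n9798 := rfl
theorem F32450 : act 1 n9798 = n7515 := d12_1 D9798 (iv D7515) D7514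
def n9799 : Q := act 6 n7515
theorem D9799 : act 6 n7515 = n9799 := rfl
def n9801 : Q := act 3 n7516
theorem D9801 : act 3 n7516 = n9801 := rfl
def n9802 : Q := act 7 n7516
theorem D9802 : act 7 n7516 = n9802 := rfl
theorem F32463 : act 2 n9802 = n7517 := d17_1 D9802 (iv D7517) D7516
def n9833 : Q := act 1 n7543
theorem D9833 : act 1 n7543 = n9833 := rfl
theorem F32561 : act 6 n9833 = n7651 := d11_2 (iv F25266) D9833 (iv D7651)
def n9838 : Q := act 3 n7547
theorem D9838 : act 3 n7547 = n9838 := rfl
def n9839 : Q := act 7 n7547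
theorem D9839 : act 7 n7547 = n9839 := rfl
theorem F32579 : act 2 n9839 = n7548 := d17_1 D9839 (iv D7548) D7547
def n9840 : Q := act 4 n7549
theorem D9840 : act 4 n7549 = n9840 := rfl
def n9841 : Q := act 7 n7549
theorem D9841 : act 7 n7549 = n9841 := rfl
def n9861 : Q := act 6 n7565
theorem D9861 : act 6 n7565 = n9861 := rfl
theorem F32640 : act 1 n9861 = n7566 := d11_1 D9861 (iv D7566) (iv F25324)
theorem F32641 : act 3 n9861 = n7698 := d20_1 D9861 (iv D7698) (iv F25325)
def n9879 : Q := act 2 n7579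
theorem D9879 : act 2 n7579 = n9879 := rfl
def n9883 : Q := act 2 n7583
theorem D9883 : act 2 n7583 = n9883 := rfl
theorem F32717 : act 4 n9883 = n7584 := d14_2 (iv F25387) D9883 (iv D7584)
def n9885 : Q := act 1 n7584
theorem D9885 : act 1 n7584 = n9885 := rfl
def n9891 : Q := act 2 n7589
theorem D9891 : act 2 n7589 = n9891 := rfl
def n9896 : Q := act 3 n7592
theorem D9896 : act 3 n7592 = n9896 := rfl
theorem F32761 : act 6 n9896 = n7656 := d20_2 (iv F25418) D9896 (iv D7656)
def n9904 : Q := act 2 n7599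
theorem D9904 : act 2 n7599 = n9904 := rfl
theorem F32790 : act 4 n9904 = n7600 := d14_2 (iv F25441) D9904 (iv D7600)
theorem F32792 : act 6 n9904 = n7611 := d16_2 D7599 D9904 (iv D7611) (iv D5832) (iv F19719)
def n9906 : Q := act 1 n7600
theorem D9906 : act 1 n7600 = n9906 := rfl
theorem F32798 : act 6 n9906 = n7613 := d11_2 (iv F25446) D9906 (iv D7613)
def n9911 : Q := act 1 n7604
theorem D9911 : act 1 n7604 = n9911 := rfl
theorem F32817 : act 6 n9911 = n7618 := d11_2 (iv F25459) D9911 (iv D7618)
def n9912 : Q := act 3 n7604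
theorem D9912 : act 3 n7604 = n9912 := rfl
theorem F32820 : act 6 n9912 = n7619 := d20_2 (iv F25459) D9912 (iv D7619)
def n9913 : Q := act 7 n7604
theorem D9913 : act 7 n7604 = n9913 := rfl
def n9914 : Q := act 0 n7606
theorem D9914 : act 0 n7606 = n9914 := rfl
theorem F32826 : act 5 n9914 = n7608 := d4_2 (iv F25465) D9914 (iv D7608)
theorem F32827 : act 6 n9914 = n7621 := d5_2 (iv F25466) D9914 (iv D7621)
def n9915 : Q := act 7 n7606
theorem D9915 : act 7 n7606 = n9915 := rfl
theorem F32828 : act 1 n9915 = n7607 := d12_1 D9915 (iv D7607) D7606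
def n9916 : Q := act 6 n7607
theorem D9916 : act 6 n7607 = n9916 := rfl
def n9917 : Q := act 7 n7608
theorem D9917 : act 7 n7608 = n9917 := rfl
def n9919 : Q := act 1 n7611
theorem D9919 : act 1 n7611 = n9919 := rfl
def n9921 : Q := act 7 n7611
theorem D9921 : act 7 n7611 = n9921 := rfl
theorem F32850 : act 2 n9921 = n7612 := d17_1 D9921 (iv D7612) D7611
def n9922 : Q := act 0 n7613
theorem D9922 : act 0 n7613 = n9922 := rfl
def n9923 : Q := act 7 n7613
theorem D9923 : act 7 n7613 = n9923 := rfl
theorem F32857 : act 1 n9923 = n7614 := d12_1 D9923 (iv D7614) D7613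
def n9924 : Q := act 6 n7614
theorem D9924 : act 6 n7614 = n9924 := rfl
def n9927 : Q := act 0 n7618
theorem D9927 : act 0 n7618 = n9927 := rfl
def n9929 : Q := act 7 n7618
theorem D9929 : act 7 n7618 = n9929 := rfl
theorem F32878 : act 1 n9929 = n7620 := d12_1 D9929 (iv D7620) D7618
def n9930 : Q := act 7 n7619
theorem D9930 : act 7 n7619 = n9930 := rfl
theorem F32882 : act 3 n9930 = n7620 := d21_1 D9930 (iv D7620) D7619
def n9931 : Q := act 6 n7620
theorem D9931 : act 6 n7620 = n9931 := rfl
def n9932 : Q := act 7 n7621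
theorem D9932 : act 7 n7621 = n9932 := rfl
theorem F32887 : act 0 n9932 = n7622 := d6_1 D9932 (iv D7622) D7621
def n9933 : Q := act 6 n7622
theorem D9933 : act 6 n7622 = n9933 := rfl
theorem F32891 : act 1 n9933 = n7623 := d11_1 D9933 (iv D7623) (iv F25517)
theorem F32893 : act 5 n9933 = n7625 := d25_1 D9933 (iv D7625) (iv F25520)
def n9934 : Q := act 6 n7624
theorem D9934 : act 6 n7624 = n9934 := rfl
theorem F32894 : act 0 n9934 = n7625 := d5_1 D9934 (iv D7625) (iv F25523)
def n9935 : Q := act 2 n7625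
theorem D9935 : act 2 n7625 = n9935 := rfl
def n9968 : Q := act 7 n7651
theorem D9968 : act 7 n7651 = n9968 := rfl
theorem F33008 : act 1 n9968 = n7652 := d12_1 D9968 (iv D7652) D7651
def n9969 : Q := act 6 n7652
theorem D9969 : act 6 n7652 = n9969 := rfl
def n9973 : Q := act 7 n7656
theorem D9973 : act 7 n7656 = n9973 := rfl
theorem F33029 : act 3 n9973 = n7657 := d21_1 D9973 (iv D7657) D7656
def n9974 : Q := act 6 n7657
theorem D9974 : act 6 n7657 = n9974 := rfl
def n10021 : Q := act 2 n7698
theorem D10021 : act 2 n7698 = n10021 := rfl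
theorem F33199 : act 6 n10021 = n10021 := d16_2 D7698 D10021 (iv D10021) (iv D7698) F19996
def n10513 : Q := act 1 n8081
theorem D10513 : act 1 n8081 = n10513 := rfl
theorem F34869 : act 5 n10513 = n8094 := d10_2 (iv F27090) D10513 (iv D8094)
theorem F34870 : act 6 n10513 = n8082 := d11_2 (iv F27091) D10513 (iv D8082)
def n10514 : Q := act 3 n8081
theorem D10514 : act 3 n8081 = n10514 := rfl
theorem F34873 : act 6 n10514 = n8083 := d20_2 (iv F27091) D10514 (iv D8083)
def n10515 : Q := act 0 n8082
theorem D10515 : act 0 n8082 = n10515 := rfl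
theorem F34875 : act 2 n10515 = n8167 := d1_2 (iv F27092) D10515 (iv D8167)
def n10516 : Q := act 3 n8082
theorem D10516 : act 3 n8082 = n10516 := rfl
theorem F34878 : act 1 n10516 = n8083 := d8_1 D10516 (iv D8083) D8082
theorem F34879 : act 5 n10516 = n8097 := d19_2 (iv F27093) D10516 (iv D8097)
def n10530 : Q := act 3 n8093
theorem D10530 : act 3 n8093 = n10530 := rfl
theorem F34917 : act 0 n10530 = n8425 := d2_1 D10530 (iv D8425) (iv F27128)
theorem F34918 : act 2 n10530 = n8095 := d13_1 D10530 (iv D8095) (iv D6214) (iv F21055) D8093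
theorem F34919 : act 6 n10530 = n8118 := d20_2 (iv F27129) D10530 (iv D8118)
def n10531 : Q := act 0 n8094
theorem D10531 : act 0 n8094 = n10531 := rfl
theorem F34920 : act 1 n10531 = n8426 := d0_2 D8094 D10531 (iv D8426) (iv D6461) (iv F21056)
theorem F34922 : act 6 n10531 = n8096 := d5_2 (iv F27131) D10531 (iv D8096)
def n10532 : Q := act 3 n8094
theorem D10532 : act 3 n8094 = n10532 := rfl
theorem F34924 : act 6 n10532 = n8097 := d20_2 (iv F27131) D10532 (iv D8097)
def n10533 : Q := act 4 n8095
theorem D10533 : act 4 n8095 = n10533 := rfl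
theorem F34925 : act 0 n10533 = n8428 := d3_1 D10533 (iv D8428) (iv F27132)
theorem F34927 : act 6 n10533 = n8098 := d23_2 (iv F27133) D10533 (iv D8098)
def n10534 : Q := act 3 n8096
theorem D10534 : act 3 n8096 = n10534 := rfl
theorem F34928 : act 0 n10534 = n8097 := d2_1 D10534 (iv D8097) D8096
theorem F34929 : act 1 n10534 = n8429 := d8_1 D10534 (iv D8429) (iv F27134)
theorem F34930 : act 7 n10534 = n8099 := d21_2 (iv F27137) D10534 (iv D8099)
def n10535 : Q := act 2 n8097
theorem D10535 : act 2 n8097 = n10535 := rfl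
theorem F34931 : act 1 n10535 = n8123 := d7_1 D10535 (iv D8123) F21131 (iv F21063) (iv F27138)
theorem F34932 : act 3 n10535 = n8180 := d13_2 D8097 D10535 (iv D8180) (iv D6275) (iv F21059)
theorem F34933 : act 7 n10535 = n8100 := d17_2 (iv F27139) D10535 (iv D8100)
def n10536 : Q := act 4 n8097
theorem D10536 : act 4 n8097 = n10536 := rfl
theorem F34936 : act 7 n10536 = n8101 := d24_2 (iv F27139) D10536 (iv D8101)
def n10537 : Q := act 5 n8098
theorem D10537 : act 5 n8098 = n10537 := rfl
theorem F34938 : act 2 n10537 = n8125 := d15_1 D10537 (iv D8125) (iv F27141)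
def n10538 : Q := act 2 n8099
theorem D10538 : act 2 n8099 = n10538 := rfl
theorem F34941 : act 0 n10538 = n8100 := d1_1 D10538 (iv D8100) (iv F27144)
theorem F34942 : act 3 n10538 = n8183 := d13_2 D8099 D10538 (iv D8183) (iv D6277) (iv F21066)
def n10539 : Q := act 4 n8099
theorem D10539 : act 4 n8099 = n10539 := rfl
theorem F34944 : act 1 n10539 = n8434 := d9_1 D10539 (iv D8434) (iv F27145)
def n10540 : Q := act 4 n8100
theorem D10540 : act 4 n8100 = n10540 := rfl
theorem F34946 : act 1 n10540 = n8128 := d9_1 D10540 (iv D8128) (iv F27146)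
theorem F34947 : act 2 n10540 = n8101 := d14_1 D10540 (iv D8101) D8100
def n10541 : Q := act 6 n8100
theorem D10541 : act 6 n8100 = n10541 := rfl
theorem F34948 : act 1 n10541 = n8129 := d11_1 D10541 (iv D8129) (iv F27146)
theorem F34949 : act 3 n10541 = n8186 := d20_1 D10541 (iv D8186) (iv F27147)
def n10542 : Q := act 5 n8101
theorem D10542 : act 5 n8101 = n10542 := rfl
def n10550 : Q := act 3 n8108
theorem D10550 : act 3 n8108 = n10550 := rfl
theorem F34982 : act 0 n10550 = n8109 := d2_1 D10550 (iv D8109) D8108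
theorem F34984 : act 5 n10550 = n8122 := d19_2 (iv F27178) D10550 (iv D8122)
theorem F34985 : act 7 n10550 = n8111 := d21_2 (iv F27179) D10550 (iv D8111)
def n10551 : Q := act 2 n8109
theorem D10551 : act 2 n8109 = n10551 := rfl
theorem F34986 : act 3 n10551 = n8189 := d13_2 D8109 D10551 (iv D8189) (iv D6282) (iv F21091)
theorem F34987 : act 5 n10551 = n8123 := d15_2 (iv F27181) D10551 (iv D8123)
theorem F34988 : act 7 n10551 = n8112 := d17_2 (iv F27182) D10551 (iv D8112)
def n10554 : Q := act 2 n8111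
theorem D10554 : act 2 n8111 = n10554 := rfl
theorem F34996 : act 0 n10554 = n8112 := d1_1 D10554 (iv D8112) (iv F27186)
theorem F34997 : act 3 n10554 = n8192 := d13_2 D8111 D10554 (iv D8192) (iv D6284) (iv F21099)
theorem F34998 : act 5 n10554 = n8126 := d15_2 (iv F27188) D10554 (iv D8126)
def n10556 : Q := act 4 n8112
theorem D10556 : act 4 n8112 = n10556 := rfl
def n10557 : Q := act 6 n8112
theorem D10557 : act 6 n8112 = n10557 := rfl
theorem F35005 : act 3 n10557 = n8195 := d20_1 D10557 (iv D8195) (iv F27190)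
theorem F35006 : act 5 n10557 = n8129 := d25_1 D10557 (iv D8129) (iv F27191)
def n10564 : Q := act 4 n8118
theorem D10564 : act 4 n8118 = n10564 := rfl
theorem F35026 : act 2 n10564 = n8121 := d14_1 D10564 (iv D8121) (iv F27210)
def n10565 : Q := act 3 n8119
theorem D10565 : act 3 n8119 = n10565 := rfl
theorem F35028 : act 0 n10565 = n8120 := d2_1 D10565 (iv D8120) D8119
def n10567 : Q := act 4 n8120
theorem D10567 : act 4 n8120 = n10567 := rfl
theorem F35034 : act 1 n10567 = n8121 := d9_1 D10567 (iv D8121) (iv F27217)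
theorem F35035 : act 3 n10567 = n8139 := d18_1 D10567 (iv D8139) (iv D6246) (iv F21121) D8120
def n10568 : Q := act 5 n8121
theorem D10568 : act 5 n8121 = n10568 := rfl
theorem F35039 : act 3 n10568 = n8140 := d19_1 D10568 (iv D8140) (iv F27221)
theorem F35040 : act 6 n10568 = n8125 := d25_2 (iv F27222) D10568 (iv D8125)
def n10569 : Q := act 2 n8122
theorem D10569 : act 2 n8122 = n10569 := rfl
theorem F35042 : act 0 n10569 = n8123 := d1_1 D10569 (iv D8123) (iv F27224)
theorem F35043 : act 3 n10569 = n8197 := d13_2 D8122 D10569 (iv D8197) (iv D6288) (iv F21128)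
theorem F35044 : act 7 n10569 = n8126 := d17_2 (iv F27226) D10569 (iv D8126)
def n10570 : Q := act 4 n8122
theorem D10570 : act 4 n8122 = n10570 := rfl
theorem F35045 : act 0 n10570 = n8124 := d3_1 D10570 (iv D8124) (iv F27224)
theorem F35046 : act 1 n10570 = n8465 := d9_1 D10570 (iv D8465) (iv F27225)
theorem F35047 : act 3 n10570 = n8142 := d18_1 D10570 (iv D8142) (iv D6248) (iv F21129) D8122
theorem F35048 : act 7 n10570 = n8127 := d24_2 (iv F27226) D10570 (iv D8127)
def n10571 : Q := act 4 n8123
theorem D10571 : act 4 n8123 = n10571 := rfl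
theorem F35049 : act 2 n10571 = n8124 := d14_1 D10571 (iv D8124) D8123
theorem F35050 : act 7 n10571 = n8128 := d24_2 (iv F27228) D10571 (iv D8128)
def n10572 : Q := act 6 n8123
theorem D10572 : act 6 n8123 = n10572 := rfl
theorem F35051 : act 3 n10572 = n8200 := d20_1 D10572 (iv D8200) (iv F27227)
def n10573 : Q := act 5 n8124
theorem D10573 : act 5 n8124 = n10573 := rfl
theorem F35052 : act 1 n10573 = n8125 := d10_1 D10573 (iv D8125) (iv F27229)
theorem F35053 : act 3 n10573 = n8145 := d19_1 D10573 (iv D8145) (iv F27230)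
theorem F35054 : act 7 n10573 = n8130 := d26_2 (iv F27231) D10573 (iv D8130)
def n10574 : Q := act 1 n8126
theorem D10574 : act 1 n8126 = n10574 := rfl
theorem F35055 : act 2 n10574 = n8469 := d7_2 D8126 D10574 (iv D8469) (iv D6493) (iv F21137)
theorem F35056 : act 3 n10574 = n8202 := d8_2 (iv F27236) D10574 (iv D8202)
def n10575 : Q := act 4 n8126
theorem D10575 : act 4 n8126 = n10575 := rfl
theorem F35057 : act 0 n10575 = n8128 := d3_1 D10575 (iv D8128) (iv F27235)
theorem F35058 : act 2 n10575 = n8127 := d14_1 D10575 (iv D8127) D8126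
def n10576 : Q := act 6 n8126
theorem D10576 : act 6 n8126 = n10576 := rfl
theorem F35059 : act 0 n10576 = n8129 := d5_1 D10576 (iv D8129) (iv F27235)
theorem F35060 : act 2 n10576 = n10576 := d16_1 D10576 (iv D10576) (iv D8126) F21138 D8126
theorem F35061 : act 3 n10576 = n8204 := d20_1 D10576 (iv D8204) (iv F27236)
def n10577 : Q := act 5 n8127
theorem D10577 : act 5 n8127 = n10577 := rfl
theorem F35062 : act 0 n10577 = n8130 := d4_1 D10577 (iv D8130) (iv F27237)
theorem F35063 : act 1 n10577 = n8472 := d10_1 D10577 (iv D8472) (iv F27238)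
theorem F35064 : act 3 n10577 = n8149 := d19_1 D10577 (iv D8149) (iv F27239)
theorem F35065 : act 6 n10577 = n10577 := d25_2 F27240 D10577 (iv D10577)
def n10578 : Q := act 3 n8128
theorem D10578 : act 3 n8128 = n10578 := rfl
theorem F35066 : act 2 n10578 = n8150 := d13_1 D10578 (iv D8150) F21197 (iv F21141) (iv F27241)
theorem F35067 : act 4 n10578 = n8206 := d18_2 D8128 D10578 (iv D8206) (iv D6294) (iv F21139)
def n10579 : Q := act 5 n8128
theorem D10579 : act 5 n8128 = n10579 := rfl
theorem F35068 : act 2 n10579 = n8130 := d15_1 D10579 (iv D8130) (iv F27241)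
def n10580 : Q := act 6 n8128
theorem D10580 : act 6 n8128 = n10580 := rfl
theorem F35069 : act 2 n10580 = n10580 := d16_1 D10580 (iv D10580) F27241 F21142 (iv F27241)
theorem F35070 : act 4 n10580 = n8129 := d23_1 D10580 (iv D8129) D8128
def n10581 : Q := act 7 n8129
theorem D10581 : act 7 n8129 = n10581 := rfl
theorem F35071 : act 2 n10581 = n10581 := d17_1 D10581 (iv D10581) F27242
theorem F35072 : act 3 n10581 = n8209 := d21_1 D10581 (iv D8209) (iv F27243)
def n10587 : Q := act 3 n8134
theorem D10587 : act 3 n8134 = n10587 := rfl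
theorem F35094 : act 0 n10587 = n8135 := d2_1 D10587 (iv D8135) D8134
theorem F35095 : act 1 n10587 = n8482 := d8_1 D10587 (iv D8482) (iv F27259)
def n10588 : Q := act 2 n8135
theorem D10588 : act 2 n8135 = n10588 := rfl
theorem F35099 : act 1 n10588 = n8138 := d7_1 D10588 (iv D8138) F21169 (iv F21160) (iv F27264)
def n10591 : Q := act 2 n8137
theorem D10591 : act 2 n8137 = n10591 := rfl
theorem F35111 : act 0 n10591 = n8138 := d1_1 D10591 (iv D8138) (iv F27272)
def n10592 : Q := act 4 n8137
theorem D10592 : act 4 n8137 = n10592 := rfl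
theorem F35116 : act 1 n10592 = n8487 := d9_1 D10592 (iv D8487) (iv F27273)
theorem F35117 : act 6 n10592 = n8142 := d23_2 (iv F27275) D10592 (iv D8142)
def n10594 : Q := act 6 n8138
theorem D10594 : act 6 n8138 = n10594 := rfl
theorem F35121 : act 2 n10594 = n8144 := d16_1 D10594 (iv D8144) (iv D6249) (iv F21171) D8138
def n10595 : Q := act 5 n8139
theorem D10595 : act 5 n8139 = n10595 := rfl
theorem F35126 : act 6 n10595 = n8145 := d25_2 (iv F27281) D10595 (iv D8145)
def n10596 : Q := act 1 n8141
theorem D10596 : act 1 n8141 = n10596 := rfl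
theorem F35128 : act 0 n10596 = n10596 := d0_1 D10596 (iv D10596) F27287 F21180 (iv F27287)
theorem F35129 : act 2 n10596 = n8491 := d7_2 D8141 D10596 (iv D8491) (iv D6508) (iv F21177)
theorem F35130 : act 3 n10596 = n8210 := d8_2 (iv F27288) D10596 (iv D8210)
theorem F35131 : act 5 n10596 = n10596 := d10_2 F27289 D10596 (iv D10596)
theorem F35132 : act 7 n10596 = n8146 := d12_2 (iv F27290) D10596 (iv D8146)
def n10597 : Q := act 4 n8141
theorem D10597 : act 4 n8141 = n10597 := rfl
theorem F35133 : act 0 n10597 = n8143 := d3_1 D10597 (iv D8143) (iv F27287)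
theorem F35134 : act 2 n10597 = n8142 := d14_1 D10597 (iv D8142) D8141
theorem F35135 : act 7 n10597 = n8147 := d24_2 (iv F27290) D10597 (iv D8147)
def n10598 : Q := act 6 n8141
theorem D10598 : act 6 n8141 = n10598 := rfl
theorem F35136 : act 0 n10598 = n8144 := d5_1 D10598 (iv D8144) (iv F27287)
theorem F35137 : act 3 n10598 = n8212 := d20_1 D10598 (iv D8212) (iv F27288)
theorem F35138 : act 5 n10598 = n10598 := d25_1 D10598 (iv D10598) F27289
def n10599 : Q := act 5 n8142
theorem D10599 : act 5 n8142 = n10599 := rfl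
theorem F35139 : act 0 n10599 = n8145 := d4_1 D10599 (iv D8145) (iv F27291)
theorem F35140 : act 1 n10599 = n8494 := d10_1 D10599 (iv D8494) (iv F27292)
theorem F35141 : act 4 n10599 = n10599 := d22_1 D10599 (iv D10599) (iv D8142) F21178 D8142
theorem F35142 : act 7 n10599 = n8149 := d26_2 (iv F27293) D10599 (iv D8149)
def n10600 : Q := act 3 n8143
theorem D10600 : act 3 n8143 = n10600 := rfl
theorem F35145 : act 7 n10600 = n8150 := d21_2 (iv F27296) D10600 (iv D8150)
def n10601 : Q := act 5 n8143
theorem D10601 : act 5 n8143 = n10601 := rfl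
theorem F35147 : act 2 n10601 = n8145 := d15_1 D10601 (iv D8145) (iv F27295)
theorem F35149 : act 7 n10601 = n8151 := d26_2 (iv F27296) D10601 (iv D8151)
def n10603 : Q := act 7 n8144
theorem D10603 : act 7 n8144 = n10603 := rfl
theorem F35155 : act 6 n10603 = n8153 := d27_1 D10603 (iv D8153) (iv D6255) (iv F21183) D8144
def n10604 : Q := act 4 n8146
theorem D10604 : act 4 n8146 = n10604 := rfl
theorem F35156 : act 0 n10604 = n10604 := d3_1 D10604 (iv D10604) F27303
theorem F35157 : act 1 n10604 = n8147 := d9_1 D10604 (iv D8147) D8146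
theorem F35158 : act 2 n10604 = n8499 := d14_1 D10604 (iv D8499) (iv F27304)
def n10605 : Q := act 6 n8146
theorem D10605 : act 6 n8146 = n10605 := rfl
theorem F35159 : act 0 n10605 = n10605 := d5_1 D10605 (iv D10605) F27303
theorem F35160 : act 1 n10605 = n8148 := d11_1 D10605 (iv D8148) D8146
theorem F35161 : act 3 n10605 = n8219 := d20_1 D10605 (iv D8219) (iv F27305)
theorem F35162 : act 5 n10605 = n10605 := d25_1 D10605 (iv D10605) F27306
def n10606 : Q := act 3 n8147
theorem D10606 : act 3 n8147 = n10606 := rfl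
theorem F35163 : act 0 n10606 = n8150 := d2_1 D10606 (iv D8150) (iv F27307)
theorem F35164 : act 4 n10606 = n8220 := d18_2 D8147 D10606 (iv D8220) (iv D6303) (iv F21191)
def n10607 : Q := act 5 n8147
theorem D10607 : act 5 n8147 = n10607 := rfl
theorem F35165 : act 0 n10607 = n8151 := d4_1 D10607 (iv D8151) (iv F27307)
theorem F35166 : act 2 n10607 = n8149 := d15_1 D10607 (iv D8149) (iv F27308)
theorem F35167 : act 4 n10607 = n10607 := d22_1 D10607 (iv D10607) (iv D8147) F21192 D8147
def n10608 : Q := act 6 n8147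
theorem D10608 : act 6 n8147 = n10608 := rfl
theorem F35168 : act 0 n10608 = n8152 := d5_1 D10608 (iv D8152) (iv F27307)
theorem F35169 : act 2 n10608 = n10608 := d16_1 D10608 (iv D10608) F27308 F21195 (iv F27308)
theorem F35170 : act 4 n10608 = n8148 := d23_1 D10608 (iv D8148) D8147
def n10609 : Q := act 7 n8148
theorem D10609 : act 7 n8148 = n10609 := rfl
theorem F35171 : act 0 n10609 = n8153 := d6_1 D10609 (iv D8153) (iv F27309)
theorem F35172 : act 2 n10609 = n10609 := d17_1 D10609 (iv D10609) F27310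
theorem F35173 : act 3 n10609 = n8223 := d21_1 D10609 (iv D8223) (iv F27311)
theorem F35174 : act 5 n10609 = n10609 := d26_1 D10609 (iv D10609) F27312
def n10610 : Q := act 5 n8150
theorem D10610 : act 5 n8150 = n10610 := rfl
theorem F35176 : act 3 n10610 = n8151 := d19_1 D10610 (iv D8151) D8150
def n10611 : Q := act 6 n8150
theorem D10611 : act 6 n8150 = n10611 := rfl
theorem F35178 : act 3 n10611 = n8152 := d20_1 D10611 (iv D8152) D8150
def n10612 : Q := act 6 n8151
theorem D10612 : act 6 n8151 = n10612 := rfl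
theorem F35183 : act 5 n10612 = n8152 := d25_1 D10612 (iv D8152) D8151
def n10613 : Q := act 7 n8152
theorem D10613 : act 7 n8152 = n10613 := rfl
def n10633 : Q := act 3 n8167
theorem D10633 : act 3 n8167 = n10633 := rfl
theorem F35267 : act 7 n10633 = n8170 := d21_2 (iv F27384) D10633 (iv D8170)
def n10634 : Q := act 2 n8168
theorem D10634 : act 2 n8168 = n10634 := rfl
theorem F35268 : act 1 n10634 = n8189 := d7_1 D10634 (iv D8189) F21293 (iv F21246) (iv F27385)
theorem F35270 : act 7 n10634 = n8171 := d17_2 (iv F27387) D10634 (iv D8171)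
def n10637 : Q := act 2 n8170
theorem D10637 : act 2 n8170 = n10637 := rfl
theorem F35277 : act 0 n10637 = n8171 := d1_1 D10637 (iv D8171) (iv F27391)
theorem F35278 : act 5 n10637 = n8183 := d15_2 (iv F27393) D10637 (iv D8183)
def n10638 : Q := act 4 n8170
theorem D10638 : act 4 n8170 = n10638 := rfl
theorem F35279 : act 0 n10638 = n8172 := d3_1 D10638 (iv D8172) (iv F27391)
theorem F35280 : act 1 n10638 = n8278 := d9_1 D10638 (iv D8278) (iv F27392)
def n10639 : Q := act 4 n8171
theorem D10639 : act 4 n8171 = n10639 := rfl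
theorem F35282 : act 1 n10639 = n8194 := d9_1 D10639 (iv D8194) (iv F27395)
def n10640 : Q := act 6 n8171
theorem D10640 : act 6 n8171 = n10640 := rfl
theorem F35284 : act 1 n10640 = n8195 := d11_1 D10640 (iv D8195) (iv F27395)
theorem F35286 : act 5 n10640 = n8186 := d25_1 D10640 (iv D8186) (iv F27396)
def n10641 : Q := act 5 n8172
theorem D10641 : act 5 n8172 = n10641 := rfl
theorem F35288 : act 4 n10641 = n8187 := d22_1 D10641 (iv D8187) (iv D6279) (iv F21253) D8172
def n10649 : Q := act 2 n8179
theorem D10649 : act 2 n8179 = n10649 := rfl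
theorem F35315 : act 0 n10649 = n8180 := d1_1 D10649 (iv D8180) (iv F27421)
theorem F35316 : act 7 n10649 = n8183 := d17_2 (iv F27423) D10649 (iv D8183)
def n10650 : Q := act 4 n8179
theorem D10650 : act 4 n8179 = n10650 := rfl
theorem F35320 : act 7 n10650 = n8184 := d24_2 (iv F27423) D10650 (iv D8184)
def n10651 : Q := act 4 n8180
theorem D10651 : act 4 n8180 = n10651 := rfl
theorem F35321 : act 1 n10651 = n8199 := d9_1 D10651 (iv D8199) (iv F27424)
theorem F35322 : act 2 n10651 = n8181 := d14_1 D10651 (iv D8181) D8180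
theorem F35323 : act 7 n10651 = n8185 := d24_2 (iv F27425) D10651 (iv D8185)
def n10652 : Q := act 6 n8180
theorem D10652 : act 6 n8180 = n10652 := rfl
theorem F35324 : act 1 n10652 = n8200 := d11_1 D10652 (iv D8200) (iv F27424)
def n10653 : Q := act 5 n8181
theorem D10653 : act 5 n8181 = n10653 := rfl
theorem F35325 : act 1 n10653 = n8182 := d10_1 D10653 (iv D8182) (iv F27426)
def n10654 : Q := act 1 n8183
theorem D10654 : act 1 n8183 = n10654 := rfl
theorem F35328 : act 0 n10654 = n8202 := d0_1 D10654 (iv D8202) F21326 (iv F21280) (iv F27433)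
theorem F35329 : act 2 n10654 = n8291 := d7_2 D8183 D10654 (iv D8291) (iv D6359) (iv F21278)
def n10655 : Q := act 4 n8183
theorem D10655 : act 4 n8183 = n10655 := rfl
theorem F35330 : act 0 n10655 = n8185 := d3_1 D10655 (iv D8185) (iv F27433)
theorem F35331 : act 2 n10655 = n8184 := d14_1 D10655 (iv D8184) D8183
def n10656 : Q := act 6 n8183
theorem D10656 : act 6 n8183 = n10656 := rfl
theorem F35332 : act 0 n10656 = n8186 := d5_1 D10656 (iv D8186) (iv F27433)
theorem F35333 : act 2 n10656 = n10656 := d16_1 D10656 (iv D10656) (iv D8183) F21279 D8183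
def n10657 : Q := act 5 n8184
theorem D10657 : act 5 n8184 = n10657 := rfl
theorem F35334 : act 0 n10657 = n8187 := d4_1 D10657 (iv D8187) (iv F27434)
theorem F35335 : act 1 n10657 = n8294 := d10_1 D10657 (iv D8294) (iv F27435)
theorem F35336 : act 3 n10657 = n10657 := d19_1 D10657 (iv D10657) F27436
theorem F35337 : act 6 n10657 = n10657 := d25_2 F27437 D10657 (iv D10657)
def n10658 : Q := act 3 n8185
theorem D10658 : act 3 n8185 = n10658 := rfl
theorem F35338 : act 1 n10658 = n8206 := d8_1 D10658 (iv D8206) (iv F27438)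
theorem F35339 : act 2 n10658 = n10658 := d13_1 D10658 (iv D10658) F27439 F21282 (iv F27439)
def n10659 : Q := act 5 n8185
theorem D10659 : act 5 n8185 = n10659 := rfl
theorem F35340 : act 1 n10659 = n8207 := d10_1 D10659 (iv D8207) (iv F27438)
theorem F35341 : act 2 n10659 = n8187 := d15_1 D10659 (iv D8187) (iv F27439)
def n10660 : Q := act 6 n8185
theorem D10660 : act 6 n8185 = n10660 := rfl
theorem F35342 : act 1 n10660 = n8208 := d11_1 D10660 (iv D8208) (iv F27438)
theorem F35343 : act 2 n10660 = n10660 := d16_1 D10660 (iv D10660) F27439 F21283 (iv F27439)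
theorem F35344 : act 4 n10660 = n8186 := d23_1 D10660 (iv D8186) D8185
def n10661 : Q := act 7 n8186
theorem D10661 : act 7 n8186 = n10661 := rfl
theorem F35345 : act 1 n10661 = n8209 := d12_1 D10661 (iv D8209) (iv F27440)
theorem F35346 : act 2 n10661 = n10661 := d17_1 D10661 (iv D10661) F27441
def n10662 : Q := act 2 n8188
theorem D10662 : act 2 n8188 = n10662 := rfl
theorem F35347 : act 0 n10662 = n8189 := d1_1 D10662 (iv D8189) (iv F27445)
theorem F35348 : act 5 n10662 = n8197 := d15_2 (iv F27447) D10662 (iv D8197)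
theorem F35349 : act 7 n10662 = n8192 := d17_2 (iv F27449) D10662 (iv D8192)
def n10663 : Q := act 4 n8188
theorem D10663 : act 4 n8188 = n10663 := rfl
theorem F35351 : act 1 n10663 = n8300 := d9_1 D10663 (iv D8300) (iv F27446)
theorem F35354 : act 7 n10663 = n8193 := d24_2 (iv F27449) D10663 (iv D8193)
def n10664 : Q := act 4 n8189
theorem D10664 : act 4 n8189 = n10664 := rfl
theorem F35355 : act 2 n10664 = n8190 := d14_1 D10664 (iv D8190) D8189
theorem F35356 : act 7 n10664 = n8194 := d24_2 (iv F27451) D10664 (iv D8194)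
def n10665 : Q := act 6 n8189
theorem D10665 : act 6 n8189 = n10665 := rfl
theorem F35358 : act 5 n10665 = n8200 := d25_1 D10665 (iv D8200) (iv F27450)
def n10666 : Q := act 5 n8190
theorem D10666 : act 5 n8190 = n10666 := rfl
theorem F35359 : act 1 n10666 = n8191 := d10_1 D10666 (iv D8191) (iv F27452)
theorem F35361 : act 4 n10666 = n8201 := d22_1 D10666 (iv D8201) (iv D6290) (iv F21294) D8190
def n10667 : Q := act 1 n8192
theorem D10667 : act 1 n8192 = n10667 := rfl
theorem F35364 : act 2 n10667 = n8304 := d7_2 D8192 D10667 (iv D8304) (iv D6368) (iv F21302)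
theorem F35365 : act 5 n10667 = n8202 := d10_2 (iv F27462) D10667 (iv D8202)
def n10668 : Q := act 4 n8192
theorem D10668 : act 4 n8192 = n10668 := rfl
theorem F35366 : act 0 n10668 = n8194 := d3_1 D10668 (iv D8194) (iv F27461)
theorem F35367 : act 2 n10668 = n8193 := d14_1 D10668 (iv D8193) D8192
def n10669 : Q := act 6 n8192
theorem D10669 : act 6 n8192 = n10669 := rfl
theorem F35368 : act 0 n10669 = n8195 := d5_1 D10669 (iv D8195) (iv F27461)
theorem F35369 : act 2 n10669 = n8230 := d16_1 D10669 (iv D8230) (iv D6310) (iv F21304) D8192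
theorem F35370 : act 5 n10669 = n8204 := d25_1 D10669 (iv D8204) (iv F27462)
def n10670 : Q := act 5 n8193
theorem D10670 : act 5 n8193 = n10670 := rfl
theorem F35371 : act 0 n10670 = n8196 := d4_1 D10670 (iv D8196) (iv F27463)
theorem F35372 : act 1 n10670 = n8307 := d10_1 D10670 (iv D8307) (iv F27464)
theorem F35373 : act 3 n10670 = n10670 := d19_1 D10670 (iv D10670) F27465
theorem F35374 : act 4 n10670 = n8205 := d22_1 D10670 (iv D8205) (iv D6293) (iv F21303) D8193
theorem F35375 : act 6 n10670 = n8231 := d25_2 (iv F27466) D10670 (iv D8231)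
def n10671 : Q := act 3 n8194
theorem D10671 : act 3 n8194 = n10671 := rfl
theorem F35376 : act 2 n10671 = n10671 := d13_1 D10671 (iv D10671) F27467 F21307 (iv F27467)
def n10672 : Q := act 5 n8194
theorem D10672 : act 5 n8194 = n10672 := rfl
theorem F35377 : act 2 n10672 = n8196 := d15_1 D10672 (iv D8196) (iv F27467)
theorem F35378 : act 4 n10672 = n8207 := d22_1 D10672 (iv D8207) (iv D6294) (iv F21305) D8194
def n10673 : Q := act 6 n8194
theorem D10673 : act 6 n8194 = n10673 := rfl
theorem F35379 : act 2 n10673 = n8234 := d16_1 D10673 (iv D8234) F21384 (iv F21308) (iv F27467)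
theorem F35380 : act 4 n10673 = n8195 := d23_1 D10673 (iv D8195) D8194
def n10674 : Q := act 7 n8195
theorem D10674 : act 7 n8195 = n10674 := rfl
theorem F35381 : act 2 n10674 = n8235 := d17_1 D10674 (iv D8235) (iv F27468)
theorem F35382 : act 5 n10674 = n8209 := d26_1 D10674 (iv D8209) (iv F27469)
def n10675 : Q := act 1 n8197
theorem D10675 : act 1 n8197 = n10675 := rfl
theorem F35383 : act 2 n10675 = n8312 := d7_2 D8197 D10675 (iv D8312) (iv D6373) (iv F21314)
theorem F35384 : act 7 n10675 = n8202 := d12_2 (iv F27475) D10675 (iv D8202)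
def n10676 : Q := act 4 n8197
theorem D10676 : act 4 n8197 = n10676 := rfl
theorem F35385 : act 0 n10676 = n8199 := d3_1 D10676 (iv D8199) (iv F27474)
theorem F35386 : act 2 n10676 = n8198 := d14_1 D10676 (iv D8198) D8197
theorem F35387 : act 7 n10676 = n8203 := d24_2 (iv F27475) D10676 (iv D8203)
def n10677 : Q := act 6 n8197
theorem D10677 : act 6 n8197 = n10677 := rfl
theorem F35388 : act 0 n10677 = n8200 := d5_1 D10677 (iv D8200) (iv F27474)
theorem F35389 : act 2 n10677 = n10677 := d16_1 D10677 (iv D10677) (iv D8197) F21315 D8197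
def n10678 : Q := act 5 n8198
theorem D10678 : act 5 n8198 = n10678 := rfl
theorem F35390 : act 0 n10678 = n8201 := d4_1 D10678 (iv D8201) (iv F27476)
theorem F35391 : act 1 n10678 = n8315 := d10_1 D10678 (iv D8315) (iv F27477)
theorem F35392 : act 3 n10678 = n8213 := d19_1 D10678 (iv D8213) (iv F27478)
theorem F35393 : act 6 n10678 = n10678 := d25_2 F27479 D10678 (iv D10678)
theorem F35394 : act 7 n10678 = n8205 := d26_2 (iv F27480) D10678 (iv D8205)
def n10679 : Q := act 3 n8199
theorem D10679 : act 3 n8199 = n10679 := rfl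
theorem F35395 : act 2 n10679 = n8214 := d13_1 D10679 (iv D8214) F21344 (iv F21319) (iv F27481)
theorem F35396 : act 7 n10679 = n8206 := d21_2 (iv F27482) D10679 (iv D8206)
def n10680 : Q := act 5 n8199
theorem D10680 : act 5 n8199 = n10680 := rfl
theorem F35397 : act 2 n10680 = n8201 := d15_1 D10680 (iv D8201) (iv F27481)
theorem F35398 : act 7 n10680 = n8207 := d26_2 (iv F27482) D10680 (iv D8207)
def n10681 : Q := act 6 n8199
theorem D10681 : act 6 n8199 = n10681 := rfl
theorem F35399 : act 2 n10681 = n10681 := d16_1 D10681 (iv D10681) F27481 F21320 (iv F27481)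
theorem F35400 : act 4 n10681 = n8200 := d23_1 D10681 (iv D8200) D8199
def n10682 : Q := act 7 n8200
theorem D10682 : act 7 n8200 = n10682 := rfl
theorem F35401 : act 2 n10682 = n10682 := d17_1 D10682 (iv D10682) F27483
theorem F35402 : act 6 n10682 = n8209 := d27_1 D10682 (iv D8209) (iv D6295) (iv F21317) D8200
def n10683 : Q := act 4 n8202
theorem D10683 : act 4 n8202 = n10683 := rfl
theorem F35403 : act 1 n10683 = n8203 := d9_1 D10683 (iv D8203) D8202
theorem F35404 : act 2 n10683 = n8320 := d14_1 D10683 (iv D8320) (iv F27488)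
def n10684 : Q := act 6 n8202
theorem D10684 : act 6 n8202 = n10684 := rfl
theorem F35405 : act 1 n10684 = n8204 := d11_1 D10684 (iv D8204) D8202
def n10685 : Q := act 3 n8203
theorem D10685 : act 3 n8203 = n10685 := rfl
theorem F35406 : act 0 n10685 = n8206 := d2_1 D10685 (iv D8206) (iv F27489)
theorem F35407 : act 2 n10685 = n8220 := d13_1 D10685 (iv D8220) F21357 (iv F21329) (iv F27490)
def n10686 : Q := act 5 n8203
theorem D10686 : act 5 n8203 = n10686 := rfl
theorem F35408 : act 0 n10686 = n8207 := d4_1 D10686 (iv D8207) (iv F27489)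
theorem F35409 : act 2 n10686 = n8205 := d15_1 D10686 (iv D8205) (iv F27490)
def n10687 : Q := act 6 n8203
theorem D10687 : act 6 n8203 = n10687 := rfl
theorem F35410 : act 0 n10687 = n8208 := d5_1 D10687 (iv D8208) (iv F27489)
theorem F35411 : act 2 n10687 = n8240 := d16_1 D10687 (iv D8240) F21398 (iv F21330) (iv F27490)
theorem F35412 : act 4 n10687 = n8204 := d23_1 D10687 (iv D8204) D8203
def n10688 : Q := act 7 n8204
theorem D10688 : act 7 n8204 = n10688 := rfl
theorem F35413 : act 0 n10688 = n8209 := d6_1 D10688 (iv D8209) (iv F27491)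
theorem F35414 : act 2 n10688 = n8241 := d17_1 D10688 (iv D8241) (iv F27492)
def n10689 : Q := act 5 n8206
theorem D10689 : act 5 n8206 = n10689 := rfl
def n10690 : Q := act 6 n8206
theorem D10690 : act 6 n8206 = n10690 := rfl
def n10691 : Q := act 6 n8207
theorem D10691 : act 6 n8207 = n10691 := rfl
theorem F35418 : act 2 n10691 = n8244 := d16_1 D10691 (iv D8244) F21411 (iv F21335) (iv F27498)
theorem F35419 : act 5 n10691 = n8208 := d25_1 D10691 (iv D8208) D8207
def n10692 : Q := act 7 n8208
theorem D10692 : act 7 n8208 = n10692 := rfl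
theorem F35421 : act 4 n10692 = n8209 := d24_1 D10692 (iv D8209) (iv F27500)
def n10693 : Q := act 4 n8210
theorem D10693 : act 4 n8210 = n10693 := rfl
theorem F35422 : act 0 n10693 = n10693 := d3_1 D10693 (iv D10693) F27502
theorem F35423 : act 1 n10693 = n8211 := d9_1 D10693 (iv D8211) D8210
theorem F35424 : act 2 n10693 = n8330 := d14_1 D10693 (iv D8330) (iv F27503)
theorem F35425 : act 7 n10693 = n8218 := d24_2 (iv F27505) D10693 (iv D8218)
def n10694 : Q := act 6 n8210
theorem D10694 : act 6 n8210 = n10694 := rfl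
theorem F35426 : act 0 n10694 = n10694 := d5_1 D10694 (iv D10694) F27502
theorem F35427 : act 1 n10694 = n8212 := d11_1 D10694 (iv D8212) D8210
theorem F35428 : act 5 n10694 = n10694 := d25_1 D10694 (iv D10694) F27504
def n10695 : Q := act 3 n8211
theorem D10695 : act 3 n8211 = n10695 := rfl
theorem F35429 : act 0 n10695 = n8214 := d2_1 D10695 (iv D8214) (iv F27506)
theorem F35430 : act 7 n10695 = n8220 := d21_2 (iv F27508) D10695 (iv D8220)
def n10696 : Q := act 5 n8211
theorem D10696 : act 5 n8211 = n10696 := rfl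
theorem F35431 : act 0 n10696 = n8215 := d4_1 D10696 (iv D8215) (iv F27506)
theorem F35432 : act 2 n10696 = n8213 := d15_1 D10696 (iv D8213) (iv F27507)
theorem F35433 : act 4 n10696 = n10696 := d22_1 D10696 (iv D10696) (iv D8211) F21337 D8211
theorem F35434 : act 7 n10696 = n8221 := d26_2 (iv F27508) D10696 (iv D8221)
def n10697 : Q := act 6 n8211
theorem D10697 : act 6 n8211 = n10697 := rfl
theorem F35435 : act 0 n10697 = n8216 := d5_1 D10697 (iv D8216) (iv F27506)
theorem F35436 : act 2 n10697 = n10697 := d16_1 D10697 (iv D10697) F27507 F21341 (iv F27507)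
theorem F35437 : act 4 n10697 = n8212 := d23_1 D10697 (iv D8212) D8211
def n10698 : Q := act 7 n8212
theorem D10698 : act 7 n8212 = n10698 := rfl
theorem F35438 : act 0 n10698 = n8217 := d6_1 D10698 (iv D8217) (iv F27509)
theorem F35439 : act 2 n10698 = n10698 := d17_1 D10698 (iv D10698) F27510
theorem F35440 : act 5 n10698 = n10698 := d26_1 D10698 (iv D10698) F27511
theorem F35441 : act 6 n10698 = n8223 := d27_1 D10698 (iv D8223) (iv D6304) (iv F21338) D8212
def n10699 : Q := act 5 n8214
theorem D10699 : act 5 n8214 = n10699 := rfl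
theorem F35444 : act 7 n10699 = n8224 := d26_2 (iv F27518) D10699 (iv D8224)
def n10700 : Q := act 6 n8214
theorem D10700 : act 6 n8214 = n10700 := rfl
def n10701 : Q := act 6 n8215
theorem D10701 : act 6 n8215 = n10701 := rfl
theorem F35450 : act 5 n10701 = n8216 := d25_1 D10701 (iv D8216) D8215
def n10702 : Q := act 7 n8216
theorem D10702 : act 7 n8216 = n10702 := rfl
theorem F35453 : act 4 n10702 = n8217 := d24_1 D10702 (iv D8217) (iv F27525)
theorem F35454 : act 6 n10702 = n8227 := d27_1 D10702 (iv D8227) (iv D6308) (iv F21345) D8216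
def n10703 : Q := act 3 n8218
theorem D10703 : act 3 n8218 = n10703 := rfl
theorem F35455 : act 0 n10703 = n10703 := d2_1 D10703 (iv D10703) F27530
theorem F35456 : act 1 n10703 = n8220 := d8_1 D10703 (iv D8220) (iv F27531)
def n10704 : Q := act 5 n8218
theorem D10704 : act 5 n8218 = n10704 := rfl
theorem F35457 : act 0 n10704 = n10704 := d4_1 D10704 (iv D10704) F27530
theorem F35458 : act 1 n10704 = n8221 := d10_1 D10704 (iv D8221) (iv F27531)
theorem F35459 : act 2 n10704 = n8339 := d15_1 D10704 (iv D8339) (iv F27532)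
theorem F35460 : act 4 n10704 = n10704 := d22_1 D10704 (iv D10704) (iv D8218) F21355 D8218
def n10705 : Q := act 6 n8218
theorem D10705 : act 6 n8218 = n10705 := rfl
theorem F35461 : act 0 n10705 = n10705 := d5_1 D10705 (iv D10705) F27530
theorem F35462 : act 1 n10705 = n8222 := d11_1 D10705 (iv D8222) (iv F27531)
theorem F35463 : act 2 n10705 = n10705 := d16_1 D10705 (iv D10705) F27532 F21645 (iv F27532)
theorem F35464 : act 4 n10705 = n8219 := d23_1 D10705 (iv D8219) D8218
def n10706 : Q := act 7 n8219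
theorem D10706 : act 7 n8219 = n10706 := rfl
theorem F35465 : act 0 n10706 = n10706 := d6_1 D10706 (iv D10706) F27533
theorem F35466 : act 1 n10706 = n8223 := d12_1 D10706 (iv D8223) (iv F27534)
theorem F35467 : act 2 n10706 = n10706 := d17_1 D10706 (iv D10706) F27535
theorem F35468 : act 5 n10706 = n10706 := d26_1 D10706 (iv D10706) F27536
def n10707 : Q := act 5 n8220
theorem D10707 : act 5 n8220 = n10707 := rfl
def n10708 : Q := act 6 n8220
theorem D10708 : act 6 n8220 = n10708 := rfl
def n10709 : Q := act 6 n8221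
theorem D10709 : act 6 n8221 = n10709 := rfl
theorem F35474 : act 2 n10709 = n8248 := d16_1 D10709 (iv D8248) F21424 (iv F21364) (iv F27539)
theorem F35476 : act 5 n10709 = n8222 := d25_1 D10709 (iv D8222) D8221
def n10710 : Q := act 7 n8222
theorem D10710 : act 7 n8222 = n10710 := rfl
theorem F35479 : act 4 n10710 = n8223 := d24_1 D10710 (iv D8223) (iv F27543)
def n10716 : Q := act 4 n8228
theorem D10716 : act 4 n8228 = n10716 := rfl
theorem F35492 : act 0 n10716 = n10716 := d3_1 D10716 (iv D10716) F27558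
theorem F35493 : act 1 n10716 = n8229 := d9_1 D10716 (iv D8229) D8228
theorem F35494 : act 2 n10716 = n8342 := d14_1 D10716 (iv D8342) (iv F27559)
theorem F35495 : act 7 n10716 = n10716 := d24_2 F27562 D10716 (iv D10716)
def n10717 : Q := act 6 n8228
theorem D10717 : act 6 n8228 = n10717 := rfl
theorem F35496 : act 0 n10717 = n10717 := d5_1 D10717 (iv D10717) F27558
theorem F35497 : act 1 n10717 = n8230 := d11_1 D10717 (iv D8230) D8228
theorem F35498 : act 3 n10717 = n10717 := d20_1 D10717 (iv D10717) F27560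
theorem F35499 : act 5 n10717 = n8237 := d25_1 D10717 (iv D8237) (iv F27561)
def n10718 : Q := act 3 n8229
theorem D10718 : act 3 n8229 = n10718 := rfl
theorem F35500 : act 0 n10718 = n8232 := d2_1 D10718 (iv D8232) (iv F27563)
theorem F35501 : act 2 n10718 = n10718 := d13_1 D10718 (iv D10718) F27564 F21381 (iv F27564)
theorem F35502 : act 4 n10718 = n10718 := d18_2 D8229 D10718 (iv D10718) (iv D8229) F21376
theorem F35503 : act 7 n10718 = n10718 := d21_2 F27565 D10718 (iv D10718)
def n10719 : Q := act 5 n8229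
theorem D10719 : act 5 n8229 = n10719 := rfl
theorem F35504 : act 0 n10719 = n8233 := d4_1 D10719 (iv D8233) (iv F27563)
theorem F35505 : act 2 n10719 = n8231 := d15_1 D10719 (iv D8231) (iv F27564)
theorem F35506 : act 4 n10719 = n8239 := d22_1 D10719 (iv D8239) (iv D6316) (iv F21377) D8229
theorem F35507 : act 7 n10719 = n10719 := d26_2 F27565 D10719 (iv D10719)
def n10720 : Q := act 6 n8229
theorem D10720 : act 6 n8229 = n10720 := rfl
theorem F35508 : act 0 n10720 = n8234 := d5_1 D10720 (iv D8234) (iv F27563)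
theorem F35509 : act 4 n10720 = n8230 := d23_1 D10720 (iv D8230) D8229
def n10721 : Q := act 7 n8230
theorem D10721 : act 7 n8230 = n10721 := rfl
theorem F35510 : act 0 n10721 = n8235 := d6_1 D10721 (iv D8235) (iv F27566)
theorem F35511 : act 3 n10721 = n10721 := d21_1 D10721 (iv D10721) F27567
theorem F35512 : act 5 n10721 = n8241 := d26_1 D10721 (iv D8241) (iv F27568)
theorem F35513 : act 6 n10721 = n10721 := d27_1 D10721 (iv D10721) (iv D8230) F21378 D8230
def n10722 : Q := act 5 n8232
theorem D10722 : act 5 n8232 = n10722 := rfl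
theorem F35516 : act 3 n10722 = n8233 := d19_1 D10722 (iv D8233) D8232
def n10723 : Q := act 6 n8232
theorem D10723 : act 6 n8232 = n10723 := rfl
theorem F35519 : act 3 n10723 = n8234 := d20_1 D10723 (iv D8234) D8232
def n10724 : Q := act 6 n8233
theorem D10724 : act 6 n8233 = n10724 := rfl
theorem F35523 : act 5 n10724 = n8234 := d25_1 D10724 (iv D8234) D8233
def n10725 : Q := act 7 n8234
theorem D10725 : act 7 n8234 = n10725 := rfl
theorem F35525 : act 4 n10725 = n8235 := d24_1 D10725 (iv D8235) (iv F27583)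
def n10726 : Q := act 3 n8236
theorem D10726 : act 3 n8236 = n10726 := rfl
theorem F35527 : act 0 n10726 = n10726 := d2_1 D10726 (iv D10726) F27588
theorem F35528 : act 1 n10726 = n8238 := d8_1 D10726 (iv D8238) (iv F27589)
theorem F35529 : act 2 n10726 = n10726 := d13_1 D10726 (iv D10726) F27590 F21686 (iv F27590)
theorem F35530 : act 4 n10726 = n10726 := d18_2 D8236 D10726 (iv D10726) (iv D8236) F21395
theorem F35531 : act 7 n10726 = n10726 := d21_2 F27591 D10726 (iv D10726)
def n10727 : Q := act 5 n8236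
theorem D10727 : act 5 n8236 = n10727 := rfl
theorem F35532 : act 0 n10727 = n10727 := d4_1 D10727 (iv D10727) F27588
theorem F35533 : act 1 n10727 = n8239 := d10_1 D10727 (iv D8239) (iv F27589)
theorem F35534 : act 2 n10727 = n8352 := d15_1 D10727 (iv D8352) (iv F27590)
theorem F35535 : act 7 n10727 = n10727 := d26_2 F27591 D10727 (iv D10727)
def n10728 : Q := act 6 n8236
theorem D10728 : act 6 n8236 = n10728 := rfl
theorem F35536 : act 0 n10728 = n10728 := d5_1 D10728 (iv D10728) F27588
theorem F35537 : act 1 n10728 = n8240 := d11_1 D10728 (iv D8240) (iv F27589)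
theorem F35538 : act 4 n10728 = n8237 := d23_1 D10728 (iv D8237) D8236
def n10729 : Q := act 2 n8237
theorem D10729 : act 2 n8237 = n10729 := rfl
theorem F35539 : act 0 n10729 = n10729 := d1_1 D10729 (iv D10729) F27592
theorem F35540 : act 6 n10729 = n8354 := d16_2 D8237 D10729 (iv D8354) (iv D6406) (iv F21394)
def n10730 : Q := act 7 n8237
theorem D10730 : act 7 n8237 = n10730 := rfl
theorem F35541 : act 0 n10730 = n10730 := d6_1 D10730 (iv D10730) F27592
theorem F35542 : act 1 n10730 = n8241 := d12_1 D10730 (iv D8241) (iv F27593)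
theorem F35543 : act 3 n10730 = n10730 := d21_1 D10730 (iv D10730) F27594
theorem F35544 : act 6 n10730 = n10730 := d27_1 D10730 (iv D10730) (iv D8237) F21396 D8237
def n10731 : Q := act 5 n8238
theorem D10731 : act 5 n8238 = n10731 := rfl
theorem F35547 : act 3 n10731 = n8239 := d19_1 D10731 (iv D8239) D8238
def n10732 : Q := act 6 n8238
theorem D10732 : act 6 n8238 = n10732 := rfl
theorem F35550 : act 3 n10732 = n8240 := d20_1 D10732 (iv D8240) D8238
def n10733 : Q := act 6 n8239
theorem D10733 : act 6 n8239 = n10733 := rfl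
theorem F35553 : act 5 n10733 = n8240 := d25_1 D10733 (iv D8240) D8239
def n10734 : Q := act 7 n8240
theorem D10734 : act 7 n8240 = n10734 := rfl
theorem F35555 : act 4 n10734 = n8241 := d24_1 D10734 (iv D8241) (iv F27603)
def n10775 : Q := act 2 n8273
theorem D10775 : act 2 n8273 = n10775 := rfl
theorem F35701 : act 0 n10775 = n8274 := d1_1 D10775 (iv D8274) (iv F27716)
theorem F35703 : act 5 n10775 = n8286 := d15_2 (iv F27717) D10775 (iv D8286)
def n10777 : Q := act 4 n8274
theorem D10777 : act 4 n8274 = n10777 := rfl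
theorem F35709 : act 7 n10777 = n8279 := d24_2 (iv F27722) D10777 (iv D8279)
def n10778 : Q := act 6 n8274
theorem D10778 : act 6 n8274 = n10778 := rfl
def n10780 : Q := act 1 n8277
theorem D10780 : act 1 n8277 = n10780 := rfl
theorem F35716 : act 0 n10780 = n8304 := d0_1 D10780 (iv D8304) F21571 (iv F21513) (iv F27728)
theorem F35717 : act 3 n10780 = n8647 := d8_2 (iv F27729) D10780 (iv D8647)
theorem F35718 : act 5 n10780 = n8291 := d10_2 (iv F27730) D10780 (iv D8291)
def n10781 : Q := act 4 n8277
theorem D10781 : act 4 n8277 = n10781 := rfl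
theorem F35720 : act 2 n10781 = n8278 := d14_1 D10781 (iv D8278) D8277
def n10782 : Q := act 6 n8277
theorem D10782 : act 6 n8277 = n10782 := rfl
theorem F35723 : act 3 n10782 = n8649 := d20_1 D10782 (iv D8649) (iv F27729)
theorem F35724 : act 5 n10782 = n8293 := d25_1 D10782 (iv D8293) (iv F27730)
def n10783 : Q := act 5 n8278
theorem D10783 : act 5 n8278 = n10783 := rfl
def n10784 : Q := act 3 n8279
theorem D10784 : act 3 n8279 = n10784 := rfl
theorem F35729 : act 4 n10784 = n8651 := d18_2 D8279 D10784 (iv D8651) (iv D6627) (iv F21514)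
def n10785 : Q := act 5 n8279
theorem D10785 : act 5 n8279 = n10785 := rfl
theorem F35732 : act 4 n10785 = n8296 := d22_1 D10785 (iv D8296) (iv D6361) (iv F21515) D8279
def n10786 : Q := act 6 n8279
theorem D10786 : act 6 n8279 = n10786 := rfl
theorem F35735 : act 4 n10786 = n8280 := d23_1 D10786 (iv D8280) D8279
def n10793 : Q := act 1 n8286
theorem D10793 : act 1 n8286 = n10793 := rfl
theorem F35757 : act 0 n10793 = n8312 := d0_1 D10793 (iv D8312) F21585 (iv F21534) (iv F27756)
theorem F35758 : act 3 n10793 = n8655 := d8_2 (iv F27757) D10793 (iv D8655)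
theorem F35759 : act 7 n10793 = n8291 := d12_2 (iv F27758) D10793 (iv D8291)
def n10794 : Q := act 4 n8286
theorem D10794 : act 4 n8286 = n10794 := rfl
theorem F35760 : act 0 n10794 = n8288 := d3_1 D10794 (iv D8288) (iv F27756)
theorem F35762 : act 7 n10794 = n8292 := d24_2 (iv F27758) D10794 (iv D8292)
def n10795 : Q := act 6 n8286
theorem D10795 : act 6 n8286 = n10795 := rfl
def n10796 : Q := act 5 n8287
theorem D10796 : act 5 n8287 = n10796 := rfl
theorem F35767 : act 7 n10796 = n8294 := d26_2 (iv F27761) D10796 (iv D8294)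
def n10797 : Q := act 3 n8288
theorem D10797 : act 3 n8288 = n10797 := rfl
theorem F35768 : act 1 n10797 = n8316 := d8_1 D10797 (iv D8316) (iv F27762)
theorem F35770 : act 4 n10797 = n8659 := d18_2 D8288 D10797 (iv D8659) (iv D6632) (iv F21535)
theorem F35771 : act 7 n10797 = n8295 := d21_2 (iv F27764) D10797 (iv D8295)
def n10798 : Q := act 5 n8288
theorem D10798 : act 5 n8288 = n10798 := rfl
theorem F35773 : act 2 n10798 = n8290 := d15_1 D10798 (iv D8290) (iv F27763)
theorem F35774 : act 7 n10798 = n8296 := d26_2 (iv F27764) D10798 (iv D8296)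
def n10799 : Q := act 6 n8288
theorem D10799 : act 6 n8288 = n10799 := rfl
def n10801 : Q := act 4 n8291
theorem D10801 : act 4 n8291 = n10801 := rfl
theorem F35780 : act 0 n10801 = n8320 := d3_1 D10801 (iv D8320) (iv F27770)
theorem F35781 : act 1 n10801 = n8292 := d9_1 D10801 (iv D8292) D8291
def n10802 : Q := act 6 n8291
theorem D10802 : act 6 n8291 = n10802 := rfl
theorem F35782 : act 0 n10802 = n8321 := d5_1 D10802 (iv D8321) (iv F27770)
theorem F35783 : act 1 n10802 = n8293 := d11_1 D10802 (iv D8293) D8291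
theorem F35784 : act 3 n10802 = n8664 := d20_1 D10802 (iv D8664) (iv F27771)
def n10803 : Q := act 3 n8292
theorem D10803 : act 3 n8292 = n10803 := rfl
theorem F35785 : act 0 n10803 = n8295 := d2_1 D10803 (iv D8295) (iv F27772)
theorem F35786 : act 2 n10803 = n10803 := d13_1 D10803 (iv D10803) F27773 F21546 (iv F27773)
theorem F35787 : act 4 n10803 = n8665 := d18_2 D8292 D10803 (iv D8665) (iv D6636) (iv F21544)
def n10804 : Q := act 5 n8292
theorem D10804 : act 5 n8292 = n10804 := rfl
theorem F35788 : act 0 n10804 = n8296 := d4_1 D10804 (iv D8296) (iv F27772)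
theorem F35789 : act 2 n10804 = n8294 := d15_1 D10804 (iv D8294) (iv F27773)
def n10805 : Q := act 6 n8292
theorem D10805 : act 6 n8292 = n10805 := rfl
theorem F35790 : act 0 n10805 = n8297 := d5_1 D10805 (iv D8297) (iv F27772)
theorem F35791 : act 2 n10805 = n10805 := d16_1 D10805 (iv D10805) F27773 F21547 (iv F27773)
theorem F35792 : act 4 n10805 = n8293 := d23_1 D10805 (iv D8293) D8292
def n10806 : Q := act 7 n8293
theorem D10806 : act 7 n8293 = n10806 := rfl
theorem F35793 : act 0 n10806 = n8298 := d6_1 D10806 (iv D8298) (iv F27774)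
theorem F35794 : act 2 n10806 = n10806 := d17_1 D10806 (iv D10806) F27775
theorem F35795 : act 3 n10806 = n8668 := d21_1 D10806 (iv D8668) (iv F27776)
def n10807 : Q := act 5 n8295
theorem D10807 : act 5 n8295 = n10807 := rfl
theorem F35796 : act 1 n10807 = n8326 := d10_1 D10807 (iv D8326) (iv F27780)
theorem F35797 : act 2 n10807 = n10807 := d15_1 D10807 (iv D10807) F27781
theorem F35798 : act 3 n10807 = n8296 := d19_1 D10807 (iv D8296) D8295
def n10808 : Q := act 6 n8295
theorem D10808 : act 6 n8295 = n10808 := rfl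
theorem F35799 : act 1 n10808 = n8327 := d11_1 D10808 (iv D8327) (iv F27780)
theorem F35800 : act 3 n10808 = n8297 := d20_1 D10808 (iv D8297) D8295
theorem F35801 : act 4 n10808 = n8670 := d23_1 D10808 (iv D8670) (iv F27782)
def n10809 : Q := act 6 n8296
theorem D10809 : act 6 n8296 = n10809 := rfl
theorem F35802 : act 1 n10809 = n8328 := d11_1 D10809 (iv D8328) (iv F27783)
theorem F35803 : act 2 n10809 = n10809 := d16_1 D10809 (iv D10809) F27784 F21555 (iv F27784)
theorem F35804 : act 5 n10809 = n8297 := d25_1 D10809 (iv D8297) D8296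
def n10810 : Q := act 7 n8297
theorem D10810 : act 7 n8297 = n10810 := rfl
theorem F35805 : act 1 n10810 = n8329 := d12_1 D10810 (iv D8329) (iv F27785)
theorem F35806 : act 2 n10810 = n10810 := d17_1 D10810 (iv D10810) F27786
theorem F35807 : act 4 n10810 = n8298 := d24_1 D10810 (iv D8298) (iv F27787)
def n10811 : Q := act 1 n8299
theorem D10811 : act 1 n8299 = n10811 := rfl
theorem F35808 : act 3 n10811 = n8673 := d8_2 (iv F27792) D10811 (iv D8673)
theorem F35809 : act 5 n10811 = n8312 := d10_2 (iv F27793) D10811 (iv D8312)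
theorem F35810 : act 7 n10811 = n8304 := d12_2 (iv F27794) D10811 (iv D8304)
def n10812 : Q := act 4 n8299
theorem D10812 : act 4 n8299 = n10812 := rfl
theorem F35811 : act 0 n10812 = n8301 := d3_1 D10812 (iv D8301) (iv F27791)
theorem F35813 : act 7 n10812 = n8305 := d24_2 (iv F27794) D10812 (iv D8305)
def n10813 : Q := act 6 n8299
theorem D10813 : act 6 n8299 = n10813 := rfl
def n10814 : Q := act 5 n8300
theorem D10814 : act 5 n8300 = n10814 := rfl
theorem F35820 : act 4 n10814 = n8315 := d22_1 D10814 (iv D8315) (iv D6374) (iv F21557) D8300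
theorem F35822 : act 7 n10814 = n8307 := d26_2 (iv F27798) D10814 (iv D8307)
def n10815 : Q := act 3 n8301
theorem D10815 : act 3 n8301 = n10815 := rfl
theorem F35825 : act 7 n10815 = n8308 := d21_2 (iv F27800) D10815 (iv D8308)
def n10816 : Q := act 5 n8301
theorem D10816 : act 5 n8301 = n10816 := rfl
theorem F35826 : act 2 n10816 = n8303 := d15_1 D10816 (iv D8303) (iv F27799)
theorem F35828 : act 7 n10816 = n8309 := d26_2 (iv F27800) D10816 (iv D8309)
def n10819 : Q := act 4 n8304
theorem D10819 : act 4 n8304 = n10819 := rfl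
theorem F35835 : act 1 n10819 = n8305 := d9_1 D10819 (iv D8305) D8304
def n10820 : Q := act 6 n8304
theorem D10820 : act 6 n8304 = n10820 := rfl
theorem F35836 : act 1 n10820 = n8306 := d11_1 D10820 (iv D8306) D8304
theorem F35837 : act 3 n10820 = n8682 := d20_1 D10820 (iv D8682) (iv F27809)
theorem F35838 : act 5 n10820 = n8321 := d25_1 D10820 (iv D8321) (iv F27810)
def n10821 : Q := act 3 n8305
theorem D10821 : act 3 n8305 = n10821 := rfl
theorem F35839 : act 0 n10821 = n8308 := d2_1 D10821 (iv D8308) (iv F27811)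
theorem F35840 : act 2 n10821 = n10821 := d13_1 D10821 (iv D10821) F27812 F21575 (iv F27812)
theorem F35841 : act 4 n10821 = n8683 := d18_2 D8305 D10821 (iv D8683) (iv D6649) (iv F21572)
def n10822 : Q := act 5 n8305
theorem D10822 : act 5 n8305 = n10822 := rfl
theorem F35842 : act 0 n10822 = n8309 := d4_1 D10822 (iv D8309) (iv F27811)
theorem F35843 : act 2 n10822 = n8307 := d15_1 D10822 (iv D8307) (iv F27812)
theorem F35844 : act 4 n10822 = n8323 := d22_1 D10822 (iv D8323) (iv D6379) (iv F21573) D8305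
def n10823 : Q := act 6 n8305
theorem D10823 : act 6 n8305 = n10823 := rfl
theorem F35845 : act 0 n10823 = n8310 := d5_1 D10823 (iv D8310) (iv F27811)
theorem F35846 : act 2 n10823 = n8346 := d16_1 D10823 (iv D8346) F21661 (iv F21576) (iv F27812)
theorem F35847 : act 4 n10823 = n8306 := d23_1 D10823 (iv D8306) D8305
def n10824 : Q := act 7 n8306
theorem D10824 : act 7 n8306 = n10824 := rfl
theorem F35848 : act 0 n10824 = n8311 := d6_1 D10824 (iv D8311) (iv F27813)
theorem F35849 : act 2 n10824 = n8347 := d17_1 D10824 (iv D8347) (iv F27814)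
theorem F35851 : act 5 n10824 = n8325 := d26_1 D10824 (iv D8325) (iv F27816)
def n10825 : Q := act 5 n8308
theorem D10825 : act 5 n8308 = n10825 := rfl
theorem F35852 : act 2 n10825 = n10825 := d15_1 D10825 (iv D10825) F27821
theorem F35853 : act 3 n10825 = n8309 := d19_1 D10825 (iv D8309) D8308
def n10826 : Q := act 6 n8308
theorem D10826 : act 6 n8308 = n10826 := rfl
theorem F35854 : act 3 n10826 = n8310 := d20_1 D10826 (iv D8310) D8308
theorem F35855 : act 4 n10826 = n8688 := d23_1 D10826 (iv D8688) (iv F27822)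
def n10827 : Q := act 6 n8309
theorem D10827 : act 6 n8309 = n10827 := rfl
theorem F35856 : act 2 n10827 = n8350 := d16_1 D10827 (iv D8350) F21675 (iv F21584) (iv F27823)
theorem F35857 : act 4 n10827 = n8328 := d23_1 D10827 (iv D8328) (iv F27824)
theorem F35858 : act 5 n10827 = n8310 := d25_1 D10827 (iv D8310) D8309
def n10828 : Q := act 7 n8310
theorem D10828 : act 7 n8310 = n10828 := rfl
theorem F35859 : act 2 n10828 = n8351 := d17_1 D10828 (iv D8351) (iv F27825)
theorem F35860 : act 4 n10828 = n8311 := d24_1 D10828 (iv D8311) (iv F27826)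
def n10829 : Q := act 4 n8312
theorem D10829 : act 4 n8312 = n10829 := rfl
theorem F35861 : act 1 n10829 = n8313 := d9_1 D10829 (iv D8313) D8312
theorem F35862 : act 7 n10829 = n8320 := d24_2 (iv F27831) D10829 (iv D8320)
def n10830 : Q := act 6 n8312
theorem D10830 : act 6 n8312 = n10830 := rfl
theorem F35863 : act 1 n10830 = n8314 := d11_1 D10830 (iv D8314) D8312
theorem F35864 : act 3 n10830 = n8692 := d20_1 D10830 (iv D8692) (iv F27830)
def n10831 : Q := act 3 n8313
theorem D10831 : act 3 n8313 = n10831 := rfl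
theorem F35865 : act 0 n10831 = n8316 := d2_1 D10831 (iv D8316) (iv F27832)
theorem F35866 : act 2 n10831 = n8332 := d13_1 D10831 (iv D8332) F21621 (iv F21589) (iv F27833)
theorem F35867 : act 4 n10831 = n8693 := d18_2 D8313 D10831 (iv D8693) (iv D6657) (iv F21586)
theorem F35868 : act 7 n10831 = n8322 := d21_2 (iv F27834) D10831 (iv D8322)
def n10832 : Q := act 5 n8313
theorem D10832 : act 5 n8313 = n10832 := rfl
theorem F35869 : act 0 n10832 = n8317 := d4_1 D10832 (iv D8317) (iv F27832)
theorem F35870 : act 2 n10832 = n8315 := d15_1 D10832 (iv D8315) (iv F27833)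
theorem F35871 : act 7 n10832 = n8323 := d26_2 (iv F27834) D10832 (iv D8323)
def n10833 : Q := act 6 n8313
theorem D10833 : act 6 n8313 = n10833 := rfl
theorem F35872 : act 0 n10833 = n8318 := d5_1 D10833 (iv D8318) (iv F27832)
theorem F35873 : act 2 n10833 = n10833 := d16_1 D10833 (iv D10833) F27833 F21590 (iv F27833)
theorem F35874 : act 4 n10833 = n8314 := d23_1 D10833 (iv D8314) D8313
def n10834 : Q := act 7 n8314
theorem D10834 : act 7 n8314 = n10834 := rfl
theorem F35875 : act 0 n10834 = n8319 := d6_1 D10834 (iv D8319) (iv F27835)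
theorem F35876 : act 2 n10834 = n10834 := d17_1 D10834 (iv D10834) F27836
theorem F35877 : act 3 n10834 = n8696 := d21_1 D10834 (iv D8696) (iv F27837)
theorem F35878 : act 6 n10834 = n8325 := d27_1 D10834 (iv D8325) (iv D6380) (iv F21587) D8314
def n10835 : Q := act 5 n8316
theorem D10835 : act 5 n8316 = n10835 := rfl
theorem F35879 : act 2 n10835 = n8335 := d15_1 D10835 (iv D8335) (iv F27842)
theorem F35880 : act 3 n10835 = n8317 := d19_1 D10835 (iv D8317) D8316
theorem F35881 : act 7 n10835 = n8326 := d26_2 (iv F27844) D10835 (iv D8326)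
def n10836 : Q := act 6 n8316
theorem D10836 : act 6 n8316 = n10836 := rfl
theorem F35882 : act 3 n10836 = n8318 := d20_1 D10836 (iv D8318) D8316
theorem F35883 : act 4 n10836 = n8698 := d23_1 D10836 (iv D8698) (iv F27843)
def n10837 : Q := act 6 n8317
theorem D10837 : act 6 n8317 = n10837 := rfl
def n10838 : Q := act 7 n8318
theorem D10838 : act 7 n8318 = n10838 := rfl
theorem F35887 : act 4 n10838 = n8319 := d24_1 D10838 (iv D8319) (iv F27848)
theorem F35888 : act 6 n10838 = n8329 := d27_1 D10838 (iv D8329) (iv D6384) (iv F21593) D8318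
def n10839 : Q := act 3 n8320
theorem D10839 : act 3 n8320 = n10839 := rfl
theorem F35889 : act 1 n10839 = n8322 := d8_1 D10839 (iv D8322) (iv F27852)
theorem F35890 : act 4 n10839 = n8701 := d18_2 D8320 D10839 (iv D8701) (iv D6664) (iv F21600)
def n10840 : Q := act 5 n8320
theorem D10840 : act 5 n8320 = n10840 := rfl
theorem F35891 : act 1 n10840 = n8323 := d10_1 D10840 (iv D8323) (iv F27852)
def n10841 : Q := act 6 n8320
theorem D10841 : act 6 n8320 = n10841 := rfl
theorem F35892 : act 1 n10841 = n8324 := d11_1 D10841 (iv D8324) (iv F27852)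
theorem F35893 : act 4 n10841 = n8321 := d23_1 D10841 (iv D8321) D8320
def n10842 : Q := act 2 n8321
theorem D10842 : act 2 n8321 = n10842 := rfl
theorem F35894 : act 1 n10842 = n8354 := d7_1 D10842 (iv D8354) F21689 (iv F21604) (iv F27853)
def n10843 : Q := act 7 n8321
theorem D10843 : act 7 n8321 = n10843 := rfl
theorem F35895 : act 1 n10843 = n8325 := d12_1 D10843 (iv D8325) (iv F27853)
theorem F35896 : act 3 n10843 = n8705 := d21_1 D10843 (iv D8705) (iv F27854)
def n10844 : Q := act 5 n8322
theorem D10844 : act 5 n8322 = n10844 := rfl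
theorem F35897 : act 0 n10844 = n8326 := d4_1 D10844 (iv D8326) (iv F27855)
theorem F35898 : act 2 n10844 = n8340 := d15_1 D10844 (iv D8340) (iv F27856)
theorem F35899 : act 3 n10844 = n8323 := d19_1 D10844 (iv D8323) D8322
def n10845 : Q := act 6 n8322
theorem D10845 : act 6 n8322 = n10845 := rfl
theorem F35900 : act 0 n10845 = n8327 := d5_1 D10845 (iv D8327) (iv F27855)
theorem F35901 : act 2 n10845 = n10845 := d16_1 D10845 (iv D10845) F27856 F21648 (iv F27856)
theorem F35902 : act 3 n10845 = n8324 := d20_1 D10845 (iv D8324) D8322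
theorem F35903 : act 4 n10845 = n8707 := d23_1 D10845 (iv D8707) (iv F27857)
def n10846 : Q := act 6 n8323
theorem D10846 : act 6 n8323 = n10846 := rfl
theorem F35904 : act 0 n10846 = n8328 := d5_1 D10846 (iv D8328) (iv F27858)
theorem F35905 : act 2 n10846 = n8356 := d16_1 D10846 (iv D8356) F21692 (iv F21608) (iv F27859)
theorem F35906 : act 5 n10846 = n8324 := d25_1 D10846 (iv D8324) D8323
def n10847 : Q := act 7 n8324
theorem D10847 : act 7 n8324 = n10847 := rfl
theorem F35907 : act 0 n10847 = n8329 := d6_1 D10847 (iv D8329) (iv F27860)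
theorem F35908 : act 2 n10847 = n8357 := d17_1 D10847 (iv D8357) (iv F27861)
theorem F35909 : act 4 n10847 = n8325 := d24_1 D10847 (iv D8325) (iv F27862)
def n10849 : Q := act 6 n8326
theorem D10849 : act 6 n8326 = n10849 := rfl
theorem F35914 : act 5 n10849 = n8327 := d25_1 D10849 (iv D8327) D8326
def n10850 : Q := act 7 n8327
theorem D10850 : act 7 n8327 = n10850 := rfl
theorem F35917 : act 4 n10850 = n8712 := d24_1 D10850 (iv D8712) (iv F27870)
def n10851 : Q := act 7 n8328
theorem D10851 : act 7 n8328 = n10851 := rfl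
def n10852 : Q := act 3 n8330
theorem D10852 : act 3 n8330 = n10852 := rfl
theorem F35920 : act 0 n10852 = n10852 := d2_1 D10852 (iv D10852) F27875
theorem F35921 : act 1 n10852 = n8332 := d8_1 D10852 (iv D8332) (iv F27876)
theorem F35922 : act 4 n10852 = n8714 := d18_2 D8330 D10852 (iv D8714) (iv D6674) (iv F21617)
theorem F35923 : act 7 n10852 = n8338 := d21_2 (iv F27877) D10852 (iv D8338)
def n10853 : Q := act 5 n8330
theorem D10853 : act 5 n8330 = n10853 := rfl
theorem F35924 : act 0 n10853 = n10853 := d4_1 D10853 (iv D10853) F27875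
theorem F35925 : act 1 n10853 = n8333 := d10_1 D10853 (iv D8333) (iv F27876)
theorem F35926 : act 4 n10853 = n10853 := d22_1 D10853 (iv D10853) (iv D8330) F21618 D8330
theorem F35927 : act 7 n10853 = n8339 := d26_2 (iv F27877) D10853 (iv D8339)
def n10854 : Q := act 6 n8330
theorem D10854 : act 6 n8330 = n10854 := rfl
theorem F35928 : act 0 n10854 = n10854 := d5_1 D10854 (iv D10854) F27875
theorem F35929 : act 1 n10854 = n8334 := d11_1 D10854 (iv D8334) (iv F27876)
theorem F35930 : act 4 n10854 = n8331 := d23_1 D10854 (iv D8331) D8330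
theorem F35931 : act 7 n10854 = n10854 := d27_2 (iv F27877) D10854 (iv D10854) F27877 F21645
def n10855 : Q := act 2 n8331
theorem D10855 : act 2 n8331 = n10855 := rfl
theorem F35932 : act 0 n10855 = n10855 := d1_1 D10855 (iv D10855) F27878
theorem F35933 : act 1 n10855 = n10855 := d7_1 D10855 (iv D10855) F27879 F21624 (iv F27879)
theorem F35934 : act 5 n10855 = n10855 := d15_2 F27881 D10855 (iv D10855)
theorem F35935 : act 7 n10855 = n10855 := d17_2 F27882 D10855 (iv D10855)
def n10856 : Q := act 5 n8332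
theorem D10856 : act 5 n8332 = n10856 := rfl
theorem F35937 : act 3 n10856 = n8333 := d19_1 D10856 (iv D8333) D8332
theorem F35938 : act 7 n10856 = n8340 := d26_2 (iv F27885) D10856 (iv D8340)
def n10857 : Q := act 6 n8332
theorem D10857 : act 6 n8332 = n10857 := rfl
theorem F35940 : act 3 n10857 = n8334 := d20_1 D10857 (iv D8334) D8332
def n10858 : Q := act 6 n8333
theorem D10858 : act 6 n8333 = n10858 := rfl
def n10859 : Q := act 4 n8335
theorem D10859 : act 4 n8335 = n10859 := rfl
theorem F35950 : act 5 n10859 = n8721 := d22_2 D8335 D10859 (iv D8721) (iv D6679) (iv F21633)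
def n10860 : Q := act 6 n8335
theorem D10860 : act 6 n8335 = n10860 := rfl
theorem F35953 : act 3 n10860 = n8337 := d20_1 D10860 (iv D8337) (iv F27895)
def n10861 : Q := act 2 n8336
theorem D10861 : act 2 n8336 = n10861 := rfl
def n10862 : Q := act 2 n8338
theorem D10862 : act 2 n8338 = n10862 := rfl
theorem F35959 : act 0 n10862 = n10862 := d1_1 D10862 (iv D10862) F27906
theorem F35960 : act 4 n10862 = n8724 := d14_2 (iv F27908) D10862 (iv D8724)
def n10863 : Q := act 5 n8338
theorem D10863 : act 5 n8338 = n10863 := rfl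
theorem F35961 : act 0 n10863 = n10863 := d4_1 D10863 (iv D10863) F27906
theorem F35962 : act 1 n10863 = n8340 := d10_1 D10863 (iv D8340) (iv F27907)
theorem F35963 : act 3 n10863 = n8339 := d19_1 D10863 (iv D8339) D8338
theorem F35964 : act 6 n10863 = n10863 := d25_2 F27909 D10863 (iv D10863)
def n10865 : Q := act 3 n8342
theorem D10865 : act 3 n8342 = n10865 := rfl
theorem F35969 : act 0 n10865 = n10865 := d2_1 D10865 (iv D10865) F27921
theorem F35970 : act 1 n10865 = n8344 := d8_1 D10865 (iv D8344) (iv F27922)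
theorem F35971 : act 4 n10865 = n8359 := d18_2 D8342 D10865 (iv D8359) (iv D6412) (iv F21657)
theorem F35972 : act 7 n10865 = n10865 := d21_2 F27923 D10865 (iv D10865)
def n10866 : Q := act 5 n8342
theorem D10866 : act 5 n8342 = n10866 := rfl
theorem F35973 : act 0 n10866 = n10866 := d4_1 D10866 (iv D10866) F27921
theorem F35974 : act 1 n10866 = n8345 := d10_1 D10866 (iv D8345) (iv F27922)
theorem F35975 : act 4 n10866 = n8352 := d22_1 D10866 (iv D8352) (iv D6405) (iv F21658) D8342
theorem F35976 : act 7 n10866 = n10866 := d26_2 F27923 D10866 (iv D10866)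
def n10867 : Q := act 6 n8342
theorem D10867 : act 6 n8342 = n10867 := rfl
theorem F35977 : act 0 n10867 = n10867 := d5_1 D10867 (iv D10867) F27921
theorem F35978 : act 1 n10867 = n8346 := d11_1 D10867 (iv D8346) (iv F27922)
theorem F35979 : act 4 n10867 = n8343 := d23_1 D10867 (iv D8343) D8342
def n10868 : Q := act 2 n8343
theorem D10868 : act 2 n8343 = n10868 := rfl
theorem F35980 : act 0 n10868 = n10868 := d1_1 D10868 (iv D10868) F27924
theorem F35981 : act 5 n10868 = n8354 := d15_2 (iv F27927) D10868 (iv D8354)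
def n10869 : Q := act 7 n8343
theorem D10869 : act 7 n8343 = n10869 := rfl
theorem F35982 : act 0 n10869 = n10869 := d6_1 D10869 (iv D10869) F27924
theorem F35983 : act 1 n10869 = n8347 := d12_1 D10869 (iv D8347) (iv F27925)
theorem F35984 : act 3 n10869 = n8362 := d21_1 D10869 (iv D8362) (iv F27926)
theorem F35985 : act 5 n10869 = n8355 := d26_1 D10869 (iv D8355) (iv F27927)
theorem F35986 : act 6 n10869 = n10869 := d27_1 D10869 (iv D10869) (iv D8343) F21659 D8343
def n10870 : Q := act 5 n8344
theorem D10870 : act 5 n8344 = n10870 := rfl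
theorem F35987 : act 0 n10870 = n8348 := d4_1 D10870 (iv D8348) (iv F27928)
theorem F35988 : act 2 n10870 = n10870 := d15_1 D10870 (iv D10870) F27929
theorem F35989 : act 3 n10870 = n8345 := d19_1 D10870 (iv D8345) D8344
theorem F35990 : act 4 n10870 = n10870 := d22_1 D10870 (iv D10870) F27930 F21718 (iv F27930)
theorem F35991 : act 7 n10870 = n10870 := d26_2 F27931 D10870 (iv D10870)
def n10871 : Q := act 6 n8344
theorem D10871 : act 6 n8344 = n10871 := rfl
theorem F35993 : act 3 n10871 = n8346 := d20_1 D10871 (iv D8346) D8344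
theorem F35994 : act 4 n10871 = n8363 := d23_1 D10871 (iv D8363) (iv F27930)
def n10872 : Q := act 6 n8345
theorem D10872 : act 6 n8345 = n10872 := rfl
theorem F35995 : act 0 n10872 = n8350 := d5_1 D10872 (iv D8350) (iv F27932)
theorem F35996 : act 4 n10872 = n8356 := d23_1 D10872 (iv D8356) (iv F27934)
theorem F35997 : act 5 n10872 = n8346 := d25_1 D10872 (iv D8346) D8345
def n10873 : Q := act 7 n8346
theorem D10873 : act 7 n8346 = n10873 := rfl
theorem F35998 : act 0 n10873 = n8351 := d6_1 D10873 (iv D8351) (iv F27936)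
theorem F35999 : act 4 n10873 = n8347 := d24_1 D10873 (iv D8347) (iv F27937)
theorem F36000 : act 6 n10873 = n10873 := d27_1 D10873 (iv D10873) (iv D8346) F21662 D8346
def n10874 : Q := act 6 n8348
theorem D10874 : act 6 n8348 = n10874 := rfl
theorem F36002 : act 3 n10874 = n8350 := d20_1 D10874 (iv D8350) (iv F27944)
theorem F36004 : act 5 n10874 = n8349 := d25_1 D10874 (iv D8349) D8348
def n10875 : Q := act 2 n8349
theorem D10875 : act 2 n8349 = n10875 := rfl
theorem F36005 : act 4 n10875 = n8365 := d14_2 (iv F27949) D10875 (iv D8365)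
def n10876 : Q := act 7 n8349
theorem D10876 : act 7 n8349 = n10876 := rfl
theorem F36008 : act 3 n10876 = n8351 := d21_1 D10876 (iv D8351) (iv F27948)
theorem F36009 : act 4 n10876 = n8366 := d24_1 D10876 (iv D8366) (iv F27949)
theorem F36010 : act 6 n10876 = n10876 := d27_1 D10876 (iv D10876) (iv D8349) F21673 D8349
def n10877 : Q := act 7 n8350
theorem D10877 : act 7 n8350 = n10877 := rfl
theorem F36011 : act 1 n10877 = n10877 := d12_1 D10877 (iv D10877) F27950
theorem F36012 : act 4 n10877 = n8358 := d24_1 D10877 (iv D8358) (iv F27951)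
theorem F36013 : act 5 n10877 = n8351 := d26_1 D10877 (iv D8351) (iv F27952)
theorem F36014 : act 6 n10877 = n10877 := d27_1 D10877 (iv D10877) (iv D8350) F21677 D8350
def n10878 : Q := act 6 n8352
theorem D10878 : act 6 n8352 = n10878 := rfl
theorem F36015 : act 0 n10878 = n10878 := d5_1 D10878 (iv D10878) F27956
theorem F36016 : act 1 n10878 = n8356 := d11_1 D10878 (iv D8356) (iv F27957)
theorem F36017 : act 3 n10878 = n10878 := d20_1 D10878 (iv D10878) F27958
theorem F36018 : act 5 n10878 = n8353 := d25_1 D10878 (iv D8353) D8352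
def n10879 : Q := act 2 n8353
theorem D10879 : act 2 n8353 = n10879 := rfl
theorem F36019 : act 0 n10879 = n10879 := d1_1 D10879 (iv D10879) F27960
theorem F36020 : act 4 n10879 = n8354 := d14_2 (iv F27963) D10879 (iv D8354)
def n10880 : Q := act 7 n8353
theorem D10880 : act 7 n8353 = n10880 := rfl
theorem F36021 : act 0 n10880 = n10880 := d6_1 D10880 (iv D10880) F27960
theorem F36022 : act 1 n10880 = n8357 := d12_1 D10880 (iv D8357) (iv F27961)
theorem F36023 : act 3 n10880 = n10880 := d21_1 D10880 (iv D10880) F27962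
theorem F36024 : act 4 n10880 = n8355 := d24_1 D10880 (iv D8355) (iv F27963)
theorem F36025 : act 6 n10880 = n10880 := d27_1 D10880 (iv D10880) (iv D8353) F21687 D8353
def n10881 : Q := act 3 n8354
theorem D10881 : act 3 n8354 = n10881 := rfl
theorem F36026 : act 0 n10881 = n10881 := d2_1 D10881 (iv D10881) F27964
theorem F36027 : act 2 n10881 = n8367 := d13_1 D10881 (iv D8367) (iv D6419) (iv F21690) D8354
def n10882 : Q := act 7 n8354
theorem D10882 : act 7 n8354 = n10882 := rfl
theorem F36028 : act 0 n10882 = n10882 := d6_1 D10882 (iv D10882) F27964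
theorem F36029 : act 2 n10882 = n8355 := d17_1 D10882 (iv D8355) D8354
def n10883 : Q := act 7 n8356
theorem D10883 : act 7 n8356 = n10883 := rfl
theorem F36030 : act 0 n10883 = n8358 := d6_1 D10883 (iv D8358) (iv F27969)
theorem F36031 : act 3 n10883 = n10883 := d21_1 D10883 (iv D10883) F27970
theorem F36032 : act 5 n10883 = n8357 := d26_1 D10883 (iv D8357) (iv F27971)
theorem F36033 : act 6 n10883 = n10883 := d27_1 D10883 (iv D10883) (iv D8356) F21694 D8356
def n10884 : Q := act 2 n8359
theorem D10884 : act 2 n8359 = n10884 := rfl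
theorem F36034 : act 0 n10884 = n10884 := d1_1 D10884 (iv D10884) F27980
theorem F36035 : act 1 n10884 = n10884 := d7_1 D10884 (iv D10884) F27981 F21717 (iv F27981)
theorem F36036 : act 3 n10884 = n10884 := d13_2 D8359 D10884 (iv D10884) (iv D8359) F21710
theorem F36037 : act 5 n10884 = n10884 := d15_2 F27982 D10884 (iv D10884)
theorem F36038 : act 7 n10884 = n10884 := d17_2 F27983 D10884 (iv D10884)
def n10885 : Q := act 6 n8359
theorem D10885 : act 6 n8359 = n10885 := rfl
theorem F36040 : act 1 n10885 = n8363 := d11_1 D10885 (iv D8363) (iv F27981)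
def n10886 : Q := act 2 n8360
theorem D10886 : act 2 n8360 = n10886 := rfl
theorem F36044 : act 1 n10886 = n8748 := d7_1 D10886 (iv D8748) F22585 (iv F21721) (iv F27985)
def n10887 : Q := act 7 n8360
theorem D10887 : act 7 n8360 = n10887 := rfl
theorem F36049 : act 1 n10887 = n8364 := d12_1 D10887 (iv D8364) (iv F27985)
theorem F36050 : act 4 n10887 = n8362 := d24_1 D10887 (iv D8362) (iv F27986)
theorem F36052 : act 6 n10887 = n10887 := d27_1 D10887 (iv D10887) (iv D8360) F21712 D8360
def n10888 : Q := act 3 n8361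
theorem D10888 : act 3 n8361 = n10888 := rfl
theorem F36055 : act 5 n10888 = n8367 := d19_2 (iv F27990) D10888 (iv D8367)
def n10889 : Q := act 7 n8361
theorem D10889 : act 7 n8361 = n10889 := rfl
theorem F36059 : act 2 n10889 = n8362 := d17_1 D10889 (iv D8362) D8361
theorem F36060 : act 5 n10889 = n8368 := d26_1 D10889 (iv D8368) (iv F27990)
def n10890 : Q := act 2 n8363
theorem D10890 : act 2 n8363 = n10890 := rfl
theorem F36062 : act 3 n10890 = n8752 := d13_2 (iv F27997) D10890 (iv D8752) F22596 (iv F21721)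
def n10891 : Q := act 7 n8363
theorem D10891 : act 7 n8363 = n10891 := rfl
theorem F36068 : act 6 n10891 = n10891 := d27_1 D10891 (iv D10891) (iv D8363) F21719 D8363
def n10893 : Q := act 7 n8365
theorem D10893 : act 7 n8365 = n10893 := rfl
theorem F36073 : act 2 n10893 = n8366 := d17_1 D10893 (iv D8366) D8365
theorem F36074 : act 3 n10893 = n8755 := d21_1 D10893 (iv D8755) (iv F28004)
def n10894 : Q := act 4 n8367
theorem D10894 : act 4 n8367 = n10894 := rfl
def n10895 : Q := act 7 n8367
theorem D10895 : act 7 n8367 = n10895 := rfl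
theorem F36082 : act 3 n10895 = n8368 := d21_1 D10895 (iv D8368) D8367
def n10896 : Q := act 6 n8368
theorem D10896 : act 6 n8368 = n10896 := rfl
def n10923 : Q := act 3 n8386
theorem D10923 : act 3 n8386 = n10923 := rfl
theorem F36176 : act 6 n10923 = n8418 := d20_2 (iv F28077) D10923 (iv D8418)
def n10938 : Q := act 2 n8397
theorem D10938 : act 2 n8397 = n10938 := rfl
theorem F36220 : act 3 n10938 = n8781 := d13_2 D8397 D10938 (iv D8781) (iv D6728) (iv F21806)
def n10939 : Q := act 4 n8397
theorem D10939 : act 4 n8397 = n10939 := rfl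
theorem F36223 : act 6 n10939 = n8434 := d23_2 (iv F28108) D10939 (iv D8434)
def n10941 : Q := act 6 n8398
theorem D10941 : act 6 n8398 = n10941 := rfl
theorem F36227 : act 2 n10941 = n8436 := d16_1 D10941 (iv D8436) (iv D6467) (iv F21810) D8398
def n10946 : Q := act 1 n8404
theorem D10946 : act 1 n8404 = n10946 := rfl
theorem F36243 : act 4 n10946 = n8413 := d9_2 (iv F28128) D10946 (iv D8413)
theorem F36245 : act 6 n10946 = n8405 := d11_2 (iv F28130) D10946 (iv D8405)
def n10948 : Q := act 0 n8405
theorem D10948 : act 0 n8405 = n10948 := rfl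
theorem F36248 : act 2 n10948 = n8509 := d1_2 (iv F28131) D10948 (iv D8509)
def n10957 : Q := act 1 n8412
theorem D10957 : act 1 n8412 = n10957 := rfl
theorem F36274 : act 5 n10957 = n8424 := d10_2 (iv F28151) D10957 (iv D8424)
theorem F36275 : act 6 n10957 = n8440 := d11_2 (iv F28152) D10957 (iv D8440)
def n10959 : Q := act 0 n8413
theorem D10959 : act 0 n8413 = n10959 := rfl
theorem F36281 : act 6 n10959 = n8415 := d5_2 (iv F28155) D10959 (iv D8415)
def n10960 : Q := act 3 n8413
theorem D10960 : act 3 n8413 = n10960 := rfl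
theorem F36283 : act 5 n10960 = n8427 := d19_2 (iv F28154) D10960 (iv D8427)
theorem F36284 : act 6 n10960 = n8416 := d20_2 (iv F28155) D10960 (iv D8416)
def n10961 : Q := act 4 n8414
theorem D10961 : act 4 n8414 = n10961 := rfl
theorem F36285 : act 6 n10961 = n8417 := d23_2 (iv F28157) D10961 (iv D8417)
def n10962 : Q := act 3 n8415
theorem D10962 : act 3 n8415 = n10962 := rfl
theorem F36286 : act 0 n10962 = n8416 := d2_1 D10962 (iv D8416) D8415
theorem F36288 : act 7 n10962 = n8418 := d21_2 (iv F28160) D10962 (iv D8418)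
def n10963 : Q := act 2 n8416
theorem D10963 : act 2 n8416 = n10963 := rfl
theorem F36289 : act 1 n10963 = n8446 := d7_1 D10963 (iv D8446) F21903 (iv F21846) (iv F28161)
theorem F36291 : act 5 n10963 = n8430 := d15_2 (iv F28162) D10963 (iv D8430)
theorem F36292 : act 7 n10963 = n8419 := d17_2 (iv F28163) D10963 (iv D8419)
def n10964 : Q := act 4 n8416
theorem D10964 : act 4 n8416 = n10964 := rfl
def n10965 : Q := act 5 n8417
theorem D10965 : act 5 n8417 = n10965 := rfl
theorem F36295 : act 2 n10965 = n8448 := d15_1 D10965 (iv D8448) (iv F28164)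
def n10966 : Q := act 2 n8418
theorem D10966 : act 2 n8418 = n10966 := rfl
theorem F36298 : act 0 n10966 = n8419 := d1_1 D10966 (iv D8419) (iv F28166)
theorem F36299 : act 3 n10966 = n8520 := d13_2 D8418 D10966 (iv D8520) (iv D6529) (iv F21849)
theorem F36300 : act 5 n10966 = n8433 := d15_2 (iv F28167) D10966 (iv D8433)
def n10968 : Q := act 4 n8419
theorem D10968 : act 4 n8419 = n10968 := rfl
def n10969 : Q := act 6 n8419
theorem D10969 : act 6 n8419 = n10969 := rfl
theorem F36304 : act 1 n10969 = n8452 := d11_1 D10969 (iv D8452) (iv F28168)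
theorem F36305 : act 3 n10969 = n8523 := d20_1 D10969 (iv D8523) (iv F28169)
theorem F36306 : act 5 n10969 = n8436 := d25_1 D10969 (iv D8436) (iv F28170)
def n10974 : Q := act 0 n8424
theorem D10974 : act 0 n8424 = n10974 := rfl
theorem F36317 : act 6 n10974 = n8457 := d5_2 (iv F28180) D10974 (iv D8457)
def n10975 : Q := act 3 n8424
theorem D10975 : act 3 n8424 = n10975 := rfl
theorem F36318 : act 1 n10975 = n8425 := d8_1 D10975 (iv D8425) D8424
theorem F36319 : act 6 n10975 = n8458 := d20_2 (iv F28180) D10975 (iv D8458)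
def n10976 : Q := act 4 n8425
theorem D10976 : act 4 n8425 = n10976 := rfl
theorem F36320 : act 2 n10976 = n8428 := d14_1 D10976 (iv D8428) (iv F28181)
theorem F36321 : act 6 n10976 = n8459 := d23_2 (iv F28182) D10976 (iv D8459)
def n10977 : Q := act 3 n8426
theorem D10977 : act 3 n8426 = n10977 := rfl
theorem F36322 : act 0 n10977 = n8427 := d2_1 D10977 (iv D8427) D8426
theorem F36323 : act 6 n10977 = n8429 := d20_2 (iv F28185) D10977 (iv D8429)
def n10978 : Q := act 2 n8427
theorem D10978 : act 2 n8427 = n10978 := rfl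
def n10979 : Q := act 4 n8427
theorem D10979 : act 4 n8427 = n10979 := rfl
theorem F36325 : act 1 n10979 = n8428 := d9_1 D10979 (iv D8428) (iv F28186)
theorem F36327 : act 6 n10979 = n8431 := d23_2 (iv F28187) D10979 (iv D8431)
def n10980 : Q := act 5 n8428
theorem D10980 : act 5 n8428 = n10980 := rfl
theorem F36329 : act 6 n10980 = n8432 := d25_2 (iv F28189) D10980 (iv D8432)
def n10981 : Q := act 2 n8429
theorem D10981 : act 2 n8429 = n10981 := rfl
theorem F36330 : act 0 n10981 = n8430 := d1_1 D10981 (iv D8430) (iv F28190)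
theorem F36331 : act 3 n10981 = n8525 := d13_2 D8429 D10981 (iv D8525) (iv D6533) (iv F21866)
theorem F36332 : act 7 n10981 = n8433 := d17_2 (iv F28191) D10981 (iv D8433)
def n10982 : Q := act 4 n8429
theorem D10982 : act 4 n8429 = n10982 := rfl
theorem F36335 : act 7 n10982 = n8434 := d24_2 (iv F28191) D10982 (iv D8434)
def n10983 : Q := act 4 n8430
theorem D10983 : act 4 n8430 = n10983 := rfl
theorem F36336 : act 1 n10983 = n8466 := d9_1 D10983 (iv D8466) (iv F28192)
theorem F36337 : act 2 n10983 = n8431 := d14_1 D10983 (iv D8431) D8430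
theorem F36338 : act 7 n10983 = n8435 := d24_2 (iv F28194) D10983 (iv D8435)
def n10984 : Q := act 6 n8430
theorem D10984 : act 6 n8430 = n10984 := rfl
theorem F36339 : act 1 n10984 = n8467 := d11_1 D10984 (iv D8467) (iv F28192)
def n10985 : Q := act 5 n8431
theorem D10985 : act 5 n8431 = n10985 := rfl
theorem F36343 : act 7 n10985 = n8437 := d26_2 (iv F28197) D10985 (iv D8437)
def n10986 : Q := act 1 n8433
theorem D10986 : act 1 n8433 = n10986 := rfl
theorem F36344 : act 0 n10986 = n8469 := d0_1 D10986 (iv D8469) F21948 (iv F21875) (iv F28201)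
theorem F36345 : act 3 n10986 = n8530 := d8_2 (iv F28202) D10986 (iv D8530)
def n10987 : Q := act 4 n8433
theorem D10987 : act 4 n8433 = n10987 := rfl
theorem F36346 : act 0 n10987 = n8435 := d3_1 D10987 (iv D8435) (iv F28201)
theorem F36347 : act 2 n10987 = n8434 := d14_1 D10987 (iv D8434) D8433
def n10988 : Q := act 6 n8433
theorem D10988 : act 6 n8433 = n10988 := rfl
theorem F36348 : act 0 n10988 = n8436 := d5_1 D10988 (iv D8436) (iv F28201)
theorem F36349 : act 3 n10988 = n8532 := d20_1 D10988 (iv D8532) (iv F28202)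
def n10990 : Q := act 3 n8435
theorem D10990 : act 3 n8435 = n10990 := rfl
theorem F36354 : act 4 n10990 = n8534 := d18_2 D8435 D10990 (iv D8534) (iv D6539) (iv F21876)
def n10991 : Q := act 5 n8435
theorem D10991 : act 5 n8435 = n10991 := rfl
theorem F36355 : act 1 n10991 = n8474 := d10_1 D10991 (iv D8474) (iv F28205)
theorem F36356 : act 2 n10991 = n8437 := d15_1 D10991 (iv D8437) (iv F28206)
def n10992 : Q := act 6 n8435
theorem D10992 : act 6 n8435 = n10992 := rfl
theorem F36358 : act 4 n10992 = n8436 := d23_1 D10992 (iv D8436) D8435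
def n10997 : Q := act 0 n8440
theorem D10997 : act 0 n8440 = n10997 := rfl
def n10998 : Q := act 3 n8440
theorem D10998 : act 3 n8440 = n10998 := rfl
theorem F36372 : act 1 n10998 = n8441 := d8_1 D10998 (iv D8441) D8440
def n11001 : Q := act 2 n8443
theorem D11001 : act 2 n8443 = n11001 := rfl
theorem F36381 : act 3 n11001 = n9432 := d13_2 D8443 D11001 (iv D9432) (iv D7233) (iv F21891)
theorem F36382 : act 5 n11001 = n8461 := d15_2 (iv F28230) D11001 (iv D8461)
def n11004 : Q := act 2 n8445
theorem D11004 : act 2 n8445 = n11004 := rfl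
theorem F36392 : act 0 n11004 = n8446 := d1_1 D11004 (iv D8446) (iv F28236)
theorem F36394 : act 5 n11004 = n8464 := d15_2 (iv F28237) D11004 (iv D8464)
theorem F36395 : act 7 n11004 = n8449 := d17_2 (iv F28238) D11004 (iv D8449)
def n11005 : Q := act 4 n8445
theorem D11005 : act 4 n8445 = n11005 := rfl
theorem F36396 : act 0 n11005 = n8447 := d3_1 D11005 (iv D8447) (iv F28236)
theorem F36398 : act 7 n11005 = n8450 := d24_2 (iv F28238) D11005 (iv D8450)
def n11006 : Q := act 4 n8446
theorem D11006 : act 4 n8446 = n11006 := rfl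
theorem F36400 : act 7 n11006 = n8451 := d24_2 (iv F28241) D11006 (iv D8451)
def n11007 : Q := act 6 n8446
theorem D11007 : act 6 n8446 = n11007 := rfl
theorem F36402 : act 5 n11007 = n8467 := d25_1 D11007 (iv D8467) (iv F28240)
def n11008 : Q := act 5 n8447
theorem D11008 : act 5 n8447 = n11008 := rfl
theorem F36403 : act 1 n11008 = n8448 := d10_1 D11008 (iv D8448) (iv F28242)
theorem F36406 : act 7 n11008 = n8453 := d26_2 (iv F28244) D11008 (iv D8453)
def n11009 : Q := act 1 n8449
theorem D11009 : act 1 n8449 = n11009 := rfl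
theorem F36407 : act 3 n11009 = n8543 := d8_2 (iv F28249) D11009 (iv D8543)
theorem F36408 : act 5 n11009 = n8469 := d10_2 (iv F28250) D11009 (iv D8469)
def n11010 : Q := act 4 n8449
theorem D11010 : act 4 n8449 = n11010 := rfl
theorem F36409 : act 0 n11010 = n8451 := d3_1 D11010 (iv D8451) (iv F28248)
theorem F36410 : act 2 n11010 = n8450 := d14_1 D11010 (iv D8450) D8449
def n11011 : Q := act 6 n8449
theorem D11011 : act 6 n8449 = n11011 := rfl
theorem F36411 : act 0 n11011 = n8452 := d5_1 D11011 (iv D8452) (iv F28248)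
theorem F36412 : act 2 n11011 = n11011 := d16_1 D11011 (iv D11011) (iv D8449) F21910 D8449
theorem F36413 : act 3 n11011 = n8545 := d20_1 D11011 (iv D8545) (iv F28249)
theorem F36414 : act 5 n11011 = n8471 := d25_1 D11011 (iv D8471) (iv F28250)
def n11012 : Q := act 5 n8450
theorem D11012 : act 5 n8450 = n11012 := rfl
theorem F36417 : act 4 n11012 = n8472 := d22_1 D11012 (iv D8472) (iv D6494) (iv F21909) D8450
def n11013 : Q := act 3 n8451
theorem D11013 : act 3 n8451 = n11013 := rfl
theorem F36420 : act 4 n11013 = n8547 := d18_2 D8451 D11013 (iv D8547) (iv D6548) (iv F21911)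
def n11014 : Q := act 5 n8451
theorem D11014 : act 5 n8451 = n11014 := rfl
theorem F36422 : act 4 n11014 = n8474 := d22_1 D11014 (iv D8474) (iv D6495) (iv F21912) D8451
def n11015 : Q := act 6 n8451
theorem D11015 : act 6 n8451 = n11015 := rfl
theorem F36424 : act 4 n11015 = n8452 := d23_1 D11015 (iv D8452) D8451
def n11016 : Q := act 7 n8452
theorem D11016 : act 7 n8452 = n11016 := rfl
def n11021 : Q := act 4 n8456
theorem D11021 : act 4 n8456 = n11021 := rfl
theorem F36439 : act 2 n11021 = n8481 := d14_1 D11021 (iv D8481) (iv F28267)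
theorem F36440 : act 3 n11021 = n8459 := d18_1 D11021 (iv D8459) (iv D6485) (iv F21923) D8456
def n11022 : Q := act 3 n8457
theorem D11022 : act 3 n8457 = n11022 := rfl
theorem F36442 : act 0 n11022 = n8458 := d2_1 D11022 (iv D8458) D8457
def n11023 : Q := act 2 n8458
theorem D11023 : act 2 n8458 = n11023 := rfl
theorem F36444 : act 1 n11023 = n8461 := d7_1 D11023 (iv D8461) F21933 (iv F21927) (iv F28271)
def n11025 : Q := act 5 n8459
theorem D11025 : act 5 n8459 = n11025 := rfl
theorem F36449 : act 2 n11025 = n8463 := d15_1 D11025 (iv D8463) (iv F28273)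
def n11026 : Q := act 2 n8460
theorem D11026 : act 2 n8460 = n11026 := rfl
theorem F36451 : act 0 n11026 = n8461 := d1_1 D11026 (iv D8461) (iv F28275)
theorem F36452 : act 3 n11026 = n9457 := d13_2 D8460 D11026 (iv D9457) (iv D7250) (iv F21929)
def n11027 : Q := act 4 n8460
theorem D11027 : act 4 n8460 = n11027 := rfl
theorem F36454 : act 0 n11027 = n8462 := d3_1 D11027 (iv D8462) (iv F28275)
theorem F36455 : act 3 n11027 = n8487 := d18_1 D11027 (iv D8487) (iv D6504) (iv F21930) D8460
theorem F36456 : act 6 n11027 = n8465 := d23_2 (iv F28276) D11027 (iv D8465)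
def n11029 : Q := act 6 n8461
theorem D11029 : act 6 n8461 = n11029 := rfl
def n11030 : Q := act 5 n8462
theorem D11030 : act 5 n8462 = n11030 := rfl
theorem F36462 : act 1 n11030 = n8463 := d10_1 D11030 (iv D8463) (iv F28280)
theorem F36463 : act 3 n11030 = n8490 := d19_1 D11030 (iv D8490) (iv F28281)
def n11031 : Q := act 1 n8464
theorem D11031 : act 1 n8464 = n11031 := rfl
theorem F36466 : act 3 n11031 = n8551 := d8_2 (iv F28288) D11031 (iv D8551)
theorem F36467 : act 7 n11031 = n8469 := d12_2 (iv F28289) D11031 (iv D8469)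
def n11032 : Q := act 4 n8464
theorem D11032 : act 4 n8464 = n11032 := rfl
theorem F36468 : act 0 n11032 = n8466 := d3_1 D11032 (iv D8466) (iv F28287)
theorem F36469 : act 2 n11032 = n8465 := d14_1 D11032 (iv D8465) D8464
theorem F36470 : act 7 n11032 = n8470 := d24_2 (iv F28289) D11032 (iv D8470)
def n11033 : Q := act 6 n8464
theorem D11033 : act 6 n8464 = n11033 := rfl
theorem F36471 : act 0 n11033 = n8467 := d5_1 D11033 (iv D8467) (iv F28287)
theorem F36472 : act 3 n11033 = n8553 := d20_1 D11033 (iv D8553) (iv F28288)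
def n11034 : Q := act 5 n8465
theorem D11034 : act 5 n8465 = n11034 := rfl
theorem F36473 : act 0 n11034 = n8468 := d4_1 D11034 (iv D8468) (iv F28290)
theorem F36474 : act 3 n11034 = n8494 := d19_1 D11034 (iv D8494) (iv F28291)
theorem F36475 : act 7 n11034 = n8472 := d26_2 (iv F28292) D11034 (iv D8472)
def n11035 : Q := act 3 n8466
theorem D11035 : act 3 n8466 = n11035 := rfl
theorem F36478 : act 7 n11035 = n8473 := d21_2 (iv F28294) D11035 (iv D8473)
def n11036 : Q := act 5 n8466
theorem D11036 : act 5 n8466 = n11036 := rfl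
theorem F36480 : act 7 n11036 = n8474 := d26_2 (iv F28294) D11036 (iv D8474)
def n11037 : Q := act 6 n8466
theorem D11037 : act 6 n8466 = n11037 := rfl
def n11038 : Q := act 7 n8467
theorem D11038 : act 7 n8467 = n11038 := rfl
theorem F36483 : act 6 n11038 = n8476 := d27_1 D11038 (iv D8476) (iv D6496) (iv F21942) D8467
def n11039 : Q := act 4 n8469
theorem D11039 : act 4 n8469 = n11039 := rfl
theorem F36484 : act 1 n11039 = n8470 := d9_1 D11039 (iv D8470) D8469
def n11040 : Q := act 6 n8469
theorem D11040 : act 6 n8469 = n11040 := rfl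
theorem F36485 : act 1 n11040 = n8471 := d11_1 D11040 (iv D8471) D8469
theorem F36486 : act 3 n11040 = n8560 := d20_1 D11040 (iv D8560) (iv F28299)
def n11041 : Q := act 3 n8470
theorem D11041 : act 3 n8470 = n11041 := rfl
theorem F36489 : act 4 n11041 = n8561 := d18_2 D8470 D11041 (iv D8561) (iv D6557) (iv F21949)
def n11042 : Q := act 5 n8470
theorem D11042 : act 5 n8470 = n11042 := rfl
theorem F36490 : act 0 n11042 = n8474 := d4_1 D11042 (iv D8474) (iv F28300)
theorem F36491 : act 2 n11042 = n8472 := d15_1 D11042 (iv D8472) (iv F28301)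
def n11043 : Q := act 6 n8470
theorem D11043 : act 6 n8470 = n11043 := rfl
theorem F36494 : act 4 n11043 = n8471 := d23_1 D11043 (iv D8471) D8470
def n11044 : Q := act 7 n8471
theorem D11044 : act 7 n8471 = n11044 := rfl
theorem F36495 : act 0 n11044 = n8476 := d6_1 D11044 (iv D8476) (iv F28302)
theorem F36496 : act 2 n11044 = n11044 := d17_1 D11044 (iv D11044) F28303
theorem F36497 : act 3 n11044 = n8564 := d21_1 D11044 (iv D8564) (iv F28304)
def n11045 : Q := act 5 n8473
theorem D11045 : act 5 n8473 = n11045 := rfl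
def n11046 : Q := act 6 n8473
theorem D11046 : act 6 n8473 = n11046 := rfl
theorem F36500 : act 3 n11046 = n8475 := d20_1 D11046 (iv D8475) D8473
theorem F36501 : act 4 n11046 = n8566 := d23_1 D11046 (iv D8566) (iv F28309)
def n11047 : Q := act 6 n8474
theorem D11047 : act 6 n8474 = n11047 := rfl
theorem F36503 : act 5 n11047 = n8475 := d25_1 D11047 (iv D8475) D8474
def n11056 : Q := act 2 n8482
theorem D11056 : act 2 n8482 = n11056 := rfl
theorem F36530 : act 0 n11056 = n8483 := d1_1 D11056 (iv D8483) (iv F28333)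
def n11061 : Q := act 1 n8486
theorem D11061 : act 1 n8486 = n11061 := rfl
def n11062 : Q := act 4 n8486
theorem D11062 : act 4 n8486 = n11062 := rfl
theorem F36552 : act 2 n11062 = n8487 := d14_1 D11062 (iv D8487) D8486
def n11064 : Q := act 5 n8487
theorem D11064 : act 5 n8487 = n11064 := rfl
theorem F36560 : act 6 n11064 = n8494 := d25_2 (iv F28353) D11064 (iv D8494)
def n11069 : Q := act 4 n8491
theorem D11069 : act 4 n8491 = n11069 := rfl
theorem F36573 : act 0 n11069 = n11069 := d3_1 D11069 (iv D11069) F28364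
theorem F36574 : act 1 n11069 = n8492 := d9_1 D11069 (iv D8492) D8491
theorem F36575 : act 7 n11069 = n8499 := d24_2 (iv F28367) D11069 (iv D8499)
def n11070 : Q := act 6 n8491
theorem D11070 : act 6 n8491 = n11070 := rfl
def n11072 : Q := act 5 n8492
theorem D11072 : act 5 n8492 = n11072 := rfl
theorem F36583 : act 0 n11072 = n8496 := d4_1 D11072 (iv D8496) (iv F28368)
theorem F36584 : act 2 n11072 = n8494 := d15_1 D11072 (iv D8494) (iv F28369)
theorem F36585 : act 4 n11072 = n11072 := d22_1 D11072 (iv D11072) (iv D8492) F21995 D8492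
theorem F36586 : act 7 n11072 = n8502 := d26_2 (iv F28370) D11072 (iv D8502)
def n11073 : Q := act 6 n8492
theorem D11073 : act 6 n8492 = n11073 := rfl
def n11077 : Q := act 6 n8496
theorem D11077 : act 6 n8496 = n11077 := rfl
def n11079 : Q := act 3 n8499
theorem D11079 : act 3 n8499 = n11079 := rfl
theorem F36607 : act 4 n11079 = n8579 := d18_2 D8499 D11079 (iv D8579) (iv D6572) (iv F22009)
def n11080 : Q := act 5 n8499
theorem D11080 : act 5 n8499 = n11080 := rfl
theorem F36608 : act 0 n11080 = n11080 := d4_1 D11080 (iv D11080) F28390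
theorem F36609 : act 1 n11080 = n8502 := d10_1 D11080 (iv D8502) (iv F28391)
theorem F36610 : act 4 n11080 = n11080 := d22_1 D11080 (iv D11080) (iv D8499) F22010 D8499
def n11081 : Q := act 6 n8499
theorem D11081 : act 6 n8499 = n11081 := rfl
theorem F36613 : act 4 n11081 = n8500 := d23_1 D11081 (iv D8500) D8499
def n11082 : Q := act 2 n8500
theorem D11082 : act 2 n8500 = n11082 := rfl
def n11086 : Q := act 6 n8502
theorem D11086 : act 6 n8502 = n11086 := rfl
theorem F36630 : act 5 n11086 = n8503 := d25_1 D11086 (iv D8503) D8502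
def n11102 : Q := act 2 n8516
theorem D11102 : act 2 n8516 = n11102 := rfl
theorem F36682 : act 0 n11102 = n8517 := d1_1 D11102 (iv D8517) (iv F28448)
theorem F36684 : act 7 n11102 = n8520 := d17_2 (iv F28452) D11102 (iv D8520)
def n11104 : Q := act 4 n8517
theorem D11104 : act 4 n8517 = n11104 := rfl
theorem F36691 : act 7 n11104 = n8522 := d24_2 (iv F28455) D11104 (iv D8522)
def n11105 : Q := act 6 n8517
theorem D11105 : act 6 n8517 = n11105 := rfl
theorem F36692 : act 1 n11105 = n8541 := d11_1 D11105 (iv D8541) (iv F28453)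
def n11107 : Q := act 1 n8520
theorem D11107 : act 1 n8520 = n11107 := rfl
theorem F36699 : act 0 n11107 = n8543 := d0_1 D11107 (iv D8543) F22119 (iv F22068) (iv F28464)
theorem F36700 : act 2 n11107 = n8647 := d7_2 D8520 D11107 (iv D8647) (iv D6625) (iv F22065)
theorem F36701 : act 5 n11107 = n8530 := d10_2 (iv F28465) D11107 (iv D8530)
def n11108 : Q := act 4 n8520
theorem D11108 : act 4 n8520 = n11108 := rfl
theorem F36702 : act 0 n11108 = n8522 := d3_1 D11108 (iv D8522) (iv F28464)
theorem F36703 : act 2 n11108 = n8521 := d14_1 D11108 (iv D8521) D8520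
def n11109 : Q := act 6 n8520
theorem D11109 : act 6 n8520 = n11109 := rfl
theorem F36704 : act 0 n11109 = n8523 := d5_1 D11109 (iv D8523) (iv F28464)
theorem F36705 : act 2 n11109 = n8842 := d16_1 D11109 (iv D8842) (iv D6771) (iv F22067) D8520
theorem F36706 : act 5 n11109 = n8532 := d25_1 D11109 (iv D8532) (iv F28465)
def n11110 : Q := act 5 n8521
theorem D11110 : act 5 n8521 = n11110 := rfl
theorem F36707 : act 0 n11110 = n8524 := d4_1 D11110 (iv D8524) (iv F28466)
theorem F36708 : act 1 n11110 = n8650 := d10_1 D11110 (iv D8650) (iv F28467)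
def n11111 : Q := act 3 n8522
theorem D11111 : act 3 n8522 = n11111 := rfl
theorem F36711 : act 1 n11111 = n8547 := d8_1 D11111 (iv D8547) (iv F28469)
def n11112 : Q := act 5 n8522
theorem D11112 : act 5 n8522 = n11112 := rfl
theorem F36712 : act 1 n11112 = n8548 := d10_1 D11112 (iv D8548) (iv F28469)
def n11113 : Q := act 6 n8522
theorem D11113 : act 6 n8522 = n11113 := rfl
theorem F36717 : act 4 n11113 = n8523 := d23_1 D11113 (iv D8523) D8522
def n11114 : Q := act 7 n8523
theorem D11114 : act 7 n8523 = n11114 := rfl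
theorem F36718 : act 1 n11114 = n8550 := d12_1 D11114 (iv D8550) (iv F28471)
def n11115 : Q := act 1 n8525
theorem D11115 : act 1 n8525 = n11115 := rfl
theorem F36721 : act 0 n11115 = n8551 := d0_1 D11115 (iv D8551) F22132 (iv F22080) (iv F28477)
theorem F36722 : act 2 n11115 = n8655 := d7_2 D8525 D11115 (iv D8655) (iv D6630) (iv F22077)
theorem F36723 : act 7 n11115 = n8530 := d12_2 (iv F28478) D11115 (iv D8530)
def n11116 : Q := act 4 n8525
theorem D11116 : act 4 n8525 = n11116 := rfl
theorem F36726 : act 7 n11116 = n8531 := d24_2 (iv F28478) D11116 (iv D8531)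
def n11117 : Q := act 6 n8525
theorem D11117 : act 6 n8525 = n11117 := rfl
def n11123 : Q := act 4 n8530
theorem D11123 : act 4 n8530 = n11123 := rfl
theorem F36746 : act 0 n11123 = n8559 := d3_1 D11123 (iv D8559) (iv F28493)
theorem F36747 : act 1 n11123 = n8531 := d9_1 D11123 (iv D8531) D8530
theorem F36748 : act 2 n11123 = n8663 := d14_1 D11123 (iv D8663) (iv F28494)
def n11124 : Q := act 6 n8530
theorem D11124 : act 6 n8530 = n11124 := rfl
theorem F36749 : act 0 n11124 = n8560 := d5_1 D11124 (iv D8560) (iv F28493)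
theorem F36750 : act 1 n11124 = n8532 := d11_1 D11124 (iv D8532) D8530
def n11125 : Q := act 3 n8531
theorem D11125 : act 3 n8531 = n11125 := rfl
def n11128 : Q := act 7 n8532
theorem D11128 : act 7 n8532 = n11128 := rfl
def n11133 : Q := act 1 n8538
theorem D11133 : act 1 n8538 = n11133 := rfl
theorem F36771 : act 2 n11133 = n8673 := d7_2 D8538 D11133 (iv D8673) (iv D6643) (iv F22104)
theorem F36772 : act 5 n11133 = n8551 := d10_2 (iv F28513) D11133 (iv D8551)
theorem F36773 : act 7 n11133 = n8543 := d12_2 (iv F28514) D11133 (iv D8543)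
def n11134 : Q := act 4 n8538
theorem D11134 : act 4 n8538 = n11134 := rfl
theorem F36775 : act 2 n11134 = n8539 := d14_1 D11134 (iv D8539) D8538
theorem F36776 : act 7 n11134 = n8544 := d24_2 (iv F28514) D11134 (iv D8544)
def n11135 : Q := act 6 n8538
theorem D11135 : act 6 n8538 = n11135 := rfl
theorem F36778 : act 2 n11135 = n9526 := d16_1 D11135 (iv D9526) (iv D7299) (iv F22106) D8538
theorem F36779 : act 5 n11135 = n8553 := d25_1 D11135 (iv D8553) (iv F28513)
def n11139 : Q := act 6 n8540
theorem D11139 : act 6 n8540 = n11139 := rfl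
theorem F36791 : act 2 n11139 = n9530 := d16_1 D11139 (iv D9530) F24526 (iv F22112) (iv F28520)
theorem F36792 : act 4 n11139 = n8541 := d23_1 D11139 (iv D8541) D8540
def n11140 : Q := act 7 n8541
theorem D11140 : act 7 n8541 = n11140 := rfl
theorem F36793 : act 2 n11140 = n9531 := d17_1 D11140 (iv D9531) (iv F28522)
theorem F36794 : act 5 n11140 = n8558 := d26_1 D11140 (iv D8558) (iv F28523)
theorem F36795 : act 6 n11140 = n8550 := d27_1 D11140 (iv D8550) (iv D6549) (iv F22109) D8541
def n11141 : Q := act 4 n8543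
theorem D11141 : act 4 n8543 = n11141 := rfl
theorem F36796 : act 1 n11141 = n8544 := d9_1 D11141 (iv D8544) D8543
theorem F36797 : act 2 n11141 = n8681 := d14_1 D11141 (iv D8681) (iv F28529)
def n11142 : Q := act 6 n8543
theorem D11142 : act 6 n8543 = n11142 := rfl
theorem F36798 : act 1 n11142 = n8545 := d11_1 D11142 (iv D8545) D8543
theorem F36799 : act 5 n11142 = n8560 := d25_1 D11142 (iv D8560) (iv F28530)
def n11143 : Q := act 3 n8544
theorem D11143 : act 3 n8544 = n11143 := rfl
theorem F36800 : act 0 n11143 = n8547 := d2_1 D11143 (iv D8547) (iv F28531)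
theorem F36801 : act 2 n11143 = n11143 := d13_1 D11143 (iv D11143) F28532 F22123 (iv F28532)
def n11144 : Q := act 5 n8544
theorem D11144 : act 5 n8544 = n11144 := rfl
theorem F36803 : act 2 n11144 = n8546 := d15_1 D11144 (iv D8546) (iv F28532)
def n11146 : Q := act 7 n8545
theorem D11146 : act 7 n8545 = n11146 := rfl
theorem F36808 : act 0 n11146 = n8550 := d6_1 D11146 (iv D8550) (iv F28533)
theorem F36809 : act 2 n11146 = n8597 := d17_1 D11146 (iv D8597) (iv F28534)
theorem F36810 : act 5 n11146 = n8564 := d26_1 D11146 (iv D8564) (iv F28535)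
def n11148 : Q := act 6 n8547
theorem D11148 : act 6 n8547 = n11148 := rfl
theorem F36813 : act 3 n11148 = n8549 := d20_1 D11148 (iv D8549) D8547
def n11150 : Q := act 7 n8549
theorem D11150 : act 7 n8549 = n11150 := rfl
theorem F36818 : act 4 n11150 = n8550 := d24_1 D11150 (iv D8550) (iv F28545)
def n11151 : Q := act 4 n8551
theorem D11151 : act 4 n8551 = n11151 := rfl
theorem F36819 : act 1 n11151 = n8552 := d9_1 D11151 (iv D8552) D8551
theorem F36820 : act 2 n11151 = n8691 := d14_1 D11151 (iv D8691) (iv F28548)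
theorem F36821 : act 7 n11151 = n8559 := d24_2 (iv F28549) D11151 (iv D8559)
def n11152 : Q := act 6 n8551
theorem D11152 : act 6 n8551 = n11152 := rfl
theorem F36822 : act 1 n11152 = n8553 := d11_1 D11152 (iv D8553) D8551
def n11153 : Q := act 3 n8552
theorem D11153 : act 3 n8552 = n11153 := rfl
theorem F36825 : act 7 n11153 = n8561 := d21_2 (iv F28552) D11153 (iv D8561)
def n11154 : Q := act 5 n8552
theorem D11154 : act 5 n8552 = n11154 := rfl
theorem F36827 : act 2 n11154 = n8554 := d15_1 D11154 (iv D8554) (iv F28551)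
theorem F36828 : act 7 n11154 = n8562 := d26_2 (iv F28552) D11154 (iv D8562)
def n11155 : Q := act 6 n8552
theorem D11155 : act 6 n8552 = n11155 := rfl
theorem F36829 : act 0 n11155 = n8557 := d5_1 D11155 (iv D8557) (iv F28550)
theorem F36830 : act 2 n11155 = n9546 := d16_1 D11155 (iv D9546) F24562 (iv F22137) (iv F28551)
theorem F36831 : act 4 n11155 = n8553 := d23_1 D11155 (iv D8553) D8552
def n11156 : Q := act 7 n8553
theorem D11156 : act 7 n8553 = n11156 := rfl
theorem F36832 : act 0 n11156 = n8558 := d6_1 D11156 (iv D8558) (iv F28553)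
theorem F36833 : act 2 n11156 = n9547 := d17_1 D11156 (iv D9547) (iv F28554)
theorem F36834 : act 6 n11156 = n8564 := d27_1 D11156 (iv D8564) (iv D6558) (iv F22133) D8553
def n11159 : Q := act 6 n8556
theorem D11159 : act 6 n8556 = n11159 := rfl
theorem F36839 : act 2 n11159 = n9550 := d16_1 D11159 (iv D9550) F24573 (iv F22144) (iv F28562)
theorem F36840 : act 5 n11159 = n8557 := d25_1 D11159 (iv D8557) D8556
def n11160 : Q := act 7 n8557
theorem D11160 : act 7 n8557 = n11160 := rfl
theorem F36841 : act 2 n11160 = n9551 := d17_1 D11160 (iv D9551) (iv F28564)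
theorem F36843 : act 6 n11160 = n8568 := d27_1 D11160 (iv D8568) (iv D6562) (iv F22140) D8557
def n11161 : Q := act 3 n8559
theorem D11161 : act 3 n8559 = n11161 := rfl
def n11162 : Q := act 5 n8559
theorem D11162 : act 5 n8559 = n11162 := rfl
theorem F36845 : act 1 n11162 = n8562 := d10_1 D11162 (iv D8562) (iv F28568)
theorem F36846 : act 2 n11162 = n8702 := d15_1 D11162 (iv D8702) (iv F28569)
def n11163 : Q := act 6 n8559
theorem D11163 : act 6 n8559 = n11163 := rfl
theorem F36848 : act 4 n11163 = n8560 := d23_1 D11163 (iv D8560) D8559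
def n11164 : Q := act 2 n8560
theorem D11164 : act 2 n8560 = n11164 := rfl
theorem F36849 : act 1 n11164 = n8605 := d7_1 D11164 (iv D8605) F22251 (iv F22150) (iv F28570)
def n11165 : Q := act 7 n8560
theorem D11165 : act 7 n8560 = n11165 := rfl
theorem F36851 : act 1 n11165 = n8564 := d12_1 D11165 (iv D8564) (iv F28570)
def n11166 : Q := act 5 n8561
theorem D11166 : act 5 n8561 = n11166 := rfl
theorem F36854 : act 3 n11166 = n8562 := d19_1 D11166 (iv D8562) D8561
def n11167 : Q := act 6 n8561
theorem D11167 : act 6 n8561 = n11167 := rfl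
def n11168 : Q := act 6 n8562
theorem D11168 : act 6 n8562 = n11168 := rfl
theorem F36858 : act 2 n11168 = n8609 := d16_1 D11168 (iv D8609) F22258 (iv F22154) (iv F28574)
theorem F36859 : act 5 n11168 = n8563 := d25_1 D11168 (iv D8563) D8562
def n11169 : Q := act 7 n8563
theorem D11169 : act 7 n8563 = n11169 := rfl
def n11171 : Q := act 6 n8565
theorem D11171 : act 6 n8565 = n11171 := rfl
theorem F36864 : act 3 n11171 = n8567 := d20_1 D11171 (iv D8567) (iv F28581)
theorem F36865 : act 5 n11171 = n8566 := d25_1 D11171 (iv D8566) D8565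
def n11189 : Q := act 2 n8579
theorem D11189 : act 2 n8579 = n11189 := rfl
theorem F36919 : act 3 n11189 = n8724 := d13_2 D8579 D11189 (iv D8724) (iv D6682) (iv F22190)
def n11204 : Q := act 3 n8592
theorem D11204 : act 3 n8592 = n11204 := rfl
theorem F36960 : act 0 n11204 = n8897 := d2_1 D11204 (iv D8897) (iv F28657)
theorem F36961 : act 1 n11204 = n8594 := d8_1 D11204 (iv D8594) (iv F28658)
def n11205 : Q := act 5 n8592
theorem D11205 : act 5 n8592 = n11205 := rfl
theorem F36964 : act 0 n11205 = n8898 := d4_1 D11205 (iv D8898) (iv F28657)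
theorem F36967 : act 4 n11205 = n8603 := d22_1 D11205 (iv D8603) (iv D6590) (iv F22219) D8592
def n11207 : Q := act 2 n8593
theorem D11207 : act 2 n8593 = n11207 := rfl
def n11208 : Q := act 7 n8593
theorem D11208 : act 7 n8593 = n11208 := rfl
theorem F36976 : act 1 n11208 = n8597 := d12_1 D11208 (iv D8597) (iv F28662)
theorem F36979 : act 6 n11208 = n9599 := d27_1 D11208 (iv D9599) (iv D7354) (iv F22220) D8593
def n11209 : Q := act 5 n8594
theorem D11209 : act 5 n8594 = n11209 := rfl
theorem F36980 : act 0 n11209 = n8598 := d4_1 D11209 (iv D8598) (iv F28665)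
def n11213 : Q := act 4 n8598
theorem D11213 : act 4 n8598 = n11213 := rfl
theorem F36993 : act 1 n11213 = n8906 := d9_1 D11213 (iv D8906) (iv F28679)
def n11260 : Q := act 1 n8637
theorem D11260 : act 1 n8637 = n11260 := rfl
def n11261 : Q := act 4 n8637
theorem D11261 : act 4 n8637 = n11261 := rfl
theorem F37154 : act 2 n11261 = n8638 := d14_1 D11261 (iv D8638) D8637
def n11262 : Q := act 6 n8637
theorem D11262 : act 6 n8637 = n11262 := rfl
def n11263 : Q := act 5 n8638
theorem D11263 : act 5 n8638 = n11263 := rfl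
theorem F37159 : act 3 n11263 = n8650 := d19_1 D11263 (iv D8650) (iv F28819)
def n11265 : Q := act 5 n8639
theorem D11265 : act 5 n8639 = n11265 := rfl
theorem F37165 : act 2 n11265 = n8641 := d15_1 D11265 (iv D8641) (iv F28822)
def n11266 : Q := act 6 n8639
theorem D11266 : act 6 n8639 = n11266 := rfl
theorem F37168 : act 2 n11266 = n8954 := d16_1 D11266 (iv D8954) F23080 (iv F22347) (iv F28822)
def n11268 : Q := act 1 n8642
theorem D11268 : act 1 n8642 = n11268 := rfl
theorem F37173 : act 0 n11268 = n8673 := d0_1 D11268 (iv D8673) F22410 (iv F22356) (iv F28830)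
theorem F37174 : act 5 n11268 = n8655 := d10_2 (iv F28831) D11268 (iv D8655)
theorem F37175 : act 7 n11268 = n8647 := d12_2 (iv F28832) D11268 (iv D8647)
def n11269 : Q := act 4 n8642
theorem D11269 : act 4 n8642 = n11269 := rfl
theorem F37176 : act 0 n11269 = n8644 := d3_1 D11269 (iv D8644) (iv F28830)
theorem F37177 : act 2 n11269 = n8643 := d14_1 D11269 (iv D8643) D8642
def n11270 : Q := act 6 n8642
theorem D11270 : act 6 n8642 = n11270 := rfl
theorem F37181 : act 5 n11270 = n8657 := d25_1 D11270 (iv D8657) (iv F28831)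
def n11271 : Q := act 5 n8643
theorem D11271 : act 5 n8643 = n11271 := rfl
theorem F37183 : act 4 n11271 = n8658 := d22_1 D11271 (iv D8658) (iv D6631) (iv F22353) D8643
theorem F37185 : act 7 n11271 = n8650 := d26_2 (iv F28835) D11271 (iv D8650)
def n11272 : Q := act 3 n8644
theorem D11272 : act 3 n8644 = n11272 := rfl
theorem F37187 : act 7 n11272 = n8651 := d21_2 (iv F28838) D11272 (iv D8651)
def n11273 : Q := act 5 n8644
theorem D11273 : act 5 n8644 = n11273 := rfl
theorem F37188 : act 1 n11273 = n8678 := d10_1 D11273 (iv D8678) (iv F28836)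
theorem F37190 : act 4 n11273 = n8660 := d22_1 D11273 (iv D8660) (iv D6632) (iv F22357) D8644
def n11276 : Q := act 4 n8647
theorem D11276 : act 4 n8647 = n11276 := rfl
theorem F37199 : act 0 n11276 = n8681 := d3_1 D11276 (iv D8681) (iv F28846)
def n11277 : Q := act 6 n8647
theorem D11277 : act 6 n8647 = n11277 := rfl
theorem F37201 : act 0 n11277 = n8682 := d5_1 D11277 (iv D8682) (iv F28846)
theorem F37203 : act 5 n11277 = n8664 := d25_1 D11277 (iv D8664) (iv F28847)
def n11278 : Q := act 3 n8648
theorem D11278 : act 3 n8648 = n11278 := rfl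
theorem F37204 : act 0 n11278 = n8651 := d2_1 D11278 (iv D8651) (iv F28848)
def n11279 : Q := act 5 n8648
theorem D11279 : act 5 n8648 = n11279 := rfl
theorem F37206 : act 2 n11279 = n8650 := d15_1 D11279 (iv D8650) (iv F28849)
def n11281 : Q := act 7 n8649
theorem D11281 : act 7 n8649 = n11281 := rfl
theorem F37213 : act 5 n11281 = n8668 := d26_1 D11281 (iv D8668) (iv F28852)
def n11282 : Q := act 5 n8651
theorem D11282 : act 5 n8651 = n11282 := rfl
theorem F37214 : act 1 n11282 = n8687 := d10_1 D11282 (iv D8687) (iv F28856)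
def n11284 : Q := act 6 n8652
theorem D11284 : act 6 n8652 = n11284 := rfl
theorem F37219 : act 2 n11284 = n8964 := d16_1 D11284 (iv D8964) F23106 (iv F22377) (iv F28858)
def n11286 : Q := act 4 n8655
theorem D11286 : act 4 n8655 = n11286 := rfl
theorem F37225 : act 0 n11286 = n8691 := d3_1 D11286 (iv D8691) (iv F28866)
theorem F37226 : act 1 n11286 = n8656 := d9_1 D11286 (iv D8656) D8655
theorem F37227 : act 7 n11286 = n8663 := d24_2 (iv F28867) D11286 (iv D8663)
def n11287 : Q := act 6 n8655
theorem D11287 : act 6 n8655 = n11287 := rfl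
theorem F37228 : act 0 n11287 = n8692 := d5_1 D11287 (iv D8692) (iv F28866)
theorem F37229 : act 1 n11287 = n8657 := d11_1 D11287 (iv D8657) D8655
def n11288 : Q := act 3 n8656
theorem D11288 : act 3 n8656 = n11288 := rfl
theorem F37230 : act 0 n11288 = n8659 := d2_1 D11288 (iv D8659) (iv F28868)
theorem F37231 : act 2 n11288 = n11288 := d13_1 D11288 (iv D11288) F28869 F22381 (iv F28869)
theorem F37232 : act 7 n11288 = n8665 := d21_2 (iv F28870) D11288 (iv D8665)
def n11289 : Q := act 5 n8656
theorem D11289 : act 5 n8656 = n11289 := rfl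
theorem F37233 : act 0 n11289 = n8660 := d4_1 D11289 (iv D8660) (iv F28868)
theorem F37234 : act 2 n11289 = n8658 := d15_1 D11289 (iv D8658) (iv F28869)
theorem F37235 : act 7 n11289 = n8666 := d26_2 (iv F28870) D11289 (iv D8666)
def n11290 : Q := act 6 n8656
theorem D11290 : act 6 n8656 = n11290 := rfl
theorem F37236 : act 0 n11290 = n8661 := d5_1 D11290 (iv D8661) (iv F28868)
theorem F37237 : act 2 n11290 = n11290 := d16_1 D11290 (iv D11290) F28869 F22382 (iv F28869)
theorem F37238 : act 4 n11290 = n8657 := d23_1 D11290 (iv D8657) D8656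
def n11291 : Q := act 7 n8657
theorem D11291 : act 7 n8657 = n11291 := rfl
theorem F37239 : act 0 n11291 = n8662 := d6_1 D11291 (iv D8662) (iv F28871)
theorem F37240 : act 2 n11291 = n11291 := d17_1 D11291 (iv D11291) F28872
theorem F37241 : act 6 n11291 = n8668 := d27_1 D11291 (iv D8668) (iv D6637) (iv F22379) D8657
def n11292 : Q := act 5 n8659
theorem D11292 : act 5 n8659 = n11292 := rfl
theorem F37244 : act 3 n11292 = n8660 := d19_1 D11292 (iv D8660) D8659
theorem F37245 : act 7 n11292 = n8669 := d26_2 (iv F28879) D11292 (iv D8669)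
def n11293 : Q := act 6 n8659
theorem D11293 : act 6 n8659 = n11293 := rfl
theorem F37247 : act 3 n11293 = n8661 := d20_1 D11293 (iv D8661) D8659
def n11294 : Q := act 6 n8660
theorem D11294 : act 6 n8660 = n11294 := rfl
theorem F37250 : act 5 n11294 = n8661 := d25_1 D11294 (iv D8661) D8660
def n11295 : Q := act 7 n8661
theorem D11295 : act 7 n8661 = n11295 := rfl
theorem F37251 : act 1 n11295 = n8700 := d12_1 D11295 (iv D8700) (iv F28883)
theorem F37254 : act 6 n11295 = n8672 := d27_1 D11295 (iv D8672) (iv D6641) (iv F22386) D8661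
def n11296 : Q := act 3 n8663
theorem D11296 : act 3 n8663 = n11296 := rfl
theorem F37255 : act 0 n11296 = n8701 := d2_1 D11296 (iv D8701) (iv F28889)
theorem F37256 : act 1 n11296 = n8665 := d8_1 D11296 (iv D8665) (iv F28890)
def n11297 : Q := act 5 n8663
theorem D11297 : act 5 n8663 = n11297 := rfl
theorem F37257 : act 0 n11297 = n8702 := d4_1 D11297 (iv D8702) (iv F28889)
theorem F37258 : act 1 n11297 = n8666 := d10_1 D11297 (iv D8666) (iv F28890)
def n11298 : Q := act 6 n8663
theorem D11298 : act 6 n8663 = n11298 := rfl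
theorem F37259 : act 0 n11298 = n8703 := d5_1 D11298 (iv D8703) (iv F28889)
theorem F37260 : act 1 n11298 = n8667 := d11_1 D11298 (iv D8667) (iv F28890)
theorem F37261 : act 4 n11298 = n8664 := d23_1 D11298 (iv D8664) D8663
def n11299 : Q := act 2 n8664
theorem D11299 : act 2 n8664 = n11299 := rfl
theorem F37262 : act 0 n11299 = n8704 := d1_1 D11299 (iv D8704) (iv F28891)
def n11300 : Q := act 7 n8664
theorem D11300 : act 7 n8664 = n11300 := rfl
theorem F37264 : act 0 n11300 = n8705 := d6_1 D11300 (iv D8705) (iv F28891)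
theorem F37265 : act 1 n11300 = n8668 := d12_1 D11300 (iv D8668) (iv F28892)
def n11301 : Q := act 5 n8665
theorem D11301 : act 5 n8665 = n11301 := rfl
theorem F37266 : act 0 n11301 = n8669 := d4_1 D11301 (iv D8669) (iv F28893)
theorem F37267 : act 2 n11301 = n11301 := d15_1 D11301 (iv D11301) F28894
theorem F37268 : act 3 n11301 = n8666 := d19_1 D11301 (iv D8666) D8665
def n11302 : Q := act 6 n8665
theorem D11302 : act 6 n8665 = n11302 := rfl
theorem F37269 : act 0 n11302 = n8670 := d5_1 D11302 (iv D8670) (iv F28893)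
theorem F37270 : act 3 n11302 = n8667 := d20_1 D11302 (iv D8667) D8665
def n11303 : Q := act 6 n8666
theorem D11303 : act 6 n8666 = n11303 := rfl
theorem F37272 : act 2 n11303 = n8973 := d16_1 D11303 (iv D8973) F23126 (iv F22400) (iv F28896)
def n11304 : Q := act 7 n8667
theorem D11304 : act 7 n8667 = n11304 := rfl
def n11307 : Q := act 2 n8670
theorem D11307 : act 2 n8670 = n11307 := rfl
def n11308 : Q := act 7 n8670
theorem D11308 : act 7 n8670 = n11308 := rfl
theorem F37285 : act 1 n11308 = n8712 := d12_1 D11308 (iv D8712) (iv F28905)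
def n11310 : Q := act 4 n8673
theorem D11310 : act 4 n8673 = n11310 := rfl
theorem F37290 : act 1 n11310 = n8674 := d9_1 D11310 (iv D8674) D8673
theorem F37291 : act 7 n11310 = n8681 := d24_2 (iv F28914) D11310 (iv D8681)
def n11311 : Q := act 6 n8673
theorem D11311 : act 6 n8673 = n11311 := rfl
theorem F37292 : act 1 n11311 = n8675 := d11_1 D11311 (iv D8675) D8673
theorem F37293 : act 5 n11311 = n8692 := d25_1 D11311 (iv D8692) (iv F28913)
def n11312 : Q := act 3 n8674
theorem D11312 : act 3 n8674 = n11312 := rfl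
theorem F37296 : act 7 n11312 = n8683 := d21_2 (iv F28917) D11312 (iv D8683)
def n11313 : Q := act 5 n8674
theorem D11313 : act 5 n8674 = n11313 := rfl
theorem F37298 : act 2 n11313 = n8676 := d15_1 D11313 (iv D8676) (iv F28916)
theorem F37299 : act 4 n11313 = n8694 := d22_1 D11313 (iv D8694) (iv D6657) (iv F22411) D8674
theorem F37300 : act 7 n11313 = n8684 := d26_2 (iv F28917) D11313 (iv D8684)
def n11314 : Q := act 6 n8674
theorem D11314 : act 6 n8674 = n11314 := rfl
theorem F37302 : act 2 n11314 = n9650 := d16_1 D11314 (iv D9650) F24798 (iv F22415) (iv F28916)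
theorem F37303 : act 4 n11314 = n8675 := d23_1 D11314 (iv D8675) D8674
def n11315 : Q := act 7 n8675
theorem D11315 : act 7 n8675 = n11315 := rfl
theorem F37305 : act 2 n11315 = n9651 := d17_1 D11315 (iv D9651) (iv F28919)
theorem F37307 : act 6 n11315 = n8686 := d27_1 D11315 (iv D8686) (iv D6650) (iv F22412) D8675
def n11316 : Q := act 5 n8677
theorem D11316 : act 5 n8677 = n11316 := rfl
theorem F37309 : act 3 n11316 = n8678 := d19_1 D11316 (iv D8678) D8677
theorem F37310 : act 7 n11316 = n8687 := d26_2 (iv F28927) D11316 (iv D8687)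
def n11318 : Q := act 6 n8678
theorem D11318 : act 6 n8678 = n11318 := rfl
theorem F37312 : act 2 n11318 = n9654 := d16_1 D11318 (iv D9654) F24812 (iv F22424) (iv F28928)
def n11319 : Q := act 7 n8679
theorem D11319 : act 7 n8679 = n11319 := rfl
theorem F37315 : act 2 n11319 = n9655 := d17_1 D11319 (iv D9655) (iv F28931)
theorem F37317 : act 6 n11319 = n8690 := d27_1 D11319 (iv D8690) (iv D6654) (iv F22418) D8679
def n11320 : Q := act 3 n8681
theorem D11320 : act 3 n8681 = n11320 := rfl
def n11321 : Q := act 5 n8681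
theorem D11321 : act 5 n8681 = n11321 := rfl
theorem F37319 : act 1 n11321 = n8684 := d10_1 D11321 (iv D8684) (iv F28936)
theorem F37320 : act 4 n11321 = n8702 := d22_1 D11321 (iv D8702) (iv D6664) (iv F22426) D8681
def n11322 : Q := act 6 n8681
theorem D11322 : act 6 n8681 = n11322 := rfl
theorem F37321 : act 1 n11322 = n8685 := d11_1 D11322 (iv D8685) (iv F28936)
def n11323 : Q := act 2 n8682
theorem D11323 : act 2 n8682 = n11323 := rfl
theorem F37323 : act 1 n11323 = n8730 := d7_1 D11323 (iv D8730) F22525 (iv F22430) (iv F28937)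
def n11324 : Q := act 7 n8682
theorem D11324 : act 7 n8682 = n11324 := rfl
def n11325 : Q := act 5 n8683
theorem D11325 : act 5 n8683 = n11325 := rfl
theorem F37329 : act 3 n11325 = n8684 := d19_1 D11325 (iv D8684) D8683
def n11326 : Q := act 6 n8683
theorem D11326 : act 6 n8683 = n11326 := rfl
theorem F37331 : act 3 n11326 = n8685 := d20_1 D11326 (iv D8685) D8683
def n11327 : Q := act 6 n8684
theorem D11327 : act 6 n8684 = n11327 := rfl
theorem F37333 : act 2 n11327 = n8734 := d16_1 D11327 (iv D8734) F22533 (iv F22435) (iv F28942)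
def n11328 : Q := act 7 n8685
theorem D11328 : act 7 n8685 = n11328 := rfl
def n11329 : Q := act 4 n8687
theorem D11329 : act 4 n8687 = n11329 := rfl
def n11330 : Q := act 6 n8687
theorem D11330 : act 6 n8687 = n11330 := rfl
theorem F37342 : act 5 n11330 = n8688 := d25_1 D11330 (iv D8688) D8687
def n11334 : Q := act 3 n8691
theorem D11334 : act 3 n8691 = n11334 := rfl
theorem F37349 : act 1 n11334 = n8693 := d8_1 D11334 (iv D8693) (iv F28958)
theorem F37350 : act 7 n11334 = n8701 := d21_2 (iv F28959) D11334 (iv D8701)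
def n11335 : Q := act 5 n8691
theorem D11335 : act 5 n8691 = n11335 := rfl
theorem F37351 : act 1 n11335 = n8694 := d10_1 D11335 (iv D8694) (iv F28958)
theorem F37352 : act 7 n11335 = n8702 := d26_2 (iv F28959) D11335 (iv D8702)
def n11336 : Q := act 6 n8691
theorem D11336 : act 6 n8691 = n11336 := rfl
theorem F37353 : act 1 n11336 = n8695 := d11_1 D11336 (iv D8695) (iv F28958)
theorem F37354 : act 4 n11336 = n8692 := d23_1 D11336 (iv D8692) D8691
def n11337 : Q := act 2 n8692
theorem D11337 : act 2 n8692 = n11337 := rfl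
theorem F37355 : act 1 n11337 = n9673 := d7_1 D11337 (iv D9673) F24857 (iv F22448) (iv F28960)
def n11338 : Q := act 7 n8692
theorem D11338 : act 7 n8692 = n11338 := rfl
theorem F37356 : act 1 n11338 = n8696 := d12_1 D11338 (iv D8696) (iv F28960)
theorem F37357 : act 6 n11338 = n8705 := d27_1 D11338 (iv D8705) (iv D6665) (iv F22443) D8692
def n11339 : Q := act 5 n8693
theorem D11339 : act 5 n8693 = n11339 := rfl
theorem F37359 : act 2 n11339 = n8718 := d15_1 D11339 (iv D8718) (iv F28962)
theorem F37360 : act 3 n11339 = n8694 := d19_1 D11339 (iv D8694) D8693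
theorem F37361 : act 7 n11339 = n8706 := d26_2 (iv F28963) D11339 (iv D8706)
def n11340 : Q := act 6 n8693
theorem D11340 : act 6 n8693 = n11340 := rfl
theorem F37363 : act 3 n11340 = n8695 := d20_1 D11340 (iv D8695) D8693
def n11341 : Q := act 6 n8694
theorem D11341 : act 6 n8694 = n11341 := rfl
theorem F37365 : act 2 n11341 = n9677 := d16_1 D11341 (iv D9677) F24864 (iv F22451) (iv F28965)
theorem F37366 : act 5 n11341 = n8695 := d25_1 D11341 (iv D8695) D8694
def n11342 : Q := act 7 n8695
theorem D11342 : act 7 n8695 = n11342 := rfl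
theorem F37367 : act 0 n11342 = n8700 := d6_1 D11342 (iv D8700) (iv F28967)
theorem F37368 : act 2 n11342 = n9678 := d17_1 D11342 (iv D9678) (iv F28968)
theorem F37369 : act 4 n11342 = n8696 := d24_1 D11342 (iv D8696) (iv F28969)
theorem F37370 : act 6 n11342 = n8709 := d27_1 D11342 (iv D8709) (iv D6668) (iv F22446) D8695
def n11343 : Q := act 4 n8697
theorem D11343 : act 4 n8697 = n11343 := rfl
theorem F37371 : act 2 n11343 = n8721 := d14_1 D11343 (iv D8721) (iv F28973)
theorem F37372 : act 7 n11343 = n8710 := d24_2 (iv F28975) D11343 (iv D8710)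
def n11344 : Q := act 6 n8697
theorem D11344 : act 6 n8697 = n11344 := rfl
theorem F37373 : act 3 n11344 = n8699 := d20_1 D11344 (iv D8699) (iv F28974)
theorem F37374 : act 5 n11344 = n8698 := d25_1 D11344 (iv D8698) D8697
def n11345 : Q := act 2 n8698
theorem D11345 : act 2 n8698 = n11345 := rfl
theorem F37376 : act 6 n11345 = n8723 := d16_2 D8698 D11345 (iv D8723) (iv D6680) (iv F22453)
def n11346 : Q := act 7 n8698
theorem D11346 : act 7 n8698 = n11346 := rfl
theorem F37377 : act 3 n11346 = n8700 := d21_1 D11346 (iv D8700) (iv F28976)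
theorem F37378 : act 6 n11346 = n8712 := d27_1 D11346 (iv D8712) (iv D6671) (iv F22454) D8698
def n11347 : Q := act 7 n8699
theorem D11347 : act 7 n8699 = n11347 := rfl
theorem F37379 : act 2 n11347 = n9683 := d17_1 D11347 (iv D9683) (iv F28977)
theorem F37381 : act 6 n11347 = n8713 := d27_1 D11347 (iv D8713) (iv D6672) (iv F22456) D8699
def n11348 : Q := act 2 n8701
theorem D11348 : act 2 n8701 = n11348 := rfl
theorem F37382 : act 1 n11348 = n8724 := d7_1 D11348 (iv D8724) F22509 (iv F22464) (iv F28982)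
def n11349 : Q := act 5 n8701
theorem D11349 : act 5 n8701 = n11349 := rfl
theorem F37383 : act 1 n11349 = n8706 := d10_1 D11349 (iv D8706) (iv F28982)
theorem F37384 : act 3 n11349 = n8702 := d19_1 D11349 (iv D8702) D8701
def n11350 : Q := act 6 n8701
theorem D11350 : act 6 n8701 = n11350 := rfl
theorem F37385 : act 1 n11350 = n8707 := d11_1 D11350 (iv D8707) (iv F28982)
theorem F37386 : act 3 n11350 = n8703 := d20_1 D11350 (iv D8703) D8701
def n11351 : Q := act 6 n8702
theorem D11351 : act 6 n8702 = n11351 := rfl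
theorem F37387 : act 1 n11351 = n8708 := d11_1 D11351 (iv D8708) (iv F28983)
theorem F37388 : act 5 n11351 = n8703 := d25_1 D11351 (iv D8703) D8702
def n11352 : Q := act 2 n8703
theorem D11352 : act 2 n8703 = n11352 := rfl
theorem F37389 : act 1 n11352 = n8741 := d7_1 D11352 (iv D8741) F22561 (iv F22468) (iv F28984)
def n11353 : Q := act 7 n8703
theorem D11353 : act 7 n8703 = n11353 := rfl
theorem F37391 : act 1 n11353 = n8709 := d12_1 D11353 (iv D8709) (iv F28984)
theorem F37392 : act 4 n11353 = n8705 := d24_1 D11353 (iv D8705) (iv F28985)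
def n11354 : Q := act 3 n8704
theorem D11354 : act 3 n8704 = n11354 := rfl
def n11355 : Q := act 7 n8704
theorem D11355 : act 7 n8704 = n11355 := rfl
theorem F37395 : act 2 n11355 = n8705 := d17_1 D11355 (iv D8705) D8704
def n11356 : Q := act 4 n8706
theorem D11356 : act 4 n8706 = n11356 := rfl
def n11357 : Q := act 6 n8706
theorem D11357 : act 6 n8706 = n11357 := rfl
theorem F37400 : act 3 n11357 = n8708 := d20_1 D11357 (iv D8708) (iv F28990)
theorem F37401 : act 5 n11357 = n8707 := d25_1 D11357 (iv D8707) D8706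
def n11358 : Q := act 7 n8707
theorem D11358 : act 7 n8707 = n11358 := rfl
theorem F37402 : act 0 n11358 = n8712 := d6_1 D11358 (iv D8712) (iv F28991)
theorem F37403 : act 2 n11358 = n11358 := d17_1 D11358 (iv D11358) F28992
theorem F37404 : act 3 n11358 = n8709 := d21_1 D11358 (iv D8709) (iv F28993)
def n11359 : Q := act 7 n8708
theorem D11359 : act 7 n8708 = n11359 := rfl
theorem F37407 : act 5 n11359 = n8709 := d26_1 D11359 (iv D8709) (iv F28996)
def n11362 : Q := act 2 n8714
theorem D11362 : act 2 n8714 = n11362 := rfl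
theorem F37413 : act 0 n11362 = n11362 := d1_1 D11362 (iv D11362) F29008
theorem F37414 : act 7 n11362 = n8724 := d17_2 (iv F29010) D11362 (iv D8724)
def n11363 : Q := act 5 n8714
theorem D11363 : act 5 n8714 = n11363 := rfl
theorem F37416 : act 1 n11363 = n8718 := d10_1 D11363 (iv D8718) (iv F29009)
theorem F37418 : act 7 n11363 = n8725 := d26_2 (iv F29010) D11363 (iv D8725)
def n11364 : Q := act 6 n8714
theorem D11364 : act 6 n8714 = n11364 := rfl
theorem F37420 : act 1 n11364 = n8719 := d11_1 D11364 (iv D8719) (iv F29009)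
theorem F37421 : act 3 n11364 = n8716 := d20_1 D11364 (iv D8716) D8714
def n11366 : Q := act 2 n8716
theorem D11366 : act 2 n8716 = n11366 := rfl
def n11367 : Q := act 3 n8717
theorem D11367 : act 3 n8717 = n11367 := rfl
def n11368 : Q := act 4 n8718
theorem D11368 : act 4 n8718 = n11368 := rfl
def n11369 : Q := act 6 n8718
theorem D11369 : act 6 n8718 = n11369 := rfl
theorem F37440 : act 3 n11369 = n8720 := d20_1 D11369 (iv D8720) (iv F29024)
def n11370 : Q := act 2 n8719
theorem D11370 : act 2 n8719 = n11370 := rfl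
def n11371 : Q := act 6 n8721
theorem D11371 : act 6 n8721 = n11371 := rfl
def n11372 : Q := act 2 n8722
theorem D11372 : act 2 n8722 = n11372 := rfl
def n11374 : Q := act 5 n8724
theorem D11374 : act 5 n8724 = n11374 := rfl
theorem F37457 : act 2 n11374 = n8725 := d15_1 D11374 (iv D8725) D8724
def n11375 : Q := act 6 n8724
theorem D11375 : act 6 n8724 = n11375 := rfl
theorem F37458 : act 0 n11375 = n11375 := d5_1 D11375 (iv D11375) F29043
theorem F37459 : act 2 n11375 = n11375 := d16_1 D11375 (iv D11375) (iv D8724) F22510 D8724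
def n11376 : Q := act 4 n8725
theorem D11376 : act 4 n8725 = n11376 := rfl
def n11380 : Q := act 6 n8728
theorem D11380 : act 6 n8728 = n11380 := rfl
theorem F37478 : act 1 n11380 = n8734 := d11_1 D11380 (iv D8734) (iv F29056)
theorem F37480 : act 5 n11380 = n8729 := d25_1 D11380 (iv D8729) D8728
def n11381 : Q := act 2 n8729
theorem D11381 : act 2 n8729 = n11381 := rfl
def n11385 : Q := act 6 n8732
theorem D11385 : act 6 n8732 = n11385 := rfl
theorem F37493 : act 0 n11385 = n8736 := d5_1 D11385 (iv D8736) (iv F29069)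
theorem F37496 : act 5 n11385 = n8733 := d25_1 D11385 (iv D8733) D8732
def n11387 : Q := act 7 n8733
theorem D11387 : act 7 n8733 = n11387 := rfl
theorem F37503 : act 6 n11387 = n9723 := d27_1 D11387 (iv D9723) (iv D7454) (iv F22531) D8733
def n11409 : Q := act 7 n8752
theorem D11409 : act 7 n8752 = n11409 := rfl
theorem F37570 : act 2 n11409 = n8753 := d17_1 D11409 (iv D8753) D8752
def n11412 : Q := act 6 n8755
theorem D11412 : act 6 n8755 = n11412 := rfl
theorem F37578 : act 2 n11412 = n9748 := d16_1 D11412 (iv D9748) F25061 (iv F22607) (iv F29150)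
def n11435 : Q := act 2 n8773
theorem D11435 : act 2 n8773 = n11435 := rfl
theorem F37665 : act 5 n11435 = n8781 := d15_2 (iv F29218) D11435 (iv D8781)
def n11445 : Q := act 1 n8781
theorem D11445 : act 1 n8781 = n11445 := rfl
theorem F37693 : act 0 n11445 = n11445 := d0_1 D11445 (iv D11445) F29243 F22674 (iv F29243)
theorem F37694 : act 2 n11445 = n11445 := d7_2 D8781 D11445 (iv D11445) (iv D8781) F22672
def n11446 : Q := act 4 n8781
theorem D11446 : act 4 n8781 = n11446 := rfl
theorem F37696 : act 2 n11446 = n8782 := d14_1 D11446 (iv D8782) D8781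
def n11447 : Q := act 6 n8781
theorem D11447 : act 6 n8781 = n11447 := rfl
theorem F37698 : act 2 n11447 = n8797 := d16_1 D11447 (iv D8797) (iv D6739) (iv F22673) D8781
def n11448 : Q := act 5 n8782
theorem D11448 : act 5 n8782 = n11448 := rfl
theorem F37702 : act 6 n11448 = n8798 := d25_2 (iv F29247) D11448 (iv D8798)
def n11451 : Q := act 6 n8783
theorem D11451 : act 6 n8783 = n11451 := rfl
theorem F37708 : act 2 n11451 = n8801 := d16_1 D11451 (iv D8801) F22716 (iv F22677) (iv F29249)
def n11458 : Q := act 1 n8790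
theorem D11458 : act 1 n8790 = n11458 := rfl
theorem F37733 : act 5 n11458 = n8795 := d10_2 (iv F29273) D11458 (iv D8795)
def n11459 : Q := act 4 n8790
theorem D11459 : act 4 n8790 = n11459 := rfl
theorem F37736 : act 2 n11459 = n8791 := d14_1 D11459 (iv D8791) D8790
def n11462 : Q := act 3 n8792
theorem D11462 : act 3 n8792 = n11462 := rfl
theorem F37746 : act 4 n11462 = n8844 := d18_2 D8792 D11462 (iv D8844) (iv D6773) (iv F22699)
def n11468 : Q := act 3 n8796
theorem D11468 : act 3 n8796 = n11468 := rfl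
theorem F37765 : act 0 n11468 = n8799 := d2_1 D11468 (iv D8799) (iv F29291)
def n11469 : Q := act 5 n8796
theorem D11469 : act 5 n8796 = n11469 := rfl
theorem F37770 : act 2 n11469 = n8798 := d15_1 D11469 (iv D8798) (iv F29292)
def n11470 : Q := act 6 n8796
theorem D11470 : act 6 n8796 = n11470 := rfl
def n11472 : Q := act 5 n8799
theorem D11472 : act 5 n8799 = n11472 := rfl
theorem F37777 : act 1 n11472 = n8817 := d10_1 D11472 (iv D8817) (iv F29300)
theorem F37779 : act 3 n11472 = n8800 := d19_1 D11472 (iv D8800) D8799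
def n11473 : Q := act 6 n8799
theorem D11473 : act 6 n8799 = n11473 := rfl
theorem F37781 : act 1 n11473 = n8818 := d11_1 D11473 (iv D8818) (iv F29300)
theorem F37782 : act 3 n11473 = n8801 := d20_1 D11473 (iv D8801) D8799
def n11483 : Q := act 6 n8807
theorem D11483 : act 6 n8807 = n11483 := rfl
def n11497 : Q := act 2 n8818
theorem D11497 : act 2 n8818 = n11497 := rfl
theorem F37856 : act 6 n11497 = n8832 := d16_2 D8818 D11497 (iv D8832) (iv D6764) (iv F22756)
def n11514 : Q := act 7 n8831
theorem D11514 : act 7 n8831 = n11514 := rfl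
theorem F37918 : act 3 n11514 = n8834 := d21_1 D11514 (iv D8834) (iv F29411)
def n11520 : Q := act 5 n8836
theorem D11520 : act 5 n8836 = n11520 := rfl
theorem F37936 : act 0 n11520 = n8839 := d4_1 D11520 (iv D8839) (iv F29427)
theorem F37937 : act 1 n11520 = n8951 := d10_1 D11520 (iv D8951) (iv F29428)
def n11525 : Q := act 4 n8840
theorem D11525 : act 4 n8840 = n11525 := rfl
theorem F37954 : act 1 n11525 = n8841 := d9_1 D11525 (iv D8841) D8840
theorem F37955 : act 2 n11525 = n8956 := d14_1 D11525 (iv D8956) (iv F29441)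
def n11527 : Q := act 3 n8841
theorem D11527 : act 3 n8841 = n11527 := rfl
def n11567 : Q := act 2 n8870
theorem D11567 : act 2 n8870 = n11567 := rfl
theorem F38074 : act 6 n11567 = n8998 := d16_2 D8870 D11567 (iv D8998) (iv D6891) (iv F22879)
def n11601 : Q := act 5 n8897
theorem D11601 : act 5 n8897 = n11601 := rfl
theorem F38171 : act 1 n11601 = n8902 := d10_1 D11601 (iv D8902) (iv F29604)
def n11608 : Q := act 4 n8902
theorem D11608 : act 4 n8902 = n11608 := rfl
theorem F38191 : act 2 n11608 = n9242 := d14_1 D11608 (iv D9242) (iv F29620)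
def n11622 : Q := act 2 n8913
theorem D11622 : act 2 n8913 = n11622 := rfl
theorem F38234 : act 5 n11622 = n8914 := d15_2 (iv F29654) D11622 (iv D8914)
def n11624 : Q := act 3 n8914
theorem D11624 : act 3 n8914 = n11624 := rfl
def n11629 : Q := act 6 n8918
theorem D11629 : act 6 n8918 = n11629 := rfl
def n11641 : Q := act 2 n8928
theorem D11641 : act 2 n8928 = n11641 := rfl
def n11642 : Q := act 7 n8928
theorem D11642 : act 7 n8928 = n11642 := rfl
theorem F38285 : act 3 n11642 = n9276 := d21_1 D11642 (iv D9276) (iv F29693)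
theorem F38288 : act 6 n11642 = n9794 := d27_1 D11642 (iv D9794) (iv D7511) (iv F23018) D8928
def n11647 : Q := act 6 n8932
theorem D11647 : act 6 n8932 = n11647 := rfl
theorem F38301 : act 2 n11647 = n9799 := d16_1 D11647 (iv D9799) F25177 (iv F23029) (iv F29706)
def n11669 : Q := act 6 n8949
theorem D11669 : act 6 n8949 = n11669 := rfl
def n11673 : Q := act 6 n8953
theorem D11673 : act 6 n8953 = n11673 := rfl
def n11675 : Q := act 3 n8956
theorem D11675 : act 3 n8956 = n11675 := rfl
theorem F38388 : act 0 n11675 = n8980 := d2_1 D11675 (iv D8980) (iv F29781)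
def n11676 : Q := act 5 n8956
theorem D11676 : act 5 n8956 = n11676 := rfl
theorem F38392 : act 0 n11676 = n8981 := d4_1 D11676 (iv D8981) (iv F29781)
def n11693 : Q := act 2 n8968
theorem D11693 : act 2 n8968 = n11693 := rfl
theorem F38449 : act 0 n11693 = n8998 := d1_1 D11693 (iv D8998) (iv F29820)
theorem F38450 : act 4 n11693 = n8969 := d14_2 (iv F29822) D11693 (iv D8969)
def n11706 : Q := act 2 n8980
theorem D11706 : act 2 n8980 = n11706 := rfl
theorem F38489 : act 1 n11706 = n9340 := d7_1 D11706 (iv D9340) F24046 (iv F23151) (iv F29857)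
def n11714 : Q := act 4 n8985
theorem D11714 : act 4 n8985 = n11714 := rfl
theorem F38513 : act 2 n11714 = n9348 := d14_1 D11714 (iv D9348) (iv F29872)
theorem F38514 : act 3 n11714 = n9002 := d18_1 D11714 (iv D9002) F23190 (iv F23156) (iv F29873)
def n11732 : Q := act 3 n8998
theorem D11732 : act 3 n8998 = n11732 := rfl
theorem F38570 : act 1 n11732 = n9029 := d8_1 D11732 (iv D9029) (iv F29913)
def n11733 : Q := act 7 n8998
theorem D11733 : act 7 n8998 = n11733 := rfl
theorem F38571 : act 1 n11733 = n9030 := d12_1 D11733 (iv D9030) (iv F29913)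
def n11748 : Q := act 2 n9014
theorem D11748 : act 2 n9014 = n11748 := rfl
theorem F38621 : act 5 n11748 = n9015 := d15_2 (iv F29970) D11748 (iv D9015)
def n11750 : Q := act 3 n9015
theorem D11750 : act 3 n9015 = n11750 := rfl
def n11787 : Q := act 6 n9045
theorem D11787 : act 6 n9045 = n11787 := rfl
theorem F38722 : act 1 n11787 = n9046 := d11_1 D11787 (iv D9046) (iv F30051)
def n11862 : Q := act 6 n9100
theorem D11862 : act 6 n9100 = n11862 := rfl
theorem F38975 : act 0 n11862 = n9122 := d5_1 D11862 (iv D9122) (iv F30242)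
theorem F38977 : act 4 n11862 = n9101 := d23_1 D11862 (iv D9101) D9100
def n11863 : Q := act 2 n9101
theorem D11863 : act 2 n9101 = n11863 := rfl
def n11879 : Q := act 5 n9112
theorem D11879 : act 5 n9112 = n11879 := rfl
theorem F39029 : act 3 n11879 = n9113 := d19_1 D11879 (iv D9113) D9112
def n11880 : Q := act 6 n9112
theorem D11880 : act 6 n9112 = n11880 := rfl
theorem F39033 : act 4 n11880 = n9189 := d23_1 D11880 (iv D9189) (iv F30280)
def n11883 : Q := act 4 n9116
theorem D11883 : act 4 n9116 = n11883 := rfl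
theorem F39042 : act 3 n11883 = n9129 := d18_1 D11883 (iv D9129) F23527 (iv F23499) (iv F30294)
def n11884 : Q := act 6 n9116
theorem D11884 : act 6 n9116 = n11884 := rfl
theorem F39046 : act 5 n11884 = n9117 := d25_1 D11884 (iv D9117) D9116
def n11885 : Q := act 2 n9117
theorem D11885 : act 2 n9117 = n11885 := rfl
def n11887 : Q := act 7 n9118
theorem D11887 : act 7 n9118 = n11887 := rfl
theorem F39053 : act 4 n11887 = n9133 := d24_1 D11887 (iv D9133) (iv F30299)
theorem F39054 : act 5 n11887 = n9119 := d26_1 D11887 (iv D9119) (iv F30300)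
def n11890 : Q := act 6 n9120
theorem D11890 : act 6 n9120 = n11890 := rfl
theorem F39063 : act 1 n11890 = n9126 := d11_1 D11890 (iv D9126) (iv F30304)
theorem F39064 : act 3 n11890 = n9122 := d20_1 D11890 (iv D9122) D9120
theorem F39065 : act 4 n11890 = n9199 := d23_1 D11890 (iv D9199) (iv F30305)
def n11892 : Q := act 2 n9122
theorem D11892 : act 2 n9122 = n11892 := rfl
def n11896 : Q := act 4 n9125
theorem D11896 : act 4 n9125 = n11896 := rfl
theorem F39080 : act 2 n11896 = n9141 := d14_1 D11896 (iv D9141) (iv F30318)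
def n11898 : Q := act 2 n9126
theorem D11898 : act 2 n9126 = n11898 := rfl
theorem F39089 : act 6 n11898 = n9143 := d16_2 D9126 D11898 (iv D9143) (iv D7005) (iv F23513)
def n11901 : Q := act 6 n9129
theorem D11901 : act 6 n9129 = n11901 := rfl
def n11902 : Q := act 2 n9130
theorem D11902 : act 2 n9130 = n11902 := rfl
theorem F39102 : act 6 n11902 = n9147 := d16_2 D9130 D11902 (iv D9147) (iv D7009) (iv F23526)
def n11903 : Q := act 7 n9130
theorem D11903 : act 7 n9130 = n11903 := rfl
theorem F39103 : act 3 n11903 = n9133 := d21_1 D11903 (iv D9133) (iv F30334)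
def n11905 : Q := act 7 n9131
theorem D11905 : act 7 n9131 = n11905 := rfl
theorem F39109 : act 2 n11905 = n9132 := d17_1 D11905 (iv D9132) D9131
def n11906 : Q := act 5 n9134
theorem D11906 : act 5 n9134 = n11906 := rfl
theorem F39113 : act 2 n11906 = n9135 := d15_1 D11906 (iv D9135) D9134
def n11907 : Q := act 6 n9134
theorem D11907 : act 6 n9134 = n11907 := rfl
theorem F39118 : act 4 n11907 = n9216 := d23_1 D11907 (iv D9216) (iv F30347)
def n11909 : Q := act 6 n9135
theorem D11909 : act 6 n9135 = n11909 := rfl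
theorem F39126 : act 5 n11909 = n9136 := d25_1 D11909 (iv D9136) D9135
def n11910 : Q := act 2 n9136
theorem D11910 : act 2 n9136 = n11910 := rfl
theorem F39128 : act 4 n11910 = n9219 := d14_2 (iv F30356) D11910 (iv D9219)
def n11911 : Q := act 7 n9136
theorem D11911 : act 7 n9136 = n11911 := rfl
theorem F39130 : act 1 n11911 = n9144 := d12_1 D11911 (iv D9144) (iv F30354)
theorem F39131 : act 3 n11911 = n9139 := d21_1 D11911 (iv D9139) (iv F30355)
def n11917 : Q := act 6 n9141
theorem D11917 : act 6 n9141 = n11917 := rfl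
theorem F39156 : act 4 n11917 = n9142 := d23_1 D11917 (iv D9142) D9141
def n11918 : Q := act 2 n9142
theorem D11918 : act 2 n9142 = n11918 := rfl
theorem F39160 : act 5 n11918 = n9143 := d15_2 (iv F30377) D11918 (iv D9143)
def n11919 : Q := act 7 n9142
theorem D11919 : act 7 n9142 = n11919 := rfl
theorem F39162 : act 3 n11919 = n9145 := d21_1 D11919 (iv D9145) (iv F30376)
theorem F39163 : act 5 n11919 = n9144 := d26_1 D11919 (iv D9144) (iv F30377)
def n11920 : Q := act 1 n9143
theorem D11920 : act 1 n9143 = n11920 := rfl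
def n11921 : Q := act 7 n9143
theorem D11921 : act 7 n9143 = n11921 := rfl
theorem F39167 : act 0 n11921 = n9150 := d6_1 D11921 (iv D9150) (iv F30378)
def n11922 : Q := act 2 n9146
theorem D11922 : act 2 n9146 = n11922 := rfl
theorem F39171 : act 4 n11922 = n9147 := d14_2 (iv F30390) D11922 (iv D9147)
def n11925 : Q := act 7 n9147
theorem D11925 : act 7 n9147 = n11925 := rfl
theorem F39182 : act 5 n11925 = n9150 := d26_1 D11925 (iv D9150) (iv F30393)
def n11928 : Q := act 6 n9150
theorem D11928 : act 6 n9150 = n11928 := rfl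
def n11953 : Q := act 2 n9169
theorem D11953 : act 2 n9169 = n11953 := rfl
theorem F39269 : act 0 n11953 = n9197 := d1_1 D11953 (iv D9197) (iv F30462)
theorem F39271 : act 3 n11953 = n9323 := d13_2 D9169 D11953 (iv D9323) (iv D7144) (iv F23631)
def n11955 : Q := act 6 n9169
theorem D11955 : act 6 n9169 = n11955 := rfl
theorem F39278 : act 1 n11955 = n9175 := d11_1 D11955 (iv D9175) (iv F30463)
theorem F39279 : act 3 n11955 = n9171 := d20_1 D11955 (iv D9171) D9169
def n11957 : Q := act 2 n9171
theorem D11957 : act 2 n9171 = n11957 := rfl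
theorem F39286 : act 6 n11957 = n9327 := d16_2 D9171 D11957 (iv D9327) (iv D7146) (iv F23631)
def n11959 : Q := act 3 n9172
theorem D11959 : act 3 n9172 = n11959 := rfl
theorem F39293 : act 6 n11959 = n9329 := d20_2 (iv F30474) D11959 (iv D9329)
def n11963 : Q := act 2 n9175
theorem D11963 : act 2 n9175 = n11963 := rfl
theorem F39303 : act 0 n11963 = n9180 := d1_1 D11963 (iv D9180) (iv F30482)
def n11967 : Q := act 2 n9179
theorem D11967 : act 2 n9179 = n11967 := rfl
theorem F39316 : act 5 n11967 = n9180 := d15_2 (iv F30496) D11967 (iv D9180)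
def n11969 : Q := act 1 n9180
theorem D11969 : act 1 n9180 = n11969 := rfl
theorem F39322 : act 2 n11969 = n9213 := d7_2 D9180 D11969 (iv D9213) (iv D7057) (iv F23651)
def n11973 : Q := act 6 n9183
theorem D11973 : act 6 n9183 = n11973 := rfl
theorem F39332 : act 1 n11973 = n9189 := d11_1 D11973 (iv D9189) (iv F30506)
theorem F39333 : act 3 n11973 = n9185 := d20_1 D11973 (iv D9185) D9183
def n11975 : Q := act 2 n9185
theorem D11975 : act 2 n9185 = n11975 := rfl
theorem F39339 : act 6 n11975 = n9344 := d16_2 D9185 D11975 (iv D9344) (iv D7160) (iv F23661)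
def n11976 : Q := act 7 n9185
theorem D11976 : act 7 n9185 = n11976 := rfl
theorem F39340 : act 1 n11976 = n9191 := d12_1 D11976 (iv D9191) (iv F30512)
def n11981 : Q := act 2 n9189
theorem D11981 : act 2 n9189 = n11981 := rfl
theorem F39355 : act 0 n11981 = n9194 := d1_1 D11981 (iv D9194) (iv F30523)
def n11982 : Q := act 7 n9189
theorem D11982 : act 7 n9189 = n11982 := rfl
theorem F39358 : act 3 n11982 = n9191 := d21_1 D11982 (iv D9191) (iv F30524)
def n11984 : Q := act 6 n9192
theorem D11984 : act 6 n9192 = n11984 := rfl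
theorem F39365 : act 3 n11984 = n9210 := d20_1 D11984 (iv D9210) (iv F30533)
theorem F39366 : act 4 n11984 = n9193 := d23_1 D11984 (iv D9193) D9192
def n11985 : Q := act 2 n9193
theorem D11985 : act 2 n9193 = n11985 := rfl
theorem F39367 : act 3 n11985 = n9248 := d13_2 (iv F30535) D11985 (iv D9248) F23804 (iv F23681)
def n11988 : Q := act 7 n9194
theorem D11988 : act 7 n9194 = n11988 := rfl
theorem F39373 : act 2 n11988 = n9195 := d17_1 D11988 (iv D9195) D9194
def n11989 : Q := act 5 n9197
theorem D11989 : act 5 n9197 = n11989 := rfl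
theorem F39375 : act 1 n11989 = n9215 := d10_1 D11989 (iv D9215) (iv F30544)
theorem F39377 : act 3 n11989 = n9358 := d19_1 D11989 (iv D9358) (iv F30545)
def n11990 : Q := act 6 n9197
theorem D11990 : act 6 n9197 = n11990 := rfl
theorem F39379 : act 1 n11990 = n9216 := d11_1 D11990 (iv D9216) (iv F30544)
theorem F39380 : act 3 n11990 = n9359 := d20_1 D11990 (iv D9359) (iv F30545)
def n11992 : Q := act 6 n9198
theorem D11992 : act 6 n9198 = n11992 := rfl
theorem F39383 : act 1 n11992 = n9206 := d11_1 D11992 (iv D9206) (iv F30547)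
theorem F39384 : act 3 n11992 = n9200 := d20_1 D11992 (iv D9200) (iv F30548)
def n11993 : Q := act 2 n9199
theorem D11993 : act 2 n9199 = n11993 := rfl
def n11995 : Q := act 2 n9200
theorem D11995 : act 2 n9200 = n11995 := rfl
theorem F39391 : act 6 n11995 = n9364 := d16_2 D9200 D11995 (iv D9364) (iv D7175) (iv F23690)
def n11997 : Q := act 3 n9201
theorem D11997 : act 3 n9201 = n11997 := rfl
theorem F39396 : act 6 n11997 = n9366 := d20_2 (iv F30556) D11997 (iv D9366)
def n12003 : Q := act 2 n9206
theorem D12003 : act 2 n9206 = n12003 := rfl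
theorem F39412 : act 6 n12003 = n9223 := d16_2 D9206 D12003 (iv D9223) (iv D7066) (iv F23699)
def n12005 : Q := act 1 n9207
theorem D12005 : act 1 n9207 = n12005 := rfl
theorem F39418 : act 6 n12005 = n9225 := d11_2 (iv F30572) D12005 (iv D9225)
def n12007 : Q := act 2 n9210
theorem D12007 : act 2 n9210 = n12007 := rfl
theorem F39423 : act 6 n12007 = n9227 := d16_2 D9210 D12007 (iv D9227) (iv D7070) (iv F23711)
def n12009 : Q := act 1 n9211
theorem D12009 : act 1 n9211 = n12009 := rfl
theorem F39426 : act 3 n12009 = n9270 := d8_2 (iv F30581) D12009 (iv D9270)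
theorem F39428 : act 6 n12009 = n9229 := d11_2 (iv F30583) D12009 (iv D9229)
def n12011 : Q := act 0 n9213
theorem D12011 : act 0 n9213 = n12011 := rfl
theorem F39433 : act 6 n12011 = n9231 := d5_2 (iv F30588) D12011 (iv D9231)
def n12014 : Q := act 4 n9215
theorem D12014 : act 4 n9215 = n12014 := rfl
def n12015 : Q := act 6 n9215
theorem D12015 : act 6 n9215 = n12015 := rfl
theorem F39443 : act 3 n12015 = n9375 := d20_1 D12015 (iv D9375) (iv F30593)
def n12016 : Q := act 2 n9216
theorem D12016 : act 2 n9216 = n12016 := rfl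
theorem F39447 : act 6 n12016 = n9219 := d16_2 D9216 D12016 (iv D9219) (iv D7062) D7060
def n12017 : Q := act 7 n9216
theorem D12017 : act 7 n9216 = n12017 := rfl
def n12019 : Q := act 2 n9218
theorem D12019 : act 2 n9218 = n12019 := rfl
theorem F39456 : act 5 n12019 = n9219 := d15_2 (iv F30603) D12019 (iv D9219)
def n12020 : Q := act 7 n9218
theorem D12020 : act 7 n9218 = n12020 := rfl
theorem F39458 : act 1 n12020 = n9224 := d12_1 D12020 (iv D9224) (iv F30601)
def n12021 : Q := act 1 n9219
theorem D12021 : act 1 n9219 = n12021 := rfl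
theorem F39462 : act 2 n12021 = n9225 := d7_2 D9219 D12021 (iv D9225) (iv D7067) (iv F23730)
def n12022 : Q := act 7 n9219
theorem D12022 : act 7 n9219 = n12022 := rfl
theorem F39465 : act 2 n12022 = n9220 := d17_1 D12022 (iv D9220) D9219
def n12025 : Q := act 1 n9223
theorem D12025 : act 1 n9223 = n12025 := rfl
theorem F39473 : act 5 n12025 = n9225 := d10_2 (iv F30619) D12025 (iv D9225)
def n12027 : Q := act 0 n9225
theorem D12027 : act 0 n9225 = n12027 := rfl
theorem F39478 : act 1 n12027 = n9231 := d0_2 D9225 D12027 (iv D9231) (iv D7073) (iv F23746)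
def n12028 : Q := act 7 n9225
theorem D12028 : act 7 n9225 = n12028 := rfl
theorem F39480 : act 1 n12028 = n9226 := d12_1 D12028 (iv D9226) D9225
theorem F39481 : act 3 n12028 = n9280 := d21_1 D12028 (iv D9280) (iv F30624)
def n12031 : Q := act 3 n9227
theorem D12031 : act 3 n9227 = n12031 := rfl
def n12032 : Q := act 7 n9227
theorem D12032 : act 7 n9227 = n12032 := rfl
theorem F39489 : act 4 n12032 = n9230 := d24_1 D12032 (iv D9230) (iv F30628)
def n12033 : Q := act 0 n9229
theorem D12033 : act 0 n9229 = n12033 := rfl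
theorem F39492 : act 5 n12033 = n9231 := d4_2 (iv F30634) D12033 (iv D9231)
def n12034 : Q := act 7 n9229
theorem D12034 : act 7 n9229 = n12034 := rfl
theorem F39496 : act 5 n12034 = n9232 := d26_1 D12034 (iv D9232) (iv F30634)
def n12036 : Q := act 7 n9231
theorem D12036 : act 7 n9231 = n12036 := rfl
theorem F39500 : act 0 n12036 = n9232 := d6_1 D12036 (iv D9232) D9231
theorem F39502 : act 3 n12036 = n9288 := d21_1 D12036 (iv D9288) (iv F30639)
def n12050 : Q := act 6 n9241
theorem D12050 : act 6 n9241 = n12050 := rfl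
theorem F39552 : act 7 n12050 = n9388 := d27_2 D9241 D12050 (iv D9388) (iv D7196) (iv F23781)
def n12056 : Q := act 2 n9247
theorem D12056 : act 2 n9247 = n12056 := rfl
theorem F39567 : act 4 n12056 = n9248 := d14_2 (iv F30694) D12056 (iv D9248)
def n12064 : Q := act 2 n9253
theorem D12064 : act 2 n9253 = n12064 := rfl
def n12066 : Q := act 1 n9254
theorem D12066 : act 1 n9254 = n12066 := rfl
theorem F39597 : act 2 n12066 = n9266 := d7_2 D9254 D12066 (iv D9266) (iv D7098) (iv F23821)
def n12067 : Q := act 3 n9254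
theorem D12067 : act 3 n9254 = n12067 := rfl
theorem F39601 : act 2 n12067 = n9258 := d13_1 D12067 (iv D9258) (iv D7092) (iv F23822) D9254
def n12069 : Q := act 3 n9256
theorem D12069 : act 3 n9256 = n12069 := rfl
theorem F39608 : act 6 n12069 = n9398 := d20_2 (iv F30724) D12069 (iv D9398)
def n12072 : Q := act 7 n9258
theorem D12072 : act 7 n9258 = n12072 := rfl
def n12079 : Q := act 1 n9264
theorem D12079 : act 1 n9264 = n12079 := rfl
theorem F39639 : act 6 n12079 = n9277 := d11_2 (iv F30748) D12079 (iv D9277)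
def n12082 : Q := act 7 n9266
theorem D12082 : act 7 n9266 = n12082 := rfl
def n12084 : Q := act 1 n9268
theorem D12084 : act 1 n9268 = n12084 := rfl
theorem F39653 : act 4 n12084 = n9270 := d9_2 (iv F30758) D12084 (iv D9270)
theorem F39655 : act 6 n12084 = n9282 := d11_2 (iv F30760) D12084 (iv D9282)
def n12085 : Q := act 3 n9268
theorem D12085 : act 3 n9268 = n12085 := rfl
theorem F39657 : act 6 n12085 = n9283 := d20_2 (iv F30760) D12085 (iv D9283)
def n12086 : Q := act 7 n9268
theorem D12086 : act 7 n9268 = n12086 := rfl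
theorem F39658 : act 2 n12086 = n9269 := d17_1 D12086 (iv D9269) D9268
def n12087 : Q := act 0 n9270
theorem D12087 : act 0 n9270 = n12087 := rfl
theorem F39663 : act 6 n12087 = n9285 := d5_2 (iv F30767) D12087 (iv D9285)
def n12088 : Q := act 7 n9270
theorem D12088 : act 7 n9270 = n12088 := rfl
theorem F39664 : act 1 n12088 = n9271 := d12_1 D12088 (iv D9271) D9270
def n12089 : Q := act 6 n9271
theorem D12089 : act 6 n9271 = n12089 := rfl
theorem F39667 : act 2 n12089 = n9916 := d16_1 D12089 (iv D9916) F25467 (iv F23864) (iv F30768)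
def n12096 : Q := act 7 n9277
theorem D12096 : act 7 n9277 = n12096 := rfl
theorem F39690 : act 5 n12096 = n9280 := d26_1 D12096 (iv D9280) (iv F30788)
def n12097 : Q := act 6 n9278
theorem D12097 : act 6 n9278 = n12097 := rfl
theorem F39692 : act 2 n12097 = n9924 := d16_1 D12097 (iv D9924) F25492 (iv F23880) (iv F30790)
def n12099 : Q := act 6 n9280
theorem D12099 : act 6 n9280 = n12099 := rfl
def n12100 : Q := act 0 n9282
theorem D12100 : act 0 n9282 = n12100 := rfl
theorem F39700 : act 2 n12100 = n9290 := d1_2 (iv F30801) D12100 (iv D9290)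
theorem F39701 : act 4 n12100 = n9285 := d3_2 (iv F30802) D12100 (iv D9285)
def n12102 : Q := act 7 n9282
theorem D12102 : act 7 n9282 = n12102 := rfl
theorem F39707 : act 4 n12102 = n9286 := d24_1 D12102 (iv D9286) (iv F30802)
def n12103 : Q := act 7 n9283
theorem D12103 : act 7 n9283 = n12103 := rfl
theorem F39709 : act 3 n12103 = n9284 := d21_1 D12103 (iv D9284) D9283
def n12104 : Q := act 6 n9284
theorem D12104 : act 6 n9284 = n12104 := rfl
theorem F39711 : act 2 n12104 = n9931 := d16_1 D12104 (iv D9931) F25511 (iv F23891) (iv F30805)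
def n12105 : Q := act 7 n9285
theorem D12105 : act 7 n9285 = n12105 := rfl
theorem F39716 : act 5 n12105 = n9288 := d26_1 D12105 (iv D9288) (iv F30809)
def n12106 : Q := act 6 n9286
theorem D12106 : act 6 n9286 = n12106 := rfl
theorem F39717 : act 1 n12106 = n9287 := d11_1 D12106 (iv D9287) (iv F30810)
def n12107 : Q := act 6 n9288
theorem D12107 : act 6 n9288 = n12107 := rfl
def n12108 : Q := act 2 n9289
theorem D12108 : act 2 n9289 = n12108 := rfl
theorem F39721 : act 1 n12108 = n9935 := d7_1 D12108 (iv D9935) F25527 (iv F23901) (iv F30818)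
def n12110 : Q := act 7 n9290
theorem D12110 : act 7 n9290 = n12110 := rfl
theorem F39731 : act 4 n12110 = n9295 := d24_1 D12110 (iv D9295) (iv F30821)
def n12117 : Q := act 2 n9297
theorem D12117 : act 2 n9297 = n12117 := rfl
def n12152 : Q := act 6 n9323
theorem D12152 : act 6 n9323 = n12152 := rfl
theorem F39878 : act 4 n12152 = n12152 := d23_1 D12152 (iv D12152) F30941
def n12155 : Q := act 2 n9325
theorem D12155 : act 2 n9325 = n12155 := rfl
theorem F39887 : act 0 n12155 = n9362 := d1_1 D12155 (iv D9362) (iv F30947)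
def n12156 : Q := act 7 n9325
theorem D12156 : act 7 n9325 = n12156 := rfl
theorem F39889 : act 0 n12156 = n9363 := d6_1 D12156 (iv D9363) (iv F30947)
theorem F39890 : act 1 n12156 = n9334 := d12_1 D12156 (iv D9334) (iv F30948)
theorem F39891 : act 3 n12156 = n9328 := d21_1 D12156 (iv D9328) (iv F30949)
def n12159 : Q := act 3 n9327
theorem D12159 : act 3 n9327 = n12159 := rfl
def n12160 : Q := act 7 n9327
theorem D12160 : act 7 n9327 = n12160 := rfl
theorem F39905 : act 2 n12160 = n9328 := d17_1 D12160 (iv D9328) D9327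
theorem F39906 : act 4 n12160 = n9330 := d24_1 D12160 (iv D9330) (iv F30956)
def n12162 : Q := act 7 n9329
theorem D12162 : act 7 n9329 = n12162 := rfl
theorem F39913 : act 3 n12162 = n9330 := d21_1 D12162 (iv D9330) D9329
def n12167 : Q := act 1 n9333
theorem D12167 : act 1 n9333 = n12167 := rfl
def n12178 : Q := act 7 n9342
theorem D12178 : act 7 n9342 = n12178 := rfl
theorem F39965 : act 3 n12178 = n9345 := d21_1 D12178 (iv D9345) (iv F31007)
def n12181 : Q := act 3 n9344
theorem D12181 : act 3 n9344 = n12181 := rfl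
def n12182 : Q := act 7 n9344
theorem D12182 : act 7 n9344 = n12182 := rfl
theorem F39978 : act 4 n12182 = n9347 := d24_1 D12182 (iv D9347) (iv F31013)
def n12186 : Q := act 6 n9348
theorem D12186 : act 6 n9348 = n12186 := rfl
theorem F39989 : act 3 n12186 = n9371 := d20_1 D12186 (iv D9371) (iv F31024)
def n12199 : Q := act 6 n9358
theorem D12199 : act 6 n9358 = n12199 := rfl
theorem F40029 : act 1 n12199 = n9375 := d11_1 D12199 (iv D9375) (iv F31055)
def n12200 : Q := act 2 n9359
theorem D12200 : act 2 n9359 = n12200 := rfl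
theorem F40033 : act 6 n12200 = n9362 := d16_2 D9359 D12200 (iv D9362) (iv D7174) D7172
def n12203 : Q := act 2 n9361
theorem D12203 : act 2 n9361 = n12203 := rfl
theorem F40041 : act 5 n12203 = n9362 := d15_2 (iv F31065) D12203 (iv D9362)
def n12204 : Q := act 7 n9361
theorem D12204 : act 7 n9361 = n12204 := rfl
theorem F40044 : act 5 n12204 = n9363 := d26_1 D12204 (iv D9363) (iv F31065)
def n12205 : Q := act 3 n9362
theorem D12205 : act 3 n9362 = n12205 := rfl
theorem F40047 : act 2 n12205 = n9366 := d13_1 D12205 (iv D9366) (iv D7176) (iv F24095) D9362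
def n12206 : Q := act 7 n9362
theorem D12206 : act 7 n9362 = n12206 := rfl
def n12207 : Q := act 3 n9364
theorem D12207 : act 3 n9364 = n12207 := rfl
theorem F40052 : act 5 n12207 = n9366 := d19_2 (iv F31073) D12207 (iv D9366)
def n12210 : Q := act 7 n9366
theorem D12210 : act 7 n9366 = n12210 := rfl
theorem F40058 : act 1 n12210 = n9401 := d12_1 D12210 (iv D9401) (iv F31077)
def n12216 : Q := act 3 n9374
theorem D12216 : act 3 n9374 = n12216 := rfl
def n12217 : Q := act 6 n9374
theorem D12217 : act 6 n9374 = n12217 := rfl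
theorem F40080 : act 4 n12217 = n9375 := d23_1 D12217 (iv D9375) D9374
def n12233 : Q := act 7 n9386
theorem D12233 : act 7 n9386 = n12233 := rfl
theorem F40129 : act 4 n12233 = n9387 := d24_1 D12233 (iv D9387) D9386
def n12242 : Q := act 6 n9394
theorem D12242 : act 6 n9394 = n12242 := rfl
theorem F40153 : act 2 n12242 = n9969 := d16_1 D12242 (iv D9969) F25623 (iv F24191) (iv F31166)
def n12246 : Q := act 7 n9398
theorem D12246 : act 7 n9398 = n12246 := rfl
theorem F40166 : act 5 n12246 = n9401 := d26_1 D12246 (iv D9401) (iv F31178)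
def n12247 : Q := act 6 n9399
theorem D12247 : act 6 n9399 = n12247 := rfl
theorem F40168 : act 2 n12247 = n9974 := d16_1 D12247 (iv D9974) F25642 (iv F24202) (iv F31180)
def n12250 : Q := act 6 n9401
theorem D12250 : act 6 n9401 = n12250 := rfl
def n12268 : Q := act 2 n9416
theorem D12268 : act 2 n9416 = n12268 := rfl
theorem F40238 : act 5 n12268 = n9424 := d15_2 (iv F31237) D12268 (iv D9424)
def n12288 : Q := act 6 n9432
theorem D12288 : act 6 n9432 = n12288 := rfl
theorem F40311 : act 2 n12288 = n9438 := d16_1 D12288 (iv D9438) (iv D7236) (iv F24298) D9432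
theorem F40312 : act 5 n12288 = n9460 := d25_1 D12288 (iv D9460) (iv F31297)
def n12290 : Q := act 1 n9435
theorem D12290 : act 1 n9435 = n12290 := rfl
theorem F40320 : act 3 n12290 = n9524 := d8_2 (iv F31309) D12290 (iv D9524)
theorem F40322 : act 7 n12290 = n9440 := d12_2 (iv F31311) D12290 (iv D9440)
def n12291 : Q := act 4 n9435
theorem D12291 : act 4 n9435 = n12291 := rfl
theorem F40324 : act 2 n12291 = n9436 := d14_1 D12291 (iv D9436) D9435
def n12292 : Q := act 6 n9435
theorem D12292 : act 6 n9435 = n12292 := rfl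
theorem F40326 : act 0 n12292 = n9438 := d5_1 D12292 (iv D9438) (iv F31308)
theorem F40327 : act 3 n12292 = n9526 := d20_1 D12292 (iv D9526) (iv F31309)
theorem F40328 : act 5 n12292 = n9464 := d25_1 D12292 (iv D9464) (iv F31310)
def n12296 : Q := act 6 n9437
theorem D12296 : act 6 n9437 = n12296 := rfl
theorem F40343 : act 4 n12296 = n9438 := d23_1 D12296 (iv D9438) D9437
def n12297 : Q := act 7 n9438
theorem D12297 : act 7 n9438 = n12297 := rfl
theorem F40345 : act 3 n12297 = n9531 := d21_1 D12297 (iv D9531) (iv F31320)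
theorem F40346 : act 5 n12297 = n9469 := d26_1 D12297 (iv D9469) (iv F31321)
theorem F40347 : act 6 n12297 = n9447 := d27_1 D12297 (iv D9447) (iv D7242) (iv F24311) D9438
def n12298 : Q := act 4 n9440
theorem D12298 : act 4 n9440 = n12298 := rfl
theorem F40348 : act 0 n12298 = n12298 := d3_1 D12298 (iv D12298) F31326
theorem F40349 : act 1 n12298 = n9441 := d9_1 D12298 (iv D9441) D9440
theorem F40350 : act 2 n12298 = n12298 := d14_1 D12298 (iv D12298) F31327
def n12299 : Q := act 6 n9440
theorem D12299 : act 6 n9440 = n12299 := rfl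
theorem F40351 : act 0 n12299 = n12299 := d5_1 D12299 (iv D12299) F31326
theorem F40352 : act 1 n12299 = n9442 := d11_1 D12299 (iv D9442) D9440
theorem F40353 : act 3 n12299 = n9533 := d20_1 D12299 (iv D9533) (iv F31328)
theorem F40354 : act 5 n12299 = n9471 := d25_1 D12299 (iv D9471) (iv F31329)
def n12300 : Q := act 3 n9441
theorem D12300 : act 3 n9441 = n12300 := rfl
theorem F40357 : act 4 n12300 = n9534 := d18_2 D9441 D12300 (iv D9534) (iv D7305) (iv F24321)
def n12301 : Q := act 5 n9441
theorem D12301 : act 5 n9441 = n12301 := rfl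
def n12302 : Q := act 6 n9441
theorem D12302 : act 6 n9441 = n12302 := rfl
theorem F40361 : act 0 n12302 = n9446 := d5_1 D12302 (iv D9446) (iv F31330)
theorem F40363 : act 4 n12302 = n9442 := d23_1 D12302 (iv D9442) D9441
def n12303 : Q := act 7 n9442
theorem D12303 : act 7 n9442 = n12303 := rfl
def n12307 : Q := act 7 n9446
theorem D12307 : act 7 n9446 = n12307 := rfl
def n12322 : Q := act 6 n9457
theorem D12322 : act 6 n9457 = n12322 := rfl
theorem F40427 : act 0 n12322 = n9460 := d5_1 D12322 (iv D9460) (iv F31387)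
def n12327 : Q := act 7 n9460
theorem D12327 : act 7 n9460 = n12327 := rfl
def n12328 : Q := act 4 n9462
theorem D12328 : act 4 n9462 = n12328 := rfl
theorem F40443 : act 1 n12328 = n9463 := d9_1 D12328 (iv D9463) D9462
def n12329 : Q := act 6 n9462
theorem D12329 : act 6 n9462 = n12329 := rfl
theorem F40446 : act 0 n12329 = n12329 := d5_1 D12329 (iv D12329) F31401
theorem F40447 : act 1 n12329 = n9464 := d11_1 D12329 (iv D9464) D9462
theorem F40448 : act 3 n12329 = n9543 := d20_1 D12329 (iv D9543) (iv F31403)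
def n12332 : Q := act 6 n9463
theorem D12332 : act 6 n9463 = n12332 := rfl
theorem F40457 : act 4 n12332 = n9464 := d23_1 D12332 (iv D9464) D9463
def n12333 : Q := act 7 n9464
theorem D12333 : act 7 n9464 = n12333 := rfl
theorem F40460 : act 6 n12333 = n9475 := d27_1 D12333 (iv D9475) (iv D7261) (iv F24373) D9464
def n12340 : Q := act 6 n9470
theorem D12340 : act 6 n9470 = n12340 := rfl
theorem F40481 : act 4 n12340 = n9471 := d23_1 D12340 (iv D9471) D9470
def n12341 : Q := act 2 n9471
theorem D12341 : act 2 n9471 = n12341 := rfl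
theorem F40482 : act 0 n12341 = n12341 := d1_1 D12341 (iv D12341) F31429
theorem F40483 : act 1 n12341 = n12341 := d7_1 D12341 (iv D12341) F31430 F24392 (iv F31430)
theorem F40484 : act 6 n12341 = n12341 := d16_2 D9471 D12341 (iv D12341) (iv D9471) F24387
def n12342 : Q := act 7 n9471
theorem D12342 : act 7 n9471 = n12342 := rfl
theorem F40485 : act 0 n12342 = n12342 := d6_1 D12342 (iv D12342) F31429
theorem F40486 : act 1 n12342 = n9475 := d12_1 D12342 (iv D9475) (iv F31430)
theorem F40487 : act 3 n12342 = n9556 := d21_1 D12342 (iv D9556) (iv F31431)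
def n12346 : Q := act 7 n9474
theorem D12346 : act 7 n9474 = n12346 := rfl
theorem F40499 : act 4 n12346 = n9475 := d24_1 D12346 (iv D9475) (iv F31439)
def n12410 : Q := act 4 n9524
theorem D12410 : act 4 n9524 = n12410 := rfl
theorem F40705 : act 0 n12410 = n12410 := d3_1 D12410 (iv D12410) F31600
theorem F40706 : act 1 n12410 = n9525 := d9_1 D12410 (iv D9525) D9524
theorem F40707 : act 2 n12410 = n9646 := d14_1 D12410 (iv D9646) (iv F31601)
theorem F40708 : act 7 n12410 = n9532 := d24_2 (iv F31603) D12410 (iv D9532)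
def n12411 : Q := act 6 n9524
theorem D12411 : act 6 n9524 = n12411 := rfl
theorem F40709 : act 0 n12411 = n12411 := d5_1 D12411 (iv D12411) F31600
theorem F40710 : act 1 n12411 = n9526 := d11_1 D12411 (iv D9526) D9524
theorem F40711 : act 5 n12411 = n9543 := d25_1 D12411 (iv D9543) (iv F31602)
def n12412 : Q := act 3 n9525
theorem D12412 : act 3 n9525 = n12412 := rfl
def n12414 : Q := act 6 n9525
theorem D12414 : act 6 n9525 = n12414 := rfl
theorem F40720 : act 4 n12414 = n9526 := d23_1 D12414 (iv D9526) D9525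
def n12415 : Q := act 7 n9526
theorem D12415 : act 7 n9526 = n12415 := rfl
theorem F40722 : act 5 n12415 = n9547 := d26_1 D12415 (iv D9547) (iv F31608)
theorem F40723 : act 6 n12415 = n9537 := d27_1 D12415 (iv D9537) (iv D7306) (iv F24520) D9526
def n12417 : Q := act 6 n9528
theorem D12417 : act 6 n9528 = n12417 := rfl
theorem F40729 : act 3 n12417 = n9530 := d20_1 D12417 (iv D9530) D9528
def n12420 : Q := act 3 n9532
theorem D12420 : act 3 n9532 = n12420 := rfl
theorem F40736 : act 0 n12420 = n12420 := d2_1 D12420 (iv D12420) F31626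
theorem F40737 : act 1 n12420 = n9534 := d8_1 D12420 (iv D9534) (iv F31627)
def n12423 : Q := act 2 n9533
theorem D12423 : act 2 n9533 = n12423 := rfl
theorem F40746 : act 1 n12423 = n9598 := d7_1 D12423 (iv D9598) F24674 (iv F24540) (iv F31630)
def n12424 : Q := act 7 n9533
theorem D12424 : act 7 n9533 = n12424 := rfl
theorem F40749 : act 0 n12424 = n12424 := d6_1 D12424 (iv D12424) F31629
theorem F40750 : act 1 n12424 = n9537 := d12_1 D12424 (iv D9537) (iv F31630)
theorem F40751 : act 5 n12424 = n9556 := d26_1 D12424 (iv D9556) (iv F31631)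
def n12434 : Q := act 3 n9542
theorem D12434 : act 3 n9542 = n12434 := rfl
def n12435 : Q := act 5 n9542
theorem D12435 : act 5 n9542 = n12435 := rfl
theorem F40782 : act 1 n12435 = n9545 := d10_1 D12435 (iv D9545) (iv F31656)
theorem F40783 : act 2 n12435 = n9671 := d15_1 D12435 (iv D9671) (iv F31657)
def n12436 : Q := act 6 n9542
theorem D12436 : act 6 n9542 = n12436 := rfl
theorem F40785 : act 0 n12436 = n12436 := d5_1 D12436 (iv D12436) F31655
theorem F40786 : act 1 n12436 = n9546 := d11_1 D12436 (iv D9546) (iv F31656)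
theorem F40787 : act 4 n12436 = n9543 := d23_1 D12436 (iv D9543) D9542
def n12437 : Q := act 2 n9543
theorem D12437 : act 2 n9543 = n12437 := rfl
theorem F40788 : act 0 n12437 = n12437 := d1_1 D12437 (iv D12437) F31659
theorem F40789 : act 6 n12437 = n9673 := d16_2 D9543 D12437 (iv D9673) (iv D7413) (iv F24559)
def n12438 : Q := act 7 n9543
theorem D12438 : act 7 n9543 = n12438 := rfl
theorem F40790 : act 0 n12438 = n12438 := d6_1 D12438 (iv D12438) F31659
theorem F40791 : act 1 n12438 = n9547 := d12_1 D12438 (iv D9547) (iv F31660)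
theorem F40792 : act 6 n12438 = n9556 := d27_1 D12438 (iv D9556) (iv D7321) (iv F24560) D9543
def n12440 : Q := act 6 n9544
theorem D12440 : act 6 n9544 = n12440 := rfl
theorem F40798 : act 3 n12440 = n9546 := d20_1 D12440 (iv D9546) D9544
def n12441 : Q := act 6 n9545
theorem D12441 : act 6 n9545 = n12441 := rfl
theorem F40800 : act 5 n12441 = n9546 := d25_1 D12441 (iv D9546) D9545
def n12442 : Q := act 7 n9546
theorem D12442 : act 7 n9546 = n12442 := rfl
def n12454 : Q := act 3 n9555
theorem D12454 : act 3 n9555 = n12454 := rfl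
def n12504 : Q := act 5 n9595
theorem D12504 : act 5 n9595 = n12504 := rfl
theorem F40975 : act 0 n12504 = n9753 := d4_1 D12504 (iv D9753) (iv F31802)
def n12510 : Q := act 7 n9598
theorem D12510 : act 7 n9598 = n12510 := rfl
theorem F40997 : act 2 n12510 = n9599 := d17_1 D12510 (iv D9599) D9598
def n12568 : Q := act 3 n9646
theorem D12568 : act 3 n9646 = n12568 := rfl
theorem F41173 : act 4 n12568 = n12568 := d18_2 D9646 D12568 (iv D12568) (iv D9646) F24794
theorem F41174 : act 7 n12568 = n9656 := d21_2 (iv F31959) D12568 (iv D9656)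
def n12569 : Q := act 5 n9646
theorem D12569 : act 5 n9646 = n12569 := rfl
theorem F41176 : act 1 n12569 = n9649 := d10_1 D12569 (iv D9649) (iv F31958)
theorem F41177 : act 4 n12569 = n9671 := d22_1 D12569 (iv D9671) (iv D7412) (iv F24795) D9646
def n12570 : Q := act 6 n9646
theorem D12570 : act 6 n9646 = n12570 := rfl
theorem F41180 : act 1 n12570 = n9650 := d11_1 D12570 (iv D9650) (iv F31958)
theorem F41181 : act 4 n12570 = n9647 := d23_1 D12570 (iv D9647) D9646
def n12571 : Q := act 2 n9647
theorem D12571 : act 2 n9647 = n12571 := rfl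
theorem F41182 : act 0 n12571 = n12571 := d1_1 D12571 (iv D12571) F31960
theorem F41183 : act 5 n12571 = n9673 := d15_2 (iv F31963) D12571 (iv D9673)
def n12572 : Q := act 7 n9647
theorem D12572 : act 7 n9647 = n12572 := rfl
theorem F41185 : act 1 n12572 = n9651 := d12_1 D12572 (iv D9651) (iv F31961)
theorem F41186 : act 3 n12572 = n12572 := d21_1 D12572 (iv D12572) F31962
def n12573 : Q := act 5 n9648
theorem D12573 : act 5 n9648 = n12573 := rfl
theorem F41191 : act 3 n12573 = n9649 := d19_1 D12573 (iv D9649) D9648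
theorem F41192 : act 7 n12573 = n9661 := d26_2 (iv F31967) D12573 (iv D9661)
def n12574 : Q := act 6 n9648
theorem D12574 : act 6 n9648 = n12574 := rfl
theorem F41194 : act 3 n12574 = n9650 := d20_1 D12574 (iv D9650) D9648
theorem F41195 : act 4 n12574 = n12574 := d23_1 D12574 (iv D12574) F31966
def n12575 : Q := act 6 n9649
theorem D12575 : act 6 n9649 = n12575 := rfl
theorem F41197 : act 4 n12575 = n9677 := d23_1 D12575 (iv D9677) (iv F31970)
def n12576 : Q := act 7 n9650
theorem D12576 : act 7 n9650 = n12576 := rfl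
def n12577 : Q := act 4 n9652
theorem D12577 : act 4 n9652 = n12577 := rfl
theorem F41204 : act 3 n12577 = n9679 := d18_1 D12577 (iv D9679) F24873 (iv F24813) (iv F31980)
theorem F41205 : act 5 n12577 = n12577 := d22_2 D9652 D12577 (iv D12577) (iv D9652) F24809
theorem F41206 : act 7 n12577 = n9665 := d24_2 (iv F31981) D12577 (iv D9665)
def n12578 : Q := act 6 n9652
theorem D12578 : act 6 n9652 = n12578 := rfl
def n12580 : Q := act 7 n9653
theorem D12580 : act 7 n9653 = n12580 := rfl
theorem F41213 : act 3 n12580 = n9655 := d21_1 D12580 (iv D9655) (iv F31983)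
theorem F41214 : act 4 n12580 = n12580 := d24_1 D12580 (iv D12580) F31984
def n12582 : Q := act 2 n9656
theorem D12582 : act 2 n9656 = n12582 := rfl
theorem F41222 : act 4 n12582 = n12582 := d14_2 F31993 D12582 (iv D12582)
def n12583 : Q := act 5 n9656
theorem D12583 : act 5 n9656 = n12583 := rfl
theorem F41224 : act 1 n12583 = n9661 := d10_1 D12583 (iv D9661) (iv F31992)
theorem F41225 : act 3 n12583 = n9657 := d19_1 D12583 (iv D9657) D9656
def n12584 : Q := act 6 n9656
theorem D12584 : act 6 n9656 = n12584 := rfl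
theorem F41228 : act 3 n12584 = n9658 := d20_1 D12584 (iv D9658) D9656
theorem F41229 : act 4 n12584 = n12584 := d23_1 D12584 (iv D12584) F31993
def n12587 : Q := act 7 n9658
theorem D12587 : act 7 n9658 = n12587 := rfl
theorem F41238 : act 1 n12587 = n9664 := d12_1 D12587 (iv D9664) (iv F31998)
def n12588 : Q := act 3 n9659
theorem D12588 : act 3 n9659 = n12588 := rfl
theorem F41242 : act 2 n12588 = n12588 := d13_1 D12588 (iv D12588) (iv D9659) F24825 D9659
def n12589 : Q := act 7 n9659
theorem D12589 : act 7 n9659 = n12589 := rfl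
theorem F41245 : act 1 n12589 = n9720 := d12_1 D12589 (iv D9720) (iv F32001)
def n12590 : Q := act 4 n9661
theorem D12590 : act 4 n9661 = n12590 := rfl
theorem F41251 : act 5 n12590 = n12590 := d22_2 D9661 D12590 (iv D12590) (iv D9661) F24829
def n12591 : Q := act 6 n9661
theorem D12591 : act 6 n9661 = n12591 := rfl
theorem F41253 : act 3 n12591 = n9663 := d20_1 D12591 (iv D9663) (iv F32009)
def n12592 : Q := act 2 n9662
theorem D12592 : act 2 n9662 = n12592 := rfl
theorem F41256 : act 3 n12592 = n9722 := d13_2 (iv F32011) D12592 (iv D9722) F24989 (iv F24834)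
theorem F41257 : act 4 n12592 = n12592 := d14_2 F32012 D12592 (iv D12592)
def n12593 : Q := act 7 n9662
theorem D12593 : act 7 n9662 = n12593 := rfl
theorem F41260 : act 3 n12593 = n9664 := d21_1 D12593 (iv D9664) (iv F32011)
theorem F41261 : act 4 n12593 = n12593 := d24_1 D12593 (iv D12593) F32012
def n12595 : Q := act 6 n9665
theorem D12595 : act 6 n9665 = n12595 := rfl
theorem F41268 : act 4 n12595 = n9666 := d23_1 D12595 (iv D9666) D9665
theorem F41269 : act 5 n12595 = n12595 := d25_1 D12595 (iv D12595) F32023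
def n12596 : Q := act 2 n9666
theorem D12596 : act 2 n9666 = n12596 := rfl
theorem F41270 : act 3 n12596 = n9725 := d13_2 (iv F32025) D12596 (iv D9725) F24997 (iv F24847)
theorem F41271 : act 5 n12596 = n9667 := d15_2 (iv F32026) D12596 (iv D9667)
def n12598 : Q := act 1 n9667
theorem D12598 : act 1 n9667 = n12598 := rfl
theorem F41277 : act 3 n12598 = n9727 := d8_2 (iv F32027) D12598 (iv D9727)
theorem F41278 : act 4 n12598 = n12598 := d9_2 F32028 D12598 (iv D12598)
def n12599 : Q := act 7 n9667
theorem D12599 : act 7 n9667 = n12599 := rfl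
theorem F41281 : act 3 n12599 = n9728 := d21_1 D12599 (iv D9728) (iv F32027)
theorem F41282 : act 4 n12599 = n12599 := d24_1 D12599 (iv D12599) F32028
def n12600 : Q := act 2 n9670
theorem D12600 : act 2 n9670 = n12600 := rfl
def n12601 : Q := act 5 n9670
theorem D12601 : act 5 n9670 = n12601 := rfl
theorem F41289 : act 3 n12601 = n9671 := d19_1 D12601 (iv D9671) D9670
theorem F41290 : act 7 n12601 = n9685 := d26_2 (iv F32040) D12601 (iv D9685)
def n12602 : Q := act 6 n9670
theorem D12602 : act 6 n9670 = n12602 := rfl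
theorem F41293 : act 3 n12602 = n9672 := d20_1 D12602 (iv D9672) D9670
def n12603 : Q := act 6 n9671
theorem D12603 : act 6 n9671 = n12603 := rfl
theorem F41296 : act 1 n12603 = n9677 := d11_1 D12603 (iv D9677) (iv F32042)
theorem F41297 : act 5 n12603 = n9672 := d25_1 D12603 (iv D9672) D9671
def n12604 : Q := act 2 n9672
theorem D12604 : act 2 n9672 = n12604 := rfl
theorem F41298 : act 0 n12604 = n12604 := d1_1 D12604 (iv D12604) F32044
theorem F41299 : act 4 n12604 = n9673 := d14_2 (iv F32046) D12604 (iv D9673)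
def n12605 : Q := act 7 n9672
theorem D12605 : act 7 n9672 = n12605 := rfl
theorem F41300 : act 0 n12605 = n12605 := d6_1 D12605 (iv D12605) F32044
theorem F41301 : act 1 n12605 = n9678 := d12_1 D12605 (iv D9678) (iv F32045)
theorem F41302 : act 4 n12605 = n9674 := d24_1 D12605 (iv D9674) (iv F32046)
theorem F41303 : act 6 n12605 = n9689 := d27_1 D12605 (iv D9689) (iv D7424) (iv F24855) D9672
def n12606 : Q := act 3 n9673
theorem D12606 : act 3 n9673 = n12606 := rfl
theorem F41304 : act 0 n12606 = n12606 := d2_1 D12606 (iv D12606) F32047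
theorem F41305 : act 2 n12606 = n12606 := d13_1 D12606 (iv D12606) (iv D9673) F24858 D9673
def n12607 : Q := act 7 n9673
theorem D12607 : act 7 n9673 = n12607 := rfl
theorem F41306 : act 0 n12607 = n12607 := d6_1 D12607 (iv D12607) F32047
theorem F41307 : act 2 n12607 = n9674 := d17_1 D12607 (iv D9674) D9673
def n12608 : Q := act 4 n9675
theorem D12608 : act 4 n9675 = n12608 := rfl
theorem F41311 : act 7 n12608 = n9692 := d24_2 (iv F32055) D12608 (iv D9692)
def n12609 : Q := act 6 n9675
theorem D12609 : act 6 n9675 = n12609 := rfl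
theorem F41313 : act 3 n12609 = n9677 := d20_1 D12609 (iv D9677) (iv F32054)
theorem F41314 : act 5 n12609 = n9676 := d25_1 D12609 (iv D9676) D9675
def n12610 : Q := act 2 n9676
theorem D12610 : act 2 n9676 = n12610 := rfl
theorem F41317 : act 6 n12610 = n9706 := d16_2 D9676 D12610 (iv D9706) (iv D7440) (iv F24860)
def n12611 : Q := act 7 n9676
theorem D12611 : act 7 n9676 = n12611 := rfl
theorem F41319 : act 3 n12611 = n9678 := d21_1 D12611 (iv D9678) (iv F32057)
theorem F41321 : act 6 n12611 = n9694 := d27_1 D12611 (iv D9694) (iv D7428) (iv F24862) D9676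
def n12612 : Q := act 7 n9677
theorem D12612 : act 7 n9677 = n12612 := rfl
def n12613 : Q := act 6 n9679
theorem D12613 : act 6 n9679 = n12613 := rfl
def n12614 : Q := act 2 n9680
theorem D12614 : act 2 n9680 = n12614 := rfl
theorem F41328 : act 5 n12614 = n9681 := d15_2 (iv F32070) D12614 (iv D9681)
theorem F41329 : act 6 n12614 = n9708 := d16_2 D9680 D12614 (iv D9708) (iv D7443) (iv F24872)
def n12615 : Q := act 7 n9680
theorem D12615 : act 7 n9680 = n12615 := rfl
theorem F41331 : act 3 n12615 = n9683 := d21_1 D12615 (iv D9683) (iv F32069)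
def n12618 : Q := act 5 n9684
theorem D12618 : act 5 n9684 = n12618 := rfl
theorem F41342 : act 2 n12618 = n9685 := d15_1 D12618 (iv D9685) D9684
def n12619 : Q := act 6 n9684
theorem D12619 : act 6 n9684 = n12619 := rfl
def n12620 : Q := act 4 n9685
theorem D12620 : act 4 n9685 = n12620 := rfl
def n12621 : Q := act 6 n9685
theorem D12621 : act 6 n9685 = n12621 := rfl
theorem F41351 : act 3 n12621 = n9687 := d20_1 D12621 (iv D9687) (iv F32085)
theorem F41352 : act 5 n12621 = n9686 := d25_1 D12621 (iv D9686) D9685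
def n12622 : Q := act 2 n9686
theorem D12622 : act 2 n9686 = n12622 := rfl
theorem F41353 : act 0 n12622 = n12622 := d1_1 D12622 (iv D12622) F32086
theorem F41354 : act 1 n12622 = n12622 := d7_1 D12622 (iv D12622) F32087 F24900 (iv F32087)
theorem F41355 : act 4 n12622 = n12622 := d14_2 F32089 D12622 (iv D12622)
def n12623 : Q := act 7 n9686
theorem D12623 : act 7 n9686 = n12623 := rfl
theorem F41356 : act 0 n12623 = n12623 := d6_1 D12623 (iv D12623) F32086
theorem F41357 : act 1 n12623 = n9694 := d12_1 D12623 (iv D9694) (iv F32087)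
theorem F41358 : act 3 n12623 = n9689 := d21_1 D12623 (iv D9689) (iv F32088)
theorem F41359 : act 4 n12623 = n12623 := d24_1 D12623 (iv D12623) F32089
def n12625 : Q := act 7 n9687
theorem D12625 : act 7 n9687 = n12625 := rfl
theorem F41364 : act 1 n12625 = n9695 := d12_1 D12625 (iv D9695) (iv F32091)
theorem F41365 : act 5 n12625 = n9689 := d26_1 D12625 (iv D9689) (iv F32092)
def n12626 : Q := act 3 n9688
theorem D12626 : act 3 n9688 = n12626 := rfl
def n12630 : Q := act 6 n9691
theorem D12630 : act 6 n9691 = n12630 := rfl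
def n12631 : Q := act 6 n9692
theorem D12631 : act 6 n9692 = n12631 := rfl
theorem F41383 : act 4 n12631 = n9693 := d23_1 D12631 (iv D9693) D9692
def n12643 : Q := act 2 n9705
theorem D12643 : act 2 n9705 = n12643 := rfl
def n12666 : Q := act 7 n9722
theorem D12666 : act 7 n9722 = n12666 := rfl
theorem F41496 : act 2 n12666 = n9723 := d17_1 D12666 (iv D9723) D9722
def n12667 : Q := act 1 n9725
theorem D12667 : act 1 n9725 = n12667 := rfl
theorem F41498 : act 2 n12667 = n9833 := d7_2 D9725 D12667 (iv D9833) (iv D7543) (iv F24996)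
theorem F41500 : act 5 n12667 = n9727 := d10_2 (iv F32222) D12667 (iv D9727)
def n12670 : Q := act 7 n9727
theorem D12670 : act 7 n9727 = n12670 := rfl
def n12672 : Q := act 3 n9729
theorem D12672 : act 3 n9729 = n12672 := rfl
theorem F41513 : act 0 n12672 = n9838 := d2_1 D12672 (iv D9838) (iv F32233)
def n12674 : Q := act 4 n9731
theorem D12674 : act 4 n9731 = n12674 := rfl
theorem F41519 : act 0 n12674 = n9840 := d3_1 D12674 (iv D9840) (iv F32239)
def n12693 : Q := act 6 n9745
theorem D12693 : act 6 n9745 = n12693 := rfl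
theorem F41582 : act 3 n12693 = n12693 := d20_1 D12693 (iv D12693) F32285
def n12695 : Q := act 6 n9747
theorem D12695 : act 6 n9747 = n12695 := rfl
theorem F41589 : act 1 n12695 = n9748 := d11_1 D12695 (iv D9748) (iv F32291)
theorem F41590 : act 3 n12695 = n12695 := d20_1 D12695 (iv D12695) F32293
def n12701 : Q := act 4 n9753
theorem D12701 : act 4 n9753 = n12701 := rfl
theorem F41610 : act 1 n12701 = n9760 := d9_1 D12701 (iv D9760) (iv F32313)
def n12713 : Q := act 2 n9761
theorem D12713 : act 2 n9761 = n12713 := rfl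
theorem F41649 : act 6 n12713 = n9879 := d16_2 D9761 D12713 (iv D9879) (iv D7579) (iv F25089)
def n12714 : Q := act 7 n9761
theorem D12714 : act 7 n9761 = n12714 := rfl
def n12717 : Q := act 2 n9765
theorem D12717 : act 2 n9765 = n12717 := rfl
theorem F41662 : act 6 n12717 = n9883 := d16_2 D9765 D12717 (iv D9883) (iv D7583) (iv F25101)
def n12719 : Q := act 1 n9766
theorem D12719 : act 1 n9766 = n12719 := rfl
theorem F41668 : act 6 n12719 = n9885 := d11_2 (iv F32356) D12719 (iv D9885)
def n12727 : Q := act 1 n9772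
theorem D12727 : act 1 n9772 = n12727 := rfl
theorem F41689 : act 2 n12727 = n9784 := d7_2 D9772 D12727 (iv D9784) (iv D7503) (iv F25117)
def n12730 : Q := act 3 n9774
theorem D12730 : act 3 n9774 = n12730 := rfl
theorem F41698 : act 6 n12730 = n9838 := d20_2 (iv F32378) D12730 (iv D9838)
def n12738 : Q := act 2 n9781
theorem D12738 : act 2 n9781 = n12738 := rfl
theorem F41722 : act 6 n12738 = n9793 := d16_2 D9781 D12738 (iv D9793) (iv D7511) (iv F25133)
def n12743 : Q := act 7 n9784
theorem D12743 : act 7 n9784 = n12743 := rfl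
def n12746 : Q := act 3 n9786
theorem D12746 : act 3 n9786 = n12746 := rfl
theorem F41749 : act 6 n12746 = n9801 := d20_2 (iv F32413) D12746 (iv D9801)
def n12755 : Q := act 7 n9793
theorem D12755 : act 7 n9793 = n12755 := rfl
theorem F41777 : act 2 n12755 = n9794 := d17_1 D12755 (iv D9794) D9793
def n12760 : Q := act 6 n9798
theorem D12760 : act 6 n9798 = n12760 := rfl
theorem F41796 : act 1 n12760 = n9799 := d11_1 D12760 (iv D9799) (iv F32450)
def n12764 : Q := act 7 n9801
theorem D12764 : act 7 n9801 = n12764 := rfl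
theorem F41810 : act 3 n12764 = n9802 := d21_1 D12764 (iv D9802) D9801
def n12802 : Q := act 7 n9833
theorem D12802 : act 7 n9833 = n12802 := rfl
def n12806 : Q := act 4 n9838
theorem D12806 : act 4 n9838 = n12806 := rfl
def n12807 : Q := act 7 n9838
theorem D12807 : act 7 n9838 = n12807 := rfl
theorem F41939 : act 3 n12807 = n9839 := d21_1 D12807 (iv D9839) D9838
def n12809 : Q := act 5 n9840
theorem D12809 : act 5 n9840 = n12809 := rfl
def n12810 : Q := act 7 n9840
theorem D12810 : act 7 n9840 = n12810 := rfl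
theorem F41949 : act 4 n12810 = n9841 := d24_1 D12810 (iv D9841) D9840
def n12811 : Q := act 6 n9841
theorem D12811 : act 6 n9841 = n12811 := rfl
def n12833 : Q := act 2 n9861
theorem D12833 : act 2 n9861 = n12833 := rfl
def n12862 : Q := act 1 n9883
theorem D12862 : act 1 n9883 = n12862 := rfl
theorem F42108 : act 4 n12862 = n9885 := d9_2 (iv F32717) D12862 (iv D9885)
def n12863 : Q := act 3 n9883
theorem D12863 : act 3 n9883 = n12863 := rfl
theorem F42110 : act 2 n12863 = n9912 := d13_1 D12863 (iv D9912) (iv D7604) (iv F25386) D9883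
def n12865 : Q := act 0 n9885
theorem D12865 : act 0 n9885 = n12865 := rfl
def n12872 : Q := act 1 n9891
theorem D12872 : act 1 n9891 = n12872 := rfl
theorem F42140 : act 2 n12872 = n9906 := d7_2 D9891 D12872 (iv D9906) (iv D7600) (iv F25405)
def n12873 : Q := act 3 n9891
theorem D12873 : act 3 n9891 = n12873 := rfl
theorem F42144 : act 2 n12873 = n9896 := d13_1 D12873 (iv D9896) (iv D7592) (iv F25406) D9891
def n12874 : Q := act 7 n9891
theorem D12874 : act 7 n9891 = n12874 := rfl
def n12882 : Q := act 7 n9896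
theorem D12882 : act 7 n9896 = n12882 := rfl
def n12890 : Q := act 1 n9904
theorem D12890 : act 1 n9904 = n12890 := rfl
theorem F42204 : act 4 n12890 = n9906 := d9_2 (iv F32790) D12890 (iv D9906)
theorem F42206 : act 6 n12890 = n9919 := d11_2 (iv F32792) D12890 (iv D9919)
def n12893 : Q := act 0 n9906
theorem D12893 : act 0 n9906 = n12893 := rfl
theorem F42218 : act 6 n12893 = n9922 := d5_2 (iv F32798) D12893 (iv D9922)
def n12894 : Q := act 7 n9906
theorem D12894 : act 7 n9906 = n12894 := rfl
def n12900 : Q := act 7 n9911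
theorem D12900 : act 7 n9911 = n12900 := rfl
theorem F42242 : act 1 n12900 = n9913 := d12_1 D12900 (iv D9913) D9911
def n12902 : Q := act 6 n9913
theorem D12902 : act 6 n9913 = n12902 := rfl
theorem F42251 : act 7 n12902 = n9931 := d27_2 D9913 D12902 (iv D9931) (iv D7620) (iv F25459)
def n12903 : Q := act 7 n9914
theorem D12903 : act 7 n9914 = n12903 := rfl
theorem F42255 : act 5 n12903 = n9917 := d26_1 D12903 (iv D9917) (iv F32826)
def n12904 : Q := act 6 n9915
theorem D12904 : act 6 n9915 = n12904 := rfl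
theorem F42256 : act 1 n12904 = n9916 := d11_1 D12904 (iv D9916) (iv F32828)
theorem F42259 : act 7 n12904 = n9933 := d27_2 D9915 D12904 (iv D9933) (iv D7622) (iv F25466)
def n12905 : Q := act 6 n9917
theorem D12905 : act 6 n9917 = n12905 := rfl
theorem F42263 : act 7 n12905 = n9934 := d27_2 D9917 D12905 (iv D9934) (iv D7624) (iv F25473)
def n12907 : Q := act 0 n9919
theorem D12907 : act 0 n9919 = n12907 := rfl
def n12909 : Q := act 7 n9919
theorem D12909 : act 7 n9919 = n12909 := rfl
theorem F42274 : act 1 n12909 = n9921 := d12_1 D12909 (iv D9921) D9919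
def n12912 : Q := act 7 n9922
theorem D12912 : act 7 n9922 = n12912 := rfl
theorem F42285 : act 0 n12912 = n9923 := d6_1 D12912 (iv D9923) D9922
def n12913 : Q := act 6 n9923
theorem D12913 : act 6 n9923 = n12913 := rfl
theorem F42290 : act 1 n12913 = n9924 := d11_1 D12913 (iv D9924) (iv F32857)
def n12916 : Q := act 3 n9927
theorem D12916 : act 3 n9927 = n12916 := rfl
def n12917 : Q := act 7 n9927
theorem D12917 : act 7 n9927 = n12917 := rfl
theorem F42302 : act 0 n12917 = n9929 := d6_1 D12917 (iv D9929) D9927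
def n12920 : Q := act 6 n9929
theorem D12920 : act 6 n9929 = n12920 := rfl
theorem F42313 : act 1 n12920 = n9931 := d11_1 D12920 (iv D9931) (iv F32878)
def n12922 : Q := act 6 n9932
theorem D12922 : act 6 n9932 = n12922 := rfl
theorem F42319 : act 0 n12922 = n9933 := d5_1 D12922 (iv D9933) (iv F32887)
def n12923 : Q := act 2 n9933
theorem D12923 : act 2 n9933 = n12923 := rfl
theorem F42322 : act 5 n12923 = n9935 := d15_2 (iv F32893) D12923 (iv D9935)
def n12968 : Q := act 6 n9968
theorem D12968 : act 6 n9968 = n12968 := rfl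
theorem F42471 : act 1 n12968 = n9969 := d11_1 D12968 (iv D9969) (iv F33008)
def n12973 : Q := act 6 n9973
theorem D12973 : act 6 n9973 = n12973 := rfl
theorem F42490 : act 3 n12973 = n9974 := d20_1 D12973 (iv D9974) (iv F33029)
def n13031 : Q := act 3 n10021
theorem D13031 : act 3 n10021 = n13031 := rfl
theorem F42693 : act 6 n13031 = n13031 := d20_2 F33199 D13031 (iv D13031)
def n13663 : Q := act 0 n10513
theorem D13663 : act 0 n10513 = n13663 := rfl
theorem F44831 : act 6 n13663 = n10515 := d5_2 (iv F34870) D13663 (iv D10515)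
def n13664 : Q := act 3 n10513
theorem D13664 : act 3 n10513 = n13664 := rfl
theorem F44832 : act 1 n13664 = n10514 := d8_1 D13664 (iv D10514) D10513
theorem F44833 : act 5 n13664 = n10532 := d19_2 (iv F34869) D13664 (iv D10532)
theorem F44834 : act 6 n13664 = n10516 := d20_2 (iv F34870) D13664 (iv D10516)
def n13666 : Q := act 3 n10515
theorem D13666 : act 3 n10515 = n13666 := rfl
def n13667 : Q := act 2 n10516
theorem D13667 : act 2 n10516 = n13667 := rfl
theorem F44841 : act 1 n13667 = n10551 := d7_1 D13667 (iv D10551) F27180 (iv F27096) (iv F34878)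
theorem F44842 : act 3 n13667 = n10634 := d13_2 D10516 D13667 (iv D10634) (iv D8168) (iv F27092)
theorem F44843 : act 5 n13667 = n10535 := d15_2 (iv F34879) D13667 (iv D10535)
def n13668 : Q := act 4 n10516
theorem D13668 : act 4 n10516 = n13668 := rfl
def n13687 : Q := act 4 n10530
theorem D13687 : act 4 n10530 = n13687 := rfl
theorem F44897 : act 2 n13687 = n10533 := d14_1 D13687 (iv D10533) (iv F34918)
theorem F44898 : act 6 n13687 = n10564 := d23_2 (iv F34919) D13687 (iv D10564)
def n13688 : Q := act 3 n10531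
theorem D13688 : act 3 n10531 = n13688 := rfl
theorem F44899 : act 0 n13688 = n10532 := d2_1 D13688 (iv D10532) D10531
theorem F44900 : act 1 n13688 = n10977 := d8_1 D13688 (iv D10977) (iv F34920)
theorem F44901 : act 6 n13688 = n10534 := d20_2 (iv F34922) D13688 (iv D10534)
def n13689 : Q := act 2 n10532
theorem D13689 : act 2 n10532 = n13689 := rfl
def n13690 : Q := act 4 n10532
theorem D13690 : act 4 n10532 = n13690 := rfl
theorem F44904 : act 6 n13690 = n10536 := d23_2 (iv F34924) D13690 (iv D10536)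
def n13691 : Q := act 5 n10533
theorem D13691 : act 5 n10533 = n13691 := rfl
theorem F44905 : act 0 n13691 = n10980 := d4_1 D13691 (iv D10980) (iv F34925)
theorem F44907 : act 6 n13691 = n10537 := d25_2 (iv F34927) D13691 (iv D10537)
def n13692 : Q := act 2 n10534
theorem D13692 : act 2 n10534 = n13692 := rfl
theorem F44908 : act 0 n13692 = n10535 := d1_1 D13692 (iv D10535) (iv F34928)
theorem F44909 : act 3 n13692 = n10649 := d13_2 D10534 D13692 (iv D10649) (iv D8179) (iv F27135)
theorem F44910 : act 7 n13692 = n10538 := d17_2 (iv F34930) D13692 (iv D10538)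
def n13693 : Q := act 4 n10534
theorem D13693 : act 4 n10534 = n13693 := rfl
theorem F44911 : act 0 n13693 = n10536 := d3_1 D13693 (iv D10536) (iv F34928)
theorem F44912 : act 1 n13693 = n10982 := d9_1 D13693 (iv D10982) (iv F34929)
theorem F44914 : act 7 n13693 = n10539 := d24_2 (iv F34930) D13693 (iv D10539)
def n13694 : Q := act 4 n10535
theorem D13694 : act 4 n10535 = n13694 := rfl
theorem F44915 : act 1 n13694 = n10571 := d9_1 D13694 (iv D10571) (iv F34931)
theorem F44916 : act 2 n13694 = n10536 := d14_1 D13694 (iv D10536) D10535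
theorem F44917 : act 7 n13694 = n10540 := d24_2 (iv F34933) D13694 (iv D10540)
def n13695 : Q := act 6 n10535
theorem D13695 : act 6 n10535 = n13695 := rfl
theorem F44918 : act 1 n13695 = n10572 := d11_1 D13695 (iv D10572) (iv F34931)
theorem F44919 : act 3 n13695 = n10652 := d20_1 D13695 (iv D10652) (iv F34932)
def n13696 : Q := act 5 n10536
theorem D13696 : act 5 n10536 = n13696 := rfl
theorem F44922 : act 7 n13696 = n10542 := d26_2 (iv F34936) D13696 (iv D10542)
def n13697 : Q := act 1 n10538
theorem D13697 : act 1 n10538 = n13697 := rfl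
theorem F44923 : act 0 n13697 = n10574 := d0_1 D13697 (iv D10574) F27235 (iv F27146) (iv F34941)
theorem F44924 : act 2 n13697 = n10986 := d7_2 D10538 D13697 (iv D10986) (iv D8433) (iv F27145)
theorem F44925 : act 3 n13697 = n10654 := d8_2 (iv F34942) D13697 (iv D10654)
def n13698 : Q := act 4 n10538
theorem D13698 : act 4 n10538 = n13698 := rfl
theorem F44926 : act 0 n13698 = n10540 := d3_1 D13698 (iv D10540) (iv F34941)
def n13699 : Q := act 6 n10538
theorem D13699 : act 6 n10538 = n13699 := rfl
theorem F44928 : act 0 n13699 = n10541 := d5_1 D13699 (iv D10541) (iv F34941)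
theorem F44929 : act 3 n13699 = n10656 := d20_1 D13699 (iv D10656) (iv F34942)
def n13701 : Q := act 3 n10540
theorem D13701 : act 3 n10540 = n13701 := rfl
theorem F44933 : act 1 n13701 = n10578 := d8_1 D13701 (iv D10578) (iv F34946)
theorem F44935 : act 4 n13701 = n10658 := d18_2 D10540 D13701 (iv D10658) (iv D8185) (iv F27147)
def n13702 : Q := act 5 n10540
theorem D13702 : act 5 n10540 = n13702 := rfl
theorem F44937 : act 2 n13702 = n10542 := d15_1 D13702 (iv D10542) (iv F34947)
def n13703 : Q := act 6 n10540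
theorem D13703 : act 6 n10540 = n13703 := rfl
theorem F44938 : act 1 n13703 = n10580 := d11_1 D13703 (iv D10580) (iv F34946)
theorem F44939 : act 4 n13703 = n10541 := d23_1 D13703 (iv D10541) D10540
def n13704 : Q := act 7 n10541
theorem D13704 : act 7 n10541 = n13704 := rfl
theorem F44940 : act 1 n13704 = n10581 := d12_1 D13704 (iv D10581) (iv F34948)
theorem F44941 : act 3 n13704 = n10661 := d21_1 D13704 (iv D10661) (iv F34949)
def n13715 : Q := act 2 n10550
theorem D13715 : act 2 n10550 = n13715 := rfl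
theorem F44979 : act 0 n13715 = n10551 := d1_1 D13715 (iv D10551) (iv F34982)
theorem F44980 : act 3 n13715 = n10662 := d13_2 D10550 D13715 (iv D10662) (iv D8188) (iv F27176)
theorem F44981 : act 5 n13715 = n10569 := d15_2 (iv F34984) D13715 (iv D10569)
theorem F44982 : act 7 n13715 = n10554 := d17_2 (iv F34985) D13715 (iv D10554)
def n13717 : Q := act 4 n10551
theorem D13717 : act 4 n10551 = n13717 := rfl
theorem F44988 : act 7 n13717 = n10556 := d24_2 (iv F34988) D13717 (iv D10556)
def n13718 : Q := act 6 n10551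
theorem D13718 : act 6 n10551 = n13718 := rfl
theorem F44989 : act 3 n13718 = n10665 := d20_1 D13718 (iv D10665) (iv F34986)
def n13720 : Q := act 1 n10554
theorem D13720 : act 1 n10554 = n13720 := rfl
theorem F44995 : act 2 n13720 = n11009 := d7_2 D10554 D13720 (iv D11009) (iv D8449) (iv F27187)
theorem F44996 : act 3 n13720 = n10667 := d8_2 (iv F34997) D13720 (iv D10667)
theorem F44997 : act 5 n13720 = n10574 := d10_2 (iv F34998) D13720 (iv D10574)
def n13721 : Q := act 4 n10554
theorem D13721 : act 4 n10554 = n13721 := rfl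
theorem F44998 : act 0 n13721 = n10556 := d3_1 D13721 (iv D10556) (iv F34996)
def n13722 : Q := act 6 n10554
theorem D13722 : act 6 n10554 = n13722 := rfl
theorem F45002 : act 3 n13722 = n10669 := d20_1 D13722 (iv D10669) (iv F34997)
theorem F45003 : act 5 n13722 = n10576 := d25_1 D13722 (iv D10576) (iv F34998)
def n13724 : Q := act 3 n10556
theorem D13724 : act 3 n10556 = n13724 := rfl
def n13726 : Q := act 6 n10556
theorem D13726 : act 6 n10556 = n13726 := rfl
theorem F45014 : act 4 n13726 = n10557 := d23_1 D13726 (iv D10557) D10556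
def n13727 : Q := act 7 n10557
theorem D13727 : act 7 n10557 = n13727 := rfl
theorem F45016 : act 3 n13727 = n10674 := d21_1 D13727 (iv D10674) (iv F35005)
theorem F45017 : act 5 n13727 = n10581 := d26_1 D13727 (iv D10581) (iv F35006)
def n13736 : Q := act 5 n10564
theorem D13736 : act 5 n10564 = n13736 := rfl
theorem F45044 : act 2 n13736 = n10568 := d15_1 D13736 (iv D10568) (iv F35026)
def n13738 : Q := act 4 n10565
theorem D13738 : act 4 n10565 = n13738 := rfl
theorem F45049 : act 0 n13738 = n10567 := d3_1 D13738 (iv D10567) (iv F35028)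
theorem F45051 : act 3 n13738 = n10592 := d18_1 D13738 (iv D10592) (iv D8137) (iv F27214) D10565
def n13742 : Q := act 1 n10569
theorem D13742 : act 1 n10569 = n13742 := rfl
theorem F45062 : act 2 n13742 = n11031 := d7_2 D10569 D13742 (iv D11031) (iv D8464) (iv F27225)
theorem F45063 : act 3 n13742 = n10675 := d8_2 (iv F35043) D13742 (iv D10675)
def n13743 : Q := act 4 n10569
theorem D13743 : act 4 n10569 = n13743 := rfl
theorem F45065 : act 0 n13743 = n10571 := d3_1 D13743 (iv D10571) (iv F35042)
theorem F45066 : act 2 n13743 = n10570 := d14_1 D13743 (iv D10570) D10569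
theorem F45067 : act 7 n13743 = n10575 := d24_2 (iv F35044) D13743 (iv D10575)
def n13744 : Q := act 6 n10569
theorem D13744 : act 6 n10569 = n13744 := rfl
def n13745 : Q := act 5 n10570
theorem D13745 : act 5 n10570 = n13745 := rfl
theorem F45070 : act 0 n13745 = n10573 := d4_1 D13745 (iv D10573) (iv F35045)
theorem F45071 : act 1 n13745 = n11034 := d10_1 D13745 (iv D11034) (iv F35046)
theorem F45072 : act 3 n13745 = n10599 := d19_1 D13745 (iv D10599) (iv F35047)
theorem F45073 : act 7 n13745 = n10577 := d26_2 (iv F35048) D13745 (iv D10577)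
def n13746 : Q := act 3 n10571
theorem D13746 : act 3 n10571 = n13746 := rfl
theorem F45076 : act 7 n13746 = n10578 := d21_2 (iv F35050) D13746 (iv D10578)
def n13747 : Q := act 5 n10571
theorem D13747 : act 5 n10571 = n13747 := rfl
theorem F45077 : act 2 n13747 = n10573 := d15_1 D13747 (iv D10573) (iv F35049)
theorem F45078 : act 7 n13747 = n10579 := d26_2 (iv F35050) D13747 (iv D10579)
def n13749 : Q := act 7 n10572
theorem D13749 : act 7 n10572 = n13749 := rfl
theorem F45081 : act 6 n13749 = n10581 := d27_1 D13749 (iv D10581) (iv D8129) (iv F27228) D10572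
def n13750 : Q := act 4 n10574
theorem D13750 : act 4 n10574 = n13750 := rfl
theorem F45082 : act 1 n13750 = n10575 := d9_1 D13750 (iv D10575) D10574
theorem F45083 : act 2 n13750 = n11039 := d14_1 D13750 (iv D11039) (iv F35055)
def n13751 : Q := act 6 n10574
theorem D13751 : act 6 n10574 = n13751 := rfl
theorem F45084 : act 1 n13751 = n10576 := d11_1 D13751 (iv D10576) D10574
theorem F45085 : act 3 n13751 = n10684 := d20_1 D13751 (iv D10684) (iv F35056)
def n13752 : Q := act 3 n10575
theorem D13752 : act 3 n10575 = n13752 := rfl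
theorem F45086 : act 0 n13752 = n10578 := d2_1 D13752 (iv D10578) (iv F35057)
theorem F45087 : act 2 n13752 = n10606 := d13_1 D13752 (iv D10606) F27308 (iv F27239) (iv F35058)
theorem F45088 : act 4 n13752 = n10685 := d18_2 D10575 D13752 (iv D10685) (iv D8203) (iv F27236)
def n13753 : Q := act 5 n10575
theorem D13753 : act 5 n10575 = n13753 := rfl
theorem F45089 : act 0 n13753 = n10579 := d4_1 D13753 (iv D10579) (iv F35057)
theorem F45090 : act 2 n13753 = n10577 := d15_1 D13753 (iv D10577) (iv F35058)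
def n13754 : Q := act 6 n10575
theorem D13754 : act 6 n10575 = n13754 := rfl
theorem F45091 : act 0 n13754 = n10580 := d5_1 D13754 (iv D10580) (iv F35057)
theorem F45092 : act 2 n13754 = n13754 := d16_1 D13754 (iv D13754) F35058 F27240 (iv F35058)
theorem F45093 : act 4 n13754 = n10576 := d23_1 D13754 (iv D10576) D10575
def n13755 : Q := act 7 n10576
theorem D13755 : act 7 n10576 = n13755 := rfl
theorem F45094 : act 0 n13755 = n10581 := d6_1 D13755 (iv D10581) (iv F35059)
theorem F45095 : act 2 n13755 = n13755 := d17_1 D13755 (iv D13755) F35060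
theorem F45096 : act 3 n13755 = n10688 := d21_1 D13755 (iv D10688) (iv F35061)
def n13756 : Q := act 5 n10578
theorem D13756 : act 5 n10578 = n13756 := rfl
theorem F45098 : act 3 n13756 = n10579 := d19_1 D13756 (iv D10579) D10578
def n13757 : Q := act 6 n10578
theorem D13757 : act 6 n10578 = n13757 := rfl
theorem F45099 : act 3 n13757 = n10580 := d20_1 D13757 (iv D10580) D10578
def n13758 : Q := act 6 n10579
theorem D13758 : act 6 n10579 = n13758 := rfl
theorem F45102 : act 5 n13758 = n10580 := d25_1 D13758 (iv D10580) D10579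
def n13759 : Q := act 7 n10580
theorem D13759 : act 7 n10580 = n13759 := rfl
def n13767 : Q := act 2 n10587
theorem D13767 : act 2 n10587 = n13767 := rfl
theorem F45133 : act 0 n13767 = n10588 := d1_1 D13767 (iv D10588) (iv F35094)
def n13770 : Q := act 6 n10588
theorem D13770 : act 6 n10588 = n13770 := rfl
theorem F45144 : act 1 n13770 = n10594 := d11_1 D13770 (iv D10594) (iv F35099)
def n13774 : Q := act 6 n10591
theorem D13774 : act 6 n10591 = n13774 := rfl
theorem F45159 : act 0 n13774 = n10594 := d5_1 D13774 (iv D10594) (iv F35111)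
theorem F45160 : act 2 n13774 = n10598 := d16_1 D13774 (iv D10598) (iv D8141) (iv F27275) D10591
def n13775 : Q := act 5 n10592
theorem D13775 : act 5 n10592 = n13775 := rfl
theorem F45166 : act 6 n13775 = n10599 := d25_2 (iv F35117) D13775 (iv D10599)
def n13779 : Q := act 7 n10594
theorem D13779 : act 7 n10594 = n13779 := rfl
def n13780 : Q := act 4 n10596
theorem D13780 : act 4 n10596 = n13780 := rfl
theorem F45179 : act 0 n13780 = n13780 := d3_1 D13780 (iv D13780) F35128
theorem F45180 : act 1 n13780 = n10597 := d9_1 D13780 (iv D10597) D10596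
theorem F45181 : act 2 n13780 = n11069 := d14_1 D13780 (iv D11069) (iv F35129)
theorem F45182 : act 7 n13780 = n10604 := d24_2 (iv F35132) D13780 (iv D10604)
def n13781 : Q := act 6 n10596
theorem D13781 : act 6 n10596 = n13781 := rfl
theorem F45183 : act 0 n13781 = n13781 := d5_1 D13781 (iv D13781) F35128
theorem F45184 : act 1 n13781 = n10598 := d11_1 D13781 (iv D10598) D10596
theorem F45185 : act 3 n13781 = n10694 := d20_1 D13781 (iv D10694) (iv F35130)
theorem F45186 : act 5 n13781 = n13781 := d25_1 D13781 (iv D13781) F35131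
def n13782 : Q := act 3 n10597
theorem D13782 : act 3 n10597 = n13782 := rfl
theorem F45189 : act 7 n13782 = n10606 := d21_2 (iv F35135) D13782 (iv D10606)
def n13783 : Q := act 5 n10597
theorem D13783 : act 5 n10597 = n13783 := rfl
theorem F45191 : act 2 n13783 = n10599 := d15_1 D13783 (iv D10599) (iv F35134)
theorem F45193 : act 7 n13783 = n10607 := d26_2 (iv F35135) D13783 (iv D10607)
def n13785 : Q := act 7 n10598
theorem D13785 : act 7 n10598 = n13785 := rfl
theorem F45199 : act 6 n13785 = n10609 := d27_1 D13785 (iv D10609) (iv D8148) (iv F27290) D10598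
def n13790 : Q := act 3 n10604
theorem D13790 : act 3 n10604 = n13790 := rfl
theorem F45212 : act 0 n13790 = n13790 := d2_1 D13790 (iv D13790) F35156
theorem F45213 : act 1 n13790 = n10606 := d8_1 D13790 (iv D10606) (iv F35157)
theorem F45214 : act 4 n13790 = n10703 := d18_2 D10604 D13790 (iv D10703) (iv D8218) (iv F27305)
def n13791 : Q := act 5 n10604
theorem D13791 : act 5 n10604 = n13791 := rfl
theorem F45215 : act 0 n13791 = n13791 := d4_1 D13791 (iv D13791) F35156
theorem F45216 : act 1 n13791 = n10607 := d10_1 D13791 (iv D10607) (iv F35157)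
theorem F45217 : act 2 n13791 = n11080 := d15_1 D13791 (iv D11080) (iv F35158)
theorem F45218 : act 4 n13791 = n13791 := d22_1 D13791 (iv D13791) (iv D10604) F27306 D10604
def n13792 : Q := act 6 n10604
theorem D13792 : act 6 n10604 = n13792 := rfl
theorem F45219 : act 0 n13792 = n13792 := d5_1 D13792 (iv D13792) F35156
theorem F45220 : act 1 n13792 = n10608 := d11_1 D13792 (iv D10608) (iv F35157)
theorem F45221 : act 4 n13792 = n10605 := d23_1 D13792 (iv D10605) D10604
def n13793 : Q := act 2 n10605
theorem D13793 : act 2 n10605 = n13793 := rfl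
theorem F45222 : act 0 n13793 = n13793 := d1_1 D13793 (iv D13793) F35159
theorem F45223 : act 1 n13793 = n13793 := d7_1 D13793 (iv D13793) F35160 F27310 (iv F35160)
theorem F45224 : act 3 n13793 = n13793 := d13_2 (iv F35161) D13793 (iv D13793) F35161 F27535
theorem F45225 : act 5 n13793 = n13793 := d15_2 F35162 D13793 (iv D13793)
theorem F45226 : act 6 n13793 = n11082 := d16_2 D10605 D13793 (iv D11082) (iv D8500) (iv F27304)
def n13794 : Q := act 7 n10605
theorem D13794 : act 7 n10605 = n13794 := rfl
theorem F45227 : act 0 n13794 = n13794 := d6_1 D13794 (iv D13794) F35159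
theorem F45228 : act 1 n13794 = n10609 := d12_1 D13794 (iv D10609) (iv F35160)
theorem F45229 : act 3 n13794 = n10706 := d21_1 D13794 (iv D10706) (iv F35161)
theorem F45230 : act 5 n13794 = n13794 := d26_1 D13794 (iv D13794) F35162
def n13795 : Q := act 5 n10606
theorem D13795 : act 5 n10606 = n13795 := rfl
theorem F45232 : act 3 n13795 = n10607 := d19_1 D13795 (iv D10607) D10606
def n13796 : Q := act 6 n10606
theorem D13796 : act 6 n10606 = n13796 := rfl
theorem F45234 : act 3 n13796 = n10608 := d20_1 D13796 (iv D10608) D10606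
def n13797 : Q := act 6 n10607
theorem D13797 : act 6 n10607 = n13797 := rfl
theorem F45239 : act 5 n13797 = n10608 := d25_1 D13797 (iv D10608) D10607
def n13798 : Q := act 7 n10608
theorem D13798 : act 7 n10608 = n13798 := rfl
def n13830 : Q := act 2 n10633
theorem D13830 : act 2 n10633 = n13830 := rfl
theorem F45358 : act 7 n13830 = n10637 := d17_2 (iv F35267) D13830 (iv D10637)
def n13832 : Q := act 4 n10634
theorem D13832 : act 4 n10634 = n13832 := rfl
theorem F45362 : act 1 n13832 = n10664 := d9_1 D13832 (iv D10664) (iv F35268)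
theorem F45364 : act 7 n13832 = n10639 := d24_2 (iv F35270) D13832 (iv D10639)
def n13833 : Q := act 6 n10634
theorem D13833 : act 6 n10634 = n13833 := rfl
def n13835 : Q := act 1 n10637
theorem D13835 : act 1 n10637 = n13835 := rfl
theorem F45370 : act 0 n13835 = n10667 := d0_1 D13835 (iv D10667) F27461 (iv F27395) (iv F35277)
theorem F45372 : act 5 n13835 = n10654 := d10_2 (iv F35278) D13835 (iv D10654)
def n13836 : Q := act 4 n10637
theorem D13836 : act 4 n10637 = n13836 := rfl
theorem F45373 : act 0 n13836 = n10639 := d3_1 D13836 (iv D10639) (iv F35277)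
theorem F45374 : act 2 n13836 = n10638 := d14_1 D13836 (iv D10638) D10637
def n13837 : Q := act 6 n10637
theorem D13837 : act 6 n10637 = n13837 := rfl
theorem F45375 : act 0 n13837 = n10640 := d5_1 D13837 (iv D10640) (iv F35277)
theorem F45377 : act 5 n13837 = n10656 := d25_1 D13837 (iv D10656) (iv F35278)
def n13838 : Q := act 5 n10638
theorem D13838 : act 5 n10638 = n13838 := rfl
theorem F45378 : act 0 n13838 = n10641 := d4_1 D13838 (iv D10641) (iv F35279)
theorem F45379 : act 1 n13838 = n10783 := d10_1 D13838 (iv D10783) (iv F35280)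
def n13839 : Q := act 3 n10639
theorem D13839 : act 3 n10639 = n13839 := rfl
def n13840 : Q := act 5 n10639
theorem D13840 : act 5 n10639 = n13840 := rfl
theorem F45383 : act 1 n13840 = n10672 := d10_1 D13840 (iv D10672) (iv F35282)
theorem F45385 : act 4 n13840 = n10659 := d22_1 D13840 (iv D10659) (iv D8185) (iv F27396) D10639
def n13841 : Q := act 6 n10639
theorem D13841 : act 6 n10639 = n13841 := rfl
theorem F45386 : act 1 n13841 = n10673 := d11_1 D13841 (iv D10673) (iv F35282)
theorem F45388 : act 4 n13841 = n10640 := d23_1 D13841 (iv D10640) D10639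
def n13842 : Q := act 7 n10640
theorem D13842 : act 7 n10640 = n13842 := rfl
theorem F45389 : act 1 n13842 = n10674 := d12_1 D13842 (iv D10674) (iv F35284)
theorem F45391 : act 5 n13842 = n10661 := d26_1 D13842 (iv D10661) (iv F35286)
def n13852 : Q := act 1 n10649
theorem D13852 : act 1 n10649 = n13852 := rfl
theorem F45421 : act 0 n13852 = n10675 := d0_1 D13852 (iv D10675) F27474 (iv F27424) (iv F35315)
theorem F45422 : act 2 n13852 = n10793 := d7_2 D10649 D13852 (iv D10793) (iv D8286) (iv F27422)
theorem F45423 : act 7 n13852 = n10654 := d12_2 (iv F35316) D13852 (iv D10654)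
def n13853 : Q := act 4 n10649
theorem D13853 : act 4 n10649 = n13853 := rfl
theorem F45426 : act 7 n13853 = n10655 := d24_2 (iv F35316) D13853 (iv D10655)
def n13854 : Q := act 6 n10649
theorem D13854 : act 6 n10649 = n13854 := rfl
def n13856 : Q := act 3 n10651
theorem D13856 : act 3 n10651 = n13856 := rfl
theorem F45432 : act 1 n13856 = n10679 := d8_1 D13856 (iv D10679) (iv F35321)
theorem F45434 : act 7 n13856 = n10658 := d21_2 (iv F35323) D13856 (iv D10658)
def n13857 : Q := act 5 n10651
theorem D13857 : act 5 n10651 = n13857 := rfl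
theorem F45435 : act 1 n13857 = n10680 := d10_1 D13857 (iv D10680) (iv F35321)
theorem F45436 : act 2 n13857 = n10653 := d15_1 D13857 (iv D10653) (iv F35322)
theorem F45437 : act 7 n13857 = n10659 := d26_2 (iv F35323) D13857 (iv D10659)
def n13858 : Q := act 6 n10651
theorem D13858 : act 6 n10651 = n13858 := rfl
theorem F45438 : act 1 n13858 = n10681 := d11_1 D13858 (iv D10681) (iv F35321)
theorem F45439 : act 4 n13858 = n10652 := d23_1 D13858 (iv D10652) D10651
def n13859 : Q := act 7 n10652
theorem D13859 : act 7 n10652 = n13859 := rfl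
theorem F45440 : act 1 n13859 = n10682 := d12_1 D13859 (iv D10682) (iv F35324)
theorem F45441 : act 6 n13859 = n10661 := d27_1 D13859 (iv D10661) (iv D8186) (iv F27425) D10652
def n13860 : Q := act 4 n10654
theorem D13860 : act 4 n10654 = n13860 := rfl
theorem F45442 : act 0 n13860 = n10683 := d3_1 D13860 (iv D10683) (iv F35328)
theorem F45443 : act 1 n13860 = n10655 := d9_1 D13860 (iv D10655) D10654
theorem F45444 : act 2 n13860 = n10801 := d14_1 D13860 (iv D10801) (iv F35329)
def n13861 : Q := act 6 n10654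
theorem D13861 : act 6 n10654 = n13861 := rfl
theorem F45445 : act 0 n13861 = n10684 := d5_1 D13861 (iv D10684) (iv F35328)
theorem F45446 : act 1 n13861 = n10656 := d11_1 D13861 (iv D10656) D10654
def n13862 : Q := act 3 n10655
theorem D13862 : act 3 n10655 = n13862 := rfl
theorem F45447 : act 0 n13862 = n10658 := d2_1 D13862 (iv D10658) (iv F35330)
theorem F45448 : act 2 n13862 = n13862 := d13_1 D13862 (iv D13862) F35331 F27436 (iv F35331)
def n13863 : Q := act 5 n10655
theorem D13863 : act 5 n10655 = n13863 := rfl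
theorem F45449 : act 0 n13863 = n10659 := d4_1 D13863 (iv D10659) (iv F35330)
theorem F45450 : act 2 n13863 = n10657 := d15_1 D13863 (iv D10657) (iv F35331)
def n13864 : Q := act 6 n10655
theorem D13864 : act 6 n10655 = n13864 := rfl
theorem F45451 : act 0 n13864 = n10660 := d5_1 D13864 (iv D10660) (iv F35330)
theorem F45452 : act 2 n13864 = n13864 := d16_1 D13864 (iv D13864) F35331 F27437 (iv F35331)
theorem F45453 : act 4 n13864 = n10656 := d23_1 D13864 (iv D10656) D10655
def n13865 : Q := act 7 n10656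
theorem D13865 : act 7 n10656 = n13865 := rfl
theorem F45454 : act 0 n13865 = n10661 := d6_1 D13865 (iv D10661) (iv F35332)
theorem F45455 : act 2 n13865 = n13865 := d17_1 D13865 (iv D13865) F35333
def n13866 : Q := act 5 n10658
theorem D13866 : act 5 n10658 = n13866 := rfl
def n13867 : Q := act 6 n10658
theorem D13867 : act 6 n10658 = n13867 := rfl
def n13868 : Q := act 6 n10659
theorem D13868 : act 6 n10659 = n13868 := rfl
theorem F45463 : act 5 n13868 = n10660 := d25_1 D13868 (iv D10660) D10659
def n13869 : Q := act 7 n10660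
theorem D13869 : act 7 n10660 = n13869 := rfl
theorem F45466 : act 4 n13869 = n10661 := d24_1 D13869 (iv D10661) (iv F35344)
def n13871 : Q := act 4 n10662
theorem D13871 : act 4 n10662 = n13871 := rfl
theorem F45470 : act 0 n13871 = n10664 := d3_1 D13871 (iv D10664) (iv F35347)
theorem F45471 : act 2 n13871 = n10663 := d14_1 D13871 (iv D10663) D10662
theorem F45472 : act 7 n13871 = n10668 := d24_2 (iv F35349) D13871 (iv D10668)
def n13872 : Q := act 6 n10662
theorem D13872 : act 6 n10662 = n13872 := rfl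
theorem F45475 : act 5 n13872 = n10677 := d25_1 D13872 (iv D10677) (iv F35348)
def n13873 : Q := act 5 n10663
theorem D13873 : act 5 n10663 = n13873 := rfl
theorem F45477 : act 1 n13873 = n10814 := d10_1 D13873 (iv D10814) (iv F35351)
theorem F45479 : act 4 n13873 = n10678 := d22_1 D13873 (iv D10678) (iv D8198) (iv F27447) D10663
theorem F45481 : act 7 n13873 = n10670 := d26_2 (iv F35354) D13873 (iv D10670)
def n13874 : Q := act 3 n10664
theorem D13874 : act 3 n10664 = n13874 := rfl
theorem F45483 : act 7 n13874 = n10671 := d21_2 (iv F35356) D13874 (iv D10671)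
def n13875 : Q := act 5 n10664
theorem D13875 : act 5 n10664 = n13875 := rfl
theorem F45484 : act 2 n13875 = n10666 := d15_1 D13875 (iv D10666) (iv F35355)
theorem F45485 : act 4 n13875 = n10680 := d22_1 D13875 (iv D10680) (iv D8199) (iv F27450) D10664
theorem F45486 : act 7 n13875 = n10672 := d26_2 (iv F35356) D13875 (iv D10672)
def n13876 : Q := act 6 n10664
theorem D13876 : act 6 n10664 = n13876 := rfl
def n13877 : Q := act 7 n10665
theorem D13877 : act 7 n10665 = n13877 := rfl
theorem F45490 : act 5 n13877 = n10682 := d26_1 D13877 (iv D10682) (iv F35358)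
theorem F45491 : act 6 n13877 = n10674 := d27_1 D13877 (iv D10674) (iv D8195) (iv F27451) D10665
def n13878 : Q := act 4 n10667
theorem D13878 : act 4 n10667 = n13878 := rfl
theorem F45492 : act 1 n13878 = n10668 := d9_1 D13878 (iv D10668) D10667
theorem F45493 : act 2 n13878 = n10819 := d14_1 D13878 (iv D10819) (iv F35364)
def n13879 : Q := act 6 n10667
theorem D13879 : act 6 n10667 = n13879 := rfl
theorem F45494 : act 1 n13879 = n10669 := d11_1 D13879 (iv D10669) D10667
theorem F45495 : act 5 n13879 = n10684 := d25_1 D13879 (iv D10684) (iv F35365)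
def n13880 : Q := act 3 n10668
theorem D13880 : act 3 n10668 = n13880 := rfl
theorem F45496 : act 0 n13880 = n10671 := d2_1 D13880 (iv D10671) (iv F35366)
theorem F45497 : act 2 n13880 = n13880 := d13_1 D13880 (iv D13880) F35367 F27465 (iv F35367)
def n13881 : Q := act 5 n10668
theorem D13881 : act 5 n10668 = n13881 := rfl
theorem F45498 : act 0 n13881 = n10672 := d4_1 D13881 (iv D10672) (iv F35366)
theorem F45499 : act 2 n13881 = n10670 := d15_1 D13881 (iv D10670) (iv F35367)
theorem F45500 : act 4 n13881 = n10686 := d22_1 D13881 (iv D10686) (iv D8203) (iv F27462) D10668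
def n13882 : Q := act 6 n10668
theorem D13882 : act 6 n10668 = n13882 := rfl
theorem F45501 : act 0 n13882 = n10673 := d5_1 D13882 (iv D10673) (iv F35366)
theorem F45502 : act 2 n13882 = n10720 := d16_1 D13882 (iv D10720) F27564 (iv F27466) (iv F35367)
theorem F45503 : act 4 n13882 = n10669 := d23_1 D13882 (iv D10669) D10668
def n13883 : Q := act 7 n10669
theorem D13883 : act 7 n10669 = n13883 := rfl
theorem F45504 : act 0 n13883 = n10674 := d6_1 D13883 (iv D10674) (iv F35368)
theorem F45505 : act 2 n13883 = n10721 := d17_1 D13883 (iv D10721) (iv F35369)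
theorem F45506 : act 5 n13883 = n10688 := d26_1 D13883 (iv D10688) (iv F35370)
def n13884 : Q := act 5 n10671
theorem D13884 : act 5 n10671 = n13884 := rfl
theorem F45508 : act 3 n13884 = n10672 := d19_1 D13884 (iv D10672) D10671
def n13885 : Q := act 6 n10671
theorem D13885 : act 6 n10671 = n13885 := rfl
theorem F45509 : act 3 n13885 = n10673 := d20_1 D13885 (iv D10673) D10671
def n13886 : Q := act 6 n10672
theorem D13886 : act 6 n10672 = n13886 := rfl
theorem F45510 : act 2 n13886 = n10724 := d16_1 D13886 (iv D10724) F27579 (iv F27473) (iv F35377)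
theorem F45512 : act 5 n13886 = n10673 := d25_1 D13886 (iv D10673) D10672
def n13887 : Q := act 7 n10673
theorem D13887 : act 7 n10673 = n13887 := rfl
theorem F45514 : act 4 n13887 = n10674 := d24_1 D13887 (iv D10674) (iv F35380)
def n13888 : Q := act 4 n10675
theorem D13888 : act 4 n10675 = n13888 := rfl
theorem F45515 : act 1 n13888 = n10676 := d9_1 D13888 (iv D10676) D10675
theorem F45516 : act 2 n13888 = n10829 := d14_1 D13888 (iv D10829) (iv F35383)
theorem F45517 : act 7 n13888 = n10683 := d24_2 (iv F35384) D13888 (iv D10683)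
def n13889 : Q := act 6 n10675
theorem D13889 : act 6 n10675 = n13889 := rfl
theorem F45518 : act 1 n13889 = n10677 := d11_1 D13889 (iv D10677) D10675
def n13890 : Q := act 3 n10676
theorem D13890 : act 3 n10676 = n13890 := rfl
theorem F45519 : act 0 n13890 = n10679 := d2_1 D13890 (iv D10679) (iv F35385)
theorem F45520 : act 2 n13890 = n10695 := d13_1 D13890 (iv D10695) F27507 (iv F27478) (iv F35386)
theorem F45521 : act 7 n13890 = n10685 := d21_2 (iv F35387) D13890 (iv D10685)
def n13891 : Q := act 5 n10676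
theorem D13891 : act 5 n10676 = n13891 := rfl
theorem F45522 : act 0 n13891 = n10680 := d4_1 D13891 (iv D10680) (iv F35385)
theorem F45523 : act 2 n13891 = n10678 := d15_1 D13891 (iv D10678) (iv F35386)
theorem F45524 : act 7 n13891 = n10686 := d26_2 (iv F35387) D13891 (iv D10686)
def n13892 : Q := act 6 n10676
theorem D13892 : act 6 n10676 = n13892 := rfl
theorem F45525 : act 0 n13892 = n10681 := d5_1 D13892 (iv D10681) (iv F35385)
theorem F45526 : act 2 n13892 = n13892 := d16_1 D13892 (iv D13892) F35386 F27479 (iv F35386)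
theorem F45527 : act 4 n13892 = n10677 := d23_1 D13892 (iv D10677) D10676
def n13893 : Q := act 7 n10677
theorem D13893 : act 7 n10677 = n13893 := rfl
theorem F45528 : act 0 n13893 = n10682 := d6_1 D13893 (iv D10682) (iv F35388)
theorem F45529 : act 2 n13893 = n13893 := d17_1 D13893 (iv D13893) F35389
theorem F45530 : act 6 n13893 = n10688 := d27_1 D13893 (iv D10688) (iv D8204) (iv F27475) D10677
def n13894 : Q := act 5 n10679
theorem D13894 : act 5 n10679 = n13894 := rfl
theorem F45533 : act 7 n13894 = n10689 := d26_2 (iv F35396) D13894 (iv D10689)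
def n13895 : Q := act 6 n10679
theorem D13895 : act 6 n10679 = n13895 := rfl
def n13896 : Q := act 6 n10680
theorem D13896 : act 6 n10680 = n13896 := rfl
theorem F45536 : act 5 n13896 = n10681 := d25_1 D13896 (iv D10681) D10680
def n13897 : Q := act 7 n10681
theorem D13897 : act 7 n10681 = n13897 := rfl
theorem F45538 : act 4 n13897 = n10682 := d24_1 D13897 (iv D10682) (iv F35400)
theorem F45539 : act 6 n13897 = n10692 := d27_1 D13897 (iv D10692) (iv D8208) (iv F27482) D10681
def n13898 : Q := act 3 n10683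
theorem D13898 : act 3 n10683 = n13898 := rfl
theorem F45540 : act 1 n13898 = n10685 := d8_1 D13898 (iv D10685) (iv F35403)
def n13899 : Q := act 5 n10683
theorem D13899 : act 5 n10683 = n13899 := rfl
theorem F45541 : act 1 n13899 = n10686 := d10_1 D13899 (iv D10686) (iv F35403)
theorem F45542 : act 2 n13899 = n10840 := d15_1 D13899 (iv D10840) (iv F35404)
def n13900 : Q := act 6 n10683
theorem D13900 : act 6 n10683 = n13900 := rfl
theorem F45543 : act 1 n13900 = n10687 := d11_1 D13900 (iv D10687) (iv F35403)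
theorem F45544 : act 4 n13900 = n10684 := d23_1 D13900 (iv D10684) D10683
def n13901 : Q := act 2 n10684
theorem D13901 : act 2 n10684 = n13901 := rfl
theorem F45545 : act 1 n13901 = n10729 := d7_1 D13901 (iv D10729) F27593 (iv F27492) (iv F35405)
theorem F45546 : act 6 n13901 = n10842 := d16_2 D10684 D13901 (iv D10842) (iv D8321) (iv F27488)
def n13902 : Q := act 7 n10684
theorem D13902 : act 7 n10684 = n13902 := rfl
theorem F45547 : act 1 n13902 = n10688 := d12_1 D13902 (iv D10688) (iv F35405)
def n13903 : Q := act 5 n10685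
theorem D13903 : act 5 n10685 = n13903 := rfl
def n13904 : Q := act 6 n10685
theorem D13904 : act 6 n10685 = n13904 := rfl
def n13905 : Q := act 6 n10686
theorem D13905 : act 6 n10686 = n13905 := rfl
theorem F45554 : act 2 n13905 = n10733 := d16_1 D13905 (iv D10733) F27600 (iv F27496) (iv F35409)
theorem F45555 : act 5 n13905 = n10687 := d25_1 D13905 (iv D10687) D10686
def n13906 : Q := act 7 n10687
theorem D13906 : act 7 n10687 = n13906 := rfl
theorem F45558 : act 4 n13906 = n10688 := d24_1 D13906 (iv D10688) (iv F35412)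
def n13912 : Q := act 3 n10693
theorem D13912 : act 3 n10693 = n13912 := rfl
theorem F45567 : act 0 n13912 = n13912 := d2_1 D13912 (iv D13912) F35422
theorem F45568 : act 1 n13912 = n10695 := d8_1 D13912 (iv D10695) (iv F35423)
theorem F45569 : act 7 n13912 = n10703 := d21_2 (iv F35425) D13912 (iv D10703)
def n13913 : Q := act 5 n10693
theorem D13913 : act 5 n10693 = n13913 := rfl
theorem F45570 : act 0 n13913 = n13913 := d4_1 D13913 (iv D13913) F35422
theorem F45571 : act 1 n13913 = n10696 := d10_1 D13913 (iv D10696) (iv F35423)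
theorem F45572 : act 2 n13913 = n10853 := d15_1 D13913 (iv D10853) (iv F35424)
theorem F45573 : act 4 n13913 = n13913 := d22_1 D13913 (iv D13913) (iv D10693) F27504 D10693
theorem F45574 : act 7 n13913 = n10704 := d26_2 (iv F35425) D13913 (iv D10704)
def n13914 : Q := act 6 n10693
theorem D13914 : act 6 n10693 = n13914 := rfl
theorem F45575 : act 0 n13914 = n13914 := d5_1 D13914 (iv D13914) F35422
theorem F45576 : act 1 n13914 = n10697 := d11_1 D13914 (iv D10697) (iv F35423)
theorem F45577 : act 4 n13914 = n10694 := d23_1 D13914 (iv D10694) D10693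
def n13915 : Q := act 2 n10694
theorem D13915 : act 2 n10694 = n13915 := rfl
theorem F45578 : act 0 n13915 = n13915 := d1_1 D13915 (iv D13915) F35426
theorem F45579 : act 1 n13915 = n13915 := d7_1 D13915 (iv D13915) F35427 F27510 (iv F35427)
theorem F45580 : act 5 n13915 = n13915 := d15_2 F35428 D13915 (iv D13915)
theorem F45581 : act 6 n13915 = n10855 := d16_2 D10694 D13915 (iv D10855) (iv D8331) (iv F27503)
def n13916 : Q := act 7 n10694
theorem D13916 : act 7 n10694 = n13916 := rfl
theorem F45582 : act 0 n13916 = n13916 := d6_1 D13916 (iv D13916) F35426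
theorem F45583 : act 1 n13916 = n10698 := d12_1 D13916 (iv D10698) (iv F35427)
theorem F45584 : act 5 n13916 = n13916 := d26_1 D13916 (iv D13916) F35428
theorem F45585 : act 6 n13916 = n10706 := d27_1 D13916 (iv D10706) (iv D8219) (iv F27505) D10694
def n13917 : Q := act 5 n10695
theorem D13917 : act 5 n10695 = n13917 := rfl
theorem F45588 : act 7 n13917 = n10707 := d26_2 (iv F35430) D13917 (iv D10707)
def n13918 : Q := act 6 n10695
theorem D13918 : act 6 n10695 = n13918 := rfl
def n13919 : Q := act 6 n10696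
theorem D13919 : act 6 n10696 = n13919 := rfl
theorem F45594 : act 5 n13919 = n10697 := d25_1 D13919 (iv D10697) D10696
def n13920 : Q := act 7 n10697
theorem D13920 : act 7 n10697 = n13920 := rfl
theorem F45597 : act 4 n13920 = n10698 := d24_1 D13920 (iv D10698) (iv F35437)
theorem F45598 : act 6 n13920 = n10710 := d27_1 D13920 (iv D10710) (iv D8222) (iv F27508) D10697
def n13926 : Q := act 2 n10703
theorem D13926 : act 2 n10703 = n13926 := rfl
theorem F45614 : act 0 n13926 = n13926 := d1_1 D13926 (iv D13926) F35455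
theorem F45615 : act 3 n13926 = n10862 := d13_2 D10703 D13926 (iv D10862) (iv D8338) (iv F27532)
def n13927 : Q := act 5 n10703
theorem D13927 : act 5 n10703 = n13927 := rfl
def n13928 : Q := act 6 n10703
theorem D13928 : act 6 n10703 = n13928 := rfl
def n13929 : Q := act 6 n10704
theorem D13929 : act 6 n10704 = n13929 := rfl
theorem F45626 : act 5 n13929 = n10705 := d25_1 D13929 (iv D10705) D10704
def n13930 : Q := act 7 n10705
theorem D13930 : act 7 n10705 = n13930 := rfl
theorem F45630 : act 4 n13930 = n10706 := d24_1 D13930 (iv D10706) (iv F35464)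
def n13941 : Q := act 3 n10716
theorem D13941 : act 3 n10716 = n13941 := rfl
theorem F45656 : act 0 n13941 = n13941 := d2_1 D13941 (iv D13941) F35492
theorem F45657 : act 1 n13941 = n10718 := d8_1 D13941 (iv D10718) (iv F35493)
theorem F45658 : act 4 n13941 = n13941 := d18_2 D10716 D13941 (iv D13941) (iv D10716) F27560
theorem F45659 : act 7 n13941 = n13941 := d21_2 F35495 D13941 (iv D13941)
def n13942 : Q := act 5 n10716
theorem D13942 : act 5 n10716 = n13942 := rfl
theorem F45660 : act 0 n13942 = n13942 := d4_1 D13942 (iv D13942) F35492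
theorem F45661 : act 1 n13942 = n10719 := d10_1 D13942 (iv D10719) (iv F35493)
theorem F45662 : act 2 n13942 = n10866 := d15_1 D13942 (iv D10866) (iv F35494)
theorem F45663 : act 4 n13942 = n10727 := d22_1 D13942 (iv D10727) (iv D8236) (iv F27561) D10716
theorem F45664 : act 7 n13942 = n13942 := d26_2 F35495 D13942 (iv D13942)
def n13943 : Q := act 6 n10716
theorem D13943 : act 6 n10716 = n13943 := rfl
theorem F45665 : act 0 n13943 = n13943 := d5_1 D13943 (iv D13943) F35492
theorem F45666 : act 1 n13943 = n10720 := d11_1 D13943 (iv D10720) (iv F35493)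
theorem F45667 : act 4 n13943 = n10717 := d23_1 D13943 (iv D10717) D10716
def n13944 : Q := act 2 n10717
theorem D13944 : act 2 n10717 = n13944 := rfl
theorem F45668 : act 0 n13944 = n13944 := d1_1 D13944 (iv D13944) F35496
theorem F45669 : act 5 n13944 = n10729 := d15_2 (iv F35499) D13944 (iv D10729)
theorem F45670 : act 6 n13944 = n10868 := d16_2 D10717 D13944 (iv D10868) (iv D8343) (iv F27559)
def n13945 : Q := act 7 n10717
theorem D13945 : act 7 n10717 = n13945 := rfl
theorem F45671 : act 0 n13945 = n13945 := d6_1 D13945 (iv D13945) F35496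
theorem F45672 : act 1 n13945 = n10721 := d12_1 D13945 (iv D10721) (iv F35497)
theorem F45673 : act 3 n13945 = n13945 := d21_1 D13945 (iv D13945) F35498
theorem F45674 : act 5 n13945 = n10730 := d26_1 D13945 (iv D10730) (iv F35499)
theorem F45675 : act 6 n13945 = n13945 := d27_1 D13945 (iv D13945) (iv D10717) F27562 D10717
def n13946 : Q := act 5 n10718
theorem D13946 : act 5 n10718 = n13946 := rfl
theorem F45678 : act 3 n13946 = n10719 := d19_1 D13946 (iv D10719) D10718
def n13947 : Q := act 6 n10718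
theorem D13947 : act 6 n10718 = n13947 := rfl
theorem F45681 : act 3 n13947 = n10720 := d20_1 D13947 (iv D10720) D10718
def n13948 : Q := act 6 n10719
theorem D13948 : act 6 n10719 = n13948 := rfl
theorem F45685 : act 5 n13948 = n10720 := d25_1 D13948 (iv D10720) D10719
def n13949 : Q := act 7 n10720
theorem D13949 : act 7 n10720 = n13949 := rfl
theorem F45687 : act 4 n13949 = n10721 := d24_1 D13949 (iv D10721) (iv F35509)
def n13955 : Q := act 5 n10726
theorem D13955 : act 5 n10726 = n13955 := rfl
theorem F45710 : act 3 n13955 = n10727 := d19_1 D13955 (iv D10727) D10726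
def n13956 : Q := act 6 n10726
theorem D13956 : act 6 n10726 = n13956 := rfl
theorem F45714 : act 3 n13956 = n10728 := d20_1 D13956 (iv D10728) D10726
def n13957 : Q := act 6 n10727
theorem D13957 : act 6 n10727 = n13957 := rfl
theorem F45717 : act 1 n13957 = n10733 := d11_1 D13957 (iv D10733) (iv F35533)
theorem F45718 : act 5 n13957 = n10728 := d25_1 D13957 (iv D10728) D10727
def n13958 : Q := act 2 n10728
theorem D13958 : act 2 n10728 = n13958 := rfl
theorem F45719 : act 0 n13958 = n13958 := d1_1 D13958 (iv D13958) F35536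
theorem F45720 : act 4 n13958 = n10729 := d14_2 (iv F35538) D13958 (iv D10729)
theorem F45721 : act 6 n13958 = n10879 := d16_2 D10728 D13958 (iv D10879) (iv D8353) (iv F27590)
def n13959 : Q := act 7 n10728
theorem D13959 : act 7 n10728 = n13959 := rfl
theorem F45724 : act 4 n13959 = n10730 := d24_1 D13959 (iv D10730) (iv F35538)
def n13960 : Q := act 3 n10729
theorem D13960 : act 3 n10729 = n13960 := rfl
theorem F45726 : act 0 n13960 = n13960 := d2_1 D13960 (iv D13960) F35539
theorem F45727 : act 2 n13960 = n13960 := d13_1 D13960 (iv D13960) (iv D10729) F27594 D10729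
theorem F45728 : act 6 n13960 = n10881 := d20_2 (iv F35540) D13960 (iv D10881)
def n13961 : Q := act 7 n10729
theorem D13961 : act 7 n10729 = n13961 := rfl
theorem F45729 : act 0 n13961 = n13961 := d6_1 D13961 (iv D13961) F35539
theorem F45730 : act 2 n13961 = n10730 := d17_1 D13961 (iv D10730) D10729
def n14019 : Q := act 6 n10775
theorem D14019 : act 6 n10775 = n14019 := rfl
theorem F45925 : act 0 n14019 = n10778 := d5_1 D14019 (iv D10778) (iv F35701)
theorem F45927 : act 5 n14019 = n10795 := d25_1 D14019 (iv D10795) (iv F35703)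
def n14023 : Q := act 6 n10777
theorem D14023 : act 6 n10777 = n14023 := rfl
theorem F45939 : act 4 n14023 = n10778 := d23_1 D14023 (iv D10778) D10777
def n14024 : Q := act 7 n10778
theorem D14024 : act 7 n10778 = n14024 := rfl
def n14025 : Q := act 4 n10780
theorem D14025 : act 4 n10780 = n14025 := rfl
theorem F45944 : act 0 n14025 = n10819 := d3_1 D14025 (iv D10819) (iv F35716)
theorem F45945 : act 1 n14025 = n10781 := d9_1 D14025 (iv D10781) D10780
def n14026 : Q := act 6 n10780
theorem D14026 : act 6 n10780 = n14026 := rfl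
theorem F45946 : act 0 n14026 = n10820 := d5_1 D14026 (iv D10820) (iv F35716)
theorem F45947 : act 1 n14026 = n10782 := d11_1 D14026 (iv D10782) D10780
theorem F45948 : act 3 n14026 = n11277 := d20_1 D14026 (iv D11277) (iv F35717)
theorem F45949 : act 5 n14026 = n10802 := d25_1 D14026 (iv D10802) (iv F35718)
def n14027 : Q := act 3 n10781
theorem D14027 : act 3 n10781 = n14027 := rfl
theorem F45951 : act 4 n14027 = n11278 := d18_2 D10781 D14027 (iv D11278) (iv D8648) (iv F27729)
def n14028 : Q := act 5 n10781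
theorem D14028 : act 5 n10781 = n14028 := rfl
theorem F45953 : act 2 n14028 = n10783 := d15_1 D14028 (iv D10783) (iv F35720)
theorem F45954 : act 4 n14028 = n10804 := d22_1 D14028 (iv D10804) (iv D8292) (iv F27730) D10781
def n14029 : Q := act 6 n10781
theorem D14029 : act 6 n10781 = n14029 := rfl
theorem F45957 : act 4 n14029 = n10782 := d23_1 D14029 (iv D10782) D10781
def n14030 : Q := act 7 n10782
theorem D14030 : act 7 n10782 = n14030 := rfl
theorem F45961 : act 5 n14030 = n10806 := d26_1 D14030 (iv D10806) (iv F35724)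
def n14033 : Q := act 6 n10785
theorem D14033 : act 6 n10785 = n14033 := rfl
theorem F45969 : act 4 n14033 = n10809 := d23_1 D14033 (iv D10809) (iv F35732)
theorem F45970 : act 5 n14033 = n10786 := d25_1 D14033 (iv D10786) D10785
def n14034 : Q := act 7 n10786
theorem D14034 : act 7 n10786 = n14034 := rfl
def n14043 : Q := act 4 n10793
theorem D14043 : act 4 n10793 = n14043 := rfl
theorem F46001 : act 0 n14043 = n10829 := d3_1 D14043 (iv D10829) (iv F35757)
theorem F46002 : act 1 n14043 = n10794 := d9_1 D14043 (iv D10794) D10793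
theorem F46003 : act 7 n14043 = n10801 := d24_2 (iv F35759) D14043 (iv D10801)
def n14044 : Q := act 6 n10793
theorem D14044 : act 6 n10793 = n14044 := rfl
theorem F46004 : act 0 n14044 = n10830 := d5_1 D14044 (iv D10830) (iv F35757)
theorem F46005 : act 1 n14044 = n10795 := d11_1 D14044 (iv D10795) D10793
theorem F46006 : act 3 n14044 = n11287 := d20_1 D14044 (iv D11287) (iv F35758)
def n14045 : Q := act 3 n10794
theorem D14045 : act 3 n10794 = n14045 := rfl
theorem F46007 : act 0 n14045 = n10797 := d2_1 D14045 (iv D10797) (iv F35760)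
theorem F46009 : act 4 n14045 = n11288 := d18_2 D10794 D14045 (iv D11288) (iv D8656) (iv F27757)
theorem F46010 : act 7 n14045 = n10803 := d21_2 (iv F35762) D14045 (iv D10803)
def n14046 : Q := act 5 n10794
theorem D14046 : act 5 n10794 = n14046 := rfl
theorem F46013 : act 7 n14046 = n10804 := d26_2 (iv F35762) D14046 (iv D10804)
def n14047 : Q := act 6 n10794
theorem D14047 : act 6 n10794 = n14047 := rfl
def n14048 : Q := act 7 n10795
theorem D14048 : act 7 n10795 = n14048 := rfl
def n14049 : Q := act 5 n10797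
theorem D14049 : act 5 n10797 = n14049 := rfl
theorem F46019 : act 1 n14049 = n10835 := d10_1 D14049 (iv D10835) (iv F35768)
theorem F46021 : act 3 n14049 = n10798 := d19_1 D14049 (iv D10798) D10797
theorem F46022 : act 7 n14049 = n10807 := d26_2 (iv F35771) D14049 (iv D10807)
def n14051 : Q := act 6 n10798
theorem D14051 : act 6 n10798 = n14051 := rfl
def n14052 : Q := act 7 n10799
theorem D14052 : act 7 n10799 = n14052 := rfl
theorem F46030 : act 6 n14052 = n10810 := d27_1 D14052 (iv D10810) (iv D8297) (iv F27764) D10799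
def n14053 : Q := act 3 n10801
theorem D14053 : act 3 n10801 = n14053 := rfl
theorem F46031 : act 0 n14053 = n10839 := d2_1 D14053 (iv D10839) (iv F35780)
theorem F46032 : act 1 n14053 = n10803 := d8_1 D14053 (iv D10803) (iv F35781)
theorem F46033 : act 4 n14053 = n11296 := d18_2 D10801 D14053 (iv D11296) (iv D8663) (iv F27771)
def n14054 : Q := act 5 n10801
theorem D14054 : act 5 n10801 = n14054 := rfl
theorem F46034 : act 0 n14054 = n10840 := d4_1 D14054 (iv D10840) (iv F35780)
theorem F46035 : act 1 n14054 = n10804 := d10_1 D14054 (iv D10804) (iv F35781)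
def n14055 : Q := act 6 n10801
theorem D14055 : act 6 n10801 = n14055 := rfl
theorem F46036 : act 0 n14055 = n10841 := d5_1 D14055 (iv D10841) (iv F35780)
theorem F46037 : act 1 n14055 = n10805 := d11_1 D14055 (iv D10805) (iv F35781)
theorem F46038 : act 4 n14055 = n10802 := d23_1 D14055 (iv D10802) D10801
def n14056 : Q := act 2 n10802
theorem D14056 : act 2 n10802 = n14056 := rfl
theorem F46039 : act 0 n14056 = n10842 := d1_1 D14056 (iv D10842) (iv F35782)
theorem F46040 : act 1 n14056 = n14056 := d7_1 D14056 (iv D14056) F35783 F27775 (iv F35783)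
def n14057 : Q := act 7 n10802
theorem D14057 : act 7 n10802 = n14057 := rfl
theorem F46041 : act 0 n14057 = n10843 := d6_1 D14057 (iv D10843) (iv F35782)
theorem F46042 : act 1 n14057 = n10806 := d12_1 D14057 (iv D10806) (iv F35783)
theorem F46043 : act 3 n14057 = n11300 := d21_1 D14057 (iv D11300) (iv F35784)
def n14058 : Q := act 5 n10803
theorem D14058 : act 5 n10803 = n14058 := rfl
theorem F46044 : act 0 n14058 = n10807 := d4_1 D14058 (iv D10807) (iv F35785)
theorem F46045 : act 2 n14058 = n14058 := d15_1 D14058 (iv D14058) F35786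
theorem F46046 : act 3 n14058 = n10804 := d19_1 D14058 (iv D10804) D10803
def n14059 : Q := act 6 n10803
theorem D14059 : act 6 n10803 = n14059 := rfl
theorem F46047 : act 0 n14059 = n10808 := d5_1 D14059 (iv D10808) (iv F35785)
theorem F46048 : act 3 n14059 = n10805 := d20_1 D14059 (iv D10805) D10803
theorem F46049 : act 4 n14059 = n11302 := d23_1 D14059 (iv D11302) (iv F35787)
def n14060 : Q := act 6 n10804
theorem D14060 : act 6 n10804 = n14060 := rfl
theorem F46050 : act 0 n14060 = n10809 := d5_1 D14060 (iv D10809) (iv F35788)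
theorem F46051 : act 2 n14060 = n14060 := d16_1 D14060 (iv D14060) F35789 F27779 (iv F35789)
theorem F46052 : act 5 n14060 = n10805 := d25_1 D14060 (iv D10805) D10804
def n14061 : Q := act 7 n10805
theorem D14061 : act 7 n10805 = n14061 := rfl
theorem F46053 : act 0 n14061 = n10810 := d6_1 D14061 (iv D10810) (iv F35790)
theorem F46054 : act 2 n14061 = n14061 := d17_1 D14061 (iv D14061) F35791
theorem F46055 : act 4 n14061 = n10806 := d24_1 D14061 (iv D10806) (iv F35792)
def n14063 : Q := act 6 n10807
theorem D14063 : act 6 n10807 = n14063 := rfl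
theorem F46059 : act 1 n14063 = n10849 := d11_1 D14063 (iv D10849) (iv F35796)
theorem F46060 : act 3 n14063 = n10809 := d20_1 D14063 (iv D10809) (iv F35798)
theorem F46061 : act 5 n14063 = n10808 := d25_1 D14063 (iv D10808) D10807
def n14064 : Q := act 2 n10808
theorem D14064 : act 2 n10808 = n14064 := rfl
theorem F46064 : act 4 n14064 = n11307 := d14_2 (iv F35801) D14064 (iv D11307)
def n14065 : Q := act 7 n10808
theorem D14065 : act 7 n10808 = n14065 := rfl
theorem F46067 : act 3 n14065 = n10810 := d21_1 D14065 (iv D10810) (iv F35800)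
def n14066 : Q := act 7 n10809
theorem D14066 : act 7 n10809 = n14066 := rfl
theorem F46071 : act 5 n14066 = n10810 := d26_1 D14066 (iv D10810) (iv F35804)
def n14067 : Q := act 4 n10811
theorem D14067 : act 4 n10811 = n14067 := rfl
theorem F46072 : act 1 n14067 = n10812 := d9_1 D14067 (iv D10812) D10811
theorem F46073 : act 7 n14067 = n10819 := d24_2 (iv F35810) D14067 (iv D10819)
def n14068 : Q := act 6 n10811
theorem D14068 : act 6 n10811 = n14068 := rfl
theorem F46074 : act 1 n14068 = n10813 := d11_1 D14068 (iv D10813) D10811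
theorem F46076 : act 5 n14068 = n10830 := d25_1 D14068 (iv D10830) (iv F35809)
def n14069 : Q := act 3 n10812
theorem D14069 : act 3 n10812 = n14069 := rfl
theorem F46077 : act 0 n14069 = n10815 := d2_1 D14069 (iv D10815) (iv F35811)
theorem F46080 : act 7 n14069 = n10821 := d21_2 (iv F35813) D14069 (iv D10821)
def n14070 : Q := act 5 n10812
theorem D14070 : act 5 n10812 = n14070 := rfl
theorem F46084 : act 7 n14070 = n10822 := d26_2 (iv F35813) D14070 (iv D10822)
def n14071 : Q := act 6 n10812
theorem D14071 : act 6 n10812 = n14071 := rfl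
theorem F46087 : act 4 n14071 = n10813 := d23_1 D14071 (iv D10813) D10812
def n14072 : Q := act 7 n10813
theorem D14072 : act 7 n10813 = n14072 := rfl
def n14073 : Q := act 5 n10815
theorem D14073 : act 5 n10815 = n14073 := rfl
theorem F46094 : act 3 n14073 = n10816 := d19_1 D14073 (iv D10816) D10815
theorem F46095 : act 7 n14073 = n10825 := d26_2 (iv F35825) D14073 (iv D10825)
def n14075 : Q := act 6 n10816
theorem D14075 : act 6 n10816 = n14075 := rfl
def n14077 : Q := act 3 n10819
theorem D14077 : act 3 n10819 = n14077 := rfl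
theorem F46104 : act 1 n14077 = n10821 := d8_1 D14077 (iv D10821) (iv F35835)
theorem F46105 : act 4 n14077 = n11320 := d18_2 D10819 D14077 (iv D11320) (iv D8681) (iv F27809)
def n14078 : Q := act 5 n10819
theorem D14078 : act 5 n10819 = n14078 := rfl
theorem F46106 : act 1 n14078 = n10822 := d10_1 D14078 (iv D10822) (iv F35835)
theorem F46107 : act 4 n14078 = n10840 := d22_1 D14078 (iv D10840) (iv D8320) (iv F27810) D10819
def n14079 : Q := act 6 n10819
theorem D14079 : act 6 n10819 = n14079 := rfl
theorem F46108 : act 1 n14079 = n10823 := d11_1 D14079 (iv D10823) (iv F35835)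
theorem F46109 : act 4 n14079 = n10820 := d23_1 D14079 (iv D10820) D10819
def n14080 : Q := act 2 n10820
theorem D14080 : act 2 n10820 = n14080 := rfl
theorem F46110 : act 1 n14080 = n10868 := d7_1 D14080 (iv D10868) F27925 (iv F27814) (iv F35836)
theorem F46111 : act 5 n14080 = n10842 := d15_2 (iv F35838) D14080 (iv D10842)
def n14081 : Q := act 7 n10820
theorem D14081 : act 7 n10820 = n14081 := rfl
theorem F46112 : act 1 n14081 = n10824 := d12_1 D14081 (iv D10824) (iv F35836)
theorem F46114 : act 5 n14081 = n10843 := d26_1 D14081 (iv D10843) (iv F35838)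
def n14082 : Q := act 5 n10821
theorem D14082 : act 5 n10821 = n14082 := rfl
theorem F46115 : act 0 n14082 = n10825 := d4_1 D14082 (iv D10825) (iv F35839)
theorem F46116 : act 2 n14082 = n14082 := d15_1 D14082 (iv D14082) F35840
theorem F46117 : act 3 n14082 = n10822 := d19_1 D14082 (iv D10822) D10821
def n14083 : Q := act 6 n10821
theorem D14083 : act 6 n10821 = n14083 := rfl
theorem F46119 : act 3 n14083 = n10823 := d20_1 D14083 (iv D10823) D10821
theorem F46120 : act 4 n14083 = n11326 := d23_1 D14083 (iv D11326) (iv F35841)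
def n14084 : Q := act 6 n10822
theorem D14084 : act 6 n10822 = n14084 := rfl
theorem F46121 : act 0 n14084 = n10827 := d5_1 D14084 (iv D10827) (iv F35842)
theorem F46122 : act 2 n14084 = n10872 := d16_1 D14084 (iv D10872) F27933 (iv F27820) (iv F35843)
theorem F46123 : act 4 n14084 = n10846 := d23_1 D14084 (iv D10846) (iv F35844)
theorem F46124 : act 5 n14084 = n10823 := d25_1 D14084 (iv D10823) D10822
def n14085 : Q := act 7 n10823
theorem D14085 : act 7 n10823 = n14085 := rfl
theorem F46125 : act 0 n14085 = n10828 := d6_1 D14085 (iv D10828) (iv F35845)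
theorem F46126 : act 2 n14085 = n10873 := d17_1 D14085 (iv D10873) (iv F35846)
theorem F46127 : act 4 n14085 = n10824 := d24_1 D14085 (iv D10824) (iv F35847)
def n14086 : Q := act 4 n10825
theorem D14086 : act 4 n10825 = n14086 := rfl
theorem F46130 : act 5 n14086 = n11329 := d22_2 D10825 D14086 (iv D11329) (iv D8687) (iv F27822)
def n14087 : Q := act 6 n10825
theorem D14087 : act 6 n10825 = n14087 := rfl
theorem F46131 : act 3 n14087 = n10827 := d20_1 D14087 (iv D10827) (iv F35853)
theorem F46132 : act 5 n14087 = n10826 := d25_1 D14087 (iv D10826) D10825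
def n14089 : Q := act 7 n10826
theorem D14089 : act 7 n10826 = n14089 := rfl
theorem F46136 : act 3 n14089 = n10828 := d21_1 D14089 (iv D10828) (iv F35854)
def n14090 : Q := act 7 n10827
theorem D14090 : act 7 n10827 = n14090 := rfl
theorem F46138 : act 2 n14090 = n10877 := d17_1 D14090 (iv D10877) (iv F35856)
theorem F46139 : act 4 n14090 = n10851 := d24_1 D14090 (iv D10851) (iv F35857)
def n14091 : Q := act 3 n10829
theorem D14091 : act 3 n10829 = n14091 := rfl
theorem F46141 : act 1 n14091 = n10831 := d8_1 D14091 (iv D10831) (iv F35861)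
theorem F46142 : act 4 n14091 = n11334 := d18_2 D10829 D14091 (iv D11334) (iv D8691) (iv F27830)
theorem F46143 : act 7 n14091 = n10839 := d21_2 (iv F35862) D14091 (iv D10839)
def n14092 : Q := act 5 n10829
theorem D14092 : act 5 n10829 = n14092 := rfl
theorem F46144 : act 1 n14092 = n10832 := d10_1 D14092 (iv D10832) (iv F35861)
theorem F46145 : act 7 n14092 = n10840 := d26_2 (iv F35862) D14092 (iv D10840)
def n14093 : Q := act 6 n10829
theorem D14093 : act 6 n10829 = n14093 := rfl
theorem F46146 : act 1 n14093 = n10833 := d11_1 D14093 (iv D10833) (iv F35861)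
theorem F46147 : act 4 n14093 = n10830 := d23_1 D14093 (iv D10830) D10829
def n14094 : Q := act 2 n10830
theorem D14094 : act 2 n10830 = n14094 := rfl
theorem F46148 : act 1 n14094 = n14094 := d7_1 D14094 (iv D14094) F35863 F27836 (iv F35863)
def n14095 : Q := act 7 n10830
theorem D14095 : act 7 n10830 = n14095 := rfl
theorem F46149 : act 1 n14095 = n10834 := d12_1 D14095 (iv D10834) (iv F35863)
theorem F46150 : act 3 n14095 = n11338 := d21_1 D14095 (iv D11338) (iv F35864)
theorem F46151 : act 6 n14095 = n10843 := d27_1 D14095 (iv D10843) (iv D8321) (iv F27831) D10830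
def n14096 : Q := act 5 n10831
theorem D14096 : act 5 n10831 = n14096 := rfl
theorem F46152 : act 0 n14096 = n10835 := d4_1 D14096 (iv D10835) (iv F35865)
theorem F46154 : act 3 n14096 = n10832 := d19_1 D14096 (iv D10832) D10831
theorem F46155 : act 7 n14096 = n10844 := d26_2 (iv F35868) D14096 (iv D10844)
def n14097 : Q := act 6 n10831
theorem D14097 : act 6 n10831 = n14097 := rfl
theorem F46157 : act 3 n14097 = n10833 := d20_1 D14097 (iv D10833) D10831
theorem F46158 : act 4 n14097 = n11340 := d23_1 D14097 (iv D11340) (iv F35867)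
def n14098 : Q := act 6 n10832
theorem D14098 : act 6 n10832 = n14098 := rfl
def n14099 : Q := act 7 n10833
theorem D14099 : act 7 n10833 = n14099 := rfl
theorem F46164 : act 4 n14099 = n10834 := d24_1 D14099 (iv D10834) (iv F35874)
theorem F46165 : act 6 n14099 = n10847 := d27_1 D14099 (iv D10847) (iv D8324) (iv F27834) D10833
def n14100 : Q := act 4 n10835
theorem D14100 : act 4 n10835 = n14100 := rfl
theorem F46167 : act 5 n14100 = n11343 := d22_2 D10835 D14100 (iv D11343) (iv D8697) (iv F27843)
def n14101 : Q := act 6 n10835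
theorem D14101 : act 6 n10835 = n14101 := rfl
theorem F46169 : act 3 n14101 = n10837 := d20_1 D14101 (iv D10837) (iv F35880)
def n14102 : Q := act 2 n10836
theorem D14102 : act 2 n10836 = n14102 := rfl
theorem F46172 : act 4 n14102 = n11345 := d14_2 (iv F35883) D14102 (iv D11345)
theorem F46173 : act 6 n14102 = n10861 := d16_2 D10836 D14102 (iv D10861) (iv D8336) (iv F27842)
def n14103 : Q := act 7 n10836
theorem D14103 : act 7 n10836 = n14103 := rfl
theorem F46176 : act 6 n14103 = n10850 := d27_1 D14103 (iv D10850) (iv D8327) (iv F27844) D10836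
def n14104 : Q := act 7 n10837
theorem D14104 : act 7 n10837 = n14104 := rfl
theorem F46179 : act 6 n14104 = n10851 := d27_1 D14104 (iv D10851) (iv D8328) (iv F27846) D10837
def n14105 : Q := act 2 n10839
theorem D14105 : act 2 n10839 = n14105 := rfl
theorem F46180 : act 1 n14105 = n10862 := d7_1 D14105 (iv D10862) F27907 (iv F27856) (iv F35889)
theorem F46181 : act 4 n14105 = n11348 := d14_2 (iv F35890) D14105 (iv D11348)
def n14106 : Q := act 5 n10839
theorem D14106 : act 5 n10839 = n14106 := rfl
theorem F46182 : act 1 n14106 = n10844 := d10_1 D14106 (iv D10844) (iv F35889)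
theorem F46183 : act 3 n14106 = n10840 := d19_1 D14106 (iv D10840) D10839
def n14107 : Q := act 6 n10839
theorem D14107 : act 6 n10839 = n14107 := rfl
theorem F46184 : act 1 n14107 = n10845 := d11_1 D14107 (iv D10845) (iv F35889)
theorem F46185 : act 3 n14107 = n10841 := d20_1 D14107 (iv D10841) D10839
theorem F46186 : act 4 n14107 = n11350 := d23_1 D14107 (iv D11350) (iv F35890)
def n14108 : Q := act 6 n10840
theorem D14108 : act 6 n10840 = n14108 := rfl
theorem F46187 : act 1 n14108 = n10846 := d11_1 D14108 (iv D10846) (iv F35891)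
theorem F46188 : act 5 n14108 = n10841 := d25_1 D14108 (iv D10841) D10840
def n14109 : Q := act 2 n10841
theorem D14109 : act 2 n10841 = n14109 := rfl
theorem F46189 : act 1 n14109 = n10879 := d7_1 D14109 (iv D10879) F27961 (iv F27861) (iv F35892)
theorem F46190 : act 4 n14109 = n10842 := d14_2 (iv F35893) D14109 (iv D10842)
def n14110 : Q := act 7 n10841
theorem D14110 : act 7 n10841 = n14110 := rfl
theorem F46191 : act 1 n14110 = n10847 := d12_1 D14110 (iv D10847) (iv F35892)
theorem F46192 : act 4 n14110 = n10843 := d24_1 D14110 (iv D10843) (iv F35893)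
def n14111 : Q := act 3 n10842
theorem D14111 : act 3 n10842 = n14111 := rfl
theorem F46193 : act 1 n14111 = n10881 := d8_1 D14111 (iv D10881) (iv F35894)
theorem F46194 : act 2 n14111 = n11354 := d13_1 D14111 (iv D11354) (iv D8704) (iv F27854) D10842
def n14112 : Q := act 7 n10842
theorem D14112 : act 7 n10842 = n14112 := rfl
theorem F46195 : act 1 n14112 = n10882 := d12_1 D14112 (iv D10882) (iv F35894)
theorem F46196 : act 2 n14112 = n10843 := d17_1 D14112 (iv D10843) D10842
def n14114 : Q := act 6 n10844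
theorem D14114 : act 6 n10844 = n14114 := rfl
theorem F46200 : act 0 n14114 = n10849 := d5_1 D14114 (iv D10849) (iv F35897)
theorem F46203 : act 5 n14114 = n10845 := d25_1 D14114 (iv D10845) D10844
def n14115 : Q := act 7 n10845
theorem D14115 : act 7 n10845 = n14115 := rfl
theorem F46206 : act 3 n14115 = n10847 := d21_1 D14115 (iv D10847) (iv F35902)
theorem F46207 : act 4 n14115 = n11358 := d24_1 D14115 (iv D11358) (iv F35903)
def n14116 : Q := act 7 n10846
theorem D14116 : act 7 n10846 = n14116 := rfl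
def n14118 : Q := act 7 n10849
theorem D14118 : act 7 n10849 = n14118 := rfl
def n14119 : Q := act 2 n10852
theorem D14119 : act 2 n10852 = n14119 := rfl
theorem F46217 : act 0 n14119 = n14119 := d1_1 D14119 (iv D14119) F35920
theorem F46218 : act 4 n14119 = n11362 := d14_2 (iv F35922) D14119 (iv D11362)
theorem F46219 : act 7 n14119 = n10862 := d17_2 (iv F35923) D14119 (iv D10862)
def n14120 : Q := act 5 n10852
theorem D14120 : act 5 n10852 = n14120 := rfl
theorem F46222 : act 3 n14120 = n10853 := d19_1 D14120 (iv D10853) D10852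
theorem F46223 : act 7 n14120 = n10863 := d26_2 (iv F35923) D14120 (iv D10863)
def n14121 : Q := act 6 n10852
theorem D14121 : act 6 n10852 = n14121 := rfl
theorem F46225 : act 1 n14121 = n10857 := d11_1 D14121 (iv D10857) (iv F35921)
theorem F46226 : act 3 n14121 = n10854 := d20_1 D14121 (iv D10854) D10852
def n14122 : Q := act 6 n10853
theorem D14122 : act 6 n10853 = n14122 := rfl
theorem F46232 : act 5 n14122 = n10854 := d25_1 D14122 (iv D10854) D10853
def n14123 : Q := act 2 n10854
theorem D14123 : act 2 n10854 = n14123 := rfl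
theorem F46234 : act 0 n14123 = n14123 := d1_1 D14123 (iv D14123) F35928
theorem F46235 : act 1 n14123 = n14123 := d7_1 D14123 (iv D14123) F35929 F27891 (iv F35929)
theorem F46236 : act 4 n14123 = n10855 := d14_2 (iv F35930) D14123 (iv D10855)
theorem F46237 : act 7 n14123 = n14123 := d17_2 F35931 D14123 (iv D14123)
def n14124 : Q := act 3 n10855
theorem D14124 : act 3 n10855 = n14124 := rfl
theorem F46240 : act 2 n14124 = n11367 := d13_1 D14124 (iv D11367) (iv D8717) (iv F27880) D10855
def n14125 : Q := act 4 n10856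
theorem D14125 : act 4 n10856 = n14125 := rfl
theorem F46245 : act 5 n14125 = n11368 := d22_2 D10856 D14125 (iv D11368) (iv D8718) (iv F27884)
def n14127 : Q := act 2 n10857
theorem D14127 : act 2 n10857 = n14127 := rfl
def n14128 : Q := act 6 n10859
theorem D14128 : act 6 n10859 = n14128 := rfl
theorem F46257 : act 4 n14128 = n10860 := d23_1 D14128 (iv D10860) D10859
theorem F46258 : act 5 n14128 = n11371 := d25_1 D14128 (iv D11371) (iv F35950)
def n14131 : Q := act 5 n10862
theorem D14131 : act 5 n10862 = n14131 := rfl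
theorem F46267 : act 0 n14131 = n14131 := d4_1 D14131 (iv D14131) F35959
theorem F46268 : act 2 n14131 = n10863 := d15_1 D14131 (iv D10863) D10862
def n14132 : Q := act 6 n10862
theorem D14132 : act 6 n10862 = n14132 := rfl
theorem F46269 : act 0 n14132 = n14132 := d5_1 D14132 (iv D14132) F35959
theorem F46270 : act 2 n14132 = n14132 := d16_1 D14132 (iv D14132) (iv D10862) F27909 D10862
theorem F46271 : act 4 n14132 = n11375 := d23_1 D14132 (iv D11375) (iv F35960)
def n14133 : Q := act 4 n10863
theorem D14133 : act 4 n10863 = n14133 := rfl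
theorem F46275 : act 5 n14133 = n11376 := d22_2 D10863 D14133 (iv D11376) (iv D8725) (iv F27908)
def n14134 : Q := act 2 n10865
theorem D14134 : act 2 n10865 = n14134 := rfl
theorem F46277 : act 0 n14134 = n14134 := d1_1 D14134 (iv D14134) F35969
theorem F46278 : act 1 n14134 = n14134 := d7_1 D14134 (iv D14134) F35970 F27929 (iv F35970)
theorem F46279 : act 4 n14134 = n10884 := d14_2 (iv F35971) D14134 (iv D10884)
theorem F46280 : act 7 n14134 = n14134 := d17_2 F35972 D14134 (iv D14134)
def n14135 : Q := act 5 n10865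
theorem D14135 : act 5 n10865 = n14135 := rfl
theorem F46281 : act 0 n14135 = n14135 := d4_1 D14135 (iv D14135) F35969
theorem F46282 : act 1 n14135 = n10870 := d10_1 D14135 (iv D10870) (iv F35970)
theorem F46283 : act 3 n14135 = n10866 := d19_1 D14135 (iv D10866) D10865
theorem F46284 : act 4 n14135 = n14135 := d22_1 D14135 (iv D14135) F35971 F27982 (iv F35971)
theorem F46285 : act 7 n14135 = n14135 := d26_2 F35972 D14135 (iv D14135)
def n14136 : Q := act 6 n10865
theorem D14136 : act 6 n10865 = n14136 := rfl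
theorem F46288 : act 3 n14136 = n10867 := d20_1 D14136 (iv D10867) D10865
theorem F46289 : act 4 n14136 = n10885 := d23_1 D14136 (iv D10885) (iv F35971)
def n14137 : Q := act 6 n10866
theorem D14137 : act 6 n10866 = n14137 := rfl
theorem F46290 : act 0 n14137 = n14137 := d5_1 D14137 (iv D14137) F35973
theorem F46291 : act 1 n14137 = n10872 := d11_1 D14137 (iv D10872) (iv F35974)
theorem F46292 : act 4 n14137 = n10878 := d23_1 D14137 (iv D10878) (iv F35975)
theorem F46293 : act 5 n14137 = n10867 := d25_1 D14137 (iv D10867) D10866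
def n14138 : Q := act 2 n10867
theorem D14138 : act 2 n10867 = n14138 := rfl
theorem F46294 : act 0 n14138 = n14138 := d1_1 D14138 (iv D14138) F35977
theorem F46295 : act 4 n14138 = n10868 := d14_2 (iv F35979) D14138 (iv D10868)
def n14139 : Q := act 7 n10867
theorem D14139 : act 7 n10867 = n14139 := rfl
theorem F46296 : act 0 n14139 = n14139 := d6_1 D14139 (iv D14139) F35977
theorem F46297 : act 1 n14139 = n10873 := d12_1 D14139 (iv D10873) (iv F35978)
theorem F46298 : act 4 n14139 = n10869 := d24_1 D14139 (iv D10869) (iv F35979)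
theorem F46299 : act 6 n14139 = n14139 := d27_1 D14139 (iv D14139) (iv D10867) F27923 D10867
def n14140 : Q := act 3 n10868
theorem D14140 : act 3 n10868 = n14140 := rfl
theorem F46301 : act 2 n14140 = n10888 := d13_1 D14140 (iv D10888) (iv D8361) (iv F27926) D10868
theorem F46302 : act 5 n14140 = n10881 := d19_2 (iv F35981) D14140 (iv D10881)
def n14141 : Q := act 7 n10868
theorem D14141 : act 7 n10868 = n14141 := rfl
theorem F46303 : act 0 n14141 = n14141 := d6_1 D14141 (iv D14141) F35980
theorem F46304 : act 2 n14141 = n10869 := d17_1 D14141 (iv D10869) D10868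
theorem F46305 : act 5 n14141 = n10882 := d26_1 D14141 (iv D10882) (iv F35981)
def n14142 : Q := act 6 n10870
theorem D14142 : act 6 n10870 = n14142 := rfl
theorem F46307 : act 3 n14142 = n10872 := d20_1 D14142 (iv D10872) (iv F35989)
theorem F46309 : act 5 n14142 = n10871 := d25_1 D14142 (iv D10871) D10870
def n14144 : Q := act 7 n10871
theorem D14144 : act 7 n10871 = n14144 := rfl
theorem F46314 : act 3 n14144 = n10873 := d21_1 D14144 (iv D10873) (iv F35993)
theorem F46315 : act 4 n14144 = n10891 := d24_1 D14144 (iv D10891) (iv F35994)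
theorem F46316 : act 6 n14144 = n14144 := d27_1 D14144 (iv D14144) (iv D10871) F27931 D10871
def n14145 : Q := act 7 n10872
theorem D14145 : act 7 n10872 = n14145 := rfl
theorem F46317 : act 0 n14145 = n10877 := d6_1 D14145 (iv D10877) (iv F35995)
theorem F46318 : act 4 n14145 = n10883 := d24_1 D14145 (iv D10883) (iv F35996)
theorem F46319 : act 5 n14145 = n10873 := d26_1 D14145 (iv D10873) (iv F35997)
theorem F46320 : act 6 n14145 = n14145 := d27_1 D14145 (iv D14145) (iv D10872) F27935 D10872
def n14147 : Q := act 7 n10874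
theorem D14147 : act 7 n10874 = n14147 := rfl
theorem F46325 : act 3 n14147 = n10877 := d21_1 D14147 (iv D10877) (iv F36002)
theorem F46327 : act 5 n14147 = n10876 := d26_1 D14147 (iv D10876) (iv F36004)
theorem F46328 : act 6 n14147 = n14147 := d27_1 D14147 (iv D14147) (iv D10874) F27946 D10874
def n14149 : Q := act 7 n10875
theorem D14149 : act 7 n10875 = n14149 := rfl
theorem F46332 : act 2 n14149 = n10876 := d17_1 D14149 (iv D10876) D10875
theorem F46333 : act 4 n14149 = n10893 := d24_1 D14149 (iv D10893) (iv F36005)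
def n14150 : Q := act 2 n10878
theorem D14150 : act 2 n10878 = n14150 := rfl
theorem F46334 : act 0 n14150 = n14150 := d1_1 D14150 (iv D14150) F36015
theorem F46335 : act 5 n14150 = n10879 := d15_2 (iv F36018) D14150 (iv D10879)
def n14151 : Q := act 7 n10878
theorem D14151 : act 7 n10878 = n14151 := rfl
theorem F46336 : act 0 n14151 = n14151 := d6_1 D14151 (iv D14151) F36015
theorem F46337 : act 1 n14151 = n10883 := d12_1 D14151 (iv D10883) (iv F36016)
theorem F46338 : act 3 n14151 = n14151 := d21_1 D14151 (iv D14151) F36017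
theorem F46339 : act 5 n14151 = n10880 := d26_1 D14151 (iv D10880) (iv F36018)
theorem F46340 : act 6 n14151 = n14151 := d27_1 D14151 (iv D14151) (iv D10878) F27959 D10878
def n14152 : Q := act 3 n10879
theorem D14152 : act 3 n10879 = n14152 := rfl
theorem F46341 : act 0 n14152 = n14152 := d2_1 D14152 (iv D14152) F36019
theorem F46342 : act 2 n14152 = n14152 := d13_1 D14152 (iv D14152) (iv D10879) F27962 D10879
def n14153 : Q := act 7 n10879
theorem D14153 : act 7 n10879 = n14153 := rfl
theorem F46343 : act 0 n14153 = n14153 := d6_1 D14153 (iv D14153) F36019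
theorem F46344 : act 2 n14153 = n10880 := d17_1 D14153 (iv D10880) D10879
theorem F46345 : act 4 n14153 = n10882 := d24_1 D14153 (iv D10882) (iv F36020)
def n14154 : Q := act 4 n10881
theorem D14154 : act 4 n10881 = n14154 := rfl
def n14155 : Q := act 7 n10881
theorem D14155 : act 7 n10881 = n14155 := rfl
theorem F46350 : act 3 n14155 = n10882 := d21_1 D14155 (iv D10882) D10881
def n14156 : Q := act 6 n10882
theorem D14156 : act 6 n10882 = n14156 := rfl
def n14157 : Q := act 6 n10884
theorem D14157 : act 6 n10884 = n14157 := rfl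
def n14159 : Q := act 7 n10885
theorem D14159 : act 7 n10885 = n14159 := rfl
theorem F46360 : act 1 n14159 = n10891 := d12_1 D14159 (iv D10891) (iv F36040)
theorem F46363 : act 6 n14159 = n14159 := d27_1 D14159 (iv D14159) (iv D10885) F27983 D10885
def n14161 : Q := act 7 n10886
theorem D14161 : act 7 n10886 = n14161 := rfl
theorem F46370 : act 2 n14161 = n10887 := d17_1 D14161 (iv D10887) D10886
def n14164 : Q := act 6 n10889
theorem D14164 : act 6 n10889 = n14164 := rfl
theorem F46382 : act 2 n14164 = n14164 := d16_1 D14164 (iv D14164) F36059 F27995 (iv F36059)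
def n14166 : Q := act 7 n10890
theorem D14166 : act 7 n10890 = n14166 := rfl
theorem F46389 : act 2 n14166 = n10891 := d17_1 D14166 (iv D10891) D10890
theorem F46390 : act 3 n14166 = n11409 := d21_1 D14166 (iv D11409) (iv F36062)
def n14169 : Q := act 6 n10893
theorem D14169 : act 6 n10893 = n14169 := rfl
theorem F46400 : act 2 n14169 = n14169 := d16_1 D14169 (iv D14169) F36073 F28010 (iv F36073)
def n14170 : Q := act 5 n10894
theorem D14170 : act 5 n10894 = n14170 := rfl
def n14171 : Q := act 7 n10894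
theorem D14171 : act 7 n10894 = n14171 := rfl
def n14172 : Q := act 6 n10895
theorem D14172 : act 6 n10895 = n14172 := rfl
theorem F46414 : act 3 n14172 = n10896 := d20_1 D14172 (iv D10896) (iv F36082)
def n14210 : Q := act 2 n10923
theorem D14210 : act 2 n10923 = n14210 := rfl
theorem F46543 : act 3 n14210 = n11435 := d13_2 D10923 D14210 (iv D11435) (iv D8773) (iv F28075)
def n14230 : Q := act 1 n10938
theorem D14230 : act 1 n10938 = n14230 := rfl
theorem F46602 : act 3 n14230 = n11445 := d8_2 (iv F36220) D14230 (iv D11445)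
def n14232 : Q := act 6 n10938
theorem D14232 : act 6 n10938 = n14232 := rfl
theorem F46606 : act 2 n14232 = n10988 := d16_1 D14232 (iv D10988) (iv D8433) (iv F28108) D10938
theorem F46607 : act 3 n14232 = n11447 := d20_1 D14232 (iv D11447) (iv F36220)
def n14242 : Q := act 0 n10946
theorem D14242 : act 0 n10946 = n14242 := rfl
theorem F46635 : act 4 n14242 = n10959 := d3_2 (iv F36243) D14242 (iv D10959)
theorem F46637 : act 6 n14242 = n10948 := d5_2 (iv F36245) D14242 (iv D10948)
def n14257 : Q := act 0 n10957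
theorem D14257 : act 0 n10957 = n14257 := rfl
theorem F46678 : act 5 n14257 = n10974 := d4_2 (iv F36274) D14257 (iv D10974)
theorem F46679 : act 6 n14257 = n10997 := d5_2 (iv F36275) D14257 (iv D10997)
def n14260 : Q := act 3 n10959
theorem D14260 : act 3 n10959 = n14260 := rfl
theorem F46685 : act 0 n14260 = n10960 := d2_1 D14260 (iv D10960) D10959
theorem F46687 : act 6 n14260 = n10962 := d20_2 (iv F36281) D14260 (iv D10962)
def n14261 : Q := act 2 n10960
theorem D14261 : act 2 n10960 = n14261 := rfl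
def n14262 : Q := act 4 n10960
theorem D14262 : act 4 n10960 = n14262 := rfl
theorem F46691 : act 6 n14262 = n10964 := d23_2 (iv F36284) D14262 (iv D10964)
def n14263 : Q := act 5 n10961
theorem D14263 : act 5 n10961 = n14263 := rfl
theorem F46692 : act 4 n14263 = n10980 := d22_1 D14263 (iv D10980) (iv D8428) (iv F28156) D10961
theorem F46693 : act 6 n14263 = n10965 := d25_2 (iv F36285) D14263 (iv D10965)
def n14264 : Q := act 2 n10962
theorem D14264 : act 2 n10962 = n14264 := rfl
theorem F46694 : act 0 n14264 = n10963 := d1_1 D14264 (iv D10963) (iv F36286)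
theorem F46695 : act 3 n14264 = n11102 := d13_2 D10962 D14264 (iv D11102) (iv D8516) (iv F28158)
theorem F46697 : act 7 n14264 = n10966 := d17_2 (iv F36288) D14264 (iv D10966)
def n14266 : Q := act 4 n10963
theorem D14266 : act 4 n10963 = n14266 := rfl
theorem F46701 : act 2 n14266 = n10964 := d14_1 D14266 (iv D10964) D10963
def n14267 : Q := act 6 n10963
theorem D14267 : act 6 n10963 = n14267 := rfl
theorem F46703 : act 1 n14267 = n11007 := d11_1 D14267 (iv D11007) (iv F36289)
theorem F46705 : act 5 n14267 = n10984 := d25_1 D14267 (iv D10984) (iv F36291)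
def n14268 : Q := act 5 n10964
theorem D14268 : act 5 n10964 = n14268 := rfl
def n14269 : Q := act 1 n10966
theorem D14269 : act 1 n10966 = n14269 := rfl
theorem F46709 : act 0 n14269 = n11009 := d0_1 D14269 (iv D11009) F28248 (iv F28168) (iv F36298)
theorem F46710 : act 3 n14269 = n11107 := d8_2 (iv F36299) D14269 (iv D11107)
theorem F46711 : act 5 n14269 = n10986 := d10_2 (iv F36300) D14269 (iv D10986)
def n14270 : Q := act 4 n10966
theorem D14270 : act 4 n10966 = n14270 := rfl
theorem F46712 : act 0 n14270 = n10968 := d3_1 D14270 (iv D10968) (iv F36298)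
def n14271 : Q := act 6 n10966
theorem D14271 : act 6 n10966 = n14271 := rfl
theorem F46714 : act 0 n14271 = n10969 := d5_1 D14271 (iv D10969) (iv F36298)
theorem F46716 : act 5 n14271 = n10988 := d25_1 D14271 (iv D10988) (iv F36300)
def n14275 : Q := act 6 n10968
theorem D14275 : act 6 n10968 = n14275 := rfl
theorem F46725 : act 4 n14275 = n10969 := d23_1 D14275 (iv D10969) D10968
def n14276 : Q := act 7 n10969
theorem D14276 : act 7 n10969 = n14276 := rfl
def n14282 : Q := act 3 n10974
theorem D14282 : act 3 n10974 = n14282 := rfl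
theorem F46744 : act 6 n14282 = n11022 := d20_2 (iv F36317) D14282 (iv D11022)
def n14283 : Q := act 2 n10975
theorem D14283 : act 2 n10975 = n14283 := rfl
def n14285 : Q := act 5 n10976
theorem D14285 : act 5 n10976 = n14285 := rfl
theorem F46749 : act 2 n14285 = n10980 := d15_1 D14285 (iv D10980) (iv F36320)
theorem F46750 : act 6 n14285 = n11025 := d25_2 (iv F36321) D14285 (iv D11025)
def n14286 : Q := act 2 n10977
theorem D14286 : act 2 n10977 = n14286 := rfl
theorem F46751 : act 0 n14286 = n10978 := d1_1 D14286 (iv D10978) (iv F36322)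
def n14287 : Q := act 4 n10977
theorem D14287 : act 4 n10977 = n14287 := rfl
theorem F46753 : act 0 n14287 = n10979 := d3_1 D14287 (iv D10979) (iv F36322)
theorem F46755 : act 6 n14287 = n10982 := d23_2 (iv F36323) D14287 (iv D10982)
def n14288 : Q := act 4 n10978
theorem D14288 : act 4 n10978 = n14288 := rfl
theorem F46756 : act 2 n14288 = n10979 := d14_1 D14288 (iv D10979) D10978
def n14289 : Q := act 6 n10978
theorem D14289 : act 6 n10978 = n14289 := rfl
theorem F46757 : act 2 n14289 = n10984 := d16_1 D14289 (iv D10984) (iv D8430) (iv F28187) D10978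
def n14290 : Q := act 5 n10979
theorem D14290 : act 5 n10979 = n14290 := rfl
theorem F46759 : act 1 n14290 = n10980 := d10_1 D14290 (iv D10980) (iv F36325)
theorem F46761 : act 6 n14290 = n10985 := d25_2 (iv F36327) D14290 (iv D10985)
def n14291 : Q := act 1 n10981
theorem D14291 : act 1 n10981 = n14291 := rfl
theorem F46762 : act 0 n14291 = n11031 := d0_1 D14291 (iv D11031) F28287 (iv F28192) (iv F36330)
theorem F46763 : act 3 n14291 = n11115 := d8_2 (iv F36331) D14291 (iv D11115)
theorem F46764 : act 7 n14291 = n10986 := d12_2 (iv F36332) D14291 (iv D10986)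
def n14292 : Q := act 4 n10981
theorem D14292 : act 4 n10981 = n14292 := rfl
theorem F46766 : act 2 n14292 = n10982 := d14_1 D14292 (iv D10982) D10981
theorem F46767 : act 7 n14292 = n10987 := d24_2 (iv F36332) D14292 (iv D10987)
def n14293 : Q := act 6 n10981
theorem D14293 : act 6 n10981 = n14293 := rfl
theorem F46768 : act 0 n14293 = n10984 := d5_1 D14293 (iv D10984) (iv F36330)
theorem F46769 : act 3 n14293 = n11117 := d20_1 D14293 (iv D11117) (iv F36331)
def n14294 : Q := act 5 n10982
theorem D14294 : act 5 n10982 = n14294 := rfl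
def n14295 : Q := act 3 n10983
theorem D14295 : act 3 n10983 = n14295 := rfl
theorem F46776 : act 7 n14295 = n10990 := d21_2 (iv F36338) D14295 (iv D10990)
def n14296 : Q := act 5 n10983
theorem D14296 : act 5 n10983 = n14296 := rfl
theorem F46777 : act 1 n14296 = n11036 := d10_1 D14296 (iv D11036) (iv F36336)
theorem F46778 : act 2 n14296 = n10985 := d15_1 D14296 (iv D10985) (iv F36337)
def n14297 : Q := act 6 n10983
theorem D14297 : act 6 n10983 = n14297 := rfl
theorem F46780 : act 1 n14297 = n11037 := d11_1 D14297 (iv D11037) (iv F36336)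
def n14298 : Q := act 7 n10984
theorem D14298 : act 7 n10984 = n14298 := rfl
def n14299 : Q := act 4 n10986
theorem D14299 : act 4 n10986 = n14299 := rfl
theorem F46785 : act 0 n14299 = n11039 := d3_1 D14299 (iv D11039) (iv F36344)
theorem F46786 : act 1 n14299 = n10987 := d9_1 D14299 (iv D10987) D10986
def n14300 : Q := act 6 n10986
theorem D14300 : act 6 n10986 = n14300 := rfl
theorem F46787 : act 0 n14300 = n11040 := d5_1 D14300 (iv D11040) (iv F36344)
theorem F46788 : act 1 n14300 = n10988 := d11_1 D14300 (iv D10988) D10986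
theorem F46789 : act 3 n14300 = n11124 := d20_1 D14300 (iv D11124) (iv F36345)
def n14301 : Q := act 3 n10987
theorem D14301 : act 3 n10987 = n14301 := rfl
theorem F46792 : act 4 n14301 = n11125 := d18_2 D10987 D14301 (iv D11125) (iv D8531) (iv F28202)
def n14302 : Q := act 5 n10987
theorem D14302 : act 5 n10987 = n14302 := rfl
def n14303 : Q := act 6 n10987
theorem D14303 : act 6 n10987 = n14303 := rfl
theorem F46796 : act 4 n14303 = n10988 := d23_1 D14303 (iv D10988) D10987
def n14304 : Q := act 7 n10988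
theorem D14304 : act 7 n10988 = n14304 := rfl
def n14305 : Q := act 5 n10990
theorem D14305 : act 5 n10990 = n14305 := rfl
def n14314 : Q := act 3 n10997
theorem D14314 : act 3 n10997 = n14314 := rfl
theorem F46824 : act 0 n14314 = n10998 := d2_1 D14314 (iv D10998) D10997
def n14315 : Q := act 2 n10998
theorem D14315 : act 2 n10998 = n14315 := rfl
theorem F46827 : act 1 n14315 = n11001 := d7_1 D14315 (iv D11001) F28229 (iv F28221) (iv F36372)
def n14321 : Q := act 6 n11001
theorem D14321 : act 6 n11001 = n14321 := rfl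
theorem F46846 : act 2 n14321 = n11007 := d16_1 D14321 (iv D11007) (iv D8446) (iv F28231) D11001
theorem F46847 : act 3 n14321 = n12288 := d20_1 D14321 (iv D12288) (iv F36381)
theorem F46848 : act 5 n14321 = n11029 := d25_1 D14321 (iv D11029) (iv F36382)
def n14323 : Q := act 1 n11004
theorem D14323 : act 1 n11004 = n14323 := rfl
theorem F46855 : act 5 n14323 = n11031 := d10_2 (iv F36394) D14323 (iv D11031)
theorem F46856 : act 7 n14323 = n11009 := d12_2 (iv F36395) D14323 (iv D11009)
def n14324 : Q := act 4 n11004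
theorem D14324 : act 4 n11004 = n14324 := rfl
theorem F46859 : act 7 n14324 = n11010 := d24_2 (iv F36395) D14324 (iv D11010)
def n14325 : Q := act 6 n11004
theorem D14325 : act 6 n11004 = n14325 := rfl
theorem F46860 : act 0 n14325 = n11007 := d5_1 D14325 (iv D11007) (iv F36392)
theorem F46862 : act 5 n14325 = n11033 := d25_1 D14325 (iv D11033) (iv F36394)
def n14326 : Q := act 5 n11005
theorem D14326 : act 5 n11005 = n14326 := rfl
theorem F46863 : act 0 n14326 = n11008 := d4_1 D14326 (iv D11008) (iv F36396)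
theorem F46866 : act 7 n14326 = n11012 := d26_2 (iv F36398) D14326 (iv D11012)
def n14328 : Q := act 5 n11006
theorem D14328 : act 5 n11006 = n14328 := rfl
theorem F46871 : act 4 n14328 = n11036 := d22_1 D14328 (iv D11036) (iv D8466) (iv F28240) D11006
def n14329 : Q := act 6 n11006
theorem D14329 : act 6 n11006 = n14329 := rfl
theorem F46873 : act 4 n14329 = n11007 := d23_1 D14329 (iv D11007) D11006
def n14330 : Q := act 7 n11007
theorem D14330 : act 7 n11007 = n14330 := rfl
theorem F46875 : act 5 n14330 = n11038 := d26_1 D14330 (iv D11038) (iv F36402)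
theorem F46876 : act 6 n14330 = n11016 := d27_1 D14330 (iv D11016) (iv D8452) (iv F28241) D11007
def n14331 : Q := act 4 n11009
theorem D14331 : act 4 n11009 = n14331 := rfl
theorem F46877 : act 1 n14331 = n11010 := d9_1 D14331 (iv D11010) D11009
def n14332 : Q := act 6 n11009
theorem D14332 : act 6 n11009 = n14332 := rfl
theorem F46878 : act 1 n14332 = n11011 := d11_1 D14332 (iv D11011) D11009
theorem F46879 : act 3 n14332 = n11142 := d20_1 D14332 (iv D11142) (iv F36407)
theorem F46880 : act 5 n14332 = n11040 := d25_1 D14332 (iv D11040) (iv F36408)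
def n14333 : Q := act 3 n11010
theorem D14333 : act 3 n11010 = n14333 := rfl
theorem F46883 : act 4 n14333 = n11143 := d18_2 D11010 D14333 (iv D11143) (iv D8544) (iv F28249)
def n14334 : Q := act 5 n11010
theorem D14334 : act 5 n11010 = n14334 := rfl
theorem F46886 : act 4 n14334 = n11042 := d22_1 D14334 (iv D11042) (iv D8470) (iv F28250) D11010
def n14335 : Q := act 6 n11010
theorem D14335 : act 6 n11010 = n14335 := rfl
theorem F46889 : act 4 n14335 = n11011 := d23_1 D14335 (iv D11011) D11010
def n14336 : Q := act 7 n11011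
theorem D14336 : act 7 n11011 = n14336 := rfl
def n14338 : Q := act 6 n11013
theorem D14338 : act 6 n11013 = n14338 := rfl
theorem F46897 : act 4 n14338 = n11148 := d23_1 D14338 (iv D11148) (iv F36420)
def n14339 : Q := act 6 n11014
theorem D14339 : act 6 n11014 = n14339 := rfl
theorem F46900 : act 5 n14339 = n11015 := d25_1 D14339 (iv D11015) D11014
def n14340 : Q := act 7 n11015
theorem D14340 : act 7 n11015 = n14340 := rfl
def n14348 : Q := act 2 n11022
theorem D14348 : act 2 n11022 = n14348 := rfl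
theorem F46922 : act 0 n14348 = n11023 := d1_1 D14348 (iv D11023) (iv F36442)
def n14351 : Q := act 6 n11023
theorem D14351 : act 6 n11023 = n14351 := rfl
theorem F46930 : act 1 n14351 = n11029 := d11_1 D14351 (iv D11029) (iv F36444)
def n14353 : Q := act 1 n11026
theorem D14353 : act 1 n11026 = n14353 := rfl
def n14355 : Q := act 6 n11026
theorem D14355 : act 6 n11026 = n14355 := rfl
theorem F46939 : act 0 n14355 = n11029 := d5_1 D14355 (iv D11029) (iv F36451)
def n14356 : Q := act 5 n11027
theorem D14356 : act 5 n11027 = n14356 := rfl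
theorem F46942 : act 0 n14356 = n11030 := d4_1 D14356 (iv D11030) (iv F36454)
theorem F46943 : act 3 n14356 = n11064 := d19_1 D14356 (iv D11064) (iv F36455)
theorem F46944 : act 6 n14356 = n11034 := d25_2 (iv F36456) D14356 (iv D11034)
def n14360 : Q := act 7 n11029
theorem D14360 : act 7 n11029 = n14360 := rfl
def n14361 : Q := act 4 n11031
theorem D14361 : act 4 n11031 = n14361 := rfl
theorem F46956 : act 1 n14361 = n11032 := d9_1 D14361 (iv D11032) D11031
theorem F46957 : act 7 n14361 = n11039 := d24_2 (iv F36467) D14361 (iv D11039)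
def n14362 : Q := act 6 n11031
theorem D14362 : act 6 n11031 = n14362 := rfl
theorem F46958 : act 1 n14362 = n11033 := d11_1 D14362 (iv D11033) D11031
theorem F46959 : act 3 n14362 = n11152 := d20_1 D14362 (iv D11152) (iv F36466)
def n14363 : Q := act 3 n11032
theorem D14363 : act 3 n11032 = n14363 := rfl
theorem F46963 : act 7 n14363 = n11041 := d21_2 (iv F36470) D14363 (iv D11041)
def n14364 : Q := act 5 n11032
theorem D14364 : act 5 n11032 = n14364 := rfl
theorem F46964 : act 0 n14364 = n11036 := d4_1 D14364 (iv D11036) (iv F36468)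
theorem F46966 : act 7 n14364 = n11042 := d26_2 (iv F36470) D14364 (iv D11042)
def n14365 : Q := act 6 n11032
theorem D14365 : act 6 n11032 = n14365 := rfl
theorem F46967 : act 0 n14365 = n11037 := d5_1 D14365 (iv D11037) (iv F36468)
theorem F46968 : act 4 n14365 = n11033 := d23_1 D14365 (iv D11033) D11032
def n14366 : Q := act 7 n11033
theorem D14366 : act 7 n11033 = n14366 := rfl
theorem F46971 : act 6 n14366 = n11044 := d27_1 D14366 (iv D11044) (iv D8471) (iv F28289) D11033
def n14367 : Q := act 5 n11035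
theorem D14367 : act 5 n11035 = n14367 := rfl
theorem F46973 : act 3 n14367 = n11036 := d19_1 D14367 (iv D11036) D11035
theorem F46974 : act 7 n14367 = n11045 := d26_2 (iv F36478) D14367 (iv D11045)
def n14369 : Q := act 6 n11036
theorem D14369 : act 6 n11036 = n14369 := rfl
def n14371 : Q := act 3 n11039
theorem D14371 : act 3 n11039 = n14371 := rfl
theorem F46981 : act 4 n14371 = n11161 := d18_2 D11039 D14371 (iv D11161) (iv D8559) (iv F28299)
def n14372 : Q := act 5 n11039
theorem D14372 : act 5 n11039 = n14372 := rfl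
theorem F46982 : act 1 n14372 = n11042 := d10_1 D14372 (iv D11042) (iv F36484)
def n14373 : Q := act 6 n11039
theorem D14373 : act 6 n11039 = n14373 := rfl
theorem F46984 : act 4 n14373 = n11040 := d23_1 D14373 (iv D11040) D11039
def n14374 : Q := act 2 n11040
theorem D14374 : act 2 n11040 = n14374 := rfl
theorem F46985 : act 1 n14374 = n14374 := d7_1 D14374 (iv D14374) F36485 F28303 (iv F36485)
def n14375 : Q := act 7 n11040
theorem D14375 : act 7 n11040 = n14375 := rfl
theorem F46986 : act 1 n14375 = n11044 := d12_1 D14375 (iv D11044) (iv F36485)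
theorem F46987 : act 3 n14375 = n11165 := d21_1 D14375 (iv D11165) (iv F36486)
def n14376 : Q := act 5 n11041
theorem D14376 : act 5 n11041 = n14376 := rfl
def n14377 : Q := act 6 n11041
theorem D14377 : act 6 n11041 = n14377 := rfl
theorem F46992 : act 3 n14377 = n11043 := d20_1 D14377 (iv D11043) D11041
theorem F46993 : act 4 n14377 = n11167 := d23_1 D14377 (iv D11167) (iv F36489)
def n14378 : Q := act 6 n11042
theorem D14378 : act 6 n11042 = n14378 := rfl
theorem F46996 : act 5 n14378 = n11043 := d25_1 D14378 (iv D11043) D11042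
def n14379 : Q := act 7 n11043
theorem D14379 : act 7 n11043 = n14379 := rfl
def n14394 : Q := act 1 n11056
theorem D14394 : act 1 n11056 = n14394 := rfl
theorem F47041 : act 0 n14394 = n11061 := d0_1 D14394 (iv D11061) F28348 (iv F28337) (iv F36530)
def n14412 : Q := act 3 n11069
theorem D14412 : act 3 n11069 = n14412 := rfl
theorem F47104 : act 7 n14412 = n11079 := d21_2 (iv F36575) D14412 (iv D11079)
def n14413 : Q := act 5 n11069
theorem D14413 : act 5 n11069 = n14413 := rfl
theorem F47105 : act 0 n14413 = n14413 := d4_1 D14413 (iv D14413) F36573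
theorem F47106 : act 1 n14413 = n11072 := d10_1 D14413 (iv D11072) (iv F36574)
theorem F47107 : act 4 n14413 = n14413 := d22_1 D14413 (iv D14413) (iv D11069) F28366 D11069
theorem F47108 : act 7 n14413 = n11080 := d26_2 (iv F36575) D14413 (iv D11080)
def n14414 : Q := act 6 n11069
theorem D14414 : act 6 n11069 = n14414 := rfl
def n14415 : Q := act 2 n11070
theorem D14415 : act 2 n11070 = n14415 := rfl
def n14419 : Q := act 6 n11072
theorem D14419 : act 6 n11072 = n14419 := rfl
def n14426 : Q := act 2 n11079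
theorem D14426 : act 2 n11079 = n14426 := rfl
theorem F47148 : act 4 n14426 = n11189 := d14_2 (iv F36607) D14426 (iv D11189)
def n14427 : Q := act 5 n11079
theorem D14427 : act 5 n11079 = n14427 := rfl
def n14429 : Q := act 6 n11080
theorem D14429 : act 6 n11080 = n14429 := rfl
theorem F47159 : act 5 n14429 = n11081 := d25_1 D14429 (iv D11081) D11080
def n14430 : Q := act 2 n11081
theorem D14430 : act 2 n11081 = n14430 := rfl
theorem F47162 : act 4 n14430 = n11082 := d14_2 (iv F36613) D14430 (iv D11082)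
def n14456 : Q := act 1 n11102
theorem D14456 : act 1 n11102 = n14456 := rfl
theorem F47245 : act 0 n14456 = n11133 := d0_1 D14456 (iv D11133) F28512 (iv F28453) (iv F36682)
theorem F47246 : act 2 n14456 = n11268 := d7_2 D11102 D14456 (iv D11268) (iv D8642) (iv F28449)
def n14457 : Q := act 4 n11102
theorem D14457 : act 4 n11102 = n14457 := rfl
theorem F47251 : act 7 n14457 = n11108 := d24_2 (iv F36684) D14457 (iv D11108)
def n14458 : Q := act 6 n11102
theorem D14458 : act 6 n11102 = n14458 := rfl
theorem F47252 : act 0 n14458 = n11105 := d5_1 D14458 (iv D11105) (iv F36682)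
def n14462 : Q := act 6 n11104
theorem D14462 : act 6 n11104 = n14462 := rfl
theorem F47268 : act 4 n14462 = n11105 := d23_1 D14462 (iv D11105) D11104
def n14463 : Q := act 7 n11105
theorem D14463 : act 7 n11105 = n14463 := rfl
theorem F47269 : act 1 n14463 = n11140 := d12_1 D14463 (iv D11140) (iv F36692)
def n14464 : Q := act 4 n11107
theorem D14464 : act 4 n11107 = n14464 := rfl
theorem F47273 : act 0 n14464 = n11141 := d3_1 D14464 (iv D11141) (iv F36699)
theorem F47274 : act 1 n14464 = n11108 := d9_1 D14464 (iv D11108) D11107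
theorem F47275 : act 2 n14464 = n11276 := d14_1 D14464 (iv D11276) (iv F36700)
def n14465 : Q := act 6 n11107
theorem D14465 : act 6 n11107 = n14465 := rfl
theorem F47276 : act 0 n14465 = n11142 := d5_1 D14465 (iv D11142) (iv F36699)
theorem F47277 : act 1 n14465 = n11109 := d11_1 D14465 (iv D11109) D11107
theorem F47278 : act 5 n14465 = n11124 := d25_1 D14465 (iv D11124) (iv F36701)
def n14466 : Q := act 3 n11108
theorem D14466 : act 3 n11108 = n14466 := rfl
def n14467 : Q := act 5 n11108
theorem D14467 : act 5 n11108 = n14467 := rfl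
theorem F47280 : act 0 n14467 = n11112 := d4_1 D14467 (iv D11112) (iv F36702)
def n14468 : Q := act 6 n11108
theorem D14468 : act 6 n11108 = n14468 := rfl
theorem F47285 : act 4 n14468 = n11109 := d23_1 D14468 (iv D11109) D11108
def n14469 : Q := act 7 n11109
theorem D14469 : act 7 n11109 = n14469 := rfl
theorem F47286 : act 0 n14469 = n11114 := d6_1 D14469 (iv D11114) (iv F36704)
theorem F47288 : act 5 n14469 = n11128 := d26_1 D14469 (iv D11128) (iv F36706)
def n14470 : Q := act 5 n11111
theorem D14470 : act 5 n11111 = n14470 := rfl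
theorem F47290 : act 3 n14470 = n11112 := d19_1 D14470 (iv D11112) D11111
def n14471 : Q := act 6 n11111
theorem D14471 : act 6 n11111 = n14471 := rfl
theorem F47292 : act 3 n14471 = n11113 := d20_1 D14471 (iv D11113) D11111
def n14473 : Q := act 7 n11113
theorem D14473 : act 7 n11113 = n14473 := rfl
theorem F47299 : act 4 n14473 = n11114 := d24_1 D14473 (iv D11114) (iv F36717)
def n14474 : Q := act 4 n11115
theorem D14474 : act 4 n11115 = n14474 := rfl
theorem F47300 : act 0 n14474 = n11151 := d3_1 D14474 (iv D11151) (iv F36721)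
theorem F47302 : act 2 n14474 = n11286 := d14_1 D14474 (iv D11286) (iv F36722)
theorem F47303 : act 7 n14474 = n11123 := d24_2 (iv F36723) D14474 (iv D11123)
def n14475 : Q := act 6 n11115
theorem D14475 : act 6 n11115 = n14475 := rfl
theorem F47304 : act 0 n14475 = n11152 := d5_1 D14475 (iv D11152) (iv F36721)
def n14478 : Q := act 6 n11116
theorem D14478 : act 6 n11116 = n14478 := rfl
theorem F47314 : act 4 n14478 = n11117 := d23_1 D14478 (iv D11117) D11116
def n14479 : Q := act 7 n11117
theorem D14479 : act 7 n11117 = n14479 := rfl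
theorem F47317 : act 6 n14479 = n11128 := d27_1 D14479 (iv D11128) (iv D8532) (iv F28478) D11117
def n14484 : Q := act 3 n11123
theorem D14484 : act 3 n11123 = n14484 := rfl
def n14488 : Q := act 7 n11124
theorem D14488 : act 7 n11124 = n14488 := rfl
theorem F47342 : act 0 n14488 = n11165 := d6_1 D14488 (iv D11165) (iv F36749)
def n14498 : Q := act 4 n11133
theorem D14498 : act 4 n11133 = n14498 := rfl
theorem F47367 : act 1 n14498 = n11134 := d9_1 D14498 (iv D11134) D11133
theorem F47369 : act 7 n14498 = n11141 := d24_2 (iv F36773) D14498 (iv D11141)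
def n14499 : Q := act 6 n11133
theorem D14499 : act 6 n11133 = n14499 := rfl
theorem F47370 : act 1 n14499 = n11135 := d11_1 D14499 (iv D11135) D11133
theorem F47371 : act 5 n14499 = n11152 := d25_1 D14499 (iv D11152) (iv F36772)
def n14500 : Q := act 3 n11134
theorem D14500 : act 3 n11134 = n14500 := rfl
theorem F47374 : act 7 n14500 = n11143 := d21_2 (iv F36776) D14500 (iv D11143)
def n14502 : Q := act 6 n11134
theorem D14502 : act 6 n11134 = n14502 := rfl
theorem F47380 : act 2 n14502 = n12414 := d16_1 D14502 (iv D12414) F31605 (iv F28518) (iv F36775)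
theorem F47381 : act 4 n14502 = n11135 := d23_1 D14502 (iv D11135) D11134
def n14503 : Q := act 7 n11135
theorem D14503 : act 7 n11135 = n14503 := rfl
theorem F47383 : act 2 n14503 = n12415 := d17_1 D14503 (iv D12415) (iv F36778)
theorem F47384 : act 5 n14503 = n11156 := d26_1 D14503 (iv D11156) (iv F36779)
theorem F47385 : act 6 n14503 = n11146 := d27_1 D14503 (iv D11146) (iv D8545) (iv F28514) D11135
def n14507 : Q := act 7 n11139
theorem D14507 : act 7 n11139 = n14507 := rfl
theorem F47394 : act 4 n14507 = n11140 := d24_1 D14507 (iv D11140) (iv F36792)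
theorem F47395 : act 6 n14507 = n11150 := d27_1 D14507 (iv D11150) (iv D8549) (iv F28521) D11139
def n14508 : Q := act 3 n11141
theorem D14508 : act 3 n11141 = n14508 := rfl
theorem F47396 : act 1 n14508 = n11143 := d8_1 D14508 (iv D11143) (iv F36796)
def n14509 : Q := act 5 n11141
theorem D14509 : act 5 n11141 = n14509 := rfl
theorem F47397 : act 1 n14509 = n11144 := d10_1 D14509 (iv D11144) (iv F36796)
def n14511 : Q := act 2 n11142
theorem D14511 : act 2 n11142 = n14511 := rfl
theorem F47402 : act 1 n14511 = n11207 := d7_1 D14511 (iv D11207) F28662 (iv F28534) (iv F36798)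
def n14512 : Q := act 7 n11142
theorem D14512 : act 7 n11142 = n14512 := rfl
theorem F47405 : act 1 n14512 = n11146 := d12_1 D14512 (iv D11146) (iv F36798)
theorem F47406 : act 5 n14512 = n11165 := d26_1 D14512 (iv D11165) (iv F36799)
def n14522 : Q := act 3 n11151
theorem D14522 : act 3 n11151 = n14522 := rfl
theorem F47430 : act 7 n14522 = n11161 := d21_2 (iv F36821) D14522 (iv D11161)
def n14523 : Q := act 5 n11151
theorem D14523 : act 5 n11151 = n14523 := rfl
theorem F47432 : act 2 n14523 = n11335 := d15_1 D14523 (iv D11335) (iv F36820)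
theorem F47433 : act 7 n14523 = n11162 := d26_2 (iv F36821) D14523 (iv D11162)
def n14524 : Q := act 6 n11151
theorem D14524 : act 6 n11151 = n14524 := rfl
theorem F47434 : act 1 n14524 = n11155 := d11_1 D14524 (iv D11155) (iv F36819)
theorem F47435 : act 4 n14524 = n11152 := d23_1 D14524 (iv D11152) D11151
def n14525 : Q := act 2 n11152
theorem D14525 : act 2 n11152 = n14525 := rfl
theorem F47436 : act 1 n14525 = n12437 := d7_1 D14525 (iv D12437) F31660 (iv F28554) (iv F36822)
theorem F47437 : act 6 n14525 = n11337 := d16_2 D11152 D14525 (iv D11337) (iv D8692) (iv F28548)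
def n14526 : Q := act 7 n11152
theorem D14526 : act 7 n11152 = n14526 := rfl
theorem F47438 : act 1 n14526 = n11156 := d12_1 D14526 (iv D11156) (iv F36822)
theorem F47439 : act 6 n14526 = n11165 := d27_1 D14526 (iv D11165) (iv D8560) (iv F28549) D11152
def n14529 : Q := act 6 n11154
theorem D14529 : act 6 n11154 = n14529 := rfl
theorem F47447 : act 2 n14529 = n12441 := d16_1 D14529 (iv D12441) F31665 (iv F28558) (iv F36827)
theorem F47448 : act 5 n14529 = n11155 := d25_1 D14529 (iv D11155) D11154
def n14530 : Q := act 7 n11155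
theorem D14530 : act 7 n11155 = n14530 := rfl
theorem F47450 : act 2 n14530 = n12442 := d17_1 D14530 (iv D12442) (iv F36830)
theorem F47452 : act 6 n14530 = n11169 := d27_1 D14530 (iv D11169) (iv D8563) (iv F28552) D11155
def n14536 : Q := act 2 n11161
theorem D14536 : act 2 n11161 = n14536 := rfl
theorem F47465 : act 3 n14536 = n11348 := d13_2 D11161 D14536 (iv D11348) (iv D8701) (iv F28569)
def n14538 : Q := act 6 n11161
theorem D14538 : act 6 n11161 = n14538 := rfl
theorem F47469 : act 3 n14538 = n11163 := d20_1 D14538 (iv D11163) D11161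
def n14539 : Q := act 6 n11162
theorem D14539 : act 6 n11162 = n14539 := rfl
theorem F47470 : act 1 n14539 = n11168 := d11_1 D14539 (iv D11168) (iv F36845)
theorem F47471 : act 5 n14539 = n11163 := d25_1 D14539 (iv D11163) D11162
def n14541 : Q := act 7 n11163
theorem D14541 : act 7 n11163 = n14541 := rfl
def n14542 : Q := act 3 n11164
theorem D14542 : act 3 n11164 = n14542 := rfl
def n14545 : Q := act 6 n11166
theorem D14545 : act 6 n11166 = n14545 := rfl
theorem F47484 : act 3 n14545 = n11168 := d20_1 D14545 (iv D11168) (iv F36854)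
theorem F47485 : act 5 n14545 = n11167 := d25_1 D14545 (iv D11167) D11166
def n14573 : Q := act 6 n11189
theorem D14573 : act 6 n11189 = n14573 := rfl
theorem F47568 : act 3 n14573 = n11375 := d20_1 D14573 (iv D11375) (iv F36919)
def n14592 : Q := act 5 n11204
theorem D14592 : act 5 n11204 = n14592 := rfl
theorem F47620 : act 0 n14592 = n11601 := d4_1 D14592 (iv D11601) (iv F36960)
theorem F47621 : act 1 n14592 = n11209 := d10_1 D14592 (iv D11209) (iv F36961)
def n14599 : Q := act 4 n11209
theorem D14599 : act 4 n11209 = n14599 := rfl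
theorem F47646 : act 0 n14599 = n11213 := d3_1 D14599 (iv D11213) (iv F36980)
def n14664 : Q := act 4 n11260
theorem D14664 : act 4 n11260 = n14664 := rfl
theorem F47863 : act 1 n14664 = n11261 := d9_1 D14664 (iv D11261) D11260
def n14665 : Q := act 6 n11260
theorem D14665 : act 6 n11260 = n14665 := rfl
def n14666 : Q := act 3 n11261
theorem D14666 : act 3 n11261 = n14666 := rfl
def n14668 : Q := act 6 n11261
theorem D14668 : act 6 n11261 = n14668 := rfl
theorem F47873 : act 2 n14668 = n11669 := d16_1 D14668 (iv D11669) F29758 (iv F28820) (iv F37154)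
def n14672 : Q := act 6 n11265
theorem D14672 : act 6 n11265 = n14672 := rfl
theorem F47884 : act 2 n14672 = n11673 := d16_1 D14672 (iv D11673) F29772 (iv F28829) (iv F37165)
def n14674 : Q := act 4 n11268
theorem D14674 : act 4 n11268 = n14674 := rfl
theorem F47890 : act 0 n14674 = n11310 := d3_1 D14674 (iv D11310) (iv F37173)
def n14675 : Q := act 6 n11268
theorem D14675 : act 6 n11268 = n14675 := rfl
theorem F47893 : act 0 n14675 = n11311 := d5_1 D14675 (iv D11311) (iv F37173)
theorem F47895 : act 5 n14675 = n11287 := d25_1 D14675 (iv D11287) (iv F37174)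
def n14677 : Q := act 5 n11269
theorem D14677 : act 5 n11269 = n14677 := rfl
theorem F47898 : act 0 n14677 = n11273 := d4_1 D14677 (iv D11273) (iv F37176)
theorem F47900 : act 4 n14677 = n11289 := d22_1 D14677 (iv D11289) (iv D8656) (iv F28831) D11269
def n14679 : Q := act 7 n11270
theorem D14679 : act 7 n11270 = n14679 := rfl
theorem F47907 : act 5 n14679 = n11291 := d26_1 D14679 (iv D11291) (iv F37181)
theorem F47908 : act 6 n14679 = n11281 := d27_1 D14679 (iv D11281) (iv D8649) (iv F28832) D11270
def n14680 : Q := act 5 n11272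
theorem D14680 : act 5 n11272 = n14680 := rfl
theorem F47910 : act 3 n14680 = n11273 := d19_1 D14680 (iv D11273) D11272
theorem F47911 : act 7 n14680 = n11282 := d26_2 (iv F37187) D14680 (iv D11282)
def n14684 : Q := act 3 n11276
theorem D14684 : act 3 n11276 = n14684 := rfl
theorem F47922 : act 0 n14684 = n11320 := d2_1 D14684 (iv D11320) (iv F37199)
def n14685 : Q := act 5 n11276
theorem D14685 : act 5 n11276 = n14685 := rfl
theorem F47924 : act 0 n14685 = n11321 := d4_1 D14685 (iv D11321) (iv F37199)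
def n14688 : Q := act 7 n11277
theorem D14688 : act 7 n11277 = n14688 := rfl
theorem F47935 : act 5 n14688 = n11300 := d26_1 D14688 (iv D11300) (iv F37203)
def n14689 : Q := act 5 n11278
theorem D14689 : act 5 n11278 = n14689 := rfl
theorem F47936 : act 0 n14689 = n11282 := d4_1 D14689 (iv D11282) (iv F37204)
def n14693 : Q := act 4 n11282
theorem D14693 : act 4 n11282 = n14693 := rfl
def n14698 : Q := act 3 n11286
theorem D14698 : act 3 n11286 = n14698 := rfl
theorem F47959 : act 0 n14698 = n11334 := d2_1 D14698 (iv D11334) (iv F37225)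
theorem F47960 : act 1 n14698 = n11288 := d8_1 D14698 (iv D11288) (iv F37226)
theorem F47961 : act 7 n14698 = n11296 := d21_2 (iv F37227) D14698 (iv D11296)
def n14699 : Q := act 5 n11286
theorem D14699 : act 5 n11286 = n14699 := rfl
theorem F47962 : act 0 n14699 = n11335 := d4_1 D14699 (iv D11335) (iv F37225)
theorem F47963 : act 1 n14699 = n11289 := d10_1 D14699 (iv D11289) (iv F37226)
theorem F47964 : act 7 n14699 = n11297 := d26_2 (iv F37227) D14699 (iv D11297)
def n14700 : Q := act 6 n11286
theorem D14700 : act 6 n11286 = n14700 := rfl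
theorem F47965 : act 0 n14700 = n11336 := d5_1 D14700 (iv D11336) (iv F37225)
theorem F47966 : act 1 n14700 = n11290 := d11_1 D14700 (iv D11290) (iv F37226)
theorem F47967 : act 4 n14700 = n11287 := d23_1 D14700 (iv D11287) D11286
def n14701 : Q := act 2 n11287
theorem D14701 : act 2 n11287 = n14701 := rfl
theorem F47968 : act 0 n14701 = n11337 := d1_1 D14701 (iv D11337) (iv F37228)
theorem F47969 : act 1 n14701 = n14701 := d7_1 D14701 (iv D14701) F37229 F28872 (iv F37229)
def n14702 : Q := act 7 n11287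
theorem D14702 : act 7 n11287 = n14702 := rfl
theorem F47970 : act 0 n14702 = n11338 := d6_1 D14702 (iv D11338) (iv F37228)
theorem F47971 : act 1 n14702 = n11291 := d12_1 D14702 (iv D11291) (iv F37229)
theorem F47972 : act 6 n14702 = n11300 := d27_1 D14702 (iv D11300) (iv D8664) (iv F28867) D11287
def n14703 : Q := act 5 n11288
theorem D14703 : act 5 n11288 = n14703 := rfl
theorem F47973 : act 0 n14703 = n11292 := d4_1 D14703 (iv D11292) (iv F37230)
theorem F47975 : act 3 n14703 = n11289 := d19_1 D14703 (iv D11289) D11288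
theorem F47976 : act 7 n14703 = n11301 := d26_2 (iv F37232) D14703 (iv D11301)
def n14704 : Q := act 6 n11288
theorem D14704 : act 6 n11288 = n14704 := rfl
theorem F47978 : act 3 n14704 = n11290 := d20_1 D14704 (iv D11290) D11288
def n14705 : Q := act 6 n11289
theorem D14705 : act 6 n11289 = n14705 := rfl
theorem F47981 : act 5 n14705 = n11290 := d25_1 D14705 (iv D11290) D11289
def n14707 : Q := act 4 n11292
theorem D14707 : act 4 n11292 = n14707 := rfl
def n14708 : Q := act 6 n11292
theorem D14708 : act 6 n11292 = n14708 := rfl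
theorem F47990 : act 3 n14708 = n11294 := d20_1 D14708 (iv D11294) (iv F37244)
theorem F47991 : act 5 n14708 = n11293 := d25_1 D14708 (iv D11293) D11292
def n14710 : Q := act 7 n11293
theorem D14710 : act 7 n11293 = n14710 := rfl
theorem F47996 : act 6 n14710 = n11308 := d27_1 D14710 (iv D11308) (iv D8670) (iv F28879) D11293
def n14712 : Q := act 2 n11296
theorem D14712 : act 2 n11296 = n14712 := rfl
theorem F48001 : act 0 n14712 = n11348 := d1_1 D14712 (iv D11348) (iv F37255)
theorem F48002 : act 1 n14712 = n14712 := d7_1 D14712 (iv D14712) F37256 F28894 (iv F37256)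
def n14713 : Q := act 5 n11296
theorem D14713 : act 5 n11296 = n14713 := rfl
theorem F48003 : act 0 n14713 = n11349 := d4_1 D14713 (iv D11349) (iv F37255)
theorem F48004 : act 1 n14713 = n11301 := d10_1 D14713 (iv D11301) (iv F37256)
theorem F48005 : act 3 n14713 = n11297 := d19_1 D14713 (iv D11297) D11296
def n14714 : Q := act 6 n11296
theorem D14714 : act 6 n11296 = n14714 := rfl
theorem F48006 : act 0 n14714 = n11350 := d5_1 D14714 (iv D11350) (iv F37255)
theorem F48007 : act 1 n14714 = n11302 := d11_1 D14714 (iv D11302) (iv F37256)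
theorem F48008 : act 3 n14714 = n11298 := d20_1 D14714 (iv D11298) D11296
def n14715 : Q := act 6 n11297
theorem D14715 : act 6 n11297 = n14715 := rfl
theorem F48010 : act 1 n14715 = n11303 := d11_1 D14715 (iv D11303) (iv F37258)
def n14716 : Q := act 2 n11298
theorem D14716 : act 2 n11298 = n14716 := rfl
theorem F48012 : act 0 n14716 = n11352 := d1_1 D14716 (iv D11352) (iv F37259)
theorem F48013 : act 1 n14716 = n11693 := d7_1 D14716 (iv D11693) F29821 (iv F28898) (iv F37260)
theorem F48014 : act 4 n14716 = n11299 := d14_2 (iv F37261) D14716 (iv D11299)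
def n14717 : Q := act 7 n11298
theorem D14717 : act 7 n11298 = n14717 := rfl
theorem F48015 : act 0 n14717 = n11353 := d6_1 D14717 (iv D11353) (iv F37259)
theorem F48017 : act 4 n14717 = n11300 := d24_1 D14717 (iv D11300) (iv F37261)
def n14718 : Q := act 3 n11299
theorem D14718 : act 3 n11299 = n14718 := rfl
def n14719 : Q := act 7 n11299
theorem D14719 : act 7 n11299 = n14719 := rfl
theorem F48022 : act 2 n14719 = n11300 := d17_1 D14719 (iv D11300) D11299
def n14720 : Q := act 4 n11301
theorem D14720 : act 4 n11301 = n14720 := rfl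
def n14721 : Q := act 6 n11301
theorem D14721 : act 6 n11301 = n14721 := rfl
theorem F48026 : act 3 n14721 = n11303 := d20_1 D14721 (iv D11303) (iv F37268)
def n14722 : Q := act 2 n11302
theorem D14722 : act 2 n11302 = n14722 := rfl
def n14723 : Q := act 7 n11302
theorem D14723 : act 7 n11302 = n14723 := rfl
def n14724 : Q := act 7 n11303
theorem D14724 : act 7 n11303 = n14724 := rfl
def n14730 : Q := act 5 n11310
theorem D14730 : act 5 n11310 = n14730 := rfl
theorem F48051 : act 4 n14730 = n11335 := d22_1 D14730 (iv D11335) (iv D8691) (iv F28913) D11310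
theorem F48052 : act 7 n14730 = n11321 := d26_2 (iv F37291) D14730 (iv D11321)
def n14731 : Q := act 6 n11310
theorem D14731 : act 6 n11310 = n14731 := rfl
theorem F48053 : act 1 n14731 = n11314 := d11_1 D14731 (iv D11314) (iv F37290)
theorem F48054 : act 4 n14731 = n11311 := d23_1 D14731 (iv D11311) D11310
def n14732 : Q := act 2 n11311
theorem D14732 : act 2 n11311 = n14732 := rfl
theorem F48055 : act 1 n14732 = n12571 := d7_1 D14732 (iv D12571) F31961 (iv F28919) (iv F37292)
theorem F48056 : act 5 n14732 = n11337 := d15_2 (iv F37293) D14732 (iv D11337)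
def n14733 : Q := act 7 n11311
theorem D14733 : act 7 n11311 = n14733 := rfl
theorem F48059 : act 6 n14733 = n11324 := d27_1 D14733 (iv D11324) (iv D8682) (iv F28914) D11311
def n14734 : Q := act 5 n11312
theorem D14734 : act 5 n11312 = n14734 := rfl
theorem F48062 : act 3 n14734 = n11313 := d19_1 D14734 (iv D11313) D11312
theorem F48063 : act 7 n14734 = n11325 := d26_2 (iv F37296) D14734 (iv D11325)
def n14736 : Q := act 6 n11313
theorem D14736 : act 6 n11313 = n14736 := rfl
theorem F48067 : act 2 n14736 = n12575 := d16_1 D14736 (iv D12575) F31969 (iv F28924) (iv F37298)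
theorem F48068 : act 4 n14736 = n11341 := d23_1 D14736 (iv D11341) (iv F37299)
def n14737 : Q := act 7 n11314
theorem D14737 : act 7 n11314 = n14737 := rfl
theorem F48071 : act 2 n14737 = n12576 := d17_1 D14737 (iv D12576) (iv F37302)
theorem F48073 : act 6 n14737 = n11328 := d27_1 D14737 (iv D11328) (iv D8685) (iv F28917) D11314
def n14738 : Q := act 4 n11316
theorem D14738 : act 4 n11316 = n14738 := rfl
theorem F48075 : act 3 n14738 = n11343 := d18_1 D14738 (iv D11343) F28974 (iv F28929) (iv F37309)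
theorem F48076 : act 7 n14738 = n11329 := d24_2 (iv F37310) D14738 (iv D11329)
def n14743 : Q := act 2 n11320
theorem D14743 : act 2 n11320 = n14743 := rfl
def n14744 : Q := act 5 n11320
theorem D14744 : act 5 n11320 = n14744 := rfl
theorem F48089 : act 3 n14744 = n11321 := d19_1 D14744 (iv D11321) D11320
def n14745 : Q := act 6 n11320
theorem D14745 : act 6 n11320 = n14745 := rfl
theorem F48091 : act 3 n14745 = n11322 := d20_1 D14745 (iv D11322) D11320
def n14746 : Q := act 6 n11321
theorem D14746 : act 6 n11321 = n14746 := rfl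
theorem F48092 : act 1 n14746 = n11327 := d11_1 D14746 (iv D11327) (iv F37319)
theorem F48094 : act 5 n14746 = n11322 := d25_1 D14746 (iv D11322) D11321
def n14747 : Q := act 2 n11322
theorem D14747 : act 2 n11322 = n14747 := rfl
theorem F48095 : act 1 n14747 = n11381 := d7_1 D14747 (iv D11381) F29060 (iv F28945) (iv F37321)
def n14749 : Q := act 3 n11323
theorem D14749 : act 3 n11323 = n14749 := rfl
def n14751 : Q := act 4 n11325
theorem D14751 : act 4 n11325 = n14751 := rfl
def n14756 : Q := act 6 n11329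
theorem D14756 : act 6 n11329 = n14756 := rfl
theorem F48120 : act 4 n14756 = n11330 := d23_1 D14756 (iv D11330) D11329
def n14761 : Q := act 2 n11334
theorem D14761 : act 2 n11334 = n14761 := rfl
theorem F48130 : act 1 n14761 = n11362 := d7_1 D14761 (iv D11362) F29009 (iv F28962) (iv F37349)
theorem F48131 : act 7 n14761 = n11348 := d17_2 (iv F37350) D14761 (iv D11348)
def n14762 : Q := act 5 n11334
theorem D14762 : act 5 n11334 = n14762 := rfl
theorem F48132 : act 1 n14762 = n11339 := d10_1 D14762 (iv D11339) (iv F37349)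
theorem F48133 : act 3 n14762 = n11335 := d19_1 D14762 (iv D11335) D11334
theorem F48134 : act 7 n14762 = n11349 := d26_2 (iv F37350) D14762 (iv D11349)
def n14763 : Q := act 6 n11334
theorem D14763 : act 6 n11334 = n14763 := rfl
theorem F48136 : act 3 n14763 = n11336 := d20_1 D14763 (iv D11336) D11334
def n14764 : Q := act 6 n11335
theorem D14764 : act 6 n11335 = n14764 := rfl
theorem F48137 : act 1 n14764 = n11341 := d11_1 D14764 (iv D11341) (iv F37351)
theorem F48138 : act 5 n14764 = n11336 := d25_1 D14764 (iv D11336) D11335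
def n14765 : Q := act 2 n11336
theorem D14765 : act 2 n11336 = n14765 := rfl
theorem F48139 : act 1 n14765 = n12604 := d7_1 D14765 (iv D12604) F32045 (iv F28968) (iv F37353)
theorem F48140 : act 4 n14765 = n11337 := d14_2 (iv F37354) D14765 (iv D11337)
def n14766 : Q := act 7 n11336
theorem D14766 : act 7 n11336 = n14766 := rfl
theorem F48141 : act 1 n14766 = n11342 := d12_1 D14766 (iv D11342) (iv F37353)
theorem F48142 : act 4 n14766 = n11338 := d24_1 D14766 (iv D11338) (iv F37354)
theorem F48143 : act 6 n14766 = n11353 := d27_1 D14766 (iv D11353) (iv D8703) (iv F28959) D11336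
def n14767 : Q := act 3 n11337
theorem D14767 : act 3 n11337 = n14767 := rfl
theorem F48144 : act 1 n14767 = n12606 := d8_1 D14767 (iv D12606) (iv F37355)
def n14768 : Q := act 7 n11337
theorem D14768 : act 7 n11337 = n14768 := rfl
theorem F48145 : act 1 n14768 = n12607 := d12_1 D14768 (iv D12607) (iv F37355)
theorem F48146 : act 2 n14768 = n11338 := d17_1 D14768 (iv D11338) D11337
def n14769 : Q := act 4 n11339
theorem D14769 : act 4 n11339 = n14769 := rfl
theorem F48148 : act 2 n14769 = n11368 := d14_1 D14769 (iv D11368) (iv F37359)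
theorem F48149 : act 7 n14769 = n11356 := d24_2 (iv F37361) D14769 (iv D11356)
def n14770 : Q := act 6 n11339
theorem D14770 : act 6 n11339 = n14770 := rfl
theorem F48151 : act 3 n14770 = n11341 := d20_1 D14770 (iv D11341) (iv F37360)
theorem F48152 : act 5 n14770 = n11340 := d25_1 D14770 (iv D11340) D11339
def n14771 : Q := act 2 n11340
theorem D14771 : act 2 n11340 = n14771 := rfl
theorem F48155 : act 6 n14771 = n11370 := d16_2 D11340 D14771 (iv D11370) (iv D8719) (iv F28962)
def n14772 : Q := act 7 n11340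
theorem D14772 : act 7 n11340 = n14772 := rfl
theorem F48157 : act 3 n14772 = n11342 := d21_1 D14772 (iv D11342) (iv F37363)
theorem F48158 : act 6 n14772 = n11358 := d27_1 D14772 (iv D11358) (iv D8707) (iv F28963) D11340
def n14773 : Q := act 7 n11341
theorem D14773 : act 7 n11341 = n14773 := rfl
theorem F48160 : act 2 n14773 = n12612 := d17_1 D14773 (iv D12612) (iv F37365)
theorem F48162 : act 6 n14773 = n11359 := d27_1 D14773 (iv D11359) (iv D8708) (iv F28966) D11341
def n14774 : Q := act 6 n11343
theorem D14774 : act 6 n11343 = n14774 := rfl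
def n14775 : Q := act 2 n11344
theorem D14775 : act 2 n11344 = n14775 := rfl
theorem F48165 : act 5 n14775 = n11345 := d15_2 (iv F37374) D14775 (iv D11345)
theorem F48166 : act 6 n14775 = n11372 := d16_2 D11344 D14775 (iv D11372) (iv D8722) (iv F28973)
def n14779 : Q := act 5 n11348
theorem D14779 : act 5 n11348 = n14779 := rfl
theorem F48176 : act 2 n14779 = n11349 := d15_1 D14779 (iv D11349) D11348
def n14780 : Q := act 6 n11348
theorem D14780 : act 6 n11348 = n14780 := rfl
theorem F48177 : act 1 n14780 = n11375 := d11_1 D14780 (iv D11375) (iv F37382)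
def n14781 : Q := act 4 n11349
theorem D14781 : act 4 n11349 = n14781 := rfl
def n14782 : Q := act 6 n11349
theorem D14782 : act 6 n11349 = n14782 := rfl
theorem F48180 : act 3 n14782 = n11351 := d20_1 D14782 (iv D11351) (iv F37384)
theorem F48181 : act 5 n14782 = n11350 := d25_1 D14782 (iv D11350) D11349
def n14783 : Q := act 2 n11350
theorem D14783 : act 2 n11350 = n14783 := rfl
theorem F48182 : act 1 n14783 = n14783 := d7_1 D14783 (iv D14783) F37385 F28992 (iv F37385)
def n14784 : Q := act 7 n11350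
theorem D14784 : act 7 n11350 = n14784 := rfl
theorem F48183 : act 1 n14784 = n11358 := d12_1 D14784 (iv D11358) (iv F37385)
theorem F48184 : act 3 n14784 = n11353 := d21_1 D14784 (iv D11353) (iv F37386)
def n14786 : Q := act 7 n11351
theorem D14786 : act 7 n11351 = n14786 := rfl
theorem F48188 : act 5 n14786 = n11353 := d26_1 D14786 (iv D11353) (iv F37388)
def n14787 : Q := act 3 n11352
theorem D14787 : act 3 n11352 = n14787 := rfl
def n14788 : Q := act 7 n11352
theorem D14788 : act 7 n11352 = n14788 := rfl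
def n14791 : Q := act 6 n11355
theorem D14791 : act 6 n11355 = n14791 := rfl
def n14792 : Q := act 6 n11356
theorem D14792 : act 6 n11356 = n14792 := rfl
theorem F48199 : act 4 n14792 = n11357 := d23_1 D14792 (iv D11357) D11356
def n14793 : Q := act 7 n11357
theorem D14793 : act 7 n11357 = n14793 := rfl
def n14796 : Q := act 6 n11362
theorem D14796 : act 6 n11362 = n14796 := rfl
def n14797 : Q := act 4 n11363
theorem D14797 : act 4 n11363 = n14797 := rfl
theorem F48211 : act 1 n14797 = n11368 := d9_1 D14797 (iv D11368) (iv F37416)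
theorem F48213 : act 7 n14797 = n11376 := d24_2 (iv F37418) D14797 (iv D11376)
def n14798 : Q := act 6 n11363
theorem D14798 : act 6 n11363 = n14798 := rfl
theorem F48215 : act 1 n14798 = n11369 := d11_1 D14798 (iv D11369) (iv F37416)
def n14804 : Q := act 2 n11369
theorem D14804 : act 2 n11369 = n14804 := rfl
def n14806 : Q := act 2 n11371
theorem D14806 : act 2 n11371 = n14806 := rfl
def n14809 : Q := act 4 n11374
theorem D14809 : act 4 n11374 = n14809 := rfl
def n14810 : Q := act 6 n11374
theorem D14810 : act 6 n11374 = n14810 := rfl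
theorem F48255 : act 5 n14810 = n11375 := d25_1 D14810 (iv D11375) D11374
def n14811 : Q := act 7 n11375
theorem D14811 : act 7 n11375 = n14811 := rfl
theorem F48256 : act 0 n14811 = n14811 := d6_1 D14811 (iv D14811) F37458
theorem F48257 : act 2 n14811 = n14811 := d17_1 D14811 (iv D14811) F37459
def n14817 : Q := act 2 n11380
theorem D14817 : act 2 n11380 = n14817 := rfl
theorem F48280 : act 5 n14817 = n11381 := d15_2 (iv F37480) D14817 (iv D11381)
def n14819 : Q := act 3 n11381
theorem D14819 : act 3 n11381 = n14819 := rfl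
def n14854 : Q := act 6 n11409
theorem D14854 : act 6 n11409 = n14854 := rfl
theorem F48393 : act 2 n14854 = n12693 := d16_1 D14854 (iv D12693) F32284 (iv F29146) (iv F37570)
def n14885 : Q := act 1 n11435
theorem D14885 : act 1 n11435 = n14885 := rfl
theorem F48503 : act 5 n14885 = n11445 := d10_2 (iv F37665) D14885 (iv D11445)
def n14901 : Q := act 4 n11445
theorem D14901 : act 4 n11445 = n14901 := rfl
theorem F48549 : act 1 n14901 = n11446 := d9_1 D14901 (iv D11446) D11445
def n14902 : Q := act 6 n11445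
theorem D14902 : act 6 n11445 = n14902 := rfl
theorem F48552 : act 1 n14902 = n11447 := d11_1 D14902 (iv D11447) D11445
def n14905 : Q := act 6 n11446
theorem D14905 : act 6 n11446 = n14905 := rfl
theorem F48558 : act 2 n14905 = n11470 := d16_1 D14905 (iv D11470) F29292 (iv F29247) (iv F37696)
def n14921 : Q := act 3 n11459
theorem D14921 : act 3 n11459 = n14921 := rfl
theorem F48612 : act 4 n14921 = n11527 := d18_2 D11459 D14921 (iv D11527) (iv D8841) (iv F29272)
def n14934 : Q := act 5 n11468
theorem D14934 : act 5 n11468 = n14934 := rfl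
theorem F48653 : act 0 n14934 = n11472 := d4_1 D14934 (iv D11472) (iv F37765)
theorem F48655 : act 3 n14934 = n11469 := d19_1 D14934 (iv D11469) D11468
def n14935 : Q := act 6 n11468
theorem D14935 : act 6 n11468 = n14935 := rfl
theorem F48657 : act 0 n14935 = n11473 := d5_1 D14935 (iv D11473) (iv F37765)
theorem F48658 : act 3 n14935 = n11470 := d20_1 D14935 (iv D11470) D11468
def n14954 : Q := act 2 n11483
theorem D14954 : act 2 n11483 = n14954 := rfl
theorem F48720 : act 6 n14954 = n11885 := d16_2 D11483 D14954 (iv D11885) (iv D9117) (iv F29329)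
def n15008 : Q := act 3 n11525
theorem D15008 : act 3 n11525 = n15008 := rfl
theorem F48903 : act 1 n15008 = n11527 := d8_1 D15008 (iv D11527) (iv F37954)
def n15109 : Q := act 4 n11601
theorem D15109 : act 4 n11601 = n15109 := rfl
theorem F49187 : act 1 n15109 = n11608 := d9_1 D15109 (iv D11608) (iv F38171)
def n15138 : Q := act 3 n11622
theorem D15138 : act 3 n11622 = n15138 := rfl
theorem F49267 : act 5 n15138 = n11624 := d19_2 (iv F38234) D15138 (iv D11624)
def n15146 : Q := act 2 n11629
theorem D15146 : act 2 n11629 = n15146 := rfl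
theorem F49286 : act 6 n15146 = n11641 := d16_2 D11629 D15146 (iv D11641) (iv D8928) (iv F29664)
def n15147 : Q := act 7 n11629
theorem D15147 : act 7 n11629 = n15147 := rfl
def n15163 : Q := act 7 n11641
theorem D15163 : act 7 n11641 = n15163 := rfl
theorem F49332 : act 2 n15163 = n11642 := d17_1 D15163 (iv D11642) D11641
def n15202 : Q := act 2 n11675
theorem D15202 : act 2 n11675 = n15202 := rfl
theorem F49456 : act 0 n15202 = n11706 := d1_1 D15202 (iv D11706) (iv F38388)
def n15255 : Q := act 6 n11714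
theorem D15255 : act 6 n11714 = n15255 := rfl
def n15296 : Q := act 3 n11748
theorem D15296 : act 3 n11748 = n15296 := rfl
theorem F49745 : act 5 n15296 = n11750 := d19_2 (iv F38621) D15296 (iv D11750)
def n15341 : Q := act 2 n11787
theorem D15341 : act 2 n11787 = n15341 := rfl
theorem F49861 : act 1 n15341 = n12833 := d7_1 D15341 (iv D12833) F32640 (iv F30054) (iv F38722)
def n15443 : Q := act 2 n11862
theorem D15443 : act 2 n11862 = n15443 := rfl
theorem F50200 : act 0 n15443 = n11892 := d1_1 D15443 (iv D11892) (iv F38975)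
theorem F50201 : act 4 n15443 = n11863 := d14_2 (iv F38977) D15443 (iv D11863)
def n15445 : Q := act 3 n11863
theorem D15445 : act 3 n11863 = n15445 := rfl
theorem F50208 : act 2 n15445 = n11959 := d13_1 D15445 (iv D11959) (iv D9172) (iv F30248) D11863
def n15465 : Q := act 4 n11879
theorem D15465 : act 4 n11879 = n15465 := rfl
theorem F50269 : act 3 n15465 = n11896 := d18_1 D15465 (iv D11896) F30319 (iv F30284) (iv F39029)
def n15466 : Q := act 6 n11879
theorem D15466 : act 6 n11879 = n15466 := rfl
theorem F50274 : act 5 n15466 = n11880 := d25_1 D15466 (iv D11880) D11879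
def n15467 : Q := act 2 n11880
theorem D15467 : act 2 n11880 = n15467 := rfl
theorem F50277 : act 4 n15467 = n11981 := d14_2 (iv F39033) D15467 (iv D11981)
def n15468 : Q := act 7 n11880
theorem D15468 : act 7 n11880 = n15468 := rfl
theorem F50280 : act 4 n15468 = n11982 := d24_1 D15468 (iv D11982) (iv F39033)
def n15470 : Q := act 6 n11883
theorem D15470 : act 6 n11883 = n15470 := rfl
theorem F50287 : act 3 n15470 = n11901 := d20_1 D15470 (iv D11901) (iv F39042)
theorem F50288 : act 4 n15470 = n11884 := d23_1 D15470 (iv D11884) D11883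
def n15471 : Q := act 2 n11884
theorem D15471 : act 2 n11884 = n15471 := rfl
theorem F50291 : act 5 n15471 = n11885 := d15_2 (iv F39046) D15471 (iv D11885)
def n15473 : Q := act 1 n11885
theorem D15473 : act 1 n11885 = n15473 := rfl
def n15479 : Q := act 2 n11890
theorem D15479 : act 2 n11890 = n15479 := rfl
theorem F50313 : act 4 n15479 = n11993 := d14_2 (iv F39065) D15479 (iv D11993)
def n15483 : Q := act 3 n11892
theorem D15483 : act 3 n11892 = n15483 := rfl
def n15488 : Q := act 6 n11896
theorem D15488 : act 6 n11896 = n15488 := rfl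
def n15491 : Q := act 1 n11898
theorem D15491 : act 1 n11898 = n15491 := rfl
theorem F50351 : act 6 n15491 = n11920 := d11_2 (iv F39089) D15491 (iv D11920)
def n15493 : Q := act 2 n11901
theorem D15493 : act 2 n11901 = n15493 := rfl
theorem F50358 : act 6 n15493 = n11922 := d16_2 D11901 D15493 (iv D11922) (iv D9146) (iv F30331)
def n15496 : Q := act 7 n11902
theorem D15496 : act 7 n11902 = n15496 := rfl
theorem F50365 : act 2 n15496 = n11903 := d17_1 D15496 (iv D11903) D11902
def n15499 : Q := act 6 n11905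
theorem D15499 : act 6 n11905 = n15499 := rfl
theorem F50377 : act 7 n15499 = n11928 := d27_2 D11905 D15499 (iv D11928) (iv D9150) (iv F30338)
def n15500 : Q := act 4 n11906
theorem D15500 : act 4 n11906 = n15500 := rfl
theorem F50380 : act 5 n15500 = n12014 := d22_2 D11906 D15500 (iv D12014) (iv D9215) (iv F30347)
def n15501 : Q := act 6 n11906
theorem D15501 : act 6 n11906 = n15501 := rfl
def n15502 : Q := act 2 n11907
theorem D15502 : act 2 n11907 = n15502 := rfl
theorem F50387 : act 6 n15502 = n11910 := d16_2 D11907 D15502 (iv D11910) (iv D9136) D9134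
def n15505 : Q := act 2 n11909
theorem D15505 : act 2 n11909 = n15505 := rfl
theorem F50397 : act 5 n15505 = n11910 := d15_2 (iv F39126) D15505 (iv D11910)
def n15507 : Q := act 1 n11910
theorem D15507 : act 1 n11910 = n15507 := rfl
theorem F50403 : act 2 n15507 = n11920 := d7_2 D11910 D15507 (iv D11920) (iv D9143) (iv F30354)
theorem F50404 : act 4 n15507 = n12021 := d9_2 (iv F39128) D15507 (iv D12021)
def n15508 : Q := act 3 n11910
theorem D15508 : act 3 n11910 = n15508 := rfl
def n15509 : Q := act 7 n11910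
theorem D15509 : act 7 n11910 = n15509 := rfl
theorem F50409 : act 2 n15509 = n11911 := d17_1 D15509 (iv D11911) D11910
theorem F50410 : act 4 n15509 = n12022 := d24_1 D15509 (iv D12022) (iv F39128)
def n15514 : Q := act 2 n11917
theorem D15514 : act 2 n11917 = n15514 := rfl
theorem F50429 : act 4 n15514 = n11918 := d14_2 (iv F39156) D15514 (iv D11918)
def n15517 : Q := act 7 n11918
theorem D15517 : act 7 n11918 = n15517 := rfl
theorem F50440 : act 5 n15517 = n11921 := d26_1 D15517 (iv D11921) (iv F39160)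
def n15519 : Q := act 7 n11920
theorem D15519 : act 7 n11920 = n15519 := rfl
theorem F50444 : act 1 n15519 = n11921 := d12_1 D15519 (iv D11921) D11920
def n15523 : Q := act 7 n11922
theorem D15523 : act 7 n11922 = n15523 := rfl
theorem F50457 : act 4 n15523 = n11925 := d24_1 D15523 (iv D11925) (iv F39171)
def n15526 : Q := act 6 n11925
theorem D15526 : act 6 n11925 = n15526 := rfl
def n15562 : Q := act 6 n11953
theorem D15562 : act 6 n11953 = n15562 := rfl
theorem F50581 : act 0 n15562 = n11990 := d5_1 D15562 (iv D11990) (iv F39269)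
theorem F50583 : act 3 n15562 = n12152 := d20_1 D15562 (iv D12152) (iv F39271)
def n15565 : Q := act 2 n11955
theorem D15565 : act 2 n11955 = n15565 := rfl
def n15569 : Q := act 3 n11957
theorem D15569 : act 3 n11957 = n15569 := rfl
theorem F50606 : act 6 n15569 = n12159 := d20_2 (iv F39286) D15569 (iv D12159)
def n15577 : Q := act 1 n11963
theorem D15577 : act 1 n11963 = n15577 := rfl
def n15581 : Q := act 1 n11967
theorem D15581 : act 1 n11967 = n15581 := rfl
theorem F50641 : act 2 n15581 = n12009 := d7_2 D11967 D15581 (iv D12009) (iv D9211) (iv F30494)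
theorem F50643 : act 5 n15581 = n11969 := d10_2 (iv F39316) D15581 (iv D11969)
def n15583 : Q := act 0 n11969
theorem D15583 : act 0 n11969 = n15583 := rfl
theorem F50648 : act 2 n15583 = n12011 := d1_2 (iv F39322) D15583 (iv D12011)
def n15590 : Q := act 2 n11973
theorem D15590 : act 2 n11973 = n15590 := rfl
def n15594 : Q := act 3 n11975
theorem D15594 : act 3 n11975 = n15594 := rfl
theorem F50679 : act 6 n15594 = n12181 := d20_2 (iv F39339) D15594 (iv D12181)
def n15595 : Q := act 7 n11975
theorem D15595 : act 7 n11975 = n15595 := rfl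
theorem F50681 : act 2 n15595 = n11976 := d17_1 D15595 (iv D11976) D11975
def n15602 : Q := act 1 n11981
theorem D15602 : act 1 n11981 = n15602 := rfl
def n15603 : Q := act 7 n11981
theorem D15603 : act 7 n11981 = n15603 := rfl
theorem F50703 : act 0 n15603 = n11988 := d6_1 D15603 (iv D11988) (iv F39355)
theorem F50704 : act 2 n15603 = n11982 := d17_1 D15603 (iv D11982) D11981
def n15604 : Q := act 2 n11984
theorem D15604 : act 2 n11984 = n15604 := rfl
theorem F50706 : act 4 n15604 = n11985 := d14_2 (iv F39366) D15604 (iv D11985)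
def n15611 : Q := act 4 n11989
theorem D15611 : act 4 n11989 = n15611 := rfl
theorem F50720 : act 1 n15611 = n12014 := d9_1 D15611 (iv D12014) (iv F39375)
def n15612 : Q := act 6 n11989
theorem D15612 : act 6 n11989 = n15612 := rfl
theorem F50724 : act 3 n15612 = n12199 := d20_1 D15612 (iv D12199) (iv F39377)
def n15613 : Q := act 2 n11990
theorem D15613 : act 2 n11990 = n15613 := rfl
def n15616 : Q := act 2 n11992
theorem D15616 : act 2 n11992 = n15616 := rfl
def n15618 : Q := act 1 n11993
theorem D15618 : act 1 n11993 = n15618 := rfl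
theorem F50737 : act 2 n15618 = n12005 := d7_2 D11993 D15618 (iv D12005) (iv D9207) (iv F30550)
def n15619 : Q := act 3 n11993
theorem D15619 : act 3 n11993 = n15619 := rfl
theorem F50738 : act 2 n15619 = n11997 := d13_1 D15619 (iv D11997) (iv D9201) (iv F30551) D11993
def n15620 : Q := act 7 n11993
theorem D15620 : act 7 n11993 = n15620 := rfl
def n15621 : Q := act 3 n11995
theorem D15621 : act 3 n11995 = n15621 := rfl
theorem F50742 : act 6 n15621 = n12207 := d20_2 (iv F39391) D15621 (iv D12207)
def n15624 : Q := act 7 n11997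
theorem D15624 : act 7 n11997 = n15624 := rfl
def n15631 : Q := act 1 n12003
theorem D15631 : act 1 n12003 = n15631 := rfl
theorem F50770 : act 6 n15631 = n12025 := d11_2 (iv F39412) D15631 (iv D12025)
def n15634 : Q := act 7 n12005
theorem D15634 : act 7 n12005 = n15634 := rfl
def n15637 : Q := act 3 n12007
theorem D15637 : act 3 n12007 = n15637 := rfl
theorem F50787 : act 6 n15637 = n12031 := d20_2 (iv F39423) D15637 (iv D12031)
def n15639 : Q := act 0 n12009
theorem D15639 : act 0 n12009 = n15639 := rfl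
theorem F50792 : act 6 n15639 = n12033 := d5_2 (iv F39428) D15639 (iv D12033)
def n15640 : Q := act 7 n12009
theorem D15640 : act 7 n12009 = n15640 := rfl
theorem F50794 : act 3 n15640 = n12088 := d21_1 D15640 (iv D12088) (iv F39426)
def n15642 : Q := act 7 n12011
theorem D15642 : act 7 n12011 = n15642 := rfl
def n15644 : Q := act 3 n12014
theorem D15644 : act 3 n12014 = n15644 := rfl
theorem F50806 : act 4 n15644 = n12216 := d18_2 D12014 D15644 (iv D12216) (iv D9374) (iv F30593)
def n15645 : Q := act 6 n12014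
theorem D15645 : act 6 n12014 = n15645 := rfl
theorem F50809 : act 4 n15645 = n12015 := d23_1 D15645 (iv D12015) D12014
def n15648 : Q := act 1 n12016
theorem D15648 : act 1 n12016 = n15648 := rfl
theorem F50819 : act 6 n15648 = n12021 := d11_2 (iv F39447) D15648 (iv D12021)
def n15649 : Q := act 7 n12016
theorem D15649 : act 7 n12016 = n15649 := rfl
theorem F50821 : act 2 n15649 = n12017 := d17_1 D15649 (iv D12017) D12016
def n15653 : Q := act 7 n12019
theorem D15653 : act 7 n12019 = n15653 := rfl
theorem F50833 : act 2 n15653 = n12020 := d17_1 D15653 (iv D12020) D12019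
theorem F50835 : act 5 n15653 = n12022 := d26_1 D15653 (iv D12022) (iv F39456)
def n15654 : Q := act 0 n12021
theorem D15654 : act 0 n12021 = n15654 := rfl
theorem F50837 : act 2 n15654 = n12027 := d1_2 (iv F39462) D15654 (iv D12027)
def n15655 : Q := act 7 n12021
theorem D15655 : act 7 n12021 = n15655 := rfl
theorem F50839 : act 1 n15655 = n12022 := d12_1 D15655 (iv D12022) D12021
theorem F50840 : act 2 n15655 = n12028 := d17_1 D15655 (iv D12028) (iv F39462)
def n15656 : Q := act 6 n12022
theorem D15656 : act 6 n12022 = n15656 := rfl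
def n15661 : Q := act 7 n12025
theorem D15661 : act 7 n12025 = n15661 := rfl
theorem F50856 : act 5 n15661 = n12028 := d26_1 D15661 (iv D12028) (iv F39473)
def n15663 : Q := act 7 n12027
theorem D15663 : act 7 n12027 = n15663 := rfl
theorem F50862 : act 1 n15663 = n12036 := d12_1 D15663 (iv D12036) (iv F39478)
def n15664 : Q := act 6 n12028
theorem D15664 : act 6 n12028 = n15664 := rfl
def n15668 : Q := act 7 n12031
theorem D15668 : act 7 n12031 = n15668 := rfl
theorem F50873 : act 3 n15668 = n12032 := d21_1 D15668 (iv D12032) D12031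
def n15670 : Q := act 7 n12033
theorem D15670 : act 7 n12033 = n15670 := rfl
theorem F50880 : act 5 n15670 = n12036 := d26_1 D15670 (iv D12036) (iv F39492)
def n15671 : Q := act 6 n12034
theorem D15671 : act 6 n12034 = n15671 := rfl
def n15672 : Q := act 6 n12036
theorem D15672 : act 6 n12036 = n15672 := rfl
def n15700 : Q := act 3 n12056
theorem D15700 : act 3 n12056 = n15700 := rfl
theorem F50971 : act 2 n15700 = n12085 := d13_1 D15700 (iv D12085) (iv D9268) (iv F30693) D12056
def n15709 : Q := act 1 n12064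
theorem D15709 : act 1 n12064 = n15709 := rfl
theorem F50997 : act 2 n15709 = n12079 := d7_2 D12064 D15709 (iv D12079) (iv D9264) (iv F30711)
def n15710 : Q := act 3 n12064
theorem D15710 : act 3 n12064 = n15710 := rfl
theorem F51001 : act 2 n15710 = n12069 := d13_1 D15710 (iv D12069) (iv D9256) (iv F30712) D12064
def n15711 : Q := act 7 n12064
theorem D15711 : act 7 n12064 = n15711 := rfl
def n15713 : Q := act 3 n12066
theorem D15713 : act 3 n12066 = n15713 := rfl
theorem F51011 : act 1 n15713 = n12067 := d8_1 D15713 (iv D12067) D12066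
def n15714 : Q := act 7 n12066
theorem D15714 : act 7 n12066 = n15714 := rfl
theorem F51014 : act 2 n15714 = n12082 := d17_1 D15714 (iv D12082) (iv F39597)
def n15716 : Q := act 7 n12067
theorem D15716 : act 7 n12067 = n15716 := rfl
theorem F51021 : act 2 n15716 = n12072 := d17_1 D15716 (iv D12072) (iv F39601)
def n15719 : Q := act 7 n12069
theorem D15719 : act 7 n12069 = n15719 := rfl
def n15723 : Q := act 6 n12072
theorem D15723 : act 6 n12072 = n15723 := rfl
theorem F51044 : act 7 n15723 = n12250 := d27_2 D12072 D15723 (iv D12250) (iv D9401) (iv F30730)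
def n15731 : Q := act 7 n12079
theorem D15731 : act 7 n12079 = n15731 := rfl
def n15734 : Q := act 6 n12082
theorem D15734 : act 6 n12082 = n15734 := rfl
theorem F51079 : act 7 n15734 = n12099 := d27_2 D12082 D15734 (iv D12099) (iv D9280) (iv F30754)
def n15735 : Q := act 0 n12084
theorem D15735 : act 0 n12084 = n15735 := rfl
theorem F51081 : act 4 n15735 = n12087 := d3_2 (iv F39653) D15735 (iv D12087)
theorem F51083 : act 6 n15735 = n12100 := d5_2 (iv F39655) D15735 (iv D12100)
def n15738 : Q := act 7 n12085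
theorem D15738 : act 7 n12085 = n15738 := rfl
def n15739 : Q := act 6 n12086
theorem D15739 : act 6 n12086 = n15739 := rfl
theorem F51096 : act 7 n15739 = n12104 := d27_2 D12086 D15739 (iv D12104) (iv D9284) (iv F30760)
def n15740 : Q := act 7 n12087
theorem D15740 : act 7 n12087 = n15740 := rfl
def n15741 : Q := act 6 n12088
theorem D15741 : act 6 n12088 = n15741 := rfl
theorem F51100 : act 1 n15741 = n12089 := d11_1 D15741 (iv D12089) (iv F39664)
theorem F51102 : act 7 n15741 = n12106 := d27_2 D12088 D15741 (iv D12106) (iv D9286) (iv F30767)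
def n15750 : Q := act 6 n12096
theorem D15750 : act 6 n12096 = n15750 := rfl
def n15754 : Q := act 7 n12100
theorem D15754 : act 7 n12100 = n15754 := rfl
theorem F51142 : act 2 n15754 = n12110 := d17_1 D15754 (iv D12110) (iv F39700)
theorem F51143 : act 4 n15754 = n12105 := d24_1 D15754 (iv D12105) (iv F39701)
def n15758 : Q := act 6 n12103
theorem D15758 : act 6 n12103 = n15758 := rfl
def n15759 : Q := act 6 n12105
theorem D15759 : act 6 n12105 = n15759 := rfl
def n15760 : Q := act 2 n12106
theorem D15760 : act 2 n12106 = n15760 := rfl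
theorem F51157 : act 1 n15760 = n12923 := d7_1 D15760 (iv D12923) F32891 (iv F30813) (iv F39717)
def n15761 : Q := act 2 n12107
theorem D15761 : act 2 n12107 = n15761 := rfl
theorem F51162 : act 6 n15761 = n12117 := d16_2 D12107 D15761 (iv D12117) (iv D9297) (iv F30816)
def n15821 : Q := act 2 n12152
theorem D15821 : act 2 n12152 = n15821 := rfl
theorem F51373 : act 6 n15821 = n12155 := d16_2 D12152 D15821 (iv D12155) (iv D9325) D9323
def n15826 : Q := act 1 n12155
theorem D15826 : act 1 n12155 = n15826 := rfl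
theorem F51389 : act 0 n15826 = n15826 := d0_1 D15826 (iv D15826) F39887 F31066 (iv F39887)
theorem F51390 : act 2 n15826 = n12167 := d7_2 D12155 D15826 (iv D12167) (iv D9333) (iv F30948)
def n15827 : Q := act 3 n12155
theorem D15827 : act 3 n12155 = n15827 := rfl
theorem F51393 : act 2 n15827 = n12159 := d13_1 D15827 (iv D12159) (iv D9327) (iv F30949) D12155
def n15828 : Q := act 7 n12155
theorem D15828 : act 7 n12155 = n15828 := rfl
theorem F51394 : act 0 n15828 = n12206 := d6_1 D15828 (iv D12206) (iv F39887)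
theorem F51395 : act 2 n15828 = n12156 := d17_1 D15828 (iv D12156) D12155
def n15831 : Q := act 4 n12159
theorem D15831 : act 4 n12159 = n15831 := rfl
def n15832 : Q := act 7 n12159
theorem D15832 : act 7 n12159 = n15832 := rfl
theorem F51409 : act 3 n15832 = n12160 := d21_1 D15832 (iv D12160) D12159
def n15859 : Q := act 7 n12181
theorem D15859 : act 7 n12181 = n15859 := rfl
theorem F51493 : act 3 n15859 = n12182 := d21_1 D15859 (iv D12182) D12181
def n15860 : Q := act 6 n12182
theorem D15860 : act 6 n12182 = n15860 := rfl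
def n15864 : Q := act 2 n12186
theorem D15864 : act 2 n12186 = n15864 := rfl
def n15880 : Q := act 2 n12199
theorem D15880 : act 2 n12199 = n15880 := rfl
theorem F51560 : act 6 n15880 = n12203 := d16_2 D12199 D15880 (iv D12203) (iv D9361) (iv F31056)
def n15882 : Q := act 3 n12200
theorem D15882 : act 3 n12200 = n15882 := rfl
theorem F51565 : act 6 n15882 = n12205 := d20_2 (iv F40033) D15882 (iv D12205)
def n15887 : Q := act 7 n12203
theorem D15887 : act 7 n12203 = n15887 := rfl
theorem F51581 : act 5 n15887 = n12206 := d26_1 D15887 (iv D12206) (iv F40041)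
def n15889 : Q := act 7 n12205
theorem D15889 : act 7 n12205 = n15889 := rfl
theorem F51586 : act 2 n15889 = n12210 := d17_1 D15889 (iv D12210) (iv F40047)
theorem F51587 : act 3 n15889 = n12206 := d21_1 D15889 (iv D12206) D12205
def n15892 : Q := act 7 n12207
theorem D15892 : act 7 n12207 = n15892 := rfl
theorem F51594 : act 5 n15892 = n12210 := d26_1 D15892 (iv D12210) (iv F40052)
def n15896 : Q := act 6 n12210
theorem D15896 : act 6 n12210 = n15896 := rfl
def n15900 : Q := act 6 n12216
theorem D15900 : act 6 n12216 = n15900 := rfl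
theorem F51613 : act 3 n15900 = n12217 := d20_1 D15900 (iv D12217) D12216
def n15936 : Q := act 6 n12246
theorem D15936 : act 6 n12246 = n15936 := rfl
def n15990 : Q := act 7 n12288
theorem D15990 : act 7 n12288 = n15990 := rfl
theorem F51905 : act 2 n15990 = n12297 := d17_1 D15990 (iv D12297) (iv F40311)
theorem F51906 : act 5 n15990 = n12327 := d26_1 D15990 (iv D12327) (iv F40312)
def n15991 : Q := act 4 n12290
theorem D15991 : act 4 n12290 = n15991 := rfl
def n15992 : Q := act 6 n12290
theorem D15992 : act 6 n12290 = n15992 := rfl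
theorem F51913 : act 1 n15992 = n12292 := d11_1 D15992 (iv D12292) D12290
def n15995 : Q := act 6 n12291
theorem D15995 : act 6 n12291 = n15995 := rfl
theorem F51925 : act 4 n15995 = n12292 := d23_1 D15995 (iv D12292) D12291
def n15996 : Q := act 7 n12292
theorem D15996 : act 7 n12292 = n15996 := rfl
theorem F51926 : act 0 n15996 = n12297 := d6_1 D15996 (iv D12297) (iv F40326)
theorem F51927 : act 3 n15996 = n12415 := d21_1 D15996 (iv D12415) (iv F40327)
theorem F51928 : act 5 n15996 = n12333 := d26_1 D15996 (iv D12333) (iv F40328)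
theorem F51929 : act 6 n15996 = n12303 := d27_1 D15996 (iv D12303) (iv D9442) (iv F31311) D12292
def n16000 : Q := act 7 n12296
theorem D16000 : act 7 n12296 = n16000 := rfl
theorem F51941 : act 4 n16000 = n12297 := d24_1 D16000 (iv D12297) (iv F40343)
theorem F51942 : act 6 n16000 = n12307 := d27_1 D16000 (iv D12307) (iv D9446) (iv F31318) D12296
def n16001 : Q := act 3 n12298
theorem D16001 : act 3 n12298 = n16001 := rfl
theorem F51945 : act 4 n16001 = n12420 := d18_2 D12298 D16001 (iv D12420) (iv D9532) (iv F31328)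
def n16002 : Q := act 5 n12298
theorem D16002 : act 5 n12298 = n16002 := rfl
theorem F51947 : act 1 n16002 = n12301 := d10_1 D16002 (iv D12301) (iv F40349)
def n16003 : Q := act 6 n12298
theorem D16003 : act 6 n12298 = n16003 := rfl
theorem F51951 : act 1 n16003 = n12302 := d11_1 D16003 (iv D12302) (iv F40349)
theorem F51952 : act 4 n16003 = n12299 := d23_1 D16003 (iv D12299) D12298
def n16004 : Q := act 2 n12299
theorem D16004 : act 2 n12299 = n16004 := rfl
theorem F51953 : act 0 n16004 = n16004 := d1_1 D16004 (iv D16004) F40351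
theorem F51954 : act 1 n16004 = n16004 := d7_1 D16004 (iv D16004) F40352 F31333 (iv F40352)
theorem F51955 : act 5 n16004 = n12341 := d15_2 (iv F40354) D16004 (iv D12341)
theorem F51956 : act 6 n16004 = n16004 := d16_2 D12299 D16004 (iv D16004) (iv D12299) F31327
def n16005 : Q := act 7 n12299
theorem D16005 : act 7 n12299 = n16005 := rfl
theorem F51958 : act 1 n16005 = n12303 := d12_1 D16005 (iv D12303) (iv F40352)
def n16009 : Q := act 7 n12302
theorem D16009 : act 7 n12302 = n16009 := rfl
theorem F51973 : act 4 n16009 = n12303 := d24_1 D16009 (iv D12303) (iv F40363)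
def n16037 : Q := act 7 n12322
theorem D16037 : act 7 n12322 = n16037 := rfl
theorem F52059 : act 0 n16037 = n12327 := d6_1 D16037 (iv D12327) (iv F40427)
def n16044 : Q := act 6 n12328
theorem D16044 : act 6 n12328 = n16044 := rfl
theorem F52080 : act 1 n16044 = n12332 := d11_1 D16044 (iv D12332) (iv F40443)
theorem F52081 : act 4 n16044 = n12329 := d23_1 D16044 (iv D12329) D12328
def n16045 : Q := act 2 n12329
theorem D16045 : act 2 n12329 = n16045 := rfl
def n16046 : Q := act 7 n12329
theorem D16046 : act 7 n12329 = n16046 := rfl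
theorem F52085 : act 1 n16046 = n12333 := d12_1 D16046 (iv D12333) (iv F40447)
theorem F52087 : act 6 n16046 = n12342 := d27_1 D16046 (iv D12342) (iv D9471) (iv F31404) D12329
def n16060 : Q := act 2 n12340
theorem D16060 : act 2 n12340 = n16060 := rfl
theorem F52132 : act 4 n16060 = n12341 := d14_2 (iv F40481) D16060 (iv D12341)
def n16061 : Q := act 7 n12340
theorem D16061 : act 7 n12340 = n16061 := rfl
theorem F52136 : act 4 n16061 = n12342 := d24_1 D16061 (iv D12342) (iv F40481)
def n16062 : Q := act 3 n12341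
theorem D16062 : act 3 n12341 = n16062 := rfl
theorem F52137 : act 0 n16062 = n16062 := d2_1 D16062 (iv D16062) F40482
theorem F52138 : act 1 n16062 = n16062 := d8_1 D16062 (iv D16062) F40483
theorem F52139 : act 2 n16062 = n12454 := d13_1 D16062 (iv D12454) (iv D9555) (iv F31431) D12341
theorem F52140 : act 6 n16062 = n16062 := d20_2 F40484 D16062 (iv D16062)
def n16063 : Q := act 7 n12341
theorem D16063 : act 7 n12341 = n16063 := rfl
theorem F52141 : act 0 n16063 = n16063 := d6_1 D16063 (iv D16063) F40482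
theorem F52142 : act 1 n16063 = n16063 := d12_1 D16063 (iv D16063) F40483
theorem F52143 : act 2 n16063 = n12342 := d17_1 D16063 (iv D12342) D12341
def n16152 : Q := act 3 n12410
theorem D16152 : act 3 n12410 = n16152 := rfl
def n16154 : Q := act 6 n12410
theorem D16154 : act 6 n12410 = n16154 := rfl
theorem F52432 : act 1 n16154 = n12414 := d11_1 D16154 (iv D12414) (iv F40706)
theorem F52433 : act 4 n16154 = n12411 := d23_1 D16154 (iv D12411) D12410
def n16155 : Q := act 2 n12411
theorem D16155 : act 2 n12411 = n16155 := rfl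
theorem F52434 : act 0 n16155 = n16155 := d1_1 D16155 (iv D16155) F40709
theorem F52435 : act 5 n16155 = n12437 := d15_2 (iv F40711) D16155 (iv D12437)
theorem F52436 : act 6 n16155 = n12571 := d16_2 D12411 D16155 (iv D12571) (iv D9647) (iv F31601)
def n16156 : Q := act 7 n12411
theorem D16156 : act 7 n12411 = n16156 := rfl
theorem F52438 : act 1 n16156 = n12415 := d12_1 D16156 (iv D12415) (iv F40710)
theorem F52439 : act 5 n16156 = n12438 := d26_1 D16156 (iv D12438) (iv F40711)
theorem F52440 : act 6 n16156 = n12424 := d27_1 D16156 (iv D12424) (iv D9533) (iv F31603) D12411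
def n16158 : Q := act 6 n12412
theorem D16158 : act 6 n12412 = n16158 := rfl
theorem F52446 : act 3 n16158 = n12414 := d20_1 D16158 (iv D12414) D12412
def n16166 : Q := act 2 n12420
theorem D16166 : act 2 n12420 = n16166 := rfl
def n16173 : Q := act 7 n12423
theorem D16173 : act 7 n12423 = n16173 := rfl
theorem F52493 : act 1 n16173 = n12510 := d12_1 D16173 (iv D12510) (iv F40746)
theorem F52494 : act 2 n16173 = n12424 := d17_1 D16173 (iv D12424) D12423
def n16186 : Q := act 6 n12434
theorem D16186 : act 6 n12434 = n16186 := rfl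
theorem F52535 : act 3 n16186 = n12436 := d20_1 D16186 (iv D12436) D12434
def n16187 : Q := act 6 n12435
theorem D16187 : act 6 n12435 = n16187 := rfl
theorem F52537 : act 1 n16187 = n12441 := d11_1 D16187 (iv D12441) (iv F40782)
theorem F52538 : act 5 n16187 = n12436 := d25_1 D16187 (iv D12436) D12435
def n16188 : Q := act 2 n12436
theorem D16188 : act 2 n12436 = n16188 := rfl
theorem F52539 : act 0 n16188 = n16188 := d1_1 D16188 (iv D16188) F40785
theorem F52540 : act 4 n16188 = n12437 := d14_2 (iv F40787) D16188 (iv D12437)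
theorem F52541 : act 6 n16188 = n12604 := d16_2 D12436 D16188 (iv D12604) (iv D9672) (iv F31657)
def n16189 : Q := act 7 n12436
theorem D16189 : act 7 n12436 = n16189 := rfl
theorem F52543 : act 1 n16189 = n12442 := d12_1 D16189 (iv D12442) (iv F40786)
def n16190 : Q := act 3 n12437
theorem D16190 : act 3 n12437 = n16190 := rfl
theorem F52546 : act 0 n16190 = n16190 := d2_1 D16190 (iv D16190) F40788
theorem F52547 : act 6 n16190 = n12606 := d20_2 (iv F40789) D16190 (iv D12606)
def n16191 : Q := act 7 n12437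
theorem D16191 : act 7 n12437 = n16191 := rfl
theorem F52548 : act 0 n16191 = n16191 := d6_1 D16191 (iv D16191) F40788
theorem F52549 : act 2 n16191 = n12438 := d17_1 D16191 (iv D12438) D12437
def n16277 : Q := act 4 n12504
theorem D16277 : act 4 n12504 = n16277 := rfl
theorem F52783 : act 0 n16277 = n12701 := d3_1 D16277 (iv D12701) (iv F40975)
def n16356 : Q := act 2 n12568
theorem D16356 : act 2 n12568 = n16356 := rfl
theorem F53027 : act 4 n16356 = n16356 := d14_2 F41173 D16356 (iv D16356)
theorem F53028 : act 7 n16356 = n12582 := d17_2 (iv F41174) D16356 (iv D12582)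
def n16359 : Q := act 6 n12569
theorem D16359 : act 6 n12569 = n16359 := rfl
theorem F53038 : act 1 n16359 = n12575 := d11_1 D16359 (iv D12575) (iv F41176)
theorem F53039 : act 4 n16359 = n12603 := d23_1 D16359 (iv D12603) (iv F41177)
def n16360 : Q := act 2 n12570
theorem D16360 : act 2 n12570 = n16360 := rfl
theorem F53042 : act 4 n16360 = n12571 := d14_2 (iv F41181) D16360 (iv D12571)
def n16362 : Q := act 3 n12571
theorem D16362 : act 3 n12571 = n16362 := rfl
theorem F53047 : act 0 n16362 = n16362 := d2_1 D16362 (iv D16362) F41182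
theorem F53048 : act 2 n16362 = n16362 := d13_1 D16362 (iv D16362) (iv D12571) F31962 D12571
theorem F53049 : act 5 n16362 = n12606 := d19_2 (iv F41183) D16362 (iv D12606)
def n16363 : Q := act 7 n12571
theorem D16363 : act 7 n12571 = n16363 := rfl
theorem F53052 : act 5 n16363 = n12607 := d26_1 D16363 (iv D12607) (iv F41183)
def n16364 : Q := act 4 n12573
theorem D16364 : act 4 n12573 = n16364 := rfl
theorem F53055 : act 3 n16364 = n12608 := d18_1 D16364 (iv D12608) F32054 (iv F31970) (iv F41191)
theorem F53057 : act 7 n16364 = n12590 := d24_2 (iv F41192) D16364 (iv D12590)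
def n16367 : Q := act 7 n12574
theorem D16367 : act 7 n12574 = n16367 := rfl
theorem F53065 : act 3 n16367 = n12576 := d21_1 D16367 (iv D12576) (iv F41194)
theorem F53066 : act 4 n16367 = n16367 := d24_1 D16367 (iv D16367) F41195
def n16369 : Q := act 6 n12577
theorem D16369 : act 6 n12577 = n16369 := rfl
theorem F53073 : act 3 n16369 = n12613 := d20_1 D16369 (iv D12613) (iv F41204)
theorem F53074 : act 4 n16369 = n12578 := d23_1 D16369 (iv D12578) D12577
def n16374 : Q := act 5 n12582
theorem D16374 : act 5 n12582 = n16374 := rfl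
theorem F53089 : act 2 n16374 = n12583 := d15_1 D16374 (iv D12583) D12582
def n16376 : Q := act 4 n12583
theorem D16376 : act 4 n12583 = n16376 := rfl
theorem F53094 : act 1 n16376 = n12590 := d9_1 D16376 (iv D12590) (iv F41224)
theorem F53095 : act 3 n16376 = n12620 := d18_1 D16376 (iv D12620) F32085 (iv F31996) (iv F41225)
def n16379 : Q := act 7 n12584
theorem D16379 : act 7 n12584 = n16379 := rfl
theorem F53105 : act 3 n16379 = n12587 := d21_1 D16379 (iv D12587) (iv F41228)
theorem F53106 : act 4 n16379 = n16379 := d24_1 D16379 (iv D16379) F41229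
def n16385 : Q := act 7 n12588
theorem D16385 : act 7 n12588 = n16385 := rfl
theorem F53126 : act 2 n16385 = n16385 := d17_1 D16385 (iv D16385) F41242
theorem F53127 : act 3 n16385 = n12589 := d21_1 D16385 (iv D12589) D12588
def n16387 : Q := act 6 n12590
theorem D16387 : act 6 n12590 = n16387 := rfl
theorem F53134 : act 4 n16387 = n12591 := d23_1 D16387 (iv D12591) D12590
theorem F53135 : act 5 n16387 = n16387 := d25_1 D16387 (iv D16387) F41251
def n16391 : Q := act 7 n12592
theorem D16391 : act 7 n12592 = n16391 := rfl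
theorem F53148 : act 3 n16391 = n12666 := d21_1 D16391 (iv D12666) (iv F41256)
theorem F53149 : act 4 n16391 = n16391 := d24_1 D16391 (iv D16391) F41257
def n16392 : Q := act 2 n12595
theorem D16392 : act 2 n12595 = n16392 := rfl
theorem F53151 : act 4 n16392 = n12596 := d14_2 (iv F41268) D16392 (iv D12596)
theorem F53152 : act 5 n16392 = n16392 := d15_2 F41269 D16392 (iv D16392)
def n16394 : Q := act 1 n12596
theorem D16394 : act 1 n12596 = n16394 := rfl
theorem F53159 : act 3 n16394 = n12667 := d8_2 (iv F41270) D16394 (iv D12667)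
theorem F53160 : act 5 n16394 = n12598 := d10_2 (iv F41271) D16394 (iv D12598)
def n16397 : Q := act 7 n12598
theorem D16397 : act 7 n12598 = n16397 := rfl
theorem F53171 : act 3 n16397 = n12670 := d21_1 D16397 (iv D12670) (iv F41277)
theorem F53172 : act 4 n16397 = n16397 := d24_1 D16397 (iv D16397) F41278
def n16402 : Q := act 6 n12601
theorem D16402 : act 6 n12601 = n16402 := rfl
theorem F53189 : act 3 n16402 = n12603 := d20_1 D16402 (iv D12603) (iv F41289)
theorem F53190 : act 5 n16402 = n12602 := d25_1 D16402 (iv D12602) D12601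
def n16404 : Q := act 7 n12602
theorem D16404 : act 7 n12602 = n16404 := rfl
theorem F53195 : act 3 n16404 = n12605 := d21_1 D16404 (iv D12605) (iv F41293)
theorem F53197 : act 6 n16404 = n12623 := d27_1 D16404 (iv D12623) (iv D9686) (iv F32040) D12602
def n16405 : Q := act 2 n12603
theorem D16405 : act 2 n12603 = n16405 := rfl
theorem F53199 : act 5 n16405 = n12604 := d15_2 (iv F41297) D16405 (iv D12604)
def n16406 : Q := act 7 n12603
theorem D16406 : act 7 n12603 = n16406 := rfl
theorem F53201 : act 1 n16406 = n12612 := d12_1 D16406 (iv D12612) (iv F41296)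
def n16407 : Q := act 3 n12604
theorem D16407 : act 3 n12604 = n16407 := rfl
def n16408 : Q := act 7 n12604
theorem D16408 : act 7 n12604 = n16408 := rfl
theorem F53205 : act 0 n16408 = n16408 := d6_1 D16408 (iv D16408) F41298
theorem F53206 : act 2 n16408 = n12605 := d17_1 D16408 (iv D12605) D12604
theorem F53207 : act 4 n16408 = n12607 := d24_1 D16408 (iv D12607) (iv F41299)
def n16409 : Q := act 4 n12606
theorem D16409 : act 4 n12606 = n16409 := rfl
def n16410 : Q := act 7 n12606
theorem D16410 : act 7 n12606 = n16410 := rfl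
theorem F53212 : act 3 n16410 = n12607 := d21_1 D16410 (iv D12607) D12606
def n16411 : Q := act 6 n12607
theorem D16411 : act 6 n12607 = n16411 := rfl
theorem F53214 : act 2 n16411 = n12630 := d16_1 D16411 (iv D12630) F32104 (iv F32051) (iv F41307)
def n16413 : Q := act 2 n12609
theorem D16413 : act 2 n12609 = n16413 := rfl
theorem F53219 : act 5 n16413 = n12610 := d15_2 (iv F41314) D16413 (iv D12610)
theorem F53220 : act 6 n16413 = n12643 := d16_2 D12609 D16413 (iv D12643) (iv D9705) (iv F32053)
def n16414 : Q := act 7 n12609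
theorem D16414 : act 7 n12609 = n16414 := rfl
theorem F53222 : act 3 n16414 = n12612 := d21_1 D16414 (iv D12612) (iv F41313)
def n16425 : Q := act 2 n12619
theorem D16425 : act 2 n12619 = n16425 := rfl
theorem F53261 : act 6 n16425 = n12622 := d16_2 D12619 D16425 (iv D12622) (iv D9686) D9684
def n16427 : Q := act 6 n12620
theorem D16427 : act 6 n12620 = n16427 := rfl
theorem F53267 : act 4 n16427 = n12621 := d23_1 D16427 (iv D12621) D12620
def n16428 : Q := act 2 n12621
theorem D16428 : act 2 n12621 = n16428 := rfl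
theorem F53271 : act 5 n16428 = n12622 := d15_2 (iv F41352) D16428 (iv D12622)
def n16430 : Q := act 3 n12622
theorem D16430 : act 3 n12622 = n16430 := rfl
theorem F53278 : act 2 n16430 = n12626 := d13_1 D16430 (iv D12626) (iv D9688) (iv F32088) D12622
def n16431 : Q := act 7 n12622
theorem D16431 : act 7 n12622 = n16431 := rfl
theorem F53279 : act 0 n16431 = n16431 := d6_1 D16431 (iv D16431) F41353
theorem F53280 : act 1 n16431 = n16431 := d12_1 D16431 (iv D16431) F41354
theorem F53281 : act 2 n16431 = n12623 := d17_1 D16431 (iv D12623) D12622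
theorem F53282 : act 4 n16431 = n16431 := d24_1 D16431 (iv D16431) F41355
def n16483 : Q := act 7 n12667
theorem D16483 : act 7 n12667 = n16483 := rfl
theorem F53445 : act 2 n16483 = n12802 := d17_1 D16483 (iv D12802) (iv F41498)
theorem F53447 : act 5 n16483 = n12670 := d26_1 D16483 (iv D12670) (iv F41500)
def n16487 : Q := act 4 n12672
theorem D16487 : act 4 n12672 = n16487 := rfl
theorem F53457 : act 0 n16487 = n12806 := d3_1 D16487 (iv D12806) (iv F41513)
def n16490 : Q := act 5 n12674
theorem D16490 : act 5 n12674 = n16490 := rfl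
theorem F53465 : act 0 n16490 = n12809 := d4_1 D16490 (iv D12809) (iv F41519)
def n16539 : Q := act 7 n12713
theorem D16539 : act 7 n12713 = n16539 := rfl
theorem F53621 : act 2 n16539 = n12714 := d17_1 D16539 (iv D12714) D12713
def n16544 : Q := act 3 n12717
theorem D16544 : act 3 n12717 = n16544 := rfl
theorem F53638 : act 2 n16544 = n12746 := d13_1 D16544 (iv D12746) (iv D9786) (iv F32351) D12717
theorem F53641 : act 6 n16544 = n12863 := d20_2 (iv F41662) D16544 (iv D12863)
def n16546 : Q := act 0 n12719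
theorem D16546 : act 0 n12719 = n16546 := rfl
theorem F53647 : act 6 n16546 = n12865 := d5_2 (iv F41668) D16546 (iv D12865)
def n16558 : Q := act 7 n12727
theorem D16558 : act 7 n12727 = n16558 := rfl
theorem F53682 : act 2 n16558 = n12743 := d17_1 D16558 (iv D12743) (iv F41689)
def n16562 : Q := act 4 n12730
theorem D16562 : act 4 n12730 = n16562 := rfl
theorem F53692 : act 6 n16562 = n12806 := d23_2 (iv F41698) D16562 (iv D12806)
def n16578 : Q := act 6 n12743
theorem D16578 : act 6 n12743 = n16578 := rfl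
theorem F53745 : act 7 n16578 = n12760 := d27_2 D12743 D16578 (iv D12760) (iv D9798) (iv F32406)
def n16649 : Q := act 6 n12802
theorem D16649 : act 6 n12802 = n16649 := rfl
theorem F53963 : act 7 n16649 = n12968 := d27_2 D12802 D16649 (iv D12968) (iv D9968) (iv F32561)
def n16653 : Q := act 7 n12806
theorem D16653 : act 7 n12806 = n16653 := rfl
theorem F53975 : act 4 n16653 = n12807 := d24_1 D16653 (iv D12807) D12806
def n16655 : Q := act 7 n12809
theorem D16655 : act 7 n12809 = n16655 := rfl
theorem F53982 : act 5 n16655 = n12810 := d26_1 D16655 (iv D12810) D12809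
def n16656 : Q := act 6 n12810
theorem D16656 : act 6 n12810 = n16656 := rfl
theorem F53985 : act 4 n16656 = n12811 := d23_1 D16656 (iv D12811) (iv F41949)
def n16684 : Q := act 3 n12833
theorem D16684 : act 3 n12833 = n16684 := rfl
theorem F54058 : act 2 n16684 = n13031 := d13_1 D16684 (iv D13031) (iv D10021) (iv F32641) D12833
def n16723 : Q := act 0 n12862
theorem D16723 : act 0 n12862 = n16723 := rfl
theorem F54185 : act 4 n16723 = n12865 := d3_2 (iv F42108) D16723 (iv D12865)
def n16735 : Q := act 0 n12872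
theorem D16735 : act 0 n12872 = n16735 := rfl
theorem F54224 : act 2 n16735 = n12893 := d1_2 (iv F42140) D16735 (iv D12893)
def n16737 : Q := act 7 n12872
theorem D16737 : act 7 n12872 = n16737 := rfl
theorem F54231 : act 1 n16737 = n12874 := d12_1 D16737 (iv D12874) D12872
theorem F54232 : act 2 n16737 = n12894 := d17_1 D16737 (iv D12894) (iv F42140)
def n16739 : Q := act 7 n12873
theorem D16739 : act 7 n12873 = n16739 := rfl
theorem F54238 : act 2 n16739 = n12882 := d17_1 D16739 (iv D12882) (iv F42144)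
theorem F54239 : act 3 n16739 = n12874 := d21_1 D16739 (iv D12874) D12873
def n16751 : Q := act 6 n12882
theorem D16751 : act 6 n12882 = n16751 := rfl
theorem F54284 : act 7 n16751 = n12973 := d27_2 D12882 D16751 (iv D12973) (iv D9973) (iv F32761)
def n16758 : Q := act 0 n12890
theorem D16758 : act 0 n12890 = n16758 := rfl
theorem F54308 : act 4 n16758 = n12893 := d3_2 (iv F42204) D16758 (iv D12893)
theorem F54310 : act 6 n16758 = n12907 := d5_2 (iv F42206) D16758 (iv D12907)
def n16764 : Q := act 6 n12894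
theorem D16764 : act 6 n12894 = n16764 := rfl
theorem F54333 : act 7 n16764 = n12913 := d27_2 D12894 D16764 (iv D12913) (iv D9923) (iv F32798)
def n16771 : Q := act 6 n12900
theorem D16771 : act 6 n12900 = n16771 := rfl
theorem F54359 : act 7 n16771 = n12920 := d27_2 D12900 D16771 (iv D12920) (iv D9929) (iv F32817)
def n16773 : Q := act 6 n12903
theorem D16773 : act 6 n12903 = n16773 := rfl
theorem F54367 : act 7 n16773 = n12922 := d27_2 D12903 D16773 (iv D12922) (iv D9932) (iv F32827)
def n16774 : Q := act 2 n12904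
theorem D16774 : act 2 n12904 = n16774 := rfl
theorem F54370 : act 7 n16774 = n12923 := d17_2 (iv F42259) D16774 (iv D12923)
def n16778 : Q := act 7 n12907
theorem D16778 : act 7 n12907 = n16778 := rfl
theorem F54382 : act 0 n16778 = n12909 := d6_1 D16778 (iv D12909) D12907
def n16788 : Q := act 7 n12916
theorem D16788 : act 7 n12916 = n16788 := rfl
theorem F54417 : act 3 n16788 = n12917 := d21_1 D16788 (iv D12917) D12916
def n17737 : Q := act 3 n13663
theorem D17737 : act 3 n13663 = n17737 := rfl
theorem F57589 : act 0 n17737 = n13664 := d2_1 D17737 (iv D13664) D13663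
theorem F57592 : act 6 n17737 = n13666 := d20_2 (iv F44831) D17737 (iv D13666)
def n17738 : Q := act 2 n13664
theorem D17738 : act 2 n13664 = n17738 := rfl
theorem F57593 : act 5 n17738 = n13689 := d15_2 (iv F44833) D17738 (iv D13689)
def n17741 : Q := act 2 n13666
theorem D17741 : act 2 n13666 = n17741 := rfl
theorem F57600 : act 3 n17741 = n13830 := d13_2 D13666 D17741 (iv D13830) (iv D10633) (iv F34875)
def n17744 : Q := act 6 n13667
theorem D17744 : act 6 n13667 = n17744 := rfl
theorem F57609 : act 1 n17744 = n13718 := d11_1 D17744 (iv D13718) (iv F44841)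
theorem F57610 : act 3 n17744 = n13833 := d20_1 D17744 (iv D13833) (iv F44842)
theorem F57611 : act 5 n17744 = n13695 := d25_1 D17744 (iv D13695) (iv F44843)
def n17745 : Q := act 5 n13668
theorem D17745 : act 5 n13668 = n17745 := rfl
theorem F57613 : act 4 n17745 = n13696 := d22_1 D17745 (iv D13696) (iv D10536) (iv F34879) D13668
def n17772 : Q := act 5 n13687
theorem D17772 : act 5 n13687 = n17772 := rfl
theorem F57686 : act 2 n17772 = n13691 := d15_1 D17772 (iv D13691) (iv F44897)
def n17774 : Q := act 4 n13688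
theorem D17774 : act 4 n13688 = n17774 := rfl
theorem F57689 : act 0 n17774 = n13690 := d3_1 D17774 (iv D13690) (iv F44899)
theorem F57690 : act 1 n17774 = n14287 := d9_1 D17774 (iv D14287) (iv F44900)
theorem F57692 : act 6 n17774 = n13693 := d23_2 (iv F44901) D17774 (iv D13693)
def n17775 : Q := act 4 n13689
theorem D17775 : act 4 n13689 = n17775 := rfl
theorem F57693 : act 2 n17775 = n13690 := d14_1 D17775 (iv D13690) D13689
def n17776 : Q := act 6 n13689
theorem D17776 : act 6 n13689 = n17776 := rfl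
theorem F57694 : act 2 n17776 = n13695 := d16_1 D17776 (iv D13695) (iv D10535) (iv F34924) D13689
def n17777 : Q := act 5 n13690
theorem D17777 : act 5 n13690 = n17777 := rfl
theorem F57697 : act 6 n17777 = n13696 := d25_2 (iv F44904) D17777 (iv D13696)
def n17778 : Q := act 1 n13692
theorem D17778 : act 1 n13692 = n17778 := rfl
theorem F57698 : act 0 n17778 = n13742 := d0_1 D17778 (iv D13742) F35042 (iv F34931) (iv F44908)
theorem F57700 : act 3 n17778 = n13852 := d8_2 (iv F44909) D17778 (iv D13852)
theorem F57701 : act 7 n17778 = n13697 := d12_2 (iv F44910) D17778 (iv D13697)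
def n17779 : Q := act 4 n13692
theorem D17779 : act 4 n13692 = n17779 := rfl
theorem F57702 : act 0 n17779 = n13694 := d3_1 D17779 (iv D13694) (iv F44908)
theorem F57703 : act 2 n17779 = n13693 := d14_1 D17779 (iv D13693) D13692
theorem F57704 : act 7 n17779 = n13698 := d24_2 (iv F44910) D17779 (iv D13698)
def n17781 : Q := act 5 n13693
theorem D17781 : act 5 n13693 = n17781 := rfl
theorem F57707 : act 0 n17781 = n13696 := d4_1 D17781 (iv D13696) (iv F44911)
theorem F57708 : act 1 n17781 = n14294 := d10_1 D17781 (iv D14294) (iv F44912)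
def n17782 : Q := act 3 n13694
theorem D17782 : act 3 n13694 = n17782 := rfl
theorem F57714 : act 7 n17782 = n13701 := d21_2 (iv F44917) D17782 (iv D13701)
def n17785 : Q := act 7 n13695
theorem D17785 : act 7 n13695 = n17785 := rfl
theorem F57722 : act 6 n17785 = n13704 := d27_1 D17785 (iv D13704) (iv D10541) (iv F34933) D13695
def n17786 : Q := act 4 n13697
theorem D17786 : act 4 n13697 = n17786 := rfl
theorem F57723 : act 0 n17786 = n13750 := d3_1 D17786 (iv D13750) (iv F44923)
theorem F57724 : act 1 n17786 = n13698 := d9_1 D17786 (iv D13698) D13697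
theorem F57725 : act 2 n17786 = n14299 := d14_1 D17786 (iv D14299) (iv F44924)
def n17787 : Q := act 6 n13697
theorem D17787 : act 6 n13697 = n17787 := rfl
theorem F57726 : act 0 n17787 = n13751 := d5_1 D17787 (iv D13751) (iv F44923)
theorem F57728 : act 3 n17787 = n13861 := d20_1 D17787 (iv D13861) (iv F44925)
def n17788 : Q := act 3 n13698
theorem D17788 : act 3 n13698 = n17788 := rfl
theorem F57729 : act 0 n17788 = n13701 := d2_1 D17788 (iv D13701) (iv F44926)
theorem F57731 : act 4 n17788 = n13862 := d18_2 D13698 D17788 (iv D13862) (iv D10655) (iv F34942)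
def n17789 : Q := act 5 n13698
theorem D17789 : act 5 n13698 = n17789 := rfl
theorem F57732 : act 0 n17789 = n13702 := d4_1 D17789 (iv D13702) (iv F44926)
def n17791 : Q := act 7 n13699
theorem D17791 : act 7 n13699 = n17791 := rfl
theorem F57736 : act 0 n17791 = n13704 := d6_1 D17791 (iv D13704) (iv F44928)
theorem F57737 : act 3 n17791 = n13865 := d21_1 D17791 (iv D13865) (iv F44929)
def n17811 : Q := act 4 n13715
theorem D17811 : act 4 n13715 = n17811 := rfl
theorem F57803 : act 0 n17811 = n13717 := d3_1 D17811 (iv D13717) (iv F44979)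
theorem F57805 : act 7 n17811 = n13721 := d24_2 (iv F44982) D17811 (iv D13721)
def n17812 : Q := act 6 n13715
theorem D17812 : act 6 n13715 = n17812 := rfl
theorem F57806 : act 0 n17812 = n13718 := d5_1 D17812 (iv D13718) (iv F44979)
theorem F57808 : act 5 n17812 = n13744 := d25_1 D17812 (iv D13744) (iv F44981)
def n17814 : Q := act 3 n13717
theorem D17814 : act 3 n13717 = n17814 := rfl
theorem F57816 : act 7 n17814 = n13724 := d21_2 (iv F44988) D17814 (iv D13724)
def n17816 : Q := act 6 n13717
theorem D17816 : act 6 n13717 = n17816 := rfl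
def n17817 : Q := act 7 n13718
theorem D17817 : act 7 n13718 = n17817 := rfl
theorem F57823 : act 6 n17817 = n13727 := d27_1 D17817 (iv D13727) (iv D10557) (iv F34988) D13718
def n17819 : Q := act 6 n13720
theorem D17819 : act 6 n13720 = n17819 := rfl
theorem F57827 : act 3 n17819 = n13879 := d20_1 D17819 (iv D13879) (iv F44996)
theorem F57828 : act 5 n17819 = n13751 := d25_1 D17819 (iv D13751) (iv F44997)
def n17821 : Q := act 5 n13721
theorem D17821 : act 5 n13721 = n17821 := rfl
theorem F57834 : act 4 n17821 = n13753 := d22_1 D17821 (iv D13753) (iv D10575) (iv F34998) D13721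
def n17822 : Q := act 6 n13721
theorem D17822 : act 6 n13721 = n17822 := rfl
theorem F57835 : act 0 n17822 = n13726 := d5_1 D17822 (iv D13726) (iv F44998)
def n17823 : Q := act 7 n13722
theorem D17823 : act 7 n13722 = n17823 := rfl
theorem F57840 : act 3 n17823 = n13883 := d21_1 D17823 (iv D13883) (iv F45002)
theorem F57841 : act 5 n17823 = n13755 := d26_1 D17823 (iv D13755) (iv F45003)
def n17825 : Q := act 6 n13724
theorem D17825 : act 6 n13724 = n17825 := rfl
theorem F57844 : act 3 n17825 = n13726 := d20_1 D17825 (iv D13726) D13724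
def n17827 : Q := act 7 n13726
theorem D17827 : act 7 n13726 = n17827 := rfl
theorem F57850 : act 4 n17827 = n13727 := d24_1 D17827 (iv D13727) (iv F45014)
def n17848 : Q := act 4 n13742
theorem D17848 : act 4 n13742 = n17848 := rfl
theorem F57911 : act 1 n17848 = n13743 := d9_1 D17848 (iv D13743) D13742
theorem F57912 : act 2 n17848 = n14361 := d14_1 D17848 (iv D14361) (iv F45062)
def n17850 : Q := act 3 n13743
theorem D17850 : act 3 n13743 = n17850 := rfl
theorem F57919 : act 7 n17850 = n13752 := d21_2 (iv F45067) D17850 (iv D13752)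
def n17851 : Q := act 5 n13743
theorem D17851 : act 5 n13743 = n17851 := rfl
theorem F57921 : act 2 n17851 = n13745 := d15_1 D17851 (iv D13745) (iv F45066)
theorem F57922 : act 7 n17851 = n13753 := d26_2 (iv F45067) D17851 (iv D13753)
def n17853 : Q := act 7 n13744
theorem D17853 : act 7 n13744 = n17853 := rfl
theorem F57927 : act 6 n17853 = n13755 := d27_1 D17853 (iv D13755) (iv D10576) (iv F35044) D13744
def n17858 : Q := act 3 n13750
theorem D17858 : act 3 n13750 = n17858 := rfl
theorem F57936 : act 1 n17858 = n13752 := d8_1 D17858 (iv D13752) (iv F45082)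
theorem F57937 : act 4 n17858 = n13898 := d18_2 D13750 D17858 (iv D13898) (iv D10683) (iv F35056)
def n17859 : Q := act 5 n13750
theorem D17859 : act 5 n13750 = n17859 := rfl
theorem F57938 : act 1 n17859 = n13753 := d10_1 D17859 (iv D13753) (iv F45082)
theorem F57939 : act 2 n17859 = n14372 := d15_1 D17859 (iv D14372) (iv F45083)
def n17860 : Q := act 6 n13750
theorem D17860 : act 6 n13750 = n17860 := rfl
theorem F57940 : act 1 n17860 = n13754 := d11_1 D17860 (iv D13754) (iv F45082)
theorem F57941 : act 4 n17860 = n13751 := d23_1 D17860 (iv D13751) D13750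
def n17861 : Q := act 2 n13751
theorem D17861 : act 2 n13751 = n17861 := rfl
theorem F57942 : act 1 n17861 = n17861 := d7_1 D17861 (iv D17861) F45084 F35060 (iv F45084)
theorem F57943 : act 6 n17861 = n14374 := d16_2 D13751 D17861 (iv D14374) (iv D11040) (iv F35055)
def n17862 : Q := act 7 n13751
theorem D17862 : act 7 n13751 = n17862 := rfl
theorem F57944 : act 1 n17862 = n13755 := d12_1 D17862 (iv D13755) (iv F45084)
theorem F57945 : act 3 n17862 = n13902 := d21_1 D17862 (iv D13902) (iv F45085)
def n17863 : Q := act 5 n13752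
theorem D17863 : act 5 n13752 = n17863 := rfl
theorem F57948 : act 3 n17863 = n13753 := d19_1 D17863 (iv D13753) D13752
def n17864 : Q := act 6 n13752
theorem D17864 : act 6 n13752 = n17864 := rfl
theorem F57950 : act 3 n17864 = n13754 := d20_1 D17864 (iv D13754) D13752
def n17865 : Q := act 6 n13753
theorem D17865 : act 6 n13753 = n17865 := rfl
theorem F57954 : act 5 n17865 = n13754 := d25_1 D17865 (iv D13754) D13753
def n17866 : Q := act 7 n13754
theorem D17866 : act 7 n13754 = n17866 := rfl
def n17881 : Q := act 1 n13767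
theorem D17881 : act 1 n13767 = n17881 := rfl
theorem F58003 : act 2 n17881 = n14394 := d7_2 D13767 D17881 (iv D14394) (iv D11056) (iv F35095)
def n17883 : Q := act 6 n13767
theorem D17883 : act 6 n13767 = n17883 := rfl
theorem F58010 : act 0 n17883 = n13770 := d5_1 D17883 (iv D13770) (iv F45133)
def n17888 : Q := act 7 n13770
theorem D17888 : act 7 n13770 = n17888 := rfl
theorem F58029 : act 1 n17888 = n13779 := d12_1 D17888 (iv D13779) (iv F45144)
def n17894 : Q := act 7 n13774
theorem D17894 : act 7 n13774 = n17894 := rfl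
theorem F58050 : act 0 n17894 = n13779 := d6_1 D17894 (iv D13779) (iv F45159)
theorem F58051 : act 2 n17894 = n13785 := d17_1 D17894 (iv D13785) (iv F45160)
def n17899 : Q := act 3 n13780
theorem D17899 : act 3 n13780 = n17899 := rfl
theorem F58068 : act 7 n17899 = n13790 := d21_2 (iv F45182) D17899 (iv D13790)
def n17900 : Q := act 5 n13780
theorem D17900 : act 5 n13780 = n17900 := rfl
theorem F58071 : act 2 n17900 = n14413 := d15_1 D17900 (iv D14413) (iv F45181)
theorem F58073 : act 7 n17900 = n13791 := d26_2 (iv F45182) D17900 (iv D13791)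
def n17901 : Q := act 6 n13780
theorem D17901 : act 6 n13780 = n17901 := rfl
theorem F58076 : act 4 n17901 = n13781 := d23_1 D17901 (iv D13781) D13780
def n17902 : Q := act 2 n13781
theorem D17902 : act 2 n13781 = n17902 := rfl
theorem F58079 : act 6 n17902 = n14415 := d16_2 D13781 D17902 (iv D14415) (iv D11070) (iv F35129)
def n17903 : Q := act 7 n13781
theorem D17903 : act 7 n13781 = n17903 := rfl
theorem F58081 : act 1 n17903 = n13785 := d12_1 D17903 (iv D13785) (iv F45184)
theorem F58082 : act 3 n17903 = n13916 := d21_1 D17903 (iv D13916) (iv F45185)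
theorem F58084 : act 6 n17903 = n13794 := d27_1 D17903 (iv D13794) (iv D10605) (iv F35132) D13781
def n17913 : Q := act 2 n13790
theorem D17913 : act 2 n13790 = n17913 := rfl
theorem F58113 : act 0 n17913 = n17913 := d1_1 D17913 (iv D17913) F45212
theorem F58114 : act 3 n17913 = n14426 := d13_2 D13790 D17913 (iv D14426) (iv D11079) (iv F35158)
theorem F58115 : act 4 n17913 = n13926 := d14_2 (iv F45214) D17913 (iv D13926)
def n17914 : Q := act 5 n13790
theorem D17914 : act 5 n13790 = n17914 := rfl
theorem F58118 : act 3 n17914 = n13791 := d19_1 D17914 (iv D13791) D13790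
def n17915 : Q := act 6 n13790
theorem D17915 : act 6 n13790 = n17915 := rfl
theorem F58121 : act 3 n17915 = n13792 := d20_1 D17915 (iv D13792) D13790
def n17916 : Q := act 6 n13791
theorem D17916 : act 6 n13791 = n17916 := rfl
theorem F58126 : act 5 n17916 = n13792 := d25_1 D17916 (iv D13792) D13791
def n17917 : Q := act 2 n13792
theorem D17917 : act 2 n13792 = n17917 := rfl
theorem F58127 : act 0 n17917 = n17917 := d1_1 D17917 (iv D17917) F45219
theorem F58128 : act 1 n17917 = n17917 := d7_1 D17917 (iv D17917) F45220 F35169 (iv F45220)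
theorem F58129 : act 4 n17917 = n13793 := d14_2 (iv F45221) D17917 (iv D13793)
theorem F58130 : act 6 n17917 = n14430 := d16_2 D13792 D17917 (iv D14430) (iv D11081) (iv F35158)
def n17918 : Q := act 7 n13792
theorem D17918 : act 7 n13792 = n17918 := rfl
theorem F58133 : act 4 n17918 = n13794 := d24_1 D17918 (iv D13794) (iv F45221)
def n17919 : Q := act 7 n13793
theorem D17919 : act 7 n13793 = n17919 := rfl
theorem F58134 : act 0 n17919 = n17919 := d6_1 D17919 (iv D17919) F45222
theorem F58135 : act 1 n17919 = n17919 := d12_1 D17919 (iv D17919) F45223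
theorem F58136 : act 2 n17919 = n13794 := d17_1 D17919 (iv D13794) D13793
theorem F58137 : act 3 n17919 = n17919 := d21_1 D17919 (iv D17919) F45224
theorem F58138 : act 5 n17919 = n17919 := d26_1 D17919 (iv D17919) F45225
def n17966 : Q := act 1 n13830
theorem D17966 : act 1 n13830 = n17966 := rfl
theorem F58302 : act 7 n17966 = n13835 := d12_2 (iv F45358) D17966 (iv D13835)
def n17970 : Q := act 3 n13832
theorem D17970 : act 3 n13832 = n17970 := rfl
theorem F58313 : act 7 n17970 = n13839 := d21_2 (iv F45364) D17970 (iv D13839)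
def n17971 : Q := act 5 n13832
theorem D17971 : act 5 n13832 = n17971 := rfl
theorem F58317 : act 7 n17971 = n13840 := d26_2 (iv F45364) D17971 (iv D13840)
def n17972 : Q := act 6 n13832
theorem D17972 : act 6 n13832 = n17972 := rfl
theorem F58318 : act 1 n17972 = n13876 := d11_1 D17972 (iv D13876) (iv F45362)
theorem F58319 : act 4 n17972 = n13833 := d23_1 D17972 (iv D13833) D13832
def n17973 : Q := act 7 n13833
theorem D17973 : act 7 n13833 = n17973 := rfl
theorem F58322 : act 6 n17973 = n13842 := d27_1 D17973 (iv D13842) (iv D10640) (iv F35270) D13833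
def n17975 : Q := act 6 n13835
theorem D17975 : act 6 n13835 = n17975 := rfl
theorem F58326 : act 0 n17975 = n13879 := d5_1 D17975 (iv D13879) (iv F45370)
theorem F58328 : act 5 n17975 = n13861 := d25_1 D17975 (iv D13861) (iv F45372)
def n17977 : Q := act 5 n13836
theorem D17977 : act 5 n13836 = n17977 := rfl
theorem F58331 : act 2 n17977 = n13838 := d15_1 D17977 (iv D13838) (iv F45374)
theorem F58332 : act 4 n17977 = n13863 := d22_1 D17977 (iv D13863) (iv D10655) (iv F35278) D13836
def n17978 : Q := act 6 n13836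
theorem D17978 : act 6 n13836 = n17978 := rfl
theorem F58333 : act 0 n17978 = n13841 := d5_1 D17978 (iv D13841) (iv F45373)
def n17979 : Q := act 7 n13837
theorem D17979 : act 7 n13837 = n17979 := rfl
theorem F58336 : act 0 n17979 = n13842 := d6_1 D17979 (iv D13842) (iv F45375)
theorem F58338 : act 5 n17979 = n13865 := d26_1 D17979 (iv D13865) (iv F45377)
def n17981 : Q := act 6 n13839
theorem D17981 : act 6 n13839 = n17981 := rfl
theorem F58342 : act 3 n17981 = n13841 := d20_1 D17981 (iv D13841) D13839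
def n17983 : Q := act 7 n13841
theorem D17983 : act 7 n13841 = n17983 := rfl
def n17997 : Q := act 4 n13852
theorem D17997 : act 4 n13852 = n17997 := rfl
theorem F58390 : act 0 n17997 = n13888 := d3_1 D17997 (iv D13888) (iv F45421)
theorem F58393 : act 7 n17997 = n13860 := d24_2 (iv F45423) D17997 (iv D13860)
def n17999 : Q := act 3 n13853
theorem D17999 : act 3 n13853 = n17999 := rfl
theorem F58398 : act 7 n17999 = n13862 := d21_2 (iv F45426) D17999 (iv D13862)
def n18000 : Q := act 5 n13853
theorem D18000 : act 5 n13853 = n18000 := rfl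
theorem F58401 : act 7 n18000 = n13863 := d26_2 (iv F45426) D18000 (iv D13863)
def n18002 : Q := act 7 n13854
theorem D18002 : act 7 n13854 = n18002 := rfl
theorem F58405 : act 6 n18002 = n13865 := d27_1 D18002 (iv D13865) (iv D10656) (iv F35316) D13854
def n18004 : Q := act 6 n13856
theorem D18004 : act 6 n13856 = n18004 := rfl
def n18005 : Q := act 6 n13857
theorem D18005 : act 6 n13857 = n18005 := rfl
def n18007 : Q := act 3 n13860
theorem D18007 : act 3 n13860 = n18007 := rfl
theorem F58417 : act 0 n18007 = n13898 := d2_1 D18007 (iv D13898) (iv F45442)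
theorem F58418 : act 1 n18007 = n13862 := d8_1 D18007 (iv D13862) (iv F45443)
def n18008 : Q := act 5 n13860
theorem D18008 : act 5 n13860 = n18008 := rfl
theorem F58419 : act 0 n18008 = n13899 := d4_1 D18008 (iv D13899) (iv F45442)
theorem F58420 : act 1 n18008 = n13863 := d10_1 D18008 (iv D13863) (iv F45443)
theorem F58421 : act 2 n18008 = n14054 := d15_1 D18008 (iv D14054) (iv F45444)
def n18009 : Q := act 6 n13860
theorem D18009 : act 6 n13860 = n18009 := rfl
theorem F58422 : act 0 n18009 = n13900 := d5_1 D18009 (iv D13900) (iv F45442)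
theorem F58423 : act 1 n18009 = n13864 := d11_1 D18009 (iv D13864) (iv F45443)
theorem F58424 : act 4 n18009 = n13861 := d23_1 D18009 (iv D13861) D13860
def n18010 : Q := act 2 n13861
theorem D18010 : act 2 n13861 = n18010 := rfl
theorem F58425 : act 0 n18010 = n13901 := d1_1 D18010 (iv D13901) (iv F45445)
theorem F58426 : act 1 n18010 = n18010 := d7_1 D18010 (iv D18010) F45446 F35333 (iv F45446)
theorem F58427 : act 6 n18010 = n14056 := d16_2 D13861 D18010 (iv D14056) (iv D10802) (iv F35329)
def n18011 : Q := act 7 n13861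
theorem D18011 : act 7 n13861 = n18011 := rfl
theorem F58428 : act 0 n18011 = n13902 := d6_1 D18011 (iv D13902) (iv F45445)
theorem F58429 : act 1 n18011 = n13865 := d12_1 D18011 (iv D13865) (iv F45446)
def n18012 : Q := act 5 n13862
theorem D18012 : act 5 n13862 = n18012 := rfl
def n18013 : Q := act 6 n13862
theorem D18013 : act 6 n13862 = n18013 := rfl
def n18014 : Q := act 6 n13863
theorem D18014 : act 6 n13863 = n18014 := rfl
theorem F58437 : act 5 n18014 = n13864 := d25_1 D18014 (iv D13864) D13863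
def n18015 : Q := act 7 n13864
theorem D18015 : act 7 n13864 = n18015 := rfl
theorem F58440 : act 4 n18015 = n13865 := d24_1 D18015 (iv D13865) (iv F45453)
def n18023 : Q := act 3 n13871
theorem D18023 : act 3 n13871 = n18023 := rfl
theorem F58460 : act 7 n18023 = n13880 := d21_2 (iv F45472) D18023 (iv D13880)
def n18024 : Q := act 5 n13871
theorem D18024 : act 5 n13871 = n18024 := rfl
theorem F58462 : act 2 n18024 = n13873 := d15_1 D18024 (iv D13873) (iv F45471)
theorem F58463 : act 4 n18024 = n13891 := d22_1 D18024 (iv D13891) (iv D10676) (iv F35348) D13871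
theorem F58464 : act 7 n18024 = n13881 := d26_2 (iv F45472) D18024 (iv D13881)
def n18025 : Q := act 6 n13871
theorem D18025 : act 6 n13871 = n18025 := rfl
theorem F58465 : act 0 n18025 = n13876 := d5_1 D18025 (iv D13876) (iv F45470)
def n18026 : Q := act 7 n13872
theorem D18026 : act 7 n13872 = n18026 := rfl
theorem F58470 : act 5 n18026 = n13893 := d26_1 D18026 (iv D13893) (iv F45475)
theorem F58471 : act 6 n18026 = n13883 := d27_1 D18026 (iv D13883) (iv D10669) (iv F35349) D13872
def n18028 : Q := act 6 n13874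
theorem D18028 : act 6 n13874 = n18028 := rfl
def n18029 : Q := act 6 n13875
theorem D18029 : act 6 n13875 = n18029 := rfl
def n18031 : Q := act 3 n13878
theorem D18031 : act 3 n13878 = n18031 := rfl
theorem F58482 : act 1 n18031 = n13880 := d8_1 D18031 (iv D13880) (iv F45492)
def n18032 : Q := act 5 n13878
theorem D18032 : act 5 n13878 = n18032 := rfl
theorem F58483 : act 1 n18032 = n13881 := d10_1 D18032 (iv D13881) (iv F45492)
theorem F58484 : act 2 n18032 = n14078 := d15_1 D18032 (iv D14078) (iv F45493)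
theorem F58485 : act 4 n18032 = n13899 := d22_1 D18032 (iv D13899) (iv D10683) (iv F35365) D13878
def n18033 : Q := act 6 n13878
theorem D18033 : act 6 n13878 = n18033 := rfl
theorem F58486 : act 1 n18033 = n13882 := d11_1 D18033 (iv D13882) (iv F45492)
theorem F58487 : act 4 n18033 = n13879 := d23_1 D18033 (iv D13879) D13878
def n18034 : Q := act 2 n13879
theorem D18034 : act 2 n13879 = n18034 := rfl
theorem F58488 : act 1 n18034 = n13944 := d7_1 D18034 (iv D13944) F35497 (iv F35369) (iv F45494)
theorem F58489 : act 5 n18034 = n13901 := d15_2 (iv F45495) D18034 (iv D13901)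
theorem F58490 : act 6 n18034 = n14080 := d16_2 D13879 D18034 (iv D14080) (iv D10820) (iv F35364)
def n18035 : Q := act 7 n13879
theorem D18035 : act 7 n13879 = n18035 := rfl
theorem F58491 : act 1 n18035 = n13883 := d12_1 D18035 (iv D13883) (iv F45494)
theorem F58492 : act 5 n18035 = n13902 := d26_1 D18035 (iv D13902) (iv F45495)
def n18036 : Q := act 5 n13880
theorem D18036 : act 5 n13880 = n18036 := rfl
theorem F58495 : act 3 n18036 = n13881 := d19_1 D18036 (iv D13881) D13880
def n18037 : Q := act 6 n13880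
theorem D18037 : act 6 n13880 = n18037 := rfl
theorem F58497 : act 3 n18037 = n13882 := d20_1 D18037 (iv D13882) D13880
def n18038 : Q := act 6 n13881
theorem D18038 : act 6 n13881 = n18038 := rfl
theorem F58499 : act 2 n18038 = n13948 := d16_1 D18038 (iv D13948) F35505 (iv F35375) (iv F45499)
theorem F58501 : act 5 n18038 = n13882 := d25_1 D18038 (iv D13882) D13881
def n18039 : Q := act 7 n13882
theorem D18039 : act 7 n13882 = n18039 := rfl
theorem F58504 : act 4 n18039 = n13883 := d24_1 D18039 (iv D13883) (iv F45503)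
def n18045 : Q := act 3 n13888
theorem D18045 : act 3 n13888 = n18045 := rfl
theorem F58515 : act 1 n18045 = n13890 := d8_1 D18045 (iv D13890) (iv F45515)
theorem F58516 : act 7 n18045 = n13898 := d21_2 (iv F45517) D18045 (iv D13898)
def n18046 : Q := act 5 n13888
theorem D18046 : act 5 n13888 = n18046 := rfl
theorem F58517 : act 1 n18046 = n13891 := d10_1 D18046 (iv D13891) (iv F45515)
theorem F58518 : act 2 n18046 = n14092 := d15_1 D18046 (iv D14092) (iv F45516)
theorem F58519 : act 7 n18046 = n13899 := d26_2 (iv F45517) D18046 (iv D13899)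
def n18047 : Q := act 6 n13888
theorem D18047 : act 6 n13888 = n18047 := rfl
theorem F58520 : act 1 n18047 = n13892 := d11_1 D18047 (iv D13892) (iv F45515)
theorem F58521 : act 4 n18047 = n13889 := d23_1 D18047 (iv D13889) D13888
def n18048 : Q := act 2 n13889
theorem D18048 : act 2 n13889 = n18048 := rfl
theorem F58522 : act 1 n18048 = n18048 := d7_1 D18048 (iv D18048) F45518 F35389 (iv F45518)
theorem F58523 : act 6 n18048 = n14094 := d16_2 D13889 D18048 (iv D14094) (iv D10830) (iv F35383)
def n18049 : Q := act 7 n13889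
theorem D18049 : act 7 n13889 = n18049 := rfl
theorem F58524 : act 1 n18049 = n13893 := d12_1 D18049 (iv D13893) (iv F45518)
theorem F58525 : act 6 n18049 = n13902 := d27_1 D18049 (iv D13902) (iv D10684) (iv F35384) D13889
def n18050 : Q := act 5 n13890
theorem D18050 : act 5 n13890 = n18050 := rfl
theorem F58529 : act 7 n18050 = n13903 := d26_2 (iv F45521) D18050 (iv D13903)
def n18051 : Q := act 6 n13890
theorem D18051 : act 6 n13890 = n18051 := rfl
def n18052 : Q := act 6 n13891
theorem D18052 : act 6 n13891 = n18052 := rfl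
theorem F58534 : act 5 n18052 = n13892 := d25_1 D18052 (iv D13892) D13891
def n18053 : Q := act 7 n13892
theorem D18053 : act 7 n13892 = n18053 := rfl
theorem F58537 : act 4 n18053 = n13893 := d24_1 D18053 (iv D13893) (iv F45527)
theorem F58538 : act 6 n18053 = n13906 := d27_1 D18053 (iv D13906) (iv D10687) (iv F35387) D13892
def n18059 : Q := act 2 n13898
theorem D18059 : act 2 n13898 = n18059 := rfl
theorem F58550 : act 1 n18059 = n13926 := d7_1 D18059 (iv D13926) F35456 (iv F35407) (iv F45540)
theorem F58551 : act 3 n18059 = n14105 := d13_2 D13898 D18059 (iv D14105) (iv D10839) (iv F35404)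
def n18060 : Q := act 5 n13898
theorem D18060 : act 5 n13898 = n18060 := rfl
def n18061 : Q := act 6 n13898
theorem D18061 : act 6 n13898 = n18061 := rfl
def n18062 : Q := act 6 n13899
theorem D18062 : act 6 n13899 = n18062 := rfl
theorem F58557 : act 5 n18062 = n13900 := d25_1 D18062 (iv D13900) D13899
def n18063 : Q := act 2 n13900
theorem D18063 : act 2 n13900 = n18063 := rfl
theorem F58558 : act 1 n18063 = n13958 := d7_1 D18063 (iv D13958) F35537 (iv F35411) (iv F45543)
theorem F58559 : act 4 n18063 = n13901 := d14_2 (iv F45544) D18063 (iv D13901)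
theorem F58560 : act 6 n18063 = n14109 := d16_2 D13900 D18063 (iv D14109) (iv D10841) (iv F35404)
def n18064 : Q := act 7 n13900
theorem D18064 : act 7 n13900 = n18064 := rfl
theorem F58562 : act 4 n18064 = n13902 := d24_1 D18064 (iv D13902) (iv F45544)
def n18065 : Q := act 3 n13901
theorem D18065 : act 3 n13901 = n18065 := rfl
theorem F58563 : act 1 n18065 = n13960 := d8_1 D18065 (iv D13960) (iv F45545)
theorem F58564 : act 6 n18065 = n14111 := d20_2 (iv F45546) D18065 (iv D14111)
def n18066 : Q := act 7 n13901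
theorem D18066 : act 7 n13901 = n18066 := rfl
theorem F58565 : act 1 n18066 = n13961 := d12_1 D18066 (iv D13961) (iv F45545)
theorem F58566 : act 2 n18066 = n13902 := d17_1 D18066 (iv D13902) D13901
def n18077 : Q := act 2 n13912
theorem D18077 : act 2 n13912 = n18077 := rfl
theorem F58590 : act 0 n18077 = n18077 := d1_1 D18077 (iv D18077) F45567
theorem F58591 : act 3 n18077 = n14119 := d13_2 D13912 D18077 (iv D14119) (iv D10852) (iv F35424)
theorem F58592 : act 7 n18077 = n13926 := d17_2 (iv F45569) D18077 (iv D13926)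
def n18078 : Q := act 5 n13912
theorem D18078 : act 5 n13912 = n18078 := rfl
theorem F58596 : act 7 n18078 = n13927 := d26_2 (iv F45569) D18078 (iv D13927)
def n18079 : Q := act 6 n13912
theorem D18079 : act 6 n13912 = n18079 := rfl
theorem F58599 : act 3 n18079 = n13914 := d20_1 D18079 (iv D13914) D13912
def n18080 : Q := act 6 n13913
theorem D18080 : act 6 n13913 = n18080 := rfl
theorem F58603 : act 5 n18080 = n13914 := d25_1 D18080 (iv D13914) D13913
def n18081 : Q := act 2 n13914
theorem D18081 : act 2 n13914 = n18081 := rfl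
theorem F58604 : act 0 n18081 = n18081 := d1_1 D18081 (iv D18081) F45575
theorem F58605 : act 1 n18081 = n18081 := d7_1 D18081 (iv D18081) F45576 F35436 (iv F45576)
theorem F58606 : act 4 n18081 = n13915 := d14_2 (iv F45577) D18081 (iv D13915)
theorem F58607 : act 6 n18081 = n14123 := d16_2 D13914 D18081 (iv D14123) (iv D10854) (iv F35424)
def n18082 : Q := act 7 n13914
theorem D18082 : act 7 n13914 = n18082 := rfl
theorem F58610 : act 4 n18082 = n13916 := d24_1 D18082 (iv D13916) (iv F45577)
theorem F58611 : act 6 n18082 = n13930 := d27_1 D18082 (iv D13930) (iv D10705) (iv F35425) D13914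
def n18083 : Q := act 3 n13915
theorem D18083 : act 3 n13915 = n18083 := rfl
theorem F58615 : act 6 n18083 = n14124 := d20_2 (iv F45581) D18083 (iv D14124)
def n18084 : Q := act 7 n13915
theorem D18084 : act 7 n13915 = n18084 := rfl
theorem F58616 : act 0 n18084 = n18084 := d6_1 D18084 (iv D18084) F45578
theorem F58617 : act 1 n18084 = n18084 := d12_1 D18084 (iv D18084) F45579
theorem F58618 : act 2 n18084 = n13916 := d17_1 D18084 (iv D13916) D13915
theorem F58619 : act 5 n18084 = n18084 := d26_1 D18084 (iv D18084) F45580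
theorem F58620 : act 6 n18084 = n18084 := d27_1 D18084 (iv D18084) F45581 F35935 (iv F45581)
def n18095 : Q := act 5 n13926
theorem D18095 : act 5 n13926 = n18095 := rfl
theorem F58652 : act 3 n18095 = n14131 := d19_1 D18095 (iv D14131) (iv F45615)
def n18096 : Q := act 6 n13926
theorem D18096 : act 6 n13926 = n18096 := rfl
theorem F58654 : act 3 n18096 = n14132 := d20_1 D18096 (iv D14132) (iv F45615)
def n18114 : Q := act 2 n13941
theorem D18114 : act 2 n13941 = n18114 := rfl
theorem F58701 : act 0 n18114 = n18114 := d1_1 D18114 (iv D18114) F45656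
theorem F58702 : act 1 n18114 = n18114 := d7_1 D18114 (iv D18114) F45657 F35501 (iv F45657)
theorem F58703 : act 3 n18114 = n14134 := d13_2 D13941 D18114 (iv D14134) (iv D10865) (iv F35494)
theorem F58704 : act 4 n18114 = n18114 := d14_2 F45658 D18114 (iv D18114)
theorem F58705 : act 7 n18114 = n18114 := d17_2 F45659 D18114 (iv D18114)
def n18115 : Q := act 5 n13941
theorem D18115 : act 5 n13941 = n18115 := rfl
theorem F58708 : act 3 n18115 = n13942 := d19_1 D18115 (iv D13942) D13941
def n18116 : Q := act 6 n13941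
theorem D18116 : act 6 n13941 = n18116 := rfl
theorem F58712 : act 3 n18116 = n13943 := d20_1 D18116 (iv D13943) D13941
def n18117 : Q := act 6 n13942
theorem D18117 : act 6 n13942 = n18117 := rfl
theorem F58715 : act 1 n18117 = n13948 := d11_1 D18117 (iv D13948) (iv F45661)
theorem F58717 : act 5 n18117 = n13943 := d25_1 D18117 (iv D13943) D13942
def n18118 : Q := act 2 n13943
theorem D18118 : act 2 n13943 = n18118 := rfl
theorem F58718 : act 0 n18118 = n18118 := d1_1 D18118 (iv D18118) F45665
theorem F58719 : act 4 n18118 = n13944 := d14_2 (iv F45667) D18118 (iv D13944)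
theorem F58720 : act 6 n18118 = n14138 := d16_2 D13943 D18118 (iv D14138) (iv D10867) (iv F35494)
def n18119 : Q := act 7 n13943
theorem D18119 : act 7 n13943 = n18119 := rfl
theorem F58723 : act 4 n18119 = n13945 := d24_1 D18119 (iv D13945) (iv F45667)
def n18120 : Q := act 3 n13944
theorem D18120 : act 3 n13944 = n18120 := rfl
theorem F58727 : act 5 n18120 = n13960 := d19_2 (iv F45669) D18120 (iv D13960)
theorem F58728 : act 6 n18120 = n14140 := d20_2 (iv F45670) D18120 (iv D14140)
def n18121 : Q := act 7 n13944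
theorem D18121 : act 7 n13944 = n18121 := rfl
theorem F58729 : act 0 n18121 = n18121 := d6_1 D18121 (iv D18121) F45668
theorem F58730 : act 2 n18121 = n13945 := d17_1 D18121 (iv D13945) D13944
theorem F58731 : act 5 n18121 = n13961 := d26_1 D18121 (iv D13961) (iv F45669)
def n18136 : Q := act 2 n13957
theorem D18136 : act 2 n13957 = n18136 := rfl
theorem F58784 : act 5 n18136 = n13958 := d15_2 (iv F45718) D18136 (iv D13958)
theorem F58785 : act 6 n18136 = n14150 := d16_2 D13957 D18136 (iv D14150) (iv D10878) (iv F35534)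
def n18138 : Q := act 3 n13958
theorem D18138 : act 3 n13958 = n18138 := rfl
theorem F58791 : act 6 n18138 = n14152 := d20_2 (iv F45721) D18138 (iv D14152)
def n18139 : Q := act 7 n13958
theorem D18139 : act 7 n13958 = n18139 := rfl
theorem F58794 : act 4 n18139 = n13961 := d24_1 D18139 (iv D13961) (iv F45720)
def n18140 : Q := act 4 n13960
theorem D18140 : act 4 n13960 = n18140 := rfl
theorem F58795 : act 0 n18140 = n18140 := d3_1 D18140 (iv D18140) F45726
theorem F58796 : act 2 n18140 = n18140 := d14_1 D18140 (iv D18140) F45727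
theorem F58797 : act 6 n18140 = n14154 := d23_2 (iv F45728) D18140 (iv D14154)
def n18141 : Q := act 7 n13960
theorem D18141 : act 7 n13960 = n18141 := rfl
theorem F58798 : act 0 n18141 = n18141 := d6_1 D18141 (iv D18141) F45726
theorem F58799 : act 2 n18141 = n18141 := d17_1 D18141 (iv D18141) F45727
theorem F58800 : act 3 n18141 = n13961 := d21_1 D18141 (iv D13961) D13960
def n18142 : Q := act 6 n13961
theorem D18142 : act 6 n13961 = n18142 := rfl
theorem F58803 : act 7 n18142 = n14156 := d27_2 D13961 D18142 (iv D14156) (iv D10882) (iv F35540)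
def n18219 : Q := act 7 n14019
theorem D18219 : act 7 n14019 = n18219 := rfl
theorem F59061 : act 0 n18219 = n14024 := d6_1 D18219 (iv D14024) (iv F45925)
theorem F59063 : act 5 n18219 = n14048 := d26_1 D18219 (iv D14048) (iv F45927)
def n18223 : Q := act 7 n14023
theorem D18223 : act 7 n14023 = n18223 := rfl
theorem F59075 : act 4 n18223 = n14024 := d24_1 D18223 (iv D14024) (iv F45939)
theorem F59076 : act 6 n18223 = n14034 := d27_1 D18223 (iv D14034) (iv D10786) (iv F35709) D14023
def n18224 : Q := act 3 n14025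
theorem D18224 : act 3 n14025 = n18224 := rfl
theorem F59077 : act 0 n18224 = n14077 := d2_1 D18224 (iv D14077) (iv F45944)
theorem F59079 : act 4 n18224 = n14684 := d18_2 D14025 D18224 (iv D14684) (iv D11276) (iv F35717)
def n18225 : Q := act 5 n14025
theorem D18225 : act 5 n14025 = n18225 := rfl
theorem F59080 : act 0 n18225 = n14078 := d4_1 D18225 (iv D14078) (iv F45944)
theorem F59081 : act 1 n18225 = n14028 := d10_1 D18225 (iv D14028) (iv F45945)
theorem F59082 : act 4 n18225 = n14054 := d22_1 D18225 (iv D14054) (iv D10801) (iv F35718) D14025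
def n18226 : Q := act 6 n14025
theorem D18226 : act 6 n14025 = n18226 := rfl
theorem F59083 : act 0 n18226 = n14079 := d5_1 D18226 (iv D14079) (iv F45944)
theorem F59085 : act 4 n18226 = n14026 := d23_1 D18226 (iv D14026) D14025
def n18227 : Q := act 2 n14026
theorem D18227 : act 2 n14026 = n18227 := rfl
theorem F59086 : act 0 n18227 = n14080 := d1_1 D18227 (iv D14080) (iv F45946)
theorem F59088 : act 5 n18227 = n14056 := d15_2 (iv F45949) D18227 (iv D14056)
def n18228 : Q := act 7 n14026
theorem D18228 : act 7 n14026 = n18228 := rfl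
theorem F59089 : act 0 n18228 = n14081 := d6_1 D18228 (iv D14081) (iv F45946)
theorem F59090 : act 1 n18228 = n14030 := d12_1 D18228 (iv D14030) (iv F45947)
theorem F59092 : act 5 n18228 = n14057 := d26_1 D18228 (iv D14057) (iv F45949)
def n18231 : Q := act 6 n14028
theorem D18231 : act 6 n14028 = n18231 := rfl
theorem F59100 : act 4 n18231 = n14060 := d23_1 D18231 (iv D14060) (iv F45954)
theorem F59101 : act 5 n18231 = n14029 := d25_1 D18231 (iv D14029) D14028
def n18232 : Q := act 7 n14029
theorem D18232 : act 7 n14029 = n18232 := rfl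
theorem F59104 : act 4 n18232 = n14030 := d24_1 D18232 (iv D14030) (iv F45957)
def n18237 : Q := act 7 n14033
theorem D18237 : act 7 n14033 = n18237 := rfl
theorem F59118 : act 4 n18237 = n14066 := d24_1 D18237 (iv D14066) (iv F45969)
def n18248 : Q := act 3 n14043
theorem D18248 : act 3 n14043 = n18248 := rfl
theorem F59154 : act 0 n18248 = n14091 := d2_1 D18248 (iv D14091) (iv F46001)
theorem F59155 : act 1 n18248 = n14045 := d8_1 D18248 (iv D14045) (iv F46002)
theorem F59156 : act 4 n18248 = n14698 := d18_2 D14043 D18248 (iv D14698) (iv D11286) (iv F35758)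
theorem F59157 : act 7 n18248 = n14053 := d21_2 (iv F46003) D18248 (iv D14053)
def n18249 : Q := act 5 n14043
theorem D18249 : act 5 n14043 = n18249 := rfl
theorem F59158 : act 0 n18249 = n14092 := d4_1 D18249 (iv D14092) (iv F46001)
theorem F59159 : act 1 n18249 = n14046 := d10_1 D18249 (iv D14046) (iv F46002)
theorem F59160 : act 7 n18249 = n14054 := d26_2 (iv F46003) D18249 (iv D14054)
def n18250 : Q := act 6 n14043
theorem D18250 : act 6 n14043 = n18250 := rfl
theorem F59161 : act 0 n18250 = n14093 := d5_1 D18250 (iv D14093) (iv F46001)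
theorem F59162 : act 1 n18250 = n14047 := d11_1 D18250 (iv D14047) (iv F46002)
def n18251 : Q := act 2 n14044
theorem D18251 : act 2 n14044 = n18251 := rfl
theorem F59164 : act 0 n18251 = n14094 := d1_1 D18251 (iv D14094) (iv F46004)
def n18252 : Q := act 7 n14044
theorem D18252 : act 7 n14044 = n18252 := rfl
theorem F59165 : act 0 n18252 = n14095 := d6_1 D18252 (iv D14095) (iv F46004)
theorem F59166 : act 1 n18252 = n14048 := d12_1 D18252 (iv D14048) (iv F46005)
theorem F59167 : act 3 n18252 = n14702 := d21_1 D18252 (iv D14702) (iv F46006)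
theorem F59168 : act 6 n18252 = n14057 := d27_1 D18252 (iv D14057) (iv D10802) (iv F35759) D14044
def n18253 : Q := act 5 n14045
theorem D18253 : act 5 n14045 = n18253 := rfl
theorem F59169 : act 0 n18253 = n14049 := d4_1 D18253 (iv D14049) (iv F46007)
theorem F59172 : act 7 n18253 = n14058 := d26_2 (iv F46010) D18253 (iv D14058)
def n18256 : Q := act 7 n14047
theorem D18256 : act 7 n14047 = n18256 := rfl
theorem F59180 : act 6 n18256 = n14061 := d27_1 D18256 (iv D14061) (iv D10805) (iv F35762) D14047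
def n18257 : Q := act 4 n14049
theorem D18257 : act 4 n14049 = n18257 := rfl
theorem F59183 : act 5 n18257 = n14707 := d22_2 D14049 D18257 (iv D14707) (iv D11292) (iv F35770)
def n18258 : Q := act 6 n14049
theorem D18258 : act 6 n14049 = n18258 := rfl
theorem F59185 : act 1 n18258 = n14101 := d11_1 D18258 (iv D14101) (iv F46019)
theorem F59186 : act 3 n18258 = n14051 := d20_1 D18258 (iv D14051) (iv F46021)
def n18261 : Q := act 7 n14051
theorem D18261 : act 7 n14051 = n18261 := rfl
theorem F59196 : act 6 n18261 = n14066 := d27_1 D18261 (iv D14066) (iv D10809) (iv F35774) D14051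
def n18262 : Q := act 2 n14053
theorem D18262 : act 2 n14053 = n18262 := rfl
theorem F59197 : act 0 n18262 = n14105 := d1_1 D18262 (iv D14105) (iv F46031)
theorem F59198 : act 1 n18262 = n18262 := d7_1 D18262 (iv D18262) F46032 F35786 (iv F46032)
theorem F59199 : act 4 n18262 = n14712 := d14_2 (iv F46033) D18262 (iv D14712)
def n18263 : Q := act 5 n14053
theorem D18263 : act 5 n14053 = n18263 := rfl
theorem F59200 : act 0 n18263 = n14106 := d4_1 D18263 (iv D14106) (iv F46031)
theorem F59201 : act 1 n18263 = n14058 := d10_1 D18263 (iv D14058) (iv F46032)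
theorem F59202 : act 3 n18263 = n14054 := d19_1 D18263 (iv D14054) D14053
def n18264 : Q := act 6 n14053
theorem D18264 : act 6 n14053 = n18264 := rfl
theorem F59203 : act 0 n18264 = n14107 := d5_1 D18264 (iv D14107) (iv F46031)
theorem F59204 : act 1 n18264 = n14059 := d11_1 D18264 (iv D14059) (iv F46032)
theorem F59205 : act 3 n18264 = n14055 := d20_1 D18264 (iv D14055) D14053
theorem F59206 : act 4 n18264 = n14714 := d23_1 D18264 (iv D14714) (iv F46033)
def n18265 : Q := act 6 n14054
theorem D18265 : act 6 n14054 = n18265 := rfl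
theorem F59207 : act 0 n18265 = n14108 := d5_1 D18265 (iv D14108) (iv F46034)
theorem F59208 : act 1 n18265 = n14060 := d11_1 D18265 (iv D14060) (iv F46035)
theorem F59209 : act 5 n18265 = n14055 := d25_1 D18265 (iv D14055) D14054
def n18266 : Q := act 2 n14055
theorem D18266 : act 2 n14055 = n18266 := rfl
theorem F59210 : act 0 n18266 = n14109 := d1_1 D18266 (iv D14109) (iv F46036)
theorem F59211 : act 1 n18266 = n18266 := d7_1 D18266 (iv D18266) F46037 F35791 (iv F46037)
theorem F59212 : act 4 n18266 = n14056 := d14_2 (iv F46038) D18266 (iv D14056)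
def n18267 : Q := act 7 n14055
theorem D18267 : act 7 n14055 = n18267 := rfl
theorem F59213 : act 0 n18267 = n14110 := d6_1 D18267 (iv D14110) (iv F46036)
theorem F59214 : act 1 n18267 = n14061 := d12_1 D18267 (iv D14061) (iv F46037)
theorem F59215 : act 4 n18267 = n14057 := d24_1 D18267 (iv D14057) (iv F46038)
def n18268 : Q := act 3 n14056
theorem D18268 : act 3 n14056 = n18268 := rfl
theorem F59216 : act 0 n18268 = n14111 := d2_1 D18268 (iv D14111) (iv F46039)
theorem F59217 : act 1 n18268 = n18268 := d8_1 D18268 (iv D18268) F46040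
theorem F59218 : act 2 n18268 = n14718 := d13_1 D18268 (iv D14718) (iv D11299) (iv F35784) D14056
def n18269 : Q := act 7 n14056
theorem D18269 : act 7 n14056 = n18269 := rfl
theorem F59219 : act 0 n18269 = n14112 := d6_1 D18269 (iv D14112) (iv F46039)
theorem F59220 : act 1 n18269 = n18269 := d12_1 D18269 (iv D18269) F46040
theorem F59221 : act 2 n18269 = n14057 := d17_1 D18269 (iv D14057) D14056
def n18271 : Q := act 6 n14058
theorem D18271 : act 6 n14058 = n18271 := rfl
theorem F59226 : act 3 n18271 = n14060 := d20_1 D18271 (iv D14060) (iv F46046)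
theorem F59227 : act 5 n18271 = n14059 := d25_1 D18271 (iv D14059) D14058
def n18272 : Q := act 2 n14059
theorem D18272 : act 2 n14059 = n18272 := rfl
theorem F59230 : act 4 n18272 = n14722 := d14_2 (iv F46049) D18272 (iv D14722)
def n18273 : Q := act 7 n14059
theorem D18273 : act 7 n14059 = n18273 := rfl
theorem F59232 : act 0 n18273 = n14065 := d6_1 D18273 (iv D14065) (iv F46047)
theorem F59233 : act 3 n18273 = n14061 := d21_1 D18273 (iv D14061) (iv F46048)
def n18274 : Q := act 7 n14060
theorem D18274 : act 7 n14060 = n18274 := rfl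
theorem F59235 : act 0 n18274 = n14066 := d6_1 D18274 (iv D14066) (iv F46050)
theorem F59237 : act 5 n18274 = n14061 := d26_1 D18274 (iv D14061) (iv F46052)
def n18277 : Q := act 7 n14063
theorem D18277 : act 7 n14063 = n18277 := rfl
theorem F59245 : act 1 n18277 = n14118 := d12_1 D18277 (iv D14118) (iv F46059)
theorem F59247 : act 5 n18277 = n14065 := d26_1 D18277 (iv D14065) (iv F46061)
def n18279 : Q := act 3 n14067
theorem D18279 : act 3 n14067 = n18279 := rfl
theorem F59252 : act 1 n18279 = n14069 := d8_1 D18279 (iv D14069) (iv F46072)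
theorem F59254 : act 7 n18279 = n14077 := d21_2 (iv F46073) D18279 (iv D14077)
def n18280 : Q := act 5 n14067
theorem D18280 : act 5 n14067 = n18280 := rfl
theorem F59255 : act 1 n18280 = n14070 := d10_1 D18280 (iv D14070) (iv F46072)
theorem F59256 : act 4 n18280 = n14092 := d22_1 D18280 (iv D14092) (iv D10829) (iv F35809) D14067
theorem F59257 : act 7 n18280 = n14078 := d26_2 (iv F46073) D18280 (iv D14078)
def n18282 : Q := act 2 n14068
theorem D18282 : act 2 n14068 = n18282 := rfl
theorem F59261 : act 5 n18282 = n14094 := d15_2 (iv F46076) D18282 (iv D14094)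
def n18283 : Q := act 7 n14068
theorem D18283 : act 7 n14068 = n18283 := rfl
theorem F59262 : act 1 n18283 = n14072 := d12_1 D18283 (iv D14072) (iv F46074)
theorem F59264 : act 5 n18283 = n14095 := d26_1 D18283 (iv D14095) (iv F46076)
theorem F59265 : act 6 n18283 = n14081 := d27_1 D18283 (iv D14081) (iv D10820) (iv F35810) D14068
def n18284 : Q := act 5 n14069
theorem D18284 : act 5 n14069 = n18284 := rfl
theorem F59266 : act 0 n18284 = n14073 := d4_1 D18284 (iv D14073) (iv F46077)
theorem F59269 : act 7 n18284 = n14082 := d26_2 (iv F46080) D18284 (iv D14082)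
def n18285 : Q := act 6 n14069
theorem D18285 : act 6 n14069 = n18285 := rfl
def n18287 : Q := act 7 n14071
theorem D18287 : act 7 n14071 = n18287 := rfl
theorem F59279 : act 4 n18287 = n14072 := d24_1 D18287 (iv D14072) (iv F46087)
theorem F59280 : act 6 n18287 = n14085 := d27_1 D18287 (iv D14085) (iv D10823) (iv F35813) D14071
def n18288 : Q := act 4 n14073
theorem D18288 : act 4 n14073 = n18288 := rfl
theorem F59284 : act 7 n18288 = n14086 := d24_2 (iv F46095) D18288 (iv D14086)
def n18292 : Q := act 7 n14075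
theorem D18292 : act 7 n14075 = n18292 := rfl
theorem F59296 : act 6 n18292 = n14090 := d27_1 D18292 (iv D14090) (iv D10827) (iv F35828) D14075
def n18293 : Q := act 2 n14077
theorem D18293 : act 2 n14077 = n18293 := rfl
theorem F59297 : act 1 n18293 = n18293 := d7_1 D18293 (iv D18293) F46104 F35840 (iv F46104)
def n18294 : Q := act 5 n14077
theorem D18294 : act 5 n14077 = n18294 := rfl
theorem F59299 : act 1 n18294 = n14082 := d10_1 D18294 (iv D14082) (iv F46104)
theorem F59300 : act 3 n18294 = n14078 := d19_1 D18294 (iv D14078) D14077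
def n18295 : Q := act 6 n14077
theorem D18295 : act 6 n14077 = n18295 := rfl
theorem F59302 : act 3 n18295 = n14079 := d20_1 D18295 (iv D14079) D14077
theorem F59303 : act 4 n18295 = n14745 := d23_1 D18295 (iv D14745) (iv F46105)
def n18296 : Q := act 6 n14078
theorem D18296 : act 6 n14078 = n18296 := rfl
theorem F59304 : act 1 n18296 = n14084 := d11_1 D18296 (iv D14084) (iv F46106)
theorem F59305 : act 4 n18296 = n14108 := d23_1 D18296 (iv D14108) (iv F46107)
theorem F59306 : act 5 n18296 = n14079 := d25_1 D18296 (iv D14079) D14078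
def n18297 : Q := act 2 n14079
theorem D18297 : act 2 n14079 = n18297 := rfl
theorem F59307 : act 1 n18297 = n14138 := d7_1 D18297 (iv D14138) F35978 (iv F35846) (iv F46108)
theorem F59308 : act 4 n18297 = n14080 := d14_2 (iv F46109) D18297 (iv D14080)
def n18298 : Q := act 7 n14079
theorem D18298 : act 7 n14079 = n18298 := rfl
theorem F59309 : act 1 n18298 = n14085 := d12_1 D18298 (iv D14085) (iv F46108)
theorem F59310 : act 4 n18298 = n14081 := d24_1 D18298 (iv D14081) (iv F46109)
def n18299 : Q := act 3 n14080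
theorem D18299 : act 3 n14080 = n18299 := rfl
theorem F59312 : act 2 n18299 = n14749 := d13_1 D18299 (iv D14749) (iv D11323) (iv F35837) D14080
theorem F59313 : act 5 n18299 = n14111 := d19_2 (iv F46111) D18299 (iv D14111)
def n18300 : Q := act 7 n14080
theorem D18300 : act 7 n14080 = n18300 := rfl
theorem F59314 : act 1 n18300 = n14141 := d12_1 D18300 (iv D14141) (iv F46110)
theorem F59315 : act 2 n18300 = n14081 := d17_1 D18300 (iv D14081) D14080
theorem F59316 : act 5 n18300 = n14112 := d26_1 D18300 (iv D14112) (iv F46111)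
def n18301 : Q := act 4 n14082
theorem D18301 : act 4 n14082 = n18301 := rfl
theorem F59320 : act 5 n18301 = n14751 := d22_2 D14082 D18301 (iv D14751) (iv D11325) (iv F35841)
def n18302 : Q := act 6 n14082
theorem D18302 : act 6 n14082 = n18302 := rfl
theorem F59322 : act 3 n18302 = n14084 := d20_1 D18302 (iv D14084) (iv F46117)
theorem F59323 : act 5 n18302 = n14083 := d25_1 D18302 (iv D14083) D14082
def n18304 : Q := act 7 n14083
theorem D18304 : act 7 n14083 = n18304 := rfl
theorem F59329 : act 3 n18304 = n14085 := d21_1 D18304 (iv D14085) (iv F46119)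
def n18305 : Q := act 7 n14084
theorem D18305 : act 7 n14084 = n18305 := rfl
theorem F59332 : act 2 n18305 = n14145 := d17_1 D18305 (iv D14145) (iv F46122)
theorem F59333 : act 4 n18305 = n14116 := d24_1 D18305 (iv D14116) (iv F46123)
def n18306 : Q := act 6 n14086
theorem D18306 : act 6 n14086 = n18306 := rfl
theorem F59337 : act 5 n18306 = n14756 := d25_1 D18306 (iv D14756) (iv F46130)
def n18308 : Q := act 7 n14087
theorem D18308 : act 7 n14087 = n18308 := rfl
theorem F59341 : act 3 n18308 = n14090 := d21_1 D18308 (iv D14090) (iv F46131)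
def n18311 : Q := act 2 n14091
theorem D18311 : act 2 n14091 = n18311 := rfl
theorem F59349 : act 1 n18311 = n14119 := d7_1 D18311 (iv D14119) F35921 (iv F35866) (iv F46141)
theorem F59350 : act 4 n18311 = n14761 := d14_2 (iv F46142) D18311 (iv D14761)
theorem F59351 : act 7 n18311 = n14105 := d17_2 (iv F46143) D18311 (iv D14105)
def n18312 : Q := act 5 n14091
theorem D18312 : act 5 n14091 = n18312 := rfl
theorem F59352 : act 1 n18312 = n14096 := d10_1 D18312 (iv D14096) (iv F46141)
theorem F59353 : act 3 n18312 = n14092 := d19_1 D18312 (iv D14092) D14091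
theorem F59354 : act 7 n18312 = n14106 := d26_2 (iv F46143) D18312 (iv D14106)
def n18313 : Q := act 6 n14091
theorem D18313 : act 6 n14091 = n18313 := rfl
theorem F59356 : act 3 n18313 = n14093 := d20_1 D18313 (iv D14093) D14091
theorem F59357 : act 4 n18313 = n14763 := d23_1 D18313 (iv D14763) (iv F46142)
def n18314 : Q := act 6 n14092
theorem D18314 : act 6 n14092 = n18314 := rfl
theorem F59358 : act 1 n18314 = n14098 := d11_1 D18314 (iv D14098) (iv F46144)
theorem F59359 : act 5 n18314 = n14093 := d25_1 D18314 (iv D14093) D14092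
def n18315 : Q := act 2 n14093
theorem D18315 : act 2 n14093 = n18315 := rfl
theorem F59360 : act 1 n18315 = n18315 := d7_1 D18315 (iv D18315) F46146 F35873 (iv F46146)
theorem F59361 : act 4 n18315 = n14094 := d14_2 (iv F46147) D18315 (iv D14094)
def n18316 : Q := act 7 n14093
theorem D18316 : act 7 n14093 = n18316 := rfl
theorem F59362 : act 1 n18316 = n14099 := d12_1 D18316 (iv D14099) (iv F46146)
theorem F59363 : act 4 n18316 = n14095 := d24_1 D18316 (iv D14095) (iv F46147)
theorem F59364 : act 6 n18316 = n14110 := d27_1 D18316 (iv D14110) (iv D10841) (iv F35862) D14093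
def n18317 : Q := act 3 n14094
theorem D18317 : act 3 n14094 = n18317 := rfl
theorem F59365 : act 1 n18317 = n18317 := d8_1 D18317 (iv D18317) F46148
theorem F59366 : act 2 n18317 = n14767 := d13_1 D18317 (iv D14767) (iv D11337) (iv F35864) D14094
def n18318 : Q := act 7 n14094
theorem D18318 : act 7 n14094 = n18318 := rfl
theorem F59367 : act 1 n18318 = n18318 := d12_1 D18318 (iv D18318) F46148
theorem F59368 : act 2 n18318 = n14095 := d17_1 D18318 (iv D14095) D14094
def n18319 : Q := act 4 n14096
theorem D18319 : act 4 n14096 = n18319 := rfl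
theorem F59371 : act 5 n18319 = n14769 := d22_2 D14096 D18319 (iv D14769) (iv D11339) (iv F35867)
def n18320 : Q := act 6 n14096
theorem D18320 : act 6 n14096 = n18320 := rfl
theorem F59373 : act 0 n18320 = n14101 := d5_1 D18320 (iv D14101) (iv F46152)
theorem F59374 : act 3 n18320 = n14098 := d20_1 D18320 (iv D14098) (iv F46154)
def n18321 : Q := act 2 n14097
theorem D18321 : act 2 n14097 = n18321 := rfl
theorem F59378 : act 4 n18321 = n14771 := d14_2 (iv F46158) D18321 (iv D14771)
theorem F59379 : act 6 n18321 = n14127 := d16_2 D14097 D18321 (iv D14127) (iv D10857) (iv F35866)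
def n18322 : Q := act 7 n14097
theorem D18322 : act 7 n14097 = n18322 := rfl
theorem F59383 : act 6 n18322 = n14115 := d27_1 D18322 (iv D14115) (iv D10845) (iv F35868) D14097
def n18323 : Q := act 7 n14098
theorem D18323 : act 7 n14098 = n18323 := rfl
theorem F59387 : act 6 n18323 = n14116 := d27_1 D18323 (iv D14116) (iv D10846) (iv F35871) D14098
def n18324 : Q := act 6 n14100
theorem D18324 : act 6 n14100 = n18324 := rfl
theorem F59388 : act 4 n18324 = n14101 := d23_1 D18324 (iv D14101) D14100
theorem F59389 : act 5 n18324 = n14774 := d25_1 D18324 (iv D14774) (iv F46167)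
def n18326 : Q := act 7 n14101
theorem D18326 : act 7 n14101 = n18326 := rfl
theorem F59395 : act 6 n18326 = n14118 := d27_1 D18326 (iv D14118) (iv D10849) (iv F35881) D14101
def n18329 : Q := act 5 n14105
theorem D18329 : act 5 n14105 = n18329 := rfl
theorem F59403 : act 1 n18329 = n14131 := d10_1 D18329 (iv D14131) (iv F46180)
theorem F59404 : act 2 n18329 = n14106 := d15_1 D18329 (iv D14106) D14105
def n18330 : Q := act 6 n14105
theorem D18330 : act 6 n14105 = n18330 := rfl
theorem F59405 : act 1 n18330 = n14132 := d11_1 D18330 (iv D14132) (iv F46180)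
theorem F59406 : act 4 n18330 = n14780 := d23_1 D18330 (iv D14780) (iv F46181)
def n18331 : Q := act 4 n14106
theorem D18331 : act 4 n14106 = n18331 := rfl
theorem F59408 : act 5 n18331 = n14781 := d22_2 D14106 D18331 (iv D14781) (iv D11349) (iv F35890)
def n18332 : Q := act 6 n14106
theorem D18332 : act 6 n14106 = n18332 := rfl
theorem F59409 : act 1 n18332 = n14114 := d11_1 D18332 (iv D14114) (iv F46182)
theorem F59410 : act 3 n18332 = n14108 := d20_1 D18332 (iv D14108) (iv F46183)
theorem F59411 : act 5 n18332 = n14107 := d25_1 D18332 (iv D14107) D14106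
def n18333 : Q := act 2 n14107
theorem D18333 : act 2 n14107 = n18333 := rfl
theorem F59412 : act 1 n18333 = n18333 := d7_1 D18333 (iv D18333) F46184 F35901 (iv F46184)
theorem F59413 : act 4 n18333 = n14783 := d14_2 (iv F46186) D18333 (iv D14783)
def n18334 : Q := act 7 n14107
theorem D18334 : act 7 n14107 = n18334 := rfl
theorem F59414 : act 1 n18334 = n14115 := d12_1 D18334 (iv D14115) (iv F46184)
theorem F59415 : act 3 n18334 = n14110 := d21_1 D18334 (iv D14110) (iv F46185)
theorem F59416 : act 4 n18334 = n14784 := d24_1 D18334 (iv D14784) (iv F46186)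
def n18335 : Q := act 2 n14108
theorem D18335 : act 2 n14108 = n18335 := rfl
theorem F59417 : act 1 n18335 = n14150 := d7_1 D18335 (iv D14150) F36016 (iv F35905) (iv F46187)
theorem F59418 : act 5 n18335 = n14109 := d15_2 (iv F46188) D18335 (iv D14109)
def n18336 : Q := act 7 n14108
theorem D18336 : act 7 n14108 = n18336 := rfl
theorem F59419 : act 1 n18336 = n14116 := d12_1 D18336 (iv D14116) (iv F46187)
theorem F59420 : act 5 n18336 = n14110 := d26_1 D18336 (iv D14110) (iv F46188)
def n18337 : Q := act 3 n14109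
theorem D18337 : act 3 n14109 = n18337 := rfl
theorem F59421 : act 1 n18337 = n14152 := d8_1 D18337 (iv D14152) (iv F46189)
def n18338 : Q := act 7 n14109
theorem D18338 : act 7 n14109 = n18338 := rfl
theorem F59422 : act 1 n18338 = n14153 := d12_1 D18338 (iv D14153) (iv F46189)
theorem F59423 : act 2 n18338 = n14110 := d17_1 D18338 (iv D14110) D14109
theorem F59424 : act 4 n18338 = n14112 := d24_1 D18338 (iv D14112) (iv F46190)
def n18339 : Q := act 4 n14111
theorem D18339 : act 4 n14111 = n18339 := rfl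
theorem F59425 : act 1 n18339 = n14154 := d9_1 D18339 (iv D14154) (iv F46193)
def n18340 : Q := act 7 n14111
theorem D18340 : act 7 n14111 = n18340 := rfl
theorem F59427 : act 1 n18340 = n14155 := d12_1 D18340 (iv D14155) (iv F46193)
theorem F59429 : act 3 n18340 = n14112 := d21_1 D18340 (iv D14112) D14111
def n18341 : Q := act 6 n14112
theorem D18341 : act 6 n14112 = n18341 := rfl
theorem F59430 : act 1 n18341 = n14156 := d11_1 D18341 (iv D14156) (iv F46195)
def n18343 : Q := act 7 n14114
theorem D18343 : act 7 n14114 = n18343 := rfl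
theorem F59435 : act 0 n18343 = n14118 := d6_1 D18343 (iv D14118) (iv F46200)
theorem F59438 : act 5 n18343 = n14115 := d26_1 D18343 (iv D14115) (iv F46203)
def n18345 : Q := act 5 n14119
theorem D18345 : act 5 n14119 = n18345 := rfl
theorem F59443 : act 2 n18345 = n14120 := d15_1 D18345 (iv D14120) D14119
theorem F59444 : act 7 n18345 = n14131 := d26_2 (iv F46219) D18345 (iv D14131)
def n18346 : Q := act 6 n14119
theorem D18346 : act 6 n14119 = n18346 := rfl
theorem F59445 : act 0 n18346 = n18346 := d5_1 D18346 (iv D18346) F46217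
theorem F59446 : act 4 n18346 = n14796 := d23_1 D18346 (iv D14796) (iv F46218)
def n18347 : Q := act 4 n14120
theorem D18347 : act 4 n14120 = n18347 := rfl
theorem F59451 : act 7 n18347 = n14133 := d24_2 (iv F46223) D18347 (iv D14133)
def n18350 : Q := act 2 n14122
theorem D18350 : act 2 n14122 = n18350 := rfl
theorem F59463 : act 5 n18350 = n14123 := d15_2 (iv F46232) D18350 (iv D14123)
def n18351 : Q := act 3 n14123
theorem D18351 : act 3 n14123 = n18351 := rfl
theorem F59465 : act 0 n18351 = n18351 := d2_1 D18351 (iv D18351) F46234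
theorem F59466 : act 1 n18351 = n18351 := d8_1 D18351 (iv D18351) F46235
theorem F59467 : act 7 n18351 = n18351 := d21_2 F46237 D18351 (iv D18351)
def n18359 : Q := act 4 n14131
theorem D18359 : act 4 n14131 = n18359 := rfl
theorem F59497 : act 5 n18359 = n14809 := d22_2 D14131 D18359 (iv D14809) (iv D11374) (iv F35960)
def n18360 : Q := act 6 n14131
theorem D18360 : act 6 n14131 = n18360 := rfl
theorem F59498 : act 0 n18360 = n18360 := d5_1 D18360 (iv D18360) F46267
theorem F59499 : act 2 n18360 = n18360 := d16_1 D18360 (iv D18360) F46268 F35964 (iv F46268)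
theorem F59500 : act 5 n18360 = n14132 := d25_1 D18360 (iv D14132) D14131
def n18361 : Q := act 7 n14132
theorem D18361 : act 7 n14132 = n18361 := rfl
theorem F59503 : act 4 n18361 = n14811 := d24_1 D18361 (iv D14811) (iv F46271)
def n18362 : Q := act 5 n14134
theorem D18362 : act 5 n14134 = n18362 := rfl
theorem F59506 : act 2 n18362 = n14135 := d15_1 D18362 (iv D14135) D14134
def n18363 : Q := act 6 n14134
theorem D18363 : act 6 n14134 = n18363 := rfl
def n18364 : Q := act 6 n14135
theorem D18364 : act 6 n14135 = n18364 := rfl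
theorem F59514 : act 3 n18364 = n14137 := d20_1 D18364 (iv D14137) (iv F46283)
theorem F59516 : act 5 n18364 = n14136 := d25_1 D18364 (iv D14136) D14135
def n18366 : Q := act 7 n14136
theorem D18366 : act 7 n14136 = n18366 := rfl
theorem F59521 : act 3 n18366 = n14139 := d21_1 D18366 (iv D14139) (iv F46288)
theorem F59522 : act 4 n18366 = n14159 := d24_1 D18366 (iv D14159) (iv F46289)
theorem F59523 : act 6 n18366 = n18366 := d27_1 D18366 (iv D18366) (iv D14136) F35972 D14136
def n18367 : Q := act 2 n14137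
theorem D18367 : act 2 n14137 = n18367 := rfl
theorem F59525 : act 4 n18367 = n14150 := d14_2 (iv F46292) D18367 (iv D14150)
theorem F59526 : act 5 n18367 = n14138 := d15_2 (iv F46293) D18367 (iv D14138)
def n18368 : Q := act 7 n14137
theorem D18368 : act 7 n14137 = n18368 := rfl
theorem F59527 : act 0 n18368 = n18368 := d6_1 D18368 (iv D18368) F46290
theorem F59528 : act 1 n18368 = n14145 := d12_1 D18368 (iv D14145) (iv F46291)
theorem F59529 : act 4 n18368 = n14151 := d24_1 D18368 (iv D14151) (iv F46292)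
theorem F59530 : act 5 n18368 = n14139 := d26_1 D18368 (iv D14139) (iv F46293)
theorem F59531 : act 6 n18368 = n18368 := d27_1 D18368 (iv D18368) (iv D14137) F35976 D14137
def n18369 : Q := act 3 n14138
theorem D18369 : act 3 n14138 = n18369 := rfl
def n18370 : Q := act 7 n14138
theorem D18370 : act 7 n14138 = n18370 := rfl
theorem F59533 : act 0 n18370 = n18370 := d6_1 D18370 (iv D18370) F46294
theorem F59534 : act 2 n18370 = n14139 := d17_1 D18370 (iv D14139) D14138
theorem F59535 : act 4 n18370 = n14141 := d24_1 D18370 (iv D14141) (iv F46295)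
def n18372 : Q := act 7 n14140
theorem D18372 : act 7 n14140 = n18372 := rfl
theorem F59540 : act 3 n18372 = n14141 := d21_1 D18372 (iv D14141) D14140
theorem F59541 : act 5 n18372 = n14155 := d26_1 D18372 (iv D14155) (iv F46302)
def n18373 : Q := act 6 n14141
theorem D18373 : act 6 n14141 = n18373 := rfl
theorem F59542 : act 0 n18373 = n18373 := d5_1 D18373 (iv D18373) F46303
theorem F59543 : act 2 n18373 = n18373 := d16_1 D18373 (iv D18373) F46304 F35986 (iv F46304)
theorem F59544 : act 5 n18373 = n14156 := d25_1 D18373 (iv D14156) (iv F46305)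
def n18375 : Q := act 7 n14142
theorem D18375 : act 7 n14142 = n18375 := rfl
theorem F59550 : act 3 n18375 = n14145 := d21_1 D18375 (iv D14145) (iv F46307)
theorem F59552 : act 5 n18375 = n14144 := d26_1 D18375 (iv D14144) (iv F46309)
theorem F59553 : act 6 n18375 = n18375 := d27_1 D18375 (iv D18375) (iv D14142) F35991 D14142
def n18382 : Q := act 6 n14149
theorem D18382 : act 6 n14149 = n18382 := rfl
theorem F59572 : act 2 n18382 = n18382 := d16_1 D18382 (iv D18382) F46332 F36010 (iv F46332)
def n18383 : Q := act 3 n14150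
theorem D18383 : act 3 n14150 = n18383 := rfl
theorem F59577 : act 5 n18383 = n14152 := d19_2 (iv F46335) D18383 (iv D14152)
def n18384 : Q := act 7 n14150
theorem D18384 : act 7 n14150 = n18384 := rfl
theorem F59578 : act 0 n18384 = n18384 := d6_1 D18384 (iv D18384) F46334
theorem F59579 : act 2 n18384 = n14151 := d17_1 D18384 (iv D14151) D14150
theorem F59580 : act 5 n18384 = n14153 := d26_1 D18384 (iv D14153) (iv F46335)
def n18385 : Q := act 4 n14152
theorem D18385 : act 4 n14152 = n18385 := rfl
theorem F59583 : act 3 n18385 = n14154 := d18_1 D18385 (iv D14154) (iv D10881) (iv F36020) D14152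
def n18386 : Q := act 7 n14152
theorem D18386 : act 7 n14152 = n18386 := rfl
theorem F59586 : act 3 n18386 = n14153 := d21_1 D18386 (iv D14153) D14152
def n18387 : Q := act 6 n14153
theorem D18387 : act 6 n14153 = n18387 := rfl
theorem F59589 : act 4 n18387 = n14156 := d23_1 D18387 (iv D14156) (iv F46345)
def n18388 : Q := act 5 n14154
theorem D18388 : act 5 n14154 = n18388 := rfl
def n18392 : Q := act 7 n14157
theorem D18392 : act 7 n14157 = n18392 := rfl
theorem F59604 : act 6 n18392 = n18392 := d27_1 D18392 (iv D18392) (iv D14157) F36038 D14157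
def n18398 : Q := act 6 n14161
theorem D18398 : act 6 n14161 = n18398 := rfl
theorem F59623 : act 2 n18398 = n18398 := d16_1 D18398 (iv D18398) F46370 F36052 (iv F46370)
def n18404 : Q := act 6 n14166
theorem D18404 : act 6 n14166 = n18404 := rfl
theorem F59647 : act 2 n18404 = n18404 := d16_1 D18404 (iv D18404) F46389 F36068 (iv F46389)
def n18407 : Q := act 7 n14170
theorem D18407 : act 7 n14170 = n18407 := rfl
theorem F59662 : act 5 n18407 = n14171 := d26_1 D18407 (iv D14171) D14170
def n18460 : Q := act 1 n14210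
theorem D18460 : act 1 n14210 = n18460 := rfl
theorem F59841 : act 3 n18460 = n14885 := d8_2 (iv F46543) D18460 (iv D14885)
def n18491 : Q := act 6 n14230
theorem D18491 : act 6 n14230 = n18491 := rfl
theorem F59936 : act 1 n18491 = n14232 := d11_1 D18491 (iv D14232) D14230
theorem F59937 : act 3 n18491 = n14902 := d20_1 D18491 (iv D14902) (iv F46602)
def n18532 : Q := act 2 n14260
theorem D18532 : act 2 n14260 = n18532 := rfl
theorem F60051 : act 0 n18532 = n14261 := d1_1 D18532 (iv D14261) (iv F46685)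
def n18535 : Q := act 6 n14261
theorem D18535 : act 6 n14261 = n18535 := rfl
theorem F60057 : act 2 n18535 = n14267 := d16_1 D18535 (iv D14267) (iv D10963) (iv F36284) D14261
def n18536 : Q := act 5 n14262
theorem D18536 : act 5 n14262 = n18536 := rfl
theorem F60061 : act 4 n18536 = n14290 := d22_1 D18536 (iv D14290) (iv D10979) (iv F36283) D14262
theorem F60062 : act 6 n18536 = n14268 := d25_2 (iv F46691) D18536 (iv D14268)
def n18537 : Q := act 1 n14264
theorem D18537 : act 1 n14264 = n18537 := rfl
theorem F60063 : act 0 n18537 = n14323 := d0_1 D18537 (iv D14323) F36392 (iv F36289) (iv F46694)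
theorem F60064 : act 3 n18537 = n14456 := d8_2 (iv F46695) D18537 (iv D14456)
theorem F60066 : act 7 n18537 = n14269 := d12_2 (iv F46697) D18537 (iv D14269)
def n18539 : Q := act 6 n14264
theorem D18539 : act 6 n14264 = n18539 := rfl
theorem F60070 : act 0 n18539 = n14267 := d5_1 D18539 (iv D14267) (iv F46694)
theorem F60071 : act 3 n18539 = n14458 := d20_1 D18539 (iv D14458) (iv F46695)
def n18542 : Q := act 5 n14266
theorem D18542 : act 5 n14266 = n18542 := rfl
theorem F60080 : act 2 n18542 = n14268 := d15_1 D18542 (iv D14268) (iv F46701)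
def n18543 : Q := act 6 n14266
theorem D18543 : act 6 n14266 = n18543 := rfl
theorem F60084 : act 4 n18543 = n14267 := d23_1 D18543 (iv D14267) D14266
def n18544 : Q := act 7 n14267
theorem D18544 : act 7 n14267 = n18544 := rfl
theorem F60085 : act 1 n18544 = n14330 := d12_1 D18544 (iv D14330) (iv F46703)
theorem F60087 : act 5 n18544 = n14298 := d26_1 D18544 (iv D14298) (iv F46705)
theorem F60088 : act 6 n18544 = n14276 := d27_1 D18544 (iv D14276) (iv D10969) (iv F36292) D14267
def n18546 : Q := act 6 n14269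
theorem D18546 : act 6 n14269 = n18546 := rfl
theorem F60091 : act 0 n18546 = n14332 := d5_1 D18546 (iv D14332) (iv F46709)
theorem F60093 : act 3 n18546 = n14465 := d20_1 D18546 (iv D14465) (iv F46710)
theorem F60094 : act 5 n18546 = n14300 := d25_1 D18546 (iv D14300) (iv F46711)
def n18547 : Q := act 3 n14270
theorem D18547 : act 3 n14270 = n18547 := rfl
theorem F60096 : act 4 n18547 = n14466 := d18_2 D14270 D18547 (iv D14466) (iv D11108) (iv F36299)
def n18548 : Q := act 5 n14270
theorem D18548 : act 5 n14270 = n18548 := rfl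
theorem F60099 : act 4 n18548 = n14302 := d22_1 D18548 (iv D14302) (iv D10987) (iv F36300) D14270
def n18549 : Q := act 6 n14270
theorem D18549 : act 6 n14270 = n18549 := rfl
theorem F60100 : act 0 n18549 = n14275 := d5_1 D18549 (iv D14275) (iv F46712)
def n18554 : Q := act 7 n14275
theorem D18554 : act 7 n14275 = n18554 := rfl
theorem F60114 : act 4 n18554 = n14276 := d24_1 D18554 (iv D14276) (iv F46725)
def n18565 : Q := act 6 n14283
theorem D18565 : act 6 n14283 = n18565 := rfl
theorem F60140 : act 2 n18565 = n14351 := d16_1 D18565 (iv D14351) (iv D11023) (iv F36319) D14283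
def n18569 : Q := act 6 n14286
theorem D18569 : act 6 n14286 = n18569 := rfl
theorem F60147 : act 0 n18569 = n14289 := d5_1 D18569 (iv D14289) (iv F46751)
theorem F60148 : act 2 n18569 = n14293 := d16_1 D18569 (iv D14293) (iv D10981) (iv F36323) D14286
def n18570 : Q := act 5 n14287
theorem D18570 : act 5 n14287 = n18570 := rfl
theorem F60150 : act 0 n18570 = n14290 := d4_1 D18570 (iv D14290) (iv F46753)
theorem F60152 : act 6 n18570 = n14294 := d25_2 (iv F46755) D18570 (iv D14294)
def n18572 : Q := act 5 n14288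
theorem D18572 : act 5 n14288 = n18572 := rfl
theorem F60155 : act 2 n18572 = n14290 := d15_1 D18572 (iv D14290) (iv F46756)
def n18573 : Q := act 6 n14288
theorem D18573 : act 6 n14288 = n18573 := rfl
theorem F60156 : act 2 n18573 = n14297 := d16_1 D18573 (iv D14297) F36337 (iv F36327) (iv F46756)
theorem F60157 : act 4 n18573 = n14289 := d23_1 D18573 (iv D14289) D14288
def n18574 : Q := act 7 n14289
theorem D18574 : act 7 n14289 = n18574 := rfl
theorem F60158 : act 2 n18574 = n14298 := d17_1 D18574 (iv D14298) (iv F46757)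
def n18575 : Q := act 4 n14291
theorem D18575 : act 4 n14291 = n18575 := rfl
theorem F60160 : act 0 n18575 = n14361 := d3_1 D18575 (iv D14361) (iv F46762)
theorem F60161 : act 1 n18575 = n14292 := d9_1 D18575 (iv D14292) D14291
theorem F60162 : act 7 n18575 = n14299 := d24_2 (iv F46764) D18575 (iv D14299)
def n18576 : Q := act 6 n14291
theorem D18576 : act 6 n14291 = n18576 := rfl
theorem F60163 : act 0 n18576 = n14362 := d5_1 D18576 (iv D14362) (iv F46762)
theorem F60164 : act 1 n18576 = n14293 := d11_1 D18576 (iv D14293) D14291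
theorem F60165 : act 3 n18576 = n14475 := d20_1 D18576 (iv D14475) (iv F46763)
def n18577 : Q := act 3 n14292
theorem D18577 : act 3 n14292 = n18577 := rfl
theorem F60169 : act 7 n18577 = n14301 := d21_2 (iv F46767) D18577 (iv D14301)
def n18578 : Q := act 5 n14292
theorem D18578 : act 5 n14292 = n18578 := rfl
theorem F60171 : act 2 n18578 = n14294 := d15_1 D18578 (iv D14294) (iv F46766)
theorem F60172 : act 7 n18578 = n14302 := d26_2 (iv F46767) D18578 (iv D14302)
def n18580 : Q := act 7 n14293
theorem D18580 : act 7 n14293 = n18580 := rfl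
theorem F60175 : act 0 n18580 = n14298 := d6_1 D18580 (iv D14298) (iv F46768)
theorem F60177 : act 6 n18580 = n14304 := d27_1 D18580 (iv D14304) (iv D10988) (iv F36332) D14293
def n18581 : Q := act 5 n14295
theorem D18581 : act 5 n14295 = n18581 := rfl
theorem F60180 : act 3 n18581 = n14296 := d19_1 D18581 (iv D14296) D14295
theorem F60181 : act 7 n18581 = n14305 := d26_2 (iv F46776) D18581 (iv D14305)
def n18582 : Q := act 6 n14295
theorem D18582 : act 6 n14295 = n18582 := rfl
theorem F60183 : act 3 n18582 = n14297 := d20_1 D18582 (iv D14297) D14295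
def n18585 : Q := act 3 n14299
theorem D18585 : act 3 n14299 = n18585 := rfl
theorem F60192 : act 4 n18585 = n14484 := d18_2 D14299 D18585 (iv D14484) (iv D11123) (iv F36345)
def n18586 : Q := act 5 n14299
theorem D18586 : act 5 n14299 = n18586 := rfl
theorem F60193 : act 0 n18586 = n14372 := d4_1 D18586 (iv D14372) (iv F46785)
theorem F60194 : act 1 n18586 = n14302 := d10_1 D18586 (iv D14302) (iv F46786)
def n18587 : Q := act 6 n14299
theorem D18587 : act 6 n14299 = n18587 := rfl
theorem F60197 : act 4 n18587 = n14300 := d23_1 D18587 (iv D14300) D14299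
def n18588 : Q := act 2 n14300
theorem D18588 : act 2 n14300 = n18588 := rfl
theorem F60198 : act 0 n18588 = n14374 := d1_1 D18588 (iv D14374) (iv F46787)
def n18589 : Q := act 7 n14300
theorem D18589 : act 7 n14300 = n18589 := rfl
theorem F60199 : act 0 n18589 = n14375 := d6_1 D18589 (iv D14375) (iv F46787)
theorem F60200 : act 1 n18589 = n14304 := d12_1 D18589 (iv D14304) (iv F46788)
def n18590 : Q := act 5 n14301
theorem D18590 : act 5 n14301 = n18590 := rfl
theorem F60204 : act 3 n18590 = n14302 := d19_1 D18590 (iv D14302) D14301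
def n18606 : Q := act 2 n14314
theorem D18606 : act 2 n14314 = n18606 := rfl
theorem F60246 : act 0 n18606 = n14315 := d1_1 D18606 (iv D14315) (iv F46824)
def n18609 : Q := act 6 n14315
theorem D18609 : act 6 n14315 = n18609 := rfl
theorem F60255 : act 1 n18609 = n14321 := d11_1 D18609 (iv D14321) (iv F46827)
def n18618 : Q := act 7 n14321
theorem D18618 : act 7 n14321 = n18618 := rfl
theorem F60284 : act 2 n18618 = n14330 := d17_1 D18618 (iv D14330) (iv F46846)
theorem F60285 : act 3 n18618 = n15990 := d21_1 D18618 (iv D15990) (iv F46847)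
theorem F60286 : act 5 n18618 = n14360 := d26_1 D18618 (iv D14360) (iv F46848)
def n18620 : Q := act 6 n14323
theorem D18620 : act 6 n14323 = n18620 := rfl
theorem F60290 : act 1 n18620 = n14325 := d11_1 D18620 (iv D14325) D14323
theorem F60292 : act 5 n18620 = n14362 := d25_1 D18620 (iv D14362) (iv F46855)
def n18622 : Q := act 5 n14324
theorem D18622 : act 5 n14324 = n18622 := rfl
theorem F60300 : act 7 n18622 = n14334 := d26_2 (iv F46859) D18622 (iv D14334)
def n18623 : Q := act 6 n14324
theorem D18623 : act 6 n14324 = n18623 := rfl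
theorem F60302 : act 4 n18623 = n14325 := d23_1 D18623 (iv D14325) D14324
def n18624 : Q := act 7 n14325
theorem D18624 : act 7 n14325 = n18624 := rfl
theorem F60303 : act 0 n18624 = n14330 := d6_1 D18624 (iv D14330) (iv F46860)
theorem F60305 : act 5 n18624 = n14366 := d26_1 D18624 (iv D14366) (iv F46862)
theorem F60306 : act 6 n18624 = n14336 := d27_1 D18624 (iv D14336) (iv D11011) (iv F36395) D14325
def n18627 : Q := act 6 n14328
theorem D18627 : act 6 n14328 = n18627 := rfl
theorem F60312 : act 4 n18627 = n14369 := d23_1 D18627 (iv D14369) (iv F46871)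
theorem F60313 : act 5 n18627 = n14329 := d25_1 D18627 (iv D14329) D14328
def n18628 : Q := act 7 n14329
theorem D18628 : act 7 n14329 = n18628 := rfl
theorem F60314 : act 4 n18628 = n14330 := d24_1 D18628 (iv D14330) (iv F46873)
theorem F60315 : act 6 n18628 = n14340 := d27_1 D18628 (iv D14340) (iv D11015) (iv F36400) D14329
def n18629 : Q := act 3 n14331
theorem D18629 : act 3 n14331 = n18629 := rfl
theorem F60317 : act 4 n18629 = n14508 := d18_2 D14331 D18629 (iv D14508) (iv D11141) (iv F36407)
def n18630 : Q := act 5 n14331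
theorem D18630 : act 5 n14331 = n18630 := rfl
theorem F60319 : act 4 n18630 = n14372 := d22_1 D18630 (iv D14372) (iv D11039) (iv F36408) D14331
def n18631 : Q := act 6 n14331
theorem D18631 : act 6 n14331 = n18631 := rfl
theorem F60320 : act 1 n18631 = n14335 := d11_1 D18631 (iv D14335) (iv F46877)
theorem F60321 : act 4 n18631 = n14332 := d23_1 D18631 (iv D14332) D14331
def n18632 : Q := act 2 n14332
theorem D18632 : act 2 n14332 = n18632 := rfl
theorem F60322 : act 1 n18632 = n18632 := d7_1 D18632 (iv D18632) F46878 F36412 (iv F46878)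
theorem F60323 : act 5 n18632 = n14374 := d15_2 (iv F46880) D18632 (iv D14374)
def n18633 : Q := act 7 n14332
theorem D18633 : act 7 n14332 = n18633 := rfl
theorem F60324 : act 1 n18633 = n14336 := d12_1 D18633 (iv D14336) (iv F46878)
theorem F60325 : act 3 n18633 = n14512 := d21_1 D18633 (iv D14512) (iv F46879)
theorem F60326 : act 5 n18633 = n14375 := d26_1 D18633 (iv D14375) (iv F46880)
def n18636 : Q := act 6 n14334
theorem D18636 : act 6 n14334 = n18636 := rfl
theorem F60336 : act 5 n18636 = n14335 := d25_1 D18636 (iv D14335) D14334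
def n18637 : Q := act 7 n14335
theorem D18637 : act 7 n14335 = n18637 := rfl
theorem F60339 : act 4 n18637 = n14336 := d24_1 D18637 (iv D14336) (iv F46889)
def n18642 : Q := act 7 n14339
theorem D18642 : act 7 n14339 = n18642 := rfl
theorem F60352 : act 5 n18642 = n14340 := d26_1 D18642 (iv D14340) (iv F46900)
def n18652 : Q := act 1 n14348
theorem D18652 : act 1 n14348 = n18652 := rfl
theorem F60379 : act 0 n18652 = n14353 := d0_1 D18652 (iv D14353) F36451 (iv F36444) (iv F46922)
def n18654 : Q := act 6 n14348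
theorem D18654 : act 6 n14348 = n18654 := rfl
theorem F60385 : act 0 n18654 = n14351 := d5_1 D18654 (iv D14351) (iv F46922)
def n18659 : Q := act 7 n14351
theorem D18659 : act 7 n14351 = n18659 := rfl
theorem F60397 : act 1 n18659 = n14360 := d12_1 D18659 (iv D14360) (iv F46930)
def n18661 : Q := act 6 n14353
theorem D18661 : act 6 n14353 = n18661 := rfl
theorem F60402 : act 1 n18661 = n14355 := d11_1 D18661 (iv D14355) D14353
def n18665 : Q := act 7 n14355
theorem D18665 : act 7 n14355 = n18665 := rfl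
theorem F60414 : act 0 n18665 = n14360 := d6_1 D18665 (iv D14360) (iv F46939)
def n18670 : Q := act 3 n14361
theorem D18670 : act 3 n14361 = n18670 := rfl
theorem F60430 : act 7 n18670 = n14371 := d21_2 (iv F46957) D18670 (iv D14371)
def n18673 : Q := act 2 n14362
theorem D18673 : act 2 n14362 = n18673 := rfl
def n18674 : Q := act 7 n14362
theorem D18674 : act 7 n14362 = n18674 := rfl
theorem F60435 : act 1 n18674 = n14366 := d12_1 D18674 (iv D14366) (iv F46958)
theorem F60436 : act 3 n18674 = n14526 := d21_1 D18674 (iv D14526) (iv F46959)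
theorem F60437 : act 6 n18674 = n14375 := d27_1 D18674 (iv D14375) (iv D11040) (iv F36467) D14362
def n18675 : Q := act 5 n14363
theorem D18675 : act 5 n14363 = n18675 := rfl
theorem F60440 : act 3 n18675 = n14364 := d19_1 D18675 (iv D14364) D14363
theorem F60441 : act 7 n18675 = n14376 := d26_2 (iv F46963) D18675 (iv D14376)
def n18676 : Q := act 6 n14363
theorem D18676 : act 6 n14363 = n18676 := rfl
theorem F60443 : act 3 n18676 = n14365 := d20_1 D18676 (iv D14365) D14363
def n18677 : Q := act 6 n14364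
theorem D18677 : act 6 n14364 = n18677 := rfl
theorem F60445 : act 0 n18677 = n14369 := d5_1 D18677 (iv D14369) (iv F46964)
def n18678 : Q := act 7 n14365
theorem D18678 : act 7 n14365 = n18678 := rfl
theorem F60448 : act 4 n18678 = n14366 := d24_1 D18678 (iv D14366) (iv F46968)
theorem F60449 : act 6 n18678 = n14379 := d27_1 D18678 (iv D14379) (iv D11043) (iv F36470) D14365
def n18680 : Q := act 6 n14367
theorem D18680 : act 6 n14367 = n18680 := rfl
theorem F60453 : act 3 n18680 = n14369 := d20_1 D18680 (iv D14369) (iv F46973)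
def n18685 : Q := act 5 n14371
theorem D18685 : act 5 n14371 = n18685 := rfl
theorem F60465 : act 3 n18685 = n14372 := d19_1 D18685 (iv D14372) D14371
def n18686 : Q := act 6 n14371
theorem D18686 : act 6 n14371 = n18686 := rfl
theorem F60467 : act 3 n18686 = n14373 := d20_1 D18686 (iv D14373) D14371
theorem F60468 : act 4 n18686 = n14538 := d23_1 D18686 (iv D14538) (iv F46981)
def n18687 : Q := act 6 n14372
theorem D18687 : act 6 n14372 = n18687 := rfl
theorem F60470 : act 5 n18687 = n14373 := d25_1 D18687 (iv D14373) D14372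
def n18688 : Q := act 2 n14373
theorem D18688 : act 2 n14373 = n18688 := rfl
theorem F60472 : act 4 n18688 = n14374 := d14_2 (iv F46984) D18688 (iv D14374)
def n18689 : Q := act 7 n14373
theorem D18689 : act 7 n14373 = n18689 := rfl
theorem F60474 : act 4 n18689 = n14375 := d24_1 D18689 (iv D14375) (iv F46984)
def n18690 : Q := act 3 n14374
theorem D18690 : act 3 n14374 = n18690 := rfl
theorem F60475 : act 1 n18690 = n18690 := d8_1 D18690 (iv D18690) F46985
theorem F60476 : act 2 n18690 = n14542 := d13_1 D18690 (iv D14542) (iv D11164) (iv F36486) D14374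
def n18691 : Q := act 7 n14374
theorem D18691 : act 7 n14374 = n18691 := rfl
theorem F60477 : act 1 n18691 = n18691 := d12_1 D18691 (iv D18691) F46985
theorem F60478 : act 2 n18691 = n14375 := d17_1 D18691 (iv D14375) D14374
def n18740 : Q := act 5 n14412
theorem D18740 : act 5 n14412 = n18740 := rfl
theorem F60631 : act 3 n18740 = n14413 := d19_1 D18740 (iv D14413) D14412
theorem F60632 : act 7 n18740 = n14427 := d26_2 (iv F47104) D18740 (iv D14427)
def n18742 : Q := act 6 n14413
theorem D18742 : act 6 n14413 = n18742 := rfl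
theorem F60640 : act 5 n18742 = n14414 := d25_1 D18742 (iv D14414) D14413
def n18799 : Q := act 6 n14456
theorem D18799 : act 6 n14456 = n18799 := rfl
theorem F60820 : act 0 n18799 = n14499 := d5_1 D18799 (iv D14499) (iv F47245)
theorem F60821 : act 1 n18799 = n14458 := d11_1 D18799 (iv D14458) D14456
def n18802 : Q := act 6 n14457
theorem D18802 : act 6 n14457 = n18802 := rfl
theorem F60831 : act 4 n18802 = n14458 := d23_1 D18802 (iv D14458) D14457
def n18803 : Q := act 7 n14458
theorem D18803 : act 7 n14458 = n18803 := rfl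
theorem F60832 : act 0 n18803 = n14463 := d6_1 D18803 (iv D14463) (iv F47252)
theorem F60835 : act 6 n18803 = n14469 := d27_1 D18803 (iv D14469) (iv D11109) (iv F36684) D14458
def n18807 : Q := act 7 n14462
theorem D18807 : act 7 n14462 = n18807 := rfl
theorem F60847 : act 4 n18807 = n14463 := d24_1 D18807 (iv D14463) (iv F47268)
theorem F60848 : act 6 n18807 = n14473 := d27_1 D18807 (iv D14473) (iv D11113) (iv F36691) D14462
def n18808 : Q := act 3 n14464
theorem D18808 : act 3 n14464 = n18808 := rfl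
theorem F60849 : act 0 n18808 = n14508 := d2_1 D18808 (iv D14508) (iv F47273)
def n18809 : Q := act 5 n14464
theorem D18809 : act 5 n14464 = n18809 := rfl
theorem F60851 : act 0 n18809 = n14509 := d4_1 D18809 (iv D14509) (iv F47273)
def n18810 : Q := act 6 n14464
theorem D18810 : act 6 n14464 = n18810 := rfl
theorem F60857 : act 4 n18810 = n14465 := d23_1 D18810 (iv D14465) D14464
def n18811 : Q := act 2 n14465
theorem D18811 : act 2 n14465 = n18811 := rfl
def n18812 : Q := act 7 n14465
theorem D18812 : act 7 n14465 = n18812 := rfl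
theorem F60862 : act 0 n18812 = n14512 := d6_1 D18812 (iv D14512) (iv F47276)
def n18813 : Q := act 5 n14466
theorem D18813 : act 5 n14466 = n18813 := rfl
theorem F60866 : act 3 n18813 = n14467 := d19_1 D18813 (iv D14467) D14466
def n18814 : Q := act 6 n14466
theorem D18814 : act 6 n14466 = n18814 := rfl
theorem F60868 : act 3 n18814 = n14468 := d20_1 D18814 (iv D14468) D14466
def n18816 : Q := act 7 n14468
theorem D18816 : act 7 n14468 = n18816 := rfl
theorem F60875 : act 4 n18816 = n14469 := d24_1 D18816 (iv D14469) (iv F47285)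
def n18824 : Q := act 6 n14474
theorem D18824 : act 6 n14474 = n18824 := rfl
theorem F60895 : act 0 n18824 = n14524 := d5_1 D18824 (iv D14524) (iv F47300)
theorem F60897 : act 4 n18824 = n14475 := d23_1 D18824 (iv D14475) D14474
def n18825 : Q := act 2 n14475
theorem D18825 : act 2 n14475 = n18825 := rfl
theorem F60898 : act 0 n18825 = n14525 := d1_1 D18825 (iv D14525) (iv F47304)
theorem F60900 : act 6 n18825 = n14701 := d16_2 D14475 D18825 (iv D14701) (iv D11287) (iv F36722)
def n18826 : Q := act 7 n14475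
theorem D18826 : act 7 n14475 = n18826 := rfl
theorem F60901 : act 0 n18826 = n14526 := d6_1 D18826 (iv D14526) (iv F47304)
def n18836 : Q := act 2 n14484
theorem D18836 : act 2 n14484 = n18836 := rfl
theorem F60934 : act 3 n18836 = n14712 := d13_2 D14484 D18836 (iv D14712) (iv D11296) (iv F36748)
def n18854 : Q := act 3 n14498
theorem D18854 : act 3 n14498 = n18854 := rfl
theorem F60983 : act 1 n18854 = n14500 := d8_1 D18854 (iv D14500) (iv F47367)
theorem F60984 : act 7 n18854 = n14508 := d21_2 (iv F47369) D18854 (iv D14508)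
def n18856 : Q := act 6 n14498
theorem D18856 : act 6 n14498 = n18856 := rfl
theorem F60990 : act 4 n18856 = n14499 := d23_1 D18856 (iv D14499) D14498
def n18857 : Q := act 2 n14499
theorem D18857 : act 2 n14499 = n18857 := rfl
theorem F60991 : act 1 n18857 = n16155 := d7_1 D18857 (iv D16155) F40710 (iv F36778) (iv F47370)
theorem F60992 : act 5 n18857 = n14525 := d15_2 (iv F47371) D18857 (iv D14525)
theorem F60993 : act 6 n18857 = n14732 := d16_2 D14499 D18857 (iv D14732) (iv D11311) (iv F36771)
def n18858 : Q := act 7 n14499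
theorem D18858 : act 7 n14499 = n18858 := rfl
theorem F60994 : act 1 n18858 = n14503 := d12_1 D18858 (iv D14503) (iv F47370)
theorem F60995 : act 5 n18858 = n14526 := d26_1 D18858 (iv D14526) (iv F47371)
theorem F60996 : act 6 n18858 = n14512 := d27_1 D18858 (iv D14512) (iv D11142) (iv F36773) D14499
def n18860 : Q := act 6 n14500
theorem D18860 : act 6 n14500 = n18860 := rfl
def n18868 : Q := act 2 n14508
theorem D18868 : act 2 n14508 = n18868 := rfl
def n18875 : Q := act 7 n14511
theorem D18875 : act 7 n14511 = n18875 := rfl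
theorem F61042 : act 2 n18875 = n14512 := d17_1 D18875 (iv D14512) D14511
def n18886 : Q := act 2 n14522
theorem D18886 : act 2 n14522 = n18886 := rfl
theorem F61071 : act 3 n18886 = n14761 := d13_2 D14522 D18886 (iv D14761) (iv D11334) (iv F36820)
theorem F61072 : act 7 n18886 = n14536 := d17_2 (iv F47430) D18886 (iv D14536)
def n18888 : Q := act 6 n14522
theorem D18888 : act 6 n14522 = n18888 := rfl
theorem F61077 : act 3 n18888 = n14524 := d20_1 D18888 (iv D14524) D14522
def n18889 : Q := act 6 n14523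
theorem D18889 : act 6 n14523 = n18889 := rfl
theorem F61079 : act 5 n18889 = n14524 := d25_1 D18889 (iv D14524) D14523
def n18890 : Q := act 2 n14524
theorem D18890 : act 2 n14524 = n18890 := rfl
theorem F61080 : act 1 n18890 = n16188 := d7_1 D18890 (iv D16188) F40786 (iv F36830) (iv F47434)
theorem F61081 : act 4 n18890 = n14525 := d14_2 (iv F47435) D18890 (iv D14525)
theorem F61082 : act 6 n18890 = n14765 := d16_2 D14524 D18890 (iv D14765) (iv D11336) (iv F36820)
def n18891 : Q := act 7 n14524
theorem D18891 : act 7 n14524 = n18891 := rfl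
theorem F61085 : act 6 n18891 = n14541 := d27_1 D18891 (iv D14541) (iv D11163) (iv F36821) D14524
def n18892 : Q := act 3 n14525
theorem D18892 : act 3 n14525 = n18892 := rfl
theorem F61086 : act 1 n18892 = n16190 := d8_1 D18892 (iv D16190) (iv F47436)
theorem F61087 : act 6 n18892 = n14767 := d20_2 (iv F47437) D18892 (iv D14767)
def n18893 : Q := act 7 n14525
theorem D18893 : act 7 n14525 = n18893 := rfl
theorem F61088 : act 1 n18893 = n16191 := d12_1 D18893 (iv D16191) (iv F47436)
theorem F61089 : act 2 n18893 = n14526 := d17_1 D18893 (iv D14526) D14525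
def n18905 : Q := act 6 n14536
theorem D18905 : act 6 n14536 = n18905 := rfl
theorem F61121 : act 3 n18905 = n14780 := d20_1 D18905 (iv D14780) (iv F47465)
def n18956 : Q := act 7 n14573
theorem D18956 : act 7 n14573 = n18956 := rfl
theorem F61259 : act 3 n18956 = n14811 := d21_1 D18956 (iv D14811) (iv F47568)
def n18979 : Q := act 4 n14592
theorem D18979 : act 4 n14592 = n18979 := rfl
theorem F61322 : act 0 n18979 = n15109 := d3_1 D18979 (iv D15109) (iv F47620)
theorem F61323 : act 1 n18979 = n14599 := d9_1 D18979 (iv D14599) (iv F47621)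
def n19068 : Q := act 3 n14664
theorem D19068 : act 3 n14664 = n19068 := rfl
def n19070 : Q := act 6 n14664
theorem D19070 : act 6 n14664 = n19070 := rfl
theorem F61621 : act 1 n19070 = n14668 := d11_1 D19070 (iv D14668) (iv F47863)
def n19083 : Q := act 5 n14674
theorem D19083 : act 5 n14674 = n19083 := rfl
theorem F61658 : act 0 n19083 = n14730 := d4_1 D19083 (iv D14730) (iv F47890)
theorem F61660 : act 4 n19083 = n14699 := d22_1 D19083 (iv D14699) (iv D11286) (iv F37174) D14674
def n19085 : Q := act 2 n14675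
theorem D19085 : act 2 n14675 = n19085 := rfl
theorem F61665 : act 0 n19085 = n14732 := d1_1 D19085 (iv D14732) (iv F47893)
theorem F61667 : act 5 n19085 = n14701 := d15_2 (iv F47895) D19085 (iv D14701)
def n19086 : Q := act 7 n14675
theorem D19086 : act 7 n14675 = n19086 := rfl
theorem F61670 : act 5 n19086 = n14702 := d26_1 D19086 (iv D14702) (iv F47895)
theorem F61671 : act 6 n19086 = n14688 := d27_1 D19086 (iv D14688) (iv D11277) (iv F37175) D14675
def n19089 : Q := act 6 n14677
theorem D19089 : act 6 n14677 = n19089 := rfl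
theorem F61679 : act 4 n19089 = n14705 := d23_1 D19089 (iv D14705) (iv F47900)
def n19091 : Q := act 4 n14680
theorem D19091 : act 4 n14680 = n19091 := rfl
theorem F61686 : act 3 n19091 = n14707 := d18_1 D19091 (iv D14707) F37244 (iv F37190) (iv F47910)
theorem F61687 : act 7 n19091 = n14693 := d24_2 (iv F47911) D19091 (iv D14693)
def n19097 : Q := act 5 n14684
theorem D19097 : act 5 n14684 = n19097 := rfl
theorem F61701 : act 0 n19097 = n14744 := d4_1 D19097 (iv D14744) (iv F47922)
def n19114 : Q := act 2 n14698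
theorem D19114 : act 2 n14698 = n19114 := rfl
theorem F61749 : act 0 n19114 = n14761 := d1_1 D19114 (iv D14761) (iv F47959)
theorem F61750 : act 1 n19114 = n19114 := d7_1 D19114 (iv D19114) F47960 F37231 (iv F47960)
theorem F61751 : act 7 n19114 = n14712 := d17_2 (iv F47961) D19114 (iv D14712)
def n19115 : Q := act 5 n14698
theorem D19115 : act 5 n14698 = n19115 := rfl
theorem F61752 : act 0 n19115 = n14762 := d4_1 D19115 (iv D14762) (iv F47959)
theorem F61754 : act 3 n19115 = n14699 := d19_1 D19115 (iv D14699) D14698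
theorem F61755 : act 7 n19115 = n14713 := d26_2 (iv F47961) D19115 (iv D14713)
def n19116 : Q := act 6 n14698
theorem D19116 : act 6 n14698 = n19116 := rfl
theorem F61756 : act 0 n19116 = n14763 := d5_1 D19116 (iv D14763) (iv F47959)
theorem F61758 : act 3 n19116 = n14700 := d20_1 D19116 (iv D14700) D14698
def n19117 : Q := act 6 n14699
theorem D19117 : act 6 n14699 = n19117 := rfl
theorem F61759 : act 0 n19117 = n14764 := d5_1 D19117 (iv D14764) (iv F47962)
theorem F61761 : act 5 n19117 = n14700 := d25_1 D19117 (iv D14700) D14699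
def n19118 : Q := act 2 n14700
theorem D19118 : act 2 n14700 = n19118 := rfl
theorem F61762 : act 0 n19118 = n14765 := d1_1 D19118 (iv D14765) (iv F47965)
theorem F61763 : act 1 n19118 = n19118 := d7_1 D19118 (iv D19118) F47966 F37237 (iv F47966)
theorem F61764 : act 4 n19118 = n14701 := d14_2 (iv F47967) D19118 (iv D14701)
def n19119 : Q := act 7 n14700
theorem D19119 : act 7 n14700 = n19119 := rfl
theorem F61765 : act 0 n19119 = n14766 := d6_1 D19119 (iv D14766) (iv F47965)
theorem F61767 : act 4 n19119 = n14702 := d24_1 D19119 (iv D14702) (iv F47967)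
theorem F61768 : act 6 n19119 = n14717 := d27_1 D19119 (iv D14717) (iv D11298) (iv F37227) D14700
def n19120 : Q := act 3 n14701
theorem D19120 : act 3 n14701 = n19120 := rfl
theorem F61769 : act 0 n19120 = n14767 := d2_1 D19120 (iv D14767) (iv F47968)
theorem F61770 : act 1 n19120 = n19120 := d8_1 D19120 (iv D19120) F47969
def n19121 : Q := act 7 n14701
theorem D19121 : act 7 n14701 = n19121 := rfl
theorem F61771 : act 0 n19121 = n14768 := d6_1 D19121 (iv D14768) (iv F47968)
theorem F61772 : act 1 n19121 = n19121 := d12_1 D19121 (iv D19121) F47969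
theorem F61773 : act 2 n19121 = n14702 := d17_1 D19121 (iv D14702) D14701
def n19122 : Q := act 4 n14703
theorem D19122 : act 4 n14703 = n19122 := rfl
theorem F61774 : act 0 n19122 = n14707 := d3_1 D19122 (iv D14707) (iv F47973)
theorem F61776 : act 7 n19122 = n14720 := d24_2 (iv F47976) D19122 (iv D14720)
def n19123 : Q := act 6 n14703
theorem D19123 : act 6 n14703 = n19123 := rfl
theorem F61778 : act 3 n19123 = n14705 := d20_1 D19123 (iv D14705) (iv F47975)
theorem F61779 : act 5 n19123 = n14704 := d25_1 D19123 (iv D14704) D14703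
def n19125 : Q := act 7 n14704
theorem D19125 : act 7 n14704 = n19125 := rfl
theorem F61785 : act 6 n19125 = n14723 := d27_1 D19125 (iv D14723) (iv D11302) (iv F37232) D14704
def n19126 : Q := act 7 n14705
theorem D19126 : act 7 n14705 = n19126 := rfl
theorem F61789 : act 6 n19126 = n14724 := d27_1 D19126 (iv D14724) (iv D11303) (iv F37235) D14705
def n19132 : Q := act 5 n14712
theorem D19132 : act 5 n14712 = n19132 := rfl
theorem F61806 : act 2 n19132 = n14713 := d15_1 D19132 (iv D14713) D14712
def n19133 : Q := act 6 n14712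
theorem D19133 : act 6 n14712 = n19133 := rfl
theorem F61807 : act 0 n19133 = n14780 := d5_1 D19133 (iv D14780) (iv F48001)
def n19134 : Q := act 4 n14713
theorem D19134 : act 4 n14713 = n19134 := rfl
theorem F61809 : act 0 n19134 = n14781 := d3_1 D19134 (iv D14781) (iv F48003)
def n19135 : Q := act 6 n14713
theorem D19135 : act 6 n14713 = n19135 := rfl
theorem F61813 : act 3 n19135 = n14715 := d20_1 D19135 (iv D14715) (iv F48005)
theorem F61814 : act 5 n19135 = n14714 := d25_1 D19135 (iv D14714) D14713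
def n19136 : Q := act 2 n14714
theorem D19136 : act 2 n14714 = n19136 := rfl
theorem F61815 : act 0 n19136 = n14783 := d1_1 D19136 (iv D14783) (iv F48006)
def n19137 : Q := act 7 n14714
theorem D19137 : act 7 n14714 = n19137 := rfl
theorem F61816 : act 0 n19137 = n14784 := d6_1 D19137 (iv D14784) (iv F48006)
theorem F61818 : act 3 n19137 = n14717 := d21_1 D19137 (iv D14717) (iv F48008)
def n19140 : Q := act 3 n14716
theorem D19140 : act 3 n14716 = n19140 := rfl
theorem F61825 : act 0 n19140 = n14787 := d2_1 D19140 (iv D14787) (iv F48012)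
def n19141 : Q := act 7 n14716
theorem D19141 : act 7 n14716 = n19141 := rfl
theorem F61827 : act 0 n19141 = n14788 := d6_1 D19141 (iv D14788) (iv F48012)
def n19145 : Q := act 6 n14720
theorem D19145 : act 6 n14720 = n19145 := rfl
theorem F61839 : act 4 n19145 = n14721 := d23_1 D19145 (iv D14721) D14720
def n19157 : Q := act 6 n14730
theorem D19157 : act 6 n14730 = n19157 := rfl
theorem F61873 : act 4 n19157 = n14764 := d23_1 D19157 (iv D14764) (iv F48051)
def n19158 : Q := act 2 n14731
theorem D19158 : act 2 n14731 = n19158 := rfl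
theorem F61875 : act 1 n19158 = n16360 := d7_1 D19158 (iv D16360) F41180 (iv F37302) (iv F48053)
theorem F61876 : act 4 n19158 = n14732 := d14_2 (iv F48054) D19158 (iv D14732)
def n19160 : Q := act 3 n14732
theorem D19160 : act 3 n14732 = n19160 := rfl
theorem F61880 : act 1 n19160 = n16362 := d8_1 D19160 (iv D16362) (iv F48055)
theorem F61881 : act 5 n19160 = n14767 := d19_2 (iv F48056) D19160 (iv D14767)
def n19161 : Q := act 7 n14732
theorem D19161 : act 7 n14732 = n19161 := rfl
theorem F61882 : act 1 n19161 = n16363 := d12_1 D19161 (iv D16363) (iv F48055)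
theorem F61883 : act 2 n19161 = n14733 := d17_1 D19161 (iv D14733) D14732
theorem F61884 : act 5 n19161 = n14768 := d26_1 D19161 (iv D14768) (iv F48056)
def n19162 : Q := act 4 n14734
theorem D19162 : act 4 n14734 = n19162 := rfl
theorem F61887 : act 3 n19162 = n14769 := d18_1 D19162 (iv D14769) F37360 (iv F37299) (iv F48062)
theorem F61888 : act 7 n19162 = n14751 := d24_2 (iv F48063) D19162 (iv D14751)
def n19167 : Q := act 6 n14738
theorem D19167 : act 6 n14738 = n19167 := rfl
theorem F61903 : act 3 n19167 = n14774 := d20_1 D19167 (iv D14774) (iv F48075)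
def n19172 : Q := act 5 n14743
theorem D19172 : act 5 n14743 = n19172 := rfl
theorem F61916 : act 2 n19172 = n14744 := d15_1 D19172 (iv D14744) D14743
def n19178 : Q := act 2 n14746
theorem D19178 : act 2 n14746 = n19178 := rfl
theorem F61925 : act 1 n19178 = n14817 := d7_1 D19178 (iv D14817) F37478 (iv F37333) (iv F48092)
theorem F61927 : act 5 n19178 = n14747 := d15_2 (iv F48094) D19178 (iv D14747)
def n19197 : Q := act 5 n14761
theorem D19197 : act 5 n14761 = n19197 := rfl
theorem F61974 : act 2 n19197 = n14762 := d15_1 D19197 (iv D14762) D14761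
theorem F61975 : act 7 n19197 = n14779 := d26_2 (iv F48131) D19197 (iv D14779)
def n19198 : Q := act 6 n14761
theorem D19198 : act 6 n14761 = n19198 := rfl
theorem F61976 : act 1 n19198 = n14796 := d11_1 D19198 (iv D14796) (iv F48130)
def n19199 : Q := act 4 n14762
theorem D19199 : act 4 n14762 = n19199 := rfl
theorem F61977 : act 1 n19199 = n14769 := d9_1 D19199 (iv D14769) (iv F48132)
theorem F61978 : act 7 n19199 = n14781 := d24_2 (iv F48134) D19199 (iv D14781)
def n19200 : Q := act 6 n14762
theorem D19200 : act 6 n14762 = n19200 := rfl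
theorem F61980 : act 3 n19200 = n14764 := d20_1 D19200 (iv D14764) (iv F48133)
theorem F61981 : act 5 n19200 = n14763 := d25_1 D19200 (iv D14763) D14762
def n19202 : Q := act 7 n14763
theorem D19202 : act 7 n14763 = n19202 := rfl
theorem F61983 : act 3 n19202 = n14766 := d21_1 D19202 (iv D14766) (iv F48136)
theorem F61984 : act 6 n19202 = n14784 := d27_1 D19202 (iv D14784) (iv D11350) (iv F37350) D14763
def n19203 : Q := act 2 n14764
theorem D19203 : act 2 n14764 = n19203 := rfl
theorem F61985 : act 1 n19203 = n16405 := d7_1 D19203 (iv D16405) F41296 (iv F37365) (iv F48137)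
theorem F61986 : act 5 n19203 = n14765 := d15_2 (iv F48138) D19203 (iv D14765)
def n19204 : Q := act 7 n14764
theorem D19204 : act 7 n14764 = n19204 := rfl
theorem F61988 : act 5 n19204 = n14766 := d26_1 D19204 (iv D14766) (iv F48138)
theorem F61989 : act 6 n19204 = n14786 := d27_1 D19204 (iv D14786) (iv D11351) (iv F37352) D14764
def n19205 : Q := act 3 n14765
theorem D19205 : act 3 n14765 = n19205 := rfl
theorem F61990 : act 1 n19205 = n16407 := d8_1 D19205 (iv D16407) (iv F48139)
def n19206 : Q := act 7 n14765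
theorem D19206 : act 7 n14765 = n19206 := rfl
theorem F61991 : act 1 n19206 = n16408 := d12_1 D19206 (iv D16408) (iv F48139)
theorem F61992 : act 2 n19206 = n14766 := d17_1 D19206 (iv D14766) D14765
theorem F61993 : act 4 n19206 = n14768 := d24_1 D19206 (iv D14768) (iv F48140)
def n19207 : Q := act 4 n14767
theorem D19207 : act 4 n14767 = n19207 := rfl
theorem F61994 : act 1 n19207 = n16409 := d9_1 D19207 (iv D16409) (iv F48144)
def n19208 : Q := act 7 n14767
theorem D19208 : act 7 n14767 = n19208 := rfl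
theorem F61995 : act 1 n19208 = n16410 := d12_1 D19208 (iv D16410) (iv F48144)
theorem F61996 : act 3 n19208 = n14768 := d21_1 D19208 (iv D14768) D14767
def n19209 : Q := act 6 n14768
theorem D19209 : act 6 n14768 = n19209 := rfl
theorem F61998 : act 2 n19209 = n14791 := d16_1 D19209 (iv D14791) F37395 (iv F37357) (iv F48146)
def n19211 : Q := act 2 n14770
theorem D19211 : act 2 n14770 = n19211 := rfl
theorem F62003 : act 5 n19211 = n14771 := d15_2 (iv F48152) D19211 (iv D14771)
theorem F62004 : act 6 n19211 = n14804 := d16_2 D14770 D19211 (iv D14804) (iv D11369) (iv F37359)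
def n19212 : Q := act 7 n14770
theorem D19212 : act 7 n14770 = n19212 := rfl
theorem F62008 : act 6 n19212 = n14793 := d27_1 D19212 (iv D14793) (iv D11357) (iv F37361) D14770
def n19215 : Q := act 2 n14774
theorem D19215 : act 2 n14774 = n19215 := rfl
theorem F62016 : act 6 n19215 = n14806 := d16_2 D14774 D19215 (iv D14806) (iv D11371) (iv F37371)
def n19221 : Q := act 4 n14779
theorem D19221 : act 4 n14779 = n19221 := rfl
theorem F62032 : act 2 n19221 = n14781 := d14_1 D19221 (iv D14781) (iv F48176)
def n19222 : Q := act 6 n14779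
theorem D19222 : act 6 n14779 = n19222 := rfl
theorem F62034 : act 5 n19222 = n14780 := d25_1 D19222 (iv D14780) D14779
def n19223 : Q := act 2 n14780
theorem D19223 : act 2 n14780 = n19223 := rfl
theorem F62036 : act 6 n19223 = n14783 := d16_2 D14780 D19223 (iv D14783) (iv D11350) D11348
def n19224 : Q := act 7 n14780
theorem D19224 : act 7 n14780 = n19224 := rfl
theorem F62037 : act 1 n19224 = n14811 := d12_1 D19224 (iv D14811) (iv F48177)
def n19225 : Q := act 6 n14781
theorem D19225 : act 6 n14781 = n19225 := rfl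
theorem F62039 : act 4 n19225 = n14782 := d23_1 D19225 (iv D14782) D14781
def n19226 : Q := act 2 n14782
theorem D19226 : act 2 n14782 = n19226 := rfl
theorem F62041 : act 5 n19226 = n14783 := d15_2 (iv F48181) D19226 (iv D14783)
def n19227 : Q := act 7 n14782
theorem D19227 : act 7 n14782 = n19227 := rfl
theorem F62044 : act 5 n19227 = n14784 := d26_1 D19227 (iv D14784) (iv F48181)
def n19228 : Q := act 3 n14783
theorem D19228 : act 3 n14783 = n19228 := rfl
theorem F62046 : act 2 n19228 = n14787 := d13_1 D19228 (iv D14787) (iv D11352) (iv F37386) D14783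
def n19229 : Q := act 7 n14783
theorem D19229 : act 7 n14783 = n19229 := rfl
theorem F62047 : act 1 n19229 = n19229 := d12_1 D19229 (iv D19229) F48182
theorem F62048 : act 2 n19229 = n14784 := d17_1 D19229 (iv D14784) D14783
def n19242 : Q := act 7 n14796
theorem D19242 : act 7 n14796 = n19242 := rfl
theorem F62076 : act 6 n19242 = n14811 := d27_1 D19242 (iv D14811) (iv D11375) (iv F37414) D14796
def n19258 : Q := act 7 n14810
theorem D19258 : act 7 n14810 = n19258 := rfl
theorem F62128 : act 5 n19258 = n14811 := d26_1 D19258 (iv D14811) (iv F48255)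
def n19267 : Q := act 3 n14817
theorem D19267 : act 3 n14817 = n19267 := rfl
theorem F62157 : act 5 n19267 = n14819 := d19_2 (iv F48280) D19267 (iv D14819)
def n19374 : Q := act 6 n14901
theorem D19374 : act 6 n14901 = n19374 := rfl
theorem F62491 : act 1 n19374 = n14905 := d11_1 D19374 (iv D14905) (iv F48549)
def n19444 : Q := act 1 n14954
theorem D19444 : act 1 n14954 = n19444 := rfl
theorem F62721 : act 6 n19444 = n15473 := d11_2 (iv F48720) D19444 (iv D15473)
def n19514 : Q := act 2 n15008
theorem D19514 : act 2 n15008 = n19514 := rfl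
theorem F62951 : act 3 n19514 = n15202 := d13_2 D15008 D19514 (iv D15202) (iv D11675) (iv F37955)
def n19700 : Q := act 7 n15146
theorem D19700 : act 7 n15146 = n19700 := rfl
theorem F63459 : act 2 n19700 = n15147 := d17_1 D19700 (iv D15147) D15146
def n19835 : Q := act 2 n15255
theorem D19835 : act 2 n15255 = n19835 := rfl
theorem F63876 : act 6 n19835 = n15864 := d16_2 D15255 D19835 (iv D15864) (iv D12186) (iv F38513)
def n20078 : Q := act 3 n15443
theorem D20078 : act 3 n15443 = n20078 := rfl
theorem F64632 : act 0 n20078 = n15483 := d2_1 D20078 (iv D15483) (iv F50200)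
def n20108 : Q := act 6 n15465
theorem D20108 : act 6 n15465 = n20108 := rfl
theorem F64724 : act 3 n20108 = n15488 := d20_1 D20108 (iv D15488) (iv F50269)
theorem F64725 : act 4 n20108 = n15466 := d23_1 D20108 (iv D15466) D15465
def n20109 : Q := act 2 n15466
theorem D20109 : act 2 n15466 = n20109 := rfl
theorem F64729 : act 5 n20109 = n15467 := d15_2 (iv F50274) D20109 (iv D15467)
def n20111 : Q := act 1 n15467
theorem D20111 : act 1 n15467 = n20111 := rfl
theorem F64735 : act 4 n20111 = n15602 := d9_2 (iv F50277) D20111 (iv D15602)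
def n20113 : Q := act 2 n15470
theorem D20113 : act 2 n15470 = n20113 := rfl
theorem F64740 : act 4 n20113 = n15471 := d14_2 (iv F50288) D20113 (iv D15471)
def n20115 : Q := act 1 n15471
theorem D20115 : act 1 n15471 = n20115 := rfl
theorem F64747 : act 5 n20115 = n15473 := d10_2 (iv F50291) D20115 (iv D15473)
def n20127 : Q := act 1 n15479
theorem D20127 : act 1 n15479 = n20127 := rfl
theorem F64780 : act 2 n20127 = n15491 := d7_2 D15479 D20127 (iv D15491) (iv D11898) (iv F39063)
def n20128 : Q := act 3 n15479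
theorem D20128 : act 3 n15479 = n20128 := rfl
theorem F64782 : act 2 n20128 = n15483 := d13_1 D20128 (iv D15483) (iv D11892) (iv F39064) D15479
def n20129 : Q := act 7 n15479
theorem D20129 : act 7 n15479 = n20129 := rfl
theorem F64784 : act 4 n20129 = n15620 := d24_1 D20129 (iv D15620) (iv F50313)
def n20138 : Q := act 2 n15488
theorem D20138 : act 2 n15488 = n20138 := rfl
theorem F64812 : act 6 n20138 = n15514 := d16_2 D15488 D20138 (iv D15514) (iv D11917) (iv F39080)
def n20150 : Q := act 6 n15496
theorem D20150 : act 6 n15496 = n20150 := rfl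
theorem F64854 : act 7 n20150 = n15526 := d27_2 D15496 D20150 (iv D15526) (iv D11925) (iv F39102)
def n20154 : Q := act 6 n15500
theorem D20154 : act 6 n15500 = n20154 := rfl
theorem F64867 : act 4 n20154 = n15501 := d23_1 D20154 (iv D15501) D15500
theorem F64868 : act 5 n20154 = n15645 := d25_1 D20154 (iv D15645) (iv F50380)
def n20155 : Q := act 2 n15501
theorem D20155 : act 2 n15501 = n20155 := rfl
theorem F64871 : act 6 n20155 = n15505 := d16_2 D15501 D20155 (iv D15505) (iv D11909) (iv F39113)
def n20158 : Q := act 3 n15502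
theorem D20158 : act 3 n15502 = n20158 := rfl
theorem F64881 : act 6 n20158 = n15508 := d20_2 (iv F50387) D20158 (iv D15508)
def n20163 : Q := act 3 n15505
theorem D20163 : act 3 n15505 = n20163 := rfl
theorem F64897 : act 5 n20163 = n15508 := d19_2 (iv F50397) D20163 (iv D15508)
def n20164 : Q := act 7 n15505
theorem D20164 : act 7 n15505 = n20164 := rfl
theorem F64900 : act 5 n20164 = n15509 := d26_1 D20164 (iv D15509) (iv F50397)
def n20167 : Q := act 7 n15507
theorem D20167 : act 7 n15507 = n20167 := rfl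
theorem F64908 : act 2 n20167 = n15519 := d17_1 D20167 (iv D15519) (iv F50403)
theorem F64909 : act 4 n20167 = n15655 := d24_1 D20167 (iv D15655) (iv F50404)
def n20168 : Q := act 7 n15508
theorem D20168 : act 7 n15508 = n20168 := rfl
theorem F64912 : act 3 n20168 = n15509 := d21_1 D20168 (iv D15509) D15508
def n20169 : Q := act 6 n15509
theorem D20169 : act 6 n15509 = n20169 := rfl
theorem F64916 : act 4 n20169 = n15656 := d23_1 D20169 (iv D15656) (iv F50410)
def n20176 : Q := act 7 n15514
theorem D20176 : act 7 n15514 = n20176 := rfl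
theorem F64942 : act 4 n20176 = n15517 := d24_1 D20176 (iv D15517) (iv F50429)
def n20236 : Q := act 2 n15562
theorem D20236 : act 2 n15562 = n20236 := rfl
theorem F65131 : act 0 n20236 = n15613 := d1_1 D20236 (iv D15613) (iv F50581)
def n20241 : Q := act 1 n15565
theorem D20241 : act 1 n15565 = n20241 := rfl
theorem F65147 : act 2 n20241 = n15577 := d7_2 D15565 D20241 (iv D15577) (iv D11963) (iv F39278)
def n20242 : Q := act 3 n15565
theorem D20242 : act 3 n15565 = n20242 := rfl
theorem F65149 : act 2 n20242 = n15569 := d13_1 D20242 (iv D15569) (iv D11957) (iv F39279) D15565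
def n20256 : Q := act 0 n15577
theorem D20256 : act 0 n15577 = n20256 := rfl
theorem F65195 : act 1 n20256 = n15583 := d0_2 D15577 D20256 (iv D15583) (iv D11969) (iv F39303)
def n20262 : Q := act 0 n15581
theorem D20262 : act 0 n15581 = n20262 := rfl
theorem F65211 : act 2 n20262 = n15639 := d1_2 (iv F50641) D20262 (iv D15639)
theorem F65213 : act 5 n20262 = n15583 := d4_2 (iv F50643) D20262 (iv D15583)
def n20265 : Q := act 7 n15583
theorem D20265 : act 7 n15583 = n20265 := rfl
theorem F65224 : act 2 n20265 = n15642 := d17_1 D20265 (iv D15642) (iv F50648)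
def n20274 : Q := act 1 n15590
theorem D20274 : act 1 n15590 = n20274 := rfl
theorem F65244 : act 2 n20274 = n15602 := d7_2 D15590 D20274 (iv D15602) (iv D11981) (iv F39332)
def n20275 : Q := act 3 n15590
theorem D20275 : act 3 n15590 = n20275 := rfl
theorem F65245 : act 2 n20275 = n15594 := d13_1 D20275 (iv D15594) (iv D11975) (iv F39333) D15590
def n20281 : Q := act 6 n15595
theorem D20281 : act 6 n15595 = n20281 := rfl
theorem F65262 : act 7 n20281 = n15860 := d27_2 D15595 D20281 (iv D15860) (iv D12182) (iv F39339)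
def n20293 : Q := act 3 n15604
theorem D20293 : act 3 n15604 = n20293 := rfl
theorem F65292 : act 2 n20293 = n15637 := d13_1 D20293 (iv D15637) (iv D12007) (iv F39365) D15604
theorem F65293 : act 4 n20293 = n15700 := d18_2 (iv F50706) D20293 (iv D15700) F39567 (iv F39367)
def n20301 : Q := act 6 n15611
theorem D20301 : act 6 n15611 = n20301 := rfl
theorem F65311 : act 1 n20301 = n15645 := d11_1 D20301 (iv D15645) (iv F50720)
theorem F65312 : act 4 n20301 = n15612 := d23_1 D20301 (iv D15612) D15611
def n20304 : Q := act 1 n15613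
theorem D20304 : act 1 n15613 = n20304 := rfl
theorem F65319 : act 2 n20304 = n15648 := d7_2 D15613 D20304 (iv D15648) (iv D12016) (iv F39379)
def n20305 : Q := act 3 n15613
theorem D20305 : act 3 n15613 = n20305 := rfl
theorem F65321 : act 2 n20305 = n15882 := d13_1 D20305 (iv D15882) (iv D12200) (iv F39380) D15613
def n20309 : Q := act 1 n15616
theorem D20309 : act 1 n15616 = n20309 := rfl
theorem F65328 : act 2 n20309 = n15631 := d7_2 D15616 D20309 (iv D15631) (iv D12003) (iv F39383)
def n20310 : Q := act 3 n15616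
theorem D20310 : act 3 n15616 = n20310 := rfl
theorem F65330 : act 2 n20310 = n15621 := d13_1 D20310 (iv D15621) (iv D11995) (iv F39384) D15616
def n20313 : Q := act 3 n15618
theorem D20313 : act 3 n15618 = n20313 := rfl
theorem F65335 : act 1 n20313 = n15619 := d8_1 D20313 (iv D15619) D15618
def n20314 : Q := act 7 n15618
theorem D20314 : act 7 n15618 = n20314 := rfl
theorem F65337 : act 1 n20314 = n15620 := d12_1 D20314 (iv D15620) D15618
theorem F65338 : act 2 n20314 = n15634 := d17_1 D20314 (iv D15634) (iv F50737)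
def n20316 : Q := act 7 n15619
theorem D20316 : act 7 n15619 = n20316 := rfl
theorem F65340 : act 2 n20316 = n15624 := d17_1 D20316 (iv D15624) (iv F50738)
theorem F65341 : act 3 n20316 = n15620 := d21_1 D20316 (iv D15620) D15619
def n20323 : Q := act 6 n15624
theorem D20323 : act 6 n15624 = n20323 := rfl
theorem F65360 : act 7 n20323 = n15896 := d27_2 D15624 D20323 (iv D15896) (iv D12210) (iv F39396)
def n20334 : Q := act 6 n15634
theorem D20334 : act 6 n15634 = n20334 := rfl
theorem F65393 : act 7 n20334 = n15664 := d27_2 D15634 D20334 (iv D15664) (iv D12028) (iv F39418)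
def n20341 : Q := act 6 n15640
theorem D20341 : act 6 n15640 = n20341 := rfl
theorem F65412 : act 7 n20341 = n15671 := d27_2 D15640 D20341 (iv D15671) (iv D12034) (iv F39428)
def n20342 : Q := act 6 n15642
theorem D20342 : act 6 n15642 = n20342 := rfl
theorem F65415 : act 7 n20342 = n15672 := d27_2 D15642 D20342 (iv D15672) (iv D12036) (iv F39433)
def n20344 : Q := act 6 n15644
theorem D20344 : act 6 n15644 = n20344 := rfl
theorem F65419 : act 3 n20344 = n15645 := d20_1 D20344 (iv D15645) D15644
theorem F65420 : act 4 n20344 = n15900 := d23_1 D20344 (iv D15900) (iv F50806)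
def n20350 : Q := act 7 n15648
theorem D20350 : act 7 n15648 = n20350 := rfl
def n20351 : Q := act 6 n15649
theorem D20351 : act 6 n15649 = n20351 := rfl
theorem F65442 : act 7 n20351 = n15656 := d27_2 D15649 D20351 (iv D15656) (iv D12022) (iv F39447)
def n20357 : Q := act 6 n15653
theorem D20357 : act 6 n15653 = n20357 := rfl
theorem F65461 : act 5 n20357 = n15656 := d25_1 D20357 (iv D15656) (iv F50835)
def n20358 : Q := act 7 n15654
theorem D20358 : act 7 n15654 = n20358 := rfl
theorem F65462 : act 0 n20358 = n15655 := d6_1 D20358 (iv D15655) D15654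
theorem F65464 : act 2 n20358 = n15663 := d17_1 D20358 (iv D15663) (iv F50837)
def n20359 : Q := act 6 n15655
theorem D20359 : act 6 n15655 = n20359 := rfl
theorem F65466 : act 1 n20359 = n15656 := d11_1 D20359 (iv D15656) (iv F50839)
def n20426 : Q := act 3 n15709
theorem D20426 : act 3 n15709 = n20426 := rfl
theorem F65661 : act 1 n20426 = n15710 := d8_1 D20426 (iv D15710) D15709
def n20427 : Q := act 7 n15709
theorem D20427 : act 7 n15709 = n20427 := rfl
theorem F65664 : act 1 n20427 = n15711 := d12_1 D20427 (iv D15711) D15709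
theorem F65665 : act 2 n20427 = n15731 := d17_1 D20427 (iv D15731) (iv F50997)
def n20429 : Q := act 7 n15710
theorem D20429 : act 7 n15710 = n20429 := rfl
theorem F65671 : act 2 n20429 = n15719 := d17_1 D20429 (iv D15719) (iv F51001)
theorem F65672 : act 3 n20429 = n15711 := d21_1 D20429 (iv D15711) D15710
def n20434 : Q := act 7 n15713
theorem D20434 : act 7 n15713 = n20434 := rfl
theorem F65688 : act 1 n20434 = n15716 := d12_1 D20434 (iv D15716) (iv F51011)
theorem F65689 : act 3 n20434 = n15714 := d21_1 D20434 (iv D15714) D15713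
def n20441 : Q := act 6 n15719
theorem D20441 : act 6 n15719 = n20441 := rfl
theorem F65712 : act 7 n20441 = n15936 := d27_2 D15719 D20441 (iv D15936) (iv D12246) (iv F39608)
def n20454 : Q := act 6 n15731
theorem D20454 : act 6 n15731 = n20454 := rfl
theorem F65756 : act 7 n20454 = n15750 := d27_2 D15731 D20454 (iv D15750) (iv D12096) (iv F39639)
def n20458 : Q := act 7 n15735
theorem D20458 : act 7 n15735 = n20458 := rfl
theorem F65769 : act 4 n20458 = n15740 := d24_1 D20458 (iv D15740) (iv F51081)
def n20462 : Q := act 6 n15738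
theorem D20462 : act 6 n15738 = n20462 := rfl
theorem F65782 : act 7 n20462 = n15758 := d27_2 D15738 D20462 (iv D15758) (iv D12103) (iv F39657)
def n20463 : Q := act 6 n15740
theorem D20463 : act 6 n15740 = n20463 := rfl
theorem F65785 : act 7 n20463 = n15759 := d27_2 D15740 D20463 (iv D15759) (iv D12105) (iv F39663)
def n20464 : Q := act 2 n15741
theorem D20464 : act 2 n15741 = n20464 := rfl
theorem F65786 : act 1 n20464 = n16774 := d7_1 D20464 (iv D16774) F42256 (iv F39667) (iv F51100)
theorem F65789 : act 7 n20464 = n15760 := d17_2 (iv F51102) D20464 (iv D15760)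
def n20577 : Q := act 7 n15826
theorem D20577 : act 7 n15826 = n20577 := rfl
theorem F66156 : act 0 n20577 = n20577 := d6_1 D20577 (iv D20577) F51389
theorem F66157 : act 1 n20577 = n15828 := d12_1 D20577 (iv D15828) D15826
def n20578 : Q := act 4 n15827
theorem D20578 : act 4 n15827 = n20578 := rfl
theorem F66161 : act 2 n20578 = n15831 := d14_1 D20578 (iv D15831) (iv F51393)
def n20579 : Q := act 7 n15827
theorem D20579 : act 7 n15827 = n20579 := rfl
theorem F66164 : act 2 n20579 = n15832 := d17_1 D20579 (iv D15832) (iv F51393)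
theorem F66165 : act 3 n20579 = n15828 := d21_1 D20579 (iv D15828) D15827
def n20585 : Q := act 7 n15831
theorem D20585 : act 7 n15831 = n20585 := rfl
theorem F66185 : act 4 n20585 = n15832 := d24_1 D20585 (iv D15832) D15831
theorem F66186 : act 2 n20359 = n20585 := d28_2 D15655 D20359 F66185 F51409 F39905 F30957 F24101 F18687 (iv D4217) (iv D3212) F8639 (iv D1854) (iv D1402) F3900 (iv D801) (iv D601) (iv D449) F1304 (iv D269) F784 F606 F445 F332 F240 F241 F196 (iv D44) (iv D30) F96 (iv D14) (iv D9) F36 (iv D6) (iv D4) (iv D3) F19 (iv D2) F10 F12 F11 F10 F8 F9 F10 (iv D1) F7 F3 F5 F4 F3 F1 F2 F3 D1 D2 D3 F21 D5 F31 F30 (iv F41) D10 F58 D16 F82 (iv F118) (iv F153) D47 (iv F261) D84 (iv F423) D140 D195 D267 F1044 D361 (iv F1849) (iv F2423) (iv F3168) D1131 (iv F5033) D1826 (iv F8472) (iv F10989) (iv F14232) D5410 (iv F23746) D9225 (iv F39462)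
theorem F66187 : act 4 n20359 = n20579 := d14_2 (iv F66185) (iv F66186) F66164
theorem F66188 : act 1 n20579 = n20169 := d9_1 F66187 F64916 (iv F65466)
theorem F66189 : act 6 n20579 = n20167 := d23_2 D20359 F66187 F64909
theorem F66190 : act 7 n20578 = n20359 := d24_0 F66187 (iv D20579) D20578
theorem F66192 : act 6 n20350 = n20578 := d27_5 F66190 (iv D20359) (iv D15655) (iv F50819) D20350
theorem E1 : n20577 = n7156 := (c28_73 D20350 F66192 F66161 (iv D15831) (iv D12159) (iv D9327) F24004 F18669 F14443 D4217 F14529 F11904 F11906 F9180 F7095 F5513 F4236 F3283 (iv D886) (iv D668) (iv D502) F1447 (iv D375) F1086 D374 F1441 F1442 F1445 F1444 F1442 F1443 F1096 F1095 (iv D280) (iv D207) (iv D152) F464 (iv D110) F340 (iv F459) (iv F605) (iv F784) F783 (iv F1037) F1038 (iv D265) (iv F960) (iv F1279) (iv D326) F956 (iv D240) (iv F948) F949 D322 D435 D584 D778 (iv F3827) D1370 (iv F6494) F6493 (iv F6595) D2418 F8564 D3182 F11117 (iv F14401) (iv F18625) D7155 (iv F30974) D12167 (iv F51390) D20577 F24041 (iv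 F30998) F31000 F30999 F30998 (iv F30978) (iv F39890) (iv F51395) (iv D15828) (iv F51373) (iv D15821) F39878 (iv F50583) D20236 F65131 D20304 F65319)
theorem E2 : n9334 = n7156 := (((iv F30978)).symm.trans (sb E1 (tr F66156 E1)))
theorem E3 : n15828 = n5498 := (((F24038).symm.trans (sb E1 F66157))).symm
theorem E6 : n12156 = n5498 := (((F24038).symm.trans (sb E2 (iv F39890)))).symm
theorem E8 : n7152 = n5476 := (((F24039).symm.trans (sb E2 F30979))).symm
theorem E11 : n12206 = n7182 := ((((iv F24116)).symm.trans (sb E3 F51394))).symm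
theorem E12 : n20579 = n4197 := (((F18697).symm.trans (sb E3 (iv F66165)))).symm
theorem E20 : n9363 = n7182 := ((((iv F24116)).symm.trans (sb E6 F39889))).symm
theorem E21 : n9328 = n4197 := (((F18697).symm.trans (sb E6 F39891))).symm
theorem E27 : n5472 = n4179 := (((F18632).symm.trans (sb E8 F24025))).symm
theorem E33 : n15889 = n5495 := (((F24118).symm.trans (sb E11 (iv F51587)))).symm
theorem E34 : n15887 = n9372 := ((((iv F31095)).symm.trans (sb E11 (iv F51581)))).symm
theorem E36 : n9362 = n5493 := ((((iv D7182)).symm.trans (sb E11 (iv D12206)))).symm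
theorem E37 : n20169 = n5476 := ((((iv F18630)).symm.trans (sb E12 F66188))).symm
theorem E38 : n15832 = n3215 := (((F14457).symm.trans (sb E12 F66164))).symm
theorem E39 : n20359 = n3196 := (((F14458).symm.trans (sb E12 (iv F66187)))).symm
theorem E40 : n20167 = n4197 := (((F14459).symm.trans (sb E12 F66189))).symm
theorem E45 : n7177 = n5495 := (((F24118).symm.trans (sb E20 F31069))).symm
theorem E46 : n12204 = n9372 := ((((iv F31095)).symm.trans (sb E20 (iv F40044)))).symm
theorem E47 : n7174 = n5493 := ((((iv D7182)).symm.trans (sb E20 (iv D9363)))).symm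
theorem E48 : n12160 = n3215 := (((F14457).symm.trans (sb E21 (iv F39905)))).symm
theorem E56 : n7139 = n5466 := ((((iv F18598)).symm.trans (sb E27 (iv F23981)))).symm
theorem E57 : n4174 = n3182 := ((((iv D4179)).symm.trans (sb E27 (iv D5472)))).symm
theorem E64 : n12210 = n4217 := (((F18687).symm.trans (sb E33 F51586))).symm
theorem E65 : n12205 = n4192 := ((((iv D5495)).symm.trans (sb E33 (iv D15889)))).symm
theorem E66 : n12203 = n7181 := ((((iv D9372)).symm.trans (sb E34 (iv D15887)))).symm
theorem E67 : n12200 = n4190 := ((((iv D5493)).symm.trans (sb E36 (iv F40033)))).symm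
theorem E68 : n15656 = n4179 := (((F18632).symm.trans (sb E37 F64916))).symm
theorem E69 : n15509 = n5476 := (((F18633).symm.trans (sb E37 (iv D20169)))).symm
theorem E72 : n12159 = n2445 := ((((iv D3215)).symm.trans (sb E38 (iv D15832)))).symm
theorem E73 : n15655 = n3196 := (((F11160).symm.trans (sb E39 (iv D20359)))).symm
theorem E75 : n15519 = n3215 := (((F14457).symm.trans (sb E40 F64908))).symm
theorem E83 : n9367 = n4217 := (((F18687).symm.trans (sb E45 (iv F31079)))).symm
theorem E84 : n5491 = n4193 := (((F18688).symm.trans (sb E45 F24102))).symm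
theorem E88 : n9361 = n7181 := ((((iv D9372)).symm.trans (sb E46 (iv D12204)))).symm
theorem E89 : n5487 = n4190 := ((((iv D5493)).symm.trans (sb E47 (iv D7174)))).symm
theorem E90 : n9330 = n2446 := (((F11225).symm.trans (sb E48 F39906))).symm
theorem E93 : n9327 = n2445 := ((((iv D3215)).symm.trans (sb E48 (iv D12160)))).symm
theorem E103 : n9317 = n7143 := ((((iv F23995)).symm.trans (sb E56 (iv F30919)))).symm
theorem E104 : n5461 = n4170 := ((((iv D5466)).symm.trans (sb E56 (iv D7139)))).symm
theorem E105 : n3179 = n2418 := ((((iv D3182)).symm.trans (sb E57 (iv D4174)))).symm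
theorem E112 : n9401 = n5518 := ((((iv F18766)).symm.trans (sb E64 F40058))).symm
theorem E114 : n15892 = n5521 := ((((iv F18776)).symm.trans (sb E64 (iv F51594)))).symm
theorem E115 : n15896 = n3436 := (((F14529).symm.trans (sb E64 D15896))).symm
theorem E116 : n9366 = n3212 := ((((iv D4217)).symm.trans (sb E64 (iv D12210)))).symm
theorem E119 : n15882 = n3190 := ((((iv D4192)).symm.trans (sb E65 (iv F51565)))).symm
theorem E121 : n15880 = n5492 := ((((iv D7181)).symm.trans (sb E66 (iv F51560)))).symm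
theorem E122 : n9359 = n3198 := (((F14436).symm.trans (sb E67 (iv D12200)))).symm
theorem E124 : n20357 = n5466 := ((((iv F18598)).symm.trans (sb E68 (iv F65461)))).symm
theorem E125 : n12022 = n4179 := (((F14405).symm.trans (sb E68 (iv D15656)))).symm
theorem E126 : n20351 = n3182 := ((((iv D4179)).symm.trans (sb E68 (iv F65442)))).symm
theorem E127 : n11911 = n5476 := (((F18631).symm.trans (sb E69 F50409))).symm
theorem E128 : n20168 = n7156 := ((((iv F24039)).symm.trans (sb E69 (iv F64912)))).symm
theorem E129 : n20164 = n7157 := ((((iv F24044)).symm.trans (sb E69 (iv F64900)))).symm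
theorem E130 : n11910 = n4178 := ((((iv D5476)).symm.trans (sb E69 (iv D15509)))).symm
theorem E134 : n15569 = n1855 := ((((iv D2445)).symm.trans (sb E72 (iv F50606)))).symm
theorem E135 : n20358 = n4193 := ((((iv F14445)).symm.trans (sb E73 (iv F65462)))).symm
theorem E136 : n12028 = n2446 := (((F11158).symm.trans (sb E73 F50840))).symm
theorem E138 : n12021 = n2428 := ((((iv D3196)).symm.trans (sb E73 (iv D15655)))).symm
theorem E141 : n11921 = n3215 := (((F11223).symm.trans (sb E75 F50444))).symm
theorem E144 : n11920 = n2445 := ((((iv D3215)).symm.trans (sb E75 (iv D15519)))).symm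
theorem E152 : n7208 = n5518 := ((((iv F18766)).symm.trans (sb E83 F31078))).symm
theorem E153 : n7179 = n3213 := (((F14528).symm.trans (sb E83 F31080))).symm
theorem E157 : n7162 = n5482 := ((((iv F18652)).symm.trans (sb E84 (iv F24058)))).symm
theorem E158 : n4189 = n3191 := ((((iv D4193)).symm.trans (sb E84 (iv D5491)))).symm
theorem E163 : n7173 = n5492 := ((((iv D7181)).symm.trans (sb E88 (iv D9361)))).symm
theorem E164 : n7172 = n3198 := (((F14436).symm.trans (sb E89 D7172))).symm
theorem E165 : n12162 = n1865 := (((F8655).symm.trans (sb E90 (iv F39913)))).symm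
theorem E173 : n11957 = n1855 := ((((iv D2445)).symm.trans (sb E93 (iv F39286)))).symm
theorem E186 : n7138 = n5465 := ((((iv D7143)).symm.trans (sb E103 (iv D9317)))).symm
theorem E187 : n4167 = n3176 := ((((iv D4170)).symm.trans (sb E104 (iv D5461)))).symm
theorem E188 : n2417 = n1836 := ((((iv D2418)).symm.trans (sb E105 (iv D3179)))).symm
theorem E197 : n12246 = n7206 := ((((iv F24201)).symm.trans (sb E112 (iv F40166)))).symm
theorem E198 : n12250 = n4493 := (((F18769).symm.trans (sb E112 D12250))).symm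
theorem E199 : n7207 = n4213 := ((((iv D5518)).symm.trans (sb E112 (iv D9401)))).symm
theorem E202 : n12207 = n4216 := ((((iv D5521)).symm.trans (sb E114 (iv D15892)))).symm
theorem E203 : n20323 = n2619 := ((((iv D3436)).symm.trans (sb E115 (iv F65360)))).symm
theorem E204 : n11997 = n2441 := ((((iv D3212)).symm.trans (sb E116 (iv F39396)))).symm
theorem E205 : n20305 = n2426 := (((F11142).symm.trans (sb E119 (iv F65321)))).symm
theorem E206 : n12199 = n4200 := (((F18676).symm.trans (sb E121 (iv D15880)))).symm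
theorem E207 : n7187 = n4198 := ((((iv F14461)).symm.trans (sb E122 F31058))).symm
theorem E210 : n15653 = n5466 := (((F18599).symm.trans (sb E124 (iv D20357)))).symm
theorem E211 : n9220 = n4179 := (((F14403).symm.trans (sb E125 F39465))).symm
theorem E213 : n15649 = n2418 := ((((iv D3182)).symm.trans (sb E126 (iv D20351)))).symm
theorem E214 : n9144 = n4197 := (((F18630).symm.trans (sb E127 F39130))).symm
theorem E215 : n9139 = n7156 := ((((iv F24039)).symm.trans (sb E127 F39131))).symm
theorem E217 : n9136 = n4178 := ((((iv D5476)).symm.trans (sb E127 (iv D11911)))).symm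
theorem E219 : n15508 = n5474 := ((((iv D7156)).symm.trans (sb E128 (iv D20168)))).symm
theorem E220 : n15505 = n5475 := ((((iv D7157)).symm.trans (sb E129 (iv D20164)))).symm
theorem E221 : n15502 = n3181 := ((((iv D4178)).symm.trans (sb E130 (iv F50387)))).symm
theorem E227 : n20242 = n1404 := (((F6657).symm.trans (sb E134 (iv F65149)))).symm
theorem E229 : n15663 = n3213 := (((F14446).symm.trans (sb E135 F65464))).symm
theorem E231 : n9226 = n2446 := (((F8654).symm.trans (sb E136 F39480))).symm
theorem E232 : n9280 = n1865 := (((F8655).symm.trans (sb E136 F39481))).symm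
theorem E233 : n15661 = n3208 := ((((iv F11201)).symm.trans (sb E136 (iv F50856)))).symm
theorem E234 : n15664 = n1994 := (((F8656).symm.trans (sb E136 D15664))).symm
theorem E235 : n9225 = n1856 := ((((iv D2446)).symm.trans (sb E136 (iv D12028)))).symm
theorem E237 : n15648 = n1842 := ((((iv D2428)).symm.trans (sb E138 (iv F50819)))).symm
theorem E240 : n9150 = n4217 := ((((iv F14526)).symm.trans (sb E141 F39167))).symm
theorem E241 : n15517 = n4218 := ((((iv F14532)).symm.trans (sb E141 (iv F50440)))).symm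
theorem E243 : n9143 = n2445 := ((((iv D3215)).symm.trans (sb E141 (iv D11921)))).symm
theorem E245 : n15491 = n1855 := ((((iv D2445)).symm.trans (sb E144 (iv F50351)))).symm
theorem E252 : n5520 = n4215 := (((F18768).symm.trans (sb E152 F24207))).symm
theorem E253 : n9399 = n7206 := ((((iv F24201)).symm.trans (sb E152 (iv F31181)))).symm
theorem E257 : n9347 = n4207 := ((((iv F14495)).symm.trans (sb E153 (iv F31022)))).symm
theorem E259 : n5490 = n2442 := ((((iv D3213)).symm.trans (sb E153 (iv D7179)))).symm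
theorem E265 : n9345 = n7166 := ((((iv F24072)).symm.trans (sb E157 (iv F31015)))).symm
theorem E266 : n5478 = n4182 := ((((iv D5482)).symm.trans (sb E157 (iv D7162)))).symm
theorem E267 : n3189 = n2425 := ((((iv D3191)).symm.trans (sb E158 (iv D4189)))).symm
theorem E274 : n9358 = n4200 := (((F18676).symm.trans (sb E163 (iv F31056)))).symm
theorem E275 : n5500 = n4198 := ((((iv F14461)).symm.trans (sb E164 F24088))).symm
theorem E279 : n9329 = n1412 := ((((iv D1865)).symm.trans (sb E165 (iv D12162)))).symm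
theorem E288 : n9171 = n1404 := (((F6657).symm.trans (sb E173 (iv D11957)))).symm
theorem E304 : n5460 = n4169 := ((((iv D5465)).symm.trans (sb E186 (iv D7138)))).symm
theorem E305 : n3175 = n2415 := ((((iv D3176)).symm.trans (sb E187 (iv D4167)))).symm
theorem E306 : n3125 = n1389 := (((F6595).symm.trans (sb E188 (iv F10928)))).symm
theorem E319 : n15936 = n5869 := (((F24202).symm.trans (sb E197 D15936))).symm
theorem E320 : n9398 = n5516 := ((((iv D7206)).symm.trans (sb E197 (iv D12246)))).symm
theorem E322 : n15723 = n3432 := ((((iv D4493)).symm.trans (sb E198 (iv F51044)))).symm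
theorem E323 : n9258 = n3209 := ((((iv D4213)).symm.trans (sb E199 (iv F30730)))).symm
theorem E330 : n15621 = n3211 := ((((iv D4216)).symm.trans (sb E202 (iv F50742)))).symm
theorem E331 : n15624 = n1989 := ((((iv D2619)).symm.trans (sb E203 (iv D20323)))).symm
theorem E332 : n15619 = n1854 := (((F8639).symm.trans (sb E204 (iv F50738)))).symm
theorem E333 : n15613 = n1846 := (((F8590).symm.trans (sb E205 (iv D20305)))).symm
theorem E334 : n9375 = n5501 := ((((iv F18707)).symm.trans (sb E206 F40029))).symm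
theorem E335 : n15612 = n3199 := (((F14470).symm.trans (sb E206 (iv F50724)))).symm
theorem E338 : n9216 = n3197 := ((((iv D4198)).symm.trans (sb E207 (iv F30596)))).symm
theorem E342 : n12020 = n5466 := (((F18596).symm.trans (sb E210 F50833))).symm
theorem E345 : n7068 = n3196 := (((F14402).symm.trans (sb E211 F30607))).symm
theorem E349 : n12017 = n1836 := ((((iv D2418)).symm.trans (sb E213 F50821))).symm
theorem E352 : n7011 = n5495 := ((((iv F18686)).symm.trans (sb E214 F30381))).symm
theorem E353 : n7007 = n5498 := ((((iv F18697)).symm.trans (sb E214 F30382))).symm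
theorem E354 : n11919 = n5499 := ((((iv F18701)).symm.trans (sb E214 (iv F39163)))).symm
theorem E357 : n7156 = n7003 := ((F24040).symm.trans (sb E215 F30366))
theorem E358 : n9139 = n7003 := (E215).trans E357
theorem E360 : n7001 = n5356 := ((((iv D7003)).symm.trans (sb E358 (iv D9139)))).symm
theorem E364 : n5474 = n5356 := (((iv F18625)).symm.trans (sb E217 (tr F30355 E360)))
theorem E369 : n15508 = n5356 := (E219).trans E364
theorem E371 : n20163 = n6758 := ((((iv F22773)).symm.trans (sb E369 (iv F64897)))).symm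
theorem E372 : n20158 = n4088 := ((((iv D5356)).symm.trans (sb E369 (iv F64881)))).symm
theorem E373 : n7154 = n6758 := (((iv F24032)).symm.trans (sb E220 (tr D20163 E371)))
theorem E375 : n20155 = n4177 := ((((iv D5475)).symm.trans (sb E220 (iv F64871)))).symm
theorem E376 : n11907 = n2419 := (((F11114).symm.trans (sb E221 (iv D15502)))).symm
theorem E377 : n4176 = n4088 := ((D4176).symm.trans (sb E221 (tr D20158 E372)))
theorem E380 : n15565 = n1060 := (((F5108).symm.trans (sb E227 (iv D20242)))).symm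
theorem E381 : n12036 = n4215 := ((((iv F14520)).symm.trans (sb E229 F50862))).symm
theorem E388 : n7074 = n3213 := ((((iv F11217)).symm.trans (sb E231 F30625))).symm
theorem E389 : n7110 = n1865 := (((F8655).symm.trans (sb E231 F30627))).symm
theorem E393 : n12096 = n2452 := ((((iv F8677)).symm.trans (sb E232 (iv F39690)))).symm
theorem E394 : n12099 = n1519 := (((F6693).symm.trans (sb E232 D12099))).symm
theorem E395 : n7109 = n1412 := ((((iv D1865)).symm.trans (sb E232 (iv D9280)))).symm
theorem E398 : n12025 = n2438 := ((((iv D3208)).symm.trans (sb E233 (iv D15661)))).symm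
theorem E400 : n20334 = n1510 := ((((iv D1994)).symm.trans (sb E234 (iv F65393)))).symm
theorem E401 : n12005 = n1403 := ((((iv D1856)).symm.trans (sb E235 (iv F39418)))).symm
theorem E404 : n20304 = n1393 := ((((iv D1842)).symm.trans (sb E237 (iv F65319)))).symm
theorem E411 : n11925 = n5521 := ((((iv F18776)).symm.trans (sb E240 (iv F39182)))).symm
theorem E412 : n11928 = n3436 := (((F14529).symm.trans (sb E240 D11928))).symm
theorem E413 : n7010 = n3212 := ((((iv D4217)).symm.trans (sb E240 (iv D9150)))).symm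
theorem E414 : n20176 = n5515 := ((((iv F18756)).symm.trans (sb E241 (iv F64942)))).symm
theorem E418 : n11898 = n1855 := ((((iv D2445)).symm.trans (sb E243 (iv F39089)))).symm
theorem E421 : n20127 = n1404 := (((F6657).symm.trans (sb E245 (iv F64780)))).symm
theorem E423 : n7210 = n3224 := (((F14521).symm.trans (sb E252 (iv F24212)))).symm
theorem E424 : n7196 = n5507 := ((((iv F18731)).symm.trans (sb E252 (iv F24170)))).symm
theorem E425 : n7211 = n3434 := (((F14522).symm.trans (sb E252 D7211))).symm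
theorem E428 : n12247 = n5869 := (((F24202).symm.trans (sb E253 D12247))).symm
theorem E436 : n12182 = n5511 := ((((iv F18744)).symm.trans (sb E257 (iv F39978)))).symm
theorem E440 : n7049 = n1853 := ((((iv D2442)).symm.trans (sb E259 (iv F23695)))).symm
theorem E446 : n12178 = n9351 := ((((iv F31034)).symm.trans (sb E265 (iv F39965)))).symm
theorem E447 : n7160 = n5481 := ((((iv D7166)).symm.trans (sb E265 (iv D9345)))).symm
theorem E448 : n4180 = n3184 := ((((iv D4182)).symm.trans (sb E266 (iv D5478)))).symm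
theorem E449 : n4113 = n1841 := ((((iv D2425)).symm.trans (sb E267 (iv F14190)))).symm
theorem E457 : n7186 = n5501 := ((((iv F18707)).symm.trans (sb E274 F31055))).symm
theorem E459 : n7060 = n3197 := ((((iv D4198)).symm.trans (sb E275 (iv F23723)))).symm
theorem E465 : n11959 = n1066 := ((((iv D1412)).symm.trans (sb E279 (iv F39293)))).symm
theorem E478 : n7030 = n1058 := (((F5107).symm.trans (sb E288 F30470))).symm
theorem E502 : n4168 = n3177 := (((F14369).symm.trans (sb E304 F18575))).symm
theorem E503 : n4099 = n1834 := (((F8552).symm.trans (sb E305 (iv F14144)))).symm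
theorem E505 : n2378 = n1806 := ((((iv F6493)).symm.trans (sb E306 F10927))).symm
theorem E523 : n20441 = n4491 := ((((iv D5869)).symm.trans (sb E319 (iv F65712)))).symm
theorem E524 : n12069 = n4212 := ((((iv D5516)).symm.trans (sb E320 (iv F39608)))).symm
theorem E527 : n12072 = n2616 := ((((iv D3432)).symm.trans (sb E322 (iv D15723)))).symm
theorem E528 : n12067 = n4139 := ((((iv F14270)).symm.trans (sb E323 (iv F39601)))).symm
theorem E536 : n20310 = n2443 := (((F11211).symm.trans (sb E330 (iv F65330)))).symm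
theorem E538 : n20316 = n1508 := (((F7055).symm.trans (sb E331 (iv F65340)))).symm
theorem E539 : n20313 = n2397 := ((((iv F8494)).symm.trans (sb E332 (iv F65335)))).symm
theorem E540 : n11993 = n1406 := (((F6654).symm.trans (sb E332 (iv D15619)))).symm
theorem E541 : n2388 = n1393 := (((iv F8465)).symm.trans (sb E333 (tr D20304 E404)))
theorem E545 : n12015 = n4199 := (((F18708).symm.trans (sb E334 (iv F39443)))).symm
theorem E546 : n12217 = n7188 := (((D7188).symm.trans (sb E334 (iv F40080)))).symm
theorem E548 : n20301 = n4031 := ((((iv F13910)).symm.trans (sb E335 (iv F65312)))).symm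
theorem E551 : n2430 = n2419 := (((iv D3197)).symm.trans (sb E338 (tr (iv F39118) E376)))
theorem E552 : n3197 = n1836 := ((F11164).symm.trans (sb E338 (tr D12017 E349)))
theorem E555 : n9224 = n4187 := (((F18595).symm.trans (sb E342 F39458))).symm
theorem E561 : n5411 = n4193 := ((((iv F14445)).symm.trans (sb E345 F23748))).symm
theorem E569 : n7182 = n5364 := (((iv F24118)).symm.trans (sb E352 F23577))
theorem E570 : n9148 = n7183 := ((((iv F24123)).symm.trans (sb E352 (iv F30396)))).symm
theorem E571 : n5362 = n4192 := ((((iv D5495)).symm.trans (sb E352 (iv D7011)))).symm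
theorem E572 : n5498 = n5360 := ((F18698).symm.trans (sb E353 F23566))
theorem E573 : n7007 = n5360 := (E353).trans E572
theorem E574 : n9145 = n6762 := ((((iv F22787)).symm.trans (sb E573 (iv F30387)))).symm
theorem E575 : n5359 = n4090 := ((((iv D5360)).symm.trans (sb E573 (iv D7007)))).symm
theorem E576 : n7185 = n6762 := (((iv F24129)).symm.trans (sb E354 (tr F39162 E574)))
theorem E602 : n5497 = n5172 := (((F22771).symm.trans (sb E373 F24031))).symm
theorem E606 : n15501 = n3183 := (((F14397).symm.trans (sb E375 (iv D20155)))).symm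
theorem E607 : n3193 = n3115 := ((((iv D4088)).symm.trans (sb E377 F14392))).symm
theorem E613 : n20241 = n797 := (((F3911).symm.trans (sb E380 D20241))).symm
theorem E617 : n9232 = n4215 := (((F14519).symm.trans (sb E381 F39500))).symm
theorem E618 : n9288 = n3224 := (((F14521).symm.trans (sb E381 F39502))).symm
theorem E619 : n15670 = n5507 := ((((iv F18731)).symm.trans (sb E381 (iv F50880)))).symm
theorem E620 : n15672 = n3434 := (((F14522).symm.trans (sb E381 D15672))).symm
theorem E621 : n9231 = n3210 := ((((iv D4215)).symm.trans (sb E381 (iv D12036)))).symm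
theorem E627 : n5446 = n2454 := (((F11218).symm.trans (sb E388 F23766))).symm
theorem E628 : n9230 = n4207 := ((((iv F14495)).symm.trans (sb E388 (iv F30637)))).symm
theorem E631 : n5440 = n1865 := (((F6691).symm.trans (sb E389 F23884))).symm
theorem E632 : n9278 = n2452 := ((((iv F8677)).symm.trans (sb E389 (iv F30791)))).symm
theorem E641 : n15750 = n2000 := (((F8678).symm.trans (sb E393 D15750))).symm
theorem E642 : n9277 = n1862 := ((((iv D2452)).symm.trans (sb E393 (iv D12096)))).symm
theorem E644 : n15734 = n1150 := ((((iv D1519)).symm.trans (sb E394 (iv F51079)))).symm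
theorem E645 : n9266 = n1066 := ((((iv D1412)).symm.trans (sb E395 (iv F30754)))).symm
theorem E647 : n15631 = n1850 := ((((iv D2438)).symm.trans (sb E398 (iv F50770)))).symm
theorem E648 : n15634 = n1141 := ((((iv D1510)).symm.trans (sb E400 (iv D20334)))).symm
theorem E649 : n15618 = n1057 := ((((iv D1403)).symm.trans (sb E401 (iv F50737)))).symm
theorem E655 : n15523 = n7200 := ((((iv F24182)).symm.trans (sb E411 (iv F50457)))).symm
theorem E656 : n15526 = n4496 := (((F18777).symm.trans (sb E411 D15526))).symm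
theorem E657 : n9147 = n4216 := ((((iv D5521)).symm.trans (sb E411 (iv D11925)))).symm
theorem E658 : n15499 = n2619 := ((((iv D3436)).symm.trans (sb E412 (iv F50377)))).symm
theorem E659 : n9131 = n2441 := ((((iv D3212)).symm.trans (sb E413 (iv F30338)))).symm
theorem E660 : n15514 = n4210 := ((((iv D5515)).symm.trans (sb E414 (iv D20176)))).symm
theorem E663 : n9126 = n1404 := (((F6657).symm.trans (sb E418 (iv D11898)))).symm
theorem E664 : n15479 = n1058 := (((F5107).symm.trans (sb E421 (iv D20127)))).symm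
theorem E665 : n5533 = n4228 := ((((iv F14569)).symm.trans (sb E423 F24211))).symm
theorem E666 : n9387 = n4222 := ((((iv F14548)).symm.trans (sb E423 (iv F31147)))).symm
theorem E669 : n9385 = n7194 := ((((iv F24163)).symm.trans (sb E424 (iv F31141)))).symm
theorem E670 : n9388 = n4482 := (((F18732).symm.trans (sb E424 D9388))).symm
theorem E671 : n5506 = n4203 := ((((iv D5507)).symm.trans (sb E424 (iv D7196)))).symm
theorem E672 : n5874 = n4495 := ((((iv F15394)).symm.trans (sb E425 F24214))).symm
theorem E673 : n9262 = n2617 := ((((iv D3434)).symm.trans (sb E425 (iv F30742)))).symm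
theorem E678 : n9974 = n7657 := ((((iv F25642)).symm.trans (sb E428 F40168))).symm
theorem E691 : n15859 = n7199 := ((((iv F24178)).symm.trans (sb E436 (iv F51493)))).symm
theorem E692 : n15860 = n4486 := (((F18745).symm.trans (sb E436 D15860))).symm
theorem E697 : n5391 = n1402 := ((((iv D1853)).symm.trans (sb E440 (iv D7049)))).symm
theorem E706 : n9342 = n7164 := ((((iv D9351)).symm.trans (sb E446 (iv D12178)))).symm
theorem E707 : n5477 = n4181 := ((((iv D5481)).symm.trans (sb E447 (iv D7160)))).symm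
theorem E708 : n5382 = n2421 := ((((iv D3184)).symm.trans (sb E448 (iv F18327)))).symm
theorem E709 : n3133 = n2383 := ((((iv F8450)).symm.trans (sb E449 (iv D4113)))).symm
theorem E722 : n9215 = n4199 := (((F18708).symm.trans (sb E457 (iv F30593)))).symm
theorem E724 : n7060 = n1836 := (E459).trans E552
theorem E725 : n4199 = n2415 := ((((iv F8553)).symm.trans (sb E724 (tr D9215 E722)))).symm
theorem E730 : n15445 = n802 := ((((iv D1066)).symm.trans (sb E465 (iv F50208)))).symm
theorem E744 : n5380 = n1378 := ((((iv F5024)).symm.trans (sb E478 F23641))).symm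
theorem E767 : n5370 = n2416 := (((F11099).symm.trans (sb E502 (iv F18289)))).symm
theorem E769 : n3123 = n2376 := ((((iv F8421)).symm.trans (sb E503 F14143))).symm
theorem E772 : n1805 = n1367 := ((((iv D1806)).symm.trans (sb E505 (iv D2378)))).symm
theorem E794 : n15719 = n3431 := ((((iv D4491)).symm.trans (sb E523 (iv D20441)))).symm
theorem E795 : n15710 = n5424 := ((((iv F18455)).symm.trans (sb E524 (iv F51001)))).symm
theorem E800 : n15716 = n3397 := ((((iv F11784)).symm.trans (sb E527 (iv F51021)))).symm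
theorem E801 : n15713 = n3152 := (((F14269).symm.trans (sb E528 (iv F51011)))).symm
theorem E807 : n15616 = n1858 := (((F8645).symm.trans (sb E536 (iv D20310)))).symm
theorem E808 : n15620 = n1144 := (((F5423).symm.trans (sb E538 F65341))).symm
theorem E809 : n1824 = n1057 := ((F8495).symm.trans (sb E539 (tr (iv D20313) E649)))
theorem E810 : n1059 = n1058 := (((iv D1406)).symm.trans (sb E540 (tr (iv F50313) E664)))
theorem E811 : n1841 = n1814 := (((iv F6612)).symm.trans (sb E541 F8464))
theorem E812 : n1846 = n1050 := (((F5075).symm.trans (sb E541 F8465))).symm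
theorem E814 : n3134 = n1049 := ((((iv D1393)).symm.trans (sb E541 (iv F10960)))).symm
theorem E815 : n1843 = n1812 := ((D1843).symm.trans (sb E541 (iv D2388)))
theorem E817 : n12015 = n2415 := (E545).trans E725
theorem E818 : n15645 = n3177 := (((D3177).symm.trans (sb E817 (iv F50809)))).symm
theorem E820 : n15900 = n9010 := ((((iv F29954)).symm.trans (sb E546 (iv F51613)))).symm
theorem E822 : n5281 = n3177 := (((iv F17989)).symm.trans (sb E548 (tr F65311 E818)))
theorem E824 : n1845 = n1837 := (((F8565).symm.trans (sb E551 (iv D2430)))).symm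
theorem E825 : n3183 = n3068 := ((D3183).symm.trans (sb E551 (iv F10729)))
theorem E826 : n2431 = n1389 := (((F6595).symm.trans (sb E552 F11162))).symm
theorem E828 : n15501 = n3068 := (E606).trans E825
theorem E830 : n7072 = n5482 := ((((iv F18649)).symm.trans (sb E555 F30620))).symm
theorem E841 : n4193 = n4130 := ((F14447).symm.trans (sb E561 F18409))
theorem E842 : n5411 = n4130 := (E561).trans E841
theorem E843 : n5482 = n5412 := ((((iv F18413)).symm.trans (sb E842 (tr (iv F23761) E830)))).symm
theorem E852 : n5364 = n4095 := (((F18252).symm.trans (iv (sb E569 (tr F24116 E572))))).symm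
theorem E853 : n7182 = n4095 := (E569).trans E852
theorem E855 : n9372 = n5177 := ((((iv F17666)).symm.trans (sb E853 (iv F31095)))).symm
theorem E856 : n5493 = n3118 := ((((iv D4095)).symm.trans (sb E853 (iv D7182)))).symm
theorem E857 : n7012 = n5177 := (((E855).symm.trans (((iv F31094)).symm.trans (sb E570 F30395)))).symm
theorem E860 : n4094 = n3118 := (((E856).symm.trans (((iv F18681)).symm.trans (sb E571 F18260)))).symm
theorem E863 : n7006 = n5172 := ((((iv D6762)).symm.trans (sb E574 (iv D9145)))).symm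
theorem E864 : n4089 = n3115 := ((((iv D4090)).symm.trans (sb E575 (iv D5359)))).symm
theorem E865 : n5499 = n5208 := (((F22786).symm.trans (sb E576 F24129))).symm
theorem E887 : n7181 = n3950 := (((F17644).symm.trans (sb E602 (iv F24112)))).symm
theorem E888 : n4196 = n3972 := (((F17646).symm.trans (sb E602 F18694))).symm
theorem E895 : n20154 = n4029 := (((D4029).symm.trans (sb E828 (iv F64867)))).symm
theorem E896 : n4190 = n2371 := (((F10891).symm.trans (sb E607 (iv F14435)))).symm
theorem E897 : n2433 = n2370 := ((((iv D3115)).symm.trans (sb E607 F11151))).symm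
theorem E899 : n15577 = n599 := (((F2987).symm.trans (sb E613 F65147))).symm
theorem E900 : n7116 = n3224 := (((F14521).symm.trans (sb E617 F30642))).symm
theorem E901 : n12034 = n5507 := ((((iv F18731)).symm.trans (sb E617 (iv F39496)))).symm
theorem E903 : n7073 = n3210 := ((((iv D4215)).symm.trans (sb E617 (iv D9232)))).symm
theorem E904 : n7124 = n4228 := ((((iv F14569)).symm.trans (sb E618 F30816))).symm
theorem E905 : n12105 = n4222 := ((((iv F14548)).symm.trans (sb E618 (iv F39716)))).symm
theorem E906 : n12107 = n2631 := (((F11261).symm.trans (sb E618 D12107))).symm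
theorem E910 : n12033 = n4203 := ((((iv D5507)).symm.trans (sb E619 (iv D15670)))).symm
theorem E912 : n20342 = n2617 := ((((iv D3434)).symm.trans (sb E620 (iv F65415)))).symm
theorem E913 : n12011 = n2440 := ((((iv D3210)).symm.trans (sb E621 (iv F39433)))).symm
theorem E924 : n4156 = n2454 := (((F8683).symm.trans (sb E627 F18523))).symm
theorem E925 : n7114 = n3220 := ((((iv F11244)).symm.trans (sb E627 (iv F23895)))).symm
theorem E926 : n7117 = n2002 := (((F8685).symm.trans (sb E627 D7117))).symm
theorem E929 : n12032 = n5511 := ((((iv F18744)).symm.trans (sb E628 (iv F39489)))).symm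
theorem E934 : n7108 = n2452 := ((((iv F8677)).symm.trans (sb E631 (iv F23879)))).symm
theorem E938 : n12097 = n2000 := (((F8678).symm.trans (sb E632 D12097))).symm
theorem E954 : n20454 = n1516 := ((((iv D2000)).symm.trans (sb E641 (iv F65756)))).symm
theorem E955 : n12079 = n1409 := ((((iv D1862)).symm.trans (sb E642 (iv F39639)))).symm
theorem E959 : n12082 = n869 := ((((iv D1150)).symm.trans (sb E644 (iv D15734)))).symm
theorem E960 : n12066 = n802 := ((((iv D1066)).symm.trans (sb E645 (iv F39597)))).symm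
theorem E963 : n20309 = n1400 := ((((iv D1850)).symm.trans (sb E647 (iv F65328)))).symm
theorem E965 : n20314 = n860 := ((((iv D1141)).symm.trans (sb E648 (iv F65338)))).symm
theorem E978 : n11922 = n5510 := ((((iv D7200)).symm.trans (sb E655 (iv D15523)))).symm
theorem E979 : n20150 = n3435 := ((((iv D4496)).symm.trans (sb E656 (iv F64854)))).symm
theorem E980 : n11902 = n3211 := ((((iv D4216)).symm.trans (sb E657 (iv F39102)))).symm
theorem E981 : n11905 = n1989 := ((((iv D2619)).symm.trans (sb E658 (iv D15499)))).symm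
theorem E982 : n6996 = n1854 := (((F8639).symm.trans (sb E659 (iv D9131)))).symm
theorem E984 : n20138 = n3206 := ((((iv D4210)).symm.trans (sb E660 (iv F64812)))).symm
theorem E989 : n6993 = n1060 := (((F5108).symm.trans (sb E663 F30322))).symm
theorem E990 : n20128 = n797 := (((F3906).symm.trans (sb E664 D20128))).symm
theorem E992 : n20129 = n861 := (((F3907).symm.trans (sb E664 D20129))).symm
theorem E993 : n7218 = n5527 := ((((iv F18803)).symm.trans (sb E665 (iv F24240)))).symm
theorem E994 : n7227 = n5534 := (((D5534).symm.trans (sb E665 D7227))).symm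
theorem E996 : n12233 = n5525 := ((((iv F18793)).symm.trans (sb E666 (iv F40129)))).symm
theorem E1004 : n7193 = n5505 := ((((iv D7194)).symm.trans (sb E669 (iv D9385)))).symm
theorem E1006 : n12050 = n3422 := ((((iv D4482)).symm.trans (sb E670 (iv F39552)))).symm
theorem E1007 : n7078 = n3201 := ((((iv D4203)).symm.trans (sb E671 (iv F23781)))).symm
theorem E1009 : n7598 = n3433 := ((((iv D4495)).symm.trans (sb E672 (iv F25439)))).symm
theorem E1010 : n7095 = n1988 := ((((iv D2617)).symm.trans (sb E673 (iv D9262)))).symm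
theorem E1016 : n12973 = n9973 := ((((iv F33029)).symm.trans (sb E678 (iv F42490)))).symm
theorem E1032 : n12181 = n5509 := ((((iv D7199)).symm.trans (sb E691 (iv D15859)))).symm
theorem E1033 : n20281 = n3425 := ((((iv D4486)).symm.trans (sb E692 (iv F65262)))).symm
theorem E1038 : n4115 = n1819 := ((((iv F6539)).symm.trans (sb E697 F18353))).symm
theorem E1050 : n7158 = n5479 := ((((iv D7164)).symm.trans (sb E706 (iv D9342)))).symm
theorem E1051 : n7036 = n3185 := (((F14410).symm.trans (sb E707 (iv F23661)))).symm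
theorem E1052 : n4108 = n3129 := ((((iv F10943)).symm.trans (sb E708 (iv D5382)))).symm
theorem E1054 : n2384 = n1810 := (((F8449).symm.trans (sb E709 F10956))).symm
theorem E1055 : n4083 = n1809 := ((((iv D2383)).symm.trans (sb E709 (iv F14088)))).symm
theorem E1070 : n3199 = n1834 := (((F8552).symm.trans (sb E725 F14466))).symm
theorem E1078 : n11863 = n601 := ((((iv D802)).symm.trans (sb E730 (iv D15445)))).symm
theorem E1102 : n7033 = n1041 := (((F5026).symm.trans (sb E744 (iv F23652)))).symm
theorem E1135 : n4101 = n3124 := ((((iv F10923)).symm.trans (sb E767 F18288))).symm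
theorem E1138 : n2375 = n1804 := ((((iv D2376)).symm.trans (sb E769 (iv D3123)))).symm
theorem F66334 : act 1 n1367 = n1367 := (sb E772 (iv D1805))
theorem E1141 : n2363 = n1031 := ((((iv D1367)).symm.trans (sb E772 (iv F8373)))).symm
theorem E1167 : n20429 = n4448 := ((((iv F15242)).symm.trans (sb E794 (iv F65671)))).symm
theorem E1168 : n20426 = n4142 := (((F18454).symm.trans (sb E795 (iv F65661)))).symm
theorem E1170 : n20434 = n2588 := (((F11783).symm.trans (sb E800 (iv F65688)))).symm
theorem E1174 : n4141 = n802 := ((D4141).symm.trans (sb E801 (tr (iv D15713) E960)))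
theorem E1180 : n2403 = n1400 := (((iv F8513)).symm.trans (sb E807 (tr D20309 E963)))
theorem E1183 : n1495 = n860 := (((iv F5389)).symm.trans (sb E808 (tr (iv F65337) E965)))
theorem E1184 : n862 = n861 := (((iv D1144)).symm.trans (sb E808 (tr (iv F64784) E992)))
theorem E1186 : n1402 = n1381 := (((iv F5102)).symm.trans (sb E809 F6555))
theorem E1187 : n1406 = n794 := (((F3903).symm.trans (sb E809 F6556))).symm
theorem E1189 : n2397 = n793 := ((((iv D1057)).symm.trans (sb E809 (iv F8495)))).symm
theorem E1190 : n1404 = n1379 := ((D1404).symm.trans (sb E809 (iv D1824)))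
theorem E1191 : n1378 = n796 := (((iv F5024)).symm.trans (sb E810 F3908))
theorem E1192 : n797 = n795 := ((F3906).symm.trans (sb E810 (iv D1059)))
theorem E1193 : n1405 = n1347 := ((D1405).symm.trans (sb E810 (iv F4908)))
theorem E1195 : n2383 = n1373 := (((F6521).symm.trans (sb E811 (iv F8450)))).symm
theorem E1198 : n2426 = n1372 := ((((iv D1814)).symm.trans (sb E811 D2426))).symm
theorem E1199 : n2421 = n2391 := (((D2391).symm.trans (sb E811 (iv F8574)))).symm
theorem E1200 : n1397 = n1370 := ((((iv F4998)).symm.trans (sb E812 F6628))).symm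
theorem E1201 : n1372 = n789 := ((((iv D1050)).symm.trans (sb E812 (tr (iv F8590) E1198)))).symm
theorem E1202 : n2432 = n1391 := ((((iv F5068)).symm.trans (sb E812 D2432))).symm
theorem E1204 : n2426 = n789 := (E1198).trans E1201
theorem E1205 : n1373 = n790 := (((F3880).symm.trans (sb E814 (tr (iv D3134) E1195)))).symm
theorem E1207 : n1371 = n1370 := (((iv D1812)).symm.trans (sb E815 (tr F6618 E1200)))
theorem E1208 : n2429 = n2300 := ((((iv F8157)).symm.trans (sb E815 D2429))).symm
theorem E1210 : n20344 = n4165 := ((((iv F14354)).symm.trans (sb E818 (iv F65419)))).symm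
theorem E1211 : n4171 = n4029 := ((D4171).symm.trans (sb E818 (tr (iv F64868) E895)))
theorem E1212 : n6903 = n4165 := (((iv D9010)).symm.trans (sb E820 (tr (iv F65420) E1210)))
theorem E1213 : n4031 = n2416 := (((F11099).symm.trans (sb E822 F17989))).symm
theorem E1215 : n2379 = n1396 := (((iv F8433)).symm.trans (sb E824 F6624))
theorem E1217 : n1847 = n1806 := ((((iv F6493)).symm.trans (sb E826 F8605))).symm
theorem E1218 : n3198 = n1047 := ((((iv D1389)).symm.trans (sb E826 D3198))).symm
theorem E1234 : n4207 = n4157 := (((F18412).symm.trans (sb E843 F18650))).symm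
theorem E1244 : n8834 = n6766 := ((((iv F22801)).symm.trans (sb E857 (iv F29421)))).symm
theorem E1249 : n3117 = n2371 := ((((iv D3118)).symm.trans (sb E860 (iv D4094)))).symm
theorem E1253 : n5358 = n3947 := ((((iv D5172)).symm.trans (sb E863 (iv D7006)))).symm
theorem E1254 : n3116 = n2370 := ((((iv D3115)).symm.trans (sb E864 F14108))).symm
theorem E1255 : n4218 = n3994 := (((F17760).symm.trans (sb E865 F18700))).symm
theorem E1272 : n9371 = n5176 := ((((iv F17662)).symm.trans (sb E887 (iv F31090)))).symm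
theorem E1273 : n5492 = n3009 := ((((iv D3950)).symm.trans (sb E887 (iv D7181)))).symm
theorem E1274 : n3214 = n3040 := (((F13720).symm.trans (sb E888 F14455))).symm
theorem E1284 : n1801 = n1047 := (((iv D2371)).symm.trans (sb E896 (tr F14436 E1218)))
theorem E1286 : n1806 = n1800 := ((((iv D2370)).symm.trans (sb E897 (tr (iv D2433) E1217)))).symm
theorem E1287 : n20256 = n784 := ((((iv F2947)).symm.trans (sb E899 D20256))).symm
theorem E1291 : n5452 = n4228 := ((((iv F14569)).symm.trans (sb E900 F23899))).symm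
theorem E1292 : n9286 = n4222 := ((((iv F14548)).symm.trans (sb E900 (iv F30812)))).symm
theorem E1293 : n9289 = n2631 := (((F11261).symm.trans (sb E900 D9289))).symm
theorem E1296 : n15671 = n4482 := (((F18732).symm.trans (sb E901 D15671))).symm
theorem E1300 : n9213 = n2440 := ((((iv D3210)).symm.trans (sb E903 (iv F30588)))).symm
theorem E1301 : n9295 = n5527 := ((((iv F18803)).symm.trans (sb E904 (iv F30843)))).symm
theorem E1302 : n9297 = n5534 := (((D5534).symm.trans (sb E904 D9297))).symm
theorem E1304 : n15754 = n5525 := ((((iv F18793)).symm.trans (sb E905 (iv F51143)))).symm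
theorem E1305 : n15759 = n3441 := (((F14549).symm.trans (sb E905 D15759))).symm
theorem E1307 : n15761 = n3447 := ((((iv F11942)).symm.trans (sb E906 D15761))).symm
theorem E1311 : n15639 = n3201 := ((((iv D4203)).symm.trans (sb E910 (iv F50792)))).symm
theorem E1312 : n15642 = n1988 := ((((iv D2617)).symm.trans (sb E912 (iv D20342)))).symm
theorem E1313 : n15583 = n3151 := ((((iv F11010)).symm.trans (sb E913 (iv F50648)))).symm
theorem E1318 : n3224 = n3170 := (((iv F11259)).symm.trans (sb E924 F14321))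
theorem E1319 : n5444 = n3220 := ((((iv F11244)).symm.trans (sb E924 (iv F18519)))).symm
theorem E1322 : n9284 = n4224 := ((((iv F14555)).symm.trans (sb E925 (iv F30806)))).symm
theorem E1323 : n9287 = n2627 := (((F11245).symm.trans (sb E925 D9287))).symm
theorem E1325 : n5843 = n1534 := (((F7095).symm.trans (sb E926 F23901))).symm
theorem E1328 : n15668 = n7199 := ((((iv F24178)).symm.trans (sb E929 (iv F50873)))).symm
theorem E1335 : n9276 = n3222 := ((((iv F11251)).symm.trans (sb E934 (iv F30784)))).symm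
theorem E1336 : n5834 = n2000 := (((F8678).symm.trans (sb E934 F23880))).symm
theorem E1344 : n9924 = n1532 := (((F7089).symm.trans (sb E938 F39692))).symm
theorem E1359 : n15731 = n1147 := ((((iv D1516)).symm.trans (sb E954 (iv D20454)))).symm
theorem E1360 : n15709 = n1063 := ((((iv D1409)).symm.trans (sb E955 (iv F50997)))).symm
theorem E1364 : n15714 = n654 := ((((iv D869)).symm.trans (sb E959 (iv F51014)))).symm
theorem E1370 : n15493 = n4205 := ((((iv D5510)).symm.trans (sb E978 (iv F50358)))).symm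
theorem E1371 : n15496 = n2618 := ((((iv D3435)).symm.trans (sb E979 (iv D20150)))).symm
theorem E1372 : n9130 = n2443 := (((F11211).symm.trans (sb E980 (iv D11902)))).symm
theorem E1373 : n9132 = n1508 := (((F7055).symm.trans (sb E981 F39109))).symm
theorem E1374 : n9107 = n793 := (((E1189).symm.trans (((iv F8494)).symm.trans (sb E982 (iv F30265))))).symm
theorem E1375 : n5353 = n794 := (((E1187).symm.trans ((F6654).symm.trans (sb E982 F23529)))).symm
theorem E1376 : n15488 = n2439 := (((F11194).symm.trans (sb E984 (iv D20138)))).symm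
theorem E1383 : n5349 = n796 := ((((iv D1060)).symm.trans (sb E989 F23521))).symm
theorem E1384 : n20128 = n795 := (E990).trans E1192
theorem E1385 : n15483 = n603 := (((F2982).symm.trans (sb E1384 F64782))).symm
theorem E1387 : n9415 = n7216 := ((((iv F24232)).symm.trans (sb E993 (iv F31233)))).symm
theorem E1388 : n9416 = n7219 := (((D7219).symm.trans (sb E993 D9416))).symm
theorem E1390 : n9424 = n4509 := (((F18826).symm.trans (sb E994 D9424))).symm
theorem E1393 : n9386 = n4220 := ((((iv D5525)).symm.trans (sb E996 (iv D12233)))).symm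
theorem E1406 : n9238 = n4202 := ((((iv D5505)).symm.trans (sb E1004 (iv F30663)))).symm
theorem E1409 : n9241 = n2608 := ((((iv D3422)).symm.trans (sb E1006 (iv D12050)))).symm
theorem E1410 : n5414 = n4131 := ((((iv F14241)).symm.trans (sb E1007 (iv D7078)))).symm
theorem E1413 : n5821 = n4450 := ((((iv F15248)).symm.trans (sb E1009 (iv D7598)))).symm
theorem E1414 : n5427 = n2587 := ((((iv F9078)).symm.trans (sb E1010 F23838))).symm
theorem E1423 : n16751 = n7656 := ((((iv D9973)).symm.trans (sb E1016 (iv F54284)))).symm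
theorem E1442 : n15594 = n4204 := ((((iv D5509)).symm.trans (sb E1032 (iv F50679)))).symm
theorem E1443 : n15595 = n2609 := ((((iv D3425)).symm.trans (sb E1033 (iv D20281)))).symm
theorem E1450 : n3136 = n1377 := (((F6538).symm.trans (sb E1038 F14195))).symm
theorem E1462 : n9340 = n6881 := ((((iv F23151)).symm.trans (sb E1050 D9340))).symm
theorem E1463 : n5383 = n4109 := ((((iv F14179)).symm.trans (sb E1051 F23660))).symm
theorem E1465 : n3130 = n2381 := (((F10942).symm.trans (sb E1052 F14175))).symm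
theorem E1466 : n5342 = n2380 := ((((iv D3129)).symm.trans (sb E1052 (iv F18196)))).symm
theorem E1468 : n3112 = n1369 := ((((iv D1810)).symm.trans (sb E1054 (iv F10881)))).symm
theorem E1469 : n3111 = n2367 := ((((iv F8388)).symm.trans (sb E1055 (iv D4083)))).symm
theorem E1482 : n2434 = n2376 := ((((iv F8421)).symm.trans (sb E1070 F11169))).symm

end Cfsg.Agent.Helper17.FiR2TC
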