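import Cfsg.Agent.Helper17.FiR2TC.Facts2

set_option autoImplicit false
set_option linter.all false

noncomputable section

namespace Cfsg.Agent.Helper17.FiR2TC

theorem E1483 : n4200 = n1387 := ((((iv D1834)).symm.trans (sb E1070 (iv F14470)))).symm
theorem E1488 : n15443 = n450 := (((F2290).symm.trans (sb E1078 (iv F50201)))).symm
theorem E1515 : n9180 = n784 := (((F3851).symm.trans (sb E1102 D9180))).symm
theorem E1516 : n793 = n782 := ((((iv D1041)).symm.trans (sb E1102 (tr (iv F30267) E1374)))).symm
theorem E1547 : n5367 = n4098 := ((((iv F14140)).symm.trans (sb E1135 (iv F18277)))).symm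
theorem F66384 : act 1 n1804 = n1804 := (sb E1138 (iv D2375))
theorem E1550 : n3103 = n1366 := ((((iv D1804)).symm.trans (sb E1138 (iv F10848)))).symm
theorem E1551 : n3120 = n2374 := ((((iv F8414)).symm.trans (sb E1138 (iv F10907)))).symm
theorem E1554 : n1796 = n1360 := ((((iv F4960)).symm.trans (sb E1141 (iv D2363)))).symm
theorem E1572 : n15711 = n5815 := ((((iv F19696)).symm.trans (sb E1167 F65672))).symm
theorem E1573 : n5428 = n1063 := (((iv F18468)).symm.trans (sb E1168 (tr (iv D20426) E1360)))
theorem E1575 : n3399 = n654 := ((D3399).symm.trans (sb E1170 (tr F65689 E1364)))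
theorem E1578 : n5423 = n602 := (((F3005).symm.trans (sb E1174 (iv F18449)))).symm
theorem E1579 : n3152 = n601 := ((((iv D802)).symm.trans (sb E1174 (iv D4141)))).symm
theorem E1580 : n1849 = n1827 := (((iv F6638)).symm.trans (sb E1180 F8512))
theorem E1581 : n1858 = n1055 := (((F5097).symm.trans (sb E1180 F8513))).symm
theorem E1582 : n3160 = n1850 := (((D1850).symm.trans (sb E1180 (iv F11040)))).symm
theorem E1583 : n3154 = n1054 := ((((iv D1400)).symm.trans (sb E1180 (iv F11020)))).symm
theorem E1584 : n3041 = n1851 := (((D1851).symm.trans (sb E1180 (iv F10642)))).symm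
theorem E1586 : n1140 = n1132 := (((iv F4164)).symm.trans (sb E1183 F5388))
theorem E1587 : n1144 = n646 := (((F3191).symm.trans (sb E1183 F5389))).symm
theorem E1589 : n1968 = n645 := ((((iv D860)).symm.trans (sb E1183 (iv F6996)))).symm
theorem E1591 : n1129 = n648 := (((iv F4133)).symm.trans (sb E1184 F3196))
theorem E1592 : n649 = n647 := ((F3194).symm.trans (sb E1184 (iv D862)))
theorem E1593 : n1143 = n1117 := ((D1143).symm.trans (sb E1184 (iv F4096)))
theorem E1595 : n1819 = n1041 := (((F5034).symm.trans (sb E1186 (iv F6539)))).symm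
theorem E1597 : n1821 = n1056 := (((iv F6545)).symm.trans (sb E1186 (iv D1402)))
theorem E1598 : n1854 = n1040 := ((((iv D1381)).symm.trans (sb E1186 D1854))).symm
theorem E1599 : n1060 = n1038 := ((((iv F3842)).symm.trans (sb E1187 F5113))).symm
theorem E1600 : n1040 = n596 := ((((iv D794)).symm.trans (sb E1187 (tr (iv F6654) E1598)))).symm
theorem E1602 : n2397 = n782 := (E1189).trans E1516
theorem E1603 : n1056 = n598 := (((F2940).symm.trans (sb E1602 (tr F8493 E1597)))).symm
theorem E1605 : n601 = n589 := (((F2941).symm.trans (sb E1602 (tr (iv F11014) E1579)))).symm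
theorem E1606 : n1054 = n1002 := ((((iv F3716)).symm.trans (sb E1602 (tr D3154 E1583)))).symm
theorem E1607 : n645 = n641 := (((F2942).symm.trans (sb E1602 (tr F8496 E1589)))).symm
theorem E1608 : n1039 = n1038 := (((iv D1379)).symm.trans (sb E1190 (tr F5108 E1599)))
theorem F66392 : act 0 n796 = n1058 := (sb E1191 F5024)
theorem E1611 : n1041 = n597 := ((((iv D796)).symm.trans (sb E1191 F5026))).symm
theorem E1612 : n1822 = n1016 := ((((iv F3764)).symm.trans (sb E1191 D1822))).symm
theorem E1613 : n1811 = n1052 := ((((iv F3889)).symm.trans (sb E1191 (iv F6513)))).symm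
theorem E1614 : n603 = n599 := ((F2982).symm.trans (sb E1192 F2987))
theorem E1615 : n1061 = n1015 := ((((iv F3760)).symm.trans (sb E1192 D1061))).symm
theorem E1616 : n1053 = n1051 := ((((iv F3886)).symm.trans (sb E1192 (iv F3892)))).symm
theorem E1617 : n1852 = n1782 := (((D1782).symm.trans (sb E1193 (iv F6648)))).symm
theorem E1618 : n1844 = n1771 := ((((iv F6369)).symm.trans (sb E1193 (iv F6622)))).symm
theorem E1619 : n2383 = n790 := (E1195).trans E1205
theorem E1620 : n1810 = n1051 := (((D1051).symm.trans (sb E1619 F8449))).symm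
theorem E1621 : n1809 = n1052 := (((D1052).symm.trans (sb E1619 (iv D2383)))).symm
theorem E1623 : n1819 = n597 := (E1595).trans E1611
theorem E1627 : n3192 = n1048 := ((((iv F3876)).symm.trans (sb E1204 D3192))).symm
theorem E1629 : n3185 = n3029 := ((((iv F10602)).symm.trans (sb E1199 D3185))).symm
theorem E1630 : n1847 = n1800 := (E1217).trans E1286
theorem E1631 : n1848 = n1808 := ((((iv F6501)).symm.trans (sb E1200 D1848))).symm
theorem E1632 : n1812 = n1033 := ((((iv F3826)).symm.trans (sb E1201 (iv F6515)))).symm
theorem E1633 : n1049 = n1035 := ((D1049).symm.trans (sb E1201 F5004))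
theorem E1634 : n1050 = n1034 := ((D1050).symm.trans (sb E1201 (iv D1372)))
theorem E1637 : n3070 = n1840 := (((D1840).symm.trans (sb E1202 (iv F10737)))).symm
theorem E1640 : n3154 = n1002 := (E1583).trans E1606
theorem E1641 : n1808 = n1747 := (((iv F6501)).symm.trans (sb E1207 (iv F6284)))
theorem E1642 : n1848 = n1747 := (E1631).trans E1641
theorem E1643 : n3188 = n3026 := (((D3026).symm.trans (sb E1208 (iv F11136)))).symm
theorem E1645 : n3178 = n3069 := (((F13901).symm.trans (sb E1211 F14375))).symm
theorem E1647 : n5282 = n3174 := (((F14353).symm.trans (sb E1212 F23220))).symm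
theorem E1650 : n3124 = n3072 := (((iv F10923)).symm.trans (sb E1213 F13908))
theorem F66400 : act 0 n1396 = n1837 := (sb E1215 F8433)
theorem E1653 : n2367 = n1396 := (((iv F8389)).symm.trans (sb E1630 (iv D1847)))
theorem E1654 : n2376 = n2288 := ((((iv F8112)).symm.trans (sb E1630 (tr D2434 E1482)))).symm
theorem E1677 : n5507 = n3171 := (((F14325).symm.trans (sb E1234 (iv F18729)))).symm
theorem E1688 : n11514 = n8833 := ((((iv F29416)).symm.trans (sb E1244 (iv F37918)))).symm
theorem E1689 : n6765 = n5176 := ((((iv D6766)).symm.trans (sb E1244 (iv D8834)))).symm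
theorem E1695 : n2372 = n1047 := (((E1284).symm.trans (((iv D2371)).symm.trans (sb E1249 F10899)))).symm
theorem E1700 : n4091 = n3008 := ((((iv D3947)).symm.trans (sb E1253 F18247))).symm
theorem E1701 : n4084 = n1800 := ((((iv D2370)).symm.trans (sb E1254 (iv F14092)))).symm
theorem E1702 : n5515 = n5234 := ((((iv F17840)).symm.trans (sb E1255 (iv F18756)))).symm
theorem E1720 : n12186 = n6764 := ((((iv F22793)).symm.trans (sb E1272 (iv F39989)))).symm
theorem E1721 : n7180 = n3949 := ((((iv D5176)).symm.trans (sb E1272 (iv D9371)))).symm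
theorem E1722 : n2289 = n1387 := (((iv D3009)).symm.trans (sb E1273 (tr F18676 E1483)))
theorem E1723 : n4210 = n3993 := ((((iv F13787)).symm.trans (sb E1274 (iv F14505)))).symm
theorem E1730 : n2434 = n2288 := (E1482).trans E1654
theorem E1736 : n2370 = n1367 := ((((iv F4987)).symm.trans (sb E1284 (iv F8399)))).symm
theorem E1737 : n1388 = n1364 := ((D1388).symm.trans (sb E1284 F6475))
theorem E1739 : n1389 = n1363 := ((D1389).symm.trans (sb E1284 (iv D1801)))
theorem F66425 : act 2 n1800 = n1370 := (sb E1286 F6494)
theorem E1741 : n3151 = n1043 := ((((iv F3857)).symm.trans (sb E1287 (tr F65195 E1313)))).symm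
theorem E1742 : n4228 = n4162 := ((F14568).symm.trans (sb E1291 F18544))
theorem E1743 : n5452 = n4162 := (E1291).trans E1742
theorem E1744 : n7122 = n5450 := ((((iv F18539)).symm.trans (sb E1743 (iv F23920)))).symm
theorem E1745 : n7125 = n5453 := (((D5453).symm.trans (sb E1743 D7125))).symm
theorem E1747 : n5527 = n5450 := (((iv F18802)).symm.trans (sb E1292 (tr F30811 E1744)))
theorem E1748 : n12102 = n5525 := ((((iv F18793)).symm.trans (sb E1292 (iv F39707)))).symm
theorem E1749 : n12106 = n3441 := (((F14549).symm.trans (sb E1292 D12106))).symm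
theorem E1750 : n7113 = n3217 := ((((iv D4222)).symm.trans (sb E1292 (iv D9286)))).symm
theorem E1751 : n12108 = n3447 := ((((iv F11942)).symm.trans (sb E1293 D12108))).symm
theorem E1759 : n20341 = n3422 := ((((iv D4482)).symm.trans (sb E1296 (iv F65412)))).symm
theorem E1764 : n11969 = n1043 := (((E1741).symm.trans (((iv F11010)).symm.trans (sb E1300 (iv F39322))))).symm
theorem E1765 : n9295 = n5450 := (E1301).trans E1747
theorem E1766 : n12110 = n7120 := ((((iv F23912)).symm.trans (sb E1765 (iv F39731)))).symm
theorem E1769 : n5534 = n5453 := ((F18824).symm.trans (sb E1302 (tr F30848 E1745)))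
theorem E1770 : n9297 = n5453 := (E1302).trans E1769
theorem E1771 : n12117 = n4477 := (((F18548).symm.trans (sb E1770 D12117))).symm
theorem E1773 : n7216 = n7120 := (((iv F24231)).symm.trans (sb E1304 (tr F51142 E1766)))
theorem E1776 : n12100 = n4220 := ((((iv D5525)).symm.trans (sb E1304 (iv D15754)))).symm
theorem E1778 : n20463 = n2624 := ((((iv D3441)).symm.trans (sb E1305 (iv F65785)))).symm
theorem E1783 : n4509 = n4477 := ((D4509).symm.trans (sb E1307 (tr F51162 E1771)))
theorem E1788 : n20262 = n4131 := ((((iv F14241)).symm.trans (sb E1311 (iv F65211)))).symm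
theorem E1790 : n20265 = n2587 := ((((iv F9078)).symm.trans (sb E1312 (iv F65224)))).symm
theorem E1791 : n15583 = n1043 := (E1313).trans E1741
theorem E1792 : n4131 = n1385 := (((D1385).symm.trans (sb E1791 (tr (iv F65213) E1788)))).symm
theorem E1793 : n2587 = n855 := (((F3860).symm.trans (sb E1791 (tr D20265 E1790)))).symm
theorem E1799 : n4222 = n4160 := ((((iv F14337)).symm.trans (sb E1318 (iv F14548)))).symm
theorem E1802 : n7112 = n4224 := ((((iv F14555)).symm.trans (sb E1319 (iv F23889)))).symm
theorem E1803 : n4468 = n2627 := (((F11245).symm.trans (sb E1319 F18520))).symm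
theorem E1808 : n12103 = n5529 := ((((iv F18808)).symm.trans (sb E1322 (iv F39709)))).symm
theorem E1809 : n12104 = n3443 := (((F14557).symm.trans (sb E1322 D12104))).symm
theorem E1810 : n7111 = n3219 := ((((iv D4224)).symm.trans (sb E1322 (iv D9284)))).symm
theorem E1811 : n7623 = n2015 := (((F9203).symm.trans (sb E1323 F30813))).symm
theorem E1814 : n7625 = n2019 := ((((iv F7161)).symm.trans (sb E1325 (iv F25527)))).symm
theorem E1820 : n12031 = n5509 := ((((iv D7199)).symm.trans (sb E1328 (iv D15668)))).symm
theorem E1826 : n11642 = n4226 := ((((iv F14561)).symm.trans (sb E1335 (iv F38285)))).symm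
theorem E1827 : n7612 = n2629 := (((F11253).symm.trans (sb E1335 F30786))).symm
theorem E1829 : n7614 = n1532 := (((F7089).symm.trans (sb E1336 (iv F25492)))).symm
theorem E1841 : n12913 = n1168 := (((F5505).symm.trans (sb E1344 (iv F42290)))).symm
theorem E1858 : n20427 = n866 := ((((iv D1147)).symm.trans (sb E1359 (iv F65665)))).symm
theorem E1865 : n3152 = n589 := (E1579).trans E1605
theorem E1870 : n11901 = n3204 := (((F14488).symm.trans (sb E1370 (iv D15493)))).symm
theorem E1872 : n11903 = n1991 := (((F9172).symm.trans (sb E1371 F50365))).symm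
theorem E1874 : n6997 = n1055 := (((E1581).symm.trans ((F8645).symm.trans (sb E1372 F30334)))).symm
theorem E1875 : n1968 = n641 := (E1589).trans E1607
theorem E1877 : n6998 = n646 := (((E1587).symm.trans ((F5423).symm.trans (sb E1373 F30339)))).symm
theorem E1880 : n4086 = n1058 := (((D1058).symm.trans (sb E1375 F18232))).symm
theorem E1882 : n20108 = n3077 := ((((iv F10761)).symm.trans (sb E1376 (iv F64724)))).symm
theorem E1891 : n6983 = n1016 := ((((iv F3764)).symm.trans (sb E1383 (iv F23490)))).symm
theorem E1892 : n15483 = n599 := (E1385).trans E1614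
theorem E1893 : n20078 = n784 := ((((iv F2947)).symm.trans (sb E1892 (iv F64632)))).symm
theorem E1896 : n9415 = n7120 := (E1387).trans E1773
theorem E1900 : n7217 = n5447 := ((((iv D7120)).symm.trans (sb E1896 (iv D9415)))).symm
theorem E1901 : n12268 = n5882 := (((F24243).symm.trans (sb E1388 D12268))).symm
theorem E1905 : n9424 = n4477 := (E1390).trans E1783
theorem E1908 : n5882 = n5849 := ((((iv F19808)).symm.trans (sb E1905 (tr (iv F40238) E1901)))).symm
theorem E1911 : n5524 = n5447 := ((D5524).symm.trans (sb E1393 (tr F31143 E1900)))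
theorem E1929 : n7077 = n5413 := ((((iv F18417)).symm.trans (sb E1406 (iv D9238)))).symm
theorem E1933 : n7079 = n3389 := ((((iv F11757)).symm.trans (sb E1409 F30673))).symm
theorem E1934 : n5414 = n1385 := (E1410).trans E1792
theorem E1936 : n5413 = n1761 := ((((iv F6334)).symm.trans (sb E1934 (tr (iv F23778) E1929)))).symm
theorem E1937 : n3389 = n1136 := (((F5049).symm.trans (sb E1934 (tr D7079 E1933)))).symm
theorem E1941 : n4451 = n3398 := ((((iv D4450)).symm.trans (sb E1413 F19717))).symm
theorem E1942 : n5427 = n855 := (E1414).trans E1793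
theorem E1945 : n3398 = n686 := (((F3178).symm.trans (sb E1942 (tr F18465 E1941)))).symm
theorem E1956 : n12882 = n9896 := ((((iv F32761)).symm.trans (sb E1423 (iv D16751)))).symm
theorem E1975 : n20275 = n5286 := ((((iv F18008)).symm.trans (sb E1442 (iv F65245)))).symm
theorem E1977 : n11976 = n1984 := (((F9145).symm.trans (sb E1443 F50681))).symm
theorem E1987 : n1058 = n1037 := ((((iv D1377)).symm.trans (sb E1450 (tr (iv F14098) E1880)))).symm
theorem E1997 : n11706 = n8980 := ((((iv F29857)).symm.trans (sb E1462 (iv F38489)))).symm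
theorem E1999 : n4110 = n3131 := (((F14178).symm.trans (sb E1463 F18330))).symm
theorem E2002 : n4080 = n1807 := ((((iv D2381)).symm.trans (sb E1465 (iv F14077)))).symm
theorem E2003 : n4079 = n3108 := ((((iv F10866)).symm.trans (sb E1466 (iv D5342)))).symm
theorem E2006 : n2368 = n1798 := ((((iv F6464)).symm.trans (sb E1468 (iv D3112)))).symm
theorem E2007 : n4086 = n1037 := (E1880).trans E1987
theorem E2008 : n3111 = n1396 := (E1469).trans E1653
theorem E2009 : n1837 = n1798 := ((F66400).symm.trans (sb E2008 (tr F10877 E2006)))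
theorem E2010 : n3108 = n1772 := ((((iv F6373)).symm.trans (sb E2008 (tr (iv F14074) E2003)))).symm
theorem E2024 : n3072 = n3005 := ((((iv F10516)).symm.trans (sb E1730 (iv F10746)))).symm
theorem E2025 : n5502 = n1832 := ((((iv F6579)).symm.trans (sb E1483 D5502))).symm
theorem E2034 : n784 = n450 := (((F1738).symm.trans (sb E1488 (tr D20078 E1893)))).symm
theorem E2073 : n9180 = n450 := (E1515).trans E2034
theorem E2074 : n1043 = n334 := ((((iv D450)).symm.trans (sb E2073 (tr D11969 E1764)))).symm
theorem E2118 : n4097 = n3121 := ((((iv D4098)).symm.trans (sb E1547 (iv D5367)))).symm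
theorem E2121 : n2362 = n1795 := ((((iv F6453)).symm.trans (sb E1550 (iv D3103)))).symm
theorem F66458 : act 1 n2374 = n2374 := (sb E1551 (iv D3120))
theorem F66459 : act 2 n1360 = n1360 := (sb E1554 (iv D1796))
theorem E2127 : n2360 = n1025 := ((((iv D1360)).symm.trans (sb E1554 (iv F8364)))).symm
theorem E2150 : n4452 = n866 := ((F19694).symm.trans (sb E1572 (tr (iv F65664) E1858)))
theorem E2153 : n4145 = n1408 := ((((iv F5119)).symm.trans (sb E1573 F18466))).symm
theorem E2154 : n7089 = n800 := (((F3920).symm.trans (sb E1573 (iv F23816)))).symm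
theorem E2155 : n4142 = n799 := ((((iv D1063)).symm.trans (sb E1573 F18468))).symm
theorem E2156 : n7096 = n1410 := (((D1410).symm.trans (sb E1573 D7096))).symm
theorem E2158 : n2591 = n868 := ((((iv F3214)).symm.trans (sb E1575 F11788))).symm
theorem E2160 : n2588 = n487 := ((((iv D654)).symm.trans (sb E1575 (iv D3399)))).symm
theorem E2161 : n4453 = n497 := (((F2460).symm.trans (sb E1575 D4453))).symm
theorem E2164 : n4139 = n449 := ((((iv D602)).symm.trans (sb E1578 (iv D5423)))).symm
theorem E2166 : n783 = n449 := (((iv F2944)).symm.trans (sb E1865 (tr (iv F14269) E2164)))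
theorem E2168 : n799 = n755 := ((((iv F2846)).symm.trans (sb E1865 (tr D4142 E2155)))).symm
theorem E2169 : n487 = n480 := (((F2255).symm.trans (sb E1865 (tr F11015 E2160)))).symm
theorem E2170 : n2392 = n1382 := (((F6563).symm.trans (sb E1580 (iv F8477)))).symm
theorem E2172 : n2400 = n1399 := (((iv F8503)).symm.trans (sb E1580 (iv D1849)))
theorem E2173 : n2436 = n2315 := ((((iv F8208)).symm.trans (sb E1580 D2436))).symm
theorem E2174 : n1503 = n1498 := (((F6564).symm.trans (sb E1580 F6640))).symm
theorem E2175 : n1407 = n1375 := ((((iv F5014)).symm.trans (sb E1581 F6665))).symm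
theorem E2176 : n2443 = n792 := ((((iv D1055)).symm.trans (sb E1581 (iv F8645)))).symm
theorem E2177 : n2346 = n1401 := (((D1401).symm.trans (sb E1581 (iv F8309)))).symm
theorem E2178 : n1512 = n858 := (((F3899).symm.trans (sb E1581 F6667))).symm
theorem E2179 : n3992 = n2437 := (((D2437).symm.trans (sb E1582 (iv F13783)))).symm
theorem E2181 : n1399 = n764 := (((F3714).symm.trans (sb E1640 (tr F11018 E2172)))).symm
theorem E2182 : n1328 = n792 := (((iv F4844)).symm.trans (sb E1640 (tr F11019 E2176)))
theorem E2183 : n4142 = n755 := (E2155).trans E2168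
theorem E2184 : n4134 = n1329 := (((D1329).symm.trans (sb E1640 (iv F14253)))).symm
theorem E2186 : n3986 = n2339 := ((((iv F8289)).symm.trans (sb E1584 (iv F13766)))).symm
theorem E2190 : n1490 = n853 := (((F4142).symm.trans (sb E1586 (iv F5374)))).symm
theorem E2192 : n1492 = n859 := (((iv F5379)).symm.trans (sb E1586 (iv D1140)))
theorem E2193 : n1508 = n852 := ((((iv D1132)).symm.trans (sb E1586 D1508))).symm
theorem E2194 : n863 = n850 := ((((iv F3162)).symm.trans (sb E1587 F4174))).symm
theorem E2195 : n852 = n482 := ((((iv D646)).symm.trans (sb E1587 (tr (iv F5423) E2193)))).symm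
theorem E2197 : n859 = n484 := (((F2423).symm.trans (sb E1875 (tr F6994 E2192)))).symm
theorem E2199 : n2588 = n480 := (E2160).trans E2169
theorem F66466 : act 0 n648 = n861 := (sb E1591 F4133)
theorem E2203 : n853 = n483 := ((((iv D648)).symm.trans (sb E1591 F4135))).symm
theorem E2204 : n1493 = n841 := ((((iv F3137)).symm.trans (sb E1591 D1493))).symm
theorem E2205 : n489 = n485 := ((F2439).symm.trans (sb E1592 F2444))
theorem E2206 : n864 = n840 := ((((iv F3133)).symm.trans (sb E1592 D864))).symm
theorem E2207 : n1506 = n1480 := (((D1480).symm.trans (sb E1593 (iv F5418)))).symm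
theorem E2208 : n1377 = n795 := (((D795).symm.trans (sb E1623 F6538))).symm
theorem E2209 : n1382 = n763 := ((((iv F2872)).symm.trans (sb E1623 (tr (iv F8478) E2170)))).symm
theorem E2210 : n1490 = n483 := (E2190).trans E2203
theorem E2215 : n2400 = n764 := (E2172).trans E2181
theorem F66470 : act 4 n1038 = n796 := (sb E1599 (iv D1060))
theorem F66471 : act 1 n596 = n782 := (sb E1600 F3848)
theorem E2218 : n794 = n781 := ((D794).symm.trans (sb E1600 (iv D1040)))
theorem F66473 : act 4 n598 = n795 := (sb E1603 F3901)
theorem E2220 : n1392 = n791 := ((((iv F2973)).symm.trans (sb E1603 (iv F5073)))).symm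
theorem E2223 : n1342 = n1329 := (((D1329).symm.trans (sb E1606 (iv F4894)))).symm
theorem E2224 : n1390 = n1323 := ((((iv F4829)).symm.trans (sb E1606 (iv F5066)))).symm
theorem E2226 : n1375 = n1327 := (((iv F5016)).symm.trans (sb E1608 (iv F4842)))
theorem E2227 : n1407 = n1327 := (E2175).trans E2226
theorem F66474 : act 4 n597 = n782 := (sb E1611 (iv D1041))
theorem E2228 : n2395 = n1348 := (((D1348).symm.trans (sb E1612 (iv F8488)))).symm
theorem F66475 : act 0 n1052 = n1394 := (sb E1613 F6511)
theorem F66476 : act 4 n1052 = n1370 := (sb E1613 (iv D1811))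
theorem F66477 : act 2 n599 = n795 := (sb E1614 (iv F2982))
theorem E2230 : n798 = n769 := ((D798).symm.trans (sb E1614 (iv F2894)))
theorem E2231 : n1349 = n1344 := ((((iv F4900)).symm.trans (sb E1615 (iv F4914)))).symm
theorem F66478 : act 3 n1051 = n1394 := (sb E1616 (iv F5078))
theorem E2233 : n2342 = n2340 := (((iv F8298)).symm.trans (sb E1617 (iv F8291)))
theorem F66479 : act 5 n1771 = n1394 := (sb E1618 (iv D1844))
theorem F66480 : act 1 n1051 = n1370 := (sb E1620 F6508)
theorem E2235 : n1394 = n1369 := ((F66478).symm.trans (sb E1620 (iv D1810)))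
theorem E2236 : n2381 = n1339 := ((((iv F4883)).symm.trans (sb E1620 (iv F8443)))).symm
theorem E2237 : n2380 = n1340 := ((((iv F4887)).symm.trans (sb E1621 (iv F8439)))).symm
theorem E2239 : n2392 = n763 := (E2170).trans E2209
theorem E2246 : n4183 = n1336 := ((((iv F4872)).symm.trans (sb E1627 (iv F14417)))).symm
theorem E2249 : n4017 = n3969 := ((((iv F13709)).symm.trans (sb E1629 (iv F13865)))).symm
theorem E2251 : n2336 = n2297 := ((((iv F8145)).symm.trans (sb E1642 (iv F8279)))).symm
theorem E2253 : n2300 = n1368 := ((((iv F4992)).symm.trans (sb E1632 (iv F8157)))).symm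
theorem F66484 : act 1 n1035 = n789 := (sb E1633 (iv D1049))
theorem F66485 : act 4 n1035 = n790 := (sb E1633 F3880)
theorem F66486 : act 0 n1034 = n1370 := (sb E1634 (iv F4998))
theorem F66487 : act 3 n1034 = n789 := (sb E1634 (iv D1050))
theorem E2254 : n1391 = n1322 := ((((iv F4823)).symm.trans (sb E1634 (iv F5068)))).symm
theorem E2255 : n2382 = n2297 := (((iv F8446)).symm.trans (sb E1637 (tr F10736 E2251)))
theorem F66488 : act 5 n1747 = n1370 := (sb E1641 F6501)
theorem E2259 : n4020 = n3966 := ((((iv F13702)).symm.trans (sb E1643 (iv F13874)))).symm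
theorem E2261 : n4102 = n2335 := (((F10732).symm.trans (sb E1645 (iv F14154)))).symm
theorem E2262 : n4166 = n4030 := (((D4030).symm.trans (sb E1645 (iv F14357)))).symm
theorem F66490 : act 5 n3069 = n2416 := (sb E1645 (iv D3178))
theorem E2264 : n4098 = n4032 := (((iv F14139)).symm.trans (sb E1647 F17993))
theorem E2265 : n6894 = n4006 := ((((iv F13831)).symm.trans (sb E1647 (iv F23189)))).symm
theorem E2271 : n3124 = n3005 := (E1650).trans E2024
theorem E2272 : n2416 = n2286 := ((((iv D3005)).symm.trans (sb E2271 F10923))).symm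
theorem E2273 : n4032 = n3943 := (((D3943).symm.trans (sb E2271 (tr (iv F14140) E2264)))).symm
theorem E2274 : n3940 = n2335 := (((iv F13610)).symm.trans (sb E2271 (tr D4102 E2261)))
theorem F66492 : act 4 n1396 = n1800 := (sb E1653 F8389)
theorem E2275 : n1834 = n1739 := ((((iv D2288)).symm.trans (sb E1654 F8421))).symm
theorem E2276 : n3008 = n1804 := ((D3008).symm.trans (sb E1654 (iv D2376)))
theorem E2301 : n4482 = n2607 := (((F11078).symm.trans (sb E1677 F18732))).symm
theorem E2310 : n8831 = n6764 := ((((iv D8833)).symm.trans (sb E1688 (iv D11514)))).symm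
theorem E2311 : n5175 = n3949 := ((((iv D5176)).symm.trans (sb E1689 (iv D6765)))).symm
theorem E2320 : n1802 = n1364 := (((E1737).symm.trans ((D1388).symm.trans (sb E1695 F8406)))).symm
theorem E2325 : n4091 = n1804 := (E1700).trans E2276
theorem F66510 : act 3 n1804 = n5350 := (sb E2325 (iv F18223))
theorem E2327 : n5350 = n2288 := ((((iv F8112)).symm.trans (sb E1701 D5350))).symm
theorem E2328 : n7202 = n6842 := ((((iv F23027)).symm.trans (sb E1702 (iv F24188)))).symm
theorem E2344 : n15864 = n8832 := (((D8832).symm.trans (sb E1720 D15864))).symm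
theorem E2345 : n9348 = n5174 := ((((iv D6764)).symm.trans (sb E1720 (iv D12186)))).symm
theorem E2346 : n3010 = n1832 := ((F13644).symm.trans (sb E1721 (tr F24109 E2025)))
theorem E2347 : n1833 = n1740 := ((D1833).symm.trans (sb E1722 F8115))
theorem E2349 : n5512 = n5232 := ((((iv F17832)).symm.trans (sb E1723 (iv F18747)))).symm
theorem F66522 : act 3 n1367 = n1800 := (sb E1736 (iv D2370))
theorem F66523 : act 1 n1364 = n1047 := (sb E1737 (iv D1388))
theorem F66524 : act 3 n1363 = n1047 := (sb E1739 (iv D1389))
theorem E2370 : n3151 = n334 := (E1741).trans E2074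
theorem E2372 : n1385 = n432 := ((((iv F1677)).symm.trans (sb E2370 (tr (iv F14243) E1792)))).symm
theorem E2373 : n855 = n270 := (((F1308).symm.trans (sb E2370 (tr F11012 E1793)))).symm
theorem E2379 : n9282 = n4220 := ((((iv D5525)).symm.trans (sb E1748 (iv D12102)))).symm
theorem E2380 : n15760 = n4502 := ((((iv F15421)).symm.trans (sb E1749 D15760))).symm
theorem E2381 : n15741 = n2624 := ((((iv D3441)).symm.trans (sb E1749 (iv F51102)))).symm
theorem E2382 : n9270 = n2447 := ((((iv D3217)).symm.trans (sb E1750 (iv F30767)))).symm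
theorem E2383 : n9935 = n2650 := (((F11941).symm.trans (sb E1751 F39721))).symm
theorem E2389 : n15640 = n2608 := ((((iv D3422)).symm.trans (sb E1759 (iv D20341)))).symm
theorem E2390 : n4131 = n432 := (E1792).trans E2372
theorem E2392 : n2587 = n270 := (E1793).trans E2373
theorem E2401 : n5525 = n5448 := (((F23911).symm.trans (sb E1773 F24231))).symm
theorem E2403 : n15735 = n3216 := ((((iv D4220)).symm.trans (sb E1776 (iv F51083)))).symm
theorem E2404 : n15740 = n1995 := ((((iv D2624)).symm.trans (sb E1778 (iv D20463)))).symm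
theorem E2412 : n1761 = n577 := ((((iv F2209)).symm.trans (sb E2390 (tr D5413 E1936)))).symm
theorem E2413 : n1136 = n353 := (((F1679).symm.trans (sb E2390 (tr F14244 E1937)))).symm
theorem E2416 : n3397 = n363 := ((((iv F1401)).symm.trans (sb E2392 D3397))).symm
theorem E2417 : n3389 = n353 := (E1937).trans E2413
theorem E2418 : n686 = n204 := (((F1055).symm.trans (sb E2392 (tr D3398 E1945)))).symm
theorem E2419 : n3441 = n3418 := (((F14338).symm.trans (sb E1799 F14549))).symm
theorem E2422 : n8934 = n5529 := ((((iv F18808)).symm.trans (sb E1802 (iv F29711)))).symm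
theorem E2423 : n5838 = n3443 := (((F14557).symm.trans (sb E1802 F23891))).symm
theorem E2424 : n5442 = n3219 := ((((iv D4224)).symm.trans (sb E1802 (iv D7112)))).symm
theorem E2425 : n5840 = n2015 := (((F9203).symm.trans (sb E1803 (iv F19776)))).symm
theorem E2432 : n15758 = n4504 := (((F18810).symm.trans (sb E1808 D15758))).symm
theorem E2433 : n9283 = n4223 := ((((iv D5529)).symm.trans (sb E1808 (iv D12103)))).symm
theorem E2434 : n9931 = n2646 := (((F11929).symm.trans (sb E1809 F39711))).symm
theorem E2435 : n15739 = n2626 := ((((iv D3443)).symm.trans (sb E1809 (iv F51096)))).symm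
theorem E2436 : n9268 = n2448 := ((((iv D3219)).symm.trans (sb E1810 (iv F30760)))).symm
theorem E2437 : n9933 = n2644 := ((((iv F9269)).symm.trans (sb E1811 (iv F32891)))).symm
theorem E2441 : n9934 = n1543 := (((F7160).symm.trans (sb E1814 (iv F32894)))).symm
theorem E2446 : n15637 = n4204 := ((((iv D5509)).symm.trans (sb E1820 (iv F50787)))).symm
theorem E2450 : n15163 = n5531 := ((((iv F18814)).symm.trans (sb E1826 (iv F49332)))).symm
theorem E2451 : n9794 = n3445 := (((F14563).symm.trans (sb E1826 F38288))).symm
theorem E2452 : n8928 = n3221 := ((((iv D4226)).symm.trans (sb E1826 (iv D11642)))).symm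
theorem E2453 : n9921 = n2017 := (((F9209).symm.trans (sb E1827 (iv F32850)))).symm
theorem E2456 : n9923 = n1168 := (((F5505).symm.trans (sb E1829 (iv F32857)))).symm
theorem E2470 : n16764 = n883 := ((((iv D1168)).symm.trans (sb E1841 (iv F54333)))).symm
theorem E2483 : n15470 = n4036 := ((((iv F13927)).symm.trans (sb E1870 (iv F50287)))).symm
theorem E2486 : n9133 = n858 := (((E2178).symm.trans ((F7061).symm.trans (sb E1872 F39103)))).symm
theorem E2488 : n9118 = n1401 := (((D1401).symm.trans (sb E1874 (iv F30299)))).symm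
theorem E2490 : n5354 = n861 := (((D861).symm.trans (sb E1877 F23534))).symm
theorem E2493 : n5345 = n1374 := ((((iv F5012)).symm.trans (sb E2007 (iv F18207)))).symm
theorem E2494 : n861 = n849 := (((F3841).symm.trans (sb E2007 (tr D5354 E2490)))).symm
theorem E2495 : n15466 = n2345 := (((F10762).symm.trans (sb E1882 F64725))).symm
theorem E2502 : n5354 = n849 := (E2490).trans E2494
theorem E2504 : n1374 = n1347 := ((((iv F4906)).symm.trans (sb E1891 (tr F23487 E2493)))).symm
theorem E2522 : n4502 = n4474 := ((((iv D5849)).symm.trans (sb E1908 (iv D5882)))).symm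
theorem E2526 : n4220 = n4158 := ((((iv D5447)).symm.trans (sb E1911 (iv D5524)))).symm
theorem E2571 : n2608 = n260 := ((((iv D353)).symm.trans (sb E2417 F11757))).symm
theorem E2593 : n16739 = n12873 := ((((iv F42144)).symm.trans (sb E1956 (iv F54238)))).symm
theorem E2608 : n15590 = n4034 := ((((iv D5286)).symm.trans (sb E1975 (iv D20275)))).symm
theorem E2609 : n9191 = n2583 := ((((iv F9066)).symm.trans (sb E1977 F39340))).symm
theorem E2617 : n5345 = n1347 := (E2493).trans E2504
theorem F66556 : act 0 n1037 = n796 := (sb E1987 (iv F66392))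
theorem E2626 : n15202 = n11675 := ((((iv F38388)).symm.trans (sb E1997 (iv F49456)))).symm
theorem E2629 : n5386 = n3963 := ((((iv F13690)).symm.trans (sb E1999 D5386))).symm
theorem E2633 : n3109 = n2365 := ((((iv F8379)).symm.trans (sb E2002 (iv D4080)))).symm
theorem E2635 : n4079 = n1772 := (E2003).trans E2010
theorem E2636 : n2365 = n2333 := ((((iv F8266)).symm.trans (sb E2635 (tr F14072 E2633)))).symm
theorem E2638 : n1799 = n1362 := ((((iv D1798)).symm.trans (sb E2006 F8392))).symm
theorem F66559 : act 3 n1798 = n1798 := (sb E2006 (iv D2368))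
theorem E2639 : n3109 = n2333 := (E2633).trans E2636
theorem F66560 : act 0 n1798 = n1396 := (sb E2009 (iv F66400))
theorem F66565 : act 0 n450 = n599 := (sb E2034 F2947)
theorem F66566 : act 4 n450 = n589 := (sb E2034 (iv D784))
theorem F66571 : act 1 n3121 = n3121 := (sb E2118 F14135)
theorem F66572 : act 2 n1795 = n1795 := (sb E2121 (iv D2362))
theorem E2724 : n3102 = n2361 := ((((iv F8367)).symm.trans (sb E2121 (iv F10845)))).symm
theorem E2725 : n3098 = n1359 := ((((iv D1795)).symm.trans (sb E2121 (iv F10833)))).symm
theorem E2731 : n1793 = n1357 := ((((iv F4948)).symm.trans (sb E2127 (iv D2360)))).symm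
theorem E2741 : n9282 = n4158 := (E2379).trans E2526
theorem E2745 : n3403 = n1146 := ((((iv F4180)).symm.trans (sb E2150 F15252))).symm
theorem E2747 : n3400 = n651 := ((((iv D866)).symm.trans (sb E2150 F15254))).symm
theorem E2748 : n5822 = n1148 := (((D1148).symm.trans (sb E2150 D5822))).symm
theorem E2749 : n5823 = n660 := (((F3209).symm.trans (sb E2150 D5823))).symm
theorem E2751 : n3156 = n1062 := ((((iv D1408)).symm.trans (sb E2153 F14289))).symm
theorem E2752 : n5432 = n1860 := (((D1860).symm.trans (sb E2153 D5432))).symm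
theorem E2753 : n5424 = n600 := ((((iv D800)).symm.trans (sb E2154 F23818))).symm
theorem E2755 : n1062 = n575 := (((F2845).symm.trans (sb E2183 (tr F14279 E2751)))).symm
theorem E2756 : n1003 = n600 := (((iv F3719)).symm.trans (sb E2183 (tr (iv F18454) E2753)))
theorem E2757 : n5416 = n1004 := (((D1004).symm.trans (sb E2183 (iv F18428)))).symm
theorem E2758 : n651 = n628 := (((F2848).symm.trans (sb E2183 (tr F14281 E2747)))).symm
theorem E2759 : n9242 = n1786 := ((((iv F6416)).symm.trans (sb E2156 (iv F30676)))).symm
theorem E2760 : n1969 = n653 := ((((iv D868)).symm.trans (sb E2158 (iv D2591)))).symm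
theorem E2761 : n3404 = n662 := (((F3217).symm.trans (sb E2158 D3404))).symm
theorem E2763 : n653 = n361 := (((F1840).symm.trans (sb E2199 (tr F9080 E2760)))).symm
theorem E2764 : n642 = n363 := (((iv F2427)).symm.trans (sb E2199 (tr (iv F11783) E2416)))
theorem E2765 : n3400 = n628 := (E2747).trans E2758
theorem E2766 : n3401 = n387 := (((F1841).symm.trans (sb E2199 D3401))).symm
theorem E2767 : n387 = n369 := ((((iv D497)).symm.trans (sb E2161 (tr F15256 E2766)))).symm
theorem E2770 : n3156 = n575 := (E2751).trans E2755
theorem E2771 : n1969 = n361 := (E2760).trans E2763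
theorem F66577 : act 1 n449 = n589 := (sb E2166 F2944)
theorem E2775 : n602 = n588 := ((D602).symm.trans (sb E2166 (iv D783)))
theorem E2777 : n1019 = n1004 := (((D1004).symm.trans (sb E2168 (iv F3772)))).symm
theorem F66578 : act 4 n480 = n364 := (sb E2169 F1857)
theorem E2779 : n1817 = n1015 := (((D1015).symm.trans (sb E2239 F8476))).symm
theorem E2780 : n3147 = n1013 := ((((iv F3756)).symm.trans (sb E2239 D3147))).symm
theorem E2786 : n3150 = n1017 := (((D1017).symm.trans (sb E2215 (iv F11007)))).symm
theorem E2787 : n1971 = n632 := (((F2876).symm.trans (sb E2215 F8504))).symm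
theorem E2788 : n1758 = n1013 := ((F8207).symm.trans (sb E2173 (tr (iv F10998) E2780)))
theorem E2789 : n3074 = n3038 := ((((iv F10630)).symm.trans (sb E2173 (iv F10754)))).symm
theorem E2790 : n3204 = n1757 := ((((iv D2315)).symm.trans (sb E2173 D3204))).symm
theorem E2791 : n1984 = n1941 := (((F8209).symm.trans (sb E2173 F8625))).symm
theorem E2793 : n1137 = n632 := (((E2787).symm.trans (((iv F7004)).symm.trans (sb E2174 (iv D1503))))).symm
theorem E2794 : n1783 = n1752 := ((((iv F6304)).symm.trans (sb E2227 (iv F6406)))).symm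
theorem E2795 : n1145 = n1106 := (((F4843).symm.trans (sb E2227 F5118))).symm
theorem E2797 : n1757 = n1012 := ((((iv F3752)).symm.trans (sb E2176 (tr (iv F11188) E2790)))).symm
theorem E2799 : n1818 = n1752 := (((iv F6535)).symm.trans (sb E2177 (tr F8307 E2794)))
theorem E2800 : n3081 = n1777 := ((((iv F6390)).symm.trans (sb E2177 (iv F10773)))).symm
theorem F66582 : act 5 n1401 = n1782 := (sb E2177 (iv D2346))
theorem E2801 : n1955 = n1139 := (((F5101).symm.trans (sb E2177 F8310))).symm
theorem E2802 : n1126 = n1106 := (((iv F4123)).symm.trans (sb E2178 (tr F5434 E2795)))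
theorem E2803 : n5231 = n3205 := (((D3205).symm.trans (sb E2179 (iv F17828)))).symm
theorem E2805 : n1775 = n1017 := (((D1017).symm.trans (sb E2181 (iv F6384)))).symm
theorem E2807 : n1755 = n1036 := ((((iv F3836)).symm.trans (sb E2182 (iv F6311)))).symm
theorem F66583 : act 1 n792 = n1002 := (sb E2182 F4844)
theorem E2808 : n1055 = n1001 := ((D1055).symm.trans (sb E2182 (iv D1328)))
theorem E2809 : n1107 = n644 := (((F2976).symm.trans (sb E2182 F4846))).symm
theorem E2810 : n3204 = n1012 := (E2790).trans E2797
theorem E2811 : n5216 = n1754 := ((((iv F6309)).symm.trans (sb E2184 (iv F17788)))).symm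
theorem E2813 : n5224 = n3075 := ((((iv F10756)).symm.trans (sb E2186 (iv F17811)))).symm
theorem E2814 : n1776 = n1754 := (((iv D2339)).symm.trans (sb E2186 (tr (iv F17789) E2811)))
theorem E2815 : n3077 = n3035 := ((D3077).symm.trans (sb E2186 (iv D3986)))
theorem E2820 : n1128 = n647 := (((D647).symm.trans (sb E2210 F5373))).symm
theorem F66586 : act 4 n850 = n648 := (sb E2194 (iv D863))
theorem F66587 : act 1 n482 = n641 := (sb E2195 F3168)
theorem E2826 : n646 = n640 := ((D646).symm.trans (sb E2195 (iv D852)))
theorem F66589 : act 4 n484 = n647 := (sb E2197 F3189)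
theorem F66590 : act 4 n483 = n641 := (sb E2203 (iv D853))
theorem E2828 : n1966 = n1118 := (((D1118).symm.trans (sb E2204 (iv F6990)))).symm
theorem F66591 : act 0 n485 = n364 := (sb E2205 (iv D489))
theorem F66592 : act 2 n485 = n647 := (sb E2205 (iv F2439))
theorem E2829 : n650 = n637 := ((D650).symm.trans (sb E2205 (iv F2412)))
theorem E2830 : n388 = n371 := ((F1853).symm.trans (sb E2205 F1865))
theorem E2831 : n1119 = n1114 := ((((iv F4088)).symm.trans (sb E2206 (iv F4102)))).symm
theorem E2832 : n1951 = n1949 := (((iv F6948)).symm.trans (sb E2207 (iv F6942)))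
theorem F66593 : act 1 n795 = n1038 := (sb E2208 F5022)
theorem F66594 : act 3 n795 = n1037 := (sb E2208 (iv D1377))
theorem F66595 : act 0 n781 = n1038 := (sb E2218 (iv F3842))
theorem F66596 : act 3 n781 = n596 := (sb E2218 (iv D794))
theorem F66597 : act 4 n791 = n1051 := (sb E2220 F5072)
theorem E2843 : n1766 = n1749 := ((((iv F6293)).symm.trans (sb E2223 (iv F6352)))).symm
theorem F66598 : act 1 n1323 = n1048 := (sb E2224 (iv D1390))
theorem F66599 : act 5 n1327 = n1038 := (sb E2226 F5016)
theorem E2845 : n3033 = n1780 := ((((iv F6397)).symm.trans (sb E2228 (iv F10616)))).symm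
theorem E2847 : n1021 = n1018 := (((iv F3781)).symm.trans (sb E2230 (iv F3769)))
theorem F66600 : act 5 n769 = n599 := (sb E2230 (iv D798))
theorem E2848 : n1781 = n1778 := (((D1778).symm.trans (sb E2231 (iv F6399)))).symm
theorem E2850 : n3079 = n2978 := ((((iv F10418)).symm.trans (sb E2233 (iv F10767)))).symm
theorem E2851 : n3064 = n3062 := ((((iv F10710)).symm.trans (sb E2233 (iv F10717)))).symm
theorem F66603 : act 0 n1369 = n1052 := (sb E2235 (iv F66475))
theorem F66604 : act 3 n1369 = n1051 := (sb E2235 (iv F66478))
theorem E2852 : n1807 = n1771 := (((iv F6497)).symm.trans (sb E2235 (iv F66479)))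
theorem E2853 : n3131 = n1768 := ((((iv F6358)).symm.trans (sb E2236 D3131))).symm
theorem E2854 : n3018 = n1773 := (((D1773).symm.trans (sb E2237 (iv F10563)))).symm
theorem E2864 : n5265 = n1767 := (((D1767).symm.trans (sb E2246 (iv F17938)))).symm
theorem E2867 : n5263 = n5200 := ((((iv F17736)).symm.trans (sb E2249 (iv F17931)))).symm
theorem E2868 : n3023 = n1767 := (((iv D3969)).symm.trans (sb E2249 (tr D5265 E2864)))
theorem E2870 : n3067 = n3021 := (((D3021).symm.trans (sb E2251 (iv F10724)))).symm
theorem F66607 : act 3 n1368 = n1747 := (sb E2253 (iv D2300))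
theorem F66608 : act 3 n1322 = n1048 := (sb E2254 (iv D1391))
theorem E2872 : n3021 = n3020 := ((D3021).symm.trans (sb E2255 (iv F10572)))
theorem E2873 : n3067 = n3020 := (E2870).trans E2872
theorem E2877 : n5267 = n5196 := ((((iv F17725)).symm.trans (sb E2259 (iv F17945)))).symm
theorem E2880 : n5368 = n3071 := (((D3071).symm.trans (sb E2261 (iv F18281)))).symm
theorem F66610 : act 5 n4030 = n3174 := (sb E2262 (iv D4166))
theorem E2884 : n4098 = n3943 := (E2264).trans E2273
theorem E2885 : n3174 = n3006 := (((F13621).symm.trans (sb E2884 F14139))).symm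
theorem E2886 : n5180 = n5165 := (((D5165).symm.trans (sb E2884 (iv F17676)))).symm
theorem E2887 : n5166 = n3121 := ((D5166).symm.trans (sb E2884 (iv D4098)))
theorem E2888 : n5161 = n3071 := (((iv F17605)).symm.trans (sb E2884 (tr D5368 E2880)))
theorem E2891 : n9002 = n3051 := ((((iv D4006)).symm.trans (sb E2265 D9002))).symm
theorem E2901 : n3069 = n3003 := ((((iv F10507)).symm.trans (sb E2272 (iv F66490)))).symm
theorem F66612 : act 5 n2335 = n3005 := (sb E2274 F13610)
theorem F66613 : act 3 n1739 = n1387 := (sb E2275 (iv D1834))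
theorem E2938 : n3422 = n1981 := ((((iv D2607)).symm.trans (sb E2301 (iv D4482)))).symm
theorem E2946 : n6763 = n5174 := ((((iv D6764)).symm.trans (sb E2310 (iv D8831)))).symm
theorem E2947 : n3951 = n1832 := (((E2346).symm.trans ((F13644).symm.trans (sb E2311 F17657)))).symm
theorem F66631 : act 4 n1364 = n1364 := (sb E2320 (iv D1802))
theorem F66634 : act 3 n2288 = n1804 := (sb E2327 (iv F66510))
theorem E2967 : n9394 = n8932 := ((((iv F29706)).symm.trans (sb E2328 (iv F31166)))).symm
theorem E2968 : n5865 = n5755 := (((F23029).symm.trans (sb E2328 F24191))).symm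
theorem E2990 : n19835 = n11497 := ((((iv F37856)).symm.trans (sb E2344 (iv F63876)))).symm
theorem E2991 : n11714 = n6753 := ((((iv F22756)).symm.trans (sb E2345 (iv F38513)))).symm
theorem E2993 : n2412 = n2290 := ((D2412).symm.trans (sb E2346 F10535))
theorem E2995 : n3945 = n2413 := (((D2413).symm.trans (sb E2346 (iv F13628)))).symm
theorem F66641 : act 1 n1740 = n1387 := (sb E2347 (iv D1833))
theorem E2997 : n7201 = n6841 := (((D6841).symm.trans (sb E2349 D7201))).symm
theorem E2998 : n4208 = n3991 := ((((iv D5232)).symm.trans (sb E2349 (iv D5512)))).symm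
theorem E3036 : n12084 = n3167 := ((((iv D4158)).symm.trans (sb E2741 (iv F39655)))).symm
theorem E3037 : n15760 = n4474 := (E2380).trans E2522
theorem E3038 : n12923 = n5848 := ((((iv F19803)).symm.trans (sb E3037 F51157))).symm
theorem E3041 : n20464 = n3417 := ((((iv D4474)).symm.trans (sb E3037 (iv F65789)))).symm
theorem E3043 : n12088 = n1995 := ((((iv D2624)).symm.trans (sb E2381 (iv D15741)))).symm
theorem E3044 : n3216 = n3167 := ((D3216).symm.trans (sb E2382 (tr (iv F39653) E3036)))
theorem E3047 : n5848 = n3463 := ((((iv F12008)).symm.trans (sb E2383 (tr (iv F42322) E3038)))).symm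
theorem E3061 : n15640 = n260 := (E2389).trans E2571
theorem E3063 : n1995 = n190 := (((F1021).symm.trans (sb E3061 (tr F50794 E3043)))).symm
theorem E3075 : n4500 = n4472 := (((F18532).symm.trans (sb E2401 F18795))).symm
theorem E3079 : n15735 = n3167 := (E2403).trans E3044
theorem E3080 : n20458 = n2603 := (((F11063).symm.trans (sb E3079 D20458))).symm
theorem E3081 : n15740 = n190 := (E2404).trans E3063
theorem E3083 : n2603 = n252 := ((((iv F996)).symm.trans (sb E3081 (tr (iv F65769) E3080)))).symm
theorem E3088 : n2240 = n768 := (((D768).symm.trans (sb E2412 (iv F7959)))).symm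
theorem E3089 : n1331 = n766 := ((((iv F2882)).symm.trans (sb E2412 (iv D1761)))).symm
theorem E3096 : n4448 = n486 := ((((iv F1855)).symm.trans (sb E2416 D4448))).symm
theorem E3097 : n906 = n149 := ((((iv D204)).symm.trans (sb E2418 (iv F3362)))).symm
theorem E3098 : n516 = n275 := ((((iv F1076)).symm.trans (sb E2418 (iv D686)))).symm
theorem E3099 : n2624 = n2604 := ((((iv D3418)).symm.trans (sb E2419 (iv D3441)))).symm
theorem E3106 : n7517 = n4504 := (((F18810).symm.trans (sb E2422 F29714))).symm
theorem E3107 : n6844 = n4223 := ((((iv D5529)).symm.trans (sb E2422 (iv D8934)))).symm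
theorem E3108 : n7620 = n2646 := (((F11929).symm.trans (sb E2423 (iv F25511)))).symm
theorem E3109 : n4466 = n2626 := ((((iv D3443)).symm.trans (sb E2423 (iv D5838)))).symm
theorem E3110 : n4153 = n2448 := ((((iv D3219)).symm.trans (sb E2424 (iv D5442)))).symm
theorem E3111 : n7622 = n2644 := ((((iv F9269)).symm.trans (sb E2425 (iv F25517)))).symm
theorem E3121 : n20462 = n3442 := ((((iv D4504)).symm.trans (sb E2432 (iv F65782)))).symm
theorem E3122 : n12085 = n3218 := ((((iv D4223)).symm.trans (sb E2433 (iv F39657)))).symm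
theorem E3123 : n12920 = n3461 := ((((iv F11998)).symm.trans (sb E2434 (iv F42313)))).symm
theorem E3125 : n12902 = n2014 := ((((iv D2646)).symm.trans (sb E2434 (iv F42251)))).symm
theorem E3126 : n12086 = n1996 := ((((iv D2626)).symm.trans (sb E2435 (iv D15739)))).symm
theorem E3127 : n7101 = n1860 := (((F8662).symm.trans (sb E2436 (iv D9268)))).symm
theorem E3128 : n12922 = n2023 := (((F9268).symm.trans (sb E2437 (iv F42319)))).symm
theorem E3129 : n12923 = n3463 := (E3038).trans E3047
theorem E3133 : n12905 = n1169 := ((((iv D1543)).symm.trans (sb E2441 (iv F42263)))).symm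
theorem E3139 : n20293 = n5286 := ((((iv F18008)).symm.trans (sb E2446 (iv F65292)))).symm
theorem E3146 : n11641 = n4225 := ((((iv D5531)).symm.trans (sb E2450 (iv D15163)))).symm
theorem E3147 : n12755 = n4506 := ((((iv F15432)).symm.trans (sb E2451 (iv F41777)))).symm
theorem E3148 : n7511 = n2628 := ((((iv D3445)).symm.trans (sb E2451 (iv D9794)))).symm
theorem E3149 : n6839 = n2450 := ((((iv D3221)).symm.trans (sb E2452 (iv D8928)))).symm
theorem E3150 : n12909 = n1541 := (((F7153).symm.trans (sb E2453 (iv F42274)))).symm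
theorem E3154 : n12912 = n1539 := ((((iv F5533)).symm.trans (sb E2456 (iv F42285)))).symm
theorem E3166 : n12894 = n665 := ((((iv D883)).symm.trans (sb E2470 (iv D16764)))).symm
theorem E3180 : n20113 = n5287 := ((((iv F18012)).symm.trans (sb E2483 D20113))).symm
theorem E3181 : n11884 = n1777 := (((E2800).symm.trans ((F13928).symm.trans (sb E2483 F50288)))).symm
theorem E3184 : n11887 = n1139 := (((D1139).symm.trans (sb E2486 (iv F39053)))).symm
theorem E3187 : n6987 = n1782 := (((F66582).symm.trans (sb E2488 F30300))).symm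
theorem E3189 : n6988 = n1125 := ((((iv F4121)).symm.trans (sb E2502 (iv F23505)))).symm
theorem E3192 : n1125 = n1117 := (((F4909).symm.trans (sb E2617 (tr D6988 E3189)))).symm
theorem F66654 : act 0 n849 = n648 := (sb E2494 (iv F66466))
theorem E3194 : n20109 = n3082 := ((((iv F10775)).symm.trans (sb E2495 D20109))).symm
theorem E3195 : n11880 = n1780 := ((((iv D2345)).symm.trans (sb E2495 F50274))).symm
theorem E3203 : n1782 = n1750 := ((D1782).symm.trans (sb E2504 (iv F6296)))
theorem F66655 : act 5 n1347 = n1037 := (sb E2504 F5012)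
theorem E3264 : n1981 = n189 := ((((iv D260)).symm.trans (sb E2571 (tr D3422 E2938)))).symm
theorem E3285 : n12874 = n9891 := ((((iv D12873)).symm.trans (sb E2593 F54239))).symm
theorem E3292 : n20274 = n5284 := ((((iv F18002)).symm.trans (sb E2608 D20274))).symm
theorem E3296 : n7045 = n1965 := (((F9065).symm.trans (sb E2609 F30529))).symm
theorem E3297 : n11982 = n3340 := ((((iv F11618)).symm.trans (sb E2609 (iv F39358)))).symm
theorem E3314 : n19514 = n8956 := ((((iv D11675)).symm.trans (sb E2626 (iv F62951)))).symm
theorem E3318 : n6788 = n5192 := ((((iv F17713)).symm.trans (sb E2629 (iv F22868)))).symm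
theorem E3322 : n3068 = n2366 := ((D3068).symm.trans (sb E2639 F10870))
theorem E3323 : n4081 = n3003 := (((E2901).symm.trans ((D3069).symm.trans (sb E2639 D4081)))).symm
theorem E3324 : n6987 = n1750 := (E3187).trans E3203
theorem E3325 : n2366 = n1797 := ((E3322).symm.trans ((D3068).symm.trans (sb E2636 (iv D2365))))
theorem F66684 : act 5 n2333 = n1798 := (sb E2636 F8380)
theorem F66685 : act 3 n1362 = n1362 := (sb E2638 (iv D1799))
theorem E3327 : n3068 = n1797 := (E3322).trans E3325
theorem F66693 : act 2 n2361 = n2361 := (sb E2724 (iv D3102))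
theorem E3442 : n2358 = n1791 := ((((iv F6436)).symm.trans (sb E2725 (iv D3098)))).symm
theorem F66694 : act 6 n1357 = n1357 := (sb E2731 (iv D1793))
theorem E3448 : n2359 = n1023 := ((((iv D1357)).symm.trans (sb E2731 (iv F8361)))).symm
theorem E3464 : n2592 = n865 := ((((iv D1146)).symm.trans (sb E2745 F11801))).symm
theorem E3465 : n4456 = n1514 := (((D1514).symm.trans (sb E2745 D4456))).symm
theorem E3466 : n4457 = n875 := (((F4183).symm.trans (sb E2745 D4457))).symm
theorem E3469 : n865 = n472 := (((F2385).symm.trans (sb E2765 (tr F11791 E3464)))).symm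
theorem E3470 : n835 = n486 := (((iv F3120)).symm.trans (sb E2765 (tr (iv F15241) E3096)))
theorem E3471 : n4440 = n836 := (((D836).symm.trans (sb E2765 (iv F15216)))).symm
theorem E3472 : n4454 = n514 := (((F2387).symm.trans (sb E2765 D4454))).symm
theorem E3473 : n7578 = n1484 := ((((iv F5356)).symm.trans (sb E2748 (iv F25370)))).symm
theorem E3475 : n514 = n494 := ((((iv D660)).symm.trans (sb E2749 (tr F19722 E3472)))).symm
theorem E3476 : n4136 = n765 := (((D765).symm.trans (sb E2770 (iv F14260)))).symm
theorem E3477 : n2592 = n472 := (E3464).trans E3469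
theorem E3478 : n7084 = n2348 := ((((iv F8316)).symm.trans (sb E2752 (iv F23800)))).symm
theorem F66698 : act 1 n600 = n755 := (sb E2756 F3719)
theorem E3483 : n800 = n754 := ((D800).symm.trans (sb E2756 (iv D1003)))
theorem E3484 : n7080 = n1287 := ((((iv F4711)).symm.trans (sb E2757 (iv F23788)))).symm
theorem E3486 : n844 = n836 := (((D836).symm.trans (sb E2758 (iv F3144)))).symm
theorem E3487 : n11608 = n2349 := ((((iv F8320)).symm.trans (sb E2759 (iv F38191)))).symm
theorem E3488 : n1351 = n1287 := (((iv D1786)).symm.trans (sb E2759 (tr (iv D9242) E3484)))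
theorem E3489 : n2593 = n290 := (((F1396).symm.trans (sb E2771 D2593))).symm
theorem E3490 : n496 = n290 := (((iv D662)).symm.trans (sb E2761 (tr F11803 E3489)))
theorem F66699 : act 1 n363 = n480 := (sb E2764 F2427)
theorem E3494 : n488 = n479 := ((D488).symm.trans (sb E2764 (iv D642)))
theorem E3495 : n4454 = n494 := (E3472).trans E3475
theorem E3496 : n497 = n289 := ((D497).symm.trans (sb E2767 (iv D387)))
theorem F66700 : act 6 n369 = n480 := (sb E2767 (iv F1841))
theorem F66701 : act 3 n588 = n449 := (sb E2775 (iv D602))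
theorem F66702 : act 5 n1004 = n767 := (sb E2777 F3773)
theorem E3502 : n2394 = n1344 := ((((iv F4900)).symm.trans (sb E2779 D2394))).symm
theorem E3517 : n3982 = n1346 := ((((iv F4904)).symm.trans (sb E2786 (iv F13753)))).symm
theorem E3519 : n2310 = n1345 := (((D1345).symm.trans (sb E2788 (iv F8191)))).symm
theorem F66703 : act 5 n1013 = n1329 := (sb E2788 (iv D1758))
theorem E3520 : n1469 = n838 := (((F3757).symm.trans (sb E2788 F6324))).symm
theorem E3521 : n4034 = n3988 := ((((iv F13771)).symm.trans (sb E2789 (iv F13921)))).symm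
theorem E3522 : n2337 = n1346 := (((E3517).symm.trans (((iv F13754)).symm.trans (sb E2789 (iv D3074))))).symm
theorem E3523 : n4036 = n2309 := ((((iv D3038)).symm.trans (sb E2789 D4036))).symm
theorem E3524 : n2563 = n2550 := (((F10631).symm.trans (sb E2789 F10755))).symm
theorem E3525 : n2309 = n1343 := (((D1343).symm.trans (sb E2810 (tr (iv F13927) E3523)))).symm
theorem E3526 : n2611 = n837 := (((F3754).symm.trans (sb E2810 F11189))).symm
theorem E3528 : n1468 = n837 := (((iv D1941)).symm.trans (sb E2791 (tr D2611 E3526)))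
theorem E3529 : n1473 = n842 := (((D842).symm.trans (sb E2793 (iv F5327)))).symm
theorem E3530 : n2345 = n2307 := (((D2307).symm.trans (sb E2794 (iv F8305)))).symm
theorem F66706 : act 5 n1752 = n1348 := (sb E2794 (iv D1783))
theorem E3531 : n1481 = n1463 := (((F6305).symm.trans (sb E2794 F6407))).symm
theorem F66707 : act 1 n1012 = n1329 := (sb E2797 F6319)
theorem E3535 : n2307 = n2306 := ((D2307).symm.trans (sb E2799 (iv F8180)))
theorem E3537 : n2345 = n2306 := (E3530).trans E3535
theorem E3538 : n4043 = n2265 := ((((iv F8030)).symm.trans (sb E2800 (iv F13946)))).symm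
theorem E3539 : n4036 = n1343 := (E3523).trans E3525
theorem F66708 : act 5 n1139 = n1480 := (sb E2801 (iv D1955))
theorem E3541 : n858 = n833 := ((((iv D1106)).symm.trans (sb E2802 F4123))).symm
theorem E3542 : n1466 = n848 := ((D1466).symm.trans (sb E2802 (iv D1126)))
theorem F66709 : act 5 n1106 = n850 := (sb E2802 F4125)
theorem E3544 : n6830 = n4037 := ((((iv F13930)).symm.trans (sb E2803 (iv F22991)))).symm
theorem F66710 : act 5 n1017 = n1344 := (sb E2805 F6385)
theorem E3546 : n2326 = n1341 := ((((iv F4891)).symm.trans (sb E2805 (iv F8245)))).symm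
theorem F66711 : act 1 n1036 = n1347 := (sb E2807 F6312)
theorem F66712 : act 3 n1036 = n1327 := (sb E2807 (iv D1755))
theorem F66713 : act 3 n1001 = n792 := (sb E2808 (iv D1055))
theorem F66714 : act 1 n644 = n834 := (sb E2809 F4066)
theorem E3547 : n6818 = n2233 := ((((iv F7933)).symm.trans (sb E2811 (iv F22959)))).symm
theorem E3549 : n6826 = n3907 := ((((iv F13496)).symm.trans (sb E2813 (iv F22981)))).symm
theorem E3550 : n2338 = n2233 := (((iv D3075)).symm.trans (sb E2813 (tr (iv F22960) E3547)))
theorem E3551 : n4038 = n3984 := ((D4038).symm.trans (sb E2813 (iv D5224)))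
theorem E3552 : n6832 = n4039 := (((D4039).symm.trans (sb E2813 D6832))).symm
theorem E3554 : n2339 = n1326 := ((((iv D1754)).symm.trans (sb E2814 D2339))).symm
theorem E3555 : n2327 = n2299 := ((((iv F8153)).symm.trans (sb E2814 (iv F8249)))).symm
theorem E3557 : n3035 = n1751 := ((((iv F6300)).symm.trans (iv (sb E2815 (tr (iv D3077) E3554))))).symm
theorem E3558 : n3077 = n1751 := (E2815).trans E3557
theorem E3559 : n2566 = n1462 := (((F6301).symm.trans (sb E3558 F10763))).symm
theorem F66717 : act 1 n647 = n850 := (sb E2820 F4131)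
theorem F66718 : act 3 n647 = n849 := (sb E2820 (iv D1128))
theorem F66719 : act 0 n640 = n850 := (sb E2826 (iv F3162))
theorem F66720 : act 3 n640 = n482 := (sb E2826 (iv D646))
theorem E3565 : n2545 = n1478 := ((((iv F5339)).symm.trans (sb E2828 (iv F8960)))).symm
theorem E3566 : n846 = n843 := (((iv F3151)).symm.trans (sb E2829 (iv F3142)))
theorem F66721 : act 5 n637 = n485 := (sb E2829 (iv D650))
theorem F66722 : act 6 n371 = n485 := (sb E2830 (iv F1853))
theorem E3568 : n1479 = n1476 := (((D1476).symm.trans (sb E2831 (iv F5341)))).symm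
theorem E3569 : n2568 = n2528 := ((((iv F8911)).symm.trans (sb E2832 (iv F9027)))).symm
theorem F66724 : act 1 n1749 = n1336 := (sb E2843 (iv D1766))
theorem F66725 : act 5 n1749 = n1337 := (sb E2843 F6351)
theorem F66726 : act 0 n1780 = n2340 := (sb E2845 F10615)
theorem E3579 : n3847 = n2343 := ((((iv F8300)).symm.trans (sb E2845 (iv F13314)))).symm
theorem E3580 : n3964 = n2331 := ((((iv F8261)).symm.trans (sb E2845 (iv F13696)))).symm
theorem F66727 : act 0 n1018 = n767 := (sb E2847 (iv D1021))
theorem F66728 : act 2 n1018 = n1344 := (sb E2847 (iv F4899))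
theorem E3581 : n1353 = n1306 := ((((iv F4763)).symm.trans (sb E2847 D1353))).symm
theorem F66729 : act 4 n1018 = n769 := (sb E2847 F3781)
theorem E3582 : n2341 = n2269 := ((D2341).symm.trans (sb E2848 (iv F8041)))
theorem E3583 : n2332 = n2329 := ((((iv F8255)).symm.trans (sb E2848 (iv F8264)))).symm
theorem E3584 : n4041 = n3909 := ((((iv F13502)).symm.trans (sb E2850 (iv F13940)))).symm
theorem E3585 : n4044 = n3885 := ((((iv F13436)).symm.trans (sb E2850 D4044))).symm
theorem F66732 : act 3 n3062 = n2334 := (sb E2851 F10716)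
theorem F66733 : act 1 n1771 = n1368 := (sb E2852 (iv D1807))
theorem E3587 : n2334 = n2295 := ((D2334).symm.trans (sb E2852 (iv F8136)))
theorem F66734 : act 5 n1771 = n1369 := (sb E2852 F6497)
theorem E3588 : n3963 = n2329 := (((D2329).symm.trans (sb E2853 (iv F13690)))).symm
theorem F66735 : act 5 n1773 = n2297 := (sb E2854 F10564)
theorem E3598 : n6882 = n2322 := ((((iv F8231)).symm.trans (sb E2864 (iv F23155)))).symm
theorem E3601 : n6879 = n6781 := ((((iv F22846)).symm.trans (sb E2867 (iv F23145)))).symm
theorem E3602 : n3967 = n2322 := (((iv D5200)).symm.trans (sb E2867 (tr D6882 E3598)))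
theorem E3605 : n2328 = n2298 := ((D2328).symm.trans (sb E2868 (iv D3023)))
theorem E3606 : n4026 = n3956 := ((((iv F13668)).symm.trans (sb E2873 (iv F13893)))).symm
theorem E3607 : n3965 = n3956 := ((((iv F13668)).symm.trans (sb E2872 D3965))).symm
theorem F66739 : act 3 n3020 = n2297 := (sb E2872 (iv D3021))
theorem E3614 : n6866 = n6792 := ((((iv F22878)).symm.trans (sb E2877 (iv F23105)))).symm
theorem E3619 : n6770 = n4025 := ((((iv F13890)).symm.trans (sb E2880 (iv F22814)))).symm
theorem E3625 : n4165 = n2287 := (((F10519).symm.trans (sb E2885 (iv F14353)))).symm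
theorem E3626 : n4006 = n3944 := (((D3944).symm.trans (sb E2885 (iv F13831)))).symm
theorem E3627 : n4030 = n3941 := ((((iv F13614)).symm.trans (sb E2885 (iv F66610)))).symm
theorem E3628 : n6769 = n6749 := (((D6749).symm.trans (sb E2886 (iv F22810)))).symm
theorem E3629 : n6744 = n4025 := (((iv F22725)).symm.trans (sb E2886 (tr D6770 E3619)))
theorem F66744 : act 4 n3121 = n3943 := (sb E2887 (iv D5166))
theorem F66745 : act 5 n3071 = n3943 := (sb E2888 F17605)
theorem E3637 : n6753 = n2320 := ((((iv D3051)).symm.trans (sb E2891 (tr (iv F38514) E2991)))).symm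
theorem F66746 : act 0 n3003 = n2335 := (sb E2901 F10732)
theorem F66747 : act 4 n3003 = n2333 := (sb E2901 (iv D3069))
theorem E3689 : n3422 = n189 := (E2938).trans E3264
theorem E3693 : n2604 = n137 := (((F760).symm.trans (sb E3689 (tr F11860 E3099)))).symm
theorem E3705 : n8817 = n2320 := (((E3637).symm.trans (((iv F22756)).symm.trans (sb E2946 (iv F29360))))).symm
theorem E3706 : n3011 = n2290 := (((E2993).symm.trans ((D2412).symm.trans (sb E2947 F13650)))).symm
theorem E3720 : n11714 = n2320 := (E2991).trans E3637
theorem E3730 : n12242 = n11647 := (((D11647).symm.trans (sb E2967 D12242))).symm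
theorem E3731 : n7652 = n7515 := ((((iv F25177)).symm.trans (sb E2968 (iv F25623)))).symm
theorem E3759 : n15255 = n8818 := ((((iv D11497)).symm.trans (sb E2990 (iv D19835)))).symm
theorem E3761 : n8818 = n2946 := ((((iv F10330)).symm.trans (sb E3720 (tr D15255 E3759)))).symm
theorem F66776 : act 1 n2290 = n1832 := (sb E2993 (iv D2412))
theorem E3762 : n3173 = n3007 := ((((iv F10523)).symm.trans (sb E2993 D3173))).symm
theorem E3764 : n5167 = n3051 := ((((iv F10675)).symm.trans (sb E2995 (iv F17628)))).symm
theorem F66777 : act 4 n2413 = n3006 := (sb E2995 (iv D3945))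
theorem E3767 : n9023 = n8920 := ((((iv F29672)).symm.trans (sb E2997 (iv F29996)))).symm
theorem E3769 : n5290 = n5223 := ((((iv F17807)).symm.trans (sb E2998 (iv F18021)))).symm
theorem E3811 : n16774 = n2643 := ((((iv D3463)).symm.trans (sb E3129 (iv F54370)))).symm
theorem E3815 : n4473 = n2643 := ((D4473).symm.trans (sb E3041 (tr F65786 E3811)))
theorem E3836 : n3439 = n3416 := ((((iv D4472)).symm.trans (sb E3075 (iv D4500)))).symm
theorem E3840 : n3411 = n340 := ((((iv F1325)).symm.trans (sb E3083 (iv F11826)))).symm
theorem E3843 : n3416 = n184 := ((((iv D252)).symm.trans (sb E3083 D3416))).symm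
theorem E3844 : n3167 = n312 := ((((iv F1232)).symm.trans (sb E3083 (iv F11063)))).symm
theorem E3849 : n2942 = n988 := ((((iv F3661)).symm.trans (sb E3088 (iv F10313)))).symm
theorem E3850 : n1700 = n1020 := ((((iv F3777)).symm.trans (sb E3088 (iv D2240)))).symm
theorem F66797 : act 1 n766 = n1004 := (sb E3089 F4855)
theorem E3852 : n1110 = n634 := (((F2884).symm.trans (sb E3089 F4857))).symm
theorem E3859 : n1195 = n107 := (((F609).symm.trans (sb E3097 D1195))).symm
theorem E3860 : n685 = n203 := ((((iv F810)).symm.trans (sb E3097 (iv D906)))).symm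
theorem E3861 : n386 = n370 := (((D370).symm.trans (sb E3098 (iv D516)))).symm
theorem E3864 : n3439 = n184 := (E3836).trans E3843
theorem E3869 : n9802 = n5884 := ((((iv F19928)).symm.trans (sb E3106 (iv F32463)))).symm
theorem E3871 : n5235 = n3218 := ((((iv D4223)).symm.trans (sb E3107 (iv D6844)))).symm
theorem E3872 : n9929 = n3461 := ((((iv F11998)).symm.trans (sb E3108 (iv F32878)))).symm
theorem E3873 : n9930 = n3465 := ((((iv F12013)).symm.trans (sb E3108 (iv F32882)))).symm
theorem E3874 : n5837 = n2014 := ((((iv D2646)).symm.trans (sb E3108 (iv D7620)))).symm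
theorem E3875 : n1996 = n340 := (((iv D2626)).symm.trans (sb E3109 (tr (iv D4466) E3840)))
theorem E3876 : n2448 = n416 := ((((iv F1618)).symm.trans (iv (sb E3110 (tr F14314 E3844))))).symm
theorem E3877 : n4153 = n416 := (E3110).trans E3876
theorem E3878 : n3218 = n556 := ((((iv F2130)).symm.trans (sb E3877 (tr (iv F17843) E3871)))).symm
theorem E3879 : n9932 = n2023 := (((F9268).symm.trans (sb E3111 (iv F32887)))).symm
theorem E3880 : n5839 = n2012 := ((((iv D2644)).symm.trans (sb E3111 (iv D7622)))).symm
theorem E3888 : n15738 = n2625 := ((((iv D3442)).symm.trans (sb E3121 (iv D20462)))).symm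
theorem E3889 : n12085 = n556 := (E3122).trans E3878
theorem E3890 : n15700 = n740 := (((D740).symm.trans (sb E3889 (iv F50971)))).symm
theorem E3891 : n2625 = n460 := (((F2132).symm.trans (sb E3889 (tr D15738 E3888)))).symm
theorem E3895 : n16771 = n2642 := ((((iv D3461)).symm.trans (sb E3123 (iv F54359)))).symm
theorem E3897 : n9913 = n1528 := ((((iv D2014)).symm.trans (sb E3125 (iv D12902)))).symm
theorem E3898 : n12086 = n340 := (E3126).trans E3875
theorem E3899 : n9269 = n461 := (((D461).symm.trans (sb E3898 F39658))).symm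
theorem E3901 : n9247 = n2348 := ((((iv F8316)).symm.trans (sb E3127 (iv F30693)))).symm
theorem E3902 : n1514 = n461 := ((F6675).symm.trans (sb E3127 (tr D9269 E3899)))
theorem E3903 : n16773 = n1536 := ((((iv D2023)).symm.trans (sb E3128 (iv F54367)))).symm
theorem E3906 : n9917 = n884 := ((((iv D1169)).symm.trans (sb E3133 (iv D12905)))).symm
theorem E3908 : n4050 = n740 := ((F18009).symm.trans (sb E3139 (tr F65293 E3890)))
theorem E3914 : n15146 = n5307 := ((((iv F18072)).symm.trans (sb E3146 (iv F49286)))).symm
theorem E3917 : n9793 = n3444 := ((((iv D4506)).symm.trans (sb E3147 (iv D12755)))).symm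
theorem E3918 : n5752 = n1998 := ((((iv D2628)).symm.trans (sb E3148 (iv D7511)))).symm
theorem E3920 : n8918 = n3088 := ((((iv F10792)).symm.trans (sb E3149 (iv F29664)))).symm
theorem E3921 : n16778 = n2025 := ((((iv F7183)).symm.trans (sb E3150 (iv F54382)))).symm
theorem E3926 : n9922 = n1165 := ((((iv D1539)).symm.trans (sb E3154 (iv D12912)))).symm
theorem E3935 : n16737 = n499 := ((((iv D665)).symm.trans (sb E3166 (iv F54232)))).symm
theorem E3941 : n15471 = n2265 := (((E3538).symm.trans ((F18013).symm.trans (sb E3180 F64740)))).symm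
theorem E3942 : n9117 = n2340 := (((D2340).symm.trans (sb E3181 F39046))).symm
theorem E3946 : n9119 = n1480 := (((F66708).symm.trans (sb E3184 F39054))).symm
theorem E3949 : n2340 = n2305 := (((D2305).symm.trans (sb E3324 (tr (iv F30296) E3942)))).symm
theorem E3950 : n1480 = n1461 := (((F6298).symm.trans (sb E3324 (tr D9119 E3946)))).symm
theorem F66802 : act 5 n1117 = n849 := (sb E3192 F4121)
theorem E3955 : n15467 = n2343 := ((((iv D3082)).symm.trans (sb E3194 F64729))).symm
theorem E3956 : n9117 = n2305 := (E3942).trans E3949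
theorem E3957 : n15468 = n1478 := (((F6398).symm.trans (sb E3195 D15468))).symm
theorem F66803 : act 0 n1750 = n1348 := (sb E3203 F6401)
theorem F66804 : act 4 n1750 = n1347 := (sb E3203 (iv D1782))
theorem E4043 : n12872 = n499 := ((D12872).symm.trans (sb E3285 (tr (iv F54231) E3935)))
theorem E4047 : n15602 = n6815 := ((((iv F22949)).symm.trans (sb E3292 F65244))).symm
theorem E4048 : n9195 = n2544 := ((((iv F8957)).symm.trans (sb E3296 (iv F30538)))).symm
theorem E4049 : n15603 = n4379 := ((((iv F15043)).symm.trans (sb E3297 (iv F50704)))).symm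
theorem E4050 : n2542 = n1478 := (((iv D3340)).symm.trans (sb E3297 (tr (iv F50280) E3957)))
theorem E4057 : n15008 = n11525 := ((((iv F37955)).symm.trans (sb E3314 (iv D19514)))).symm
theorem E4060 : n8844 = n6773 := ((((iv F22824)).symm.trans (sb E3318 (iv F29453)))).symm
theorem E4061 : n8807 = n3962 := ((((iv D5192)).symm.trans (sb E3318 (iv F29330)))).symm
theorem F66824 : act 1 n1797 = n2333 := (sb E3327 (iv D3068))
theorem E4066 : n3110 = n2285 := ((((iv D3003)).symm.trans (sb E3323 F14080))).symm
theorem E4067 : n5163 = n3941 := (((D3941).symm.trans (sb E3323 (iv F17612)))).symm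
theorem F66825 : act 3 n1797 = n1797 := (sb E3325 (iv D2366))
theorem F66835 : act 6 n1791 = n1791 := (sb E3442 (iv D2358))
theorem E4154 : n1792 = n1356 := (((D1356).symm.trans (sb E3448 (iv D2359)))).symm
theorem E4169 : n3394 = n633 := (((D633).symm.trans (sb E3477 (iv F11774)))).symm
theorem E4170 : n3405 = n385 := (((F1815).symm.trans (sb E3477 D3405))).symm
theorem E4171 : n4456 = n461 := (E3465).trans E3902
theorem E4172 : n5810 = n620 := (((D620).symm.trans (sb E4171 (iv F19679)))).symm
theorem E4173 : n5827 = n382 := (((F1777).symm.trans (sb E4171 D5827))).symm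
theorem E4174 : n659 = n385 := (((iv D875)).symm.trans (sb E3466 (tr F15268 E4170)))
theorem E4175 : n1157 = n382 := ((D1157).symm.trans (sb E3466 (tr (iv F19735) E4173)))
theorem E4180 : n1120 = n633 := (((D633).symm.trans (sb E3469 (iv F4105)))).symm
theorem F66838 : act 1 n486 = n628 := (sb E3470 F3120)
theorem E4181 : n652 = n627 := ((D652).symm.trans (sb E3470 (iv D835)))
theorem E4182 : n5806 = n1084 := ((((iv F4001)).symm.trans (sb E3471 (iv F19667)))).symm
theorem E4183 : n5808 = n683 := (((F3124).symm.trans (sb E3471 D5808))).symm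
theorem E4184 : n683 = n655 := ((((iv F2462)).symm.trans (sb E3495 (tr (iv F19673) E4183)))).symm
theorem E4185 : n1957 = n620 := (((iv F6963)).symm.trans (sb E3473 (tr F25369 E4172)))
theorem E4186 : n9760 = n1958 := ((((iv F6968)).symm.trans (sb E3473 (iv F32334)))).symm
theorem E4187 : n1121 = n1084 := (((iv D1484)).symm.trans (sb E3473 (tr (iv D7578) E4182)))
theorem E4189 : n660 = n384 := ((D660).symm.trans (sb E3475 (iv D514)))
theorem F66839 : act 6 n494 = n628 := (sb E3475 (iv F2387))
theorem E4190 : n5419 = n985 := ((((iv F3651)).symm.trans (sb E3476 (iv F18437)))).symm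
theorem E4191 : n8906 = n3086 := ((((iv F10786)).symm.trans (sb E3478 (iv F29632)))).symm
theorem E4192 : n1784 = n985 := (((iv D2348)).symm.trans (sb E3478 (tr (iv D7084) E4190)))
theorem F66840 : act 3 n754 = n600 := (sb E3483 (iv D800))
theorem E4196 : n8902 = n1698 := ((((iv F6114)).symm.trans (sb E3484 (iv F29620)))).symm
theorem F66841 : act 5 n836 = n635 := (sb E3486 F3145)
theorem E4199 : n15109 = n2987 := ((((iv F10449)).symm.trans (sb E3487 (iv F49187)))).symm
theorem E4200 : n1785 = n1698 := (((iv D2349)).symm.trans (sb E3487 (tr (iv D11608) E4196)))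
theorem F66842 : act 5 n1287 = n1022 := (sb E3488 F4922)
theorem F66843 : act 0 n290 = n369 := (sb E3490 (iv D496))
theorem F66844 : act 4 n290 = n371 := (sb E3490 F1891)
theorem F66845 : act 3 n479 = n363 := (sb E3494 (iv D488))
theorem F66846 : act 3 n289 = n369 := (sb E3496 (iv D497))
theorem E4210 : n3032 = n1778 := (((D1778).symm.trans (sb E3502 (iv F10613)))).symm
theorem E4224 : n5218 = n1722 := ((((iv F6186)).symm.trans (sb E3517 (iv F17794)))).symm
theorem E4226 : n2935 = n1779 := (((D1779).symm.trans (sb E3519 (iv F10288)))).symm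
theorem F66847 : act 5 n1345 = n1754 := (sb E3519 (iv D2310))
theorem E4227 : n1936 = n1115 := (((F4903).symm.trans (sb E3519 F8192))).symm
theorem F66848 : act 5 n838 = n1108 := (sb E3520 (iv D1469))
theorem E4228 : n5284 = n5045 := ((((iv F17235)).symm.trans (sb E3521 (iv F18002)))).symm
theorem E4231 : n5287 = n3036 := ((((iv D3988)).symm.trans (sb E3521 D5287))).symm
theorem E4233 : n3366 = n3349 := (((F13772).symm.trans (sb E3521 F13922))).symm
theorem F66850 : act 5 n1346 = n1778 := (sb E3522 F8283)
theorem E4234 : n3059 = n1770 := ((((iv F6365)).symm.trans (sb E3522 (iv F10699)))).symm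
theorem E4235 : n1946 = n1116 := (((F4905).symm.trans (sb E3522 F8284))).symm
theorem E4236 : n3036 = n1719 := ((((iv F6178)).symm.trans (sb E3539 (tr (iv F18012) E4231)))).symm
theorem E4237 : n3368 = n1113 := (((F4898).symm.trans (sb E3539 F13929))).symm
theorem E4238 : n1935 = n1113 := (((iv D2550)).symm.trans (sb E3524 (tr D3368 E4237)))
theorem F66852 : act 1 n1343 = n1754 := (sb E3525 F8187)
theorem E4239 : n1777 = n1753 := ((D1777).symm.trans (sb E3525 (iv D2309)))
theorem F66853 : act 1 n837 = n1108 := (sb E3528 F5310)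
theorem F66854 : act 5 n842 = n1114 := (sb E3529 F5328)
theorem E4243 : n3082 = n2931 := ((((iv F10275)).symm.trans (sb E3537 (iv F10775)))).symm
theorem F66855 : act 5 n2306 = n1780 := (sb E3537 (iv D2345))
theorem E4244 : n1954 = n1932 := (((F8181).symm.trans (sb E3537 F8306))).symm
theorem E4245 : n1933 = n1932 := ((D1933).symm.trans (sb E3531 (tr (iv F6955) E4244)))
theorem F66856 : act 5 n1463 = n1118 := (sb E3531 (iv D1481))
theorem E4247 : n3034 = n2931 := ((((iv F10275)).symm.trans (sb E3535 D3034))).symm
theorem F66857 : act 3 n2306 = n1752 := (sb E3535 (iv D2307))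
theorem E4248 : n5294 = n2977 := ((((iv F10415)).symm.trans (sb E3538 (iv F18031)))).symm
theorem E4249 : n5287 = n1719 := (E4231).trans E4236
theorem F66858 : act 3 n833 = n644 := (sb E3541 (iv D858))
theorem F66859 : act 1 n848 = n1117 := (sb E3542 F5304)
theorem F66860 : act 3 n848 = n1106 := (sb E3542 (iv D1466))
theorem E4255 : n5743 = n3369 := (((F13932).symm.trans (sb E3544 F22993))).symm
theorem F66861 : act 5 n1341 = n1768 := (sb E3546 F8244)
theorem E4256 : n8898 = n2934 := ((((iv F10284)).symm.trans (sb E3547 (iv F29607)))).symm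
theorem E4259 : n8603 = n5116 := ((((iv F17445)).symm.trans (sb E3549 (iv F28697)))).symm
theorem E4260 : n2976 = n2934 := (((iv D3907)).symm.trans (sb E3549 (tr (iv F29609) E4256)))
theorem E4261 : n5221 = n5120 := (((D5120).symm.trans (sb E3549 (iv D6826)))).symm
theorem E4262 : n8913 = n5121 := (((D5121).symm.trans (sb E3549 D8913))).symm
theorem E4263 : n5739 = n3321 := (((F13498).symm.trans (sb E3549 F22983))).symm
theorem E4264 : n3075 = n1695 := ((((iv D2233)).symm.trans (sb E3550 D3075))).symm
theorem E4265 : n3076 = n2921 := ((((iv F10241)).symm.trans (sb E3550 D3076))).symm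
theorem E4267 : n3984 = n2230 := ((((iv F7924)).symm.trans (iv (sb E3551 (tr (iv D4038) E4264))))).symm
theorem E4268 : n4038 = n2230 := (E3551).trans E4267
theorem E4269 : n5292 = n2916 := ((((iv F10227)).symm.trans (sb E4268 D5292))).symm
theorem E4270 : n3370 = n1890 := (((F7925).symm.trans (sb E4268 F13935))).symm
theorem E4271 : n5225 = n2916 := (((E4269).symm.trans (((iv F18028)).symm.trans (sb E3552 F22998)))).symm
theorem F66862 : act 1 n2299 = n1767 := (sb E3555 F8247)
theorem E4277 : n3060 = n3017 := ((((iv F10559)).symm.trans (sb E3555 D3060))).symm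
theorem F66863 : act 5 n2299 = n1769 := (sb E3555 F8248)
theorem E4278 : n1949 = n1931 := ((((iv F6890)).symm.trans (sb E3559 F9021))).symm
theorem E4281 : n3276 = n1952 := ((((iv F6950)).symm.trans (sb E3565 (iv F11431)))).symm
theorem F66864 : act 0 n843 = n635 := (sb E3566 (iv D846))
theorem F66865 : act 2 n843 = n1114 := (sb E3566 (iv F4087))
theorem E4282 : n1123 = n1098 := ((((iv F4037)).symm.trans (sb E3566 D1123))).symm
theorem F66866 : act 4 n843 = n637 := (sb E3566 F3151)
theorem E4283 : n684 = n657 := ((F3143).symm.trans (sb E3566 F3152))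
theorem E4284 : n1950 = n1922 := ((D1950).symm.trans (sb E3568 (iv F6863)))
theorem E4285 : n2544 = n1476 := ((D2544).symm.trans (iv (sb E3568 (tr (iv F6943) E4278))))
theorem E4286 : n3373 = n3323 := ((((iv F11568)).symm.trans (sb E3569 (iv F11711)))).symm
theorem F66867 : act 0 n2343 = n2978 := (sb E3579 F13313)
theorem E4296 : n5039 = n2981 := ((((iv F10428)).symm.trans (sb E3579 (iv F17214)))).symm
theorem E4297 : n5012 = n3083 := (((D3083).symm.trans (sb E3579 (iv F17137)))).symm
theorem F66868 : act 0 n2331 = n3062 := (sb E3580 F13693)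
theorem E4298 : n5184 = n3065 := ((((iv F10719)).symm.trans (sb E3580 (iv F17689)))).symm
theorem F66869 : act 5 n2331 = n3020 := (sb E3580 (iv D3964))
theorem F66870 : act 0 n1306 = n1022 := (sb E3581 F4930)
theorem E4299 : n1787 = n1725 := ((((iv F6196)).symm.trans (sb E3581 D1787))).symm
theorem E4300 : n3078 = n2983 := ((((iv F10434)).symm.trans (sb E3582 D3078))).symm
theorem F66871 : act 2 n2269 = n1778 := (sb E3582 (iv D2341))
theorem E4301 : n3080 = n2966 := ((((iv F10382)).symm.trans (sb E3582 D3080))).symm
theorem E4302 : n3063 = n3058 := ((D3063).symm.trans (sb E3583 (iv F10694)))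
theorem F66872 : act 4 n2329 = n3062 := (sb E3583 (iv F10709))
theorem E4303 : n5123 = n5118 := ((((iv F17451)).symm.trans (sb E3584 (iv F17469)))).symm
theorem E4304 : n5295 = n5090 := ((((iv F17379)).symm.trans (sb E3584 D5295))).symm
theorem E4305 : n5274 = n5072 := ((((iv F17327)).symm.trans (sb E3585 (iv F17966)))).symm
theorem F66873 : act 0 n2295 = n1773 := (sb E3587 F8271)
theorem E4308 : n3062 = n3019 := (((D3019).symm.trans (sb E3587 (iv F66732)))).symm
theorem F66874 : act 4 n2295 = n1771 := (sb E3587 (iv D2334))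
theorem F66875 : act 1 n2329 = n3020 := (sb E3588 F13689)
theorem E4309 : n5192 = n3058 := (((E4302).symm.trans ((D3063).symm.trans (sb E3588 (iv F17713))))).symm
theorem E4320 : n8981 = n3053 := ((((iv F10681)).symm.trans (sb E3598 (iv F29860)))).symm
theorem E4325 : n8956 = n8851 := ((((iv F29473)).symm.trans (sb E3601 (iv F29781)))).symm
theorem E4326 : n5187 = n3053 := (((iv D6781)).symm.trans (sb E3601 (tr D8981 E4320)))
theorem E4329 : n3054 = n3022 := ((D3054).symm.trans (sb E3602 (iv D3967)))
theorem F66879 : act 0 n2298 = n3020 := (sb E3605 (iv F10571))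
theorem F66880 : act 4 n2298 = n1767 := (sb E3605 (iv D2328))
theorem E4332 : n5259 = n5183 := ((((iv F17686)).symm.trans (sb E3606 (iv F17919)))).symm
theorem E4334 : n5195 = n5183 := ((((iv F17686)).symm.trans (sb E3607 D5195))).symm
theorem F66881 : act 3 n3956 = n5165 := (sb E3607 (iv F17621))
theorem E4346 : n8964 = n8870 := (((D8870).symm.trans (sb E3614 D8964))).symm
theorem F66884 : act 0 n4025 = n5248 := (sb E3619 F22813)
theorem E4351 : n8839 = n5258 := ((((iv F17915)).symm.trans (sb E3619 (iv F29436)))).symm
theorem E4359 : n5456 = n3002 := ((((iv F10503)).symm.trans (sb E3625 (iv F18560)))).symm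
theorem E4361 : n5247 = n5158 := ((((iv F17593)).symm.trans (sb E3626 (iv F17882)))).symm
theorem E4362 : n5248 = n5162 := ((((iv F17609)).symm.trans (sb E3626 D5248))).symm
theorem F66887 : act 0 n3941 = n3071 := (sb E3627 F13904)
theorem E4364 : n8836 = n8795 := ((((iv F29287)).symm.trans (sb E3628 (iv F29427)))).symm
theorem E4365 : n8803 = n5258 := (((iv F29314)).symm.trans (sb E3628 (tr D8839 E4351)))
theorem F66888 : act 5 n4025 = n5165 := (sb E3629 F22725)
theorem E4445 : n3417 = n99 := (((F566).symm.trans (sb E3693 D3417))).symm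
theorem E4460 : n11472 = n3050 := (((D3050).symm.trans (sb E3705 (iv F37777)))).symm
theorem E4462 : n3946 = n3007 := ((((iv F10523)).symm.trans (sb E3706 (iv F13632)))).symm
theorem F66905 : act 5 n2290 = n2290 := (sb E3706 (iv D3011))
theorem E4492 : n9969 = n9799 := (((F38301).symm.trans (sb E3730 F40153))).symm
theorem E4494 : n9968 = n9798 := ((((iv F32450)).symm.trans (sb E3731 (iv F33008)))).symm
theorem E4534 : n11473 = n3865 := (((D3865).symm.trans (sb E3761 (iv F37781)))).symm
theorem F66913 : act 1 n3007 = n2413 := (sb E3762 F11084)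
theorem E4538 : n4164 = n3939 := ((((iv F13604)).symm.trans (sb E3762 D4164))).symm
theorem E4540 : n6741 = n4005 := ((((iv F13828)).symm.trans (sb E3764 (iv F22715)))).symm
theorem F66914 : act 4 n3051 = n3944 := (sb E3764 (iv D5167))
theorem E4543 : n6914 = n6831 := ((((iv D8920)).symm.trans (sb E3767 (iv D9023)))).symm
theorem E4546 : n4416 = n4388 := (((F17809).symm.trans (sb E3769 F18024))).symm
theorem E4596 : n2643 = n83 := (((F419).symm.trans (iv (sb E3815 (tr (iv D4473) E4445))))).symm
theorem E4597 : n4473 = n83 := (E3815).trans E4596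
theorem E4598 : n2012 = n114 := ((((iv F478)).symm.trans (sb E4597 (tr (iv F19773) E3880)))).symm
theorem E4616 : n2626 = n249 := ((((iv F983)).symm.trans (sb E3864 F11915))).symm
theorem E4628 : n3857 = n1310 := ((((iv F4777)).symm.trans (sb E3849 (iv F13348)))).symm
theorem E4629 : n2238 = n1308 := ((((iv F4772)).symm.trans (sb E3849 (iv D2942)))).symm
theorem F66929 : act 1 n1020 = n1287 := (sb E3850 F6121)
theorem E4632 : n1352 = n1286 := ((D1352).symm.trans (sb E3850 (iv D1700)))
theorem E4633 : n1436 = n845 := (((F3779).symm.trans (sb E3850 F6124))).symm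
theorem F66930 : act 1 n634 = n836 := (sb E3852 F4076)
theorem E4642 : n933 = n80 := (((F449).symm.trans (sb E3859 F4368))).symm
theorem E4643 : n535 = n151 := (((F809).symm.trans (sb E3860 F2579))).symm
theorem F66931 : act 1 n370 = n289 := (sb E3861 (iv D386))
theorem E4645 : n301 = n279 := (((F1425).symm.trans (sb E3861 F1494))).symm
theorem E4646 : n513 = n495 := ((((iv F1887)).symm.trans (sb E3861 (iv F1961)))).symm
theorem F66932 : act 6 n370 = n479 := (sb E3861 (iv F1839))
theorem E4658 : n12764 = n4532 := (((F19929).symm.trans (sb E3869 (iv F41810)))).symm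
theorem E4662 : n12917 = n2654 := (((F11997).symm.trans (sb E3872 (iv F42302)))).symm
theorem E4664 : n7618 = n2642 := ((((iv D3461)).symm.trans (sb E3872 (iv D9929)))).symm
theorem E4665 : n7619 = n2645 := ((((iv D3465)).symm.trans (sb E3873 (iv D9930)))).symm
theorem E4666 : n7604 = n1528 := ((((iv D2014)).symm.trans (sb E3874 (iv F25459)))).symm
theorem E4671 : n7621 = n1536 := ((((iv D2023)).symm.trans (sb E3879 (iv D9932)))).symm
theorem E4672 : n5839 = n114 := (E3880).trans E4598
theorem E4673 : n1536 = n89 := (((F477).symm.trans (sb E4672 (tr D7621 E4671)))).symm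
theorem E4674 : n2642 = n155 := ((((iv F635)).symm.trans (sb E4672 (tr (iv F25507) E4664)))).symm
theorem E4685 : n12056 = n984 := (((D984).symm.trans (sb E3890 (iv D15700)))).symm
theorem E4687 : n1998 = n610 := ((((iv F2324)).symm.trans (sb E3891 F9196))).symm
theorem E4690 : n16771 = n155 := (E3895).trans E4674
theorem E4691 : n12900 = n212 := (((D212).symm.trans (sb E4690 (iv D16771)))).symm
theorem E4693 : n2011 = n212 := (((iv F7130)).symm.trans (sb E3897 (tr (iv F42242) E4691)))
theorem E4696 : n3086 = n984 := (((iv F10786)).symm.trans (sb E3901 (tr D12056 E4685)))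
theorem E4697 : n16773 = n89 := (E3903).trans E4673
theorem E4698 : n12903 = n123 := (((D123).symm.trans (sb E4697 (iv D16773)))).symm
theorem E4700 : n1163 = n123 := (((iv F4242)).symm.trans (sb E3906 (tr (iv F42255) E4698)))
theorem E4704 : n3088 = n969 := ((((iv F3602)).symm.trans (sb E3908 F13966))).symm
theorem E4708 : n11629 = n4053 := ((((iv D5307)).symm.trans (sb E3914 (iv D15146)))).symm
theorem E4709 : n19700 = n6933 := (((D6933).symm.trans (sb E3914 D19700))).symm
theorem E4712 : n12738 = n4433 := ((((iv F15197)).symm.trans (sb E3917 (iv F41722)))).symm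
theorem E4713 : n5752 = n610 := (E3918).trans E4687
theorem E4714 : n7501 = n813 := (((D813).symm.trans (sb E4713 (iv F25133)))).symm
theorem E4715 : n8918 = n969 := (E3920).trans E4704
theorem E4717 : n4053 = n1281 := ((((iv F4688)).symm.trans (sb E4715 (tr D11629 E4708)))).symm
theorem E4718 : n12907 = n1538 := ((((iv D2025)).symm.trans (sb E3921 (iv D16778)))).symm
theorem E4722 : n12893 = n880 := ((((iv D1165)).symm.trans (sb E3926 (iv F42218)))).symm
theorem E4734 : n20115 = n2977 := ((((iv F10415)).symm.trans (sb E3941 D20115))).symm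
theorem E4735 : n11885 = n2978 := (((D2978).symm.trans (sb E3941 F50291))).symm
theorem E4738 : n3031 = n2978 := ((D3031).symm.trans (sb E3956 (tr D11885 E4735)))
theorem F66938 : act 0 n2305 = n1780 := (sb E3949 (iv F66726))
theorem F66939 : act 0 n1461 = n1118 := (sb E3950 F5343)
theorem F66940 : act 4 n1461 = n1117 := (sb E3950 (iv D1480))
theorem E4746 : n20111 = n2981 := ((((iv F10428)).symm.trans (sb E3955 D20111))).symm
theorem E4805 : n5808 = n655 := (E4183).trans E4184
theorem E4834 : n8906 = n984 := (E4191).trans E4696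
theorem E4837 : n16735 = n664 := ((((iv F2495)).symm.trans (sb E4043 D16735))).symm
theorem E4843 : n5213 = n2981 := (((iv D6815)).symm.trans (sb E4047 (tr (iv F64735) E4746)))
theorem E4846 : n9195 = n1476 := (E4048).trans E4285
theorem E4847 : n11988 = n1922 := (((E4284).symm.trans ((D1950).symm.trans (sb E4846 (iv F39373))))).symm
theorem E4848 : n3341 = n1922 := ((F15042).symm.trans (sb E4049 (tr F50703 E4847)))
theorem F66956 : act 0 n1478 = n1931 := (sb E4050 F8950)
theorem E4860 : n11527 = n8841 := (((F37954).symm.trans (sb E4057 F48903))).symm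
theorem E4867 : n11462 = n5182 := ((((iv D6773)).symm.trans (sb E4060 (iv F37746)))).symm
theorem E4869 : n6746 = n5162 := ((((iv F17608)).symm.trans (sb E4061 (iv D8807)))).symm
theorem E4874 : n3942 = n3004 := (((D3004).symm.trans (sb E4066 (iv F13618)))).symm
theorem F66962 : act 4 n3941 = n3941 := (sb E4067 (iv D5163))
theorem F66971 : act 7 n1356 = n1356 := (sb E4154 (iv D1792))
theorem E5007 : n4443 = n826 := ((((iv F3089)).symm.trans (sb E4169 (iv F15225)))).symm
theorem E5010 : n7583 = n511 := (((F2359).symm.trans (sb E4172 D7583))).symm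
theorem E5011 : n1528 = n285 := ((((iv D382)).symm.trans (sb E4173 (tr D7604 E4666)))).symm
theorem F66976 : act 0 n385 = n494 := (sb E4174 (iv D659))
theorem E5013 : n870 = n515 := (((D515).symm.trans (sb E4174 (iv F3222)))).symm
theorem E5014 : n877 = n507 := ((((iv F1937)).symm.trans (sb E4175 F4217))).symm
theorem E5015 : n1521 = n511 := (((D511).symm.trans (sb E4175 (iv F5464)))).symm
theorem E5020 : n1482 = n826 := ((((iv F3089)).symm.trans (sb E4180 D1482))).symm
theorem F66977 : act 3 n627 = n486 := (sb E4181 (iv D652))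
theorem E5022 : n7485 = n1434 := ((((iv F5211)).symm.trans (sb E4182 (iv F25089)))).symm
theorem E5023 : n7579 = n895 := (((F4002).symm.trans (sb E4182 D7579))).symm
theorem E5024 : n895 = n871 := (((D871).symm.trans (sb E4805 (tr (iv F25373) E5023)))).symm
theorem F66978 : act 6 n655 = n836 := (sb E4184 (iv F3124))
theorem E5026 : n2575 = n825 := ((((iv F3086)).symm.trans (sb E4185 (iv F9045)))).symm
theorem E5028 : n12701 = n2537 := ((((iv F8935)).symm.trans (sb E4186 (iv F41610)))).symm
theorem E5030 : n1483 = n1434 := (((iv D1958)).symm.trans (sb E4186 (tr (iv D9760) E5022)))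
theorem F66979 : act 5 n1084 = n847 := (sb E4187 F4109)
theorem E5033 : n7579 = n871 := (E5023).trans E5024
theorem F66980 : act 3 n384 = n494 := (sb E4189 (iv D660))
theorem E5036 : n11213 = n1304 := ((((iv F4756)).symm.trans (sb E4834 (iv F36993)))).symm
theorem E5038 : n2347 = n1305 := ((((iv F4760)).symm.trans (sb E4192 D2347))).symm
theorem E5041 : n11601 = n2236 := ((((iv F7944)).symm.trans (sb E4196 (iv F38171)))).symm
theorem E5043 : n18979 = n3918 := ((((iv F13532)).symm.trans (sb E4199 (iv F61322)))).symm
theorem E5045 : n2273 = n2236 := (((iv D2987)).symm.trans (sb E4199 (tr (iv D15109) E5041)))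
theorem F66981 : act 5 n1698 = n1354 := (sb E4200 F6413)
theorem E5048 : n2350 = n2228 := ((((iv F7917)).symm.trans (sb E4200 D2350))).symm
theorem E5050 : n11629 = n1281 := (E4708).trans E4717
theorem F66982 : act 1 n1778 = n2306 := (sb E4210 F10612)
theorem E5059 : n3980 = n2269 := ((((iv F66871)).symm.trans (sb E4210 (iv F13748)))).symm
theorem F66983 : act 4 n1778 = n2305 := (sb E4210 (iv D3032))
theorem E5075 : n6587 = n2268 := ((((iv F8038)).symm.trans (sb E4224 (iv F22236)))).symm
theorem F66984 : act 0 n1779 = n2269 := (sb E4226 F10287)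
theorem E5078 : n3852 = n2267 := ((((iv F8035)).symm.trans (sb E4226 (iv F13330)))).symm
theorem F66985 : act 5 n1779 = n2233 := (sb E4226 (iv D2935))
theorem E5079 : n3834 = n2344 := (((D2344).symm.trans (sb E4226 (iv F13272)))).symm
theorem E5080 : n2495 = n1477 := (((F6395).symm.trans (sb E4226 F10290))).symm
theorem F66986 : act 5 n1115 = n1465 := (sb E4227 (iv D1936))
theorem E5081 : n6686 = n6593 := ((((iv F22257)).symm.trans (sb E4228 (iv F22521)))).symm
theorem E5084 : n6906 = n3850 := ((((iv D5045)).symm.trans (sb E4228 D6906))).symm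
theorem E5085 : n6907 = n6598 := (((D6598).symm.trans (sb E4228 D6907))).symm
theorem E5086 : n4410 = n4305 := (((F17237).symm.trans (sb E4228 F18003))).symm
theorem E5091 : n3850 = n2264 := ((((iv F8027)).symm.trans (sb E4249 (tr (iv F23232) E5084)))).symm
theorem E5093 : n4413 = n1449 := (((F6180).symm.trans (sb E4249 F18014))).symm
theorem E5096 : n2548 = n1449 := (((iv D3349)).symm.trans (sb E4233 (tr D4413 E5093)))
theorem E5098 : n4016 = n2325 := ((((iv F8239)).symm.trans (sb E4234 D4016))).symm
theorem F66989 : act 5 n1770 = n2329 := (sb E4234 F10698)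
theorem F66990 : act 5 n1116 = n1476 := (sb E4235 F6935)
theorem E5099 : n2308 = n2265 := (((D2265).symm.trans (sb E4236 (iv D3036)))).symm
theorem F66991 : act 1 n1113 = n1465 := (sb E4238 F6900)
theorem E5100 : n1475 = n1464 := ((D1475).symm.trans (sb E4238 (iv D1935)))
theorem F66992 : act 0 n1753 = n2306 := (sb E4239 (iv F8179))
theorem F66993 : act 4 n1753 = n1343 := (sb E4239 (iv D1777))
theorem E5103 : n3914 = n3846 := ((((iv F13310)).symm.trans (sb E4243 (iv F13518)))).symm
theorem F66994 : act 5 n2931 = n2343 := (sb E4243 (iv D3082))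
theorem E5104 : n4046 = n3827 := ((((iv F13252)).symm.trans (sb E4243 D4046))).symm
theorem E5105 : n2571 = n2491 := (((F10277).symm.trans (sb E4243 F10777))).symm
theorem F66995 : act 5 n1932 = n1478 := (sb E4244 (iv D1954))
theorem E5106 : n2546 = n2491 := ((((iv F8808)).symm.trans (sb E4245 D2546))).symm
theorem F66996 : act 3 n1932 = n1463 := (sb E4245 (iv D1933))
theorem E5107 : n3983 = n3846 := ((((iv F13310)).symm.trans (sb E4247 D3983))).symm
theorem E5109 : n6696 = n3906 := ((((iv F13493)).symm.trans (sb E4248 (iv F22556)))).symm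
theorem E5110 : n6906 = n2264 := (E5084).trans E5091
theorem E5111 : n6918 = n3884 := ((((iv F13433)).symm.trans (sb E4248 D6918))).symm
theorem E5112 : n4420 = n2527 := (((F10417).symm.trans (sb E4248 F18033))).symm
theorem E5121 : n7502 = n4417 := (((D4417).symm.trans (sb E4255 D7502))).symm
theorem E5122 : n11205 = n3849 := ((((iv F13321)).symm.trans (sb E4256 (iv F36964)))).symm
theorem E5127 : n3905 = n3849 := (((iv D5116)).symm.trans (sb E4259 (tr (iv F36967) E5122)))
theorem E5128 : n6689 = n6590 := ((D6689).symm.trans (sb E4259 (iv D8603)))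
theorem E5131 : n3907 = n2232 := ((((iv D2934)).symm.trans (sb E4260 D3907))).symm
theorem E5132 : n3908 = n3833 := ((((iv F13269)).symm.trans (sb E4260 D3908))).symm
theorem E5133 : n2526 = n2494 := (((F10286).symm.trans (sb E4260 F10414))).symm
theorem E5134 : n5120 = n2930 := ((((iv F10271)).symm.trans (iv (sb E4261 (tr F17801 E4267))))).symm
theorem E5135 : n5221 = n2930 := (E4261).trans E5134
theorem E5137 : n6827 = n3826 := ((((iv F13249)).symm.trans (sb E5135 D6827))).symm
theorem E5138 : n4386 = n2490 := (((F10273).symm.trans (sb E5135 F17803))).symm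
theorem E5139 : n11622 = n6654 := ((((iv F22439)).symm.trans (sb E4262 D11622))).symm
theorem E5142 : n4359 = n2490 := ((D4359).symm.trans (sb E4263 (tr (iv D5739) E5138)))
theorem E5143 : n7496 = n4360 := (((D4360).symm.trans (sb E4263 D7496))).symm
theorem E5146 : n4019 = n3822 := ((((iv F13232)).symm.trans (sb E4265 (iv F13870)))).symm
theorem E5150 : n6831 = n2220 := ((((iv D2916)).symm.trans (sb E4269 (tr (iv F23256) E4543)))).symm
theorem E5152 : n4388 = n1429 := ((((iv D1890)).symm.trans (sb E4270 (tr (iv F15150) E4546)))).symm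
theorem E5154 : n6796 = n3817 := ((((iv F13216)).symm.trans (sb E4271 (iv F22889)))).symm
theorem E5159 : n4008 = n3959 := ((((iv F13675)).symm.trans (sb E4277 (iv F13837)))).symm
theorem F66997 : act 5 n3017 = n2330 := (sb E4277 F10702)
theorem E5160 : n2543 = n2528 := ((D2543).symm.trans (sb E4278 (iv F8911)))
theorem F66998 : act 0 n1952 = n2528 := (sb E4281 F11430)
theorem E5163 : n4272 = n2572 := (((D2572).symm.trans (sb E4281 (iv F14728)))).symm
theorem F66999 : act 0 n1098 = n847 := (sb E4282 F4115)
theorem E5164 : n1485 = n1455 := ((((iv F5267)).symm.trans (sb E4282 D1485))).symm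
theorem E5165 : n902 = n873 := ((F4039).symm.trans (sb E4282 F4118))
theorem F67000 : act 6 n657 = n843 := (sb E4283 (iv F3143))
theorem E5166 : n2567 = n2533 := ((((iv F8923)).symm.trans (sb E4284 D2567))).symm
theorem F67001 : act 2 n1922 = n1476 := (sb E4284 (iv D1950))
theorem F67002 : act 1 n1476 = n1932 := (sb E4285 F8956)
theorem F67003 : act 4 n1476 = n1931 := (sb E4285 (iv D2544))
theorem E5168 : n4362 = n4357 := ((((iv F14974)).symm.trans (sb E4286 (iv F14988)))).symm
theorem E5169 : n4421 = n4329 := ((((iv F14893)).symm.trans (sb E4286 D4421))).symm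
theorem E5173 : n6585 = n3911 := ((((iv F13509)).symm.trans (sb E4296 (iv F22227)))).symm
theorem E5174 : n6550 = n3915 := (((D3915).symm.trans (sb E4296 (iv F22131)))).symm
theorem F67004 : act 0 n3083 = n3885 := (sb E4297 F17134)
theorem E5175 : n6532 = n4027 := ((((iv F13895)).symm.trans (sb E4297 (iv F22073)))).symm
theorem E5176 : n6545 = n4047 := (((D4047).symm.trans (sb E4297 (iv F22118)))).symm
theorem F67005 : act 0 n3065 = n4010 := (sb E4298 F17688)
theorem E5177 : n6775 = n4013 := ((((iv F13852)).symm.trans (sb E4298 (iv F22829)))).symm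
theorem F67006 : act 5 n3065 = n3956 := (sb E4298 (iv D5184))
theorem F67007 : act 0 n1725 = n1354 := (sb E4299 F6420)
theorem E5178 : n2351 = n2271 := ((((iv F8047)).symm.trans (sb E4299 D2351))).symm
theorem E5179 : n2352 = n2262 := ((((iv F8022)).symm.trans (sb E4299 D2352))).symm
theorem E5180 : n3913 = n3910 := (((iv F13515)).symm.trans (sb E4300 (iv F13506)))
theorem E5181 : n4042 = n3894 := ((((iv F13456)).symm.trans (sb E4300 D4042))).symm
theorem E5182 : n4023 = n3878 := ((((iv F13413)).symm.trans (sb E4301 (iv F13884)))).symm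
theorem F67008 : act 0 n3058 = n2330 := (sb E4302 F10712)
theorem E5184 : n4021 = n4015 := ((((iv F13857)).symm.trans (sb E4302 D4021))).symm
theorem F67009 : act 2 n3058 = n2329 := (sb E4302 (iv D3063))
theorem E5185 : n6697 = n6651 := ((((iv F22435)).symm.trans (sb E4303 D6697))).symm
theorem E5186 : n6919 = n6653 := ((((iv F22437)).symm.trans (sb E4304 D6919))).symm
theorem E5188 : n6891 = n6629 := ((((iv F22375)).symm.trans (sb E4305 (iv F23182)))).symm
theorem F67011 : act 0 n3019 = n2331 := (sb E4308 (iv F66868))
theorem E5191 : n4010 = n3962 := (((D3962).symm.trans (sb E4308 (iv F13843)))).symm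
theorem F67012 : act 4 n3019 = n2329 := (sb E4308 (iv F66872))
theorem E5192 : n6773 = n4015 := ((((iv F13857)).symm.trans (sb E4309 (iv F22824)))).symm
theorem E5205 : n11676 = n4007 := ((((iv F13834)).symm.trans (sb E4320 (iv F38392)))).symm
theorem E5213 : n6777 = n4007 := (((iv D8851)).symm.trans (sb E4325 (tr D11676 E5205)))
theorem E5215 : n4009 = n3958 := ((D4009).symm.trans (sb E4326 (iv D5187)))
theorem F67017 : act 0 n3022 = n3956 := (sb E4329 (iv F13667))
theorem F67018 : act 4 n3022 = n2322 := (sb E4329 (iv D3054))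
theorem E5220 : n3968 = n3871 := ((D3968).symm.trans (sb E4329 (iv F13396)))
theorem E5222 : n6872 = n6772 := ((((iv F22821)).symm.trans (sb E4332 (iv F23125)))).symm
theorem E5225 : n6776 = n6772 := ((((iv F22821)).symm.trans (sb E4334 (iv F22832)))).symm
theorem F67020 : act 3 n5183 = n6749 := (sb E4334 (iv F22743))
theorem E5238 : n11567 = n11284 := ((D11567).symm.trans (sb E4346 (iv F37219)))
theorem E5244 : n11520 = n6871 := ((((iv F23121)).symm.trans (sb E4351 (iv F37936)))).symm
theorem E5254 : n6858 = n3938 := ((((iv F13601)).symm.trans (sb E4359 (iv F23079)))).symm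
theorem E5258 : n6857 = n6739 := ((((iv F22708)).symm.trans (sb E4361 (iv F23076)))).symm
theorem F67027 : act 0 n5162 = n4025 := (sb E4362 (iv F66884))
theorem E5263 : n11458 = n6871 := (((iv F37733)).symm.trans (sb E4364 (tr D11520 E5244)))
theorem F67029 : act 5 n5258 = n6749 := (sb E4365 F29314)
theorem E5352 : n14934 = n4004 := (((D4004).symm.trans (sb E4460 (iv F48653)))).symm
theorem E5353 : n8800 = n4005 := (((D4005).symm.trans (sb E4460 F37779))).symm
theorem E5355 : n5160 = n3939 := ((((iv F13604)).symm.trans (sb E4462 (iv F17600)))).symm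
theorem F67051 : act 5 n3007 = n3007 := (sb E4462 (iv D3946))
theorem E5363 : n6914 = n2220 := (E4543).trans E5150
theorem E5382 : n12968 = n12760 := ((((iv F41796)).symm.trans (sb E4492 (iv F42471)))).symm
theorem E5385 : n7651 = n7514 := ((((iv D9798)).symm.trans (sb E4494 (iv D9968)))).symm
theorem E5433 : n14935 = n5063 := (((D5063).symm.trans (sb E4534 (iv F48657)))).symm
theorem E5435 : n8801 = n5064 := (((D5064).symm.trans (sb E4534 F37782))).symm
theorem E5440 : n5246 = n5159 := ((((iv F17596)).symm.trans (sb E4538 (iv F17878)))).symm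
theorem E5442 : n8796 = n5245 := ((((iv F17875)).symm.trans (sb E4540 (iv F29291)))).symm
theorem F67061 : act 4 n4005 = n5158 := (sb E4540 (iv D6741))
theorem E5446 : n8736 = n2915 := (((D2915).symm.trans (sb E5363 (iv F29083)))).symm
theorem E5454 : n4416 = n1429 := (E4546).trans E5152
theorem E5455 : n5707 = n1889 := (((D1889).symm.trans (sb E5454 (iv F19372)))).symm
theorem E5457 : n5778 = n1880 := ((((iv F6750)).symm.trans (sb E5454 D5778))).symm
theorem E5486 : n7618 = n155 := (E4664).trans E4674
theorem E5526 : n1999 = n336 := ((((iv F1312)).symm.trans (sb E4616 F9198))).symm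
theorem E5542 : n5049 = n1729 := ((((iv F6211)).symm.trans (sb E4628 (iv F17247)))).symm
theorem E5543 : n2938 = n1727 := ((((iv F6204)).symm.trans (sb E4628 (iv D3857)))).symm
theorem E5546 : n1728 = n1699 := ((D1728).symm.trans (sb E4629 (iv D2238)))
theorem F67079 : act 4 n1286 = n1020 := (sb E4632 (iv D1352))
theorem E5551 : n1122 = n1083 := (((F4709).symm.trans (sb E4632 F4929))).symm
theorem F67080 : act 1 n845 = n1084 := (sb E4633 F5216)
theorem E5560 : n707 = n110 := ((((iv F462)).symm.trans (sb E4642 (iv D933)))).symm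
theorem E5562 : n402 = n206 := (((D206).symm.trans (sb E4643 (iv D535)))).symm
theorem E5564 : n375 = n225 := (((iv F1446)).symm.trans (sb E4645 (iv D301)))
theorem F67081 : act 1 n495 = n384 := (sb E4646 (iv D513))
theorem E5566 : n674 = n661 := (((D661).symm.trans (sb E4646 (iv F2537)))).symm
theorem F67082 : act 6 n495 = n627 := (sb E4646 (iv F2384))
theorem E5581 : n9801 = n3464 := ((((iv D4532)).symm.trans (sb E4658 (iv D12764)))).symm
theorem E5584 : n16788 = n3473 := ((((iv F12041)).symm.trans (sb E4662 (iv F54417)))).symm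
theorem E5585 : n9927 = n2021 := ((((iv D2654)).symm.trans (sb E4662 (iv D12917)))).symm
theorem E5588 : n2021 = n120 := (((F633).symm.trans (sb E5486 (tr D9927 E5585)))).symm
theorem E5592 : n9912 = n2013 := ((((iv D2645)).symm.trans (sb E4665 (iv F32820)))).symm
theorem E5593 : n7604 = n285 := (E4666).trans E5011
theorem E5594 : n2013 = n381 := ((((iv F1472)).symm.trans (sb E5593 (tr D9912 E5592)))).symm
theorem E5599 : n9927 = n120 := (E5585).trans E5588
theorem E5613 : n2628 = n453 := ((((iv D610)).symm.trans (sb E4687 D2628))).symm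
theorem E5622 : n9912 = n381 := (E5592).trans E5594
theorem E5623 : n1535 = n165 := (((F845).symm.trans (sb E4693 F7129))).symm
theorem E5624 : n2641 = n286 := ((((iv F1121)).symm.trans (sb E4693 D2641))).symm
theorem E5627 : n880 = n167 := ((((iv F681)).symm.trans (sb E4700 (iv D1163)))).symm
theorem E5631 : n15147 = n1690 := ((((iv F6089)).symm.trans (sb E5050 D15147))).symm
theorem E5632 : n5308 = n1690 := ((F23313).symm.trans (sb E4709 (tr F63459 E5631)))
theorem E5637 : n9781 = n3385 := ((((iv D4433)).symm.trans (sb E4712 (iv D12738)))).symm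
theorem E5640 : n3385 = n1078 := ((((iv F3983)).symm.trans (sb E4714 (tr D9781 E5637)))).symm
theorem E5642 : n5135 = n1691 := (((D1691).symm.trans (sb E4717 (iv F17511)))).symm
theorem E5646 : n16758 = n1164 := ((((iv D1538)).symm.trans (sb E4718 (iv F54310)))).symm
theorem E5650 : n12893 = n167 := (E4722).trans E5627
theorem E5651 : n664 = n224 := (((D224).symm.trans (sb E5650 (tr (iv F54224) E4837)))).symm
theorem E5652 : n1164 = n221 := ((((iv F883)).symm.trans (sb E5650 (tr (iv F54308) E5646)))).symm
theorem E5658 : n15473 = n3909 := (((D3909).symm.trans (sb E4734 F64747))).symm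
theorem E5659 : n14954 = n3885 := ((((iv F13436)).symm.trans (sb E4735 (iv F48720)))).symm
theorem E5661 : n3909 = n3845 := (((iv F13502)).symm.trans (sb E4738 (iv F13306)))
theorem F67092 : act 2 n2978 = n2305 := (sb E4738 (iv D3031))
theorem E5748 : n6582 = n3911 := ((((iv F13509)).symm.trans (sb E4843 (iv F22216)))).symm
theorem E5753 : n4297 = n2533 := ((((iv F8923)).symm.trans (sb E4848 (iv F14795)))).symm
theorem E5756 : n15473 = n3845 := (E5658).trans E5661
theorem E5760 : n14921 = n6771 := ((((iv D8841)).symm.trans (sb E4860 (iv F48612)))).symm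
theorem E5764 : n8792 = n6736 := ((((iv F22699)).symm.trans (sb E4867 (iv D11462)))).symm
theorem F67108 : act 4 n5162 = n5162 := (sb E4869 (iv D6746))
theorem E5771 : n5156 = n3936 := ((((iv F13594)).symm.trans (sb E4874 (iv F17588)))).symm
theorem F67110 : act 4 n3004 = n3004 := (sb E4874 (iv D3942))
theorem E5838 : n5734 = n1097 := ((((iv F4035)).symm.trans (sb E5007 (iv F19456)))).symm
theorem E5839 : n5811 = n680 := (((F3090).symm.trans (sb E5007 D5811))).symm
theorem E5842 : n9883 = n679 := ((((iv F2554)).symm.trans (sb E5010 D9883))).symm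
theorem F67126 : act 0 n515 = n655 := (sb E5013 (iv D870))
theorem E5844 : n1151 = n680 := ((((iv F2558)).symm.trans (sb E5013 D1151))).symm
theorem F67127 : act 5 n515 = n657 := (sb E5013 F3223)
theorem E5845 : n1153 = n675 := (((D675).symm.trans (sb E5014 (iv F4203)))).symm
theorem E5846 : n2004 = n679 := ((((iv F2554)).symm.trans (sb E5015 (iv F7103)))).symm
theorem E5852 : n1956 = n1097 := ((((iv F4035)).symm.trans (sb E5020 D1956))).symm
theorem E5853 : n9753 = n1896 := ((((iv F6793)).symm.trans (sb E5022 (iv F32313)))).symm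
theorem E5854 : n9761 = n1888 := ((((iv F6773)).symm.trans (sb E5022 D9761))).symm
theorem E5855 : n9879 = n1152 := (((D1152).symm.trans (sb E5033 D9879))).symm
theorem F67128 : act 6 n871 = n1084 := (sb E5024 (iv F4002))
theorem E5858 : n3380 = n1096 := ((((iv F4032)).symm.trans (sb E5026 (iv F11731)))).symm
theorem E5860 : n16277 = n3332 := ((((iv F11591)).symm.trans (sb E5028 (iv F52783)))).symm
theorem E5862 : n1926 = n1896 := (((iv D2537)).symm.trans (sb E5028 (tr (iv D12701) E5853)))
theorem F67129 : act 5 n1434 = n1124 := (sb E5030 F5354)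
theorem E5864 : n1959 = n1888 := ((((iv F6773)).symm.trans (sb E5030 D1959))).symm
theorem E5872 : n14599 = n1723 := ((((iv F6189)).symm.trans (sb E5036 (iv F47646)))).symm
theorem E5875 : n3085 = n1724 := ((((iv F6193)).symm.trans (sb E5038 D3085))).symm
theorem E5877 : n14592 = n2937 := ((((iv F10296)).symm.trans (sb E5041 (iv F47620)))).symm
theorem E5880 : n5130 = n1723 := (((iv F17494)).symm.trans (sb E5043 (tr F61323 E5872)))
theorem E5882 : n2985 = n2937 := (((iv D3918)).symm.trans (sb E5043 (tr (iv D18979) E5877)))
theorem F67130 : act 5 n2236 = n1730 := (sb E5045 F8056)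
theorem E5885 : n2988 = n2927 := ((((iv F10261)).symm.trans (sb E5045 D2988))).symm
theorem F67131 : act 5 n2228 = n1788 := (sb E5048 F8324)
theorem E5886 : n3090 = n2924 := ((((iv F10253)).symm.trans (sb E5048 D3090))).symm
theorem E5894 : n5037 = n2983 := ((((iv F10434)).symm.trans (sb E5059 (iv F17208)))).symm
theorem E5913 : n8595 = n2980 := ((((iv F10425)).symm.trans (sb E5075 (iv F28669)))).symm
theorem E5918 : n5043 = n2979 := ((((iv F10422)).symm.trans (sb E5078 (iv F17227)))).symm
theorem F67132 : act 5 n2267 = n2934 := (sb E5078 (iv D3852))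
theorem E5919 : n5021 = n2982 := (((D2982).symm.trans (sb E5078 (iv F17160)))).symm
theorem E5920 : n3281 = n1920 := (((F8037).symm.trans (sb E5078 F13332))).symm
theorem F67133 : act 0 n2344 = n2966 := (sb E5079 F13270)
theorem F67134 : act 5 n2344 = n2921 := (sb E5079 (iv D3834))
theorem E5921 : n5016 = n3084 := (((D3084).symm.trans (sb E5079 (iv F17150)))).symm
theorem F67135 : act 0 n1477 = n1922 := (sb E5080 F8816)
theorem F67136 : act 5 n1477 = n1893 := (sb E5080 (iv D2495))
theorem E5922 : n3263 = n1953 := (((D1953).symm.trans (sb E5080 (iv F11395)))).symm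
theorem E5924 : n5115 = n2980 := (((E5913).symm.trans (((iv F28671)).symm.trans (sb E5081 (iv D6686))))).symm
theorem E5925 : n8728 = n5041 := ((((iv D6593)).symm.trans (sb E5081 D8728))).symm
theorem E5926 : n8729 = n8609 := (((D8609).symm.trans (sb E5081 D8729))).symm
theorem E5927 : n5701 = n5637 := (((F22259).symm.trans (sb E5081 F22523))).symm
theorem E5932 : n5041 = n2975 := ((((iv F10408)).symm.trans (sb E5110 (tr (iv F29055) E5925)))).symm
theorem E5933 : n9014 = n2958 := ((((iv F10364)).symm.trans (sb E5110 D9014))).symm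
theorem E5934 : n5770 = n1917 := (((F8029).symm.trans (sb E5110 F23234))).symm
theorem E5935 : n9015 = n8567 := ((((iv F28583)).symm.trans (sb E5085 D9015))).symm
theorem E5936 : n5046 = n2958 := ((F22273).symm.trans (sb E5085 (tr (iv F29970) E5933)))
theorem E5938 : n3279 = n1917 := (((iv D4305)).symm.trans (sb E5086 (tr D5770 E5934)))
theorem F67138 : act 2 n2264 = n2934 := (sb E5091 F13326)
theorem E5946 : n2977 = n2933 := ((D2977).symm.trans (sb E5091 (iv D3850)))
theorem E5952 : n1934 = n1918 := (((D1918).symm.trans (sb E5096 (iv D2548)))).symm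
theorem E5954 : n5262 = n3057 := ((((iv F10691)).symm.trans (sb E5098 D5262))).symm
theorem F67141 : act 2 n2265 = n1753 := (sb E5099 (iv D2308))
theorem F67142 : act 0 n1464 = n1932 := (sb E5100 (iv F6893))
theorem F67143 : act 4 n1464 = n1113 := (sb E5100 (iv D1475))
theorem E5957 : n5125 = n5036 := ((((iv F17204)).symm.trans (sb E5103 (iv F17476)))).symm
theorem F67144 : act 5 n3846 = n2981 := (sb E5103 (iv D3914))
theorem E5958 : n5128 = n5011 := ((((iv F17133)).symm.trans (sb E5103 D5128))).symm
theorem E5959 : n3328 = n3275 := (((F13312).symm.trans (sb E5103 F13521))).symm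
theorem F67145 : act 5 n3827 = n3083 := (sb E5104 F13956)
theorem E5960 : n5300 = n5008 := ((((iv F17125)).symm.trans (sb E5104 D5300))).symm
theorem F67146 : act 5 n2491 = n1952 := (sb E5105 (iv D2571))
theorem E5961 : n3378 = n3256 := ((((iv F11375)).symm.trans (sb E5105 D3378))).symm
theorem E5962 : n3344 = n3275 := ((((iv F11428)).symm.trans (sb E5106 D3344))).symm
theorem E5964 : n5040 = n5036 := ((((iv F17204)).symm.trans (sb E5107 (iv F17218)))).symm
theorem E5967 : n8728 = n2975 := (E5925).trans E5932
theorem E5969 : n5711 = n3320 := (((F13495).symm.trans (sb E5109 F22559))).symm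
theorem E5971 : n9028 = n5084 := ((((iv F17363)).symm.trans (sb E5111 D9028))).symm
theorem E5972 : n5782 = n3298 := ((((iv F11496)).symm.trans (sb E5112 D5782))).symm
theorem E5983 : n5744 = n1880 := (((E5457).symm.trans (((iv F19583)).symm.trans (sb E5121 F25137)))).symm
theorem E5990 : n5116 = n2932 := ((((iv D3849)).symm.trans (sb E5127 D5116))).symm
theorem E5991 : n5117 = n5018 := ((((iv F17155)).symm.trans (sb E5127 D5117))).symm
theorem E5992 : n3319 = n3278 := (((F13324).symm.trans (sb E5127 F13492))).symm
theorem E5993 : n6590 = n3844 := ((((iv F13302)).symm.trans (iv (sb E5128 (tr F22532 E5134))))).symm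
theorem E5994 : n6689 = n3844 := (E5128).trans E5993
theorem E5995 : n5118 = n5035 := (((D5035).symm.trans (sb E5994 F22533))).symm
theorem E5997 : n5704 = n3273 := (((F13305).symm.trans (sb E5994 F22535))).symm
theorem E6003 : n5121 = n2920 := ((((iv F10238)).symm.trans (sb E5131 D5121))).symm
theorem E6004 : n3321 = n1892 := (((F7931).symm.trans (sb E5131 F13498))).symm
theorem E6005 : n5089 = n5019 := ((((iv F17156)).symm.trans (sb E5132 (iv F17374)))).symm
theorem E6006 : n5122 = n5015 := ((((iv F17146)).symm.trans (sb E5132 D5122))).symm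
theorem E6007 : n3322 = n3262 := ((((iv F11391)).symm.trans (sb E5133 D3322))).symm
theorem E6008 : n8914 = n5010 := (((D5010).symm.trans (sb E5137 D8914))).symm
theorem E6011 : n15138 = n8688 := ((((iv F28952)).symm.trans (sb E5139 D15138))).symm
theorem E6012 : n8689 = n5010 := (((iv F28955)).symm.trans (sb E5139 (tr F38234 E6008)))
theorem E6016 : n3323 = n3274 := (((D3274).symm.trans (sb E5142 F14981))).symm
theorem E6017 : n5709 = n3255 := ((((iv F11371)).symm.trans (sb E5142 D5709))).symm
theorem E6018 : n9774 = n5669 := ((((iv F19253)).symm.trans (sb E5143 D9774))).symm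
theorem E6022 : n5252 = n5004 := ((((iv F17106)).symm.trans (sb E5146 (iv F17898)))).symm
theorem F67147 : act 5 n3822 = n3066 := (sb E5146 F13872)
theorem E6023 : n5269 = n5001 := ((((iv F17101)).symm.trans (sb E5146 D5269))).symm
theorem E6027 : n8870 = n4997 := ((((iv F17084)).symm.trans (sb E5154 (iv F29525)))).symm
theorem E6031 : n5249 = n5186 := ((((iv F17694)).symm.trans (sb E5159 (iv F17889)))).symm
theorem F67148 : act 2 n3959 = n3053 := (sb E5159 (iv D4008))
theorem F67149 : act 5 n3959 = n3056 := (sb E5159 F13839)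
theorem F67150 : act 2 n2528 = n1931 := (sb E5160 (iv D2543))
theorem F67151 : act 0 n2572 = n3299 := (sb E5163 F14724)
theorem E6035 : n5589 = n3379 := (((D3379).symm.trans (sb E5163 (iv F19022)))).symm
theorem F67152 : act 0 n1455 = n1124 := (sb E5164 F5359)
theorem E6036 : n1960 = n1924 := ((((iv F6867)).symm.trans (sb E5164 D1960))).symm
theorem E6037 : n1961 = n1915 := ((((iv F6850)).symm.trans (sb E5164 D1961))).symm
theorem F67153 : act 6 n873 = n1098 := (sb E5165 (iv F4039))
theorem E6039 : n3327 = n3324 := (((iv F11578)).symm.trans (sb E5166 (iv F11571)))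
theorem E6042 : n5712 = n5666 := ((((iv F19245)).symm.trans (sb E5168 D5712))).symm
theorem E6043 : n5783 = n5668 := ((((iv F19250)).symm.trans (sb E5169 D5783))).symm
theorem E6046 : n8546 = n5126 := (((D5126).symm.trans (sb E5173 (iv F28540)))).symm
theorem E6047 : n8548 = n5102 := ((((iv F17402)).symm.trans (sb E5174 (iv F28542)))).symm
theorem F67154 : act 0 n4027 = n5072 := (sb E5175 F22072)
theorem E6049 : n8524 = n5260 := ((((iv F17922)).symm.trans (sb E5175 (iv F28474)))).symm
theorem F67155 : act 5 n4027 = n4998 := (sb E5175 (iv D6532))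
theorem F67156 : act 0 n4047 = n5085 := (sb E5176 F22114)
theorem E6051 : n8843 = n5255 := ((((iv F17907)).symm.trans (sb E5177 (iv F29449)))).symm
theorem F67157 : act 5 n4013 = n5183 := (sb E5177 (iv D6775))
theorem E6052 : n2989 = n2984 := ((((iv F10437)).symm.trans (sb E5178 (iv F10455)))).symm
theorem F67158 : act 0 n2262 = n1788 := (sb E5179 F8328)
theorem E6054 : n3092 = n2970 := ((((iv F10396)).symm.trans (sb E5179 D3092))).symm
theorem F67159 : act 0 n3910 = n2983 := (sb E5180 F13515)
theorem E6055 : n6583 = n3910 := ((D6583).symm.trans (iv (sb E5180 (tr (iv F17453) E5995))))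
theorem E6056 : n5124 = n5099 := ((D5124).symm.trans (sb E5180 (iv F17399)))
theorem E6057 : n5296 = n5101 := ((((iv F17401)).symm.trans (sb E5181 D5296))).symm
theorem F67160 : act 0 n3878 = n3066 := (sb E5182 F13883)
theorem E6059 : n5271 = n5081 := ((((iv F17351)).symm.trans (sb E5182 (iv F17956)))).symm
theorem E6060 : n5275 = n5076 := ((((iv F17342)).symm.trans (sb E5182 D5275))).symm
theorem E6061 : n5257 = n5254 := (((iv F17912)).symm.trans (sb E5184 (iv F17904)))
theorem E6062 : n8741 = n8684 := ((((iv F28942)).symm.trans (sb E5185 D8741))).symm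
theorem E6064 : n8998 = n8652 := ((((iv F28857)).symm.trans (sb E5186 (iv F29913)))).symm
theorem E6065 : n9029 = n8687 := ((((iv F28951)).symm.trans (sb E5186 D9029))).symm
theorem E6066 : n9030 = n8678 := ((((iv F28930)).symm.trans (sb E5186 D9030))).symm
theorem E6067 : n8968 = n8650 := ((((iv F28853)).symm.trans (sb E5188 (iv F29820)))).symm
theorem F67162 : act 0 n3962 = n3065 := (sb E5191 (iv F67005))
theorem E6069 : n5253 = n5182 := ((((iv F17683)).symm.trans (sb E5191 (iv F17901)))).symm
theorem F67163 : act 4 n3962 = n3058 := (sb E5191 F13844)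
theorem E6070 : n5193 = n5072 := ((D5193).symm.trans (sb E5191 (iv F17329)))
theorem E6071 : n8841 = n5254 := (((E6061).symm.trans (((iv F17912)).symm.trans (sb E5192 (iv F29444))))).symm
theorem F67164 : act 2 n4015 = n5183 := (sb E5192 F22825)
theorem E6096 : n5250 = n5185 := ((D5250).symm.trans (sb E5213 (iv D6777)))
theorem F67171 : act 4 n3958 = n3053 := (sb E5215 (iv D4009))
theorem E6100 : n5188 = n5071 := ((D5188).symm.trans (sb E5215 (iv F17326)))
theorem F67172 : act 6 n3871 = n3022 := (sb E5220 (iv D3968))
theorem E6106 : n8973 = n8521 := ((((iv F28468)).symm.trans (sb E5222 D8973))).symm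
theorem F67173 : act 3 n6772 = n8795 := (sb E5225 (iv F29289))
theorem E6118 : n11284 = n6530 := (((D6530).symm.trans (iv (sb E5238 (tr (iv D11567) E6027))))).symm
theorem E6119 : n11567 = n6530 := (E5238).trans E6118
theorem E6121 : n8652 = n8523 := (((D8523).symm.trans (sb E6119 (tr F38074 E6064)))).symm
theorem F67176 : act 1 n6871 = n8951 := (sb E5244 F37937)
theorem E6132 : n8949 = n5157 := ((((iv F17590)).symm.trans (sb E5254 (iv F29757)))).symm
theorem E6134 : n8953 = n5155 := ((((iv F17585)).symm.trans (sb E5254 D8953))).symm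
theorem E6135 : n8954 = n5150 := ((((iv F17567)).symm.trans (sb E5254 D8954))).symm
theorem E6139 : n8951 = n8790 := ((((iv F29273)).symm.trans (sb E5258 D8951))).symm
theorem E6140 : n8797 = n8638 := ((D8797).symm.trans (sb E5258 (iv F28820)))
theorem F67183 : act 5 n6871 = n8795 := (sb E5263 F37733)
theorem E6237 : n11469 = n5245 := (((D5245).symm.trans (sb E5352 F48655))).symm
theorem E6238 : n6743 = n5159 := (((E5440).symm.trans ((D5246).symm.trans (sb E5353 F29305)))).symm
theorem F67201 : act 5 n3939 = n3939 := (sb E5355 (iv D5160))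
theorem E6241 : n6731 = n5151 := ((((iv F17571)).symm.trans (sb E5355 (iv F22681)))).symm
theorem E6265 : n16649 = n16578 := ((((iv F53745)).symm.trans (sb E5382 (iv F53963)))).symm
theorem E6268 : n9833 = n9784 := ((((iv F32406)).symm.trans (sb E5385 (iv F32561)))).symm
theorem E6331 : n11470 = n6617 := (((D6617).symm.trans (sb E5433 F48658))).symm
theorem E6336 : n11451 = n6618 := (((D6618).symm.trans (sb E5435 (iv F37708)))).symm
theorem E6341 : n6856 = n6740 := ((((iv F22711)).symm.trans (sb E5440 (iv F23072)))).symm
theorem F67208 : act 2 n5159 = n4005 := (sb E5440 (iv D5246))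
theorem F67209 : act 4 n5245 = n6739 := (sb E5442 (iv D8796))
theorem E6349 : n11385 = n3825 := (((D3825).symm.trans (sb E5446 (iv F37493)))).symm
theorem E6351 : n6693 = n2222 := (((F10223).symm.trans (sb E5446 F29086))).symm
theorem E6363 : n7453 = n2489 := (((D2489).symm.trans (sb E5455 (iv F24984)))).symm
theorem E6364 : n4358 = n1430 := (((F6776).symm.trans (sb E5455 (iv D5707)))).symm
theorem E6365 : n7457 = n2475 := ((((iv F8761)).symm.trans (sb E5455 D7457))).symm
theorem E6452 : n1531 = n282 := (((F1314).symm.trans (sb E5526 F7085))).symm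
theorem E6472 : n3853 = n2272 := ((((iv F8053)).symm.trans (sb E5542 (iv D5049)))).symm
theorem F67216 : act 2 n1727 = n2236 := (sb E5543 F10300)
theorem E6475 : n2274 = n2235 := ((D2274).symm.trans (sb E5543 (iv D2938)))
theorem E6477 : n2498 = n1457 := (((F6205).symm.trans (sb E5543 F10301))).symm
theorem F67217 : act 4 n1699 = n1308 := (sb E5546 (iv D1728))
theorem E6481 : n2239 = n2188 := ((D2239).symm.trans (sb E5546 (iv F7786)))
theorem E6482 : n1458 = n1435 := (((F6119).symm.trans (sb E5546 F6210))).symm
theorem F67218 : act 4 n1083 = n845 := (sb E5551 (iv D1122))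
theorem E6487 : n894 = n872 := ((F3999).symm.trans (sb E5551 F4114))
theorem E6496 : n536 = n152 := (((D152).symm.trans (sb E5560 F2670))).symm
theorem E6498 : n302 = n278 := (((D278).symm.trans (sb E5562 F1563))).symm
theorem F67219 : act 1 n225 = n279 := (sb E5564 F1446)
theorem E6502 : n499 = n299 := ((((iv F1177)).symm.trans (sb E5564 (iv F1903)))).symm
theorem F67220 : act 1 n661 = n507 := (sb E5566 (iv D674))
theorem F67221 : act 6 n661 = n814 := (sb E5566 (iv F3054))
theorem E6516 : n12746 = n4516 := ((((iv F15476)).symm.trans (sb E5581 (iv F41749)))).symm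
theorem E6518 : n12916 = n2652 := ((((iv D3473)).symm.trans (sb E5584 (iv D16788)))).symm
theorem E6519 : n2652 = n164 := ((((iv F670)).symm.trans (sb E5599 (tr D12916 E6518)))).symm
theorem E6528 : n12863 = n510 := (((D510).symm.trans (sb E5622 (iv F42110)))).symm
theorem E6529 : n1530 = n506 := ((((iv F1931)).symm.trans (sb E5594 F7138))).symm
theorem E6530 : n2634 = n510 := (((D510).symm.trans (sb E5594 (iv F9229)))).symm
theorem E6549 : n3444 = n607 := ((((iv F2313)).symm.trans (sb E5613 D3444))).symm
theorem E6558 : n2020 = n222 := ((((iv F886)).symm.trans (sb E5623 D2020))).symm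
theorem E6559 : n3458 = n383 := (((D383).symm.trans (sb E5624 D3458))).symm
theorem E6564 : n6710 = n2224 := (((D2224).symm.trans (sb E5632 (iv F22604)))).symm
theorem E6565 : n6933 = n1280 := ((((iv D1690)).symm.trans (sb E5632 (iv F23313)))).symm
theorem E6566 : n4054 = n2225 := (((D2225).symm.trans (sb E5632 F18073))).symm
theorem E6567 : n4434 = n1426 := (((F6088).symm.trans (sb E5632 F18075))).symm
theorem E6570 : n4374 = n1427 := (((D1427).symm.trans (sb E5640 (iv F15025)))).symm
theorem E6571 : n4433 = n810 := ((((iv D1078)).symm.trans (sb E5640 D4433))).symm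
theorem E6572 : n2578 = n1428 := (((D1428).symm.trans (sb E5640 F11746))).symm
theorem E6573 : n6707 = n2226 := (((D2226).symm.trans (sb E5642 (iv F22595)))).symm
theorem E6574 : n6709 = n2211 := ((((iv F7855)).symm.trans (sb E5642 D6709))).symm
theorem E6575 : n3921 = n2227 := (((D2227).symm.trans (sb E5642 F17512))).symm
theorem E6578 : n498 = n300 := (((D300).symm.trans (sb E5651 (iv D664)))).symm
theorem E6579 : n881 = n297 := ((((iv F1167)).symm.trans (sb E5651 D881))).symm
theorem E6581 : n1537 = n296 := ((((iv F1162)).symm.trans (sb E5652 D1537))).symm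
theorem E6587 : n19444 = n5038 := (((D5038).symm.trans (sb E5756 (iv F62721)))).symm
theorem E6589 : n5090 = n5038 := (((iv F17376)).symm.trans (sb E5659 (tr D19444 E6587)))
theorem F67231 : act 1 n3845 = n2978 := (sb E5661 F13502)
theorem F67244 : act 1 n3911 = n5035 := (sb E5748 (iv D6582))
theorem E6682 : n8593 = n5126 := (((D5126).symm.trans (sb E5748 D8593))).symm
theorem E6683 : n5626 = n3325 := (((F13512).symm.trans (sb E5748 F22220))).symm
theorem E6689 : n5627 = n3324 := (((E6039).symm.trans (((iv F11578)).symm.trans (sb E5753 (iv F19126))))).symm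
theorem E6696 : n11459 = n8790 := ((((iv F29272)).symm.trans (sb E5760 (iv D14921)))).symm
theorem E6703 : n6737 = n5155 := ((((iv D6736)).symm.trans (sb E5764 F29279))).symm
theorem F67246 : act 4 n6736 = n6736 := (sb E5764 (iv D8792))
theorem F67248 : act 4 n3936 = n3936 := (sb E5771 (iv D5156))
theorem E6797 : n7490 = n1447 := ((((iv F5251)).symm.trans (sb E5838 D7490))).symm
theorem E6798 : n7584 = n901 := ((((iv F3341)).symm.trans (sb E5839 D7584))).symm
theorem E6803 : n12862 = n900 := ((((iv F3337)).symm.trans (sb E5842 D12862))).symm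
theorem F67258 : act 0 n680 = n871 := (sb E5844 F4194)
theorem E6804 : n1520 = n901 := ((((iv F3341)).symm.trans (sb E5844 D1520))).symm
theorem F67259 : act 5 n680 = n873 := (sb E5844 F4196)
theorem E6805 : n1522 = n893 := ((((iv F3313)).symm.trans (sb E5845 (iv F5468)))).symm
theorem F67260 : act 4 n675 = n871 := (sb E5845 (iv D1153))
theorem E6806 : n2632 = n900 := ((((iv F3337)).symm.trans (sb E5846 (iv F9220)))).symm
theorem E6808 : n2574 = n1454 := ((((iv F5265)).symm.trans (sb E5852 D2574))).symm
theorem E6810 : n12504 = n2497 := ((((iv F8823)).symm.trans (sb E5853 (iv F40975)))).symm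
theorem E6812 : n12713 = n1554 := (((F6772).symm.trans (sb E5854 D12713))).symm
theorem E6813 : n12714 = n2484 := ((((iv F8788)).symm.trans (sb E5854 D12714))).symm
theorem E6815 : n1554 = n1523 := (((D1523).symm.trans (sb E5855 (tr (iv F41649) E6812)))).symm
theorem E6818 : n4369 = n1453 := ((((iv F5262)).symm.trans (sb E5858 (iv F15008)))).symm
theorem E6822 : n2535 = n2497 := (((iv D3332)).symm.trans (sb E5860 (tr (iv D16277) E6810)))
theorem F67261 : act 5 n1896 = n1460 := (sb E5862 F6875)
theorem E6823 : n2538 = n2487 := ((((iv F8796)).symm.trans (sb E5862 D2538))).symm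
theorem F67262 : act 5 n1888 = n1486 := (sb E5864 F6971)
theorem E6824 : n2579 = n2484 := ((((iv F8788)).symm.trans (sb E5864 D2579))).symm
theorem E6825 : n12713 = n1523 := (E6812).trans E6815
theorem E6833 : n3917 = n2270 := ((((iv F8044)).symm.trans (sb E5875 (iv F13528)))).symm
theorem E6840 : n6704 = n2259 := ((((iv F8014)).symm.trans (sb E5880 D6704))).symm
theorem F67263 : act 5 n2937 = n2275 := (sb E5882 F10442)
theorem E6842 : n3919 = n3840 := ((((iv F13293)).symm.trans (sb E5882 D3919))).symm
theorem E6843 : n3841 = n3759 := (((iv F13295)).symm.trans (sb E5885 (iv F13042)))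
theorem F67264 : act 5 n2927 = n2276 := (sb E5885 F10454)
theorem E6844 : n3922 = n3837 := ((((iv F13283)).symm.trans (sb E5885 D3922))).symm
theorem F67265 : act 5 n2924 = n2353 := (sb E5886 F10799)
theorem F67266 : act 2 n2983 = n3846 := (sb E5894 F17209)
theorem F67267 : act 4 n2983 = n3845 := (sb E5894 (iv D5037))
theorem E6848 : n6588 = n3894 := ((((iv F13456)).symm.trans (sb E5894 D6588))).symm
theorem F67268 : act 5 n2979 = n3849 := (sb E5918 (iv D5043))
theorem E6877 : n6559 = n3912 := (((D3912).symm.trans (sb E5918 (iv F22154)))).symm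
theorem E6878 : n4303 = n2529 := (((F10424).symm.trans (sb E5918 F17230))).symm
theorem E6879 : n6561 = n3893 := ((((iv F13453)).symm.trans (sb E5919 (iv F22156)))).symm
theorem F67269 : act 5 n2982 = n3833 := (sb E5919 (iv D5021))
theorem E6880 : n6555 = n3916 := (((D3916).symm.trans (sb E5919 (iv F22145)))).symm
theorem F67270 : act 5 n1920 = n2494 := (sb E5920 (iv D3281))
theorem E6881 : n4281 = n2532 := (((D2532).symm.trans (sb E5920 (iv F14752)))).symm
theorem F67271 : act 0 n3084 = n3889 := (sb E5921 F17147)
theorem F67272 : act 5 n3084 = n3830 := (sb E5921 (iv D5016))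
theorem E6882 : n4276 = n2573 := (((F10781).symm.trans (sb E5921 F17149))).symm
theorem F67273 : act 0 n1953 = n2516 := (sb E5922 F11392)
theorem F67274 : act 5 n1953 = n2481 := (sb E5922 (iv D3263))
theorem F67275 : act 5 n2980 = n3910 := (sb E5924 F17443)
theorem E6885 : n6687 = n3891 := ((((iv F13451)).symm.trans (sb E5924 D6687))).symm
theorem E6886 : n4354 = n2530 := (((F10427).symm.trans (sb E5924 F17444))).symm
theorem E6887 : n11380 = n3882 := ((((iv F13429)).symm.trans (sb E5967 D11380))).symm
theorem E6888 : n7449 = n2525 := (((F10410).symm.trans (sb E5967 F29058))).symm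
theorem E6889 : n11381 = n11168 := ((((iv F36858)).symm.trans (sb E5926 D11381))).symm
theorem E6890 : n6594 = n3882 := ((F28718).symm.trans (sb E5926 (tr (iv F37480) E6887)))
theorem E6892 : n4301 = n2525 := (((iv D5637)).symm.trans (sb E5927 (tr D7449 E6888)))
theorem F67278 : act 2 n2975 = n3849 := (sb E5932 F17223)
theorem E6900 : n3906 = n3848 := ((D3906).symm.trans (sb E5932 (iv D5041)))
theorem E6901 : n11748 = n3883 := (((D3883).symm.trans (sb E5933 D11748))).symm
theorem E6904 : n11750 = n11171 := ((((iv F36864)).symm.trans (sb E5935 D11750))).symm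
theorem E6905 : n6562 = n3883 := ((F28584).symm.trans (sb E5935 (tr (iv F38621) E6901)))
theorem E6907 : n3884 = n3851 := ((D3884).symm.trans (sb E5936 F17239))
theorem F67279 : act 2 n1917 = n2494 := (sb E5938 F11440)
theorem E6910 : n2527 = n2493 := ((D2527).symm.trans (sb E5938 (iv D3279)))
theorem E6911 : n4306 = n2508 := ((((iv F8858)).symm.trans (sb E5938 D4306))).symm
theorem F67280 : act 1 n2933 = n2265 := (sb E5946 F10415)
theorem F67281 : act 4 n2933 = n2264 := (sb E5946 (iv D2977))
theorem F67283 : act 2 n1918 = n1464 := (sb E5952 (iv D1934))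
theorem E6924 : n6861 = n4012 := ((((iv F13849)).symm.trans (sb E5954 (iv F23089)))).symm
theorem F67284 : act 5 n5036 = n3911 := (sb E5957 (iv D5125))
theorem E6927 : n6700 = n6547 := ((((iv F22124)).symm.trans (sb E5957 D6700))).symm
theorem E6928 : n4364 = n4296 := (((F17207).symm.trans (sb E5957 F17479))).symm
theorem E6929 : n6672 = n6548 := ((((iv F22125)).symm.trans (sb E5958 (iv F22476)))).symm
theorem F67285 : act 5 n5011 = n3915 := (sb E5958 F17488)
theorem E6930 : n6702 = n6544 := ((((iv F22113)).symm.trans (sb E5958 D6702))).symm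
theorem F67286 : act 2 n3275 = n2533 := (sb E5959 F11581)
theorem F67287 : act 5 n3275 = n2531 := (sb E5959 (iv D3328))
theorem E6931 : n4367 = n4271 := ((((iv F14723)).symm.trans (sb E5959 D4367))).symm
theorem F67288 : act 5 n5008 = n4047 := (sb E5960 F18048)
theorem E6932 : n4426 = n4268 := (((F17124).symm.trans (sb E5960 F18049))).symm
theorem F67289 : act 5 n3256 = n2572 := (sb E5961 F11727)
theorem E6933 : n4300 = n4296 := ((((iv F14792)).symm.trans (sb E5962 (iv F14803)))).symm
theorem E6936 : n6591 = n6547 := ((((iv F22124)).symm.trans (sb E5964 D6591))).symm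
theorem E6941 : n7461 = n4326 := ((((iv F14883)).symm.trans (sb E5969 D7461))).symm
theorem E6944 : n7548 = n4323 := (((F17362).symm.trans (sb E5971 F30009))).symm
theorem E6945 : n7547 = n4327 := ((((iv F14885)).symm.trans (sb E5972 D7547))).symm
theorem E6956 : n7503 = n1423 := ((((iv D1880)).symm.trans (sb E5983 D7503))).symm
theorem E6964 : n6690 = n3831 := ((((iv F13266)).symm.trans (sb E5990 D6690))).symm
theorem E6965 : n4355 = n2492 := (((F10280).symm.trans (sb E5990 F17447))).symm
theorem E6966 : n6650 = n6557 := ((((iv F22148)).symm.trans (sb E5991 (iv F22430)))).symm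
theorem E6967 : n6691 = n6552 := ((((iv F22138)).symm.trans (sb E5991 D6691))).symm
theorem E6968 : n4356 = n4278 := ((((iv F14745)).symm.trans (sb E5992 D4356))).symm
theorem E6969 : n6651 = n6584 := (((D6584).symm.trans (sb E5995 (iv F22435)))).symm
theorem E6970 : n4357 = n4295 := (((F17203).symm.trans (sb E5995 F17454))).symm
theorem E6973 : n7455 = n4269 := ((((iv F14718)).symm.trans (sb E5997 D7455))).symm
theorem E6982 : n6654 = n3832 := (((D3832).symm.trans (sb E6003 (iv F22439)))).symm
theorem E6983 : n6695 = n3829 := ((((iv F13259)).symm.trans (sb E6003 D6695))).symm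
theorem E6984 : n4360 = n2480 := ((((iv F8775)).symm.trans (sb E6004 D4360))).symm
theorem E6985 : n6628 = n6539 := ((((iv F22096)).symm.trans (sb E6005 (iv F22372)))).symm
theorem E6986 : n6560 = n6371 := ((D6560).symm.trans (sb E6005 (iv F21579)))
theorem E6987 : n6655 = n6553 := ((((iv F22140)).symm.trans (sb E6005 D6655))).symm
theorem E6988 : n4361 = n4275 := (((F17145).symm.trans (sb E6006 F17468))).symm
theorem E6989 : n4328 = n4279 := ((((iv F14747)).symm.trans (sb E6007 (iv F14887)))).symm
theorem E6990 : n11624 = n6479 := ((((iv F21911)).symm.trans (sb E6008 D11624))).symm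
theorem E6995 : n11330 = n6479 := (((iv F37342)).symm.trans (sb E6011 (tr F49267 E6990)))
theorem E6997 : n6653 = n6549 := (((D6549).symm.trans (sb E6012 (iv D8689)))).symm
theorem F67290 : act 1 n3274 = n2528 := (sb E6016 F11568)
theorem F67291 : act 4 n3274 = n2533 := (sb E6016 F11570)
theorem E7002 : n4329 = n4298 := (((D4298).symm.trans (sb E6016 (iv F14893)))).symm
theorem E7003 : n7410 = n4270 := (((D4270).symm.trans (sb E6017 (iv F24847)))).symm
theorem E7004 : n12730 = n7409 := ((((iv F24844)).symm.trans (sb E6018 D12730))).symm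
theorem E7008 : n6863 = n6538 := ((((iv F22092)).symm.trans (sb E6022 (iv F23096)))).symm
theorem F67292 : act 5 n5004 = n4014 := (sb E6022 F17900)
theorem E7009 : n6868 = n6535 := ((((iv F22085)).symm.trans (sb E6022 D6868))).symm
theorem F67293 : act 5 n5001 = n4028 := (sb E6023 F17952)
theorem F67294 : act 2 n5186 = n4007 := (sb E6031 (iv D5249))
theorem F67295 : act 5 n5186 = n4011 := (sb E6031 F17891)
theorem F67296 : act 0 n3379 = n4324 := (sb E6035 F19018)
theorem E7018 : n2539 = n2534 := ((((iv F8925)).symm.trans (sb E6036 (iv F8941)))).symm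
theorem E7019 : n2580 = n2524 := ((((iv F8903)).symm.trans (sb E6036 D2580))).symm
theorem F67297 : act 0 n1915 = n1486 := (sb E6037 F6974)
theorem E7020 : n1568 = n1525 := ((F6848).symm.trans (sb E6037 F6975))
theorem E7021 : n2581 = n2520 := ((((iv F8891)).symm.trans (sb E6037 D2581))).symm
theorem F67298 : act 0 n3324 = n2533 := (sb E6039 F11578)
theorem E7023 : n4363 = n4338 := ((D4363).symm.trans (sb E6039 (iv F14917)))
theorem E7026 : n7462 = n7405 := ((((iv F24831)).symm.trans (sb E6042 D7462))).symm
theorem E7028 : n7549 = n7408 := ((((iv F24842)).symm.trans (sb E6043 D7549))).symm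
theorem E7030 : n11144 = n6668 := ((((iv F22468)).symm.trans (sb E6046 (iv F36803)))).symm
theorem E7032 : n11112 = n6641 := ((((iv F22405)).symm.trans (sb E6047 (iv F36712)))).symm
theorem E7035 : n11110 = n6873 := ((((iv F23128)).symm.trans (sb E6049 (iv F36707)))).symm
theorem F67299 : act 5 n5260 = n6531 := (sb E6049 (iv D8524))
theorem F67302 : act 1 n5255 = n6864 := (sb E6051 F29450)
theorem F67303 : act 5 n5255 = n6772 := (sb E6051 (iv D8843))
theorem F67304 : act 1 n2984 = n2275 := (sb E6052 (iv D2989))
theorem F67305 : act 3 n2984 = n3910 := (sb E6052 (iv F13507))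
theorem E7037 : n3923 = n3902 := ((((iv F13482)).symm.trans (sb E6052 D3923))).symm
theorem F67306 : act 0 n2970 = n2353 := (sb E6054 F10803)
theorem F67307 : act 2 n3910 = n5036 := (sb E6055 F22222)
theorem F67308 : act 4 n3910 = n5035 := (sb E6055 (iv D6583))
theorem E7040 : n6698 = n6667 := ((((iv F22466)).symm.trans (sb E6056 D6698))).symm
theorem F67309 : act 6 n5099 = n3910 := (sb E6056 (iv D5124))
theorem E7042 : n6892 = n6640 := ((((iv F22403)).symm.trans (sb E6057 (iv F23184)))).symm
theorem E7045 : n6870 = n6638 := ((((iv F22398)).symm.trans (sb E6059 (iv F23118)))).symm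
theorem F67310 : act 0 n5076 = n4028 := (sb E6060 F17968)
theorem F67311 : act 0 n5254 = n4015 := (sb E6061 F17912)
theorem F67312 : act 4 n5254 = n6864 := (sb E6061 (iv F23100))
theorem E7047 : n11352 = n11321 := ((((iv F37319)).symm.trans (sb E6062 (iv F37389)))).symm
theorem E7050 : n8998 = n8523 := (E6064).trans E6121
theorem E7051 : n11693 = n11109 := ((((iv F36704)).symm.trans (sb E7050 (iv F38449)))).symm
theorem E7052 : n11732 = n10969 := ((((iv F36305)).symm.trans (sb E7050 D11732))).symm
theorem E7053 : n11113 = n6640 := (((iv F36717)).symm.trans (sb E7050 (tr F29914 E7042)))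
theorem E7054 : n11733 = n11114 := (((D11114).symm.trans (sb E7050 D11733))).symm
theorem E7055 : n11282 = n10969 := (((iv F37214)).symm.trans (sb E6065 (tr (iv F38570) E7052)))
theorem E7058 : n11273 = n11114 := (((iv F37188)).symm.trans (sb E6066 (tr (iv F38571) E7054)))
theorem E7060 : n11279 = n11109 := (((iv F37206)).symm.trans (sb E6067 (tr D11693 E7051)))
theorem E7062 : n6864 = n6771 := ((((iv F22818)).symm.trans (sb E6069 (iv F23099)))).symm
theorem F67313 : act 4 n5182 = n4015 := (sb E6069 F17902)
theorem E7063 : n6774 = n6629 := ((D6774).symm.trans (sb E6069 (iv F22377)))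
theorem F67314 : act 6 n5072 = n3962 := (sb E6070 (iv D5193))
theorem F67315 : act 2 n5254 = n6772 := (sb E6071 F29445)
theorem F67320 : act 1 n5185 = n6772 := (sb E6096 (iv F22822))
theorem F67321 : act 4 n5185 = n4007 := (sb E6096 (iv D5250))
theorem E7093 : n6778 = n6626 := ((D6778).symm.trans (sb E6096 (iv F22369)))
theorem E7099 : n6627 = n6540 := (((iv F22371)).symm.trans (sb E6100 (iv F22099)))
theorem F67323 : act 6 n5071 = n3958 := (sb E6100 (iv D5188))
theorem E7106 : n11303 = n11108 := ((((iv F36703)).symm.trans (sb E6106 (iv F37272)))).symm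
theorem E7149 : n11669 = n6728 := ((((iv F22673)).symm.trans (sb E6132 D11669))).symm
theorem E7151 : n11673 = n6723 := ((((iv F22655)).symm.trans (sb E6134 D11673))).symm
theorem E7152 : n11266 = n6729 := (((D6729).symm.trans (sb E6135 (iv F37168)))).symm
theorem F67329 : act 1 n8790 = n6871 := (sb E6139 (iv F67176))
theorem E7158 : n11447 = n11261 := ((((iv F37154)).symm.trans (sb E6140 (iv F37698)))).symm
theorem E7251 : n8798 = n6740 := (((E6341).symm.trans ((D6856).symm.trans (sb E6237 F37770)))).symm
theorem F67344 : act 5 n5159 = n5159 := (sb E6238 (iv D6743))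
theorem E7254 : n8785 = n6730 := ((((iv F22677)).symm.trans (sb E6238 (iv F29254)))).symm
theorem F67345 : act 5 n5151 = n5151 := (sb E6241 (iv D6731))
theorem E7274 : n12802 = n12743 := ((((iv D16578)).symm.trans (sb E6265 (iv D16649)))).symm
theorem E7276 : n12727 = n12667 := (((iv F41689)).symm.trans (sb E6268 (iv F41498)))
theorem E7352 : n14905 = n8637 := (((D8637).symm.trans (sb E6331 (iv F48558)))).symm
theorem E7355 : n8783 = n8640 := (((D8640).symm.trans (sb E6336 (iv D11451)))).symm
theorem F67352 : act 2 n6740 = n5245 := (sb E6341 (iv D6856))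
theorem E7365 : n8733 = n2919 := (((F13245).symm.trans (sb E6349 F37496))).symm
theorem E7369 : n8738 = n2917 := ((((iv F10230)).symm.trans (sb E6351 D8738))).symm
theorem E7381 : n5703 = n1891 := (((F8804).symm.trans (sb E6363 (iv D7453)))).symm
theorem E7383 : n5708 = n1882 := ((((iv F6755)).symm.trans (sb E6364 D5708))).symm
theorem E7384 : n9725 = n3229 := ((((iv F11278)).symm.trans (sb E6365 D9725))).symm
theorem E7469 : n1167 = n218 := (((F1106).symm.trans (sb E6452 F5502))).symm
theorem F67362 : act 2 n2272 = n2937 := (sb E6472 F13335)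
theorem E7490 : n2986 = n2936 := ((D2986).symm.trans (sb E6472 (iv D3853)))
theorem E7492 : n3282 = n1925 := (((F8054).symm.trans (sb E6472 F13336))).symm
theorem F67363 : act 4 n2235 = n1727 := (sb E6475 (iv D2274))
theorem E7496 : n2939 = n2870 := ((D2939).symm.trans (sb E6475 (iv F10083)))
theorem E7497 : n1927 = n1895 := (((F7943).symm.trans (sb E6475 F8061))).symm
theorem F67364 : act 2 n1457 = n1896 := (sb E6477 F8826)
theorem F67365 : act 6 n2188 = n1699 := (sb E6481 (iv D2239))
theorem F67366 : act 4 n1435 = n1100 := (sb E6482 (iv D1458))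
theorem E7506 : n1899 = n1435 := ((D1899).symm.trans (sb E6482 (tr F5280 E6482)))
theorem F67367 : act 1 n872 = n675 := (sb E6487 F3317)
theorem F67368 : act 6 n872 = n1083 := (sb E6487 (iv F3999))
theorem E7520 : n403 = n207 := (((D207).symm.trans (sb E6496 F2055))).symm
theorem E7523 : n374 = n226 := ((D374).symm.trans (sb E6498 F1189))
theorem F67369 : act 3 n278 = n225 := (sb E6498 (iv D302))
theorem E7524 : n400 = n372 := ((((iv F1434)).symm.trans (sb E6498 (iv F1555)))).symm
theorem F67370 : act 1 n299 = n373 := (sb E6502 F1902)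
theorem E7526 : n666 = n393 := ((((iv F1524)).symm.trans (sb E6502 D666))).symm
theorem E7540 : n16544 = n3452 := ((((iv D4516)).symm.trans (sb E6516 (iv F53638)))).symm
theorem E7543 : n2024 = n220 := ((((iv F878)).symm.trans (sb E6519 F9299))).symm
theorem E7553 : n3452 = n677 := ((((iv F2549)).symm.trans (sb E6528 (tr (iv F53641) E7540)))).symm
theorem E7554 : n1166 = n392 := (((F1932).symm.trans (sb E6529 F5498))).symm
theorem E7555 : n2006 = n673 := (((D673).symm.trans (sb E6529 (iv F7110)))).symm
theorem E7556 : n3448 = n678 := (((D678).symm.trans (sb E6530 (iv F11945)))).symm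
theorem E7574 : n4505 = n805 := ((((iv F3018)).symm.trans (sb E6549 D4505))).symm
theorem E7587 : n2651 = n298 := (((D298).symm.trans (sb E6558 D2651))).symm
theorem E7588 : n4510 = n512 := (((D512).symm.trans (sb E6559 (iv F15447)))).symm
theorem E7591 : n8753 = n2922 := (((D2922).symm.trans (sb E6564 (iv F29143)))).symm
theorem E7592 : n8755 = n2902 := ((((iv F10178)).symm.trans (sb E6564 (iv F29150)))).symm
theorem E7593 : n5136 = n2923 := (((D2923).symm.trans (sb E6564 F22605))).symm
theorem E7594 : n5725 = n1884 := (((F7902).symm.trans (sb E6564 F22607))).symm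
theorem E7595 : n9045 = n1679 := ((((iv F6048)).symm.trans (sb E6565 (iv F30051)))).symm
theorem E7596 : n9046 = n965 := ((((iv D1280)).symm.trans (sb E6565 D9046))).symm
theorem E7597 : n3386 = n1885 := (((F7907).symm.trans (sb E6566 F13983))).symm
theorem E7598 : n5797 = n1077 := ((((iv D1426)).symm.trans (sb E6567 (iv F19637)))).symm
theorem E7601 : n5722 = n1886 := (((D1886).symm.trans (sb E6570 (iv F19418)))).symm
theorem E7602 : n5724 = n1877 := ((((iv F6735)).symm.trans (sb E6570 D5724))).symm
theorem E7603 : n3335 = n1887 := (((D1887).symm.trans (sb E6570 F15026))).symm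
theorem E7604 : n5796 = n1072 := ((((iv F3959)).symm.trans (sb E6571 D5796))).symm
theorem E7606 : n2007 = n1177 := (((F5195).symm.trans (sb E6572 F9052))).symm
theorem E7607 : n8752 = n2904 := ((((iv F10184)).symm.trans (sb E6573 D8752))).symm
theorem E7608 : n5133 = n2925 := (((D2925).symm.trans (sb E6573 F22596))).symm
theorem E7610 : n8365 = n2905 := (((D2905).symm.trans (sb E6574 (iv F28004)))).symm
theorem E7611 : n4916 = n2926 := (((D2926).symm.trans (sb E6575 (iv F16839)))).symm
theorem E7613 : n401 = n300 := ((D401).symm.trans (sb E6578 (tr F1898 E6578)))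
theorem E7614 : n397 = n297 := ((D397).symm.trans (sb E6579 (tr F3265 E6579)))
theorem E7615 : n396 = n296 := ((D396).symm.trans (sb E6581 (tr F5525 E6581)))
theorem F67378 : act 1 n5038 = n3885 := (sb E6589 F17376)
theorem E7616 : n6647 = n6589 := (((D6589).symm.trans (sb E6589 (iv F22425)))).symm
theorem F67393 : act 1 n5126 = n6584 := (sb E6682 F28662)
theorem E7663 : n11207 = n6668 := ((((iv F22468)).symm.trans (sb E6682 D11207))).symm
theorem E7664 : n11208 = n6701 := (((D6701).symm.trans (sb E6682 D11208))).symm
theorem F67394 : act 1 n3325 = n4295 := (sb E6683 (iv D5626))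
theorem E7665 : n7354 = n4365 := (((D4365).symm.trans (sb E6683 D7354))).symm
theorem F67395 : act 4 n3324 = n4295 := (sb E6689 (iv D5627))
theorem E7675 : n8791 = n6735 := ((((iv D8790)).symm.trans (sb E6696 F37736))).symm
theorem F67396 : act 4 n8790 = n8790 := (sb E6696 (iv D11459))
theorem F67398 : act 4 n5155 = n5155 := (sb E6703 (iv D6737))
theorem E7749 : n9766 = n1188 := (((F5250).symm.trans (sb E6797 D9766))).symm
theorem E7751 : n9885 = n1190 := ((((iv F4345)).symm.trans (sb E6798 D9885))).symm
theorem E7758 : n16723 = n1189 := ((((iv F4341)).symm.trans (sb E6803 D16723))).symm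
theorem F67412 : act 0 n901 = n1152 := (sb E6804 F5458)
theorem E7759 : n2003 = n1190 := ((((iv F4345)).symm.trans (sb E6804 D2003))).symm
theorem F67413 : act 5 n901 = n1154 := (sb E6804 F5460)
theorem E7760 : n2005 = n1188 := ((((iv F4340)).symm.trans (sb E6804 D2005))).symm
theorem E7761 : n1179 = n893 := (((iv F4305)).symm.trans (sb E6805 (tr F5467 E6805)))
theorem F67414 : act 4 n893 = n1152 := (sb E6805 (iv D1522))
theorem E7762 : n1189 = n900 := (((iv F4341)).symm.trans (sb E6806 (tr F9219 E6806)))
theorem E7765 : n3331 = n1923 := ((((iv F6865)).symm.trans (sb E6808 (iv F11588)))).symm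
theorem E7772 : n16539 = n2008 := (((D2008).symm.trans (sb E6825 D16539))).symm
theorem E7773 : n2041 = n2008 := ((F8787).symm.trans (sb E6813 (tr (iv F53621) E7772)))
theorem F67415 : act 2 n1523 = n1888 := (sb E6815 (iv F6772))
theorem E7778 : n5719 = n1912 := ((((iv F6841)).symm.trans (sb E6818 D5719))).symm
theorem F67416 : act 5 n2497 = n1928 := (sb E6822 F8929)
theorem E7781 : n3333 = n3269 := ((((iv F11413)).symm.trans (sb E6822 D3333))).symm
theorem E7782 : n3270 = n2487 := (((iv F11415)).symm.trans (sb E6823 (tr F8939 E6823)))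
theorem F67417 : act 5 n2487 = n1929 := (sb E6823 F8940)
theorem E7783 : n3336 = n3266 := ((((iv F11404)).symm.trans (sb E6823 D3336))).symm
theorem F67418 : act 5 n2484 = n1962 := (sb E6824 F9056)
theorem E7787 : n5131 = n2972 := ((((iv F10401)).symm.trans (sb E6833 D5131))).symm
theorem E7790 : n8748 = n2971 := (((D2971).symm.trans (sb E6840 D8748))).symm
theorem E7792 : n5028 = n4914 := (((iv F17182)).symm.trans (sb E6842 (iv F16832)))
theorem F67419 : act 5 n3840 = n2990 := (sb E6842 F13537)
theorem E7793 : n5134 = n5023 := ((((iv F17167)).symm.trans (sb E6842 D5134))).symm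
theorem F67420 : act 2 n3759 = n2927 := (sb E6843 F13295)
theorem E7795 : n5024 = n4917 := (((D4917).symm.trans (sb E6843 (iv F17170)))).symm
theorem F67421 : act 5 n3837 = n2991 := (sb E6844 F13546)
theorem E7798 : n8549 = n5101 := ((((iv F17401)).symm.trans (sb E6848 (iv F28544)))).symm
theorem F67422 : act 4 n3894 = n5038 := (sb E6848 F22241)
theorem E7799 : n8601 = n5095 := ((((iv F17392)).symm.trans (sb E6848 D8601))).symm
theorem F67423 : act 1 n3912 = n5099 := (sb E6877 F22152)
theorem E7832 : n8562 = n5098 := ((((iv F17396)).symm.trans (sb E6877 (iv F28574)))).symm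
theorem F67424 : act 5 n3912 = n5018 := (sb E6877 (iv D6559))
theorem E7833 : n8554 = n5127 := (((D5127).symm.trans (sb E6877 (iv F28559)))).symm
theorem F67425 : act 5 n2529 = n3278 := (sb E6878 (iv D4303))
theorem E7834 : n5603 = n3326 := (((D3326).symm.trans (sb E6878 (iv F19060)))).symm
theorem F67426 : act 5 n3893 = n5019 := (sb E6879 (iv D6561))
theorem E7836 : n8556 = n5103 := (((D5103).symm.trans (sb E6879 (iv F28563)))).symm
theorem F67427 : act 5 n3916 = n5015 := (sb E6880 (iv D6555))
theorem E7837 : n5599 = n3330 := (((F13527).symm.trans (sb E6880 F22144))).symm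
theorem E7838 : n5605 = n3307 := ((((iv F11520)).symm.trans (sb E6881 (iv F19064)))).symm
theorem F67428 : act 5 n2532 = n3262 := (sb E6881 (iv D4281))
theorem F67429 : act 0 n2573 = n3303 := (sb E6882 F14737)
theorem F67430 : act 5 n2573 = n3259 := (sb E6882 (iv D4276))
theorem E7842 : n8730 = n5097 := ((((iv F17394)).symm.trans (sb E6885 D8730))).symm
theorem E7843 : n8731 = n5092 := ((((iv F17385)).symm.trans (sb E6885 D8731))).symm
theorem F67431 : act 5 n2530 = n3324 := (sb E6886 F14968)
theorem E7844 : n5702 = n3305 := ((((iv F11516)).symm.trans (sb E6886 D5702))).symm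
theorem E7845 : n14817 = n5086 := (((D5086).symm.trans (sb E6887 D14817))).symm
theorem E7848 : n14747 = n14539 := ((((iv F47470)).symm.trans (sb E6889 (iv F48095)))).symm
theorem E7849 : n14819 = n14545 := ((((iv F47484)).symm.trans (sb E6889 D14819))).symm
theorem E7850 : n8563 = n5086 := ((F36859).symm.trans (sb E6889 (tr (iv F48280) E7845)))
theorem E7852 : n5087 = n5042 := ((D5087).symm.trans (sb E6890 F22261))
theorem F67433 : act 2 n2525 = n3278 := (sb E6892 F14807)
theorem E7855 : n3320 = n3277 := ((D3320).symm.trans (sb E6892 (iv D4301)))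
theorem E7856 : n5638 = n3296 := ((((iv F11490)).symm.trans (sb E6892 D5638))).symm
theorem F67435 : act 1 n3848 = n5036 := (sb E6900 (iv F17205))
theorem F67436 : act 4 n3848 = n2975 := (sb E6900 (iv D3906))
theorem E7868 : n15296 = n4878 := ((((iv F16717)).symm.trans (sb E6901 D15296))).symm
theorem E7873 : n8566 = n4878 := ((F36865).symm.trans (sb E6904 (tr (iv F49745) E7868)))
theorem E7875 : n5088 = n5020 := ((D5088).symm.trans (sb E6905 F22158))
theorem F67437 : act 6 n3883 = n5019 := (sb E6905 (iv D6562))
theorem E7876 : n8568 = n5083 := ((((iv F17359)).symm.trans (sb E6905 D8568))).symm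
theorem F67438 : act 1 n3851 = n2959 := (sb E6907 F13431)
theorem F67439 : act 4 n3851 = n2958 := (sb E6907 (iv D3884))
theorem E7878 : n5084 = n5047 := (((D5047).symm.trans (sb E6907 (iv F17363)))).symm
theorem F67440 : act 1 n2493 = n1918 := (sb E6910 F8909)
theorem F67441 : act 4 n2493 = n1917 := (sb E6910 (iv D2527))
theorem E7881 : n3298 = n3280 := (((D3280).symm.trans (sb E6910 (iv F11496)))).symm
theorem E7882 : n5606 = n3297 := (((D3297).symm.trans (sb E6911 (iv F19066)))).symm
theorem F67442 : act 5 n4012 = n5254 := (sb E6924 F23091)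
theorem E7895 : n8708 = n8544 := ((((iv F28532)).symm.trans (sb E6927 (iv F28995)))).symm
theorem F67443 : act 5 n6547 = n5126 := (sb E6927 F22571)
theorem E7896 : n8745 = n8539 := ((((iv F28519)).symm.trans (sb E6927 D8745))).symm
theorem F67444 : act 5 n4296 = n3325 := (sb E6928 (iv D4364))
theorem E7897 : n5715 = n5591 := ((((iv F19028)).symm.trans (sb E6928 D5715))).symm
theorem E7898 : n8711 = n8547 := (((D8547).symm.trans (sb E6929 (iv F29002)))).symm
theorem F67445 : act 5 n6548 = n5102 := (sb E6929 F22477)
theorem E7899 : n8713 = n8540 := ((((iv F28521)).symm.trans (sb E6929 D8713))).symm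
theorem F67446 : act 5 n6544 = n5129 := (sb E6930 F22578)
theorem E7900 : n5717 = n5588 := (((F22112).symm.trans (sb E6930 F22579))).symm
theorem E7901 : n5687 = n5592 := ((((iv F19030)).symm.trans (sb E6931 (iv F19306)))).symm
theorem F67447 : act 5 n4271 = n3329 := (sb E6931 F15004)
theorem F67448 : act 5 n4268 = n3379 := (sb E6932 F15177)
theorem F67449 : act 2 n4296 = n3324 := (sb E6933 F14804)
theorem E7902 : n5635 = n5591 := ((((iv F19028)).symm.trans (sb E6933 D5635))).symm
theorem E7905 : n8605 = n8544 := ((((iv F28532)).symm.trans (sb E6936 D8605))).symm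
theorem E7913 : n9729 = n5664 := ((((iv F19237)).symm.trans (sb E6941 D9729))).symm
theorem E7917 : n9839 = n5660 := ((((iv F19224)).symm.trans (sb E6944 (iv F32579)))).symm
theorem E7918 : n9838 = n5667 := (((D5667).symm.trans (sb E6945 D9838))).symm
theorem E7925 : n9784 = n1868 := ((((iv F6704)).symm.trans (sb E6956 D9784))).symm
theorem E7931 : n8685 = n5017 := (((D5017).symm.trans (sb E6964 (iv F28945)))).symm
theorem E7932 : n8735 = n5013 := ((((iv F17141)).symm.trans (sb E6964 D8735))).symm
theorem E7933 : n5705 = n3260 := ((((iv F11387)).symm.trans (sb E6965 D5705))).symm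
theorem E7934 : n8682 = n8559 := ((((iv F28568)).symm.trans (sb E6966 (iv F28937)))).symm
theorem E7935 : n8561 = n8306 := ((D8561).symm.trans (sb E6966 (iv F27815)))
theorem E7936 : n8686 = n8552 := ((((iv F28552)).symm.trans (sb E6966 D8686))).symm
theorem E7937 : n5706 = n5596 := (((F22137).symm.trans (sb E6967 F22541))).symm
theorem E7938 : n5665 = n5601 := ((((iv F19054)).symm.trans (sb E6968 (iv F19239)))).symm
theorem E7939 : n8684 = n8545 := ((((iv F28534)).symm.trans (sb E6969 (iv F28942)))).symm
theorem F67450 : act 4 n6584 = n5099 := (sb E6969 F22434)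
theorem E7940 : n8676 = n8597 := (((D8597).symm.trans (sb E6969 (iv F28925)))).symm
theorem E7941 : n5666 = n5628 := (((D5628).symm.trans (sb E6970 (iv F19245)))).symm
theorem E7946 : n9663 = n5590 := (((D5590).symm.trans (sb E6973 (iv F32014)))).symm
theorem E7955 : n8688 = n4972 := ((((iv F17004)).symm.trans (sb E6982 (iv F28952)))).symm
theorem E7956 : n8690 = n5014 := ((((iv F17142)).symm.trans (sb E6982 D8690))).symm
theorem E7957 : n5710 = n3258 := (((F13258).symm.trans (sb E6983 F22555))).symm
theorem E7958 : n5669 = n3261 := (((D3261).symm.trans (sb E6984 (iv F19253)))).symm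
theorem E7959 : n8649 = n8531 := ((((iv F28495)).symm.trans (sb E6985 (iv F28850)))).symm
theorem E7960 : n8534 = n8280 := ((D8534).symm.trans (sb E6985 (iv F27737)))
theorem F67451 : act 5 n6539 = n5080 := (sb E6985 F22374)
theorem F67452 : act 6 n6539 = n5070 := (sb E6985 (iv D6628))
theorem E7961 : n8654 = n8527 := ((((iv F28486)).symm.trans (sb E6985 D8654))).symm
theorem F67453 : act 3 n6371 = n5019 := (sb E6986 (iv D6560))
theorem E7962 : n8473 = n8310 := ((((iv F27826)).symm.trans (sb E6986 (iv F28309)))).symm
theorem E7963 : n8555 = n8311 := (((D8311).symm.trans (sb E6986 (iv F28561)))).symm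
theorem E7964 : n8680 = n8557 := (((D8557).symm.trans (sb E6987 (iv F28935)))).symm
theorem E7965 : n5670 = n5597 := ((((iv F19045)).symm.trans (sb E6988 (iv F19256)))).symm
theorem E7966 : n5604 = n4279 := ((D5604).symm.trans (sb E6989 (tr F14888 E6989)))
theorem E7972 : n14756 = n8451 := (((D8451).symm.trans (sb E6995 (iv F48120)))).symm
theorem E7975 : n8678 = n8550 := (((D8550).symm.trans (sb E6997 (iv F28930)))).symm
theorem F67454 : act 1 n4298 = n3299 := (sb E7002 F14890)
theorem E7980 : n5668 = n5593 := ((((iv F19032)).symm.trans (sb E7002 (iv F19250)))).symm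
theorem F67455 : act 4 n4298 = n3308 := (sb E7002 F14892)
theorem E7981 : n5662 = n5633 := (((D5633).symm.trans (sb E7002 (iv F19232)))).symm
theorem E7982 : n9666 = n5544 := ((((iv F18867)).symm.trans (sb E7003 (iv F32025)))).symm
theorem E7983 : n16562 = n7409 := (((F24845).symm.trans (sb E7004 D16562))).symm
theorem F67456 : act 5 n6538 = n5256 := (sb E7008 F23098)
theorem E7986 : n8961 = n8526 := ((((iv F28483)).symm.trans (sb E7008 D8961))).symm
theorem F67457 : act 5 n6535 = n5261 := (sb E7009 F23113)
theorem F67458 : act 1 n2534 = n1928 := (sb E7018 (iv D2539))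
theorem F67459 : act 3 n2534 = n3324 := (sb E7018 (iv F11572))
theorem E7993 : n3337 = n3316 := ((((iv F11550)).symm.trans (sb E7018 D3337))).symm
theorem E7994 : n3387 = n3318 := ((((iv F11555)).symm.trans (sb E7019 D3387))).symm
theorem F67460 : act 2 n1525 = n1915 := (sb E7020 (iv F6848))
theorem E7997 : n2058 = n2010 := (((D2010).symm.trans (sb E7020 (iv F7311)))).symm
theorem F67461 : act 0 n2520 = n1962 := (sb E7021 F9059)
theorem E7999 : n5713 = n5682 := ((((iv F19291)).symm.trans (sb E7023 D5713))).symm
theorem F67462 : act 6 n4338 = n3324 := (sb E7023 (iv D4363))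
theorem E8003 : n9688 = n9657 := ((((iv F31995)).symm.trans (sb E7026 (iv F32094)))).symm
theorem E8004 : n9731 = n9661 := ((((iv F32009)).symm.trans (sb E7026 D9731))).symm
theorem E8006 : n9840 = n9665 := (((D9665).symm.trans (sb E7028 D9840))).symm
theorem E8007 : n9841 = n9652 := ((((iv F31981)).symm.trans (sb E7028 D9841))).symm
theorem E8009 : n14509 = n8703 := ((((iv F28984)).symm.trans (sb E7030 (iv F47397)))).symm
theorem E8012 : n14467 = n8667 := ((((iv F28897)).symm.trans (sb E7032 (iv F47280)))).symm
theorem E8013 : n14470 = n8670 := ((((iv F28906)).symm.trans (sb E7032 (iv F47290)))).symm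
theorem F67463 : act 5 n6641 = n8522 := (sb E7032 (iv D11112))
theorem F67464 : act 1 n6873 = n8650 := (sb E7035 F36708)
theorem F67465 : act 5 n6873 = n8521 := (sb E7035 (iv D11110))
theorem F67467 : act 1 n3902 = n2990 := (sb E7037 F13549)
theorem E8019 : n5137 = n5113 := ((((iv F17435)).symm.trans (sb E7037 D5137))).symm
theorem E8020 : n5138 = n5107 := ((((iv F17418)).symm.trans (sb E7037 D5138))).symm
theorem E8023 : n8704 = n8702 := ((((iv F28983)).symm.trans (sb E7040 (iv F28986)))).symm
theorem E8026 : n8969 = n8666 := ((((iv F28895)).symm.trans (sb E7042 (iv F29823)))).symm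
theorem F67468 : act 1 n6638 = n5256 := (sb E7045 F23119)
theorem F67469 : act 6 n6638 = n5254 := (sb E7045 (iv D6870))
theorem E8032 : n8970 = n8658 := ((((iv F28876)).symm.trans (sb E7045 D8970))).symm
theorem E8033 : n14716 = n14685 := ((((iv F47924)).symm.trans (sb E7047 (iv F48012)))).symm
theorem E8034 : n14787 = n14744 := ((((iv F48089)).symm.trans (sb E7047 D14787))).symm
theorem E8035 : n14788 = n14730 := ((((iv F48052)).symm.trans (sb E7047 D14788))).symm
theorem E8039 : n14685 = n14465 := ((((iv F47277)).symm.trans (sb E7051 (tr (iv F48013) E8033)))).symm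
theorem E8041 : n14468 = n8666 := (((iv F47285)).symm.trans (sb E7051 (tr F38450 E8026)))
theorem E8045 : n14471 = n8669 := ((((iv F28904)).symm.trans (sb E7053 (iv F47292)))).symm
theorem F67470 : act 4 n6640 = n8523 := (sb E7053 F36717)
theorem F67471 : act 6 n6640 = n8522 := (sb E7053 (iv D11113))
theorem E8046 : n14473 = n8660 := ((((iv F28882)).symm.trans (sb E7053 D14473))).symm
theorem E8048 : n14689 = n14271 := ((((iv F46714)).symm.trans (sb E7055 (iv F47936)))).symm
theorem E8050 : n14693 = n14275 := ((((iv F46725)).symm.trans (sb E7055 D14693))).symm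
theorem E8051 : n8651 = n8436 := (((F36306).symm.trans (sb E7055 (iv D11282)))).symm
theorem E8056 : n14677 = n14469 := ((((iv F47286)).symm.trans (sb E7058 (iv F47898)))).symm
theorem E8060 : n8842 = n8650 := ((F36705).symm.trans (sb E7060 F37206))
theorem E8061 : n8648 = n8532 := (((F36706).symm.trans (sb E7060 (iv D11279)))).symm
theorem F67472 : act 1 n6771 = n5255 := (sb E7062 (iv F67302))
theorem F67473 : act 4 n6771 = n5254 := (sb E7062 (iv F67312))
theorem F67475 : act 6 n6629 = n5182 := (sb E7063 (iv D6774))
theorem F67483 : act 6 n6626 = n5185 := (sb E7093 (iv D6778))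
theorem F67487 : act 2 n6540 = n5071 := (sb E7099 F22371)
theorem F67488 : act 4 n6540 = n5070 := (sb E7099 (iv D6627))
theorem E8084 : n14715 = n14464 := ((((iv F47274)).symm.trans (sb E7106 (iv F48010)))).symm
theorem E8085 : n14721 = n14466 := (((D14466).symm.trans (sb E7106 (iv F48026)))).symm
theorem E8086 : n14724 = n14457 := ((((iv F47251)).symm.trans (sb E7106 D14724))).symm
theorem E8096 : n14716 = n14465 := (E8033).trans E8039
theorem E8109 : n14668 = n8781 := (((D8781).symm.trans (sb E7149 (iv F47873)))).symm
theorem E8113 : n14672 = n8774 := (((D8774).symm.trans (sb E7151 (iv F47884)))).symm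
theorem F67497 : act 6 n6729 = n8639 := (sb E7152 (iv D11266))
theorem E8121 : n14902 = n14664 := ((((iv F47863)).symm.trans (sb E7158 (iv F48552)))).symm
theorem E8122 : n14666 = n14232 := ((D14666).symm.trans (sb E7158 (iv F46607)))
theorem F67514 : act 5 n6740 = n6740 := (sb E7251 (iv D8798))
theorem E8200 : n11448 = n8782 := ((((iv F29247)).symm.trans (sb E7251 (iv F37702)))).symm
theorem F67515 : act 5 n6730 = n6730 := (sb E7254 (iv D8785))
theorem E8207 : n16558 = n16483 := (((iv F53682)).symm.trans (sb E7274 (iv F53445)))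
theorem E8209 : n12667 = n2458 := (((D2458).symm.trans (iv (sb E7276 (tr F41689 E7925))))).symm
theorem E8210 : n12727 = n2458 := (E7276).trans E8209
theorem E8212 : n16483 = n3228 := ((((iv F11277)).symm.trans (sb E8210 (tr D16558 E8207)))).symm
theorem E8306 : n19374 = n11260 := (((D11260).symm.trans (sb E7352 (iv F62491)))).symm
theorem E8308 : n11446 = n11262 := (((D11262).symm.trans (sb E7352 (iv D14905)))).symm
theorem F67520 : act 4 n8640 = n6729 := (sb E7355 (iv D8783))
theorem E8333 : n11387 = n3828 := ((((iv F13256)).symm.trans (sb E7365 D11387))).symm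
theorem E8337 : n7459 = n2477 := (((F10229).symm.trans (sb E7369 F29092))).symm
theorem E8351 : n7454 = n2479 := ((((iv F8773)).symm.trans (sb E7381 D7454))).symm
theorem E8353 : n7458 = n2463 := ((((iv F8717)).symm.trans (sb E7383 D7458))).symm
theorem E8354 : n12596 = n4236 := (((D4236).symm.trans (sb E7384 (iv F41270)))).symm
theorem E8444 : n1540 = n292 := ((((iv F1144)).symm.trans (sb E7469 (iv F5538)))).symm
theorem F67524 : act 4 n2936 = n2272 := (sb E7490 (iv D2986))
theorem E8465 : n3854 = n3757 := ((D3854).symm.trans (sb E7490 (iv F13035)))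
theorem E8466 : n2536 = n2496 := (((F10295).symm.trans (sb E7490 F10448))).symm
theorem F67525 : act 2 n1925 = n2497 := (sb E7492 F11447)
theorem E8475 : n3842 = n3758 := ((((iv F13038)).symm.trans (sb E7496 (iv F13297)))).symm
theorem F67526 : act 6 n2870 = n2235 := (sb E7496 (iv D2939))
theorem F67527 : act 4 n1895 = n1457 := (sb E7497 (iv D1927))
theorem E8477 : n2499 = n1895 := ((D2499).symm.trans (sb E7497 (tr F6879 E7497)))
theorem F67528 : act 6 n1435 = n1435 := (sb E7506 (iv D1899))
theorem E8507 : n303 = n280 := (((D280).symm.trans (sb E7520 F1566))).symm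
theorem F67529 : act 0 n226 = n278 := (sb E7523 (iv D374))
theorem F67530 : act 0 n372 = n300 := (sb E7524 F1553)
theorem F67531 : act 3 n372 = n299 := (sb E7524 (iv D400))
theorem F67532 : act 1 n393 = n500 := (sb E7526 F2503)
theorem E8512 : n525 = n393 := ((D525).symm.trans (sb E7526 (tr F2504 E7526)))
theorem E8517 : n2657 = n295 := ((((iv F1157)).symm.trans (sb E7543 D2657))).symm
theorem E8527 : n2637 = n891 := ((((iv F3304)).symm.trans (sb E7553 F11961))).symm
theorem E8528 : n4511 = n897 := (((D897).symm.trans (sb E7553 (iv F15453)))).symm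
theorem E8530 : n523 = n392 := ((D523).symm.trans (sb E7554 (tr F4252 E7554)))
theorem E8531 : n892 = n673 := ((D892).symm.trans (sb E7555 (tr F7109 E7555)))
theorem E8532 : n899 = n678 := ((D899).symm.trans (sb E7556 (tr F11944 E7556)))
theorem E8555 : n3466 = n670 := (((F3020).symm.trans (sb E7574 F15430))).symm
theorem E8569 : n398 = n298 := ((D398).symm.trans (sb E7587 (tr F9294 E7587)))
theorem E8571 : n681 = n512 := ((D681).symm.trans (sb E7588 (tr F15446 E7588)))
theorem E8574 : n11409 = n3806 := ((((iv F13181)).symm.trans (sb E7591 (iv F37570)))).symm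
theorem E8575 : n6708 = n3835 := (((D3835).symm.trans (sb E7591 F29144))).symm
theorem E8576 : n7474 = n2482 := (((F10244).symm.trans (sb E7591 F29146))).symm
theorem E8578 : n10893 = n3807 := (((D3807).symm.trans (sb E7592 (iv F36074)))).symm
theorem E8579 : n11412 = n3804 := ((((iv F13176)).symm.trans (sb E7592 D11412))).symm
theorem E8580 : n6418 = n3836 := (((D3836).symm.trans (sb E7593 (iv F21732)))).symm
theorem E8581 : n4375 = n2483 := (((F10248).symm.trans (sb E7593 F17517))).symm
theorem E8582 : n7476 = n2469 := ((((iv F8738)).symm.trans (sb E7594 (iv F25061)))).symm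
theorem E8584 : n11787 = n1271 := ((((iv D1679)).symm.trans (sb E7595 D11787))).symm
theorem E8585 : n7566 = n809 := (((F3586).symm.trans (sb E7596 F30054))).symm
theorem E8586 : n2638 = n1551 := (((F6762).symm.trans (sb E7597 F11748))).symm
theorem E8587 : n7565 = n1420 := ((((iv F5167)).symm.trans (sb E7598 (iv F25324)))).symm
theorem E8589 : n7473 = n2471 := ((((iv F8746)).symm.trans (sb E7601 D7473))).symm
theorem E8590 : n4372 = n2485 := (((D2485).symm.trans (sb E7601 F19419))).symm
theorem E8591 : n7475 = n1421 := ((((iv D1877)).symm.trans (sb E7602 D7475))).symm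
theorem E8592 : n2472 = n1877 := ((D2472).symm.trans (sb E7602 (tr F19425 E7602)))
theorem E8593 : n2486 = n1887 := ((D2486).symm.trans (sb E7603 (tr F11601 E7603)))
theorem E8595 : n4518 = n889 := (((F3960).symm.trans (sb E7604 F19634))).symm
theorem E8596 : n1553 = n1177 := (((iv F5588)).symm.trans (sb E7606 (tr F7114 E7606)))
theorem F67536 : act 4 n1177 = n1523 := (sb E7606 F7115)
theorem E8598 : n10890 = n3809 := (((D3809).symm.trans (sb E7607 (iv F36062)))).symm
theorem E8599 : n6415 = n3839 := (((D3839).symm.trans (sb E7608 (iv F21721)))).symm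
theorem E8602 : n6417 = n3810 := (((D3810).symm.trans (sb E7610 (iv D8365)))).symm
theorem F67537 : act 4 n2926 = n3759 := (sb E7611 F16840)
theorem F67538 : act 4 n300 = n300 := (sb E7613 (iv D401))
theorem F67539 : act 3 n297 = n297 := (sb E7614 (iv D397))
theorem F67540 : act 2 n296 = n296 := (sb E7615 (iv D396))
theorem F67541 : act 1 n6589 = n5085 := (sb E7616 F22421)
theorem E8649 : n14511 = n8703 := ((((iv F28984)).symm.trans (sb E7663 (iv F47402)))).symm
theorem F67552 : act 1 n6701 = n8597 := (sb E7664 F36976)
theorem E8652 : n9599 = n5716 := (((F22575).symm.trans (sb E7664 F36979))).symm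
theorem F67553 : act 1 n4365 = n5628 := (sb E7665 F24674)
theorem E8653 : n9598 = n5683 := ((((iv F19293)).symm.trans (sb E7665 D9598))).symm
theorem F67554 : act 4 n6735 = n6735 := (sb E7675 (iv D8791))
theorem E8757 : n12719 = n1567 := ((((iv F5639)).symm.trans (sb E7749 D12719))).symm
theorem E8759 : n12865 = n1569 := ((((iv F5645)).symm.trans (sb E7751 D12865))).symm
theorem E8760 : n16723 = n900 := (E7758).trans E7762
theorem E8761 : n1569 = n1190 := (((D1190).symm.trans (sb E8760 (tr F54185 E8759)))).symm
theorem F67564 : act 5 n1190 = n1524 := (sb E7759 F7100)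
theorem E8762 : n2633 = n1567 := ((((iv F5641)).symm.trans (sb E7759 D2633))).symm
theorem F67565 : act 0 n1188 = n1523 := (sb E7760 F7106)
theorem F67566 : act 5 n1188 = n1525 := (sb E7760 F7108)
theorem E8763 : n2636 = n1564 := ((((iv F5632)).symm.trans (sb E7760 D2636))).symm
theorem F67567 : act 1 n893 = n893 := (sb E7761 F4305)
theorem F67568 : act 0 n900 = n900 := (sb E7762 F4341)
theorem E8765 : n1565 = n1187 := ((((iv F4338)).symm.trans (sb E7762 (iv F5635)))).symm
theorem E8768 : n4370 = n2522 := ((((iv F8897)).symm.trans (sb E7765 D4370))).symm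
theorem F67569 : act 2 n2008 = n2484 := (sb E7773 (iv F8787))
theorem E8772 : n12865 = n1190 := (E8759).trans E8761
theorem E8775 : n7469 = n2521 := (((D2521).symm.trans (sb E7778 D7469))).symm
theorem E8779 : n4288 = n3269 := (((iv F14771)).symm.trans (sb E7781 (tr F11595 E7781)))
theorem F67570 : act 5 n3269 = n2540 := (sb E7781 F11596)
theorem E8780 : n4373 = n4283 := ((((iv F14758)).symm.trans (sb E7781 D4373))).symm
theorem F67571 : act 2 n2487 = n2487 := (sb E7782 F11415)
theorem E8782 : n4284 = n3266 := ((((iv F11404)).symm.trans (sb E7782 (iv F14761)))).symm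
theorem F67572 : act 5 n3266 = n2541 := (sb E7783 F11606)
theorem E8787 : n6705 = n3901 := ((((iv F13478)).symm.trans (sb E7787 D6705))).symm
theorem E8791 : n10886 = n3900 := (((D3900).symm.trans (sb E7790 (iv F36044)))).symm
theorem E8794 : n6572 = n6413 := ((((iv F21714)).symm.trans (sb E7792 (iv F22189)))).symm
theorem F67573 : act 2 n4914 = n3840 := (sb E7792 F17182)
theorem E8796 : n6565 = n6416 := (((D6416).symm.trans (sb E7792 (iv F22166)))).symm
theorem F67574 : act 5 n5023 = n3924 := (sb E7793 F17509)
theorem F67575 : act 2 n4917 = n3837 := (sb E7795 F17169)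
theorem E8803 : n11148 = n6670 := ((((iv F22473)).symm.trans (sb E7798 (iv F36813)))).symm
theorem F67576 : act 4 n5101 = n6549 := (sb E7798 F28545)
theorem F67577 : act 6 n5101 = n6548 := (sb E7798 (iv D8549))
theorem E8804 : n11150 = n6661 := ((((iv F22456)).symm.trans (sb E7798 D11150))).symm
theorem F67578 : act 4 n5095 = n6589 := (sb E7799 F28690)
theorem E8847 : n11162 = n6665 := ((((iv F22462)).symm.trans (sb E7832 (iv F36845)))).symm
theorem F67579 : act 5 n5098 = n6557 := (sb E7832 (iv D8562))
theorem E8849 : n11154 = n6669 := (((D6669).symm.trans (sb E7832 (iv F36828)))).symm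
theorem F67580 : act 1 n5127 = n6659 := (sb E7833 F28556)
theorem F67581 : act 5 n5127 = n6552 := (sb E7833 (iv D8554))
theorem E8850 : n7315 = n4366 := (((F17485).symm.trans (sb E7833 F28558))).symm
theorem F67582 : act 1 n3326 = n4338 := (sb E7834 F19058)
theorem E8851 : n7323 = n4337 := ((((iv F14913)).symm.trans (sb E7834 (iv F24587)))).symm
theorem F67583 : act 5 n3326 = n4278 := (sb E7834 (iv D5603))
theorem F67584 : act 5 n5103 = n6553 := (sb E7836 (iv D8556))
theorem E8854 : n11159 = n6663 := ((((iv F22460)).symm.trans (sb E7836 D11159))).symm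
theorem E8855 : n7317 = n4342 := ((((iv F14927)).symm.trans (sb E7837 (iv F24573)))).symm
theorem F67585 : act 5 n3330 = n4275 := (sb E7837 (iv D5599))
theorem F67586 : act 5 n3307 = n4279 := (sb E7838 (iv D5605))
theorem E8862 : n11323 = n6664 := ((((iv F22461)).symm.trans (sb E7842 (iv F37323)))).symm
theorem E8865 : n7452 = n4331 := (((F17384).symm.trans (sb E7843 F29068))).symm
theorem E8866 : n7451 = n4336 := ((((iv F14911)).symm.trans (sb E7844 D7451))).symm
theorem E8867 : n19178 = n6648 := (((D6648).symm.trans (sb E7845 (iv F61925)))).symm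
theorem E8868 : n19267 = n6368 := ((((iv F21572)).symm.trans (sb E7845 D19267))).symm
theorem E8873 : n11163 = n6648 := ((F47471).symm.trans (sb E7848 (tr (iv F61927) E8867)))
theorem E8876 : n11167 = n6368 := ((F47485).symm.trans (sb E7849 (tr (iv F62157) E8868)))
theorem E8878 : n6649 = n6558 := ((D6649).symm.trans (sb E7850 F28577))
theorem F67588 : act 6 n5086 = n6557 := (sb E7850 (iv D8563))
theorem E8879 : n11169 = n6643 := ((((iv F22412)).symm.trans (sb E7850 D11169))).symm
theorem F67589 : act 1 n5042 = n6547 := (sb E7852 (iv F22122))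
theorem F67590 : act 4 n5042 = n3882 := (sb E7852 (iv D5087))
theorem E8881 : n6644 = n6595 := (((D6595).symm.trans (sb E7852 (iv F22416)))).symm
theorem F67592 : act 1 n3277 = n4296 := (sb E7855 (iv F14793))
theorem F67593 : act 4 n3277 = n2525 := (sb E7855 (iv D3320))
theorem E8884 : n4326 = n4302 := (((D4302).symm.trans (sb E7855 (iv F14883)))).symm
theorem E8885 : n7324 = n4325 := (((D4325).symm.trans (sb E7856 (iv F24589)))).symm
theorem E8912 : n11046 = n6370 := (((D6370).symm.trans (sb E7873 (iv F36501)))).symm
theorem F67594 : act 4 n5020 = n3883 := (sb E7875 (iv D5088))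
theorem E8916 : n6645 = n6563 := (((D6563).symm.trans (sb E7875 (iv F22418)))).symm
theorem E8917 : n11160 = n6646 := (((D6646).symm.trans (sb E7876 (iv F36843)))).symm
theorem F67595 : act 1 n5047 = n3881 := (sb E7878 F17360)
theorem F67596 : act 4 n5047 = n3880 := (sb E7878 (iv D5084))
theorem E8919 : n4323 = n4307 := (((F17242).symm.trans (sb E7878 F17362))).symm
theorem F67597 : act 1 n3280 = n2509 := (sb E7881 F11494)
theorem E8922 : n4327 = n4280 := ((((iv F14749)).symm.trans (sb E7881 (iv F14885)))).symm
theorem F67598 : act 4 n3280 = n2508 := (sb E7881 (iv D3298))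
theorem F67599 : act 6 n3297 = n4279 := (sb E7882 (iv D5606))
theorem E8933 : n11351 = n11141 := ((((iv F36796)).symm.trans (sb E7895 (iv F37387)))).symm
theorem E8934 : n11357 = n11143 := (((D11143).symm.trans (sb E7895 (iv F37400)))).symm
theorem F67600 : act 5 n8544 = n6668 := (sb E7895 F28996)
theorem F67601 : act 6 n8544 = n6667 := (sb E7895 (iv D8708))
theorem E8935 : n11359 = n11134 := ((((iv F36776)).symm.trans (sb E7895 D11359))).symm
theorem F67602 : act 5 n8539 = n6701 := (sb E7896 F29114)
theorem E8936 : n7466 = n7300 := (((F28518).symm.trans (sb E7896 F29115))).symm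
theorem E8937 : n7429 = n7305 := ((((iv F24538)).symm.trans (sb E7897 (iv F24904)))).symm
theorem F67603 : act 5 n5591 = n4365 := (sb E7897 F19397)
theorem F67604 : act 5 n8547 = n6671 := (sb E7898 F29003)
theorem F67605 : act 5 n8540 = n6673 := (sb E7899 F29007)
theorem E8940 : n11347 = n11139 := (((D11139).symm.trans (sb E7899 (iv F37381)))).symm
theorem E8941 : n7434 = n7301 := ((((iv F24526)).symm.trans (sb E7900 (iv F24921)))).symm
theorem F67606 : act 5 n5588 = n4368 := (sb E7900 F19403)
theorem E8942 : n7432 = n7308 := (((D7308).symm.trans (sb E7901 (iv F24914)))).symm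
theorem F67607 : act 5 n5592 = n4341 := (sb E7901 F19307)
theorem F67608 : act 6 n5592 = n4340 := (sb E7901 (iv D5687))
theorem E8943 : n7366 = n7305 := ((((iv F24538)).symm.trans (sb E7902 D7366))).symm
theorem E8947 : n11164 = n11141 := ((((iv F36796)).symm.trans (sb E7905 (iv F36849)))).symm
theorem E8960 : n12672 = n7404 := (((D7404).symm.trans (sb E7913 D12672))).symm
theorem E8965 : n12807 = n7398 := (((D7398).symm.trans (sb E7917 (iv F41939)))).symm
theorem E8966 : n12806 = n5667 := (((F19248).symm.trans (sb E7918 D12806))).symm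
theorem E8971 : n11322 = n6556 := (((D6556).symm.trans (sb E7931 (iv F37321)))).symm
theorem E8972 : n11326 = n6493 := ((((iv F21949)).symm.trans (sb E7931 (iv F37331)))).symm
theorem E8973 : n11328 = n6551 := ((((iv F22133)).symm.trans (sb E7931 D11328))).symm
theorem E8974 : n7456 = n4273 := (((F17140).symm.trans (sb E7932 F29082))).symm
theorem E8975 : n7406 = n4277 := (((D4277).symm.trans (sb E7933 (iv F24834)))).symm
theorem E8976 : n11277 = n11123 := ((((iv F36746)).symm.trans (sb E7934 (iv F37201)))).symm
theorem E8977 : n11161 = n10820 := ((D11161).symm.trans (sb E7934 (iv F35837)))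
theorem E8978 : n11324 = n11151 := ((((iv F36821)).symm.trans (sb E7934 D11324))).symm
theorem F67609 : act 3 n8306 = n6557 := (sb E7935 (iv D8561))
theorem E8979 : n11041 = n10823 := ((((iv F35847)).symm.trans (sb E7935 (iv F36489)))).symm
theorem E8980 : n11153 = n10824 := (((D10824).symm.trans (sb E7935 (iv F36825)))).symm
theorem E8981 : n11315 = n11155 := (((D11155).symm.trans (sb E7936 (iv F37307)))).symm
theorem E8982 : n7407 = n7313 := ((((iv F24562)).symm.trans (sb E7937 (iv F24837)))).symm
theorem E8983 : n7403 = n7320 := ((((iv F24580)).symm.trans (sb E7938 (iv F24824)))).symm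
theorem E8984 : n7322 = n5601 := ((D7322).symm.trans (sb E7938 (tr F19240 E7938)))
theorem E8985 : n11321 = n11142 := ((((iv F36798)).symm.trans (sb E7939 (iv F37319)))).symm
theorem E8986 : n11325 = n11011 := ((((iv F36413)).symm.trans (sb E7939 (iv F37329)))).symm
theorem F67610 : act 4 n8545 = n6667 := (sb E7939 F28943)
theorem E8987 : n11313 = n11146 := (((D11146).symm.trans (sb E7939 (iv F37300)))).symm
theorem F67611 : act 4 n8597 = n6659 := (sb E7940 F28923)
theorem E8988 : n7397 = n7358 := (((F28678).symm.trans (sb E7940 F28924))).symm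
theorem E8989 : n7405 = n7306 := ((((iv F24540)).symm.trans (sb E7941 (iv F24831)))).symm
theorem F67612 : act 4 n5628 = n4338 := (sb E7941 F19244)
theorem E8997 : n12591 = n7239 := ((((iv F24321)).symm.trans (sb E7946 (iv F41253)))).symm
theorem E9006 : n10826 = n6495 := (((D6495).symm.trans (sb E7955 (iv F35855)))).symm
theorem E9008 : n11319 = n6554 := (((D6554).symm.trans (sb E7956 (iv F37317)))).symm
theorem E9009 : n7411 = n4274 := (((D4274).symm.trans (sb E7957 (iv F24851)))).symm
theorem E9010 : n7409 = n4247 := ((((iv F14640)).symm.trans (sb E7958 (iv F24844)))).symm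
theorem E9011 : n11125 = n10782 := ((D11125).symm.trans (sb E7959 (iv F35723)))
theorem F67613 : act 5 n8531 = n6637 := (sb E7959 F28852)
theorem F67614 : act 6 n8531 = n6625 := (sb E7959 (iv D8649))
theorem E9012 : n11281 = n11116 := ((((iv F36726)).symm.trans (sb E7959 D11281))).symm
theorem F67615 : act 3 n8280 = n6539 := (sb E7960 (iv D8534))
theorem E9013 : n10990 = n10786 := ((((iv F35735)).symm.trans (sb E7960 (iv F36354)))).symm
theorem F67616 : act 5 n8527 = n6642 := (sb E7961 F28865)
theorem E9016 : n11045 = n10827 := ((((iv F35858)).symm.trans (sb E7962 D11045))).symm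
theorem F67617 : act 3 n8311 = n6553 := (sb E7963 (iv D8555))
theorem E9019 : n7401 = n7318 := (((F28564).symm.trans (sb E7964 F28933))).symm
theorem E9020 : n7316 = n5597 := ((D7316).symm.trans (sb E7965 (tr F19257 E7965)))
theorem F67618 : act 3 n4279 = n4279 := (sb E7966 (iv D5604))
theorem E9028 : n18306 = n11014 := (((D11014).symm.trans (sb E7972 (iv F59337)))).symm
theorem E9029 : n11329 = n11015 := (((D11015).symm.trans (sb E7972 (iv D14756)))).symm
theorem E9033 : n11318 = n11140 := ((((iv F36795)).symm.trans (sb E7975 D11318))).symm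
theorem E9036 : n7408 = n7242 := ((((iv F24331)).symm.trans (sb E7980 (iv F24842)))).symm
theorem F67619 : act 4 n5593 = n4340 := (sb E7980 F19251)
theorem E9037 : n7399 = n7311 := (((D7311).symm.trans (sb E7980 (iv F24814)))).symm
theorem F67620 : act 1 n5633 = n4324 := (sb E7981 F19229)
theorem F67621 : act 4 n5633 = n4334 := (sb E7981 F19231)
theorem E9038 : n12595 = n7241 := (((D7241).symm.trans (sb E7982 (iv F41268)))).symm
theorem E9039 : n16562 = n4247 := (E7983).trans E9010
theorem E9040 : n5667 = n5561 := (((D5561).symm.trans (sb E9039 (tr F53692 E8966)))).symm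
theorem F67622 : act 5 n8526 = n6874 := (sb E7986 F29799)
theorem F67623 : act 1 n3316 = n2540 := (sb E7993 F11608)
theorem E9048 : n4376 = n4352 := ((((iv F14960)).symm.trans (sb E7993 D4376))).symm
theorem E9049 : n4377 = n4346 := ((((iv F14942)).symm.trans (sb E7993 D4377))).symm
theorem E9050 : n2705 = n2639 := ((F11554).symm.trans (sb E7994 F11751))
theorem F67624 : act 2 n2010 = n2520 := (sb E7997 (iv F8889))
theorem E9055 : n7425 = n7423 := ((((iv F24887)).symm.trans (sb E7999 (iv F24892)))).symm
theorem E9061 : n12626 = n12583 := ((((iv F41225)).symm.trans (sb E8003 D12626))).symm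
theorem E9063 : n12674 = n12590 := (((D12590).symm.trans (sb E8004 D12674))).symm
theorem E9066 : n12809 = n9665 := (((F32023).symm.trans (sb E8006 D12809))).symm
theorem E9067 : n12810 = n12577 := ((((iv F41206)).symm.trans (sb E8006 D12810))).symm
theorem E9068 : n12811 = n12578 := (((D12578).symm.trans (sb E8007 D12811))).symm
theorem E9069 : n18809 = n11298 := ((((iv F37259)).symm.trans (sb E8009 (iv F60851)))).symm
theorem E9075 : n18813 = n11302 := ((((iv F37270)).symm.trans (sb E8012 (iv F60866)))).symm
theorem F67625 : act 5 n8667 = n11108 := (sb E8012 (iv D14467))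
theorem F67626 : act 5 n8670 = n11111 := (sb E8013 (iv D14470))
theorem E9083 : n6683 = n6419 := (((iv F22512)).symm.trans (sb E8019 (iv F21737)))
theorem F67630 : act 1 n5107 = n3924 := (sb E8020 F17522)
theorem E9089 : n11299 = n11297 := ((((iv F37257)).symm.trans (sb E8023 (iv F37262)))).symm
theorem E9090 : n11354 = n11349 := ((((iv F37384)).symm.trans (sb E8023 D11354))).symm
theorem E9091 : n11355 = n11335 := ((((iv F37352)).symm.trans (sb E8023 D11355))).symm
theorem F67631 : act 1 n8658 = n6874 := (sb E8032 F29825)
theorem E9103 : n18811 = n11298 := ((D18811).symm.trans (sb E8096 (iv D14716)))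
theorem E9104 : n19140 = n18546 := ((((iv F60093)).symm.trans (sb E8096 D19140))).symm
theorem E9105 : n18810 = n11297 := (((iv F60857)).symm.trans (sb E8096 (tr F48014 E9089)))
theorem E9106 : n19141 = n18812 := (((D18812).symm.trans (sb E8096 D19141))).symm
theorem E9107 : n19097 = n18546 := (((iv F61701)).symm.trans (sb E8034 (tr (iv F61825) E9104)))
theorem E9108 : n19228 = n19172 := ((((iv F61916)).symm.trans (sb E8034 (iv F62046)))).symm
theorem E9111 : n19083 = n18812 := (((iv F61658)).symm.trans (sb E8035 (tr (iv F61827) E9106)))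
theorem E9116 : n11276 = n11124 := (((F47278).symm.trans (sb E8039 (iv D14685)))).symm
theorem E9119 : n18814 = n11301 := ((((iv F37268)).symm.trans (sb E8041 (iv F60868)))).symm
theorem F67632 : act 4 n8666 = n11109 := (sb E8041 F47285)
theorem F67633 : act 6 n8666 = n11108 := (sb E8041 (iv D14468))
theorem E9120 : n18816 = n11289 := ((((iv F37235)).symm.trans (sb E8041 D18816))).symm
theorem F67634 : act 6 n8669 = n11111 := (sb E8045 (iv D14471))
theorem F67635 : act 4 n8660 = n11114 := (sb E8046 F47299)
theorem E9127 : n18807 = n11294 := (((D11294).symm.trans (sb E8046 (iv F60848)))).symm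
theorem E9130 : n11278 = n10988 := (((F46716).symm.trans (sb E8048 (iv D14689)))).symm
theorem E9136 : n19091 = n18554 := (((D18554).symm.trans (sb E8050 (iv F61687)))).symm
theorem E9137 : n10992 = n10784 := (((iv F36358)).symm.trans (sb E8051 (iv F35729)))
theorem E9145 : n11269 = n11128 := (((F47288).symm.trans (sb E8056 (iv D14677)))).symm
theorem E9146 : n19089 = n18803 := ((((iv F60835)).symm.trans (sb E8056 D19089))).symm
theorem F67641 : act 6 n8650 = n6771 := (sb E8060 (iv D8842))
theorem F67642 : act 2 n8532 = n6626 := (sb E8061 F28849)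
theorem F67643 : act 4 n8532 = n6625 := (sb E8061 (iv D8648))
theorem E9175 : n19135 = n18808 := (((D18808).symm.trans (sb E8084 (iv F61813)))).symm
theorem E9177 : n19145 = n18547 := ((((iv F60096)).symm.trans (sb E8085 (iv F61839)))).symm
theorem E9179 : n19126 = n18802 := (((D18802).symm.trans (sb E8086 (iv F61789)))).symm
theorem E9208 : n19070 = n11445 := (((D11445).symm.trans (sb E8109 (iv F61621)))).symm
theorem F67644 : act 6 n8781 = n11261 := (sb E8109 (iv D14668))
theorem F67645 : act 6 n8774 = n11265 := (sb E8113 (iv D14672))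
theorem E9222 : n19068 = n18491 := ((D19068).symm.trans (sb E8121 (iv F59937)))
theorem F67646 : act 3 n14232 = n11261 := (sb E8122 (iv D14666))
theorem F67653 : act 5 n8782 = n8782 := (sb E8200 (iv D11448))
theorem E9293 : n16394 = n3230 := (((D3230).symm.trans (sb E8209 (iv F53159)))).symm
theorem E9295 : n12670 = n2462 := (((F11276).symm.trans (sb E8212 F53447))).symm
theorem E9358 : n14901 = n14665 := (((D14665).symm.trans (sb E8306 (iv D19374)))).symm
theorem F67657 : act 4 n11262 = n8781 := (sb E8308 (iv D11446))
theorem E9374 : n9723 = n3257 := (((F13255).symm.trans (sb E8333 F37503))).symm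
theorem E9377 : n9728 = n3235 := ((((iv F11301)).symm.trans (sb E8337 (iv F32231)))).symm
theorem E9390 : n9722 = n3237 := ((((iv F11308)).symm.trans (sb E8351 D9722))).symm
theorem E9393 : n9667 = n3238 := (((D3238).symm.trans (sb E8353 (iv F32027)))).symm
theorem E9394 : n16392 = n5545 := (((D5545).symm.trans (sb E8354 (iv F53151)))).symm
theorem E9479 : n2026 = n391 := ((((iv F1514)).symm.trans (sb E8444 D2026))).symm
theorem E9505 : n5029 = n4913 := ((((iv F16828)).symm.trans (sb E8465 (iv F17184)))).symm
theorem F67664 : act 6 n3757 = n2936 := (sb E8465 (iv D3854))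
theorem F67665 : act 4 n2496 = n1925 := (sb E8466 (iv D2536))
theorem E9507 : n3283 = n2496 := ((D3283).symm.trans (sb E8466 (tr F8934 E8466)))
theorem E9521 : n4989 = n4915 := (((D4915).symm.trans (sb E8475 (iv F17056)))).symm
theorem F67666 : act 6 n3758 = n2926 := (sb E8475 (iv D3842))
theorem F67667 : act 6 n1895 = n1895 := (sb E8477 (iv D2499))
theorem F67668 : act 4 n280 = n226 := (sb E8507 (iv D303))
theorem F67669 : act 3 n393 = n393 := (sb E8512 (iv D525))
theorem E9569 : n395 = n295 := ((D395).symm.trans (sb E8517 (tr F9322 E8517)))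
theorem E9582 : n1176 = n891 := ((D1176).symm.trans (sb E8527 (tr F9240 E8527)))
theorem E9584 : n1186 = n897 := ((D1186).symm.trans (sb E8528 (tr F15452 E8528)))
theorem F67670 : act 2 n392 = n392 := (sb E8530 (iv D523))
theorem F67671 : act 1 n673 = n673 := (sb E8531 (iv D892))
theorem F67672 : act 0 n678 = n678 := (sb E8532 (iv D899))
theorem E9620 : n2659 = n520 := (((F2521).symm.trans (sb E8555 F12017))).symm
theorem F67673 : act 1 n298 = n298 := (sb E8569 (iv D398))
theorem F67674 : act 0 n512 = n512 := (sb E8571 (iv D681))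
theorem E9640 : n14166 = n4982 := (((D4982).symm.trans (sb E8574 (iv F46390)))).symm
theorem E9641 : n14854 = n4979 := ((((iv F17027)).symm.trans (sb E8574 D14854))).symm
theorem E9642 : n8364 = n5022 := (((D5022).symm.trans (sb E8575 (iv F28000)))).symm
theorem E9643 : n5723 = n3264 := (((F13276).symm.trans (sb E8575 F22601))).symm
theorem E9644 : n9745 = n3245 := ((((iv F11336)).symm.trans (sb E8576 (iv F32284)))).symm
theorem E9648 : n8366 = n4983 := (((D4983).symm.trans (sb E8578 F36073))).symm
theorem E9649 : n14149 = n4984 := (((D4984).symm.trans (sb E8578 (iv F46333)))).symm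
theorem E9650 : n14169 = n4980 := ((((iv F17031)).symm.trans (sb E8578 D14169))).symm
theorem E9651 : n9748 = n3243 := (((F13174).symm.trans (sb E8579 F37578))).symm
theorem F67675 : act 4 n3836 = n4917 := (sb E8580 F21733)
theorem E9652 : n5025 = n3836 := ((D5025).symm.trans (sb E8580 (tr F21735 E8580)))
theorem E9653 : n3265 = n2483 := ((D3265).symm.trans (sb E8581 (tr F15029 E8581)))
theorem E9654 : n9747 = n1876 := ((((iv D2469)).symm.trans (sb E8582 (iv F32291)))).symm
theorem E9655 : n3246 = n2469 := ((D3246).symm.trans (sb E8582 (tr F25062 E8582)))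
theorem E9657 : n15341 = n1678 := ((((iv F6046)).symm.trans (sb E8584 D15341))).symm
theorem E9658 : n9861 = n1071 := ((((iv F3955)).symm.trans (sb E8585 (iv F32640)))).symm
theorem E9660 : n2040 = n1551 := (((iv F7244)).symm.trans (sb E8586 (tr F9244 E8586)))
theorem F67676 : act 4 n1551 = n2008 := (sb E8586 F9245)
theorem E9662 : n5902 = n1173 := (((F5168).symm.trans (sb E8587 F25325))).symm
theorem E9664 : n3248 = n2471 := ((D3248).symm.trans (sb E8589 (tr F25051 E8589)))
theorem E9665 : n3268 = n2485 := ((D3268).symm.trans (sb E8590 (tr F15019 E8590)))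
theorem E9667 : n1878 = n1421 := ((D1878).symm.trans (sb E8591 (tr F25058 E8591)))
theorem F67677 : act 3 n1877 = n1877 := (sb E8592 (iv D2472))
theorem F67678 : act 2 n1887 = n1887 := (sb E8593 (iv D2486))
theorem E9672 : n1174 = n889 := ((D1174).symm.trans (sb E8595 (tr F15482 E8595)))
theorem F67679 : act 1 n1177 = n1177 := (sb E8596 F5588)
theorem E9676 : n8363 = n4986 := (((D4986).symm.trans (sb E8598 (iv D10890)))).symm
theorem E9678 : n8360 = n5027 := (((D5027).symm.trans (sb E8599 (iv F27985)))).symm
theorem F67680 : act 4 n3839 = n4914 := (sb E8599 F21722)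
theorem E9681 : n8349 = n4988 := (((D4988).symm.trans (sb E8602 (iv F27949)))).symm
theorem F67689 : act 2 n8703 = n11142 := (sb E8649 (iv D14511))
theorem E9707 : n18875 = n11353 := (((D11353).symm.trans (sb E8649 D18875))).symm
theorem F67690 : act 1 n5716 = n7358 := (sb E8652 F31816)
theorem E9711 : n12510 = n7430 := ((((iv F24907)).symm.trans (sb E8652 (iv F40997)))).symm
theorem E9712 : n12423 = n7424 := ((((iv F24889)).symm.trans (sb E8653 (iv F40746)))).symm
theorem E9796 : n16546 = n2060 := ((((iv F7316)).symm.trans (sb E8757 D16546))).symm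
theorem E9798 : n2060 = n1567 := ((((iv F5641)).symm.trans (sb E8772 (tr (iv F53647) E9796)))).symm
theorem F67700 : act 0 n1190 = n1190 := (sb E8761 F5645)
theorem E9799 : n3450 = n2061 := ((((iv F7319)).symm.trans (sb E8762 D3450))).symm
theorem F67701 : act 5 n1567 = n2009 := (sb E8762 F9227)
theorem E9800 : n3451 = n2057 := ((((iv F7307)).symm.trans (sb E8762 D3451))).symm
theorem F67702 : act 0 n1564 = n2008 := (sb E8763 F9236)
theorem F67703 : act 5 n1564 = n2010 := (sb E8763 F9238)
theorem F67704 : act 0 n1187 = n1187 := (sb E8765 F5633)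
theorem E9801 : n2059 = n1566 := (((D1566).symm.trans (sb E8765 D2059))).symm
theorem E9802 : n2055 = n1563 := ((((iv F5629)).symm.trans (sb E8765 (iv F7300)))).symm
theorem E9805 : n5720 = n3315 := ((((iv F11546)).symm.trans (sb E8768 D5720))).symm
theorem E9813 : n3314 = n2521 := ((D3314).symm.trans (sb E8775 (tr F25034 E8775)))
theorem F67705 : act 2 n3269 = n3269 := (sb E8779 F14771)
theorem E9821 : n5609 = n4283 := ((((iv F14758)).symm.trans (sb E8779 (iv F19076)))).symm
theorem F67706 : act 5 n4283 = n3338 := (sb E8780 F15024)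
theorem F67707 : act 2 n3266 = n3266 := (sb E8782 F14760)
theorem E9825 : n8361 = n5111 := ((((iv F17430)).symm.trans (sb E8787 (iv F27989)))).symm
theorem E9832 : n14161 = n5104 := ((((iv F17407)).symm.trans (sb E8791 D14161))).symm
theorem E9836 : n8579 = n8343 := ((((iv F27926)).symm.trans (sb E8794 D8579))).symm
theorem F67708 : act 2 n6416 = n5023 := (sb E8796 F22165)
theorem E9847 : n14338 = n8710 := (((D8710).symm.trans (sb E8803 (iv F46897)))).symm
theorem F67709 : act 6 n6670 = n8547 := (sb E8803 (iv D11148))
theorem F67710 : act 4 n6661 = n8550 := (sb E8804 F36818)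
theorem E9849 : n14507 = n8699 := (((D8699).symm.trans (sb E8804 (iv F47395)))).symm
theorem F67711 : act 2 n6665 = n8702 := (sb E8847 F36846)
theorem F67712 : act 5 n6665 = n8559 := (sb E8847 (iv D11162))
theorem E9883 : n14523 = n8705 := (((D8705).symm.trans (sb E8847 (iv F47433)))).symm
theorem F67713 : act 5 n6669 = n8552 := (sb E8849 (iv D11154))
theorem E9886 : n14529 = n8696 := ((((iv F28972)).symm.trans (sb E8849 D14529))).symm
theorem F67714 : act 1 n4366 = n5674 := (sb E8850 F24566)
theorem E9887 : n9545 = n5684 := ((((iv F19296)).symm.trans (sb E8850 (iv F31665)))).symm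
theorem F67715 : act 5 n4366 = n5596 := (sb E8850 (iv D7315))
theorem E9888 : n9553 = n5680 := ((((iv F19285)).symm.trans (sb E8851 (iv F31685)))).symm
theorem F67716 : act 5 n4337 = n5601 := (sb E8851 (iv D7323))
theorem E9893 : n9550 = n5678 := (((F22459).symm.trans (sb E8854 F36839))).symm
theorem F67717 : act 5 n6663 = n8557 := (sb E8854 F36840)
theorem F67718 : act 5 n4342 = n5597 := (sb E8855 (iv D7317))
theorem E9900 : n14749 = n8701 := (((D8701).symm.trans (sb E8862 D14749))).symm
theorem E9905 : n9720 = n5672 := ((((iv F19263)).symm.trans (sb E8865 (iv F32206)))).symm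
theorem E9906 : n9659 = n5679 := ((((iv F19283)).symm.trans (sb E8866 (iv F32001)))).symm
theorem E9911 : n14538 = n8304 := ((((iv F27809)).symm.trans (sb E8873 (iv F47469)))).symm
theorem E9912 : n8681 = n8560 := ((D8681).symm.trans (sb E8873 F36848))
theorem F67719 : act 6 n6648 = n8559 := (sb E8873 (iv D11163))
theorem E9913 : n14541 = n8673 := ((((iv F28914)).symm.trans (sb E8873 D14541))).symm
theorem E9916 : n14377 = n8305 := (((D8305).symm.trans (sb E8876 (iv F46993)))).symm
theorem F67721 : act 4 n6558 = n5086 := (sb E8878 (iv D6649))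
theorem E9919 : n8674 = n8564 := (((D8564).symm.trans (sb E8878 (iv F28917)))).symm
theorem E9920 : n14530 = n8675 := (((D8675).symm.trans (sb E8879 (iv F47452)))).symm
theorem F67723 : act 4 n6595 = n5082 := (sb E8881 (iv D6644))
theorem E9923 : n5659 = n5639 := (((F22264).symm.trans (sb E8881 F22415))).symm
theorem F67724 : act 1 n4302 = n5591 := (sb E8884 (iv F19026))
theorem E9927 : n5664 = n5602 := ((((iv F19056)).symm.trans (sb E8884 (iv F19237)))).symm
theorem F67725 : act 4 n4302 = n3296 := (sb E8884 (iv D4326))
theorem E9928 : n9554 = n5663 := (((D5663).symm.trans (sb E8885 (iv F31688)))).symm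
theorem F67726 : act 6 n4325 = n5601 := (sb E8885 (iv D7324))
theorem E9954 : n8475 = n8308 := (((D8308).symm.trans (sb E8912 F36500))).symm
theorem F67728 : act 4 n6563 = n5083 := (sb E8916 (iv D6645))
theorem E9959 : n8679 = n8558 := ((((iv F28567)).symm.trans (sb E8916 D8679))).symm
theorem E9960 : n9551 = n5661 := (((F22419).symm.trans (sb E8917 F36841))).symm
theorem F67729 : act 7 n6646 = n8557 := (sb E8917 (iv D11160))
theorem F67730 : act 1 n4307 = n3295 := (sb E8919 F14871)
theorem E9962 : n5660 = n5607 := ((((iv F19069)).symm.trans (sb E8919 (iv F19224)))).symm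
theorem F67731 : act 4 n4307 = n3294 := (sb E8919 (iv D4323))
theorem F67732 : act 4 n4280 = n3297 := (sb E8922 (iv D4327))
theorem E9971 : n14782 = n14508 := (((D14508).symm.trans (sb E8933 (iv F48180)))).symm
theorem F67733 : act 5 n11141 = n8703 := (sb E8933 F37388)
theorem F67734 : act 6 n11141 = n8702 := (sb E8933 (iv D11351))
theorem E9972 : n14786 = n14498 := ((((iv F47369)).symm.trans (sb E8933 D14786))).symm
theorem E9973 : n14792 = n14333 := ((((iv F46883)).symm.trans (sb E8934 (iv F48199)))).symm
theorem F67735 : act 5 n11143 = n8707 := (sb E8934 F37401)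
theorem F67736 : act 6 n11143 = n8706 := (sb E8934 (iv D11357))
theorem E9974 : n14793 = n14500 := ((((iv F47374)).symm.trans (sb E8934 D14793))).symm
theorem F67737 : act 5 n11134 = n8709 := (sb E8935 F37407)
theorem E9975 : n14773 = n14502 := (((D14502).symm.trans (sb E8935 (iv F48162)))).symm
theorem E9976 : n9695 = n9525 := ((((iv F31605)).symm.trans (sb E8936 (iv F32117)))).symm
theorem F67738 : act 5 n7300 = n5716 := (sb E8936 F25024)
theorem E9977 : n9687 = n9532 := ((((iv F31627)).symm.trans (sb E8937 (iv F32091)))).symm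
theorem E9978 : n9693 = n9534 := (((D9534).symm.trans (sb E8937 (iv F32110)))).symm
theorem F67739 : act 5 n7305 = n5683 := (sb E8937 F24905)
theorem F67740 : act 6 n7305 = n5682 := (sb E8937 (iv D7429))
theorem E9982 : n9683 = n9530 := (((F36791).symm.trans (sb E8940 F37379))).symm
theorem F67743 : act 5 n7301 = n5688 := (sb E8941 F24922)
theorem E9984 : n9696 = n9444 := ((((iv F31343)).symm.trans (sb E8942 (iv F32121)))).symm
theorem F67744 : act 5 n7308 = n5686 := (sb E8942 F24915)
theorem F67745 : act 6 n7308 = n5685 := (sb E8942 (iv D7432))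
theorem E9985 : n9555 = n9532 := ((((iv F31627)).symm.trans (sb E8943 (iv F31691)))).symm
theorem E9991 : n14542 = n14508 := (((D14508).symm.trans (sb E8947 D14542))).symm
theorem E10003 : n16487 = n7404 := (((F24829).symm.trans (sb E8960 D16487))).symm
theorem E10005 : n16653 = n7398 := (((F24809).symm.trans (sb E8965 (iv F53975)))).symm
theorem E10006 : n12806 = n5561 := (E8966).trans E9040
theorem E10007 : n7404 = n7261 := ((((iv F24391)).symm.trans (sb E10006 (tr (iv F53457) E10003)))).symm
theorem E10009 : n7398 = n7266 := (((D7266).symm.trans (sb E10006 (tr D16653 E10005)))).symm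
theorem E10010 : n14745 = n8469 := ((((iv F28299)).symm.trans (sb E8971 (iv F48091)))).symm
theorem E10012 : n14083 = n8470 := (((D8470).symm.trans (sb E8972 (iv F46120)))).symm
theorem E10014 : n14737 = n8553 := (((D8553).symm.trans (sb E8973 (iv F48073)))).symm
theorem E10015 : n9664 = n5595 := (((D5595).symm.trans (sb E8974 (iv F32018)))).symm
theorem E10016 : n9658 = n5600 := (((D5600).symm.trans (sb E8975 (iv F31998)))).symm
theorem E10017 : n9662 = n5558 := ((((iv F18916)).symm.trans (sb E8975 (iv F32011)))).symm
theorem E10018 : n14484 = n14026 := ((D14484).symm.trans (sb E8976 (iv F45948)))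
theorem F67746 : act 5 n11123 = n8664 := (sb E8976 F37203)
theorem F67747 : act 6 n11123 = n8647 := (sb E8976 (iv D11277))
theorem E10019 : n14688 = n14474 := ((((iv F47303)).symm.trans (sb E8976 D14688))).symm
theorem E10020 : n14536 = n14080 := (((D14080).symm.trans (sb E8977 D14536))).symm
theorem F67748 : act 3 n10820 = n8559 := (sb E8977 (iv D11161))
theorem E10021 : n14371 = n14079 := ((((iv F46109)).symm.trans (sb E8977 (iv F46981)))).symm
theorem E10022 : n14522 = n14081 := (((D14081).symm.trans (sb E8977 (iv F47430)))).symm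
theorem E10023 : n14733 = n14524 := (((D14524).symm.trans (sb E8978 (iv F48059)))).symm
theorem E10024 : n14376 = n14084 := ((((iv F46124)).symm.trans (sb E8979 D14376))).symm
theorem E10025 : n14363 = n14085 := (((D14085).symm.trans (sb E8979 (iv F46963)))).symm
theorem F67749 : act 3 n10824 = n8552 := (sb E8980 (iv D11153))
theorem E10027 : n9651 = n9546 := (((F36830).symm.trans (sb E8981 F37305))).symm
theorem E10028 : n9660 = n9542 := ((((iv F31656)).symm.trans (sb E8982 (iv F32004)))).symm
theorem E10029 : n9544 = n7313 := ((D9544).symm.trans (sb E8982 (tr F24838 E8982)))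
theorem E10030 : n9552 = n7320 := ((D9552).symm.trans (sb E8983 (tr F24825 E8983)))
theorem F67750 : act 3 n5601 = n5601 := (sb E8984 (iv D7322))
theorem E10032 : n14744 = n14332 := ((((iv F46879)).symm.trans (sb E8985 (iv F48089)))).symm
theorem F67751 : act 4 n11142 = n8702 := (sb E8985 F37320)
theorem E10033 : n14730 = n14512 := (((D14512).symm.trans (sb E8985 (iv F48052)))).symm
theorem E10034 : n14751 = n14335 := ((((iv F46889)).symm.trans (sb E8986 D14751))).symm
theorem F67752 : act 4 n11146 = n8694 := (sb E8987 F37299)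
theorem E10036 : n14736 = n14503 := ((((iv F47385)).symm.trans (sb E8987 D14736))).symm
theorem E10037 : n9649 = n9537 := ((((iv F31641)).symm.trans (sb E8988 (iv F31969)))).symm
theorem F67753 : act 4 n7358 = n5674 := (sb E8988 F24805)
theorem E10038 : n9657 = n9533 := ((((iv F31630)).symm.trans (sb E8989 (iv F31995)))).symm
theorem F67754 : act 4 n7306 = n5682 := (sb E8989 F24832)
theorem E10044 : n16387 = n9441 := (((D9441).symm.trans (sb E8997 (iv F53134)))).symm
theorem F67755 : act 3 n6495 = n8310 := (sb E9006 F35854)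
theorem E10050 : n14087 = n8474 := (((D8474).symm.trans (sb E9006 (iv F46132)))).symm
theorem E10051 : n14089 = n8466 := ((((iv F28294)).symm.trans (sb E9006 D14089))).symm
theorem E10053 : n9655 = n5598 := (((F22141).symm.trans (sb E9008 F37315))).symm
theorem E10054 : n9668 = n5555 := ((((iv F18906)).symm.trans (sb E9009 (iv F32031)))).symm
theorem E10055 : n5560 = n4247 := ((D5560).symm.trans (sb E9010 (tr F24845 E9010)))
theorem F67756 : act 3 n10782 = n8531 := (sb E9011 (iv D11125))
theorem E10056 : n14301 = n14029 := ((((iv F45957)).symm.trans (sb E9011 (iv F46792)))).symm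
theorem F67757 : act 5 n11116 = n8668 := (sb E9012 F37213)
theorem E10058 : n14679 = n14478 := (((D14478).symm.trans (sb E9012 (iv F47908)))).symm
theorem F67758 : act 3 n10786 = n8435 := (sb E9013 (iv D10990))
theorem E10059 : n14305 = n14033 := ((((iv F45970)).symm.trans (sb E9013 D14305))).symm
theorem E10060 : n14295 = n14034 := (((D14034).symm.trans (sb E9013 (iv F46776)))).symm
theorem E10062 : n14367 = n14090 := (((D14090).symm.trans (sb E9016 (iv F46974)))).symm
theorem E10065 : n9549 = n7318 := (((iv F31676)).symm.trans (sb E9019 (tr F24818 E9019)))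
theorem F67763 : act 3 n5597 = n5597 := (sb E9020 (iv D7316))
theorem E10071 : n14339 = n14086 := ((D14339).symm.trans (sb E9028 (iv D18306)))
theorem E10072 : n14738 = n14340 := (((D14340).symm.trans (sb E9029 (iv F48076)))).symm
theorem E10074 : n9654 = n9531 := (((F36793).symm.trans (sb E9033 F37312))).symm
theorem E10077 : n9665 = n9446 := ((((iv F31349)).symm.trans (sb E9036 D9665))).symm
theorem F67764 : act 4 n7311 = n5676 := (sb E9037 F24813)
theorem E10079 : n9445 = n7241 := ((D9445).symm.trans (sb E9038 (tr F41269 E9038)))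
theorem E10080 : n7265 = n5561 := (((iv F24405)).symm.trans (sb E9040 (tr F19248 E9040)))
theorem E10089 : n5698 = n4352 := (((iv F19345)).symm.trans (sb E9048 (tr F15033 E9048)))
theorem F67765 : act 1 n4346 = n3338 := (sb E9049 F15037)
theorem F67766 : act 1 n2639 = n3318 := (sb E9050 (iv F11554))
theorem E10093 : n3539 = n3456 := (((D3456).symm.trans (sb E9050 (iv F12277)))).symm
theorem E10094 : n3534 = n3457 := (((D3457).symm.trans (sb E9050 (iv F12262)))).symm
theorem E10099 : n9690 = n9685 := ((((iv F32085)).symm.trans (sb E9055 D9690))).symm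
theorem E10100 : n9691 = n9671 := ((((iv F32043)).symm.trans (sb E9055 D9691))).symm
theorem E10107 : n16430 = n16374 := ((((iv F53089)).symm.trans (sb E9061 (iv F53278)))).symm
theorem E10111 : n16490 = n12590 := (((F41251).symm.trans (sb E9063 D16490))).symm
theorem E10114 : n12809 = n9446 := (E9066).trans E10077
theorem E10115 : n12590 = n12302 := ((((iv F40361)).symm.trans (sb E10114 (tr (iv F53465) E10111)))).symm
theorem E10117 : n16655 = n12307 := (((D12307).symm.trans (sb E10114 D16655))).symm
theorem E10118 : n12577 = n12307 := ((F41205).symm.trans (sb E9067 (tr (iv F53982) E10117)))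
theorem E10119 : n12810 = n12307 := (E9067).trans E10118
theorem E10120 : n16656 = n16000 := ((((iv F51942)).symm.trans (sb E10119 D16656))).symm
theorem E10122 : n16369 = n16000 := (((iv F53074)).symm.trans (sb E9068 (tr (iv F53985) E10120)))
theorem F67767 : act 5 n11298 = n14464 := (sb E9069 (iv D18809))
theorem F67768 : act 5 n11302 = n14466 := (sb E9075 (iv D18813))
theorem F67772 : act 1 n6419 = n5113 := (sb E9083 F22512)
theorem E10123 : n8725 = n8367 := (((D8367).symm.trans (sb E9083 (iv F29046)))).symm
theorem E10124 : n8715 = n8368 := (((D8368).symm.trans (sb E9083 (iv F29014)))).symm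
theorem F67773 : act 2 n11297 = n8664 := (sb E9089 (iv D11299))
theorem E10131 : n14718 = n14713 := ((((iv F48005)).symm.trans (sb E9089 D14718))).symm
theorem E10132 : n14719 = n14699 := ((((iv F47964)).symm.trans (sb E9089 D14719))).symm
theorem E10133 : n14779 = n14111 := (((iv F48176)).symm.trans (sb E9090 (iv F46194)))
theorem E10136 : n14791 = n14764 := (((D14764).symm.trans (sb E9091 D14791))).symm
theorem F67774 : act 2 n11298 = n14465 := (sb E9103 (iv D18811))
theorem F67775 : act 4 n11297 = n14465 := (sb E9105 F60857)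
theorem F67776 : act 6 n11297 = n14464 := (sb E9105 (iv D18810))
theorem E10149 : n14684 = n14300 := (((F60094).symm.trans (sb E9107 (iv D19097)))).symm
theorem F67778 : act 3 n19172 = n14783 := (sb E9108 (iv D19228))
theorem F67779 : act 4 n18812 = n14699 := (sb E9111 F61660)
theorem F67780 : act 2 n11124 = n14464 := (sb E9116 (iv F47275))
theorem F67781 : act 4 n11124 = n8647 := (sb E9116 (iv D11276))
theorem F67782 : act 6 n11301 = n14466 := (sb E9119 (iv D18814))
theorem F67783 : act 4 n11289 = n14469 := (sb E9120 F60875)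
theorem F67786 : act 4 n11294 = n14463 := (sb E9127 F60847)
theorem F67787 : act 7 n11294 = n14462 := (sb E9127 (iv D18807))
theorem E10151 : n14303 = n14027 := (((iv F46796)).symm.trans (sb E9130 (iv F45951)))
theorem F67794 : act 3 n18554 = n14707 := (sb E9136 F61686)
theorem F67796 : act 6 n10784 = n8435 := (sb E9137 (iv D10992))
theorem F67798 : act 2 n11128 = n8643 := (sb E9145 F37177)
theorem F67800 : act 4 n18803 = n14705 := (sb E9146 F61679)
theorem F67802 : act 5 n18808 = n14714 := (sb E9175 F61814)
theorem F67803 : act 6 n18808 = n14713 := (sb E9175 (iv D19135))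
theorem F67805 : act 6 n18547 = n14720 := (sb E9177 (iv D19145))
theorem F67808 : act 7 n18802 = n14705 := (sb E9179 (iv D19126))
theorem F67814 : act 6 n11445 = n14664 := (sb E9208 (iv D19070))
theorem F67818 : act 3 n18491 = n14664 := (sb E9222 (iv D19068))
theorem E10201 : n12598 = n2464 := (((F11284).symm.trans (sb E9293 F53160))).symm
theorem E10203 : n16397 = n3236 := (((D3236).symm.trans (sb E9295 (iv F53171)))).symm
theorem F67828 : act 4 n14665 = n11445 := (sb E9358 (iv D14901))
theorem E10300 : n12666 = n4243 := ((((iv F14627)).symm.trans (sb E9374 (iv F41496)))).symm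
theorem E10301 : n12599 = n4244 := (((D4244).symm.trans (sb E9377 (iv F41281)))).symm
theorem E10307 : n12592 = n4246 := (((D4246).symm.trans (sb E9390 (iv F41256)))).symm
theorem E10308 : n4248 = n3238 := ((D4248).symm.trans (sb E9393 (tr F32028 E9393)))
theorem E10309 : n7243 = n5545 := ((D7243).symm.trans (sb E9394 (tr F53152 E9394)))
theorem E10386 : n522 = n391 := ((D522).symm.trans (sb E9479 (tr F7191 E9479)))
theorem E10405 : n6573 = n6412 := ((((iv F21709)).symm.trans (sb E9505 (iv F22192)))).symm
theorem E10406 : n6515 = n6414 := (((D6414).symm.trans (sb E9505 (iv F22015)))).symm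
theorem F67833 : act 6 n4913 = n3839 := (sb E9505 (iv D5029))
theorem F67834 : act 6 n2496 = n2496 := (sb E9507 (iv D3283))
theorem E10431 : n6519 = n6401 := ((((iv F21672)).symm.trans (sb E9521 (iv F22027)))).symm
theorem F67835 : act 6 n4915 = n3810 := (sb E9521 (iv D4989))
theorem F67836 : act 6 n295 = n295 := (sb E9569 (iv D395))
theorem E10490 : n526 = n219 := ((((iv D295)).symm.trans (sb E9569 (iv F2017)))).symm
theorem F67837 : act 1 n891 = n891 := (sb E9582 (iv D1176))
theorem E10506 : n1550 = n1175 := ((((iv F4293)).symm.trans (sb E9582 (iv F5579)))).symm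
theorem F67838 : act 0 n897 = n897 := (sb E9584 (iv D1186))
theorem E10507 : n1562 = n1184 := ((((iv F4328)).symm.trans (sb E9584 (iv F5625)))).symm
theorem E10531 : n690 = n520 := ((D690).symm.trans (sb E9620 (tr F9331 E9620)))
theorem E10552 : n10891 = n6508 := (((D6508).symm.trans (sb E9640 F46389))).symm
theorem E10554 : n18404 = n6504 := ((((iv F21982)).symm.trans (sb E9640 D18404))).symm
theorem E10555 : n12693 = n4254 := (((F17025).symm.trans (sb E9641 F48393))).symm
theorem E10556 : n10887 = n6564 := (((D6564).symm.trans (sb E9642 (iv F36049)))).symm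
theorem F67839 : act 4 n5022 = n6416 := (sb E9642 F28001)
theorem E10557 : n6566 = n5022 := ((D6566).symm.trans (sb E9642 (tr F28003 E9642)))
theorem E10558 : n4282 = n3264 := ((D4282).symm.trans (sb E9643 (tr F19422 E9643)))
theorem E10560 : n4257 = n3245 := ((D4257).symm.trans (sb E9644 (tr F32285 E9644)))
theorem E10566 : n10876 = n6510 := (((D6510).symm.trans (sb E9648 (iv F36009)))).symm
theorem E10567 : n6511 = n4983 := ((D6511).symm.trans (sb E9648 (tr F28010 E9648)))
theorem E10569 : n18382 = n6506 := ((((iv F21988)).symm.trans (sb E9649 D18382))).symm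
theorem E10570 : n6505 = n4980 := ((D6505).symm.trans (sb E9650 (tr F46400 E9650)))
theorem E10571 : n12695 = n2468 := ((((iv D3243)).symm.trans (sb E9651 (iv F41589)))).symm
theorem E10572 : n4255 = n3243 := ((D4255).symm.trans (sb E9651 (tr F32295 E9651)))
theorem F67840 : act 6 n3836 = n3836 := (sb E9652 (iv D5025))
theorem F67841 : act 2 n2483 = n2483 := (sb E9653 (iv D3265))
theorem E10577 : n2470 = n1876 := ((D2470).symm.trans (sb E9654 (tr F32293 E9654)))
theorem F67842 : act 3 n2469 = n2469 := (sb E9655 (iv D3246))
theorem E10580 : n12833 = n1419 := (((F6045).symm.trans (sb E9657 F49861))).symm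
theorem E10583 : n7698 = n888 := (((F3956).symm.trans (sb E9658 F32641))).symm
theorem F67843 : act 1 n1551 = n1551 := (sb E9660 F7244)
theorem E10586 : n1547 = n1173 := ((D1547).symm.trans (sb E9662 (tr F19996 E9662)))
theorem F67844 : act 3 n2471 = n2471 := (sb E9664 (iv D3248))
theorem F67845 : act 2 n2485 = n2485 := (sb E9665 (iv D3268))
theorem F67846 : act 3 n1421 = n1421 := (sb E9667 (iv D1878))
theorem F67847 : act 2 n889 = n889 := (sb E9672 (iv D1174))
theorem E10601 : n10885 = n6513 := (((D6513).symm.trans (sb E9676 (iv F36040)))).symm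
theorem E10602 : n10871 = n6514 := (((D6514).symm.trans (sb E9676 (iv F35994)))).symm
theorem F67848 : act 4 n5027 = n6413 := (sb E9678 F27986)
theorem F67849 : act 3 n4988 = n6403 := (sb E9681 F27948)
theorem E10606 : n10874 = n6518 := (((D6518).symm.trans (sb E9681 (iv F36004)))).symm
theorem F67850 : act 2 n11353 = n14512 := (sb E9707 F61042)
theorem E10627 : n16173 = n9689 := ((((iv F32097)).symm.trans (sb E9711 (iv F52493)))).symm
theorem F67851 : act 2 n7424 = n9533 := (sb E9712 (iv D12423))
theorem F67861 : act 0 n1567 = n1567 := (sb E9798 F7316)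
theorem E10718 : n2702 = n2061 := ((((iv F7319)).symm.trans (sb E9798 (iv F9485)))).symm
theorem E10719 : n2697 = n2057 := ((((iv F7307)).symm.trans (sb E9798 (iv F9469)))).symm
theorem E10720 : n4514 = n2704 := (((D2704).symm.trans (sb E9799 D4514))).symm
theorem F67862 : act 5 n2061 = n2639 := (sb E9799 F11954)
theorem E10721 : n4515 = n2698 := ((((iv F9471)).symm.trans (sb E9799 D4515))).symm
theorem F67863 : act 5 n2057 = n2640 := (sb E9800 F11959)
theorem F67864 : act 0 n1566 = n1566 := (sb E9801 F7312)
theorem E10723 : n2696 = n2056 := ((((iv F7303)).symm.trans (sb E9801 (iv F9465)))).symm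
theorem F67865 : act 0 n1563 = n1563 := (sb E9802 F7297)
theorem E10727 : n4350 = n3315 := (((iv F14954)).symm.trans (sb E9805 (tr F19412 E9805)))
theorem F67866 : act 1 n2521 = n2521 := (sb E9813 (iv D3314))
theorem E10739 : n4343 = n3309 := ((((iv F11528)).symm.trans (sb E9813 (iv F14932)))).symm
theorem F67867 : act 2 n4283 = n4283 := (sb E9821 F19075)
theorem F67868 : act 2 n5111 = n6413 := (sb E9825 (iv D8361))
theorem E10754 : n10888 = n6682 := (((D6682).symm.trans (sb E9825 D10888))).symm
theorem F67869 : act 5 n5111 = n6419 := (sb E9825 F27990)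
theorem E10755 : n10889 = n6674 := ((((iv F22482)).symm.trans (sb E9825 D10889))).symm
theorem E10765 : n18398 = n6675 := (((D6675).symm.trans (sb E9832 D18398))).symm
theorem E10769 : n11189 = n10868 := (((D10868).symm.trans (sb E9836 D11189))).symm
theorem E10770 : n11079 = n10867 := ((((iv F35979)).symm.trans (sb E9836 (iv F36607)))).symm
theorem F67871 : act 6 n8710 = n11013 := (sb E9847 (iv D14338))
theorem F67872 : act 4 n8699 = n11140 := (sb E9849 F47394)
theorem F67873 : act 7 n8699 = n11139 := (sb E9849 (iv D14507))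
theorem F67874 : act 2 n8705 = n11335 := (sb E9883 F47432)
theorem F67875 : act 5 n8705 = n11151 := (sb E9883 (iv D14523))
theorem E10799 : n18889 = n11338 := ((((iv F37357)).symm.trans (sb E9883 D18889))).symm
theorem E10803 : n12441 = n7417 := (((F28971).symm.trans (sb E9886 F47447))).symm
theorem F67876 : act 5 n8696 = n11155 := (sb E9886 F47448)
theorem E10804 : n12435 = n7426 := ((((iv F24894)).symm.trans (sb E9887 (iv F40782)))).symm
theorem F67877 : act 5 n5684 = n7313 := (sb E9887 (iv D9545))
theorem F67878 : act 2 n5680 = n7423 := (sb E9888 F31686)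
theorem F67879 : act 5 n5680 = n7320 := (sb E9888 (iv D9553))
theorem F67880 : act 5 n5678 = n7318 := (sb E9893 F31678)
theorem E10816 : n18299 = n11348 := (((D11348).symm.trans (sb E9900 (iv F59312)))).symm
theorem E10824 : n12589 = n7412 := ((((iv F24854)).symm.trans (sb E9905 (iv F41245)))).symm
theorem E10826 : n12588 = n7422 := (((D7422).symm.trans (sb E9906 D12588))).symm
theorem E10829 : n18686 = n10819 := (((D10819).symm.trans (sb E9911 (iv F60468)))).symm
theorem F67881 : act 2 n8560 = n11141 := (sb E9912 (iv F36797))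
theorem F67882 : act 4 n8560 = n6648 := (sb E9912 (iv D8681))
theorem E10832 : n11310 = n11165 := (((D11165).symm.trans (sb E9912 (iv F37291)))).symm
theorem E10833 : n18891 = n11311 := (((D11311).symm.trans (sb E9913 (iv F61085)))).symm
theorem E10834 : n11043 = n10821 := (((D10821).symm.trans (sb E9916 F46992))).symm
theorem F67883 : act 4 n8564 = n6643 := (sb E9919 (iv D8674))
theorem E10839 : n11314 = n11156 := ((((iv F36834)).symm.trans (sb E9919 D11314))).symm
theorem E10840 : n12442 = n7396 := (((F28919).symm.trans (sb E9920 F47450))).symm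
theorem F67884 : act 7 n8675 = n11155 := (sb E9920 (iv D14530))
theorem F67885 : act 1 n5639 = n7300 := (sb E9923 (iv F24522))
theorem E10842 : n7395 = n7325 := ((((iv F24592)).symm.trans (sb E9923 (iv F24798)))).symm
theorem F67886 : act 4 n5639 = n4321 := (sb E9923 (iv D5659))
theorem E10846 : n7402 = n7321 := ((((iv F24583)).symm.trans (sb E9927 (iv F24822)))).symm
theorem F67888 : act 4 n5602 = n4325 := (sb E9927 (iv D5664))
theorem F67889 : act 6 n5663 = n7320 := (sb E9928 (iv D9554))
theorem F67890 : act 4 n8308 = n6496 := (sb E9954 F28312)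
theorem E10862 : n11047 = n10825 := (((D10825).symm.trans (sb E9954 (iv F36503)))).symm
theorem F67891 : act 6 n8308 = n6495 := (sb E9954 (iv D8475))
theorem E10868 : n7400 = n7319 := (((F28566).symm.trans (sb E9959 F28931))).symm
theorem F67892 : act 4 n8558 = n6646 := (sb E9959 F28932)
theorem F67893 : act 7 n5661 = n7318 := (sb E9960 (iv D9551))
theorem F67894 : act 4 n5607 = n4322 := (sb E9962 (iv D5660))
theorem E10874 : n19226 = n18868 := (((D18868).symm.trans (sb E9971 D19226))).symm
theorem E10875 : n19225 = n18629 := ((((iv F60317)).symm.trans (sb E9971 (iv F62039)))).symm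
theorem F67895 : act 5 n14508 = n11350 := (sb E9971 F48181)
theorem F67896 : act 6 n14508 = n11349 := (sb E9971 (iv D14782))
theorem E10876 : n19227 = n18854 := ((((iv F60984)).symm.trans (sb E9971 D19227))).symm
theorem F67897 : act 5 n14498 = n11353 := (sb E9972 F48188)
theorem E10877 : n19204 = n18856 := (((D18856).symm.trans (sb E9972 (iv F61989)))).symm
theorem F67898 : act 6 n14333 = n11356 := (sb E9973 (iv D14792))
theorem E10880 : n19212 = n18860 := (((D18860).symm.trans (sb E9974 (iv F62008)))).symm
theorem E10881 : n12612 = n12414 := (((F47380).symm.trans (sb E9975 F48160))).symm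
theorem F67901 : act 7 n14502 = n11341 := (sb E9975 (iv D14773))
theorem E10882 : n12625 = n12410 := ((((iv F40706)).symm.trans (sb E9976 (iv F41364)))).symm
theorem F67902 : act 5 n9525 = n7430 := (sb E9976 F32118)
theorem E10884 : n12621 = n12420 := (((D12420).symm.trans (sb E9977 (iv F41351)))).symm
theorem F67903 : act 5 n9532 = n7424 := (sb E9977 F32092)
theorem F67904 : act 6 n9532 = n7423 := (sb E9977 (iv D9687))
theorem E10885 : n12631 = n12300 := ((((iv F40357)).symm.trans (sb E9978 (iv F41383)))).symm
theorem F67905 : act 5 n9534 = n7428 := (sb E9978 F32111)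
theorem F67906 : act 6 n9534 = n7427 := (sb E9978 (iv D9693))
theorem E10889 : n12615 = n12417 := ((((iv F40729)).symm.trans (sb E9982 (iv F41331)))).symm
theorem F67911 : act 7 n9530 = n7420 := (sb E9982 (iv D9683))
theorem F67913 : act 6 n9444 = n7431 := (sb E9984 (iv D9696))
theorem E10892 : n12454 = n12420 := (((D12420).symm.trans (sb E9985 D12454))).symm
theorem E10900 : n18868 = n18690 := ((D18868).symm.trans (sb E9991 (iv F60476)))
theorem E10912 : n9656 = n9471 := ((((iv F31430)).symm.trans (sb E10007 (iv F31992)))).symm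
theorem E10913 : n9474 = n7261 := (((iv F31439)).symm.trans (sb E10007 (tr F24829 E10007)))
theorem E10915 : n9479 = n7266 := (((iv F31454)).symm.trans (sb E10009 (tr F24809 E10009)))
theorem E10918 : n18295 = n11039 := (((D11039).symm.trans (sb E10010 (iv F59303)))).symm
theorem F67914 : act 3 n8470 = n10823 := (sb E10012 F46119)
theorem E10921 : n18302 = n11042 := (((D11042).symm.trans (sb E10012 (iv F59323)))).symm
theorem E10922 : n18304 = n11032 := ((((iv F36470)).symm.trans (sb E10012 D18304))).symm
theorem E10924 : n12576 = n7314 := (((F28554).symm.trans (sb E10014 F48071))).symm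
theorem E10925 : n12587 = n7312 := (((D7312).symm.trans (sb E10015 (iv F41238)))).symm
theorem E10926 : n12593 = n7254 := ((((iv F24372)).symm.trans (sb E10015 (iv F41260)))).symm
theorem E10927 : n12584 = n7259 := ((((iv F24388)).symm.trans (sb E10016 (iv F41228)))).symm
theorem E10928 : n7260 = n5558 := ((D7260).symm.trans (sb E10017 (tr F32012 E10017)))
theorem E10929 : n18836 = n18227 := (((D18227).symm.trans (sb E10018 D18836))).symm
theorem F67915 : act 3 n14026 = n11123 := (sb E10018 (iv D14484))
theorem E10930 : n18585 = n18226 := ((((iv F59085)).symm.trans (sb E10018 (iv F60192)))).symm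
theorem F67916 : act 5 n14474 = n11300 := (sb E10019 F47935)
theorem E10932 : n19086 = n18824 := (((D18824).symm.trans (sb E10019 (iv F61671)))).symm
theorem E10934 : n18905 = n18034 := ((((iv F58490)).symm.trans (sb E10020 D18905))).symm
theorem E10935 : n18886 = n18300 := (((D18300).symm.trans (sb E10020 (iv F61072)))).symm
theorem E10936 : n18685 = n18296 := ((((iv F59306)).symm.trans (sb E10021 D18685))).symm
theorem E10937 : n18670 = n18298 := (((D18298).symm.trans (sb E10021 (iv F60430)))).symm
theorem F67917 : act 3 n14081 = n11151 := (sb E10022 (iv D14522))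
theorem E10938 : n18888 = n18283 := ((((iv F59265)).symm.trans (sb E10022 D18888))).symm
theorem E10939 : n19161 = n18890 := (((D18890).symm.trans (sb E10023 (iv F61883)))).symm
theorem E10940 : n18675 = n18305 := (((D18305).symm.trans (sb E10024 (iv F60441)))).symm
theorem E10941 : n18676 = n18287 := ((((iv F59280)).symm.trans (sb E10025 D18676))).symm
theorem E10943 : n12572 = n12436 := ((((iv F40786)).symm.trans (sb E10027 (iv F41185)))).symm
theorem E10944 : n12440 = n9546 := (((iv F40798)).symm.trans (sb E10027 (tr F31975 E10027)))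
theorem E10945 : n12434 = n9542 := ((D12434).symm.trans (sb E10028 (tr F32005 E10028)))
theorem F67919 : act 3 n7313 = n7313 := (sb E10029 (iv D9544))
theorem F67920 : act 3 n7320 = n7320 := (sb E10030 (iv D9552))
theorem E10950 : n19172 = n18632 := (((D18632).symm.trans (sb E10032 (iv F61916)))).symm
theorem F67921 : act 4 n14512 = n11335 := (sb E10033 F48051)
theorem E10953 : n19157 = n18858 := ((((iv F60996)).symm.trans (sb E10033 D19157))).symm
theorem E10954 : n18636 = n18301 := (((iv F60336)).symm.trans (sb E10034 (iv F59320)))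
theorem E10955 : n19162 = n18637 := (((D18637).symm.trans (sb E10034 (iv F61888)))).symm
theorem E10957 : n12575 = n12415 := (((F47383).symm.trans (sb E10036 F48067))).symm
theorem F67923 : act 4 n14503 = n11341 := (sb E10036 F48068)
theorem E10958 : n12569 = n12424 := ((((iv F40750)).symm.trans (sb E10037 (iv F41176)))).symm
theorem F67924 : act 4 n9537 = n7415 := (sb E10037 F31970)
theorem E10960 : n12583 = n12299 := ((((iv F40353)).symm.trans (sb E10038 (iv F41225)))).symm
theorem F67925 : act 4 n9533 = n7423 := (sb E10038 F31996)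
theorem E10961 : n12301 = n9441 := ((D12301).symm.trans (sb E10044 (tr F53135 E10044)))
theorem F67926 : act 3 n8474 = n10827 := (sb E10050 F46131)
theorem E10962 : n18308 = n11036 := ((((iv F36480)).symm.trans (sb E10050 D18308))).symm
theorem F67927 : act 3 n8466 = n10828 := (sb E10051 F46136)
theorem E10965 : n12580 = n7257 := ((((iv F24382)).symm.trans (sb E10053 (iv F41213)))).symm
theorem E10966 : n7256 = n5555 := ((D7256).symm.trans (sb E10054 (tr F32032 E10054)))
theorem F67928 : act 4 n4247 = n4247 := (sb E10055 (iv D5560))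
theorem F67929 : act 3 n14029 = n10987 := (sb E10056 (iv D14301))
theorem E10968 : n18590 = n18231 := ((((iv F59101)).symm.trans (sb E10056 D18590))).symm
theorem E10969 : n18577 = n18232 := (((D18232).symm.trans (sb E10056 (iv F60169)))).symm
theorem F67931 : act 5 n14478 = n11291 := (sb E10058 F47907)
theorem F67932 : act 7 n14478 = n11270 := (sb E10058 (iv D14679))
theorem E10971 : n18581 = n18237 := (((D18237).symm.trans (sb E10059 (iv F60181)))).symm
theorem F67934 : act 3 n14034 = n10983 := (sb E10060 (iv D14295))
theorem E10972 : n18582 = n18223 := ((((iv F59076)).symm.trans (sb E10060 D18582))).symm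
theorem E10974 : n18680 = n18292 := ((((iv F59296)).symm.trans (sb E10062 D18680))).symm
theorem F67936 : act 3 n7318 = n7318 := (sb E10065 F31676)
theorem F67938 : act 6 n14086 = n11014 := (sb E10071 (iv D14339))
theorem E10980 : n18642 = n18288 := ((((iv F59284)).symm.trans (sb E10071 D18642))).symm
theorem E10981 : n19167 = n18628 := ((((iv F60315)).symm.trans (sb E10072 D19167))).symm
theorem F67939 : act 4 n9531 = n7420 := (sb E10074 F31986)
theorem F67941 : act 5 n7241 = n7241 := (sb E10079 (iv D9445))
theorem F67942 : act 4 n5561 = n5561 := (sb E10080 F24405)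
theorem F67943 : act 1 n4352 = n4352 := (sb E10089 F19345)
theorem E10988 : n7446 = n5699 := ((((iv F19349)).symm.trans (sb E10089 (iv F24963)))).symm
theorem E10989 : n7436 = n5692 := ((((iv F19325)).symm.trans (sb E10089 (iv F24930)))).symm
theorem F67944 : act 1 n3456 = n4353 := (sb E10093 (iv F14963))
theorem E10996 : n4618 = n4521 := (((D4521).symm.trans (sb E10093 (iv F15827)))).symm
theorem F67945 : act 1 n3457 = n4348 := (sb E10094 (iv F14946))
theorem E11001 : n12618 = n9685 := (((iv F41342)).symm.trans (sb E10099 (tr F32101 E10099)))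
theorem E11004 : n12630 = n12603 := (((D12603).symm.trans (sb E10100 D12630))).symm
theorem F67946 : act 3 n16374 = n12622 := (sb E10107 (iv D16430))
theorem E11012 : n16376 = n16003 := ((((iv F51951)).symm.trans (sb E10115 (iv F53094)))).symm
theorem E11014 : n16364 = n16009 := (((D16009).symm.trans (sb E10115 (iv F53057)))).symm
theorem F67947 : act 3 n16000 = n12613 := (sb E10122 F53073)
theorem F67949 : act 1 n8367 = n6684 := (sb E10123 F29045)
theorem E11016 : n11374 = n10881 := ((((iv F36027)).symm.trans (sb E10123 (iv F37457)))).symm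
theorem E11017 : n11376 = n10894 := (((D10894).symm.trans (sb E10123 D11376))).symm
theorem E11018 : n11363 = n10895 := (((D10895).symm.trans (sb E10123 (iv F37418)))).symm
theorem F67950 : act 1 n8368 = n6677 := (sb E10124 F29012)
theorem E11026 : n19132 = n18268 := (((iv F61806)).symm.trans (sb E10131 (iv F59218)))
theorem F67951 : act 2 n14699 = n11300 := (sb E10132 F48022)
theorem F67952 : act 2 n14111 = n11349 := (sb E10133 F48176)
theorem E11030 : n19221 = n18339 := (((D18339).symm.trans (sb E10133 D19221))).symm
theorem E11031 : n19222 = n18065 := ((((iv F58564)).symm.trans (sb E10133 D19222))).symm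
theorem E11032 : n19197 = n18340 := (((D18340).symm.trans (sb E10133 (iv F61975)))).symm
theorem E11036 : n19209 = n19203 := (((D19203).symm.trans (sb E10136 (iv F61998)))).symm
theorem E11050 : n18587 = n18224 := (((iv F60197)).symm.trans (sb E10149 (iv F59079)))
theorem F67956 : act 6 n14027 = n10987 := (sb E10151 (iv D14303))
theorem E11091 : n3239 = n2464 := ((D3239).symm.trans (sb E10201 (tr F41278 E10201)))
theorem E11092 : n4245 = n3236 := ((D4245).symm.trans (sb E10203 (tr F53172 E10203)))
theorem E11137 : n16391 = n5554 := (((D5554).symm.trans (sb E10300 (iv F53148)))).symm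
theorem E11138 : n5556 = n4244 := ((D5556).symm.trans (sb E10301 (tr F41282 E10301)))
theorem E11142 : n5559 = n4246 := ((D5559).symm.trans (sb E10307 (tr F41257 E10307)))
theorem F67966 : act 4 n3238 = n3238 := (sb E10308 (iv D4248))
theorem E11144 : n9443 = n7240 := ((((iv F24323)).symm.trans (sb E10309 (iv F31336)))).symm
theorem E11145 : n5546 = n4237 := (((F18869).symm.trans (sb E10309 F24333))).symm
theorem F67967 : act 5 n5545 = n5545 := (sb E10309 (iv D7243))
theorem F67968 : act 6 n391 = n391 := (sb E10386 (iv D522))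
theorem E11195 : n691 = n291 := ((((iv D391)).symm.trans (sb E10386 (iv F2607)))).symm
theorem E11207 : n8500 = n8359 := (((D8359).symm.trans (sb E10405 (iv F28394)))).symm
theorem F67969 : act 6 n6412 = n5027 := (sb E10405 (iv D6573))
theorem E11209 : n8503 = n8344 := ((((iv F27930)).symm.trans (sb E10406 (iv F28403)))).symm
theorem F67970 : act 6 n6414 = n4986 := (sb E10406 (iv D6515))
theorem E11237 : n8507 = n8348 := (((D8348).symm.trans (sb E10431 (iv F28416)))).symm
theorem F67971 : act 6 n6401 = n4988 := (sb E10431 (iv D6519))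
theorem E11306 : n394 = n294 := (((D294).symm.trans (sb E10490 (iv D526)))).symm
theorem F67972 : act 1 n1175 = n1175 := (sb E10506 (iv D1550))
theorem F67973 : act 0 n1184 = n1184 := (sb E10507 (iv D1562))
theorem F67974 : act 6 n520 = n520 := (sb E10531 (iv D690))
theorem E11340 : n911 = n389 := ((((iv D520)).symm.trans (sb E10531 (iv F3385)))).symm
theorem E11351 : n14159 = n8491 := (((D8491).symm.trans (sb E10552 (iv F46360)))).symm
theorem E11352 : n14144 = n8492 := (((D8492).symm.trans (sb E10552 (iv F46315)))).symm
theorem E11353 : n8493 = n6508 := ((D8493).symm.trans (sb E10552 (tr F36068 E10552)))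
theorem E11354 : n8486 = n6504 := ((D8486).symm.trans (sb E10554 (tr F59647 E10554)))
theorem E11356 : n5569 = n4254 := ((D5569).symm.trans (sb E10555 (tr F41582 E10555)))
theorem F67975 : act 4 n6564 = n8362 := (sb E10556 F36050)
theorem E11357 : n8570 = n6564 := ((D8570).symm.trans (sb E10556 (tr F36052 E10556)))
theorem F67976 : act 6 n5022 = n5022 := (sb E10557 (iv D6566))
theorem F67977 : act 2 n3264 = n3264 := (sb E10558 (iv D4282))
theorem F67978 : act 3 n3245 = n3245 := (sb E10560 (iv D4257))
theorem F67979 : act 3 n6510 = n8351 := (sb E10566 F36008)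
theorem E11364 : n14147 = n8496 := (((D8496).symm.trans (sb E10566 (iv F46327)))).symm
theorem E11365 : n8497 = n6510 := ((D8497).symm.trans (sb E10566 (tr F36010 E10566)))
theorem F67980 : act 6 n4983 = n4983 := (sb E10567 (iv D6511))
theorem E11367 : n8488 = n6506 := (((iv F28355)).symm.trans (sb E10569 (tr F59572 E10569)))
theorem F67981 : act 2 n4980 = n4980 := (sb E10570 (iv D6505))
theorem E11371 : n3244 = n2468 := ((D3244).symm.trans (sb E10571 (tr F41590 E10571)))
theorem F67982 : act 3 n3243 = n3243 := (sb E10572 (iv D4255))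
theorem F67983 : act 3 n1876 = n1876 := (sb E10577 (iv D2470))
theorem E11382 : n16684 = n1874 := ((((iv F6727)).symm.trans (sb E10580 D16684))).symm
theorem E11384 : n10021 = n1172 := ((((iv F4277)).symm.trans (sb E10583 D10021))).symm
theorem F67984 : act 2 n1173 = n1173 := (sb E10586 (iv D1547))
theorem E11398 : n14136 = n8499 := (((D8499).symm.trans (sb E10601 (iv F46289)))).symm
theorem F67985 : act 3 n6514 = n8346 := (sb E10602 F35993)
theorem E11399 : n14142 = n8502 := (((D8502).symm.trans (sb E10602 (iv F46309)))).symm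
theorem F67986 : act 3 n6518 = n8350 := (sb E10606 F36002)
theorem F67987 : act 2 n9689 = n12424 := (sb E10627 F52494)
theorem F67999 : act 0 n2061 = n2061 := (sb E10718 F9484)
theorem E11485 : n3537 = n2704 := (((D2704).symm.trans (sb E10718 D3537))).symm
theorem E11486 : n3530 = n2698 := ((((iv F9471)).symm.trans (sb E10718 (iv F12246)))).symm
theorem F68000 : act 0 n2057 = n2057 := (sb E10719 F9466)
theorem F68001 : act 5 n2704 = n3456 := (sb E10720 F15468)
theorem F68002 : act 5 n2698 = n3457 := (sb E10721 F15472)
theorem F68003 : act 0 n2056 = n2056 := (sb E10723 F9462)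
theorem E11491 : n3531 = n2699 := (((D2699).symm.trans (sb E10723 D3531))).symm
theorem F68004 : act 1 n3315 = n3315 := (sb E10727 F14954)
theorem E11495 : n5697 = n4351 := (((D4351).symm.trans (sb E10727 D5697))).symm
theorem E11496 : n5689 = n4344 := ((((iv F14935)).symm.trans (sb E10727 (iv F19313)))).symm
theorem F68005 : act 1 n3309 = n3309 := (sb E10739 (iv D4343))
theorem E11511 : n5690 = n4345 := (((D4345).symm.trans (sb E10739 D5690))).symm
theorem E11528 : n14140 = n8724 := (((D8724).symm.trans (sb E10754 (iv F46301)))).symm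
theorem F68006 : act 5 n6682 = n8367 := (sb E10754 F36055)
theorem F68007 : act 2 n6674 = n8362 := (sb E10755 F36059)
theorem F68008 : act 5 n6674 = n8368 := (sb E10755 F36060)
theorem E11531 : n14164 = n8716 := (((D8716).symm.trans (sb E10755 D14164))).symm
theorem E11538 : n8717 = n6675 := ((D8717).symm.trans (sb E10765 (tr F59623 E10765)))
theorem E11539 : n14426 = n14138 := ((((iv F46295)).symm.trans (sb E10769 (iv F47148)))).symm
theorem E11540 : n14573 = n13944 := ((((iv F45670)).symm.trans (sb E10769 D14573))).symm
theorem E11542 : n14427 = n14137 := ((((iv F46293)).symm.trans (sb E10770 D14427))).symm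
theorem F68011 : act 5 n11338 = n14524 := (sb E10799 F61079)
theorem E11557 : n16187 = n9674 := ((((iv F32049)).symm.trans (sb E10803 (iv F52537)))).symm
theorem F68012 : act 5 n7417 = n9546 := (sb E10803 F40800)
theorem F68013 : act 2 n7426 = n9671 := (sb E10804 F40783)
theorem F68014 : act 5 n7426 = n9542 := (sb E10804 (iv D12435))
theorem F68015 : act 3 n11348 = n14080 := (sb E10816 (iv D18299))
theorem F68016 : act 5 n11348 = n14111 := (sb E10816 F59313)
theorem E11569 : n16385 = n9670 := (((D9670).symm.trans (sb E10824 (iv F53127)))).symm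
theorem E11571 : n9684 = n7422 := ((D9684).symm.trans (sb E10826 (tr F41242 E10826)))
theorem E11574 : n14373 = n14077 := (((D14077).symm.trans (sb E10829 F60467))).symm
theorem F68018 : act 4 n11165 = n8673 := (sb E10832 (iv D11310))
theorem E11577 : n14731 = n14526 := ((((iv F47439)).symm.trans (sb E10832 D14731))).symm
theorem F68019 : act 7 n11311 = n14524 := (sb E10833 (iv D18891))
theorem F68020 : act 4 n10821 = n8471 := (sb E10834 F36494)
theorem E11578 : n14378 = n14082 := (((D14082).symm.trans (sb E10834 (iv F46996)))).symm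
theorem F68021 : act 6 n10821 = n8470 := (sb E10834 (iv D11043))
theorem E11579 : n14379 = n14069 := ((((iv F46080)).symm.trans (sb E10834 D14379))).symm
theorem E11581 : n9650 = n9547 := (((F36833).symm.trans (sb E10839 F37302))).symm
theorem F68022 : act 4 n11156 = n8675 := (sb E10839 F37303)
theorem E11582 : n16189 = n9647 := ((((iv F31961)).symm.trans (sb E10840 (iv F52543)))).symm
theorem F68023 : act 7 n7396 = n9546 := (sb E10840 (iv D12442))
theorem E11584 : n9646 = n9556 := ((((iv F31694)).symm.trans (sb E10842 (iv F31958)))).symm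
theorem F68024 : act 4 n7325 = n5658 := (sb E10842 (iv D7395))
theorem F68025 : act 2 n7321 = n9532 := (sb E10846 (iv F31628))
theorem F68026 : act 4 n7321 = n5663 := (sb E10846 (iv D7402))
theorem F68027 : act 6 n10825 = n8474 := (sb E10862 (iv D11047))
theorem F68029 : act 4 n7319 = n5661 := (sb E10868 F24816)
theorem E11599 : n19226 = n18690 := (E10874).trans E10900
theorem F68030 : act 5 n18690 = n14783 := (sb E11599 F62041)
theorem F68031 : act 6 n18629 = n14781 := (sb E10875 (iv D19225))
theorem F68032 : act 5 n18854 = n14784 := (sb E10876 F62044)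
theorem F68033 : act 5 n18856 = n14766 := (sb E10877 F61988)
theorem F68034 : act 7 n18856 = n14764 := (sb E10877 (iv D19204))
theorem F68038 : act 7 n18860 = n14770 := (sb E10880 (iv D19212))
theorem E11600 : n16406 = n16154 := ((((iv F52432)).symm.trans (sb E10881 (iv F53201)))).symm
theorem E11601 : n16414 = n16158 := ((((iv F52446)).symm.trans (sb E10881 (iv F53222)))).symm
theorem F68040 : act 7 n12414 = n9677 := (sb E10881 (iv D12612))
theorem F68041 : act 5 n12410 = n9689 := (sb E10882 F41365)
theorem E11604 : n16428 = n16166 := (((D16166).symm.trans (sb E10884 D16428))).symm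
theorem E11605 : n16427 = n16001 := ((((iv F51945)).symm.trans (sb E10884 (iv F53267)))).symm
theorem F68043 : act 5 n12420 = n9686 := (sb E10884 F41352)
theorem F68044 : act 6 n12420 = n9685 := (sb E10884 (iv D12621))
theorem F68045 : act 6 n12300 = n9692 := (sb E10885 (iv D12631))
theorem F68052 : act 7 n12417 = n9680 := (sb E10889 (iv D12615))
theorem E11610 : n16166 = n16062 := ((D16166).symm.trans (sb E10892 (iv F52139)))
theorem F68054 : act 2 n18690 = n14508 := (sb E10900 (iv D18868))
theorem E11620 : n12582 = n12341 := (((D12341).symm.trans (sb E10912 D12582))).symm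
theorem E11621 : n12340 = n9471 := (((iv F40481)).symm.trans (sb E10912 (tr F31993 E10912)))
theorem F68055 : act 4 n7261 = n7261 := (sb E10913 F31439)
theorem E11624 : n12346 = n9475 := (((D9475).symm.trans (sb E10913 D12346))).symm
theorem F68056 : act 4 n7266 = n7266 := (sb E10915 F31454)
theorem F68057 : act 3 n11039 = n14079 := (sb E10918 F59302)
theorem F68058 : act 3 n11042 = n14084 := (sb E10921 F59322)
theorem F68059 : act 3 n11032 = n14085 := (sb E10922 F59329)
theorem E11630 : n16367 = n9464 := ((((iv F31409)).symm.trans (sb E10924 (iv F53065)))).symm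
theorem E11631 : n16379 = n9462 := ((((iv F31403)).symm.trans (sb E10925 (iv F53105)))).symm
theorem E11632 : n9463 = n7254 := ((D9463).symm.trans (sb E10926 (tr F41261 E10926)))
theorem E11634 : n9470 = n7259 := ((D9470).symm.trans (sb E10927 (tr F41229 E10927)))
theorem F68060 : act 4 n5558 = n5558 := (sb E10928 (iv D7260))
theorem F68061 : act 3 n18227 = n14712 := (sb E10929 F60934)
theorem F68062 : act 3 n18226 = n14299 := (sb E10930 (iv D18585))
theorem F68064 : act 5 n18824 = n14702 := (sb E10932 F61670)
theorem F68065 : act 7 n18824 = n14675 := (sb E10932 (iv D19086))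
theorem F68066 : act 3 n18034 = n14780 := (sb E10934 F61121)
theorem F68067 : act 3 n18300 = n14761 := (sb E10935 F61071)
theorem F68068 : act 3 n18296 = n14372 := (sb E10936 F60465)
theorem F68069 : act 3 n18298 = n14361 := (sb E10937 (iv D18670))
theorem F68070 : act 3 n18283 = n14524 := (sb E10938 F61077)
theorem E11636 : n16363 = n16188 := (((F61080).symm.trans (sb E10939 F61882))).symm
theorem F68071 : act 5 n18890 = n14768 := (sb E10939 F61884)
theorem F68072 : act 7 n18890 = n14732 := (sb E10939 (iv D19161))
theorem F68073 : act 3 n18305 = n14364 := (sb E10940 F60440)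
theorem F68074 : act 3 n18287 = n14365 := (sb E10941 F60443)
theorem E11638 : n16186 = n12436 := (((iv F52535)).symm.trans (sb E10943 (tr F41186 E10943)))
theorem F68075 : act 3 n9546 = n9546 := (sb E10944 F40798)
theorem F68076 : act 3 n9542 = n9542 := (sb E10945 (iv D12434))
theorem F68077 : act 3 n18632 = n14783 := (sb E10950 F67778)
theorem F68079 : act 4 n18858 = n14764 := (sb E10953 F61873)
theorem F68080 : act 5 n18301 = n14335 := (sb E10954 F60336)
theorem F68082 : act 3 n18637 = n14769 := (sb E10955 F61887)
theorem E11646 : n16359 = n16156 := ((((iv F52438)).symm.trans (sb E10957 (iv F53038)))).symm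
theorem F68083 : act 4 n12415 = n9677 := (sb E10957 F41197)
theorem F68084 : act 4 n12424 = n9671 := (sb E10958 F41177)
theorem E11649 : n16374 = n16004 := (((D16004).symm.trans (sb E10960 (iv F53089)))).symm
theorem E11650 : n16002 = n12298 := ((((iv F40349)).symm.trans (sb E10961 (iv F51947)))).symm
theorem F68085 : act 5 n9441 = n9441 := (sb E10961 (iv D12301))
theorem F68086 : act 3 n11036 = n14090 := (sb E10962 F59341)
theorem E11653 : n9468 = n7257 := (((iv F31422)).symm.trans (sb E10965 (tr F41214 E10965)))
theorem F68088 : act 4 n5555 = n5555 := (sb E10966 (iv D7256))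
theorem F68089 : act 3 n18231 = n14302 := (sb E10968 F60204)
theorem F68090 : act 3 n18232 = n14292 := (sb E10969 (iv D18577))
theorem F68092 : act 3 n18237 = n14296 := (sb E10971 F60180)
theorem F68093 : act 3 n18223 = n14297 := (sb E10972 F60183)
theorem F68094 : act 3 n18292 = n14369 := (sb E10974 F60453)
theorem F68095 : act 5 n18288 = n14340 := (sb E10980 F60352)
theorem F68096 : act 3 n18628 = n14774 := (sb E10981 F61903)
theorem F68099 : act 1 n5699 = n5699 := (sb E10988 F24962)
theorem F68100 : act 1 n5692 = n5692 := (sb E10989 F24928)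
theorem F68102 : act 1 n4521 = n5694 := (sb E10996 (iv F19329))
theorem E11674 : n6028 = n5906 := (((D5906).symm.trans (sb E10996 D6028))).symm
theorem F68104 : act 2 n9685 = n9685 := (sb E11001 F41342)
theorem E11684 : n16411 = n16405 := (((D16405).symm.trans (sb E11004 (iv F53214)))).symm
theorem F68105 : act 3 n16003 = n12620 := (sb E11012 F53095)
theorem F68108 : act 3 n16009 = n12608 := (sb E11014 F53055)
theorem E11691 : n14809 = n14154 := (((D14154).symm.trans (sb E11016 D14809))).symm
theorem E11692 : n14810 = n13960 := ((((iv F45728)).symm.trans (sb E11016 D14810))).symm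
theorem E11694 : n14170 = n14133 := ((D14170).symm.trans (sb E11017 (iv F46275)))
theorem E11695 : n14797 = n14171 := (((D14171).symm.trans (sb E11017 (iv F48213)))).symm
theorem F68112 : act 1 n10895 = n8718 := (sb E11018 F37416)
theorem E11696 : n14798 = n14172 := (((D14172).symm.trans (sb E11018 D14798))).symm
theorem F68114 : act 2 n18268 = n14713 := (sb E11026 F61806)
theorem F68115 : act 5 n18268 = n14712 := (sb E11026 (iv D19132))
theorem F68116 : act 2 n18339 = n14781 := (sb E11030 F62032)
theorem F68117 : act 5 n18065 = n14780 := (sb E11031 F62034)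
theorem F68118 : act 2 n18340 = n14762 := (sb E11032 F61974)
theorem F68119 : act 5 n18340 = n14761 := (sb E11032 (iv D19197))
theorem F68120 : act 6 n19203 = n14768 := (sb E11036 (iv D19209))
theorem F68122 : act 6 n18224 = n14299 := (sb E11050 (iv D18587))
theorem F68128 : act 4 n2464 = n2464 := (sb E11091 (iv D3239))
theorem F68129 : act 4 n3236 = n3236 := (sb E11092 (iv D4245))
theorem E11769 : n7255 = n5554 := ((D7255).symm.trans (sb E11137 (tr F53149 E11137)))
theorem F68130 : act 4 n4244 = n4244 := (sb E11138 (iv D5556))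
theorem F68131 : act 4 n4246 = n4246 := (sb E11142 (iv D5559))
theorem F68132 : act 5 n7240 = n7240 := (sb E11144 (iv D9443))
theorem F68133 : act 5 n4237 = n4237 := (sb E11145 (iv D5546))
theorem E11814 : n521 = n390 := (((D390).symm.trans (sb E11195 (iv D691)))).symm
theorem E11816 : n11082 = n10884 := (((D10884).symm.trans (sb E11207 D11082))).symm
theorem E11817 : n11081 = n10865 := ((((iv F35971)).symm.trans (sb E11207 (iv F36613)))).symm
theorem F68135 : act 6 n8359 = n6513 := (sb E11207 (iv D8500))
theorem E11820 : n11086 = n10870 := (((D10870).symm.trans (sb E11209 (iv F36630)))).symm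
theorem F68136 : act 6 n8344 = n6514 := (sb E11209 (iv D8503))
theorem F68137 : act 6 n8348 = n6518 := (sb E11237 (iv D8507))
theorem F68138 : act 7 n294 = n294 := (sb E11306 (iv D394))
theorem E11959 : n689 = n519 := (((D519).symm.trans (sb E11340 (iv D911)))).symm
theorem E11972 : n18366 = n11069 := (((D11069).symm.trans (sb E11351 (iv F59522)))).symm
theorem E11973 : n11070 = n8491 := ((D11070).symm.trans (sb E11351 (tr F46363 E11351)))
theorem F68139 : act 3 n8492 = n10873 := (sb E11352 F46314)
theorem E11974 : n18375 = n11072 := (((D11072).symm.trans (sb E11352 (iv F59552)))).symm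
theorem E11975 : n11073 = n8492 := ((D11073).symm.trans (sb E11352 (tr F46316 E11352)))
theorem F68140 : act 6 n6508 = n6508 := (sb E11353 (iv D8493))
theorem E11977 : n11061 = n8137 := ((((iv F27273)).symm.trans (sb E11354 D11061))).symm
theorem F68141 : act 2 n6504 = n6504 := (sb E11354 (iv D8486))
theorem E11979 : n11062 = n8487 := (((D8487).symm.trans (sb E11354 D11062))).symm
theorem F68142 : act 3 n4254 = n4254 := (sb E11356 (iv D5569))
theorem F68143 : act 6 n6564 = n6564 := (sb E11357 (iv D8570))
theorem F68144 : act 3 n8496 = n10877 := (sb E11364 F46325)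
theorem E11988 : n11077 = n8496 := ((D11077).symm.trans (sb E11364 (tr F46328 E11364)))
theorem F68145 : act 6 n6510 = n6510 := (sb E11365 (iv D8497))
theorem F68146 : act 2 n6506 = n6506 := (sb E11367 F28355)
theorem F68147 : act 3 n2468 = n2468 := (sb E11371 (iv D3244))
theorem E12011 : n13031 = n1545 := (((F6726).symm.trans (sb E11382 F54058))).symm
theorem E12013 : n1546 = n1172 := ((D1546).symm.trans (sb E11384 (tr F33199 E11384)))
theorem F68148 : act 3 n8499 = n10867 := (sb E11398 F46288)
theorem E12025 : n18364 = n11080 := (((D11080).symm.trans (sb E11398 (iv F59516)))).symm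
theorem F68149 : act 3 n8502 = n10872 := (sb E11399 F46307)
theorem F68151 : act 0 n2704 = n2704 := (sb E11485 F12268)
theorem E12082 : n4615 = n3533 := ((((iv F12259)).symm.trans (sb E11485 (iv F15816)))).symm
theorem F68152 : act 0 n2698 = n2698 := (sb E11486 F12244)
theorem E12083 : n4617 = n3535 := (((D3535).symm.trans (sb E11486 D4617))).symm
theorem F68155 : act 0 n2699 = n2699 := (sb E11491 F12247)
theorem F68156 : act 1 n4351 = n4351 := (sb E11495 F19341)
theorem E12092 : n7435 = n5691 := ((((iv F19321)).symm.trans (sb E11495 (iv F24926)))).symm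
theorem F68157 : act 1 n4344 = n4344 := (sb E11496 F19312)
theorem E12093 : n7437 = n5693 := (((D5693).symm.trans (sb E11496 D7437))).symm
theorem F68158 : act 1 n4345 = n4345 := (sb E11511 F19315)
theorem F68159 : act 3 n8724 = n10868 := (sb E11528 (iv D14140))
theorem F68160 : act 5 n8724 = n10881 := (sb E11528 F46302)
theorem E12125 : n18120 = n11375 := (((D11375).symm.trans (sb E11528 (iv F58728)))).symm
theorem E12126 : n18372 = n11362 := ((((iv F37414)).symm.trans (sb E11528 D18372))).symm
theorem E12130 : n11366 = n8716 := ((D11366).symm.trans (sb E11531 (tr F46382 E11531)))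
theorem F68163 : act 2 n6675 = n6675 := (sb E11538 (iv D8717))
theorem E12137 : n11367 = n8331 := ((((iv F27880)).symm.trans (sb E11538 D11367))).symm
theorem E12138 : n18369 = n17913 := ((D18369).symm.trans (sb E11539 (iv F58114)))
theorem E12142 : n18956 = n18121 := (((D18121).symm.trans (sb E11540 D18956))).symm
theorem E12144 : n18740 = n18368 := (((D18368).symm.trans (sb E11542 (iv F60632)))).symm
theorem F68164 : act 5 n9674 = n12436 := (sb E11557 F52538)
theorem E12155 : n12600 = n9670 := ((D12600).symm.trans (sb E11569 (tr F53126 E11569)))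
theorem F68165 : act 2 n7422 = n7422 := (sb E11571 (iv D9684))
theorem E12156 : n12619 = n9686 := (((D9686).symm.trans (sb E11571 D12619))).symm
theorem E12157 : n18688 = n18293 := (((D18293).symm.trans (sb E11574 D18688))).symm
theorem F68166 : act 4 n14077 = n11040 := (sb E11574 F46984)
theorem E12158 : n18687 = n18294 := (((D18294).symm.trans (sb E11574 (iv F60470)))).symm
theorem F68167 : act 6 n14077 = n11039 := (sb E11574 (iv D14373))
theorem E12159 : n18689 = n18279 := ((((iv F59254)).symm.trans (sb E11574 D18689))).symm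
theorem E12163 : n19158 = n18893 := ((((iv F61089)).symm.trans (sb E11577 D19158))).symm
theorem F68168 : act 4 n14526 = n11311 := (sb E11577 F48054)
theorem F68169 : act 6 n14082 = n11042 := (sb E11578 (iv D14378))
theorem E12165 : n18678 = n18285 := (((D18285).symm.trans (sb E11579 (iv F60449)))).symm
theorem E12167 : n12570 = n12438 := ((((iv F40791)).symm.trans (sb E11581 (iv F41180)))).symm
theorem F68171 : act 4 n9547 = n7396 := (sb E11581 F31973)
theorem F68172 : act 7 n9647 = n12436 := (sb E11582 (iv D16189))
theorem F68173 : act 2 n9556 = n12410 := (sb E11584 (iv F40707))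
theorem F68174 : act 4 n9556 = n7394 := (sb E11584 (iv D9646))
theorem F68178 : act 7 n16154 = n12603 := (sb E11600 (iv D16406))
theorem F68180 : act 7 n16158 = n12609 := (sb E11601 (iv D16414))
theorem E12171 : n16428 = n16062 := (E11604).trans E11610
theorem F68183 : act 5 n16062 = n12622 := (sb E12171 F53271)
theorem F68185 : act 6 n16001 = n12620 := (sb E11605 (iv D16427))
theorem F68192 : act 2 n16062 = n12420 := (sb E11610 (iv D16166))
theorem E12172 : n16060 = n12341 := (((iv F52132)).symm.trans (sb E11620 (tr F41222 E11620)))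
theorem E12174 : n16356 = n16063 := (((D16063).symm.trans (sb E11620 (iv F53028)))).symm
theorem F68193 : act 4 n9471 = n9471 := (sb E11621 F40481)
theorem E12176 : n16061 = n12342 := (((D12342).symm.trans (sb E11621 D16061))).symm
theorem F68194 : act 4 n9475 = n9475 := (sb E11624 F40499)
theorem E12184 : n12332 = n9464 := (((iv F40457)).symm.trans (sb E11630 (tr F53066 E11630)))
theorem E12185 : n12328 = n9462 := ((D12328).symm.trans (sb E11631 (tr F53106 E11631)))
theorem F68196 : act 4 n7254 = n7254 := (sb E11632 (iv D9463))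
theorem F68197 : act 4 n7259 = n7259 := (sb E11634 (iv D9470))
theorem F68198 : act 5 n16188 = n12607 := (sb E11636 F53052)
theorem F68199 : act 7 n16188 = n12571 := (sb E11636 (iv D16363))
theorem F68200 : act 3 n12436 = n12436 := (sb E11638 F52535)
theorem F68201 : act 4 n16156 = n12603 := (sb E11646 F53039)
theorem F68202 : act 3 n16004 = n12622 := (sb E11649 F67946)
theorem F68203 : act 5 n12298 = n12298 := (sb E11650 (iv D16002))
theorem F68205 : act 4 n7257 = n7257 := (sb E11653 F31422)
theorem F68212 : act 1 n5906 = n7443 := (sb E11674 (iv F24953))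
theorem F68216 : act 6 n16405 = n12607 := (sb E11684 (iv D16411))
theorem E12212 : n18388 = n18359 := ((D18388).symm.trans (sb E11691 (iv F59497)))
theorem E12215 : n19258 = n18141 := (((D18141).symm.trans (sb E11692 D19258))).symm
theorem E12217 : n18407 = n18347 := ((((iv F59451)).symm.trans (sb E11694 D18407))).symm
theorem F68218 : act 1 n14171 = n11368 := (sb E11695 F48211)
theorem F68219 : act 1 n14172 = n11369 := (sb E11696 F48215)
theorem F68222 : act 4 n5554 = n5554 := (sb E11769 (iv D7255))
theorem F68226 : act 7 n390 = n390 := (sb E11814 (iv D521))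
theorem E12283 : n14430 = n14134 := ((((iv F46279)).symm.trans (sb E11816 (iv F47162)))).symm
theorem E12284 : n14157 = n13793 := ((D14157).symm.trans (sb E11816 (iv F45226)))
theorem E12286 : n14429 = n14135 := (((D14135).symm.trans (sb E11817 (iv F47159)))).symm
theorem F68227 : act 6 n10865 = n8499 := (sb E11817 (iv D11081))
theorem F68228 : act 6 n10870 = n8502 := (sb E11820 (iv D11086))
theorem E12439 : n910 = n688 := (((D688).symm.trans (sb E11959 (iv F3377)))).symm
theorem F68229 : act 7 n519 = n519 := (sb E11959 (iv D689))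
theorem F68230 : act 3 n11069 = n14139 := (sb E11972 F59521)
theorem E12442 : n14414 = n11069 := ((D14414).symm.trans (sb E11972 (tr F59523 E11972)))
theorem E12443 : n14415 = n10596 := ((((iv F35129)).symm.trans (sb E11973 D14415))).symm
theorem F68231 : act 6 n8491 = n8491 := (sb E11973 (iv D11070))
theorem F68232 : act 3 n11072 = n14145 := (sb E11974 F59550)
theorem E12444 : n14419 = n11072 := ((D14419).symm.trans (sb E11974 (tr F59553 E11974)))
theorem F68233 : act 6 n8492 = n8492 := (sb E11975 (iv D11073))
theorem E12448 : n14394 = n6246 := (((F27272).symm.trans (sb E11977 (iv F47041)))).symm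
theorem F68234 : act 2 n8487 = n8487 := (sb E11979 F36552)
theorem F68235 : act 6 n8496 = n8496 := (sb E11988 (iv D11077))
theorem E12498 : n2032 = n1545 := ((D2032).symm.trans (sb E12011 (tr F42693 E12011)))
theorem F68238 : act 6 n1172 = n1172 := (sb E12013 (iv D1546))
theorem F68239 : act 3 n11080 = n14137 := (sb E12025 F59514)
theorem F68241 : act 0 n3533 = n3533 := (sb E12082 F15813)
theorem F68242 : act 0 n3535 = n3535 := (sb E12083 F15821)
theorem F68244 : act 1 n5691 = n5691 := (sb E12092 F24924)
theorem F68245 : act 1 n5693 = n5693 := (sb E12093 F24932)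
theorem F68246 : act 3 n11375 = n13944 := (sb E12125 (iv D18120))
theorem F68247 : act 5 n11375 = n13960 := (sb E12125 F58727)
theorem F68248 : act 3 n11362 = n14141 := (sb E12126 F59540)
theorem F68249 : act 5 n11362 = n14155 := (sb E12126 F59541)
theorem F68251 : act 2 n8716 = n8716 := (sb E12130 (iv D11366))
theorem E12603 : n14124 = n10855 := (((D10855).symm.trans (sb E12137 (iv F46240)))).symm
theorem F68252 : act 3 n17913 = n14138 := (sb E12138 (iv D18369))
theorem F68253 : act 3 n18121 = n14811 := (sb E12142 F61259)
theorem F68255 : act 3 n18368 = n14413 := (sb E12144 F60631)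
theorem F68256 : act 2 n9670 = n9670 := (sb E12155 (iv D12600))
theorem E12606 : n16425 = n12622 := (((D12622).symm.trans (sb E12156 D16425))).symm
theorem F68257 : act 4 n18293 = n14374 := (sb E12157 F60472)
theorem F68258 : act 6 n18294 = n14372 := (sb E12158 (iv D18687))
theorem F68259 : act 4 n18279 = n14375 := (sb E12159 F60474)
theorem E12608 : n16360 = n16191 := (((F61088).symm.trans (sb E12163 F61875))).symm
theorem F68260 : act 4 n18893 = n14732 := (sb E12163 F61876)
theorem F68261 : act 4 n18285 = n14366 := (sb E12165 F60448)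
theorem F68262 : act 7 n18285 = n14365 := (sb E12165 (iv D18678))
theorem F68263 : act 4 n12438 = n9647 := (sb E12167 F41181)
theorem F68267 : act 4 n12341 = n12341 := (sb E12172 F52132)
theorem F68268 : act 4 n16063 = n16063 := (sb E12174 (tr F53027 E12174))
theorem F68269 : act 4 n12342 = n12342 := (sb E12176 F52136)
theorem E12609 : n16044 = n12329 := ((((iv F40447)).symm.trans (sb E12184 (iv F52080)))).symm
theorem F68275 : act 4 n9464 = n9464 := (sb E12184 F40457)
theorem F68276 : act 4 n9462 = n9462 := (sb E12185 (iv D12328))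
theorem F68282 : act 5 n18359 = n14154 := (sb E12212 (iv D18388))
theorem F68283 : act 5 n18141 = n14811 := (sb E12215 F62128)
theorem F68285 : act 5 n18347 = n14171 := (sb E12217 F59662)
theorem E12686 : n18363 = n17917 := ((D18363).symm.trans (sb E12283 (iv F58130)))
theorem F68294 : act 6 n13793 = n10884 := (sb E12284 (iv D14157))
theorem E12688 : n18392 = n17919 := (((D17919).symm.trans (sb E12284 D18392))).symm
theorem F68295 : act 6 n14135 = n11080 := (sb E12286 (iv D14429))
theorem E12818 : n1200 = n909 := (((D909).symm.trans (sb E12439 (iv F4388)))).symm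
theorem F68296 : act 7 n688 = n688 := (sb E12439 (iv D910))
theorem E12822 : n18742 = n14413 := (((D14413).symm.trans (sb E12442 (iv F60640)))).symm
theorem F68297 : act 6 n11069 = n11069 := (sb E12442 (iv D14414))
theorem E12825 : n17902 = n13781 := (((D13781).symm.trans (sb E12443 (iv F58079)))).symm
theorem F68298 : act 6 n11072 = n11072 := (sb E12444 (iv D14419))
theorem E12832 : n17881 = n8138 := (((D8138).symm.trans (sb E12448 (iv F58003)))).symm
theorem F68305 : act 6 n1545 = n1545 := (sb E12498 (iv D2032))
theorem F68309 : act 3 n10855 = n10855 := (sb E12603 (iv D14124))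
theorem E12970 : n18083 = n13915 := ((((iv F45581)).symm.trans (sb E12603 (iv F58615)))).symm
theorem F68310 : act 6 n12622 = n12622 := (sb E12606 F53261)
theorem F68311 : act 4 n16191 = n12571 := (sb E12608 F53042)
theorem F68312 : act 4 n12329 = n12329 := (sb E12609 F52081)
theorem F68323 : act 6 n17917 = n14134 := (sb E12686 (iv D18363))
theorem F68324 : act 6 n17919 = n17919 := (sb E12688 (tr F59604 E12688))
theorem E13172 : n1580 = n1199 := (((D1199).symm.trans (sb E12818 (iv F5696)))).symm
theorem F68325 : act 7 n909 = n909 := (sb E12818 (iv D1200))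
theorem F68326 : act 6 n14413 = n14413 := (sb E12822 (iv D18742))
theorem F68327 : act 2 n13781 = n13781 := (sb E12825 (iv D17902))
theorem E13179 : n13767 = n10588 := ((((iv F35099)).symm.trans (sb E12832 (iv D17881)))).symm
theorem F68343 : act 3 n13915 = n13915 := (sb E12970 (iv D18083))
theorem F68353 : act 7 n1199 = n1199 := (sb E13172 (iv D1580))
theorem E13440 : n17883 = n13770 := (((D13770).symm.trans (sb E13179 D17883))).symm
theorem F68372 : act 0 n13770 = n13770 := (sb E13440 F58010)
theorem F68410 : act 0 n17888 = n17888 := d6_3 (iv D17888) F68372 D17888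
theorem F68411 : act 1 n17894 = n17894 := d0_4 (iv F58029) F68410 F58029 (iv F58050) F58050
theorem F68412 : act 2 n17903 = n17903 := d7_4 (iv F58051) F68411 F58051 (iv F58081) F58081
theorem F68413 : act 3 n18084 = n18084 := d13_4 (iv F58082) F68412 F58082 (iv F58618) F58618
theorem F68432 : act 4 n18351 = n18351 := d18_4 F46236 F68309 (iv F46236) D18351 (iv D18351)
theorem E14291 : n15990 = n4794 := (c28_87 (iv F28370) F68233 F28369 (iv D6509) (iv D4982) F13181 (iv D2922) (iv D2224) (iv D1690) F4685 (iv D966) F2746 (iv F2757) F2756 (iv F2823) F2822 F2185 F2186 (iv D427) F1246 F1007 (iv D255) (iv D186) F560 D156 F637 F504 D166 D223 D299 (iv F1524) F67669 (iv D393) F1147 F882 F673 F676 (iv D165) F501 F372 F282 F215 (iv F269) (iv F323) (iv F436) (iv D104) F321 (iv D74) F234 (iv F308) D98 F416 D135 F560 D157 D214 D288 (iv F1477) D511 (iv F2554) (iv F3312) F67567 F3313 F2542 (iv F3057) (iv F3994) D1434 (iv F6786) F6785 F5300 (iv F5338) (iv F6950) (iv F8302) D3083 (iv F13895) F13896 F10722 F10721 F67133 (iv F13454) (iv F17401) (iv F22456) D8699 F28977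 (iv F67939) (iv F40345) (iv F51905) (iv F21193) F21194 (iv F22012))
theorem E14292 : n12297 = n6254 := ((((iv F21197)).symm.trans (sb E14291 F51905))).symm
theorem E14293 : n18618 = n6239 := ((((iv F21141)).symm.trans (sb E14291 (iv F60285)))).symm
theorem E14294 : n12327 = n6256 := (((D6256).symm.trans (sb E14291 F51906))).symm
theorem E14296 : n15996 = n8147 := ((((iv F27307)).symm.trans (sb E14292 (iv F51926)))).symm
theorem E14297 : n9531 = n8150 := (((D8150).symm.trans (sb E14292 F40345))).symm
theorem E14298 : n16000 = n4793 := ((((iv D6254)).symm.trans (sb E14292 (iv F51941)))).symm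
theorem E14299 : n9469 = n8151 := (((D8151).symm.trans (sb E14292 F40346))).symm
theorem E14300 : n9447 = n8152 := (((D8152).symm.trans (sb E14292 F40347))).symm
theorem E14302 : n14330 = n8128 := ((((iv F27241)).symm.trans (sb E14293 F60284))).symm
theorem E14303 : n14360 = n8130 := (((D8130).symm.trans (sb E14293 F60286))).symm
theorem E14304 : n14321 = n8124 := ((((iv F27231)).symm.trans (sb E14293 (iv D18618)))).symm
theorem E14305 : n16037 = n8149 := ((((iv F27313)).symm.trans (sb E14294 (iv F52059)))).symm
theorem E14307 : n9460 = n8145 := ((((iv F27302)).symm.trans (sb E14294 (iv D12327)))).symm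
theorem E14312 : n12415 = n10606 := (((D10606).symm.trans (sb E14296 F51927))).symm
theorem E14313 : n12333 = n10607 := (((D10607).symm.trans (sb E14296 F51928))).symm
theorem E14314 : n12303 = n10608 := (((D10608).symm.trans (sb E14296 F51929))).symm
theorem E14315 : n12292 = n10597 := ((((iv F35135)).symm.trans (sb E14296 (iv D15996)))).symm
theorem E14316 : n11140 = n10578 := ((((iv F35066)).symm.trans (sb E14297 (iv F36793)))).symm
theorem E14317 : n7420 = n6306 := (((F27318).symm.trans (sb E14297 F67939))).symm
theorem E14318 : n10610 = n7319 := ((D10610).symm.trans (sb E14297 F31624))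
theorem E14319 : n10611 = n7311 := ((D10611).symm.trans (sb E14297 F31625))
theorem E14320 : n10600 = n7302 := (((iv F35145)).symm.trans (sb E14297 (iv D9531)))
theorem E14321 : n12613 = n3693 := (((F16433).symm.trans (sb E14298 F67947))).symm
theorem E14322 : n12307 = n6255 := (((D6255).symm.trans (sb E14298 F51942))).symm
theorem E14323 : n12296 = n6249 := ((((iv F21183)).symm.trans (sb E14298 (iv D16000)))).symm
theorem E14324 : n10612 = n7266 := ((D10612).symm.trans (sb E14299 F31425))
theorem E14325 : n10601 = n7257 := (((iv F35149)).symm.trans (sb E14299 (iv D9469)))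
theorem E14326 : n10613 = n7242 := ((D10613).symm.trans (sb E14300 (iv D9447)))
theorem E14328 : n18624 = n10575 := ((((iv F35057)).symm.trans (sb E14302 (iv F60303)))).symm
theorem E14329 : n18544 = n10540 := ((((iv F34946)).symm.trans (sb E14302 (iv F60085)))).symm
theorem E14330 : n18628 = n6238 := ((((iv D8128)).symm.trans (sb E14302 (iv F60314)))).symm
theorem E14331 : n11038 = n10579 := (((D10579).symm.trans (sb E14302 F46875))).symm
theorem E14332 : n11016 = n10580 := (((D10580).symm.trans (sb E14302 F46876))).symm
theorem E14334 : n18665 = n10577 := ((((iv F35062)).symm.trans (sb E14303 (iv F60414)))).symm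
theorem E14335 : n18659 = n6240 := (((F27244).symm.trans (sb E14303 (iv F60397)))).symm
theorem E14339 : n18609 = n6236 := (((F27229).symm.trans (sb E14304 (iv F60255)))).symm
theorem E14342 : n12322 = n10599 := ((((iv F35142)).symm.trans (sb E14305 (iv D16037)))).symm
theorem E14344 : n10595 = n7251 := (((iv F35126)).symm.trans (sb E14307 (iv D9460)))
theorem E14349 : n16156 = n13790 := ((((iv F45213)).symm.trans (sb E14312 (iv F52438)))).symm
theorem E14350 : n14503 = n13752 := ((((iv F45087)).symm.trans (sb E14312 (iv F47383)))).symm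
theorem E14351 : n9677 = n8220 := (((F35164).symm.trans (sb E14312 F68083))).symm
theorem E14352 : n13795 = n9547 := ((D13795).symm.trans (sb E14312 F40722))
theorem E14353 : n13796 = n9537 := ((D13796).symm.trans (sb E14312 F40723))
theorem E14354 : n13782 = n9526 := (((iv F45189)).symm.trans (sb E14312 (iv D12415)))
theorem E14355 : n16046 = n13791 := ((((iv F45216)).symm.trans (sb E14313 (iv F52085)))).symm
theorem E14356 : n13797 = n9475 := ((D13797).symm.trans (sb E14313 F40460))
theorem E14357 : n13783 = n9464 := (((iv F45193)).symm.trans (sb E14313 (iv D12333)))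
theorem E14358 : n16005 = n13792 := ((((iv F45220)).symm.trans (sb E14314 (iv F51958)))).symm
theorem E14359 : n16009 = n8148 := (((F35170).symm.trans (sb E14314 (iv F51973)))).symm
theorem E14360 : n13798 = n9442 := ((D13798).symm.trans (sb E14314 (iv D12303)))
theorem E14361 : n15992 = n13780 := ((((iv F45180)).symm.trans (sb E14315 (iv F51913)))).symm
theorem E14362 : n15995 = n8141 := ((((iv D10597)).symm.trans (sb E14315 (iv F51925)))).symm
theorem E14364 : n14463 = n13701 := ((((iv F44933)).symm.trans (sb E14316 (iv F47269)))).symm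
theorem E14365 : n8699 = n8206 := (((F35067).symm.trans (sb E14316 (iv F67872)))).symm
theorem E14366 : n13756 = n8558 := ((D13756).symm.trans (sb E14316 F36794))
theorem E14367 : n13757 = n8550 := ((D13757).symm.trans (sb E14316 F36795))
theorem E14368 : n13746 = n8541 := (((iv F45076)).symm.trans (sb E14316 (iv D11140)))
theorem E14369 : n9680 = n4831 := ((((iv D6306)).symm.trans (sb E14317 (iv F32069)))).symm
theorem E14370 : n8224 = n5677 := ((D8224).symm.trans (sb E14317 F24879))
theorem E14371 : n8225 = n5676 := ((D8225).symm.trans (sb E14317 (iv D7420)))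
theorem E14372 : n9530 = n8214 := ((((iv F27518)).symm.trans (sb E14317 (iv F67911)))).symm
theorem F68439 : act 3 n7319 = n8151 := (sb E14318 F35176)
theorem F68440 : act 5 n7319 = n8150 := (sb E14318 (iv D10610))
theorem F68441 : act 3 n7311 = n8152 := (sb E14319 F35178)
theorem F68442 : act 6 n7311 = n8150 := (sb E14319 (iv D10611))
theorem F68443 : act 3 n7302 = n8143 := (sb E14320 (iv D10600))
theorem F68444 : act 7 n7302 = n8150 := (sb E14320 F35145)
theorem E14381 : n9679 = n4832 := (((D4832).symm.trans (sb E14321 (iv D12613)))).symm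
theorem E14383 : n9446 = n8153 := (((D8153).symm.trans (sb E14322 (iv D12307)))).symm
theorem E14384 : n9437 = n8144 := (((D8144).symm.trans (sb E14323 (iv D12296)))).symm
theorem F68445 : act 5 n7266 = n8152 := (sb E14324 F35183)
theorem F68446 : act 6 n7266 = n8151 := (sb E14324 (iv D10612))
theorem F68447 : act 2 n7257 = n8145 := (sb E14325 F35147)
theorem F68448 : act 5 n7257 = n8143 := (sb E14325 (iv D10601))
theorem F68449 : act 7 n7257 = n8151 := (sb E14325 F35149)
theorem F68450 : act 7 n7242 = n8152 := (sb E14326 (iv D10613))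
theorem E14389 : n14366 = n13753 := (((D13753).symm.trans (sb E14328 F60305))).symm
theorem E14390 : n14336 = n13754 := (((D13754).symm.trans (sb E14328 F60306))).symm
theorem E14391 : n14325 = n13743 := ((((iv F45067)).symm.trans (sb E14328 (iv D18624)))).symm
theorem E14392 : n14298 = n13702 := (((D13702).symm.trans (sb E14329 F60087))).symm
theorem E14393 : n14276 = n13703 := (((D13703).symm.trans (sb E14329 F60088))).symm
theorem E14394 : n14267 = n13694 := ((((iv F44917)).symm.trans (sb E14329 (iv D18544)))).symm
theorem E14395 : n14774 = n4822 := (((F21139).symm.trans (sb E14330 F68096))).symm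
theorem E14396 : n14340 = n8129 := (((D8129).symm.trans (sb E14330 F60315))).symm
theorem E14397 : n14329 = n8123 := ((((iv F27228)).symm.trans (sb E14330 (iv D18628)))).symm
theorem E14399 : n13758 = n8476 := ((D13758).symm.trans (sb E14331 F36483))
theorem E14400 : n13747 = n8467 := (((iv F45078)).symm.trans (sb E14331 (iv D11038)))
theorem E14401 : n13759 = n8452 := ((D13759).symm.trans (sb E14332 (iv D11016)))
theorem E14403 : n14355 = n13745 := ((((iv F45073)).symm.trans (sb E14334 (iv D18665)))).symm
theorem E14404 : n14351 = n8125 := ((((iv F27234)).symm.trans (sb E14335 (iv D18659)))).symm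
theorem E14408 : n14315 = n8121 := ((((iv F27222)).symm.trans (sb E14339 (iv D18609)))).symm
theorem E14412 : n13775 = n9457 := (((iv F45166)).symm.trans (sb E14342 (iv D12322)))
theorem F68453 : act 6 n7251 = n8145 := (sb E14344 F35126)
theorem E14426 : n12603 = n10703 := (((F45214).symm.trans (sb E14349 F68201))).symm
theorem E14427 : n17914 = n12438 := ((D17914).symm.trans (sb E14349 F52439))
theorem E14428 : n17915 = n12424 := ((D17915).symm.trans (sb E14349 F52440))
theorem E14429 : n17899 = n12411 := (((iv F58068)).symm.trans (sb E14349 (iv D16156)))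
theorem E14430 : n18858 = n17858 := ((((iv F57936)).symm.trans (sb E14350 (iv F60994)))).symm
theorem E14431 : n11341 = n10685 := (((F45088).symm.trans (sb E14350 F67923))).symm
theorem E14432 : n17863 = n11156 := ((D17863).symm.trans (sb E14350 F47384))
theorem E14433 : n17864 = n11146 := ((D17864).symm.trans (sb E14350 F47385))
theorem E14434 : n17850 = n11135 := (((iv F57919)).symm.trans (sb E14350 (iv D14503)))
theorem E14435 : n12609 = n6303 := ((((iv D8220)).symm.trans (sb E14351 (iv F41313)))).symm
theorem E14436 : n10707 = n7416 := ((D10707).symm.trans (sb E14351 F32060))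
theorem E14437 : n10708 = n7415 := ((D10708).symm.trans (sb E14351 (iv D9677)))
theorem E14438 : n12414 = n10695 := ((((iv F35430)).symm.trans (sb E14351 (iv F68040)))).symm
theorem F68455 : act 3 n9547 = n10607 := (sb E14352 F45232)
theorem F68456 : act 5 n9547 = n10606 := (sb E14352 (iv D13795))
theorem F68457 : act 3 n9537 = n10608 := (sb E14353 F45234)
theorem F68458 : act 6 n9537 = n10606 := (sb E14353 (iv D13796))
theorem F68459 : act 3 n9526 = n10597 := (sb E14354 (iv D13782))
theorem F68460 : act 7 n9526 = n10606 := (sb E14354 F45189)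
theorem E14445 : n17916 = n12342 := ((D17916).symm.trans (sb E14355 F52087))
theorem E14446 : n17900 = n12329 := (((iv F58073)).symm.trans (sb E14355 (iv D16046)))
theorem F68461 : act 5 n9475 = n10608 := (sb E14356 F45239)
theorem F68462 : act 6 n9475 = n10607 := (sb E14356 (iv D13797))
theorem F68463 : act 2 n9464 = n10599 := (sb E14357 F45191)
theorem F68464 : act 5 n9464 = n10597 := (sb E14357 (iv D13783))
theorem F68465 : act 7 n9464 = n10607 := (sb E14357 F45193)
theorem E14449 : n17918 = n12299 := ((D17918).symm.trans (sb E14358 (iv D16005)))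
theorem E14450 : n12608 = n6304 := (((F27311).symm.trans (sb E14359 F68108))).symm
theorem E14451 : n12302 = n10609 := (((D10609).symm.trans (sb E14359 (iv D16009)))).symm
theorem F68466 : act 7 n9442 = n10608 := (sb E14360 (iv D13798))
theorem E14453 : n17901 = n12290 := ((D17901).symm.trans (sb E14361 (iv D15992)))
theorem E14454 : n12291 = n10598 := (((D10598).symm.trans (sb E14362 (iv D15995)))).symm
theorem E14456 : n18803 = n17788 := ((((iv F57729)).symm.trans (sb E14364 (iv F60832)))).symm
theorem E14457 : n11294 = n10658 := (((F44935).symm.trans (sb E14364 (iv F67786)))).symm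
theorem E14460 : n17782 = n11105 := (((iv F57714)).symm.trans (sb E14364 (iv D14463)))
theorem E14461 : n11344 = n6294 := ((((iv D8206)).symm.trans (sb E14365 (iv F37373)))).symm
theorem E14462 : n10689 = n6662 := ((D10689).symm.trans (sb E14365 F28978))
theorem E14463 : n10690 = n6661 := ((D10690).symm.trans (sb E14365 (iv D8699)))
theorem E14464 : n11139 = n10679 := ((((iv F35396)).symm.trans (sb E14365 F67873))).symm
theorem F68468 : act 3 n8558 = n10579 := (sb E14366 F45098)
theorem F68469 : act 5 n8558 = n10578 := (sb E14366 (iv D13756))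
theorem F68470 : act 3 n8550 = n10580 := (sb E14367 F45099)
theorem F68471 : act 6 n8550 = n10578 := (sb E14367 (iv D13757))
theorem F68473 : act 7 n8541 = n10578 := (sb E14368 F45076)
theorem E14471 : n12614 = n3694 := (((F16563).symm.trans (sb E14369 D12614))).symm
theorem E14472 : n7419 = n6307 := (((D6307).symm.trans (sb E14369 F32070))).symm
theorem E14473 : n7418 = n6308 := (((D6308).symm.trans (sb E14369 (iv D9680)))).symm
theorem E14474 : n12417 = n6299 := ((((iv F21345)).symm.trans (sb E14369 (iv F68052)))).symm
theorem F68474 : act 5 n5677 = n6306 := (sb E14370 (iv D8224))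
theorem E14477 : n10699 = n7421 := (((D7421).symm.trans (sb E14370 (iv F35444)))).symm
theorem F68475 : act 6 n5676 = n6306 := (sb E14371 (iv D8225))
theorem F68476 : act 4 n8214 = n7302 := (sb E14372 F31622)
theorem E14480 : n10700 = n7301 := ((D10700).symm.trans (sb E14372 (iv D9530)))
theorem E14492 : n7431 = n6309 := (((D6309).symm.trans (sb E14381 F32067))).symm
theorem F68477 : act 4 n8153 = n7242 := (sb E14383 F31349)
theorem E14494 : n10603 = n7241 := (((iv F35155)).symm.trans (sb E14383 (iv D9446)))
theorem E14495 : n10594 = n7237 := (((iv F35121)).symm.trans (sb E14384 F31317))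
theorem F68478 : act 4 n8144 = n7236 := (sb E14384 (iv D9437))
theorem E14501 : n18674 = n17859 := ((((iv F57938)).symm.trans (sb E14389 (iv F60435)))).symm
theorem E14502 : n18285 = n17821 := ((((iv F57834)).symm.trans (sb E14389 (iv F68261)))).symm
theorem E14503 : n17865 = n11044 := ((D17865).symm.trans (sb E14389 F46971))
theorem E14504 : n17851 = n11033 := (((iv F57922)).symm.trans (sb E14389 (iv D14366)))
theorem E14505 : n18633 = n17860 := ((((iv F57940)).symm.trans (sb E14390 (iv F60324)))).symm
theorem E14506 : n18637 = n10576 := (((F45093).symm.trans (sb E14390 (iv F60339)))).symm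
theorem E14507 : n17866 = n11011 := ((D17866).symm.trans (sb E14390 (iv D14336)))
theorem E14508 : n18620 = n17848 := ((((iv F57911)).symm.trans (sb E14391 (iv F60290)))).symm
theorem E14509 : n18623 = n10569 := ((((iv D13743)).symm.trans (sb E14391 (iv F60302)))).symm
theorem E14511 : n18580 = n17789 := ((((iv F57732)).symm.trans (sb E14392 (iv F60175)))).symm
theorem E14512 : n18574 = n10542 := (((F44937).symm.trans (sb E14392 (iv F60158)))).symm
theorem E14518 : n18554 = n10541 := (((F44939).symm.trans (sb E14393 (iv F60114)))).symm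
theorem E14520 : n18539 = n17779 := ((((iv F57702)).symm.trans (sb E14394 (iv F60070)))).symm
theorem E14521 : n18535 = n10536 := (((F44916).symm.trans (sb E14394 (iv F60057)))).symm
theorem E14522 : n18543 = n10535 := ((((iv D13694)).symm.trans (sb E14394 (iv F60084)))).symm
theorem E14526 : n19215 = n3687 := ((((iv D4822)).symm.trans (sb E14395 D19215))).symm
theorem E14527 : n18324 = n6285 := ((((iv F21305)).symm.trans (sb E14395 (iv F59389)))).symm
theorem E14528 : n11343 = n6295 := (((D6295).symm.trans (sb E14395 (iv D14774)))).symm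
theorem E14530 : n18288 = n10557 := ((((iv F35006)).symm.trans (sb E14396 (iv F68095)))).symm
theorem E14531 : n11015 = n10581 := (((D10581).symm.trans (sb E14396 (iv D14340)))).symm
theorem E14532 : n18627 = n10551 := ((((iv F34987)).symm.trans (sb E14397 (iv F60313)))).symm
theorem F68479 : act 5 n8476 = n10580 := (sb E14399 F45102)
theorem F68480 : act 6 n8476 = n10579 := (sb E14399 (iv D13758))
theorem F68481 : act 2 n8467 = n10573 := (sb E14400 F45077)
theorem F68482 : act 5 n8467 = n10571 := (sb E14400 (iv D13747))
theorem F68483 : act 7 n8467 = n10579 := (sb E14400 F45078)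
theorem F68484 : act 7 n8452 = n10580 := (sb E14401 (iv D13759))
theorem E14542 : n18661 = n11034 := (((F45071).symm.trans (sb E14403 (iv F60402)))).symm
theorem E14545 : n18654 = n6492 := (((F27232).symm.trans (sb E14404 (iv F60385)))).symm
theorem E14546 : n18565 = n10537 := ((((iv F34938)).symm.trans (sb E14404 (iv F60140)))).symm
theorem E14548 : n11023 = n10568 := ((((iv F35040)).symm.trans (sb E14404 (iv D14351)))).symm
theorem E14555 : n18606 = n6488 := (((F27220).symm.trans (sb E14408 (iv F60246)))).symm
theorem F68490 : act 6 n9457 = n10599 := (sb E14412 F45166)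
theorem E14577 : n16405 = n13926 := (((D13926).symm.trans (sb E14426 D16405))).symm
theorem E14578 : n16402 = n8218 := ((((iv D10703)).symm.trans (sb E14426 (iv F53189)))).symm
theorem E14579 : n13927 = n9672 := ((D13927).symm.trans (sb E14426 F41297))
theorem E14580 : n13928 = n9671 := ((D13928).symm.trans (sb E14426 (iv D12603)))
theorem E14581 : n16154 = n13912 := ((((iv F45569)).symm.trans (sb E14426 (iv F68178)))).symm
theorem F68494 : act 3 n12438 = n13791 := (sb E14427 F58118)
theorem F68495 : act 5 n12438 = n13790 := (sb E14427 (iv D17914))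
theorem F68496 : act 3 n12424 = n13792 := (sb E14428 F58121)
theorem F68497 : act 6 n12424 = n13790 := (sb E14428 (iv D17915))
theorem F68498 : act 3 n12411 = n13780 := (sb E14429 (iv D17899))
theorem F68499 : act 7 n12411 = n13790 := (sb E14429 F58068)
theorem E14582 : n14764 = n13898 := (((F57937).symm.trans (sb E14430 F68079))).symm
theorem F68500 : act 5 n17858 = n14526 := (sb E14430 F60995)
theorem F68501 : act 6 n17858 = n14512 := (sb E14430 F60996)
theorem F68502 : act 7 n17858 = n14499 := (sb E14430 (iv D18858))
theorem E14583 : n14770 = n8203 := ((((iv D10685)).symm.trans (sb E14431 (iv F48151)))).symm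
theorem E14584 : n13903 = n8695 := ((D13903).symm.trans (sb E14431 F37366))
theorem E14585 : n13904 = n8694 := ((D13904).symm.trans (sb E14431 (iv D11341)))
theorem E14586 : n14502 = n13890 := ((((iv F45521)).symm.trans (sb E14431 (iv F67901)))).symm
theorem F68503 : act 3 n11156 = n13753 := (sb E14432 F57948)
theorem F68504 : act 5 n11156 = n13752 := (sb E14432 (iv D17863))
theorem F68505 : act 3 n11146 = n13754 := (sb E14433 F57950)
theorem F68506 : act 6 n11146 = n13752 := (sb E14433 (iv D17864))
theorem F68508 : act 7 n11135 = n13752 := (sb E14434 F57919)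
theorem E14587 : n16413 = n4830 := (((F21357).symm.trans (sb E14435 D16413))).symm
theorem E14588 : n9676 = n8221 := (((D8221).symm.trans (sb E14435 F41314))).symm
theorem E14589 : n9675 = n8222 := (((D8222).symm.trans (sb E14435 (iv D12609)))).symm
theorem E14590 : n16158 = n8211 := ((((iv F27508)).symm.trans (sb E14435 (iv F68180)))).symm
theorem F68509 : act 5 n7416 = n8220 := (sb E14436 (iv D10707))
theorem E14593 : n13917 = n9678 := (((D9678).symm.trans (sb E14436 (iv F45588)))).symm
theorem F68510 : act 6 n7415 = n8220 := (sb E14437 (iv D10708))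
theorem F68511 : act 4 n10695 = n9526 := (sb E14438 F40720)
theorem E14596 : n13918 = n9525 := ((D13918).symm.trans (sb E14438 (iv D12414)))
theorem F68512 : act 5 n12342 = n13792 := (sb E14445 F58126)
theorem F68513 : act 6 n12342 = n13791 := (sb E14445 (iv D17916))
theorem E14597 : n16045 = n14413 := ((D16045).symm.trans (sb E14446 F58071))
theorem F68514 : act 5 n12329 = n13780 := (sb E14446 (iv D17900))
theorem F68515 : act 7 n12329 = n13791 := (sb E14446 F58073)
theorem E14598 : n16003 = n13794 := (((iv F51952)).symm.trans (sb E14449 F58133))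
theorem F68516 : act 7 n12299 = n13792 := (sb E14449 (iv D17918))
theorem E14601 : n9692 = n8223 := (((D8223).symm.trans (sb E14450 F41311))).symm
theorem F68517 : act 4 n10609 = n9442 := (sb E14451 F40363)
theorem E14602 : n13785 = n9441 := (((iv F45199)).symm.trans (sb E14451 (iv D12302)))
theorem E14603 : n15991 = n13781 := ((D15991).symm.trans (sb E14453 F58076))
theorem E14604 : n13774 = n9436 := (((iv F45160)).symm.trans (sb E14454 F40324))
theorem F68519 : act 4 n10598 = n9435 := (sb E14454 (iv D12291))
theorem E14606 : n14705 = n13862 := (((F57731).symm.trans (sb E14456 F67800))).symm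
theorem F68522 : act 7 n17788 = n14458 := (sb E14456 (iv D18803))
theorem E14607 : n14708 = n8185 := ((((iv D10658)).symm.trans (sb E14457 (iv F47990)))).symm
theorem E14608 : n13866 = n8661 := ((D13866).symm.trans (sb E14457 F37250))
theorem E14609 : n13867 = n8660 := ((D13867).symm.trans (sb E14457 (iv D11294)))
theorem E14610 : n14462 = n13856 := ((((iv F45434)).symm.trans (sb E14457 F67787))).symm
theorem F68527 : act 3 n11105 = n13694 := (sb E14460 (iv D17782))
theorem F68528 : act 7 n11105 = n13701 := (sb E14460 F57714)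
theorem E14611 : n14775 = n4823 := (((F21331).symm.trans (sb E14461 D14775))).symm
theorem E14612 : n8698 = n8207 := (((D8207).symm.trans (sb E14461 F37374))).symm
theorem E14613 : n8697 = n8208 := (((D8208).symm.trans (sb E14461 (iv D11344)))).symm
theorem F68529 : act 5 n6662 = n8206 := (sb E14462 (iv D10689))
theorem E14617 : n13894 = n8700 := (((D8700).symm.trans (sb E14462 (iv F45533)))).symm
theorem F68530 : act 6 n6661 = n8206 := (sb E14463 (iv D10690))
theorem F68531 : act 4 n10679 = n8541 := (sb E14464 F36792)
theorem E14620 : n13895 = n8540 := ((D13895).symm.trans (sb E14464 (iv D11139)))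
theorem E14622 : n9681 = n4833 := (((D4833).symm.trans (sb E14471 F41328))).symm
theorem E14623 : n9708 = n2829 := (((F12825).symm.trans (sb E14471 F41329))).symm
theorem F68532 : act 3 n6307 = n5677 := (sb E14472 F24876)
theorem E14625 : n8226 = n5675 := ((D8226).symm.trans (sb E14472 (iv D7419)))
theorem E14626 : n9682 = n8215 := ((((iv F27522)).symm.trans (sb E14472 D9682))).symm
theorem E14627 : n5694 = n4848 := (((F21370).symm.trans (sb E14473 F24872))).symm
theorem F68533 : act 3 n6308 = n5676 := (sb E14473 F24873)
theorem E14628 : n8227 = n5685 := ((D8227).symm.trans (sb E14473 F24874))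
theorem E14629 : n9528 = n8216 := (((D8216).symm.trans (sb E14474 (iv D12417)))).symm
theorem F68534 : act 5 n7421 = n8214 := (sb E14477 (iv D10699))
theorem F68535 : act 6 n7301 = n8214 := (sb E14480 (iv D10700))
theorem E14646 : n9444 = n8217 := ((((iv F27529)).symm.trans (sb E14492 (iv F67913)))).symm
theorem F68536 : act 6 n7241 = n8153 := (sb E14494 F35155)
theorem F68537 : act 7 n7241 = n8144 := (sb E14494 (iv D10603))
theorem F68538 : act 2 n7237 = n8144 := (sb E14495 F35121)
theorem F68540 : act 3 n17859 = n14526 := (sb E14501 F60436)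
theorem F68541 : act 6 n17859 = n14375 := (sb E14501 F60437)
theorem F68542 : act 7 n17859 = n14362 := (sb E14501 (iv D18674))
theorem F68544 : act 6 n17821 = n14069 := (sb E14502 (iv D18285))
theorem F68545 : act 7 n17821 = n14365 := (sb E14502 F68262)
theorem F68546 : act 5 n11044 = n13754 := (sb E14503 F57954)
theorem F68547 : act 6 n11044 = n13753 := (sb E14503 (iv D17865))
theorem F68548 : act 2 n11033 = n13745 := (sb E14504 F57921)
theorem F68549 : act 5 n11033 = n13743 := (sb E14504 (iv D17851))
theorem F68550 : act 7 n11033 = n13753 := (sb E14504 F57922)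
theorem F68551 : act 3 n17860 = n14512 := (sb E14505 F60325)
theorem F68552 : act 5 n17860 = n14375 := (sb E14505 F60326)
theorem F68553 : act 7 n17860 = n14332 := (sb E14505 (iv D18633))
theorem E14649 : n14769 = n8204 := (((F35061).symm.trans (sb E14506 F68082))).symm
theorem E14650 : n14335 = n13755 := (((D13755).symm.trans (sb E14506 (iv D18637)))).symm
theorem F68554 : act 7 n11011 = n13754 := (sb E14507 (iv D17866))
theorem F68556 : act 5 n17848 = n14362 := (sb E14508 F60292)
theorem E14651 : n14324 = n13744 := (((D13744).symm.trans (sb E14509 (iv D18623)))).symm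
theorem F68560 : act 6 n17789 = n14304 := (sb E14511 F60177)
theorem F68561 : act 7 n17789 = n14293 := (sb E14511 (iv D18580))
theorem E14652 : n14289 = n13696 := ((((iv F44922)).symm.trans (sb E14512 (iv D18574)))).symm
theorem E14653 : n14707 = n8186 := (((F34949).symm.trans (sb E14518 F67794))).symm
theorem E14654 : n14275 = n13704 := (((D13704).symm.trans (sb E14518 (iv D18554)))).symm
theorem F68576 : act 3 n17779 = n14458 := (sb E14520 F60071)
theorem E14655 : n14261 = n13690 := ((((iv F44904)).symm.trans (sb E14521 (iv D18535)))).symm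
theorem E14656 : n14266 = n13695 := (((D13695).symm.trans (sb E14522 (iv D18543)))).symm
theorem E14657 : n14806 = n2825 := (((F12802).symm.trans (sb E14526 F62016))).symm
theorem E14658 : n14101 = n8194 := (((D8194).symm.trans (sb E14527 F59388))).symm
theorem E14661 : n8710 = n8209 := (((D8209).symm.trans (sb E14528 F37372))).symm
theorem E14663 : n14073 = n13726 := ((((iv F45014)).symm.trans (sb E14530 (iv D18288)))).symm
theorem E14664 : n14086 = n13727 := (((D13727).symm.trans (sb E14530 F59284))).symm
theorem F68580 : act 4 n10581 = n8452 := (sb E14531 F36424)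
theorem E14665 : n13749 = n8451 := (((iv F45081)).symm.trans (sb E14531 (iv D11015)))
theorem E14666 : n14369 = n13717 := (((D13717).symm.trans (sb E14532 F60312))).symm
theorem E14670 : n14356 = n14353 := (((iv F46944)).symm.trans (sb E14542 (iv D18661)))
theorem E14671 : n14348 = n8463 := ((((iv F28285)).symm.trans (sb E14545 (iv D18654)))).symm
theorem E14672 : n14283 = n13691 := ((((iv F44907)).symm.trans (sb E14546 (iv D18565)))).symm
theorem F68590 : act 1 n10568 = n8461 := (sb E14548 F36444)
theorem E14674 : n13736 = n8458 := (((iv F45044)).symm.trans (sb E14548 (iv D11023)))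
theorem E14677 : n14314 = n8459 := ((((iv F28273)).symm.trans (sb E14555 (iv D18606)))).symm
theorem E14694 : n19203 = n18059 := ((((iv F58550)).symm.trans (sb E14577 (iv F61985)))).symm
theorem E14695 : n18095 = n12604 := ((D18095).symm.trans (sb E14577 F53199))
theorem E14696 : n18096 = n12607 := ((D18096).symm.trans (sb E14577 F68216))
theorem E14697 : n12602 = n10704 := (((D10704).symm.trans (sb E14578 F53190))).symm
theorem E14698 : n12601 = n10705 := (((D10705).symm.trans (sb E14578 (iv D16402)))).symm
theorem F68601 : act 5 n9672 = n10703 := (sb E14579 (iv D13927))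
theorem E14701 : n18078 = n12605 := (((D12605).symm.trans (sb E14579 (iv F58596)))).symm
theorem F68602 : act 6 n9671 = n10703 := (sb E14580 (iv D13928))
theorem F68603 : act 4 n13912 = n12411 := (sb E14581 F52433)
theorem E14704 : n18079 = n12410 := ((D18079).symm.trans (sb E14581 (iv D16154)))
theorem E14705 : n19117 = n18007 := ((((iv F58417)).symm.trans (sb E14582 (iv F61759)))).symm
theorem E14706 : n19200 = n10683 := ((((iv D13898)).symm.trans (sb E14582 (iv F61980)))).symm
theorem E14707 : n18060 = n11336 := ((D18060).symm.trans (sb E14582 F48138))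
theorem E14708 : n18061 = n11335 := ((D18061).symm.trans (sb E14582 (iv D14764)))
theorem E14709 : n18856 = n18045 := ((((iv F58516)).symm.trans (sb E14582 (iv F68034)))).symm
theorem E14710 : n19211 = n6293 := (((F27490).symm.trans (sb E14583 D19211))).symm
theorem E14711 : n11340 = n10686 := (((D10686).symm.trans (sb E14583 F48152))).symm
theorem E14712 : n11339 = n10687 := (((D10687).symm.trans (sb E14583 (iv D14770)))).symm
theorem E14713 : n18860 = n10676 := ((((iv F35387)).symm.trans (sb E14583 (iv F68038)))).symm
theorem F68604 : act 5 n8695 = n10685 := (sb E14584 (iv D13903))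
theorem E14716 : n18050 = n11342 := (((D11342).symm.trans (sb E14584 (iv F58529)))).symm
theorem F68605 : act 6 n8694 = n10685 := (sb E14585 (iv D13904))
theorem F68606 : act 4 n13890 = n11135 := (sb E14586 F47381)
theorem E14719 : n18051 = n11134 := ((D18051).symm.trans (sb E14586 (iv D14502)))
theorem E14720 : n12610 = n6305 := (((D6305).symm.trans (sb E14587 F53219))).symm
theorem E14721 : n12643 = n3704 := (((F16561).symm.trans (sb E14587 F53220))).symm
theorem F68607 : act 3 n8221 = n7416 := (sb E14588 F32057)
theorem E14722 : n10709 = n7414 := ((D10709).symm.trans (sb E14588 (iv D9676)))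
theorem E14723 : n12611 = n10696 := ((((iv F35434)).symm.trans (sb E14588 D12611))).symm
theorem E14724 : n7439 = n6325 := (((F27542).symm.trans (sb E14589 F32053))).symm
theorem F68608 : act 3 n8222 = n7415 := (sb E14589 F32054)
theorem E14725 : n10710 = n7427 := ((D10710).symm.trans (sb E14589 F32055))
theorem E14726 : n12412 = n10697 := (((D10697).symm.trans (sb E14590 (iv D16158)))).symm
theorem F68609 : act 5 n9678 = n10695 := (sb E14593 (iv D13917))
theorem F68610 : act 6 n9525 = n10695 := (sb E14596 (iv D13918))
theorem F68611 : act 2 n14413 = n12329 := (sb E14597 (iv D16045))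
theorem E14737 : n12620 = n10706 := (((F45229).symm.trans (sb E14598 F68105))).symm
theorem F68612 : act 4 n13794 = n12299 := (sb E14598 F51952)
theorem E14738 : n17903 = n12298 := (((iv F58084)).symm.trans (sb E14598 (iv D16003)))
theorem E14741 : n12300 = n10698 := ((((iv F35441)).symm.trans (sb E14601 (iv F68045)))).symm
theorem F68613 : act 6 n9441 = n10609 := (sb E14602 F45199)
theorem F68614 : act 7 n9441 = n10598 := (sb E14602 (iv D13785))
theorem F68615 : act 4 n13781 = n12290 := (sb E14603 (iv D15991))
theorem F68616 : act 2 n9436 = n10598 := (sb E14604 F45160)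
theorem E14743 : n19123 = n10655 := ((((iv D13862)).symm.trans (sb E14606 (iv F61778)))).symm
theorem E14744 : n18012 = n11290 := ((D18012).symm.trans (sb E14606 F47981))
theorem E14745 : n18013 = n11289 := ((D18013).symm.trans (sb E14606 (iv D14705)))
theorem E14746 : n18802 = n17999 := ((((iv F58398)).symm.trans (sb E14606 (iv F67808)))).symm
theorem E14748 : n11293 = n10659 := (((D10659).symm.trans (sb E14607 F47991))).symm
theorem E14749 : n11292 = n10660 := (((D10660).symm.trans (sb E14607 (iv D14708)))).symm
theorem F68618 : act 5 n8661 = n10658 := (sb E14608 (iv D13866))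
theorem F68619 : act 6 n8660 = n10658 := (sb E14609 (iv D13867))
theorem E14756 : n18004 = n11104 := ((D18004).symm.trans (sb E14610 (iv D14462)))
theorem E14758 : n11345 = n6296 := (((D6296).symm.trans (sb E14611 F48165))).symm
theorem E14759 : n11372 = n3701 := (((F16537).symm.trans (sb E14611 F48166))).symm
theorem F68621 : act 3 n8207 = n6662 := (sb E14612 F28976)
theorem E14761 : n10836 = n10672 := ((((iv F35378)).symm.trans (sb E14612 (iv F35883)))).symm
theorem E14762 : n10691 = n6660 := ((D10691).symm.trans (sb E14612 (iv D8698)))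
theorem E14763 : n11346 = n10680 := ((((iv F35398)).symm.trans (sb E14612 D11346))).symm
theorem E14764 : n6679 = n6321 := (((F27499).symm.trans (sb E14613 F28973))).symm
theorem F68622 : act 3 n8208 = n6661 := (sb E14613 F28974)
theorem E14765 : n10692 = n6670 := ((D10692).symm.trans (sb E14613 F28975))
theorem F68623 : act 5 n8700 = n10679 := (sb E14617 (iv D13894))
theorem F68624 : act 6 n8540 = n10679 := (sb E14620 (iv D13895))
theorem E14780 : n7444 = n3707 := (((F16569).symm.trans (sb E14622 F32072))).symm
theorem E14782 : n7443 = n3705 := ((((iv F12864)).symm.trans (sb E14623 (iv D9708)))).symm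
theorem E14783 : n6329 = n4347 := (((F19271).symm.trans (sb E14625 F27552))).symm
theorem F68625 : act 5 n5675 = n6308 := (sb E14625 F27554)
theorem F68626 : act 6 n5675 = n6307 := (sb E14625 (iv D8226))
theorem F68627 : act 3 n8215 = n7421 := (sb E14626 F32074)
theorem E14785 : n10701 = n7433 := ((D10701).symm.trans (sb E14626 F32076))
theorem E14786 : n4521 = n3710 := (((F16620).symm.trans (sb E14627 (iv F68102)))).symm
theorem E14787 : n6328 = n4348 := (((iv F21439)).symm.trans (sb E14627 F19330))
theorem E14788 : n6330 = n4353 := ((D6330).symm.trans (sb E14627 F19331))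
theorem F68628 : act 4 n5685 = n6309 := (sb E14628 F27557)
theorem E14789 : n10702 = n7308 := ((((iv F67745)).symm.trans (sb E14628 (iv F35454)))).symm
theorem F68629 : act 7 n5685 = n6308 := (sb E14628 (iv D8227))
theorem F68630 : act 3 n8216 = n7301 := (sb E14629 (iv D9528))
theorem F68631 : act 3 n8217 = n7241 := (sb E14646 (iv D9444))
theorem E14810 : n19199 = n10684 := ((((iv F35405)).symm.trans (sb E14649 (iv F61977)))).symm
theorem E14811 : n11368 = n6317 := (((F27492).symm.trans (sb E14649 F48148))).symm
theorem E14812 : n18319 = n10669 := ((((iv F35370)).symm.trans (sb E14649 (iv F59371)))).symm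
theorem E14813 : n11356 = n10688 := (((D10688).symm.trans (sb E14649 F48149))).symm
theorem E14814 : n18631 = n17862 := ((((iv F57944)).symm.trans (sb E14650 (iv F60320)))).symm
theorem F68632 : act 4 n13755 = n11011 := (sb E14650 F46889)
theorem E14815 : n18301 = n17823 := ((((iv F57841)).symm.trans (sb E14650 (iv F68080)))).symm
theorem E14816 : n17853 = n11010 := (((iv F57927)).symm.trans (sb E14650 (iv D14335)))
theorem E14820 : n18622 = n17812 := ((((iv F57808)).symm.trans (sb E14651 D18622))).symm
theorem E14821 : n18569 = n17781 := ((((iv F57707)).symm.trans (sb E14652 (iv F60147)))).symm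
theorem F68634 : act 2 n13696 = n10984 := (sb E14652 F46757)
theorem E14822 : n18573 = n17745 := ((((iv F57613)).symm.trans (sb E14652 (iv F60157)))).symm
theorem E14823 : n17777 = n10978 := (((iv F57697)).symm.trans (sb E14652 (iv D14289)))
theorem E14824 : n19122 = n10656 := ((((iv F35332)).symm.trans (sb E14653 (iv F61774)))).symm
theorem E14825 : n18257 = n10640 := ((((iv F35286)).symm.trans (sb E14653 (iv F59183)))).symm
theorem E14827 : n18549 = n17791 := ((((iv F57736)).symm.trans (sb E14654 (iv F60100)))).symm
theorem E14830 : n17785 = n10968 := (((iv F57722)).symm.trans (sb E14654 (iv D14275)))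
theorem E14831 : n18532 = n17774 := ((((iv F57689)).symm.trans (sb E14655 (iv F60051)))).symm
theorem E14833 : n17775 = n10960 := (((iv F57693)).symm.trans (sb E14655 (iv D14261)))
theorem E14837 : n17776 = n10964 := (((iv F57694)).symm.trans (sb E14656 F46701))
theorem E14839 : n18542 = n17744 := ((((iv F57611)).symm.trans (sb E14656 D18542))).symm
theorem E14842 : n11371 = n3700 := (((D3700).symm.trans (sb E14657 (iv D14806)))).symm
theorem E14844 : n18320 = n10668 := ((((iv F35366)).symm.trans (sb E14658 (iv F59373)))).symm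
theorem E14845 : n18258 = n10639 := ((((iv F35282)).symm.trans (sb E14658 (iv F59185)))).symm
theorem E14847 : n10837 = n10671 := (((D10671).symm.trans (sb E14658 F46169))).symm
theorem E14848 : n10835 = n10673 := (((D10673).symm.trans (sb E14658 (iv D14101)))).symm
theorem E14849 : n18326 = n10664 := ((((iv F35356)).symm.trans (sb E14658 D18326))).symm
theorem E14853 : n11013 = n10682 := ((((iv F35402)).symm.trans (sb E14661 F67871))).symm
theorem E14855 : n18284 = n17822 := ((((iv F57835)).symm.trans (sb E14663 (iv F59266)))).symm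
theorem E14857 : n17825 = n10816 := (((iv F57844)).symm.trans (sb E14663 F46094))
theorem E14858 : n17827 = n10825 := ((D17827).symm.trans (sb E14663 F46095))
theorem E14859 : n17817 = n11014 := (((iv F57823)).symm.trans (sb E14664 F67938))
theorem F68638 : act 6 n8451 = n10581 := (sb E14665 F45081)
theorem F68639 : act 7 n8451 = n10572 := (sb E14665 (iv D13749))
theorem E14861 : n18677 = n17811 := ((((iv F57803)).symm.trans (sb E14666 (iv F60445)))).symm
theorem E14863 : n18292 = n17814 := (((D17814).symm.trans (sb E14666 (iv F68094)))).symm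
theorem E14864 : n17816 = n11036 := ((D17816).symm.trans (sb E14666 (iv D14369)))
theorem E14869 : n18652 = n11030 := (((iv F60379)).symm.trans (sb E14670 F46942))
theorem F68644 : act 3 n14353 = n11064 := (sb E14670 F46943)
theorem E14872 : n11025 = n11022 := (((iv F36449)).symm.trans (sb E14671 (iv D14348)))
theorem E14875 : n17772 = n10975 := (((iv F57686)).symm.trans (sb E14672 (iv D14283)))
theorem F68648 : act 2 n8458 = n10568 := (sb E14674 F45044)
theorem E14886 : n11021 = n10997 := (((iv F36440)).symm.trans (sb E14677 (iv D14314)))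
theorem F68660 : act 5 n18059 = n14765 := (sb E14694 F61986)
theorem F68661 : act 6 n18059 = n14768 := (sb E14694 F68120)
theorem E14910 : n16407 = n14131 := ((D16407).symm.trans (sb E14695 F58652))
theorem F68662 : act 5 n12604 = n13926 := (sb E14695 (iv D18095))
theorem E14911 : n16410 = n14132 := (((iv F53212)).symm.trans (sb E14696 F58654))
theorem F68663 : act 6 n12607 = n13926 := (sb E14696 (iv D18096))
theorem F68664 : act 3 n10704 = n9672 := (sb E14697 F41293)
theorem E14913 : n13929 = n9670 := ((D13929).symm.trans (sb E14697 (iv D12602)))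
theorem E14914 : n16404 = n13913 := ((((iv F45574)).symm.trans (sb E14697 D16404))).symm
theorem F68665 : act 3 n10705 = n9671 := (sb E14698 F41289)
theorem E14915 : n13930 = n9685 := ((D13930).symm.trans (sb E14698 F41290))
theorem F68666 : act 5 n12605 = n13912 := (sb E14701 (iv D18078))
theorem E14916 : n16152 = n13914 := ((D16152).symm.trans (sb E14704 F58599))
theorem F68667 : act 6 n12410 = n13912 := (sb E14704 (iv D18079))
theorem F68668 : act 5 n18007 = n14700 := (sb E14705 F61761)
theorem F68669 : act 6 n18007 = n14699 := (sb E14705 (iv D19117))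
theorem E14917 : n14763 = n13899 := (((D13899).symm.trans (sb E14706 F61981))).symm
theorem E14918 : n14762 = n13900 := (((D13900).symm.trans (sb E14706 (iv D19200)))).symm
theorem F68670 : act 5 n11336 = n13898 := (sb E14707 (iv D18060))
theorem F68671 : act 6 n11335 = n13898 := (sb E14708 (iv D18061))
theorem F68672 : act 4 n18045 = n14499 := (sb E14709 F60990)
theorem F68673 : act 5 n18045 = n14766 := (sb E14709 F68033)
theorem F68674 : act 6 n18045 = n14498 := (sb E14709 (iv D18856))
theorem E14919 : n14771 = n8205 := (((D8205).symm.trans (sb E14710 F62003))).symm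
theorem E14920 : n14804 = n4839 := (((F21330).symm.trans (sb E14710 F62004))).symm
theorem F68675 : act 3 n10686 = n8695 := (sb E14711 F37363)
theorem E14921 : n14097 = n13881 := ((((iv F45500)).symm.trans (sb E14711 (iv F46158)))).symm
theorem E14922 : n13905 = n8693 := ((D13905).symm.trans (sb E14711 (iv D11340)))
theorem E14923 : n14772 = n13891 := ((((iv F45524)).symm.trans (sb E14711 D14772))).symm
theorem E14924 : n8718 = n8240 := (((F35411).symm.trans (sb E14712 F37359))).symm
theorem F68676 : act 3 n10687 = n8694 := (sb E14712 F37360)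
theorem E14925 : n13906 = n8706 := ((D13906).symm.trans (sb E14712 F37361))
theorem E14926 : n14500 = n13892 := (((D13892).symm.trans (sb E14713 (iv D18860)))).symm
theorem F68677 : act 5 n11342 = n13890 := (sb E14716 (iv D18050))
theorem F68678 : act 6 n11134 = n13890 := (sb E14719 (iv D18051))
theorem E14929 : n9706 = n4845 := (((F21364).symm.trans (sb E14720 F41317))).symm
theorem E14932 : n9705 = n4843 := ((((iv F16603)).symm.trans (sb E14721 (iv D12643)))).symm
theorem E14933 : n8248 = n5691 := (((F24860).symm.trans (sb E14722 F35474))).symm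
theorem F68679 : act 5 n7414 = n8222 := (sb E14722 F35476)
theorem F68680 : act 6 n7414 = n8221 := (sb E14722 (iv D10709))
theorem F68681 : act 3 n10696 = n9678 := (sb E14723 F41319)
theorem E14935 : n13919 = n9694 := ((D13919).symm.trans (sb E14723 F41321))
theorem E14936 : n8247 = n5692 := (((iv F27625)).symm.trans (sb E14724 F24939))
theorem E14937 : n8249 = n5699 := ((D8249).symm.trans (sb E14724 F24940))
theorem F68682 : act 4 n7427 = n8223 := (sb E14725 F35479)
theorem E14938 : n13920 = n9534 := ((((iv F67906)).symm.trans (sb E14725 (iv F45598)))).symm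
theorem F68683 : act 7 n7427 = n8222 := (sb E14725 (iv D10710))
theorem F68684 : act 3 n10697 = n9525 := (sb E14726 (iv D12412))
theorem E14942 : n16001 = n13916 := ((((iv F45585)).symm.trans (sb E14737 (iv F68185)))).symm
theorem F68685 : act 6 n12298 = n13794 := (sb E14738 F58084)
theorem F68686 : act 7 n12298 = n13781 := (sb E14738 (iv D17903))
theorem F68687 : act 3 n10698 = n9441 := (sb E14741 (iv D12300))
theorem E14943 : n14704 = n13863 := (((D13863).symm.trans (sb E14743 F61779))).symm
theorem E14944 : n14703 = n13864 := (((D13864).symm.trans (sb E14743 (iv D19123)))).symm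
theorem F68688 : act 5 n11290 = n13862 := (sb E14744 (iv D18012))
theorem F68689 : act 6 n11289 = n13862 := (sb E14745 (iv D18013))
theorem F68690 : act 4 n17999 = n14458 := (sb E14746 F60831)
theorem F68693 : act 3 n10659 = n8661 := (sb E14748 F37247)
theorem E14947 : n13868 = n8659 := ((D13868).symm.trans (sb E14748 (iv D11293)))
theorem E14948 : n14710 = n13857 := ((((iv F45437)).symm.trans (sb E14748 D14710))).symm
theorem F68694 : act 3 n10660 = n8660 := (sb E14749 F37244)
theorem E14949 : n13869 = n8669 := ((D13869).symm.trans (sb E14749 F37245))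
theorem F68696 : act 6 n11104 = n13856 := (sb E14756 (iv D18004))
theorem E14953 : n14102 = n8196 := ((((iv F27472)).symm.trans (sb E14758 (iv F46172)))).symm
theorem E14954 : n8723 = n4842 := (((F21335).symm.trans (sb E14758 F37376))).symm
theorem E14956 : n8722 = n4840 := ((((iv F16594)).symm.trans (sb E14759 (iv D11372)))).symm
theorem E14957 : n13884 = n8318 := (((iv F45508)).symm.trans (sb E14761 F35882))
theorem E14958 : n13886 = n8316 := ((D13886).symm.trans (sb E14761 (iv D10836)))
theorem E14959 : n14103 = n13875 := ((((iv F45486)).symm.trans (sb E14761 D14103))).symm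
theorem E14960 : n8244 = n5108 := (((F22453).symm.trans (sb E14762 F35418))).symm
theorem F68697 : act 5 n6660 = n8208 := (sb E14762 F35419)
theorem F68698 : act 6 n6660 = n8207 := (sb E14762 (iv D10691))
theorem F68699 : act 3 n10680 = n8700 := (sb E14763 F37377)
theorem E14962 : n13896 = n8712 := ((D13896).symm.trans (sb E14763 F37378))
theorem E14963 : n8243 = n5109 := (((iv F27612)).symm.trans (sb E14764 F22498))
theorem E14964 : n8245 = n5114 := ((D8245).symm.trans (sb E14764 F22499))
theorem F68700 : act 4 n6670 = n8209 := (sb E14765 F35421)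
theorem E14965 : n13897 = n8547 := (((F67709).symm.trans (sb E14765 (iv F45539)))).symm
theorem F68701 : act 7 n6670 = n8208 := (sb E14765 (iv D10692))
theorem E14974 : n5695 = n4847 := ((((iv F16617)).symm.trans (sb E14780 (iv D7444)))).symm
theorem E14975 : n5906 = n2831 := (((F12863).symm.trans (sb E14782 (iv F68212)))).symm
theorem E14976 : n5696 = n4846 := (((D4846).symm.trans (sb E14782 F24954))).symm
theorem E14977 : n4852 = n3533 := (((F14943).symm.trans (sb E14783 F21441))).symm
theorem F68703 : act 5 n4347 = n4848 := (sb E14783 F21443)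
theorem F68704 : act 5 n7433 = n8216 := (sb E14785 F35450)
theorem F68705 : act 6 n7433 = n8215 := (sb E14785 (iv D10701))
theorem E14981 : n4851 = n3457 := (((iv F16631)).symm.trans (sb E14786 F15495))
theorem E14982 : n4853 = n3456 := ((D4853).symm.trans (sb E14786 (iv D4521)))
theorem F68706 : act 3 n4348 = n4848 := (sb E14787 F21439)
theorem F68707 : act 4 n4353 = n4849 := (sb E14788 F21445)
theorem F68708 : act 7 n4353 = n4848 := (sb E14788 (iv D6330))
theorem F68709 : act 4 n7308 = n8217 := (sb E14789 F35453)
theorem F68710 : act 7 n7308 = n8216 := (sb E14789 (iv D10702))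
theorem E14994 : n14781 = n13902 := (((D13902).symm.trans (sb E14810 F61978))).symm
theorem E14995 : n14171 = n8237 := ((((iv F27593)).symm.trans (sb E14811 (iv F68218)))).symm
theorem E14996 : n14125 = n8230 := ((((iv F27568)).symm.trans (sb E14811 (iv F46245)))).symm
theorem E14999 : n14096 = n13882 := ((((iv F45503)).symm.trans (sb E14812 (iv D18319)))).symm
theorem E15001 : n14333 = n13893 := ((((iv F45530)).symm.trans (sb E14813 (iv F67898)))).symm
theorem F68711 : act 4 n17862 = n14332 := (sb E14814 F60321)
theorem F68712 : act 6 n17862 = n14331 := (sb E14814 (iv D18631))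
theorem F68713 : act 4 n17823 = n14082 := (sb E14815 (iv D18301))
theorem F68715 : act 6 n11010 = n13755 := (sb E14816 F57927)
theorem F68723 : act 7 n17812 = n14334 := (sb E14820 F60300)
theorem F68724 : act 2 n17781 = n14293 := (sb E14821 F60148)
theorem F68726 : act 2 n17745 = n14297 := (sb E14822 F60156)
theorem F68727 : act 6 n17745 = n14288 := (sb E14822 (iv D18573))
theorem F68729 : act 5 n10978 = n13690 := (sb E14823 (iv D17777))
theorem F68730 : act 6 n10978 = n13696 := (sb E14823 F57697)
theorem E15002 : n14720 = n13865 := (((D13865).symm.trans (sb E14824 F61776))).symm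
theorem E15003 : n14049 = n13841 := ((((iv F45388)).symm.trans (sb E14825 (iv D18257)))).symm
theorem F68732 : act 6 n17791 = n14270 := (sb E14827 (iv D18549))
theorem F68737 : act 6 n10968 = n13704 := (sb E14830 F57722)
theorem F68738 : act 7 n10968 = n13695 := (sb E14830 (iv D17785))
theorem F68739 : act 2 n17774 = n14260 := (sb E14831 (iv D18532))
theorem E15006 : n14262 = n13689 := ((D14262).symm.trans (sb E14833 (iv D17775)))
theorem F68747 : act 2 n10964 = n13695 := (sb E14837 F57694)
theorem F68748 : act 2 n17744 = n14268 := (sb E14839 F60080)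
theorem E15007 : n14128 = n4835 := ((((iv F16576)).symm.trans (sb E14842 (iv F46258)))).symm
theorem E15009 : n14098 = n13880 := (((D13880).symm.trans (sb E14844 F59374))).symm
theorem E15010 : n14051 = n13839 := (((D13839).symm.trans (sb E14845 F59186))).symm
theorem E15011 : n13885 = n8317 := ((D13885).symm.trans (sb E14847 (iv D10837)))
theorem E15012 : n14104 = n13874 := ((((iv F45483)).symm.trans (sb E14847 D14104))).symm
theorem E15013 : n8335 = n8234 := (((F35379).symm.trans (sb E14848 F35879))).symm
theorem E15014 : n13887 = n8326 := ((D13887).symm.trans (sb E14848 F35881))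
theorem E15015 : n14118 = n13876 := (((D13876).symm.trans (sb E14849 F59395))).symm
theorem F68751 : act 3 n10682 = n8451 := (sb E14853 (iv D11013))
theorem F68754 : act 7 n17822 = n14082 := (sb E14855 F59269)
theorem F68759 : act 6 n10816 = n13724 := (sb E14857 (iv D17825))
theorem F68760 : act 4 n10825 = n13727 := (sb E14858 F57850)
theorem F68761 : act 7 n10825 = n13726 := (sb E14858 (iv D17827))
theorem F68762 : act 6 n11014 = n13727 := (sb E14859 F57823)
theorem F68763 : act 7 n11014 = n13718 := (sb E14859 (iv D17817))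
theorem F68765 : act 6 n17811 = n14364 := (sb E14861 (iv D18677))
theorem F68769 : act 6 n17814 = n14090 := (sb E14863 F59296)
theorem F68771 : act 6 n11036 = n13717 := (sb E14864 (iv D17816))
theorem F68778 : act 0 n11030 = n14353 := (sb E14869 F60379)
theorem F68782 : act 2 n11022 = n8463 := (sb E14872 F36449)
theorem E15023 : n14285 = n14282 := ((((iv F46744)).symm.trans (sb E14872 (iv F46750)))).symm
theorem F68784 : act 2 n10975 = n13691 := (sb E14875 F57686)
theorem F68785 : act 5 n10975 = n13687 := (sb E14875 (iv D17772))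
theorem F68796 : act 2 n10997 = n8481 := (sb E14886 F36439)
theorem E15046 : n19205 = n18329 := ((((iv F59403)).symm.trans (sb E14910 (iv F61990)))).symm
theorem F68810 : act 3 n14131 = n12604 := (sb E14910 (iv D16407))
theorem E15047 : n19208 = n18330 := ((((iv F59405)).symm.trans (sb E14911 (iv F61995)))).symm
theorem F68811 : act 3 n14132 = n12607 := (sb E14911 F53212)
theorem E15048 : n18361 = n12606 := ((D18361).symm.trans (sb E14911 (iv D16410)))
theorem F68812 : act 5 n9670 = n10705 := (sb E14913 F45626)
theorem F68813 : act 6 n9670 = n10704 := (sb E14913 (iv D13929))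
theorem F68814 : act 3 n13913 = n12605 := (sb E14914 F53195)
theorem E15050 : n18080 = n12623 := ((D18080).symm.trans (sb E14914 F53197))
theorem F68815 : act 4 n9685 = n10706 := (sb E14915 F45630)
theorem E15051 : n18082 = n12420 := ((((iv F68044)).symm.trans (sb E14915 (iv F58611)))).symm
theorem F68816 : act 7 n9685 = n10705 := (sb E14915 (iv D13930))
theorem F68817 : act 3 n13914 = n12410 := (sb E14916 (iv D16152))
theorem E15052 : n19116 = n18008 := ((((iv F58419)).symm.trans (sb E14917 (iv F61756)))).symm
theorem F68818 : act 3 n13899 = n11336 := (sb E14917 F48136)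
theorem E15054 : n18313 = n18032 := ((((iv F58485)).symm.trans (sb E14917 (iv F59357)))).symm
theorem E15055 : n18062 = n11334 := ((D18062).symm.trans (sb E14917 (iv D14763)))
theorem E15056 : n19202 = n18046 := ((((iv F58519)).symm.trans (sb E14917 D19202))).symm
theorem E15057 : n19115 = n18009 := ((((iv F58422)).symm.trans (sb E14918 (iv F61752)))).symm
theorem E15058 : n18340 = n18063 := (((D18063).symm.trans (sb E14918 (iv F68118)))).symm
theorem F68819 : act 3 n13900 = n11335 := (sb E14918 F48133)
theorem E15059 : n18064 = n11349 := ((D18064).symm.trans (sb E14918 F48134))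
theorem E15061 : n18321 = n10670 := ((((iv F35374)).symm.trans (sb E14919 (iv F59378)))).symm
theorem E15062 : n11370 = n6318 := (((F27496).symm.trans (sb E14919 F48155))).symm
theorem E15065 : n11369 = n6316 := ((((iv F21398)).symm.trans (sb E14920 (iv D14804)))).symm
theorem E15066 : n18036 = n10833 := (((iv F58495)).symm.trans (sb E14921 F46157))
theorem E15067 : n18038 = n10831 := ((D18038).symm.trans (sb E14921 (iv D14097)))
theorem E15068 : n18322 = n18024 := ((((iv F58464)).symm.trans (sb E14921 D18322))).symm
theorem E15069 : n10733 = n6676 := (((F28962).symm.trans (sb E14922 F45554))).symm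
theorem F68820 : act 5 n8693 = n10687 := (sb E14922 F45555)
theorem F68821 : act 6 n8693 = n10686 := (sb E14922 (iv D13905))
theorem F68822 : act 3 n13891 = n11342 := (sb E14923 F48157)
theorem E15071 : n18052 = n11358 := ((D18052).symm.trans (sb E14923 F48158))
theorem E15072 : n10895 = n10728 := ((((iv F35537)).symm.trans (sb E14924 (iv F68112)))).symm
theorem E15073 : n10732 = n6677 := (((iv F35550)).symm.trans (sb E14924 F29024))
theorem E15074 : n10734 = n6684 := ((D10734).symm.trans (sb E14924 F29025))
theorem F68823 : act 4 n8706 = n10688 := (sb E14925 F45558)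
theorem E15075 : n18053 = n11143 := ((((iv F67736)).symm.trans (sb E14925 (iv F58538)))).symm
theorem F68824 : act 7 n8706 = n10687 := (sb E14925 (iv D13906))
theorem E15076 : n18854 = n18047 := ((((iv F58520)).symm.trans (sb E14926 (iv F60983)))).symm
theorem E15081 : n7440 = n6324 := ((((iv F21424)).symm.trans (sb E14929 (iv D9706)))).symm
theorem E15082 : n7441 = n6323 := (((D6323).symm.trans (sb E14932 F32156))).symm
theorem F68826 : act 5 n5691 = n6325 := (sb E14933 F27630)
theorem F68827 : act 5 n9694 = n10697 := (sb E14935 F45594)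
theorem F68828 : act 6 n9694 = n10696 := (sb E14935 (iv D13919))
theorem F68829 : act 3 n5692 = n6325 := (sb E14936 F27625)
theorem F68830 : act 4 n5699 = n6326 := (sb E14937 F27633)
theorem F68831 : act 7 n5699 = n6325 := (sb E14937 (iv D8249))
theorem F68832 : act 4 n9534 = n10698 := (sb E14938 F45597)
theorem F68833 : act 7 n9534 = n10697 := (sb E14938 (iv D13920))
theorem F68834 : act 3 n13916 = n12298 := (sb E14942 (iv D16001))
theorem F68835 : act 3 n13863 = n11290 := (sb E14943 F47978)
theorem E15095 : n18014 = n11288 := ((D18014).symm.trans (sb E14943 (iv D14704)))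
theorem E15096 : n19125 = n18000 := ((((iv F58401)).symm.trans (sb E14943 D19125))).symm
theorem F68836 : act 3 n13864 = n11289 := (sb E14944 F47975)
theorem E15097 : n18015 = n11301 := ((D18015).symm.trans (sb E14944 F47976))
theorem F68837 : act 5 n8659 = n10660 := (sb E14947 F45463)
theorem F68838 : act 6 n8659 = n10659 := (sb E14947 (iv D13868))
theorem E15105 : n18005 = n11308 := ((D18005).symm.trans (sb E14948 F47996))
theorem F68840 : act 4 n8669 = n10661 := (sb E14949 F45466)
theorem F68841 : act 7 n8669 = n10660 := (sb E14949 (iv D13869))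
theorem E15114 : n10861 = n6314 := (((F27473).symm.trans (sb E14953 F46173))).symm
theorem E15116 : n6680 = n6320 := ((((iv F21411)).symm.trans (sb E14954 (iv D8723)))).symm
theorem E15117 : n6681 = n6319 := (((D6319).symm.trans (sb E14956 F29038))).symm
theorem F68843 : act 3 n8318 = n10672 := (sb E14957 F45508)
theorem F68844 : act 5 n8318 = n10671 := (sb E14957 (iv D13884))
theorem E15120 : n10724 = n6390 := (((F27842).symm.trans (sb E14958 F45510))).symm
theorem F68845 : act 5 n8316 = n10673 := (sb E14958 F45512)
theorem F68846 : act 6 n8316 = n10672 := (sb E14958 (iv D13886))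
theorem E15122 : n18029 = n10850 := ((D18029).symm.trans (sb E14959 F46176))
theorem F68847 : act 5 n5108 = n6321 := (sb E14960 F27615)
theorem F68848 : act 5 n8712 = n10681 := (sb E14962 F45536)
theorem F68849 : act 6 n8712 = n10680 := (sb E14962 (iv D13896))
theorem F68850 : act 3 n5109 = n6321 := (sb E14963 F27612)
theorem F68851 : act 4 n5114 = n6322 := (sb E14964 F27617)
theorem F68852 : act 7 n5114 = n6321 := (sb E14964 (iv D8245))
theorem F68853 : act 4 n8547 = n10682 := (sb E14965 F45538)
theorem F68854 : act 7 n8547 = n10681 := (sb E14965 (iv D13897))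
theorem E15137 : n4619 = n3709 := (((F16616).symm.trans (sb E14974 F19332))).symm
theorem E15138 : n6327 = n4349 := (((iv F21436)).symm.trans (sb E14974 F19333))
theorem F68855 : act 6 n4847 = n4347 := (sb E14974 (iv D5695))
theorem E15139 : n4522 = n3708 := (((D3708).symm.trans (sb E14975 F20012))).symm
theorem F68856 : act 6 n4846 = n4348 := (sb E14976 (iv D5696))
theorem F68857 : act 5 n3533 = n3710 := (sb E14977 F16636)
theorem F68858 : act 3 n3457 = n3710 := (sb E14981 F16631)
theorem F68859 : act 4 n3456 = n3711 := (sb E14982 F16639)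
theorem F68860 : act 7 n3456 = n3710 := (sb E14982 (iv D4853))
theorem E15158 : n19134 = n18011 := ((((iv F58428)).symm.trans (sb E14994 (iv F61809)))).symm
theorem E15159 : n18339 = n18066 := ((((iv F58566)).symm.trans (sb E14994 (iv F68116)))).symm
theorem E15160 : n18331 = n18035 := ((((iv F58492)).symm.trans (sb E14994 (iv F59408)))).symm
theorem E15161 : n18629 = n18049 := ((((iv F58525)).symm.trans (sb E14994 (iv F68031)))).symm
theorem E15163 : n18347 = n10717 := ((((iv F35499)).symm.trans (sb E14995 (iv F68285)))).symm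
theorem E15166 : n10856 = n10720 := ((((iv F35509)).symm.trans (sb E14996 (iv D14125)))).symm
theorem E15169 : n18312 = n18033 := ((((iv F58486)).symm.trans (sb E14999 (iv F59352)))).symm
theorem E15170 : n18037 = n10832 := (((iv F58497)).symm.trans (sb E14999 F46154))
theorem E15171 : n18039 = n10844 := ((D18039).symm.trans (sb E14999 F46155))
theorem F68861 : act 3 n13893 = n11010 := (sb E15001 (iv D14333))
theorem E15174 : n18547 = n18002 := ((((iv F58405)).symm.trans (sb E15002 (iv F67805)))).symm
theorem E15175 : n18253 = n17978 := ((((iv F58333)).symm.trans (sb E15003 (iv F59169)))).symm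
theorem E15176 : n17981 = n10798 := (((iv F58342)).symm.trans (sb E15003 F46021))
theorem E15177 : n17983 = n10807 := ((D17983).symm.trans (sb E15003 F46022))
theorem F68863 : act 4 n13689 = n10960 := (sb E15006 (iv D14262))
theorem E15183 : n18536 = n17738 := ((((iv F57593)).symm.trans (sb E15006 D18536))).symm
theorem F68864 : act 6 n13689 = n10964 := (sb E15006 F46691)
theorem E15185 : n10860 = n6312 := (((D6312).symm.trans (sb E15007 F46257))).symm
theorem E15188 : n18314 = n18031 := ((((iv F58482)).symm.trans (sb E15009 (iv F59358)))).symm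
theorem E15189 : n18323 = n18023 := ((((iv F58460)).symm.trans (sb E15009 D18323))).symm
theorem E15192 : n18261 = n17970 := ((((iv F58313)).symm.trans (sb E15010 D18261))).symm
theorem F68865 : act 3 n8317 = n10673 := (sb E15011 F45509)
theorem F68866 : act 6 n8317 = n10671 := (sb E15011 (iv D13885))
theorem E15195 : n18028 = n10851 := ((D18028).symm.trans (sb E15012 F46179))
theorem E15196 : n10723 = n6391 := (((iv F35519)).symm.trans (sb E15013 F27895))
theorem E15197 : n10725 = n6396 := ((D10725).symm.trans (sb E15013 F27896))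
theorem F68867 : act 4 n8326 = n10674 := (sb E15014 F45514)
theorem F68868 : act 7 n8326 = n10673 := (sb E15014 (iv D13887))
theorem E15199 : n18343 = n18025 := ((((iv F58465)).symm.trans (sb E15015 (iv F59435)))).symm
theorem E15200 : n18277 = n17972 := ((((iv F58318)).symm.trans (sb E15015 (iv F59245)))).symm
theorem F68873 : act 2 n14282 = n10980 := (sb E15023 F46749)
theorem F68874 : act 5 n14282 = n10976 := (sb E15023 (iv D14285))
theorem F68885 : act 3 n18329 = n14765 := (sb E15046 (iv D19205))
theorem F68886 : act 3 n18330 = n14768 := (sb E15047 F61996)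
theorem F68887 : act 7 n18330 = n14767 := (sb E15047 (iv D19208))
theorem E15239 : n16409 = n14811 := ((D16409).symm.trans (sb E15048 F59503))
theorem F68888 : act 7 n12606 = n14132 := (sb E15048 (iv D18361))
theorem F68889 : act 5 n12623 = n13914 := (sb E15050 F58603)
theorem F68890 : act 6 n12623 = n13913 := (sb E15050 (iv D18080))
theorem F68891 : act 4 n12420 = n13916 := (sb E15051 F58610)
theorem F68892 : act 7 n12420 = n13914 := (sb E15051 (iv D18082))
theorem F68893 : act 3 n18008 = n14700 := (sb E15052 F61758)
theorem F68894 : act 6 n18008 = n14698 := (sb E15052 (iv D19116))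
theorem F68895 : act 3 n18032 = n14093 := (sb E15054 F59356)
theorem F68896 : act 6 n18032 = n14091 := (sb E15054 (iv D18313))
theorem F68897 : act 5 n11334 = n13900 := (sb E15055 F58557)
theorem F68898 : act 6 n11334 = n13899 := (sb E15055 (iv D18062))
theorem F68899 : act 3 n18046 = n14766 := (sb E15056 F61983)
theorem F68900 : act 6 n18046 = n14784 := (sb E15056 F61984)
theorem F68901 : act 3 n18009 = n14699 := (sb E15057 F61754)
theorem F68902 : act 5 n18009 = n14698 := (sb E15057 (iv D19115))
theorem F68903 : act 7 n18009 = n14713 := (sb E15057 F61755)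
theorem E15240 : n14155 = n13958 := (((F58558).symm.trans (sb E15058 F59427))).symm
theorem F68904 : act 3 n18063 = n14112 := (sb E15058 F59429)
theorem F68905 : act 5 n18063 = n14761 := (sb E15058 F68119)
theorem F68906 : act 7 n18063 = n14111 := (sb E15058 (iv D18340))
theorem F68907 : act 4 n11349 = n13902 := (sb E15059 F58562)
theorem F68908 : act 7 n11349 = n13900 := (sb E15059 (iv D18064))
theorem E15242 : n14127 = n8231 := (((F35375).symm.trans (sb E15061 F59379))).symm
theorem E15243 : n8719 = n8239 := ((((iv F27600)).symm.trans (sb E15062 (iv D11370)))).symm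
theorem E15244 : n14172 = n8236 := ((((iv F27589)).symm.trans (sb E15065 (iv F68219)))).symm
theorem E15245 : n8720 = n8238 := (((D8238).symm.trans (sb E15065 F37440))).symm
theorem F68909 : act 3 n10833 = n13881 := (sb E15066 F58495)
theorem F68910 : act 5 n10833 = n13880 := (sb E15066 (iv D18036))
theorem E15246 : n13948 = n8332 := (((F35866).symm.trans (sb E15067 F58499))).symm
theorem F68911 : act 5 n10831 = n13882 := (sb E15067 F58501)
theorem F68912 : act 6 n10831 = n13881 := (sb E15067 (iv D18038))
theorem F68914 : act 6 n18024 = n14115 := (sb E15068 F59383)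
theorem E15247 : n13957 = n8714 := ((((iv F29009)).symm.trans (sb E15069 (iv F45717)))).symm
theorem F68915 : act 5 n6676 = n8240 := (sb E15069 F35553)
theorem F68916 : act 5 n11358 = n13892 := (sb E15071 F58534)
theorem F68917 : act 6 n11358 = n13891 := (sb E15071 (iv D18052))
theorem E15250 : n13956 = n8368 := (((iv F45714)).symm.trans (sb E15072 F36082))
theorem E15251 : n13959 = n8367 := ((D13959).symm.trans (sb E15072 (iv D10895)))
theorem F68918 : act 3 n6677 = n8240 := (sb E15073 F35550)
theorem F68919 : act 4 n6684 = n8241 := (sb E15074 F35555)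
theorem F68920 : act 7 n6684 = n8240 := (sb E15074 (iv D10734))
theorem F68921 : act 4 n11143 = n13893 := (sb E15075 F58537)
theorem F68922 : act 7 n11143 = n13892 := (sb E15075 (iv D18053))
theorem F68923 : act 3 n18047 = n14498 := (sb E15076 (iv D18854))
theorem F68924 : act 5 n18047 = n14784 := (sb E15076 F68032)
theorem F68925 : act 7 n18047 = n14508 := (sb E15076 F60984)
theorem E15254 : n8246 = n5693 := (((iv F27621)).symm.trans (sb E15081 F24942))
theorem F68926 : act 6 n6324 = n5691 := (sb E15081 (iv D7440))
theorem F68927 : act 6 n6323 = n5692 := (sb E15082 (iv D7441))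
theorem F68930 : act 5 n11288 = n13864 := (sb E15095 F58437)
theorem F68931 : act 6 n11288 = n13863 := (sb E15095 (iv D18014))
theorem F68933 : act 6 n18000 = n14723 := (sb E15096 F61785)
theorem F68934 : act 4 n11301 = n13865 := (sb E15097 F58440)
theorem F68935 : act 7 n11301 = n13864 := (sb E15097 (iv D18015))
theorem F68943 : act 6 n11308 = n13857 := (sb E15105 (iv D18005))
theorem E15259 : n8336 = n8233 := ((((iv F27579)).symm.trans (sb E15114 (iv D10861)))).symm
theorem E15260 : n8242 = n5110 := (((iv F27609)).symm.trans (sb E15116 F22501))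
theorem F68952 : act 6 n6320 = n5108 := (sb E15116 (iv D6680))
theorem F68953 : act 6 n6319 = n5109 := (sb E15117 (iv D6681))
theorem F68956 : act 5 n6390 = n8234 := (sb E15120 F35523)
theorem F68958 : act 6 n10850 = n13875 := (sb E15122 (iv D18029))
theorem E15267 : n4850 = n3535 := (((iv F16628)).symm.trans (sb E15137 F15828))
theorem F68959 : act 6 n3709 = n3533 := (sb E15137 (iv D4619))
theorem F68960 : act 3 n4349 = n4847 := (sb E15138 F21436)
theorem F68961 : act 5 n4349 = n4846 := (sb E15138 (iv D6327))
theorem F68962 : act 6 n3708 = n3457 := (sb E15139 (iv D4522))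
theorem F68963 : act 4 n18011 = n14713 := (sb E15158 (iv D19134))
theorem E15279 : n14154 = n13961 := (((F58565).symm.trans (sb E15159 F59425))).symm
theorem F68964 : act 4 n18066 = n14111 := (sb E15159 (iv D18339))
theorem F68965 : act 4 n18035 = n14106 := (sb E15160 (iv D18331))
theorem F68966 : act 3 n18049 = n14331 := (sb E15161 (iv D18629))
theorem F68967 : act 4 n18049 = n14508 := (sb E15161 F60317)
theorem E15280 : n14120 = n13943 := ((((iv F45667)).symm.trans (sb E15163 (iv D18347)))).symm
theorem E15282 : n13947 = n8333 := (((iv F45681)).symm.trans (sb E15166 F35937))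
theorem E15284 : n13949 = n8340 := ((D13949).symm.trans (sb E15166 F35938))
theorem F68968 : act 3 n18033 = n14092 := (sb E15169 F59353)
theorem F68969 : act 5 n18033 = n14091 := (sb E15169 (iv D18312))
theorem F68970 : act 7 n18033 = n14106 := (sb E15169 F59354)
theorem F68971 : act 3 n10832 = n13882 := (sb E15170 F58497)
theorem F68972 : act 6 n10832 = n13880 := (sb E15170 (iv D18037))
theorem F68973 : act 4 n10844 = n13883 := (sb E15171 F58504)
theorem F68974 : act 7 n10844 = n13882 := (sb E15171 (iv D18039))
theorem F68978 : act 3 n18002 = n14270 := (sb E15174 (iv D18547))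
theorem F68982 : act 7 n17978 = n14058 := (sb E15175 F59172)
theorem F68984 : act 6 n10798 = n13839 := (sb E15176 (iv D17981))
theorem F68986 : act 7 n10807 = n13841 := (sb E15177 (iv D17983))
theorem F68999 : act 4 n17738 = n14290 := (sb E15183 F60061)
theorem F69000 : act 6 n17738 = n14268 := (sb E15183 F60062)
theorem E15285 : n8337 = n8232 := (((D8232).symm.trans (sb E15185 F35953))).symm
theorem F69004 : act 5 n18031 = n14093 := (sb E15188 F59359)
theorem F69005 : act 6 n18031 = n14092 := (sb E15188 (iv D18314))
theorem F69007 : act 6 n18023 = n14116 := (sb E15189 F59387)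
theorem F69013 : act 6 n17970 = n14066 := (sb E15192 F59196)
theorem F69015 : act 6 n10851 = n13874 := (sb E15195 (iv D18028))
theorem F69016 : act 3 n6391 = n8234 := (sb E15196 F35519)
theorem F69017 : act 4 n6396 = n8235 := (sb E15197 F35525)
theorem F69018 : act 7 n6396 = n8234 := (sb E15197 (iv D10725))
theorem F69022 : act 5 n18025 = n14115 := (sb E15199 F59438)
theorem F69025 : act 5 n17972 = n14065 := (sb E15200 F59247)
theorem F69026 : act 7 n17972 = n14063 := (sb E15200 (iv D18277))
theorem E15293 : n19224 = n19207 := (((iv F62037)).symm.trans (sb E15239 (iv F61994)))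
theorem F69059 : act 4 n14811 = n12606 := (sb E15239 (iv D16409))
theorem E15294 : n18138 = n10882 := ((D18138).symm.trans (sb E15240 F46350))
theorem E15295 : n18136 = n11362 := (((iv F58784)).symm.trans (sb E15240 (iv F68249)))
theorem E15297 : n18139 = n10881 := ((D18139).symm.trans (sb E15240 (iv D14155)))
theorem E15301 : n10857 = n10719 := ((((iv F35505)).symm.trans (sb E15242 (iv D14127)))).symm
theorem E15302 : n11364 = n10727 := ((((iv F35533)).symm.trans (sb E15243 (iv F37420)))).symm
theorem E15303 : n10731 = n6678 := (((iv F35547)).symm.trans (sb E15243 F29027))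
theorem F69060 : act 6 n8239 = n6676 := (sb E15243 (iv D8719))
theorem E15305 : n10896 = n10726 := (((D10726).symm.trans (sb E15244 F46414))).symm
theorem F69061 : act 6 n8238 = n6677 := (sb E15245 (iv D8720))
theorem E15306 : n18117 = n10852 := ((((iv F35921)).symm.trans (sb E15246 (iv F58715)))).symm
theorem F69062 : act 5 n8332 = n10720 := (sb E15246 F45685)
theorem F69063 : act 5 n8714 = n10728 := (sb E15247 F45718)
theorem F69064 : act 3 n8368 = n10728 := (sb E15250 F45714)
theorem F69065 : act 4 n8367 = n10730 := (sb E15251 F45724)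
theorem F69066 : act 7 n8367 = n10728 := (sb E15251 (iv D13959))
theorem F69067 : act 3 n5693 = n6324 := (sb E15254 F27621)
theorem F69068 : act 5 n5693 = n6323 := (sb E15254 (iv D8246))
theorem E15318 : n10722 = n6392 := (((iv F35516)).symm.trans (sb E15259 F27898))
theorem F69069 : act 6 n8233 = n6390 := (sb E15259 (iv D8336))
theorem F69070 : act 3 n5110 = n6320 := (sb E15260 F27609)
theorem F69071 : act 5 n5110 = n6319 := (sb E15260 (iv D8242))
theorem F69072 : act 3 n3535 = n3709 := (sb E15267 F16628)
theorem F69073 : act 5 n3535 = n3708 := (sb E15267 (iv D4850))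
theorem E15336 : n18385 = n18141 := ((((iv F58800)).symm.trans (sb E15279 (iv F59583)))).symm
theorem E15337 : n18359 = n18121 := ((((iv F58731)).symm.trans (sb E15279 (iv F68282)))).symm
theorem E15338 : n18142 = n18140 := ((D18142).symm.trans (sb E15279 (iv F58797)))
theorem E15339 : n18345 = n18118 := (((D18118).symm.trans (sb E15280 (iv F59443)))).symm
theorem E15340 : n18116 = n10853 := (((iv F58712)).symm.trans (sb E15280 F46222))
theorem E15342 : n18119 = n10863 := ((D18119).symm.trans (sb E15280 F46223))
theorem F69074 : act 3 n8333 = n10720 := (sb E15282 F45681)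
theorem E15344 : n10858 = n10718 := ((D10858).symm.trans (sb E15282 (iv D13947)))
theorem F69075 : act 4 n8340 = n10721 := (sb E15284 F45687)
theorem F69076 : act 7 n8340 = n10720 := (sb E15284 (iv D13949))
theorem F69077 : act 6 n8232 = n6391 := (sb E15285 (iv D8337))
theorem F69085 : act 1 n19207 = n14811 := (sb E15293 F62037)
theorem F69086 : act 7 n19207 = n14780 := (sb E15293 (iv D19224))
theorem F69087 : act 3 n10882 = n13958 := (sb E15294 (iv D18138))
theorem E15359 : n14156 = n14152 := ((D14156).symm.trans (sb E15294 F58791))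
theorem F69088 : act 5 n11362 = n13958 := (sb E15295 F58784)
theorem E15360 : n14796 = n14150 := ((D14796).symm.trans (sb E15295 F58785))
theorem F69089 : act 4 n10881 = n13961 := (sb E15297 F58794)
theorem F69090 : act 7 n10881 = n13958 := (sb E15297 (iv D18139))
theorem E15362 : n14121 = n13942 := ((((iv F45661)).symm.trans (sb E15301 (iv F46225)))).symm
theorem E15363 : n13946 = n8334 := (((iv F45678)).symm.trans (sb E15301 F35940))
theorem F69091 : act 6 n10719 = n8332 := (sb E15301 (iv D10857))
theorem E15364 : n13955 = n8716 := (((iv F45710)).symm.trans (sb E15302 F37421))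
theorem F69092 : act 6 n10727 = n8714 := (sb E15302 (iv D11364))
theorem F69093 : act 3 n6678 = n8239 := (sb E15303 F35547)
theorem F69094 : act 5 n6678 = n8238 := (sb E15303 (iv D10731))
theorem F69095 : act 6 n10726 = n8368 := (sb E15305 (iv D10896))
theorem F69096 : act 5 n10852 = n13943 := (sb E15306 F58717)
theorem F69097 : act 3 n6392 = n8233 := (sb E15318 F35516)
theorem F69098 : act 5 n6392 = n8232 := (sb E15318 (iv D10722))
theorem F69099 : act 4 n18141 = n14152 := (sb E15336 (iv D18385))
theorem F69100 : act 4 n18121 = n14131 := (sb E15337 (iv D18359))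
theorem F69101 : act 6 n18140 = n13961 := (sb E15338 (iv D18142))
theorem E15370 : n18386 = n18140 := ((D18386).symm.trans (iv (sb E15338 (tr F58803 E15359))))
theorem F69102 : act 5 n18118 = n14119 := (sb E15339 (iv D18345))
theorem F69103 : act 7 n18118 = n14131 := (sb E15339 F59444)
theorem F69104 : act 3 n10853 = n13943 := (sb E15340 F58712)
theorem E15371 : n14122 = n13941 := ((D14122).symm.trans (sb E15340 (iv D18116)))
theorem F69105 : act 4 n10863 = n13945 := (sb E15342 F58723)
theorem F69106 : act 7 n10863 = n13943 := (sb E15342 (iv D18119))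
theorem F69107 : act 6 n10718 = n8333 := (sb E15344 (iv D10858))
theorem E15373 : n18341 = n18337 := ((((iv F59421)).symm.trans (sb E15359 (iv F59430)))).symm
theorem E15374 : n18387 = n18141 := ((((iv F69099)).symm.trans (sb E15359 (iv F59589)))).symm
theorem E15375 : n18383 = n18373 := (((iv F59577)).symm.trans (sb E15359 (iv F59544)))
theorem F69124 : act 6 n14152 = n10882 := (sb E15359 (iv D14156))
theorem E15376 : n19198 = n18335 := ((((iv F59417)).symm.trans (sb E15360 (iv F61976)))).symm
theorem E15378 : n18367 = n18346 := (((iv F59525)).symm.trans (sb E15360 (iv F59446)))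
theorem F69125 : act 6 n14150 = n11362 := (sb E15360 (iv D14796))
theorem E15379 : n19242 = n18384 := (((D18384).symm.trans (sb E15360 D19242))).symm
theorem E15381 : n18115 = n10854 := (((iv F58708)).symm.trans (sb E15362 F46226))
theorem F69126 : act 6 n13942 = n10852 := (sb E15362 (iv D14121))
theorem F69127 : act 3 n8334 = n10719 := (sb E15363 F45678)
theorem F69128 : act 5 n8334 = n10718 := (sb E15363 (iv D13946))
theorem F69129 : act 3 n8716 = n10727 := (sb E15364 F45710)
theorem F69130 : act 5 n8716 = n10726 := (sb E15364 (iv D13955))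
theorem F69131 : act 3 n18140 = n14153 := (sb E15370 F59586)
theorem F69132 : act 7 n18140 = n14152 := (sb E15370 (iv D18386))
theorem E15386 : n18350 = n18114 := (((D18114).symm.trans (sb E15371 D18350))).symm
theorem F69133 : act 6 n13941 = n10853 := (sb E15371 (iv D14122))
theorem F69134 : act 6 n18337 = n14112 := (sb E15373 (iv D18341))
theorem F69135 : act 6 n18141 = n14153 := (sb E15374 (iv D18387))
theorem F69136 : act 3 n18373 = n14150 := (sb E15375 (iv D18383))
theorem F69137 : act 5 n18373 = n14152 := (sb E15375 F59577)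
theorem F69138 : act 6 n18335 = n14761 := (sb E15376 (iv D19198))
theorem F69139 : act 2 n18346 = n14137 := (sb E15378 (iv D18367))
theorem F69140 : act 4 n18346 = n14150 := (sb E15378 F59525)
theorem F69141 : act 5 n18346 = n14138 := (sb E15378 F59526)
theorem F69142 : act 6 n18384 = n14811 := (sb E15379 F62076)
theorem F69143 : act 3 n10854 = n13942 := (sb E15381 F58708)
theorem F69144 : act 5 n10854 = n13941 := (sb E15381 (iv D18115))
theorem F69145 : act 5 n18114 = n14123 := (sb E15386 F59463)
theorem E15387 : n18362 = n18351 := ((c19_2 F69145 D18351 (iv D18362) (iv F58703))).symm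
theorem F69146 : act 2 n18351 = n14135 := (sb E15387 F59506)
theorem F69147 : act 5 n18351 = n14134 := (sb E15387 (iv D18362))
theorem F69148 : act 6 n16063 = n18351 := d16_0 F69146 F68295 (iv F45217) (iv F68513) (iv F52143)
theorem E15388 : n18572 = n2268 := (c28_21 (iv F21619) D8331 D10855 (iv F46236) D18351 F69146 F46281 F46282 F35988 F35991 F68228 F28399 F22018 (iv F28306) (iv F36491) F36490 (iv F36355) F36356 (iv F36343) (iv F46761) (iv F60155) (iv D2268) (iv D1721) F4748 D1309 F4774 (iv F6181) F6183 (iv F6825) F6823 F6824 D1912 D2521 F8892 F6842 (iv D1566) (iv F5629) F5628 D2056 D2698 D3533 F12257 F68241 (iv F14943) (iv F19271) F19273 D5686 F19302 F19304 F19303 F14924 (iv F14997) F67553 (iv F24540) D9537 F68458 (iv F45087) F45088 (iv D10685) F27490 F21327 F16535 (iv F16500) (iv F21276) (iv F27419) F27417 (iv D8178) (iv D6273) (iv D4807) F12769 F9987 D3720 F12919 F12918 (iv D2841) F7714 F7713 D2170 (iv F9895) D3684 (iv F16383) F16385 F12700 F12698 F9899 D2820 D3693 (iv F16557) D6302 F21354)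
theorem E15389 : n14290 = n2981 := ((((iv F10429)).symm.trans (sb E15388 F60155))).symm
theorem E15390 : n14288 = n2983 := (((D2983).symm.trans (sb E15388 (iv D18572)))).symm
theorem E15391 : n18570 = n3911 := ((((iv F13509)).symm.trans (sb E15389 (iv F60150)))).symm
theorem E15392 : n10980 = n2343 := (((F10428).symm.trans (sb E15389 F46759))).symm
theorem E15393 : n17738 = n2267 := ((((iv D2981)).symm.trans (sb E15389 (iv F68999)))).symm
theorem E15394 : n10979 = n3846 := ((((iv F67144)).symm.trans (sb E15389 (iv D14290)))).symm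
theorem E15395 : n10985 = n3915 := (((D3915).symm.trans (sb E15389 F46761))).symm
theorem E15400 : n10978 = n3845 := (((F67267).symm.trans (sb E15390 (iv D14288)))).symm
theorem E15401 : n17745 = n3894 := ((((iv F13456)).symm.trans (sb E15390 (iv F68727)))).symm
theorem E15403 : n14287 = n5036 := ((((iv F67284)).symm.trans (sb E15391 (iv D18570)))).symm
theorem E15404 : n14294 = n5126 := (((D5126).symm.trans (sb E15391 F60152))).symm
theorem E15405 : n13691 = n2978 := (((F66867).symm.trans (sb E15392 (iv F44905)))).symm
theorem E15406 : n14282 = n1780 := (((F8300).symm.trans (sb E15392 (iv F68873)))).symm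
theorem E15407 : n14263 = n1779 := ((((iv D2343)).symm.trans (sb E15392 (iv F46692)))).symm
theorem E15408 : n8428 = n2931 := ((((iv F66994)).symm.trans (sb E15392 (iv D10980)))).symm
theorem E15409 : n8432 = n3083 := (((D3083).symm.trans (sb E15392 F36329))).symm
theorem E15411 : n13664 = n1721 := ((((iv D2267)).symm.trans (sb E15393 (iv D17738)))).symm
theorem E15412 : n13689 = n2934 := (((F67132).symm.trans (sb E15393 F57593))).symm
theorem E15413 : n14268 = n2982 := (((D2982).symm.trans (sb E15393 F69000))).symm
theorem E15414 : n8427 = n2930 := ((((iv D3846)).symm.trans (sb E15394 (iv D10979)))).symm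
theorem E15415 : n8431 = n5011 := ((((iv F17133)).symm.trans (sb E15394 F36327))).symm
theorem E15417 : n14296 = n5102 := ((((iv F17402)).symm.trans (sb E15395 (iv F46778)))).symm
theorem E15424 : n13690 = n2933 := (((F13308).symm.trans (sb E15400 F68729))).symm
theorem E15425 : n13696 = n5038 := (((D5038).symm.trans (sb E15400 F68730))).symm
theorem E15427 : n14297 = n5101 := ((((iv F17401)).symm.trans (sb E15401 F68726))).symm
theorem E15430 : n17774 = n3848 := ((((iv F67435)).symm.trans (sb E15403 (iv F57690)))).symm
theorem E15431 : n10977 = n3844 := ((((iv D5036)).symm.trans (sb E15403 (iv D14287)))).symm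
theorem E15432 : n10982 = n6547 := ((((iv F22124)).symm.trans (sb E15403 F46755))).symm
theorem E15434 : n17781 = n6584 := (((F67393).symm.trans (sb E15404 (iv F57708)))).symm
theorem E15435 : n18578 = n6668 := ((((iv F22468)).symm.trans (sb E15404 (iv F60171)))).symm
theorem E15438 : n10975 = n2305 := (((F67092).symm.trans (sb E15405 (iv F68784)))).symm
theorem E15439 : n10533 = n2265 := ((((iv D2978)).symm.trans (sb E15405 (iv D13691)))).symm
theorem E15440 : n10537 = n3885 := ((((iv F13436)).symm.trans (sb E15405 F44907))).symm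
theorem E15443 : n10974 = n1348 := (((F6397).symm.trans (sb E15406 (iv D14282)))).symm
theorem E15445 : n10976 = n2306 := ((((iv F66855)).symm.trans (sb E15406 F68874))).symm
theorem E15446 : n11022 = n2331 := ((((iv F8261)).symm.trans (sb E15406 F46744))).symm
theorem E15449 : n10961 = n2233 := (((F66985).symm.trans (sb E15407 (iv D14263)))).symm
theorem E15450 : n10965 = n2344 := (((D2344).symm.trans (sb E15407 F46693))).symm
theorem E15452 : n6462 = n2230 := ((((iv D2931)).symm.trans (sb E15408 (iv D8428)))).symm
theorem E15453 : n6465 = n3827 := ((((iv F13252)).symm.trans (sb E15408 F28189))).symm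
theorem E15455 : n6492 = n4027 := ((((iv F13895)).symm.trans (sb E15409 F28198))).symm
theorem E15458 : n17737 = n2266 := ((((iv F8033)).symm.trans (sb E15411 (iv F57589)))).symm
theorem E15459 : n10514 = n1302 := (((F6184).symm.trans (sb E15411 F44832))).symm
theorem E15460 : n10513 = n1301 := ((((iv D1721)).symm.trans (sb E15411 (iv D13664)))).symm
theorem E15462 : n10532 = n2264 := ((((iv F8028)).symm.trans (sb E15411 F44833))).symm
theorem E15463 : n10516 = n2254 := ((((iv F7999)).symm.trans (sb E15411 F44834))).symm
theorem E15467 : n10960 = n2232 := ((((iv D2934)).symm.trans (sb E15412 F68863))).symm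
theorem E15468 : n10964 = n3833 := ((((iv F13269)).symm.trans (sb E15412 F68864))).symm
theorem E15470 : n17744 = n3893 := ((((iv F13453)).symm.trans (sb E15413 (iv F68748)))).symm
theorem E15473 : n6461 = n2229 := ((((iv D2930)).symm.trans (sb E15414 (iv D8427)))).symm
theorem E15474 : n6464 = n3826 := ((((iv F13249)).symm.trans (sb E15414 F28187))).symm
theorem E15476 : n10983 = n6548 := ((((iv F22125)).symm.trans (sb E15415 (iv F36337)))).symm
theorem E15477 : n6544 = n6468 := (((iv F22113)).symm.trans (sb E15415 F28197))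
theorem E15479 : n11036 = n6641 := ((((iv F22405)).symm.trans (sb E15417 F46777))).symm
theorem E15480 : n18237 = n6671 := ((((iv F22475)).symm.trans (sb E15417 (iv F68092)))).symm
theorem E15498 : n10536 = n3851 := (((D3851).symm.trans (sb E15424 F44904))).symm
theorem E15500 : n10984 = n6549 := ((((iv F22126)).symm.trans (sb E15425 F68634))).symm
theorem E15504 : n11037 = n6640 := ((((iv F22403)).symm.trans (sb E15427 F46780))).symm
theorem E15505 : n18223 = n6670 := ((((iv F22473)).symm.trans (sb E15427 (iv F68093)))).symm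
theorem E15513 : n14260 = n2932 := ((((iv D3848)).symm.trans (sb E15430 F68739))).symm
theorem E15514 : n13688 = n2975 := (((F67436).symm.trans (sb E15430 (iv D17774)))).symm
theorem E15515 : n13693 = n5042 := (((D5042).symm.trans (sb E15430 F57692))).symm
theorem E15516 : n8426 = n2929 := ((((iv D3844)).symm.trans (sb E15431 (iv D10977)))).symm
theorem E15517 : n8429 = n5009 := ((((iv F17129)).symm.trans (sb E15431 F36323))).symm
theorem E15519 : n14292 = n8544 := ((((iv F28532)).symm.trans (sb E15432 (iv F46766)))).symm
theorem E15520 : n8539 = n8434 := (((iv F28519)).symm.trans (sb E15432 F36335))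
theorem E15522 : n14293 = n8545 := ((((iv F28534)).symm.trans (sb E15434 F68724))).symm
theorem E15524 : n14302 = n8709 := (((D8709).symm.trans (sb E15435 F60172))).symm
theorem E15528 : n8425 = n1751 := (((F8176).symm.trans (sb E15438 F36318))).symm
theorem E15529 : n8424 = n1750 := ((((iv D2305)).symm.trans (sb E15438 (iv D10975)))).symm
theorem E15530 : n13687 = n1753 := (((F8177).symm.trans (sb E15438 F68785))).symm
theorem E15531 : n8458 = n3019 := ((((iv F10569)).symm.trans (sb E15438 F36319))).symm
theorem E15533 : n8095 = n1719 := ((((iv D2265)).symm.trans (sb E15439 (iv D10533)))).symm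
theorem E15534 : n8098 = n2959 := ((((iv F10366)).symm.trans (sb E15439 F34927))).symm
theorem E15536 : n8125 = n5072 := ((((iv F17327)).symm.trans (sb E15440 F34938))).symm
theorem E15544 : n14257 = n1752 := ((((iv F66706)).symm.trans (sb E15443 (iv F46678)))).symm
theorem E15549 : n8459 = n3020 := ((((iv F10573)).symm.trans (sb E15445 F36321))).symm
theorem E15551 : n8463 = n3065 := ((((iv F10719)).symm.trans (sb E15446 F68782))).symm
theorem E15554 : n8414 = n1695 := ((((iv D2233)).symm.trans (sb E15449 (iv D10961)))).symm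
theorem E15555 : n8417 = n2921 := ((((iv F10241)).symm.trans (sb E15449 F36285))).symm
theorem E15557 : n8448 = n3066 := ((((iv F10721)).symm.trans (sb E15450 F36295))).symm
theorem E15560 : n4948 = n1693 := ((((iv D2230)).symm.trans (sb E15452 (iv D6462)))).symm
theorem E15561 : n4950 = n2916 := ((((iv F10227)).symm.trans (sb E15452 F21865))).symm
theorem E15563 : n4998 = n4970 := (((iv F17088)).symm.trans (sb E15453 F21871))
theorem E15564 : n5008 = n4953 := (((iv F17125)).symm.trans (sb E15453 F21873))
theorem E15566 : n8468 = n5260 := ((((iv F17922)).symm.trans (sb E15455 (iv F28296)))).symm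
theorem E15567 : n5277 = n4985 := (((iv F17976)).symm.trans (sb E15455 F21946))
theorem E15568 : n5279 = n4974 := ((D5279).symm.trans (sb E15455 F21947))
theorem E15571 : n13666 = n2963 := ((((iv F10377)).symm.trans (sb E15458 F57592))).symm
theorem E15572 : n8081 = n982 := ((((iv D1302)).symm.trans (sb E15459 (iv D10514)))).symm
theorem E15573 : n8083 = n1712 := ((((iv F6159)).symm.trans (sb E15459 F34873))).symm
theorem E15577 : n8094 = n1718 := ((((iv F6176)).symm.trans (sb E15460 F34869))).symm
theorem E15580 : n8097 = n2958 := ((((iv F10364)).symm.trans (sb E15462 F34924))).symm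
theorem E15582 : n13667 = n2964 := (((D2964).symm.trans (sb E15463 D13667))).symm
theorem E15588 : n8413 = n1694 := ((((iv D2232)).symm.trans (sb E15467 (iv D10960)))).symm
theorem E15589 : n8416 = n2920 := ((((iv F10238)).symm.trans (sb E15467 F36284))).symm
theorem E15591 : n13695 = n5019 := ((((iv F17156)).symm.trans (sb E15468 F68747))).symm
theorem E15594 : n13718 = n5080 := ((((iv F17349)).symm.trans (sb E15470 F57609))).symm
theorem E15595 : n13833 = n4888 := ((((iv F16744)).symm.trans (sb E15470 F57610))).symm
theorem E15599 : n4949 = n2915 := ((((iv F10224)).symm.trans (sb E15473 F21864))).symm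
theorem E15601 : n8430 = n5010 := (((D5010).symm.trans (sb E15474 D8430))).symm
theorem E15602 : n5007 = n4952 := (((iv F17121)).symm.trans (sb E15474 F21870))
theorem E15604 : n8522 = n8466 := (((iv F28469)).symm.trans (sb E15476 F36336))
theorem E15605 : n14034 = n8547 := (((D8547).symm.trans (sb E15476 (iv F67934)))).symm
theorem E15606 : n8540 = n8435 := (((iv F28521)).symm.trans (sb E15476 F36338))
theorem F69149 : act 5 n6468 = n5129 := (sb E15477 F67446)
theorem E15607 : n8399 = n5588 := (((iv F28113)).symm.trans (sb E15477 F22112))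
theorem F69150 : act 7 n6468 = n5011 := (sb E15477 F22113)
theorem E15609 : n14364 = n8667 := ((((iv F28897)).symm.trans (sb E15479 (iv F46964)))).symm
theorem E15610 : n14090 = n8670 := ((((iv F28906)).symm.trans (sb E15479 F68086))).symm
theorem E15611 : n13717 = n5079 := ((((iv D6641)).symm.trans (sb E15479 F68771))).symm
theorem E15612 : n8672 = n8474 := ((D8672).symm.trans (sb E15479 F36480))
theorem E15613 : n14066 = n8327 := ((((iv F27870)).symm.trans (sb E15480 F59118))).symm
theorem E15630 : n13694 = n5020 := ((((iv F17157)).symm.trans (sb E15498 (iv F44916)))).symm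
theorem E15633 : n8523 = n8467 := (((iv F28471)).symm.trans (sb E15500 F36339))
theorem E15638 : n14365 = n8666 := ((((iv F28895)).symm.trans (sb E15504 (iv F46967)))).symm
theorem E15641 : n14024 = n8209 := (((F68700).symm.trans (sb E15505 F59075))).symm
theorem E15648 : n10959 = n2231 := ((((iv D2932)).symm.trans (sb E15513 (iv D14260)))).symm
theorem E15649 : n10962 = n3831 := ((((iv F13266)).symm.trans (sb E15513 F46687))).symm
theorem E15651 : n10531 = n2263 := ((((iv D2975)).symm.trans (sb E15514 (iv D13688)))).symm
theorem E15652 : n10534 = n3882 := ((((iv F13429)).symm.trans (sb E15514 F44901))).symm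
theorem E15654 : n17779 = n6558 := ((((iv F22150)).symm.trans (sb E15515 (iv F57703)))).symm
theorem E15655 : n10539 = n6595 := (((D6595).symm.trans (sb E15515 F44914))).symm
theorem E15656 : n6463 = n3825 := ((((iv F13246)).symm.trans (sb E15516 F28185))).symm
theorem E15658 : n10981 = n6546 := (((D6546).symm.trans (sb E15517 D10981))).symm
theorem E15659 : n6542 = n6466 := (((iv F22107)).symm.trans (sb E15517 F28191))
theorem E15661 : n18575 = n11141 := ((((iv F36796)).symm.trans (sb E15519 (iv F60161)))).symm
theorem E15662 : n18232 = n11143 := (((D11143).symm.trans (sb E15519 (iv F68090)))).symm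
theorem E15663 : n11134 = n10987 := (((iv F36776)).symm.trans (sb E15519 F46767))
theorem F69151 : act 5 n8434 = n6701 := (sb E15520 F67602)
theorem E15664 : n10939 = n7300 := (((iv F36223)).symm.trans (sb E15520 F28518))
theorem F69152 : act 7 n8434 = n6547 := (sb E15520 F28519)
theorem E15667 : n18576 = n11142 := ((((iv F36798)).symm.trans (sb E15522 (iv F60164)))).symm
theorem E15668 : n11117 = n11011 := ((((iv F36413)).symm.trans (sb E15522 F46769))).symm
theorem E15669 : n17789 = n11146 := (((D11146).symm.trans (sb E15522 (iv F68561)))).symm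
theorem E15671 : n18586 = n11353 := ((((iv F37391)).symm.trans (sb E15524 (iv F60194)))).symm
theorem E15672 : n18231 = n11358 := ((((iv F37404)).symm.trans (sb E15524 (iv F68089)))).symm
theorem E15673 : n18548 = n6669 := (((F28999).symm.trans (sb E15524 (iv F60099)))).symm
theorem E15681 : n10530 = n1343 := (((F6299).symm.trans (sb E15528 (iv F34917)))).symm
theorem E15682 : n6460 = n1324 := ((((iv D1751)).symm.trans (sb E15528 (iv D8425)))).symm
theorem E15684 : n6485 = n2296 := ((((iv F8142)).symm.trans (sb E15528 F28182))).symm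
theorem E15688 : n6484 = n2295 := ((((iv F8138)).symm.trans (sb E15529 F28180))).symm
theorem E15690 : n10564 = n2298 := ((((iv F8149)).symm.trans (sb E15530 F44898))).symm
theorem E15692 : n10568 = n3962 := (((D3962).symm.trans (sb E15531 F68648))).symm
theorem E15693 : n6214 = n1300 := ((((iv D1719)).symm.trans (sb E15533 (iv D8095)))).symm
theorem E15694 : n6216 = n2250 := ((((iv F7990)).symm.trans (sb E15533 F27133))).symm
theorem E15696 : n6236 = n3871 := ((((iv F13395)).symm.trans (sb E15534 F27141))).symm
theorem E15697 : n6219 = n3881 := ((((iv F13426)).symm.trans (sb E15534 F27143))).symm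
theorem E15699 : n10573 = n6629 := ((((iv F22375)).symm.trans (sb E15536 (iv F35052)))).symm
theorem E15700 : n6620 = n6251 := (((iv F22349)).symm.trans (sb E15536 F27233))
theorem E15701 : n6624 = n6240 := (((iv F22365)).symm.trans (sb E15536 F27234))
theorem E15721 : n10997 = n2297 := ((((iv F8146)).symm.trans (sb E15544 F46679))).symm
theorem E15728 : n6488 = n3956 := ((((iv F13668)).symm.trans (sb E15549 F28273))).symm
theorem E15729 : n11030 = n4013 := ((((iv F13852)).symm.trans (sb E15551 (iv F36462)))).symm
theorem E15730 : n6507 = n4025 := (((D4025).symm.trans (sb E15551 F28284))).symm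
theorem E15736 : n6452 = n1283 := ((((iv D1695)).symm.trans (sb E15554 (iv D8414)))).symm
theorem E15737 : n6454 = n2223 := ((((iv F7900)).symm.trans (sb E15554 F28157))).symm
theorem E15739 : n6477 = n3822 := ((((iv F13232)).symm.trans (sb E15555 F28164))).symm
theorem E15742 : n11008 = n4014 := ((((iv F13855)).symm.trans (sb E15557 (iv F36403)))).symm
theorem E15743 : n6481 = n4028 := (((D4028).symm.trans (sb E15557 F28247))).symm
theorem E15746 : n3782 = n1282 := ((((iv D1693)).symm.trans (sb E15560 (iv D4948)))).symm
theorem E15747 : n3783 = n2220 := ((((iv F7892)).symm.trans (sb E15560 F16940))).symm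
theorem E15749 : n3817 = n3797 := (((iv F13216)).symm.trans (sb E15561 F16944))
theorem E15750 : n3824 = n3785 := (((iv F13242)).symm.trans (sb E15561 F16945))
theorem E15752 : n6531 = n6491 := ((((iv F21943)).symm.trans (sb E15563 (iv F22070)))).symm
theorem F69153 : act 2 n4970 = n3827 := (sb E15563 F17088)
theorem F69154 : act 5 n4970 = n4027 := (sb E15563 (iv F67155))
theorem F69155 : act 5 n4953 = n4047 := (sb E15564 F67288)
theorem E15755 : n6442 = n4268 := (((iv F21813)).symm.trans (sb E15564 F17124))
theorem F69156 : act 7 n4953 = n3827 := (sb E15564 F17125)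
theorem E15756 : n11034 = n6873 := ((((iv F23128)).symm.trans (sb E15566 (iv F36473)))).symm
theorem E15757 : n6876 = n6512 := (((iv F23138)).symm.trans (sb E15566 F28297))
theorem E15758 : n6878 = n6497 := ((D6878).symm.trans (sb E15566 F28298))
theorem F69157 : act 3 n4985 = n4027 := (sb E15567 F17976)
theorem F69158 : act 2 n4974 = n4047 := (sb E15568 F17980)
theorem F69159 : act 7 n4974 = n4027 := (sb E15568 (iv D5279))
theorem E15764 : n17741 = n3890 := (((D3890).symm.trans (sb E15571 D17741))).symm
theorem E15768 : n6205 = n1296 := ((((iv F4736)).symm.trans (sb E15572 F27091))).symm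
theorem E15770 : n6225 = n2247 := ((((iv F7980)).symm.trans (sb E15573 F27096))).symm
theorem E15782 : n6215 = n2249 := ((((iv F7988)).symm.trans (sb E15577 F27131))).symm
theorem E15787 : n10535 = n3883 := (((D3883).symm.trans (sb E15580 D10535))).symm
theorem E15790 : n10551 = n3876 := ((((iv F13409)).symm.trans (sb E15582 F44841))).symm
theorem E15791 : n10634 = n3735 := ((((iv F12962)).symm.trans (sb E15582 F44842))).symm
theorem E15809 : n6453 = n2222 := ((((iv F7898)).symm.trans (sb E15588 F28155))).symm
theorem E15811 : n10963 = n3832 := (((D3832).symm.trans (sb E15589 D10963))).symm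
theorem E15812 : n6456 = n3829 := ((((iv F13259)).symm.trans (sb E15589 F28163))).symm
theorem E15814 : n10572 = n6539 := ((((iv F22096)).symm.trans (sb E15591 F44918))).symm
theorem E15815 : n10652 = n6371 := ((((iv F67453)).symm.trans (sb E15591 F44919))).symm
theorem E15816 : n10968 = n6553 := ((((iv F22140)).symm.trans (sb E15591 (iv F68738)))).symm
theorem E15821 : n17812 = n6637 := ((((iv F22396)).symm.trans (sb E15594 (iv F57806)))).symm
theorem E15822 : n10665 = n6362 := ((((iv F21552)).symm.trans (sb E15594 F44989))).symm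
theorem E15823 : n11014 = n6642 := (((D6642).symm.trans (sb E15594 (iv F68763)))).symm
theorem E15826 : n17972 = n6384 := ((((iv F21613)).symm.trans (sb E15595 (iv F58319)))).symm
theorem E15827 : n17973 = n6385 := (((D6385).symm.trans (sb E15595 D17973))).symm
theorem E15832 : n3818 = n3790 := ((((iv F13135)).symm.trans (sb E15599 F16941))).symm
theorem E15833 : n3823 = n3784 := (((iv F13238)).symm.trans (sb E15599 F16943))
theorem E15835 : n6530 = n6490 := (((iv F22068)).symm.trans (sb E15601 F28192))
theorem E15837 : n6543 = n6467 := (((iv F22109)).symm.trans (sb E15601 F28194))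
theorem E15838 : n6441 = n4267 := (((iv F21810)).symm.trans (sb E15602 F17120))
theorem F69160 : act 7 n4952 = n3826 := (sb E15602 F17121)
theorem E15840 : n11108 = n11032 := ((((iv F36468)).symm.trans (sb E15604 (iv F36702)))).symm
theorem F69161 : act 1 n8466 = n6548 := (sb E15604 F28469)
theorem E15841 : n11111 = n10828 := (((F67927).symm.trans (sb E15604 D11111))).symm
theorem F69162 : act 5 n8466 = n6641 := (sb E15604 (iv F67463))
theorem F69163 : act 6 n8466 = n6640 := (sb E15604 (iv F67471))
theorem E15842 : n11104 = n6495 := (((F28294).symm.trans (sb E15604 (iv F36691)))).symm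
theorem E15844 : n10786 = n10681 := (((F68854).symm.trans (sb E15605 (iv D14034)))).symm
theorem F69164 : act 5 n8435 = n6673 := (sb E15606 F67605)
theorem E15845 : n10784 = n10679 := (((iv F67796)).symm.trans (sb E15606 F68624))
theorem F69165 : act 7 n8435 = n6548 := (sb E15606 F28521)
theorem F69166 : act 6 n5588 = n6468 := (sb E15607 F28113)
theorem E15850 : n18305 = n11302 := ((((iv F37270)).symm.trans (sb E15609 (iv F68073)))).symm
theorem E15851 : n17811 = n6636 := ((((iv D8667)).symm.trans (sb E15609 (iv F68765)))).symm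
theorem E15852 : n11304 = n11042 := ((D11304).symm.trans (sb E15609 F46966))
theorem E15853 : n11307 = n10877 := ((D11307).symm.trans (sb E15610 F46138))
theorem E15854 : n10851 = n10808 := ((((iv F35801)).symm.trans (sb E15610 F46139))).symm
theorem E15855 : n17814 = n6639 := ((((iv D8670)).symm.trans (sb E15610 (iv F68769)))).symm
theorem E15856 : n11308 = n10827 := ((D11308).symm.trans (sb E15610 (iv D14090)))
theorem E15858 : n10556 = n6632 := ((((iv F22386)).symm.trans (sb E15611 F44988))).symm
theorem F69167 : act 1 n8474 = n6673 := (sb E15612 F28910)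
theorem E15859 : n11295 = n10825 := ((((iv F68027)).symm.trans (sb E15612 (iv F37254)))).symm
theorem F69168 : act 7 n8474 = n6641 := (sb E15612 (iv D8672))
theorem E15860 : n18274 = n10845 := ((((iv F35900)).symm.trans (sb E15613 (iv F59235)))).symm
theorem E15861 : n10849 = n10810 := (((iv F35914)).symm.trans (sb E15613 F46071))
theorem E15862 : n17970 = n6382 := ((((iv D8327)).symm.trans (sb E15613 (iv F69013)))).symm
theorem E15863 : n10850 = n10809 := ((D10850).symm.trans (sb E15613 (iv D14066)))
theorem E15885 : n10571 = n6540 := ((((iv F22098)).symm.trans (sb E15630 F44915))).symm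
theorem E15886 : n11105 = n6496 := ((((iv F21955)).symm.trans (sb E15630 (iv F68527)))).symm
theorem E15887 : n10540 = n6563 := (((D6563).symm.trans (sb E15630 F44917))).symm
theorem E15890 : n11109 = n11033 := ((((iv F36471)).symm.trans (sb E15633 (iv F36704)))).symm
theorem F69169 : act 1 n8467 = n6549 := (sb E15633 F28471)
theorem E15891 : n10969 = n6554 := (((F28295).symm.trans (sb E15633 (iv F36305)))).symm
theorem F69170 : act 4 n8467 = n6640 := (sb E15633 (iv F67470))
theorem E15892 : n11114 = n10579 := (((F68483).symm.trans (sb E15633 D11114))).symm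
theorem E15902 : n18287 = n11301 := ((((iv F37268)).symm.trans (sb E15638 (iv F68074)))).symm
theorem E15903 : n17821 = n11289 := ((((iv F37235)).symm.trans (sb E15638 (iv F68545)))).symm
theorem E15907 : n18219 = n10688 := ((((iv F35413)).symm.trans (sb E15641 (iv F59061)))).symm
theorem E15924 : n14242 = n1696 := (((F7928).symm.trans (sb E15648 (iv F46635)))).symm
theorem E15925 : n8415 = n2919 := ((((iv F10236)).symm.trans (sb E15648 F36281))).symm
theorem E15927 : n14264 = n5017 := (((D5017).symm.trans (sb E15649 D14264))).symm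
theorem E15928 : n8418 = n5013 := ((((iv F17141)).symm.trans (sb E15649 F36288))).symm
theorem E15931 : n8096 = n2957 := ((((iv F10361)).symm.trans (sb E15651 F34922))).symm
theorem E15933 : n13692 = n5086 := (((D5086).symm.trans (sb E15652 D13692))).symm
theorem E15934 : n8099 = n5082 := ((((iv F17357)).symm.trans (sb E15652 F34930))).symm
theorem E15936 : n14458 = n8471 := ((((iv F28304)).symm.trans (sb E15654 F68576))).symm
theorem E15937 : n13698 = n8564 := (((D8564).symm.trans (sb E15654 F57704))).symm
theorem F69171 : act 1 n6595 = n8434 := (sb E15655 F34944)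
theorem E15939 : n4999 = n4960 := ((((iv F16972)).symm.trans (sb E15656 F21866))).symm
theorem E15940 : n5006 = n4951 := (((iv F17117)).symm.trans (sb E15656 F21868))
theorem E15942 : n14291 = n8543 := (((D8543).symm.trans (sb E15658 D14291))).symm
theorem E15943 : n8525 = n8449 := ((((iv F28249)).symm.trans (sb E15658 F36331))).symm
theorem E15944 : n8538 = n8433 := (((iv F28514)).symm.trans (sb E15658 F36332))
theorem E15945 : n8397 = n5586 := (((iv F28108)).symm.trans (sb E15659 F22106))
theorem F69172 : act 7 n6466 = n5009 := (sb E15659 F22107)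
theorem E15947 : n14464 = n14361 := (((iv F47273)).symm.trans (sb E15661 F60160))
theorem E15948 : n14498 = n14299 := (((iv F47369)).symm.trans (sb E15661 F60162))
theorem E15949 : n14030 = n13893 := (((F68921).symm.trans (sb E15662 F59104))).symm
theorem E15950 : n14029 = n13892 := (((F68922).symm.trans (sb E15662 (iv D18232)))).symm
theorem F69173 : act 5 n10987 = n8709 := (sb E15663 F67737)
theorem E15951 : n14027 = n13890 := (((iv F67956)).symm.trans (sb E15663 F68678))
theorem F69174 : act 7 n10987 = n8544 := (sb E15663 F36776)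
theorem F69175 : act 6 n7300 = n8434 := (sb E15664 F36223)
theorem E15953 : n14465 = n14362 := (((iv F47276)).symm.trans (sb E15667 F60163))
theorem E15954 : n14475 = n14332 := ((((iv F46879)).symm.trans (sb E15667 F60165))).symm
theorem E15955 : n14478 = n13755 := ((((iv F68632)).symm.trans (sb E15668 (iv F47314)))).symm
theorem E15956 : n14479 = n13754 := (((F68554).symm.trans (sb E15668 D14479))).symm
theorem E15957 : n14304 = n13752 := (((F68506).symm.trans (sb E15669 F68560))).symm
theorem E15958 : n14717 = n14372 := (((iv F48015)).symm.trans (sb E15671 F60193))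
theorem E15959 : n14115 = n14060 := (((iv F46207)).symm.trans (sb E15672 F59100))
theorem E15960 : n14028 = n13891 := (((F68917).symm.trans (sb E15672 (iv D18231)))).symm
theorem E15961 : n14270 = n8552 := (((F67713).symm.trans (sb E15673 (iv D18548)))).symm
theorem E15966 : n8093 = n1012 := ((((iv D1343)).symm.trans (sb E15681 (iv D10530)))).symm
theorem E15967 : n8118 = n1767 := ((((iv F6355)).symm.trans (sb E15681 F34919))).symm
theorem E15969 : n4947 = n999 := ((((iv D1324)).symm.trans (sb E15682 (iv D6460)))).symm
theorem E15970 : n8423 = n1036 := (((F4832).symm.trans (sb E15682 (iv F28177)))).symm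
theorem E15972 : n4965 = n1744 := ((((iv F6275)).symm.trans (sb E15682 F21861))).symm
theorem E15976 : n4967 = n3014 := ((((iv F10550)).symm.trans (sb E15684 F21927))).symm
theorem E15983 : n5549 = n3003 := ((((iv F10505)).symm.trans (sb E15688 F21925))).symm
theorem E15984 : n8121 = n3022 := (((D3022).symm.trans (sb E15690 F35026))).symm
theorem E15985 : n8461 = n5182 := ((((iv F17683)).symm.trans (sb E15692 F68590))).symm
theorem E15986 : n8140 = n5162 := ((((iv F17608)).symm.trans (sb E15692 F35039))).symm
theorem E15987 : n4765 = n981 := ((((iv D1300)).symm.trans (sb E15693 (iv D6214)))).symm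
theorem E15988 : n4766 = n1709 := ((((iv F6153)).symm.trans (sb E15693 F21058))).symm
theorem E15990 : n4780 = n2949 := ((((iv F10336)).symm.trans (sb E15694 F21063))).symm
theorem E15991 : n4768 = n2956 := ((((iv F10358)).symm.trans (sb E15694 F21064))).symm
theorem F69176 : act 0 n3871 = n4970 := (sb E15696 F21133)
theorem E15993 : n8124 = n5071 := ((((iv F17325)).symm.trans (sb E15696 (iv F27229)))).symm
theorem E15994 : n5065 = n4791 := (((iv F17308)).symm.trans (sb E15696 F21134))
theorem E15995 : n5068 = n4783 := (((iv F17319)).symm.trans (sb E15696 F21135))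
theorem F69177 : act 0 n3881 = n4953 := (sb E15697 F21069)
theorem E15997 : n13745 = n8650 := ((((iv F28853)).symm.trans (sb E15699 (iv F45070)))).symm
theorem F69178 : act 2 n6629 = n8467 := (sb E15699 (iv F68481))
theorem E15998 : n8641 = n8145 := (((iv F28827)).symm.trans (sb E15699 F35053))
theorem E15999 : n8646 = n8130 := (((iv F28845)).symm.trans (sb E15699 F35054))
theorem F69179 : act 3 n6251 = n5072 := (sb E15700 F22349)
theorem F69180 : act 2 n6240 = n5085 := (sb E15701 F22362)
theorem F69181 : act 4 n6240 = n5076 := (sb E15701 F22363)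
theorem F69182 : act 7 n6240 = n5072 := (sb E15701 F22365)
theorem E16019 : n8481 = n3005 := ((((iv F10515)).symm.trans (sb E15721 F68796))).symm
theorem E16023 : n8462 = n5183 := ((((iv F17686)).symm.trans (sb E15728 (iv F28280)))).symm
theorem E16024 : n5165 = n4981 := ((F66881).symm.trans (sb E15728 F21936))
theorem F69183 : act 6 n3956 = n4970 := (sb E15728 F21937)
theorem E16025 : n14353 = n5255 := ((((iv F17907)).symm.trans (sb E15729 F68778))).symm
theorem E16026 : n8490 = n5258 := (((D5258).symm.trans (sb E15729 F36463))).symm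
theorem F69184 : act 6 n4025 = n4985 := (sb E15730 F21991)
theorem E16034 : n4941 = n968 := ((((iv D1283)).symm.trans (sb E15736 (iv D6452)))).symm
theorem E16035 : n4942 = n1689 := ((((iv F6085)).symm.trans (sb E15736 F21842))).symm
theorem E16037 : n4959 = n2913 := ((((iv F10215)).symm.trans (sb E15737 F21846))).symm
theorem E16038 : n4944 = n2918 := ((((iv F10233)).symm.trans (sb E15737 F21848))).symm
theorem E16040 : n8447 = n5004 := ((((iv F17106)).symm.trans (sb E15739 (iv F28242)))).symm
theorem E16041 : n5001 = n4962 := (((iv F17101)).symm.trans (sb E15739 F21907))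
theorem E16043 : n14326 = n5256 := ((((iv F17910)).symm.trans (sb E15742 (iv F46863)))).symm
theorem E16044 : n8453 = n5261 := (((D5261).symm.trans (sb E15742 F36406))).symm
theorem F69185 : act 4 n4028 = n4974 := (sb E15743 F21917)
theorem E16045 : n2885 = n967 := ((((iv D1282)).symm.trans (sb E15746 (iv D3782)))).symm
theorem E16047 : n2886 = n1687 := ((((iv D2220)).symm.trans (sb E15747 (iv D3783)))).symm
theorem E16048 : n2914 = n2887 := (((iv F10221)).symm.trans (sb E15747 F13118))
theorem E16050 : n4997 = n4969 := ((((iv F16998)).symm.trans (sb E15749 (iv F17084)))).symm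
theorem F69186 : act 2 n3797 = n2916 := (sb E15749 F13216)
theorem E16053 : n4934 = n3253 := (((iv F16901)).symm.trans (sb E15750 F13241))
theorem F69187 : act 7 n3785 = n2916 := (sb E15750 F13242)
theorem E16054 : n8521 = n8465 := ((((iv F28290)).symm.trans (sb E15752 (iv F28466)))).symm
theorem F69188 : act 5 n6491 = n5260 := (sb E15752 (iv F67299))
theorem F69189 : act 6 n4268 = n4953 := (sb E15755 F21813)
theorem E16059 : n8972 = n8494 := (((iv F29833)).symm.trans (sb E15756 F36474))
theorem E16060 : n8974 = n8472 := ((D8974).symm.trans (sb E15756 F36475))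
theorem F69190 : act 3 n6512 = n5260 := (sb E15757 F23138)
theorem F69191 : act 7 n6497 = n5260 := (sb E15758 (iv D6878))
theorem E16068 : n13830 = n4885 := ((((iv F16738)).symm.trans (sb E15764 F57600))).symm
theorem E16077 : n4759 = n978 := ((((iv D1296)).symm.trans (sb E15768 (iv D6205)))).symm
theorem E16081 : n4772 = n1707 := ((((iv D2247)).symm.trans (sb E15770 (iv D6225)))).symm
theorem E16097 : n4808 = n2845 := ((((iv F10002)).symm.trans (sb E15782 F21059))).symm
theorem E16104 : n8123 = n5070 := ((((iv F17323)).symm.trans (sb E15787 F34931))).symm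
theorem E16105 : n8180 = n4878 := ((((iv F16717)).symm.trans (sb E15787 F34932))).symm
theorem E16106 : n8100 = n5083 := ((((iv F17359)).symm.trans (sb E15787 F34933))).symm
theorem E16109 : n13715 = n5077 := ((((iv F17343)).symm.trans (sb E15790 (iv F44979)))).symm
theorem E16110 : n8189 = n4871 := ((((iv F16695)).symm.trans (sb E15790 F34986))).symm
theorem E16111 : n8112 = n5074 := ((((iv F17334)).symm.trans (sb E15790 F34988))).symm
theorem E16112 : n13832 = n4887 := (((D4887).symm.trans (sb E15791 D13832))).symm
theorem E16113 : n8171 = n4882 := ((((iv F16729)).symm.trans (sb E15791 F35270))).symm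
theorem E16131 : n4943 = n2917 := ((((iv F10230)).symm.trans (sb E15809 F21845))).symm
theorem E16133 : n8446 = n5003 := ((((iv F17105)).symm.trans (sb E15811 F36289))).symm
theorem E16135 : n8419 = n5014 := ((((iv F17142)).symm.trans (sb E15811 F36292))).symm
theorem F69192 : act 5 n3829 = n4952 := (sb E15812 F21852)
theorem E16139 : n8280 = n8200 := (((iv F67615)).symm.trans (sb E15814 F35051))
theorem E16140 : n8527 = n8451 := (((iv F28486)).symm.trans (sb E15814 (iv F68639)))
theorem E16142 : n13858 = n8310 := ((((iv F27826)).symm.trans (sb E15815 (iv F45439)))).symm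
theorem E16143 : n13859 = n8311 := (((D8311).symm.trans (sb E15815 D13859))).symm
theorem E16144 : n13704 = n8557 := (((D8557).symm.trans (sb E15816 F68737))).symm
theorem E16147 : n14334 = n8668 := (((D8668).symm.trans (sb E15821 F68723))).symm
theorem E16149 : n13877 = n8298 := (((D8298).symm.trans (sb E15822 D13877))).symm
theorem F69193 : act 4 n6642 = n8474 := (sb E15823 F36422)
theorem E16150 : n13727 = n8662 := ((((iv F28888)).symm.trans (sb E15823 F68762))).symm
theorem E16152 : n14065 = n8328 := ((((iv F27872)).symm.trans (sb E15826 F69025))).symm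
theorem E16153 : n14063 = n8329 := (((D8329).symm.trans (sb E15826 F69026))).symm
theorem E16154 : n13842 = n8319 := ((((iv F27851)).symm.trans (sb E15827 F58322))).symm
theorem E16157 : n4958 = n2912 := (((iv F16969)).symm.trans (sb E15832 F13221))
theorem E16158 : n4933 = n3252 := (((iv F16899)).symm.trans (sb E15833 F13237))
theorem F69194 : act 7 n3784 = n2915 := (sb E15833 F13238)
theorem F69195 : act 1 n6490 = n5010 := (sb E15835 F22068)
theorem E16161 : n8541 = n8436 := (((D8436).symm.trans (sb E15837 D8541))).symm
theorem F69196 : act 7 n6467 = n5010 := (sb E15837 F22109)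
theorem E16162 : n8398 = n5587 := (((D5587).symm.trans (sb E15838 D8398))).symm
theorem F69197 : act 6 n4267 = n4952 := (sb E15838 F21810)
theorem E16164 : n14466 = n14085 := (((F68059).symm.trans (sb E15840 D14466))).symm
theorem F69198 : act 5 n11032 = n8667 := (sb E15840 (iv F67625))
theorem F69199 : act 6 n11032 = n8666 := (sb E15840 (iv F67633))
theorem F69200 : act 1 n10828 = n8547 := (sb E15841 F36711)
theorem F69201 : act 5 n10828 = n8670 := (sb E15841 (iv F67626))
theorem F69202 : act 6 n10828 = n8669 := (sb E15841 (iv F67634))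
theorem E16167 : n13856 = n8308 := ((((iv F67891)).symm.trans (sb E15842 F68696))).symm
theorem F69203 : act 3 n10681 = n8435 := (sb E15844 F67758)
theorem F69204 : act 6 n10679 = n8435 := (sb E15845 F67796)
theorem E16172 : n14722 = n14145 := ((D14722).symm.trans (sb E15850 F59332))
theorem E16173 : n14116 = n14059 := ((((iv F46049)).symm.trans (sb E15850 F59333))).symm
theorem E16174 : n14723 = n14084 := ((D14723).symm.trans (sb E15850 (iv D18305)))
theorem E16176 : n13721 = n8656 := ((((iv F28870)).symm.trans (sb E15851 F57805))).symm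
theorem F69205 : act 7 n11042 = n8667 := (sb E15852 (iv D11304))
theorem F69206 : act 2 n10877 = n8670 := (sb E15853 (iv D11307))
theorem E16178 : n14064 = n8358 := (((F36012).symm.trans (sb E15853 (iv F46064)))).symm
theorem E16180 : n13874 = n8295 := ((((iv D10808)).symm.trans (sb E15854 F69015))).symm
theorem E16181 : n13724 = n8659 := ((((iv F28879)).symm.trans (sb E15855 F57816))).symm
theorem F69207 : act 1 n10827 = n8712 := (sb E15856 F37285)
theorem E16182 : n13857 = n8309 := ((((iv D10827)).symm.trans (sb E15856 F68943))).symm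
theorem F69208 : act 7 n10827 = n8670 := (sb E15856 (iv D11308))
theorem E16184 : n13726 = n8661 := (((D8661).symm.trans (sb E15858 D13726))).symm
theorem F69209 : act 1 n10825 = n8700 := (sb E15859 F37251)
theorem E16185 : n14114 = n14061 := (((iv F46203)).symm.trans (sb E15860 F59237))
theorem F69210 : act 5 n10810 = n8327 := (sb E15861 F35914)
theorem E16186 : n14052 = n8326 := (((iv F46030)).symm.trans (sb E15861 (iv D10849)))
theorem E16187 : n13839 = n8316 := ((((iv F27844)).symm.trans (sb E15862 F58313))).symm
theorem F69211 : act 4 n10809 = n8712 := (sb E15863 F35917)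
theorem E16188 : n13875 = n8296 := ((((iv D10809)).symm.trans (sb E15863 F68958))).symm
theorem F69212 : act 7 n10809 = n8327 := (sb E15863 (iv D10850))
theorem E16199 : n13743 = n8532 := ((((iv F28497)).symm.trans (sb E15885 (iv F45065)))).symm
theorem F69213 : act 5 n6540 = n8467 := (sb E15885 (iv F68482))
theorem E16200 : n8537 = n8128 := ((D8537).symm.trans (sb E15885 F35050))
theorem E16201 : n13701 = n8476 := (((D8476).symm.trans (sb E15886 F68528))).symm
theorem E16202 : n13703 = n8558 := ((((iv F28567)).symm.trans (sb E15887 D13703))).symm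
theorem F69214 : act 4 n11033 = n8666 := (sb E15890 (iv F67632))
theorem E16205 : n14469 = n13753 := (((F68550).symm.trans (sb E15890 D14469))).symm
theorem F69215 : act 1 n6554 = n8452 := (sb E15891 F36304)
theorem F69216 : act 1 n10579 = n8550 := (sb E15892 F36718)
theorem F69217 : act 4 n10579 = n8660 := (sb E15892 (iv F67635))
theorem E16213 : n14072 = n13865 := (((F68934).symm.trans (sb E15902 F59279))).symm
theorem E16215 : n14069 = n13862 := (((F68689).symm.trans (sb E15903 F68544))).symm
theorem E16218 : n14048 = n13883 := ((((iv F45506)).symm.trans (sb E15907 F59063))).symm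
theorem E16232 : n10948 = n2226 := ((((iv F7911)).symm.trans (sb E15924 F46637))).symm
theorem E16234 : n6526 = n3798 := ((((iv F13157)).symm.trans (sb E15925 F28158))).symm
theorem E16235 : n6455 = n3828 := ((((iv F13256)).symm.trans (sb E15925 F28160))).symm
theorem E16237 : n18537 = n6556 := (((D6556).symm.trans (sb E15927 D18537))).symm
theorem E16239 : n10966 = n6551 := ((((iv F22133)).symm.trans (sb E15927 F46697))).symm
theorem F69218 : act 5 n5013 = n6466 := (sb E15928 F28167)
theorem E16240 : n10923 = n4273 := (((F17140).symm.trans (sb E15928 (iv F36176)))).symm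
theorem E16244 : n6274 = n3728 := ((((iv F12941)).symm.trans (sb E15931 F27135))).symm
theorem E16245 : n6217 = n3879 := ((((iv F13419)).symm.trans (sb E15931 F27137))).symm
theorem E16247 : n17778 = n6648 := (((D6648).symm.trans (sb E15933 D17778))).symm
theorem E16248 : n10649 = n6368 := ((((iv F21572)).symm.trans (sb E15933 F44909))).symm
theorem E16249 : n10538 = n6643 := ((((iv F22412)).symm.trans (sb E15933 F44910))).symm
theorem F69219 : act 1 n5082 = n6466 := (sb E15934 F27145)
theorem E16252 : n18799 = n11040 := ((((iv F36485)).symm.trans (sb E15936 (iv F60821)))).symm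
theorem E16253 : n17999 = n10821 := ((((iv F68020)).symm.trans (sb E15936 (iv F68690)))).symm
theorem E16254 : n17788 = n11044 := (((D11044).symm.trans (sb E15936 (iv F68522)))).symm
theorem E16255 : n17786 = n11165 := ((((iv F36851)).symm.trans (sb E15937 (iv F57724)))).symm
theorem E16258 : n6226 = n3872 := (((iv F21098)).symm.trans (sb E15939 F17090))
theorem E16259 : n6533 = n6478 := (((D6478).symm.trans (sb E15939 D6533))).symm
theorem E16260 : n6475 = n3820 := (((iv F21902)).symm.trans (sb E15939 F17093))
theorem E16261 : n6440 = n4266 := (((iv F21808)).symm.trans (sb E15940 F17116))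
theorem F69220 : act 7 n4951 = n3825 := (sb E15940 F17117)
theorem E16263 : n11107 = n11031 := (((iv F36699)).symm.trans (sb E15942 F46762))
theorem E16264 : n11115 = n11009 := ((((iv F36407)).symm.trans (sb E15942 F46763))).symm
theorem E16265 : n11133 = n10986 := (((iv F36773)).symm.trans (sb E15942 F46764))
theorem E16266 : n11116 = n11010 := (((D11010).symm.trans (sb E15943 D11116))).symm
theorem E16267 : n11004 = n6537 := (((iv F36395)).symm.trans (sb E15943 F28478))
theorem E16268 : n11135 = n10988 := (((D10988).symm.trans (sb E15944 D11135))).symm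
theorem F69221 : act 7 n8433 = n6546 := (sb E15944 F28514)
theorem E16269 : n10938 = n7299 := (((D7299).symm.trans (sb E15945 D10938))).symm
theorem F69222 : act 6 n5586 = n6466 := (sb E15945 F28108)
theorem F69223 : act 0 n14361 = n11141 := (sb E15947 F47273)
theorem E16272 : n17848 = n11124 := (((iv F57912)).symm.trans (sb E15947 (iv F67780)))
theorem E16273 : n18808 = n18298 := ((((iv F68069)).symm.trans (sb E15947 D18808))).symm
theorem F69224 : act 5 n14361 = n11298 := (sb E15947 (iv F67767))
theorem F69225 : act 6 n14361 = n11297 := (sb E15947 (iv F67776))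
theorem E16275 : n18226 = n18047 := (((iv F68062)).symm.trans (sb E15948 (iv F68923)))
theorem F69226 : act 5 n14299 = n11353 := (sb E15948 F67897)
theorem E16276 : n18224 = n18045 := (((iv F68122)).symm.trans (sb E15948 (iv F68674)))
theorem F69227 : act 7 n14299 = n11141 := (sb E15948 F47369)
theorem E16277 : n18228 = n18049 := ((((iv F58524)).symm.trans (sb E15949 (iv F59090)))).symm
theorem E16278 : n18026 = n10806 := (((iv F58470)).symm.trans (sb E15949 F45961))
theorem E16279 : n10782 = n10677 := ((((iv D13893)).symm.trans (sb E15949 (iv D14030)))).symm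
theorem F69228 : act 3 n13892 = n10987 := (sb E15950 F67929)
theorem F69229 : act 6 n13890 = n10987 := (sb E15951 F67956)
theorem F69230 : act 0 n14362 = n11142 := (sb E15953 F47276)
theorem E16284 : n18673 = n11298 := ((D18673).symm.trans (sb E15953 (iv F67774)))
theorem E16285 : n18546 = n11152 := (((F46959).symm.trans (sb E15953 (iv F60093)))).symm
theorem F69231 : act 4 n14362 = n11297 := (sb E15953 (iv F67775))
theorem E16286 : n18812 = n17859 := ((((iv F68542)).symm.trans (sb E15953 D18812))).symm
theorem E16287 : n18825 = n18632 := (((D18632).symm.trans (sb E15954 D18825))).symm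
theorem E16288 : n18824 = n17862 := ((((iv F68711)).symm.trans (sb E15954 (iv F60897)))).symm
theorem E16289 : n18826 = n17860 := ((((iv F68553)).symm.trans (sb E15954 D18826))).symm
theorem E16290 : n17823 = n11291 := (((iv F57841)).symm.trans (sb E15955 F67931))
theorem E16291 : n11270 = n10576 := ((((iv D13755)).symm.trans (sb E15955 F67932))).symm
theorem E16292 : n11128 = n10575 := ((((iv D13754)).symm.trans (sb E15956 F47317))).symm
theorem E16293 : n18589 = n17858 := ((((iv F57936)).symm.trans (sb E15957 (iv F60200)))).symm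
theorem F69232 : act 0 n14372 = n11353 := (sb E15958 F48015)
theorem E16295 : n19137 = n18296 := ((((iv F68068)).symm.trans (sb E15958 (iv F61818)))).symm
theorem E16296 : n18630 = n11300 := (((iv F60319)).symm.trans (sb E15958 F48017))
theorem E16297 : n19119 = n18294 := ((((iv F68258)).symm.trans (sb E15958 (iv F61768)))).symm
theorem F69233 : act 7 n14372 = n11298 := (sb E15958 (iv D14717))
theorem E16298 : n18334 = n18265 := ((((iv F59208)).symm.trans (sb E15959 (iv F59414)))).symm
theorem E16299 : n18271 = n10847 := (((iv F59226)).symm.trans (sb E15959 F46206))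
theorem F69234 : act 4 n14060 = n11358 := (sb E15959 F46207)
theorem E16300 : n18025 = n10805 := (((F46052).symm.trans (sb E15959 (iv F69022)))).symm
theorem E16301 : n18024 = n10804 := ((((iv D14060)).symm.trans (sb E15959 (iv F68914)))).symm
theorem F69235 : act 7 n14060 = n10845 := (sb E15959 (iv D14115))
theorem E16302 : n18225 = n18046 := ((((iv F58517)).symm.trans (sb E15960 (iv F59081)))).symm
theorem E16303 : n10783 = n10678 := (((F45523).symm.trans (sb E15960 F45953))).symm
theorem E16306 : n18002 = n10824 := ((((iv F67749)).symm.trans (sb E15961 (iv F68978)))).symm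
theorem E16307 : n17791 = n11155 := (((D11155).symm.trans (sb E15961 (iv F68732)))).symm
theorem E16316 : n6213 = n761 := ((((iv D1012)).symm.trans (sb E15966 (iv D8093)))).symm
theorem E16318 : n6231 = n1336 := ((((iv F4874)).symm.trans (sb E15966 F27129))).symm
theorem E16320 : n6233 = n2322 := ((((iv F8231)).symm.trans (sb E15967 F27210))).symm
theorem E16321 : n6459 = n779 := (((F3705).symm.trans (sb E15969 (iv F21860)))).symm
theorem E16323 : n3781 = n751 := ((((iv D999)).symm.trans (sb E15969 (iv D4947)))).symm
theorem E16326 : n6483 = n1368 := ((((iv F4993)).symm.trans (sb E15970 F28178))).symm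
theorem E16331 : n3794 = n1320 := ((((iv D1744)).symm.trans (sb E15972 (iv D4965)))).symm
theorem E16333 : n6487 = n3955 := ((((iv F13664)).symm.trans (sb E15976 (iv F21933)))).symm
theorem E16334 : n3795 = n2292 := ((((iv D3014)).symm.trans (sb E15976 (iv D4967)))).symm
theorem F69236 : act 6 n3014 = n3797 := (sb E15976 F16993)
theorem E16342 : n4240 = n2285 := ((((iv D3003)).symm.trans (sb E15983 (iv D5549)))).symm
theorem E16344 : n10567 = n3958 := ((((iv F13673)).symm.trans (sb E15984 (iv F35034)))).symm
theorem E16345 : n6247 = n3944 := ((((iv F13625)).symm.trans (sb E15984 F27221))).symm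
theorem E16346 : n11026 = n6771 := ((((iv F22818)).symm.trans (sb E15985 (iv F36451)))).symm
theorem E16347 : n7251 = n6736 := ((((iv F22699)).symm.trans (sb E15985 F28278))).symm
theorem F69237 : act 6 n5162 = n6251 := (sb E15986 F27285)
theorem E16349 : n3647 = n738 := ((((iv D981)).symm.trans (sb E15987 (iv D4765)))).symm
theorem E16351 : n3648 = n1294 := ((((iv D1709)).symm.trans (sb E15988 (iv D4766)))).symm
theorem E16352 : n3649 = n2248 := ((((iv F7985)).symm.trans (sb E15988 F16338))).symm
theorem F69238 : act 0 n2949 = n3797 := (sb E15990 F16386)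
theorem E16354 : n6235 = n3870 := ((((iv F13392)).symm.trans (sb E15990 (iv F21131)))).symm
theorem E16355 : n3657 = n2244 := ((((iv D2949)).symm.trans (sb E15990 (iv D4780)))).symm
theorem E16356 : n3868 = n3659 := (((iv F13389)).symm.trans (sb E15990 F16387))
theorem F69239 : act 0 n2956 = n3785 := (sb E15991 F16341)
theorem E16358 : n10570 = n6626 := ((((iv F22368)).symm.trans (sb E15993 (iv F35045)))).symm
theorem E16359 : n6619 = n6250 := (((iv F22346)).symm.trans (sb E15993 F27230))
theorem E16360 : n6623 = n6239 := (((iv F22361)).symm.trans (sb E15993 F27231))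
theorem F69240 : act 3 n4791 = n3871 := (sb E15994 F17308)
theorem F69241 : act 2 n4783 = n3881 := (sb E15995 F17317)
theorem F69242 : act 7 n4783 = n3871 := (sb E15995 F17319)
theorem F69243 : act 2 n8650 = n11033 := (sb E15997 (iv F68548))
theorem E16363 : n11263 = n10599 := (((iv F37159)).symm.trans (sb E15997 F45072))
theorem E16364 : n11271 = n10577 := (((iv F37185)).symm.trans (sb E15997 F45073))
theorem E16365 : n11265 = n7257 := ((((iv F68447)).symm.trans (sb E15998 (iv F37165)))).symm
theorem F69244 : act 3 n8145 = n6629 := (sb E15998 F28827)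
theorem F69245 : act 4 n8130 = n6634 := (sb E15999 F28843)
theorem F69246 : act 7 n8130 = n6629 := (sb E15999 F28845)
theorem E16392 : n6503 = n3943 := (((D3943).symm.trans (sb E16019 F28330))).symm
theorem E16397 : n11027 = n6772 := ((((iv F22821)).symm.trans (sb E16023 (iv F36454)))).symm
theorem E16398 : n6749 = n6506 := ((F67020).symm.trans (sb E16023 F28281))
theorem F69247 : act 6 n5183 = n6491 := (sb E16023 F28282)
theorem F69248 : act 3 n4981 = n3956 := (sb E16024 (iv F66881))
theorem F69249 : act 5 n4981 = n4025 := (sb E16024 (iv F66888))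
theorem E16400 : n11064 = n6871 := (((D6871).symm.trans (sb E16025 F68644))).symm
theorem F69250 : act 6 n5258 = n6512 := (sb E16026 F28362)
theorem E16412 : n3777 = n729 := ((((iv D968)).symm.trans (sb E16034 (iv D4941)))).symm
theorem E16414 : n3778 = n1279 := ((((iv D1689)).symm.trans (sb E16035 (iv D4942)))).symm
theorem E16415 : n3779 = n2221 := ((((iv F7896)).symm.trans (sb E16035 F16925))).symm
theorem E16417 : n6476 = n3821 := ((((iv F13229)).symm.trans (sb E16037 (iv F21903)))).symm
theorem E16418 : n3789 = n2218 := ((((iv D2913)).symm.trans (sb E16037 (iv D4959)))).symm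
theorem F69251 : act 5 n2913 = n3797 := (sb E16037 F16970)
theorem E16419 : n3819 = n3791 := (((iv F13225)).symm.trans (sb E16037 F16971))
theorem F69252 : act 5 n2918 = n3785 := (sb E16038 F16929)
theorem E16422 : n6535 = n6480 := (((iv F22085)).symm.trans (sb E16040 F28244))
theorem F69253 : act 0 n4962 = n3874 := (sb E16041 F17097)
theorem F69254 : act 2 n4962 = n3830 := (sb E16041 F17098)
theorem F69255 : act 5 n4962 = n4028 := (sb E16041 F67293)
theorem F69256 : act 7 n4962 = n3822 := (sb E16041 F17101)
theorem E16423 : n11012 = n6874 := (((D6874).symm.trans (sb E16043 F46866))).symm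
theorem F69257 : act 4 n5261 = n6497 := (sb E16044 F28260)
theorem E16424 : n2198 = n1277 := ((((iv F4674)).symm.trans (sb E16045 F10129))).symm
theorem E16427 : n2217 = n2202 := ((((iv F7830)).symm.trans (sb E16047 F10131))).symm
theorem E16428 : n2216 = n2205 := (((iv F7876)).symm.trans (sb E16047 F10132))
theorem E16429 : n2219 = n2199 := (((iv F7888)).symm.trans (sb E16047 F10134))
theorem E16430 : n3772 = n2474 := (((iv F13086)).symm.trans (sb E16048 F10220))
theorem F69258 : act 7 n2887 = n2220 := (sb E16048 F10221)
theorem E16433 : n3816 = n3796 := ((((iv D4969)).symm.trans (sb E16050 (iv D4997)))).symm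
theorem F69259 : act 6 n3253 = n3785 := (sb E16053 F16901)
theorem F69260 : act 5 n8465 = n6873 := (sb E16054 (iv F67465))
theorem F69261 : act 3 n8494 = n6873 := (sb E16059 F29833)
theorem F69262 : act 7 n8472 = n6873 := (sb E16060 (iv D8974))
theorem E16456 : n17966 = n6378 := (((D6378).symm.trans (sb E16068 D17966))).symm
theorem E16458 : n10637 = n6373 := ((((iv F21587)).symm.trans (sb E16068 F45358))).symm
theorem E16474 : n3674 = n1254 := ((((iv F4596)).symm.trans (sb E16077 F16315))).symm
theorem E16482 : n3653 = n2245 := ((((iv F7977)).symm.trans (sb E16081 F16359))).symm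
theorem E16504 : n3678 = n2169 := ((((iv D2845)).symm.trans (sb E16097 (iv D4808)))).symm
theorem E16505 : n6275 = n3729 := (((D3729).symm.trans (sb E16097 D6275))).symm
theorem E16506 : n3726 = n3679 := (((iv F12937)).symm.trans (sb E16097 F16490))
theorem E16514 : n6349 = n6289 := (((iv F21514)).symm.trans (sb E16104 F27227))
theorem E16515 : n6622 = n6238 := (((iv F22358)).symm.trans (sb E16104 F27228))
theorem E16516 : n10651 = n6370 := (((D6370).symm.trans (sb E16105 D10651))).symm
theorem E16517 : n6365 = n6278 := (((iv F21562)).symm.trans (sb E16105 F27425))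
theorem E16518 : n10541 = n6646 := (((D6646).symm.trans (sb E16106 D10541))).symm
theorem E16522 : n10662 = n6359 := ((((iv F21544)).symm.trans (sb E16109 F44980))).symm
theorem E16524 : n6282 = n3724 := ((((iv D4871)).symm.trans (sb E16110 (iv D8189)))).symm
theorem E16525 : n10664 = n6361 := (((D6361).symm.trans (sb E16110 D10664))).symm
theorem E16526 : n6356 = n6285 := (((iv F21536)).symm.trans (sb E16110 F27451))
theorem E16527 : n10557 = n6633 := (((D6633).symm.trans (sb E16111 D10557))).symm
theorem E16528 : n17971 = n6383 := (((D6383).symm.trans (sb E16112 D17971))).symm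
theorem E16529 : n10639 = n6375 := ((((iv F21593)).symm.trans (sb E16112 F45364))).symm
theorem E16530 : n10640 = n6376 := (((D6376).symm.trans (sb E16113 D10640))).symm
theorem F69263 : act 5 n2917 = n3784 := (sb E16131 F16927)
theorem E16552 : n6432 = n2477 := (((F10229).symm.trans (sb E16131 (iv F21783)))).symm
theorem F69264 : act 5 n5003 = n6490 := (sb E16133 F28240)
theorem F69265 : act 7 n5003 = n6479 := (sb E16133 F28241)
theorem F69266 : act 1 n5014 = n6479 := (sb E16135 F28168)
theorem F69267 : act 5 n5014 = n6467 := (sb E16135 F28170)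
theorem F69268 : act 1 n8200 = n6371 := (sb E16139 F27735)
theorem F69269 : act 3 n8200 = n6539 := (sb E16139 F67615)
theorem F69270 : act 5 n8200 = n6362 := (sb E16139 F27738)
theorem F69271 : act 1 n8451 = n6553 := (sb E16140 F28484)
theorem F69272 : act 5 n8451 = n6642 := (sb E16140 F67616)
theorem F69273 : act 7 n8451 = n6539 := (sb E16140 F28486)
theorem F69274 : act 1 n8310 = n10681 := (sb E16142 F45438)
theorem F69275 : act 1 n8311 = n10682 := (sb E16143 F45440)
theorem F69276 : act 6 n8311 = n10661 := (sb E16143 F45441)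
theorem F69277 : act 1 n8557 = n10581 := (sb E16144 F44940)
theorem F69278 : act 3 n8557 = n10661 := (sb E16144 F44941)
theorem F69279 : act 4 n8668 = n11042 := (sb E16147 F46886)
theorem F69280 : act 5 n8298 = n10682 := (sb E16149 F45490)
theorem F69281 : act 6 n8298 = n10674 := (sb E16149 F45491)
theorem F69282 : act 3 n8662 = n10674 := (sb E16150 F45016)
theorem F69283 : act 4 n8662 = n10825 := (sb E16150 (iv F68760))
theorem F69284 : act 5 n8662 = n10581 := (sb E16150 F45017)
theorem E16562 : n18273 = n10846 := ((((iv F35904)).symm.trans (sb E16152 (iv F59232)))).symm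
theorem F69285 : act 3 n8328 = n10810 := (sb E16152 F46067)
theorem F69286 : act 7 n8328 = n10808 := (sb E16152 (iv D14065))
theorem F69287 : act 3 n8329 = n10809 := (sb E16153 F46060)
theorem F69288 : act 5 n8329 = n10808 := (sb E16153 F46061)
theorem E16565 : n10838 = n10807 := (((iv F35888)).symm.trans (sb E16153 (iv D14063)))
theorem E16566 : n17979 = n10834 := ((((iv F35875)).symm.trans (sb E16154 (iv F58336)))).symm
theorem F69289 : act 1 n8319 = n10674 := (sb E16154 F45389)
theorem F69290 : act 5 n8319 = n10661 := (sb E16154 F45391)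
theorem F69291 : act 7 n2912 = n3790 := (sb E16157 F16969)
theorem E16568 : n4233 = n3932 := (((iv F14589)).symm.trans (sb E16158 F16897))
theorem F69292 : act 6 n3252 = n3784 := (sb E16158 F16899)
theorem E16571 : n10941 = n7302 := (((iv F36227)).symm.trans (sb E16161 F28522))
theorem F69293 : act 4 n8436 = n10679 := (sb E16161 (iv F68531))
theorem F69294 : act 5 n8436 = n6554 := (sb E16161 F28523)
theorem F69295 : act 7 n8436 = n10578 := (sb E16161 F68473)
theorem E16572 : n7236 = n6729 := (((iv F24309)).symm.trans (sb E16162 F28110))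
theorem F69296 : act 5 n14085 = n11302 := (sb E16164 (iv F67768))
theorem F69297 : act 6 n14085 = n11301 := (sb E16164 (iv F67782))
theorem F69298 : act 1 n8308 = n10679 := (sb E16167 F45432)
theorem F69299 : act 7 n8308 = n10658 := (sb E16167 F45434)
theorem F69300 : act 2 n14145 = n11302 := (sb E16172 (iv D14722))
theorem E16581 : n18272 = n10883 := (((F46318).symm.trans (sb E16172 (iv F59230)))).symm
theorem E16583 : n18336 = n18264 := ((((iv F59204)).symm.trans (sb E16173 (iv F59419)))).symm
theorem E16584 : n18023 = n10803 := ((((iv D14059)).symm.trans (sb E16173 (iv F69007)))).symm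
theorem E16585 : n18000 = n10822 := ((((iv D14084)).symm.trans (sb E16174 (iv F68933)))).symm
theorem F69301 : act 7 n14084 = n11302 := (sb E16174 (iv D14723))
theorem E16589 : n17822 = n11290 := (((D11290).symm.trans (sb E16176 D17822))).symm
theorem F69302 : act 2 n8358 = n10808 := (sb E16178 (iv D14064))
theorem E16591 : n10797 = n10671 := (((iv F35771)).symm.trans (sb E16180 F45483))
theorem E16592 : n10816 = n10659 := (((F68838).symm.trans (sb E16181 (iv F68759)))).symm
theorem F69303 : act 1 n8309 = n10680 := (sb E16182 F45435)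
theorem E16593 : n10653 = n6372 := (((F27823).symm.trans (sb E16182 F45436))).symm
theorem F69304 : act 7 n8661 = n10825 := (sb E16184 (iv F68761))
theorem E16594 : n18332 = n18267 := ((((iv F59214)).symm.trans (sb E16185 (iv F59409)))).symm
theorem F69305 : act 5 n14061 = n10845 := (sb E16185 F46203)
theorem E16595 : n18256 = n10844 := (((iv F59180)).symm.trans (sb E16185 (iv D14114)))
theorem F69306 : act 6 n8326 = n10810 := (sb E16186 F46030)
theorem E16600 : n10798 = n10672 := (((F68846).symm.trans (sb E16187 (iv F68984)))).symm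
theorem E16601 : n10666 = n6363 := (((F27784).symm.trans (sb E16188 F45484))).symm
theorem F69307 : act 4 n8296 = n10680 := (sb E16188 F45485)
theorem F69308 : act 5 n8532 = n11033 := (sb E16199 (iv F68549))
theorem F69309 : act 1 n8128 = n6563 := (sb E16200 F28510)
theorem F69310 : act 7 n8128 = n6540 := (sb E16200 (iv D8537))
theorem F69311 : act 1 n8476 = n10578 := (sb E16201 F44933)
theorem F69312 : act 4 n8476 = n10658 := (sb E16201 F44935)
theorem F69313 : act 1 n8558 = n10580 := (sb E16202 F44938)
theorem F69314 : act 4 n13753 = n11289 := (sb E16205 (iv F67783))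
theorem E16623 : n18283 = n18011 := ((((iv F58429)).symm.trans (sb E16213 (iv F59262)))).symm
theorem E16627 : n18279 = n18007 := ((((iv F58418)).symm.trans (sb E16215 (iv F59252)))).symm
theorem E16629 : n18252 = n18035 := ((((iv F58491)).symm.trans (sb E16218 (iv F59166)))).symm
theorem E16657 : n8509 = n2904 := ((((iv F10184)).symm.trans (sb E16232 F36248))).symm
theorem E16660 : n5066 = n4781 := ((((iv F16388)).symm.trans (sb E16234 F22052))).symm
theorem E16662 : n4996 = n4968 := ((((iv F16997)).symm.trans (sb E16234 F22055))).symm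
theorem F69315 : act 5 n3828 = n4951 := (sb E16235 F21850)
theorem E16663 : n8386 = n3257 := (((F13255).symm.trans (sb E16235 (iv F28077)))).symm
theorem E16665 : n14323 = n8530 := ((((iv F28493)).symm.trans (sb E16237 F60063))).symm
theorem E16666 : n14456 = n8469 := ((((iv F28299)).symm.trans (sb E16237 F60064))).symm
theorem E16667 : n14269 = n8551 := ((((iv F28549)).symm.trans (sb E16237 F60066))).symm
theorem F69316 : act 5 n6551 = n8433 := (sb E16239 F36300)
theorem E16668 : n14210 = n5595 := (((D5595).symm.trans (sb E16240 D14210))).symm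
theorem E16671 : n4867 = n4815 := ((((iv F16511)).symm.trans (sb E16244 F21268))).symm
theorem E16672 : n8179 = n4877 := (((D4877).symm.trans (sb E16244 D8179))).symm
theorem E16673 : n4874 = n4810 := (((iv F16706)).symm.trans (sb E16244 F21270))
theorem F69317 : act 1 n3879 = n4951 := (sb E16245 F21065)
theorem E16675 : n13742 = n8647 := ((((iv F28846)).symm.trans (sb E16247 F57698))).symm
theorem E16676 : n13852 = n8304 := ((((iv F27809)).symm.trans (sb E16247 F57700))).symm
theorem E16677 : n13697 = n8673 := ((((iv F28914)).symm.trans (sb E16247 F57701))).symm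
theorem E16678 : n13853 = n8305 := (((D8305).symm.trans (sb E16248 D13853))).symm
theorem E16679 : n8299 = n8183 := (((iv F27794)).symm.trans (sb E16248 F35316))
theorem E16680 : n13699 = n8675 := (((D8675).symm.trans (sb E16249 D13699))).symm
theorem E16682 : n14499 = n14300 := ((((iv F46787)).symm.trans (sb E16252 F60820))).symm
theorem F69318 : act 7 n10821 = n13862 := (sb E16253 F58398)
theorem F69319 : act 4 n11044 = n13862 := (sb E16254 F57731)
theorem E16683 : n14488 = n13750 := (((iv F47342)).symm.trans (sb E16255 F57723))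
theorem F69320 : act 2 n11165 = n14299 := (sb E16255 F57725)
theorem F69321 : act 1 n3872 = n4960 := (sb E16258 F21098)
theorem E16685 : n8111 = n5073 := (((D5073).symm.trans (sb E16258 D8111))).symm
theorem E16687 : n8526 = n8450 := (((D8450).symm.trans (sb E16259 D8526))).symm
theorem E16688 : n8445 = n5002 := (((iv F28238)).symm.trans (sb E16259 F22079))
theorem F69322 : act 7 n3820 = n4960 := (sb E16260 F21902)
theorem E16690 : n5540 = n5149 := (((iv F18851)).symm.trans (sb E16261 F21806))
theorem F69323 : act 6 n4266 = n4951 := (sb E16261 F21808)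
theorem F69324 : act 0 n11031 = n8543 := (sb E16263 F36699)
theorem E16692 : n13720 = n8655 := (((iv F44995)).symm.trans (sb E16264 F36722))
theorem E16693 : n14474 = n14331 := (((D14331).symm.trans (sb E16264 D14474))).symm
theorem F69325 : act 7 n10986 = n8543 := (sb E16265 F36773)
theorem F69326 : act 5 n11010 = n8668 := (sb E16266 F67757)
theorem F69327 : act 7 n11010 = n8531 := (sb E16266 F36726)
theorem F69328 : act 5 n6537 = n8464 := (sb E16267 F36394)
theorem F69329 : act 7 n6537 = n8449 := (sb E16267 F36395)
theorem E16694 : n14232 = n9526 := (((iv F46606)).symm.trans (sb E16268 F36778))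
theorem F69330 : act 4 n10988 = n13890 := (sb E16268 (iv F68606))
theorem F69331 : act 5 n10988 = n8553 := (sb E16268 F36779)
theorem F69332 : act 7 n10988 = n13752 := (sb E16268 F68508)
theorem E16695 : n14230 = n9524 := (((D9524).symm.trans (sb E16269 D14230))).symm
theorem E16696 : n9435 = n8781 := (((iv F31309)).symm.trans (sb E16269 F36220))
theorem F69333 : act 2 n11124 = n14361 := (sb E16272 F57912)
theorem F69334 : act 5 n11124 = n14362 := (sb E16272 F68556)
theorem F69335 : act 0 n18298 = n14508 := (sb E16273 F60849)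
theorem F69336 : act 5 n18298 = n14714 := (sb E16273 F67802)
theorem F69337 : act 6 n18298 = n14713 := (sb E16273 F67803)
theorem F69338 : act 0 n18047 = n14079 := (sb E16275 F59083)
theorem F69339 : act 3 n18047 = n14299 := (sb E16275 F68062)
theorem E16699 : n14026 = n13889 := (((F58521).symm.trans (sb E16275 F59085))).symm
theorem F69340 : act 0 n18045 = n14077 := (sb E16276 F59077)
theorem F69341 : act 6 n18045 = n14299 := (sb E16276 F68122)
theorem F69342 : act 0 n18049 = n14081 := (sb E16277 F59089)
theorem F69343 : act 5 n18049 = n14057 := (sb E16277 F59092)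
theorem F69344 : act 5 n10806 = n13893 := (sb E16278 F58470)
theorem F69345 : act 6 n10806 = n13883 := (sb E16278 F58471)
theorem F69346 : act 3 n10677 = n8531 := (sb E16279 F67756)
theorem F69347 : act 5 n10677 = n8293 := (sb E16279 F35724)
theorem E16701 : n8277 = n8197 := ((((iv D10677)).symm.trans (sb E16279 (iv D10782)))).symm
theorem F69348 : act 2 n11298 = n14362 := (sb E16284 (iv D18673))
theorem F69349 : act 0 n11152 = n14332 := (sb E16285 F60091)
theorem F69350 : act 0 n17859 = n14512 := (sb E16286 F60862)
theorem F69351 : act 4 n17859 = n14699 := (sb E16286 F67779)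
theorem F69352 : act 0 n18632 = n14525 := (sb E16287 F60898)
theorem F69353 : act 6 n18632 = n14701 := (sb E16287 F60900)
theorem F69354 : act 0 n17862 = n14524 := (sb E16288 F60895)
theorem F69355 : act 5 n17862 = n14702 := (sb E16288 F68064)
theorem E16705 : n14675 = n13751 := ((((iv D17862)).symm.trans (sb E16288 F68065))).symm
theorem F69356 : act 0 n17860 = n14526 := (sb E16289 F60901)
theorem F69357 : act 3 n11291 = n13883 := (sb E16290 F57840)
theorem F69358 : act 4 n11291 = n14082 := (sb E16290 F68713)
theorem F69359 : act 5 n11291 = n13755 := (sb E16290 F57841)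
theorem E16706 : n13722 = n8657 := ((((iv D11291)).symm.trans (sb E16290 (iv D17823)))).symm
theorem E16707 : n8642 = n8126 := ((((iv D10576)).symm.trans (sb E16291 (iv D11270)))).symm
theorem E16708 : n8643 = n8127 := (((F35058).symm.trans (sb E16292 F67798))).symm
theorem F69360 : act 7 n10575 = n8532 := (sb E16292 (iv D11128))
theorem F69361 : act 0 n17858 = n14375 := (sb E16293 F60199)
theorem F69362 : act 0 n18296 = n14784 := (sb E16295 F61816)
theorem F69363 : act 7 n18296 = n14714 := (sb E16295 (iv D19137))
theorem F69364 : act 4 n11300 = n14372 := (sb E16296 F60319)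
theorem F69365 : act 0 n18294 = n14766 := (sb E16297 F61765)
theorem F69366 : act 4 n18294 = n14702 := (sb E16297 F61767)
theorem F69367 : act 7 n18294 = n14700 := (sb E16297 (iv D19119))
theorem F69368 : act 3 n18265 = n14110 := (sb E16298 F59415)
theorem F69369 : act 4 n18265 = n14784 := (sb E16298 F59416)
theorem F69370 : act 7 n18265 = n14107 := (sb E16298 (iv D18334))
theorem F69371 : act 3 n10847 = n14060 := (sb E16299 F59226)
theorem F69372 : act 5 n10847 = n14059 := (sb E16299 F59227)
theorem E16710 : n14099 = n14058 := (((iv F46165)).symm.trans (sb E16299 (iv D18271)))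
theorem E16711 : n13871 = n8292 := ((((iv D10805)).symm.trans (sb E16300 (iv D18025)))).symm
theorem E16712 : n13873 = n8294 := (((F35789).symm.trans (sb E16301 F58462))).symm
theorem F69373 : act 4 n10804 = n13891 := (sb E16301 F58463)
theorem E16713 : n14046 = n13881 := (((iv F46013)).symm.trans (sb E16301 F58464))
theorem F69374 : act 0 n18046 = n14078 := (sb E16302 F59080)
theorem F69375 : act 4 n18046 = n14054 := (sb E16302 F59082)
theorem E16714 : n13838 = n8315 := (((F35391).symm.trans (sb E16303 (iv F45379)))).symm
theorem F69376 : act 6 n10824 = n13865 := (sb E16306 F58405)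
theorem F69377 : act 3 n11155 = n13865 := (sb E16307 F57737)
theorem E16723 : n4764 = n572 := ((((iv D761)).symm.trans (sb E16316 (iv D6213)))).symm
theorem E16728 : n4777 = n1008 := ((((iv D1336)).symm.trans (sb E16318 (iv D6231)))).symm
theorem E16729 : n8120 = n3053 := ((((iv F10681)).symm.trans (sb E16320 (iv F27217)))).symm
theorem E16730 : n4778 = n1763 := ((((iv D2322)).symm.trans (sb E16320 (iv D6233)))).symm
theorem E16731 : n8422 = n586 := (((F2933).symm.trans (sb E16321 (iv F28176)))).symm
theorem E16732 : n4946 = n585 := ((((iv D779)).symm.trans (sb E16321 (iv D6459)))).symm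
theorem E16737 : n2893 = n996 := ((((iv F3693)).symm.trans (sb E16323 F13113))).symm
theorem E16743 : n4964 = n1032 := ((((iv D1368)).symm.trans (sb E16326 (iv D6483)))).symm
theorem E16747 : n3233 = n1737 := ((((iv F6244)).symm.trans (sb E16331 F13147))).symm
theorem E16748 : n2894 = n1742 := ((((iv F6266)).symm.trans (sb E16331 F13148))).symm
theorem E16751 : n8460 = n5181 := ((((iv F17679)).symm.trans (sb E16333 (iv F28275)))).symm
theorem E16752 : n4966 = n3013 := ((((iv D3955)).symm.trans (sb E16333 (iv D6487)))).symm
theorem F69378 : act 6 n3955 = n4969 := (sb E16333 F21934)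
theorem E16753 : n3012 = n2901 := (((iv F10544)).symm.trans (sb E16334 F13150))
theorem F69379 : act 6 n2292 = n2895 := (sb E16334 F13151)
theorem E16760 : n5550 = n3004 := (((D3004).symm.trans (sb E16342 D5550))).symm
theorem E16761 : n13738 = n5185 := ((((iv F17692)).symm.trans (sb E16344 (iv F45049)))).symm
theorem E16762 : n8139 = n5158 := ((((iv F17594)).symm.trans (sb E16344 F35035))).symm
theorem F69380 : act 0 n3944 = n4981 := (sb E16345 F21173)
theorem E16763 : n4788 = n3051 := ((((iv F66914)).symm.trans (sb E16345 (iv D6247)))).symm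
theorem F69381 : act 6 n3944 = n4791 := (sb E16345 F21174)
theorem E16764 : n9457 = n8790 := ((((iv F29272)).symm.trans (sb E16346 F36452))).symm
theorem E16765 : n5552 = n5155 := ((((iv D6736)).symm.trans (sb E16347 (iv D7251)))).symm
theorem F69382 : act 6 n6736 = n8145 := (sb E16347 F68453)
theorem E16768 : n2788 = n976 := ((((iv F3626)).symm.trans (sb E16349 F12657))).symm
theorem E16771 : n2810 = n1651 := ((((iv F5960)).symm.trans (sb E16351 F12660))).symm
theorem E16772 : n2795 = n1705 := ((((iv F6141)).symm.trans (sb E16351 F12661))).symm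
theorem E16773 : n2789 = n1708 := ((((iv F6150)).symm.trans (sb E16351 F12663))).symm
theorem F69383 : act 0 n2248 = n2887 := (sb E16352 F12664)
theorem E16776 : n8122 = n5069 := ((((iv F17320)).symm.trans (sb E16354 (iv F27224)))).symm
theorem E16777 : n4779 = n2948 := ((((iv D3870)).symm.trans (sb E16354 (iv D6235)))).symm
theorem E16778 : n5067 = n4782 := (((iv F17316)).symm.trans (sb E16354 F21132))
theorem F69384 : act 0 n2244 = n2895 := (sb E16355 F12695)
theorem E16779 : n2946 = n2800 := (((iv F10328)).symm.trans (sb E16355 F12696))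
theorem E16780 : n2947 = n2796 := (((iv F10333)).symm.trans (sb E16355 F12697))
theorem F69385 : act 2 n3659 = n2956 := (sb E16356 F13386)
theorem F69386 : act 5 n3659 = n2951 := (sb E16356 F13387)
theorem F69387 : act 7 n3659 = n2949 := (sb E16356 F13389)
theorem F69388 : act 1 n6626 = n8465 := (sb E16358 F35046)
theorem E16781 : n8638 = n8142 := (((iv F28819)).symm.trans (sb E16358 F35047))
theorem E16782 : n8639 = n8143 := ((((iv F27295)).symm.trans (sb E16359 (iv F28822)))).symm
theorem F69389 : act 3 n6250 = n5071 := (sb E16359 F22346)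
theorem F69390 : act 7 n6239 = n5071 := (sb E16360 F22361)
theorem F69391 : act 3 n10599 = n8650 := (sb E16363 F37159)
theorem F69392 : act 4 n10577 = n8658 := (sb E16364 F37183)
theorem F69393 : act 7 n10577 = n8650 := (sb E16364 F37185)
theorem E16788 : n8774 = n5555 := ((((iv D7257)).symm.trans (sb E16365 (iv F67645)))).symm
theorem F69394 : act 2 n3943 = n4981 := (sb E16392 F21977)
theorem E16812 : n4978 = n3121 := ((((iv F66744)).symm.trans (sb E16392 (iv D6503)))).symm
theorem E16813 : n8795 = n8487 := ((F67173).symm.trans (sb E16397 F36455))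
theorem F69395 : act 6 n6772 = n8465 := (sb E16397 F36456)
theorem F69396 : act 3 n6506 = n5183 := (sb E16398 (iv F67020))
theorem F69397 : act 5 n6506 = n5258 := (sb E16398 (iv F67029))
theorem F69398 : act 6 n6871 = n8494 := (sb E16400 F36560)
theorem E16826 : n2882 = n964 := ((((iv F3583)).symm.trans (sb E16412 F13102))).symm
theorem E16830 : n2890 = n1685 := ((((iv F6071)).symm.trans (sb E16414 F13105))).symm
theorem E16831 : n2883 = n1688 := ((((iv F6082)).symm.trans (sb E16414 F13107))).symm
theorem F69399 : act 5 n2221 = n2887 := (sb E16415 F13108)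
theorem E16832 : n4928 = n1881 := (((F7895).symm.trans (sb E16415 (iv F16884)))).symm
theorem F69400 : act 5 n3821 = n4969 := (sb E16417 F21904)
theorem F69401 : act 7 n3821 = n4961 := (sb E16417 F21905)
theorem F69402 : act 5 n2218 = n2895 := (sb E16418 F13133)
theorem F69403 : act 7 n2218 = n2891 := (sb E16418 F13134)
theorem F69404 : act 0 n3791 = n2951 := (sb E16419 F13222)
theorem F69405 : act 2 n3791 = n2918 := (sb E16419 F13223)
theorem F69406 : act 7 n3791 = n2913 := (sb E16419 F13225)
theorem F69407 : act 5 n6480 = n5261 := (sb E16422 F67457)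
theorem F69408 : act 7 n6480 = n5004 := (sb E16422 F22085)
theorem F69409 : act 4 n6874 = n8472 := (sb E16423 F36417)
theorem E16834 : n1684 = n1673 := ((((iv F6030)).symm.trans (sb E16424 F7817))).symm
theorem E16835 : n1683 = n1675 := (((iv F6064)).symm.trans (sb E16424 F7818))
theorem E16836 : n1670 = n962 := ((((iv D1277)).symm.trans (sb E16424 (iv D2198)))).symm
theorem E16839 : n2792 = n1706 := (((iv F9812)).symm.trans (sb E16427 F7878))
theorem F69410 : act 3 n2205 = n1687 := (sb E16428 F7876)
theorem E16841 : n1686 = n1671 := ((((iv D2199)).symm.trans (sb E16429 (iv D2219)))).symm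
theorem F69411 : act 7 n2199 = n1687 := (sb E16429 F7888)
theorem E16842 : n2878 = n1879 := ((((iv D2474)).symm.trans (sb E16430 (iv D3772)))).symm
theorem F69412 : act 6 n2474 = n2887 := (sb E16430 F13086)
theorem F69413 : act 5 n3796 = n2912 := (sb E16433 F13213)
theorem E16869 : n13835 = n8312 := ((((iv F27831)).symm.trans (sb E16456 F58302))).symm
theorem E16871 : n13837 = n8314 := (((D8314).symm.trans (sb E16458 D13837))).symm
theorem E16893 : n2812 = n1649 := ((((iv F5954)).symm.trans (sb E16474 F12759))).symm
theorem F69414 : act 0 n2245 = n2891 := (sb E16482 F12680)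
theorem E16915 : n2841 = n2813 := ((((iv F9891)).symm.trans (sb E16504 F12773))).symm
theorem E16916 : n4809 = n2846 := (((D2846).symm.trans (sb E16504 D4809))).symm
theorem E16917 : n2844 = n2811 := (((iv F10001)).symm.trans (sb E16504 F12775))
theorem E16918 : n8181 = n4879 := (((D4879).symm.trans (sb E16505 D8181))).symm
theorem E16919 : n4875 = n4811 := (((iv F16710)).symm.trans (sb E16505 F21272))
theorem F69415 : act 2 n3679 = n2955 := (sb E16506 F12933)
theorem F69416 : act 5 n3679 = n2847 := (sb E16506 F12935)
theorem F69417 : act 7 n3679 = n2845 := (sb E16506 F12937)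
theorem F69418 : act 1 n6289 = n4878 := (sb E16514 F21513)
theorem E16927 : n4863 = n4819 := ((((iv D6289)).symm.trans (sb E16514 (iv D6349)))).symm
theorem F69419 : act 3 n6289 = n5070 := (sb E16514 F21514)
theorem F69420 : act 5 n6289 = n4871 := (sb E16514 F21515)
theorem F69421 : act 1 n6238 = n5083 := (sb E16515 F22356)
theorem F69422 : act 5 n6238 = n5074 := (sb E16515 F22357)
theorem F69423 : act 7 n6238 = n5070 := (sb E16515 F22358)
theorem F69424 : act 1 n6370 = n8199 := (sb E16516 F35321)
theorem F69425 : act 7 n6370 = n8185 := (sb E16516 F35323)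
theorem F69426 : act 3 n6278 = n5083 := (sb E16517 F21560)
theorem F69427 : act 5 n6278 = n4882 := (sb E16517 F21561)
theorem F69428 : act 7 n6278 = n4878 := (sb E16517 F21562)
theorem F69429 : act 1 n6646 = n8129 := (sb E16518 F34948)
theorem F69430 : act 3 n6646 = n8186 := (sb E16518 F34949)
theorem E16930 : n8286 = n8192 := (((iv F27758)).symm.trans (sb E16522 F35349))
theorem E16931 : n8190 = n4872 := (((D4872).symm.trans (sb E16524 D8190))).symm
theorem E16932 : n4868 = n4816 := (((iv F16688)).symm.trans (sb E16524 F21296))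
theorem E16933 : n8288 = n8194 := (((iv F27764)).symm.trans (sb E16525 F35356))
theorem F69431 : act 1 n6285 = n4882 := (sb E16526 F21534)
theorem F69432 : act 3 n6285 = n5074 := (sb E16526 F21535)
theorem F69433 : act 7 n6285 = n4871 := (sb E16526 F21536)
theorem F69434 : act 3 n6633 = n8195 := (sb E16527 F35005)
theorem F69435 : act 5 n6633 = n8129 := (sb E16527 F35006)
theorem E16934 : n13840 = n8317 := ((((iv F27846)).symm.trans (sb E16528 F58317))).symm
theorem E16935 : n13841 = n8318 := (((D8318).symm.trans (sb E16529 D13841))).symm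
theorem F69436 : act 1 n6376 = n8195 := (sb E16530 F35284)
theorem F69437 : act 5 n6376 = n8186 := (sb E16530 F35286)
theorem E16941 : n5145 = n3235 := ((((iv F11301)).symm.trans (sb E16552 F21781))).symm
theorem F69438 : act 3 n10846 = n14061 := (sb E16562 F59233)
theorem F69439 : act 7 n10846 = n14059 := (sb E16562 (iv D18273))
theorem F69440 : act 4 n10807 = n8319 := (sb E16565 F35887)
theorem F69441 : act 6 n10807 = n8329 := (sb E16565 F35888)
theorem F69442 : act 5 n10834 = n13865 := (sb E16566 F58338)
theorem E16945 : n3228 = n2998 := ((((iv D3932)).symm.trans (sb E16568 (iv D4233)))).symm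
theorem F69443 : act 2 n3932 = n3252 := (sb E16568 F14589)
theorem E16946 : n5541 = n5150 := (((D5150).symm.trans (sb E16568 D5541))).symm
theorem F69444 : act 7 n3932 = n3229 := (sb E16568 F14592)
theorem F69445 : act 2 n7302 = n8436 := (sb E16571 F36227)
theorem F69446 : act 3 n6729 = n5587 := (sb E16572 F24309)
theorem E16949 : n8640 = n8144 := (((iv F67520)).symm.trans (sb E16572 (iv F68478)))
theorem F69447 : act 7 n6729 = n5544 := (sb E16572 F24311)
theorem F69448 : act 2 n10883 = n14059 := (sb E16581 (iv D18272))
theorem F69449 : act 5 n18264 = n14110 := (sb E16583 F59420)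
theorem F69450 : act 7 n18264 = n14108 := (sb E16583 (iv D18336))
theorem E16954 : n14045 = n13880 := (((iv F46010)).symm.trans (sb E16584 F58460))
theorem E16956 : n14070 = n13863 := (((iv F46084)).symm.trans (sb E16585 F58401))
theorem F69451 : act 7 n11290 = n14082 := (sb E16589 F68754)
theorem F69452 : act 1 n10671 = n8316 := (sb E16591 F35768)
theorem F69453 : act 4 n10671 = n8659 := (sb E16591 F35770)
theorem F69454 : act 7 n10671 = n8295 := (sb E16591 F35771)
theorem E16957 : n8303 = n8187 := (((F35341).symm.trans (sb E16592 F35826))).symm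
theorem F69455 : act 7 n10659 = n8309 := (sb E16592 F35828)
theorem E16958 : n8182 = n4880 := (((F21581).symm.trans (sb E16593 F35325))).symm
theorem F69456 : act 3 n18267 = n14108 := (sb E16594 F59410)
theorem F69457 : act 5 n18267 = n14107 := (sb E16594 F59411)
theorem F69458 : act 6 n18267 = n14106 := (sb E16594 (iv D18332))
theorem F69459 : act 6 n10844 = n14061 := (sb E16595 F59180)
theorem E16960 : n14047 = n13882 := (((F68974).symm.trans (sb E16595 (iv D18256)))).symm
theorem E16964 : n8290 = n8196 := (((F35377).symm.trans (sb E16600 F35773))).symm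
theorem F69460 : act 7 n10672 = n8296 := (sb E16600 F35774)
theorem E16965 : n8191 = n4873 := (((F21553).symm.trans (sb E16601 F35359))).symm
theorem F69461 : act 4 n6363 = n8201 := (sb E16601 F35361)
theorem F69462 : act 3 n18011 = n14524 := (sb E16623 F68070)
theorem F69463 : act 5 n18011 = n14095 := (sb E16623 F59264)
theorem F69464 : act 6 n18011 = n14081 := (sb E16623 F59265)
theorem E16975 : n14068 = n13861 := ((((iv D18011)).symm.trans (sb E16623 (iv D18283)))).symm
theorem F69465 : act 4 n18007 = n14375 := (sb E16627 F68259)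
theorem F69466 : act 7 n18007 = n14077 := (sb E16627 F59254)
theorem F69467 : act 0 n18035 = n14095 := (sb E16629 F59165)
theorem F69468 : act 3 n18035 = n14702 := (sb E16629 F59167)
theorem F69469 : act 6 n18035 = n14057 := (sb E16629 F59168)
theorem E16979 : n14044 = n13879 := ((((iv D18035)).symm.trans (sb E16629 (iv D18252)))).symm
theorem E16993 : n6614 = n3666 := ((((iv F12728)).symm.trans (sb E16657 F28420))).symm
theorem E16995 : n6523 = n3806 := ((((iv F13183)).symm.trans (sb E16657 F28424))).symm
theorem E16998 : n3867 = n3658 := ((((iv D4781)).symm.trans (sb E16660 (iv D5066)))).symm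
theorem E16999 : n6621 = n6237 := (((D6237).symm.trans (sb E16660 D6621))).symm
theorem F69470 : act 5 n4781 = n3872 := (sb E16660 F17310)
theorem E17000 : n6234 = n3869 := (((iv F21130)).symm.trans (sb E16660 F17312))
theorem F69471 : act 5 n4968 = n3820 := (sb E16662 F17082)
theorem E17001 : n6486 = n3954 := (((iv F21931)).symm.trans (sb E16662 F17083))
theorem E17002 : n6722 = n4243 := ((((iv F14627)).symm.trans (sb E16663 F28075))).symm
theorem F69472 : act 5 n8530 = n11031 := (sb E16665 F46855)
theorem F69473 : act 7 n8530 = n11009 := (sb E16665 F46856)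
theorem E17004 : n11268 = n10574 := ((((iv F35055)).symm.trans (sb E16666 F47246))).symm
theorem F69474 : act 0 n8551 = n11009 := (sb E16667 F46709)
theorem F69475 : act 5 n8551 = n10986 := (sb E16667 F46711)
theorem E17005 : n18460 = n7312 := (((D7312).symm.trans (sb E16668 D18460))).symm
theorem E17006 : n11435 = n7254 := ((((iv F24372)).symm.trans (sb E16668 F46543))).symm
theorem E17010 : n3721 = n3682 := ((((iv D4815)).symm.trans (sb E16671 (iv D4867)))).symm
theorem F69476 : act 2 n4815 = n3872 := (sb E16671 F16684)
theorem E17011 : n6355 = n6284 := (((D6284).symm.trans (sb E16671 D6355))).symm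
theorem E17012 : n6281 = n3723 := (((iv F21292)).symm.trans (sb E16671 F16686))
theorem E17013 : n10650 = n6369 := (((D6369).symm.trans (sb E16672 D10650))).symm
theorem E17014 : n6364 = n6277 := (((iv F21559)).symm.trans (sb E16672 F27423))
theorem F69477 : act 2 n4810 = n3879 := (sb E16673 F16702)
theorem F69478 : act 5 n4810 = n3731 := (sb E16673 F16704)
theorem F69479 : act 7 n4810 = n3728 := (sb E16673 F16706)
theorem F69480 : act 2 n8647 = n11031 := (sb E16675 F45062)
theorem E17015 : n10780 = n10675 := (((iv F35717)).symm.trans (sb E16675 F45063))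
theorem E17016 : n10793 = n10667 := ((((iv F35364)).symm.trans (sb E16676 F45422))).symm
theorem E17017 : n17997 = n10819 := (((D10819).symm.trans (sb E16676 D17997))).symm
theorem E17018 : n10811 = n10654 := (((iv F35810)).symm.trans (sb E16676 F45423))
theorem F69481 : act 2 n8673 = n10986 := (sb E16677 F44924)
theorem E17019 : n17787 = n11311 := (((D11311).symm.trans (sb E16677 D17787))).symm
theorem F69482 : act 7 n8305 = n10655 := (sb E16678 F45426)
theorem F69483 : act 3 n8183 = n6643 := (sb E16679 F27792)
theorem F69484 : act 5 n8183 = n6373 := (sb E16679 F27793)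
theorem F69485 : act 7 n8183 = n6368 := (sb E16679 F27794)
theorem F69486 : act 3 n8675 = n10656 := (sb E16680 F44929)
theorem E17022 : n18857 = n18588 := (((D18588).symm.trans (sb E16682 D18857))).symm
theorem F69487 : act 4 n14300 = n18045 := (sb E16682 (iv F68672))
theorem F69488 : act 5 n14300 = n11152 := (sb E16682 F47371)
theorem F69489 : act 7 n14300 = n17858 := (sb E16682 (iv F68502))
theorem F69490 : act 0 n13750 = n11165 := (sb E16683 F47342)
theorem F69491 : act 7 n13750 = n11124 := (sb E16683 (iv D14488))
theorem F69492 : act 1 n5073 = n6478 := (sb E16685 F27187)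
theorem F69493 : act 1 n8450 = n6631 := (sb E16687 F28480)
theorem F69494 : act 5 n8450 = n6874 := (sb E16687 F67622)
theorem F69495 : act 7 n8450 = n6538 := (sb E16687 F28483)
theorem F69496 : act 5 n5002 = n6489 := (sb E16688 F28237)
theorem F69497 : act 7 n5002 = n6478 := (sb E16688 F28238)
theorem F69498 : act 2 n5149 = n4266 := (sb E16690 F18851)
theorem E17026 : n7235 = n6728 := (((D6728).symm.trans (sb E16690 D7235))).symm
theorem F69499 : act 7 n5149 = n4235 := (sb E16690 F18854)
theorem F69500 : act 2 n8655 = n11009 := (sb E16692 F44995)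
theorem E17028 : n17819 = n11287 := (((D11287).symm.trans (sb E16692 D17819))).symm
theorem F69501 : act 0 n14331 = n11151 := (sb E16693 F47300)
theorem F69502 : act 2 n14331 = n11286 := (sb E16693 F47302)
theorem F69503 : act 5 n14331 = n11300 := (sb E16693 F67916)
theorem F69504 : act 7 n14331 = n11123 := (sb E16693 F47303)
theorem E17029 : n18491 = n12411 := ((((iv F40710)).symm.trans (sb E16694 (iv F59936)))).symm
theorem F69505 : act 2 n9526 = n10988 := (sb E16694 F46606)
theorem E17030 : n11261 = n10597 := (((F68459).symm.trans (sb E16694 F67646))).symm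
theorem E17031 : n12290 = n11445 := (((iv F40320)).symm.trans (sb E16695 F46602))
theorem F69506 : act 3 n8781 = n7299 := (sb E16696 F31309)
theorem E17032 : n11262 = n10598 := (((iv F67657)).symm.trans (sb E16696 (iv F68519)))
theorem F69507 : act 7 n8781 = n7239 := (sb E16696 F31311)
theorem F69508 : act 0 n13889 = n10820 := (sb E16699 F45946)
theorem E17034 : n18227 = n18048 := (((D18048).symm.trans (sb E16699 D18227))).symm
theorem F69509 : act 3 n13889 = n11123 := (sb E16699 F67915)
theorem F69510 : act 5 n13889 = n10802 := (sb E16699 F45949)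
theorem E17036 : n6348 = n6288 := ((((iv D8197)).symm.trans (sb E16701 (iv D8277)))).symm
theorem F69511 : act 3 n8197 = n6625 := (sb E16701 F27729)
theorem F69512 : act 5 n8197 = n6359 := (sb E16701 F27730)
theorem E17042 : n19085 = n17861 := (((D17861).symm.trans (sb E16705 D19085))).symm
theorem F69513 : act 3 n8657 = n10669 := (sb E16706 F45002)
theorem F69514 : act 5 n8657 = n10576 := (sb E16706 F45003)
theorem F69515 : act 5 n8126 = n6630 := (sb E16707 F28831)
theorem F69516 : act 7 n8126 = n6625 := (sb E16707 F28832)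
theorem F69517 : act 7 n8127 = n6626 := (sb E16708 F28835)
theorem E17047 : n18316 = n18263 := ((((iv F59201)).symm.trans (sb E16710 (iv F59362)))).symm
theorem F69518 : act 4 n14058 = n10834 := (sb E16710 F46164)
theorem F69519 : act 6 n14058 = n10847 := (sb E16710 F46165)
theorem E17048 : n17978 = n10833 := (((iv F68982)).symm.trans (sb E16710 (iv D14099)))
theorem E17051 : n10794 = n10668 := (((iv F35762)).symm.trans (sb E16711 F45472))
theorem E17052 : n10814 = n10657 := ((((iv F35335)).symm.trans (sb E16712 F45477))).symm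
theorem F69520 : act 4 n8294 = n10678 := (sb E16712 F45479)
theorem E17053 : n10796 = n10670 := (((iv F35767)).symm.trans (sb E16712 F45481))
theorem E17054 : n18249 = n18032 := ((((iv F58483)).symm.trans (sb E16713 (iv F59159)))).symm
theorem F69521 : act 7 n13881 = n10804 := (sb E16713 F46013)
theorem E17055 : n10641 = n6377 := (((F27838).symm.trans (sb E16714 F45378))).symm
theorem E17056 : n17977 = n10832 := ((((iv F35870)).symm.trans (sb E16714 (iv F58331)))).symm
theorem E17074 : n3655 = n758 := ((((iv F2856)).symm.trans (sb E16723 F16332))).symm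
theorem E17080 : n3656 = n1334 := ((((iv F4867)).symm.trans (sb E16728 F16377))).symm
theorem E17082 : n6232 = n2321 := ((((iv D3053)).symm.trans (sb E16729 (iv D8120)))).symm
theorem E17083 : n3663 = n2320 := ((((iv F8225)).symm.trans (sb E16730 F16380))).symm
theorem E17085 : n6458 = n437 := ((((iv D586)).symm.trans (sb E16731 (iv D8422)))).symm
theorem E17087 : n3793 = n776 := ((((iv F2922)).symm.trans (sb E16732 F16934))).symm
theorem E17096 : n2460 = n1314 := ((((iv F4792)).symm.trans (sb E16737 F10153))).symm
theorem E17097 : n2204 = n1318 := ((((iv F4809)).symm.trans (sb E16737 F10154))).symm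
theorem E17103 : n4239 = n1361 := ((((iv F4965)).symm.trans (sb E16743 F16984))).symm
theorem E17104 : n3802 = n1366 := ((((iv F4984)).symm.trans (sb E16743 F16985))).symm
theorem E17108 : n2461 = n2283 := ((((iv F8092)).symm.trans (sb E16747 F11295))).symm
theorem E17109 : n2291 = n2209 := (((iv F8125)).symm.trans (sb E16748 F10156))
theorem F69522 : act 6 n5181 = n6489 := (sb E16751 F28276)
theorem E17110 : n4241 = n3935 := ((((iv F13590)).symm.trans (sb E16752 F16989))).symm
theorem E17111 : n3952 = n3804 := (((iv F13654)).symm.trans (sb E16752 F16990))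
theorem F69523 : act 6 n3013 = n3796 := (sb E16752 F16991)
theorem F69524 : act 4 n2901 = n2292 := (sb E16753 F10544)
theorem E17118 : n4242 = n3936 := ((((iv F13594)).symm.trans (sb E16760 F18888))).symm
theorem E17119 : n10592 = n6739 := ((((iv F22709)).symm.trans (sb E16761 F45051))).symm
theorem E17121 : n6246 = n4005 := ((((iv F67061)).symm.trans (sb E16762 (iv D8139)))).symm
theorem F69525 : act 6 n5158 = n6250 := (sb E16762 F27281)
theorem F69526 : act 0 n3051 = n3805 := (sb E16763 F16414)
theorem F69527 : act 6 n3051 = n3665 := (sb E16763 F16416)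
theorem F69528 : act 6 n8790 = n10599 := (sb E16764 F68490)
theorem E17123 : n6723 = n4244 := (((iv F22655)).symm.trans (sb E16765 F18896))
theorem E17127 : n2142 = n1252 := ((((iv F4589)).symm.trans (sb E16768 F9796))).symm
theorem E17128 : n2132 = n1290 := ((((iv F4721)).symm.trans (sb E16768 F9797))).symm
theorem E17129 : n2127 = n733 := ((((iv D976)).symm.trans (sb E16768 (iv D2788)))).symm
theorem E17132 : n2166 = n2145 := ((((iv F7636)).symm.trans (sb E16771 F9880))).symm
theorem E17133 : n2164 = n2146 := (((iv F7706)).symm.trans (sb E16771 F9881))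
theorem E17134 : n2168 = n2143 := (((iv F7721)).symm.trans (sb E16771 F9883))
theorem F69529 : act 0 n1705 = n2205 := (sb E16772 F9823)
theorem E17135 : n2242 = n2136 := (((iv F7968)).symm.trans (sb E16772 F9825))
theorem E17136 : n2243 = n2133 := (((iv F7972)).symm.trans (sb E16772 F9826))
theorem F69530 : act 0 n1708 = n2199 := (sb E16773 F9799)
theorem E17137 : n2128 = n1293 := ((((iv D1708)).symm.trans (sb E16773 (iv D2789)))).symm
theorem F69531 : act 1 n5069 = n6489 := (sb E16776 F27225)
theorem E17139 : n3718 = n3684 := (((iv F12911)).symm.trans (sb E16777 F16383))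
theorem E17140 : n3865 = n3664 := (((iv F13377)).symm.trans (sb E16777 F16384))
theorem F69532 : act 5 n4782 = n3873 := (sb E16778 F17314)
theorem F69533 : act 7 n4782 = n3870 := (sb E16778 F17316)
theorem F69534 : act 4 n2800 = n2244 := (sb E16779 F10328)
theorem F69535 : act 5 n2796 = n2245 := (sb E16780 F10331)
theorem F69536 : act 7 n2796 = n2244 := (sb E16780 F10333)
theorem F69537 : act 3 n8142 = n6626 := (sb E16781 F28819)
theorem F69538 : act 6 n8143 = n6729 := (sb E16782 (iv F67497))
theorem F69539 : act 5 n5555 = n6729 := (sb E16788 F29221)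
theorem F69540 : act 2 n3121 = n3805 := (sb E16812 F17021)
theorem F69541 : act 3 n8487 = n6772 := (sb E16813 (iv F67173))
theorem F69542 : act 5 n8487 = n6871 := (sb E16813 (iv F67183))
theorem E17190 : n2201 = n1275 := ((((iv F4667)).symm.trans (sb E16826 F10121))).symm
theorem E17191 : n2195 = n725 := ((((iv D964)).symm.trans (sb E16826 (iv D2882)))).symm
theorem F69543 : act 5 n1685 = n2205 := (sb E16830 F10145)
theorem F69544 : act 7 n1685 = n2202 := (sb E16830 F10146)
theorem F69545 : act 3 n1688 = n2202 := (sb E16831 F10124)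
theorem F69546 : act 5 n1688 = n2199 := (sb E16831 F10125)
theorem E17194 : n2196 = n1278 := ((((iv D1688)).symm.trans (sb E16831 (iv D2883)))).symm
theorem E17195 : n3768 = n1424 := ((((iv D1881)).symm.trans (sb E16832 (iv D4928)))).symm
theorem E17197 : n2130 = n1291 := (((iv F7579)).symm.trans (sb E16834 F6066))
theorem F69547 : act 3 n1675 = n1277 := (sb E16835 F6064)
theorem E17200 : n1273 = n1268 := ((((iv D1675)).symm.trans (sb E16835 (iv D1683)))).symm
theorem E17201 : n1276 = n1266 := ((D1276).symm.trans (sb E16836 (iv D1670)))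
theorem F69548 : act 0 n1706 = n2202 := (sb E16839 F9812)
theorem E17204 : n2193 = n1422 := (((iv F7803)).symm.trans (sb E16841 F6074))
theorem E17205 : n2457 = n2281 := (((iv F8695)).symm.trans (sb E16842 F10107))
theorem E17220 : n17975 = n10830 := (((D10830).symm.trans (sb E16869 D17975))).symm
theorem F69549 : act 5 n8314 = n10656 := (sb E16871 F45377)
theorem E17247 : n3681 = n2167 := (((D2167).symm.trans (sb E16893 D3681))).symm
theorem E17273 : n3722 = n3683 := (((D3683).symm.trans (sb E16915 D3722))).symm
theorem E17274 : n3719 = n3685 := (((iv F12914)).symm.trans (sb E16916 F16492))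
theorem E17275 : n6276 = n3730 := (((D3730).symm.trans (sb E16916 D6276))).symm
theorem E17276 : n3727 = n3680 := (((iv F12940)).symm.trans (sb E16916 F16493))
theorem F69550 : act 5 n2811 = n2170 := (sb E16917 F9999)
theorem F69551 : act 7 n2811 = n2169 := (sb E16917 F10001)
theorem F69552 : act 7 n4879 = n6279 := (sb E16918 F27428)
theorem F69553 : act 5 n4811 = n3732 := (sb E16919 F16708)
theorem F69554 : act 7 n4811 = n3729 := (sb E16919 F16710)
theorem F69555 : act 5 n4819 = n3724 := (sb E16927 F16673)
theorem F69556 : act 3 n8192 = n6630 := (sb E16930 F27757)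
theorem F69557 : act 7 n8192 = n6359 := (sb E16930 F27758)
theorem E17280 : n6357 = n6286 := (((iv F21539)).symm.trans (sb E16931 F27455))
theorem F69558 : act 7 n4816 = n3724 := (sb E16932 F16688)
theorem F69559 : act 1 n8194 = n6375 := (sb E16933 F27762)
theorem F69560 : act 7 n8194 = n6361 := (sb E16933 F27764)
theorem F69561 : act 1 n8317 = n10672 := (sb E16934 F45383)
theorem F69562 : act 4 n8317 = n10659 := (sb E16934 F45385)
theorem F69563 : act 1 n8318 = n10673 := (sb E16935 F45386)
theorem F69564 : act 7 n8318 = n10807 := (sb E16935 (iv F68986))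
theorem E17286 : n3930 = n2462 := ((((iv D3235)).symm.trans (sb E16941 (iv D5145)))).symm
theorem F69565 : act 5 n3235 = n3932 := (sb E16941 F17550)
theorem E17289 : n4234 = n3933 := (((D3933).symm.trans (sb E16945 D4234))).symm
theorem F69566 : act 7 n2998 = n2458 := (sb E16945 F11277)
theorem E17290 : n7237 = n6730 := (((D6730).symm.trans (sb E16946 D7237))).symm
theorem F69567 : act 7 n5150 = n4236 := (sb E16946 F18857)
theorem F69568 : act 4 n8144 = n6729 := (sb E16949 F67520)
theorem E17296 : n18248 = n18031 := ((((iv F58482)).symm.trans (sb E16954 (iv F59155)))).symm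
theorem F69569 : act 4 n13880 = n11288 := (sb E16954 F46009)
theorem F69570 : act 7 n13880 = n10803 := (sb E16954 F46010)
theorem E17298 : n18280 = n18008 := ((((iv F58420)).symm.trans (sb E16956 (iv F59255)))).symm
theorem F69571 : act 7 n13863 = n10822 := (sb E16956 F46084)
theorem E17299 : n6367 = n6280 := (((F27442).symm.trans (sb E16957 F27804))).symm
theorem F69572 : act 7 n8187 = n6372 := (sb E16957 F27808)
theorem E17300 : n6358 = n6287 := ((((iv F21309)).symm.trans (sb E16958 F27429))).symm
theorem F69573 : act 2 n4880 = n6291 := (sb E16958 F27430)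
theorem E17302 : n18250 = n18033 := ((((iv F58486)).symm.trans (sb E16960 (iv F59162)))).symm
theorem F69574 : act 7 n8196 = n6363 := (sb E16964 F27769)
theorem F69575 : act 4 n4873 = n6291 := (sb E16965 F27458)
theorem E17321 : n18282 = n18010 := (((D18010).symm.trans (sb E16975 D18282))).symm
theorem E17322 : n18251 = n18034 := (((D18034).symm.trans (sb E16979 D18251))).symm
theorem E17336 : n5063 = n4789 := ((((iv F16421)).symm.trans (sb E16993 F22331))).symm
theorem E17337 : n5178 = n4979 := ((((iv F17027)).symm.trans (sb E16995 F22044))).symm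
theorem F69576 : act 5 n3658 = n2950 := (sb E16998 F13383)
theorem F69577 : act 7 n3658 = n2948 := (sb E16998 F13385)
theorem F69578 : act 5 n6237 = n5073 := (sb E16999 F22353)
theorem F69579 : act 7 n6237 = n5069 := (sb E16999 F22355)
theorem F69580 : act 1 n3869 = n4968 := (sb E17000 F21127)
theorem F69581 : act 2 n3869 = n4818 := (sb E17000 F21128)
theorem F69582 : act 7 n3869 = n4781 := (sb E17000 F21130)
theorem E17340 : n5551 = n5154 := ((((iv F17581)).symm.trans (sb E17001 F21929))).symm
theorem F69583 : act 6 n3954 = n4968 := (sb E17001 F21931)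
theorem E17341 : n8773 = n5554 := (((D5554).symm.trans (sb E17002 D8773))).symm
theorem F69584 : act 5 n4243 = n5149 := (sb E17002 F22651)
theorem F69585 : act 0 n10574 = n8673 := (sb E17004 F37173)
theorem F69586 : act 5 n10574 = n8655 := (sb E17004 F37174)
theorem F69587 : act 7 n10574 = n8647 := (sb E17004 F37175)
theorem E17342 : n14885 = n9462 := ((((iv F31403)).symm.trans (sb E17005 F59841))).symm
theorem F69588 : act 5 n7254 = n8781 := (sb E17006 F37665)
theorem F69589 : act 2 n3682 = n2950 := (sb E17010 F12920)
theorem F69590 : act 7 n3682 = n2842 := (sb E17010 F12922)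
theorem E17346 : n8287 = n8193 := (((D8193).symm.trans (sb E17011 D8287))).symm
theorem F69591 : act 7 n6284 = n4870 := (sb E17011 F21533)
theorem F69592 : act 5 n3723 = n4818 := (sb E17012 F21290)
theorem F69593 : act 7 n3723 = n4815 := (sb E17012 F21292)
theorem F69594 : act 7 n6369 = n8184 := (sb E17013 F35320)
theorem F69595 : act 5 n6277 = n4881 := (sb E17014 F21557)
theorem F69596 : act 7 n6277 = n4877 := (sb E17014 F21559)
theorem F69597 : act 0 n10675 = n8304 := (sb E17015 F35716)
theorem F69598 : act 3 n10675 = n8647 := (sb E17015 F35717)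
theorem F69599 : act 5 n10675 = n8291 := (sb E17015 F35718)
theorem F69600 : act 0 n10667 = n8312 := (sb E17016 F35757)
theorem F69601 : act 3 n10667 = n8655 := (sb E17016 F35758)
theorem E17347 : n14043 = n13878 := (((D13878).symm.trans (sb E17016 D14043))).symm
theorem F69602 : act 7 n10667 = n8291 := (sb E17016 F35759)
theorem F69603 : act 0 n10819 = n13888 := (sb E17017 F58390)
theorem F69604 : act 7 n10819 = n13860 := (sb E17017 F58393)
theorem F69605 : act 3 n10654 = n8673 := (sb E17018 F35808)
theorem F69606 : act 5 n10654 = n8312 := (sb E17018 F35809)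
theorem F69607 : act 7 n10654 = n8304 := (sb E17018 F35810)
theorem F69608 : act 0 n11311 = n13751 := (sb E17019 F57726)
theorem F69609 : act 3 n11311 = n13861 := (sb E17019 F57728)
theorem F69610 : act 1 n18588 = n16155 := (sb E17022 F60991)
theorem F69611 : act 5 n18588 = n14525 := (sb E17022 F60992)
theorem F69612 : act 6 n18588 = n14732 := (sb E17022 F60993)
theorem E17349 : n9436 = n8782 := (((D8782).symm.trans (sb E17026 D9436))).symm
theorem F69613 : act 7 n6728 = n5543 := (sb E17026 F24307)
theorem F69614 : act 3 n11287 = n13879 := (sb E17028 F57827)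
theorem F69615 : act 5 n11287 = n13751 := (sb E17028 F57828)
theorem E17350 : n14664 = n13780 := (((F68498).symm.trans (sb E17029 F67818))).symm
theorem F69616 : act 6 n10597 = n8781 := (sb E17030 (iv F67644))
theorem F69617 : act 3 n11445 = n9524 := (sb E17031 F40320)
theorem E17352 : n14665 = n13781 := (((iv F67828)).symm.trans (sb E17031 (iv F68615)))
theorem F69618 : act 7 n11445 = n9440 := (sb E17031 F40322)
theorem F69619 : act 4 n10598 = n8781 := (sb E17032 F67657)
theorem F69620 : act 0 n18048 = n14080 := (sb E17034 F59086)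
theorem F69621 : act 3 n18048 = n14712 := (sb E17034 F68061)
theorem F69622 : act 5 n18048 = n14056 := (sb E17034 F59088)
theorem F69623 : act 5 n6288 = n4870 := (sb E17036 F21511)
theorem F69624 : act 0 n17861 = n14732 := (sb E17042 F61665)
theorem F69625 : act 5 n17861 = n14701 := (sb E17042 F61667)
theorem F69626 : act 4 n18263 = n14095 := (sb E17047 F59363)
theorem F69627 : act 6 n18263 = n14110 := (sb E17047 F59364)
theorem F69628 : act 7 n18263 = n14093 := (sb E17047 (iv D18316))
theorem F69629 : act 7 n10833 = n14058 := (sb E17048 F68982)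
theorem F69630 : act 7 n10668 = n8292 := (sb E17051 F35762)
theorem F69631 : act 4 n10657 = n8315 := (sb E17052 F35820)
theorem F69632 : act 7 n10657 = n8307 := (sb E17052 F35822)
theorem F69633 : act 7 n10670 = n8294 := (sb E17053 F35767)
theorem F69634 : act 0 n18032 = n14092 := (sb E17054 F59158)
theorem F69635 : act 7 n18032 = n14054 := (sb E17054 F59160)
theorem F69636 : act 4 n6377 = n8187 := (sb E17055 F35288)
theorem F69637 : act 4 n10832 = n13863 := (sb E17056 F58332)
theorem E17371 : n2794 = n1006 := ((((iv F3731)).symm.trans (sb E17074 F12690))).symm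
theorem E17376 : n2799 = n1762 := ((((iv F6339)).symm.trans (sb E17080 F12693))).symm
theorem E17377 : n4787 = n3050 := ((((iv F10672)).symm.trans (sb E17082 F21121))).symm
theorem F69638 : act 0 n2320 = n2901 := (sb E17083 F12717)
theorem F69639 : act 6 n2320 = n2800 := (sb E17083 F12719)
theorem E17381 : n4963 = n583 := ((((iv F2232)).symm.trans (sb E17085 F21855))).symm
theorem E17384 : n3232 = n1026 := ((((iv F3801)).symm.trans (sb E17087 F13144))).symm
theorem E17385 : n2899 = n1030 := ((((iv F3817)).symm.trans (sb E17087 F13145))).symm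
theorem E17397 : n1870 = n1735 := ((((iv F6236)).symm.trans (sb E17096 F8710))).symm
theorem F69640 : act 2 n1318 = n1675 := (sb E17097 F7836)
theorem E17399 : n1741 = n1678 := (((iv F6263)).symm.trans (sb E17097 F7837))
theorem E17400 : n1674 = n994 := ((((iv D1318)).symm.trans (sb E17097 (iv D2204)))).symm
theorem E17404 : n3241 = n1795 := ((((iv F6454)).symm.trans (sb E17103 F14614))).symm
theorem E17405 : n2900 = n1803 := ((((iv F6483)).symm.trans (sb E17104 F13169))).symm
theorem E17408 : n3234 = n3000 := (((D3000).symm.trans (sb E17108 D3234))).symm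
theorem E17409 : n2999 = n1875 := (((iv F10493)).symm.trans (sb E17108 F8712))
theorem F69641 : act 4 n2209 = n1742 := (sb E17109 F8125)
theorem E17410 : n5152 = n3243 := (((iv F17573)).symm.trans (sb E17110 F14620))
theorem F69642 : act 6 n3935 = n3235 := (sb E17110 F14621)
theorem F69643 : act 4 n3804 = n3013 := (sb E17111 F13654)
theorem E17417 : n5146 = n3236 := (((iv F17555)).symm.trans (sb E17118 F14624))
theorem F69644 : act 1 n6739 = n8487 := (sb E17119 F35116)
theorem E17418 : n8137 = n5245 := ((((iv F67209)).symm.trans (sb E17119 (iv D10592)))).symm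
theorem F69645 : act 6 n6739 = n8142 := (sb E17119 F35117)
theorem F69646 : act 6 n4005 = n4790 := (sb E17121 F21171)
theorem F69647 : act 5 n4244 = n5150 := (sb E17123 F22654)
theorem F69648 : act 6 n4244 = n5155 := (sb E17123 F22655)
theorem E17423 : n1648 = n1633 := ((((iv F5894)).symm.trans (sb E17127 F7626))).symm
theorem E17424 : n1646 = n1634 := (((iv F5944)).symm.trans (sb E17127 F7627))
theorem E17425 : n1630 = n946 := ((((iv D1252)).symm.trans (sb E17127 (iv D2142)))).symm
theorem F69649 : act 0 n1290 = n1675 := (sb E17128 F7588)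
theorem E17426 : n1703 = n1627 := (((iv F6136)).symm.trans (sb E17128 F7590))
theorem E17427 : n1624 = n972 := ((((iv D1290)).symm.trans (sb E17128 (iv D2132)))).symm
theorem E17428 : n1622 = n975 := (((D975).symm.trans (sb E17129 (iv D2127)))).symm
theorem F69650 : act 1 n2145 = n1706 := (sb E17132 F7712)
theorem F69651 : act 3 n2145 = n1652 := (sb E17132 F7713)
theorem F69652 : act 7 n2145 = n1649 := (sb E17132 F7715)
theorem F69653 : act 1 n2146 = n1705 := (sb E17133 F7705)
theorem F69654 : act 3 n2146 = n1651 := (sb E17133 F7706)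
theorem F69655 : act 5 n2146 = n1649 := (sb E17133 F7707)
theorem F69656 : act 1 n2143 = n1708 := (sb E17134 F7718)
theorem F69657 : act 5 n2143 = n1652 := (sb E17134 F7720)
theorem E17431 : n1650 = n1631 := ((((iv D2143)).symm.trans (sb E17134 (iv D2168)))).symm
theorem F69658 : act 7 n2143 = n1651 := (sb E17134 F7721)
theorem F69659 : act 4 n2136 = n1705 := (sb E17135 F7968)
theorem F69660 : act 3 n2133 = n1708 := (sb E17136 F7970)
theorem F69661 : act 5 n2133 = n1706 := (sb E17136 F7971)
theorem E17433 : n1704 = n1625 := ((((iv D2133)).symm.trans (sb E17136 (iv D2243)))).symm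
theorem F69662 : act 7 n2133 = n1705 := (sb E17136 F7972)
theorem F69663 : act 0 n1293 = n1671 := (sb E17137 F7571)
theorem F69664 : act 2 n3684 = n2948 := (sb E17139 F12911)
theorem F69665 : act 5 n3684 = n2842 := (sb E17139 F12912)
theorem F69666 : act 4 n3664 = n2948 := (sb E17140 F13377)
theorem F69667 : act 5 n1275 = n1675 := (sb E17190 F7829)
theorem E17466 : n1672 = n961 := ((((iv D1275)).symm.trans (sb E17190 (iv D2201)))).symm
theorem E17467 : n1669 = n963 := (((D963).symm.trans (sb E17191 (iv D2195)))).symm
theorem F69668 : act 3 n1278 = n1673 := (sb E17194 F7813)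
theorem F69669 : act 5 n1278 = n1671 := (sb E17194 F7814)
theorem E17471 : n2996 = n1871 := ((((iv F6715)).symm.trans (sb E17195 F13072))).symm
theorem F69670 : act 0 n1291 = n1673 := (sb E17197 F7579)
theorem E17472 : n1623 = n973 := ((((iv D1291)).symm.trans (sb E17197 (iv D2130)))).symm
theorem F69671 : act 3 n1268 = n962 := (sb E17200 F4660)
theorem E17474 : n1668 = n1073 := ((D1668).symm.trans (sb E17201 F4670))
theorem F69672 : act 6 n1266 = n962 := (sb E17201 (iv D1276))
theorem E17476 : n1867 = n1733 := (((iv F6699)).symm.trans (sb E17204 F7802))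
theorem F69673 : act 2 n1422 = n1671 := (sb E17204 F7803)
theorem F69674 : act 1 n2281 = n1879 := (sb E17205 F8695)
theorem F69675 : act 7 n2281 = n1868 := (sb E17205 F8699)
theorem F69676 : act 0 n10830 = n13879 := (sb E17220 F58326)
theorem F69677 : act 5 n10830 = n13861 := (sb E17220 F58328)
theorem F69678 : act 5 n2167 = n2814 := (sb E17247 F12783)
theorem F69679 : act 7 n2167 = n2813 := (sb E17247 F12785)
theorem F69680 : act 2 n3683 = n2848 := (sb E17273 F12923)
theorem E17515 : n4869 = n4817 := (((D4817).symm.trans (sb E17273 D4869))).symm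
theorem F69681 : act 7 n3683 = n2843 := (sb E17273 F12924)
theorem F69682 : act 2 n3685 = n2846 := (sb E17274 F12914)
theorem F69683 : act 5 n3685 = n2843 := (sb E17274 F12915)
theorem F69684 : act 2 n3730 = n4820 := (sb E17275 F21274)
theorem F69685 : act 7 n3730 = n4812 := (sb E17275 F21276)
theorem F69686 : act 5 n3680 = n2848 := (sb E17276 F12938)
theorem F69687 : act 7 n3680 = n2846 := (sb E17276 F12940)
theorem F69688 : act 7 n6286 = n4872 := (sb E17280 F21539)
theorem F69689 : act 5 n2462 = n2998 := (sb E17286 F13575)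
theorem E17518 : n5542 = n5151 := (((D5151).symm.trans (sb E17289 D5542))).symm
theorem F69690 : act 7 n3933 = n3230 := (sb E17289 F14596)
theorem F69691 : act 2 n6730 = n8144 := (sb E17290 F68538)
theorem F69692 : act 7 n6730 = n5545 := (sb E17290 F24314)
theorem F69693 : act 0 n18031 = n14091 := (sb E17296 F59154)
theorem F69694 : act 4 n18031 = n14698 := (sb E17296 F59156)
theorem F69695 : act 7 n18031 = n14053 := (sb E17296 F59157)
theorem F69696 : act 4 n18008 = n14092 := (sb E17298 F59256)
theorem F69697 : act 7 n18008 = n14078 := (sb E17298 F59257)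
theorem F69698 : act 4 n6280 = n4884 := (sb E17299 F21568)
theorem F69699 : act 7 n6280 = n4880 := (sb E17299 F21570)
theorem F69700 : act 2 n6287 = n4884 := (sb E17300 F21540)
theorem F69701 : act 7 n6287 = n4873 := (sb E17300 F21542)
theorem F69702 : act 0 n18033 = n14093 := (sb E17302 F59161)
theorem F69703 : act 5 n18010 = n14094 := (sb E17321 F59261)
theorem F69704 : act 0 n18034 = n14094 := (sb E17322 F59164)
theorem F69705 : act 4 n4789 = n3869 := (sb E17336 F17301)
theorem E17527 : n6245 = n4004 := (((iv F21167)).symm.trans (sb E17336 F17303))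
theorem E17528 : n6732 = n4254 := (((F17025).symm.trans (sb E17337 (iv F22683)))).symm
theorem F69706 : act 4 n4979 = n3954 := (sb E17337 F17669)
theorem F69707 : act 6 n5154 = n4243 := (sb E17340 F18893)
theorem F69708 : act 5 n5554 = n6728 := (sb E17341 F29218)
theorem F69709 : act 6 n5554 = n6735 := (sb E17341 F29219)
theorem F69710 : act 5 n9462 = n11445 := (sb E17342 F48503)
theorem F69711 : act 7 n8193 = n6360 := (sb E17346 F27761)
theorem F69712 : act 0 n13878 = n10829 := (sb E17347 F46001)
theorem F69713 : act 7 n13878 = n10801 := (sb E17347 F46003)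
theorem F69714 : act 2 n8782 = n10598 := (sb E17349 F68616)
theorem F69715 : act 7 n8782 = n7240 := (sb E17349 F31315)
theorem F69716 : act 6 n13780 = n11445 := (sb E17350 (iv F67814))
theorem F69717 : act 4 n13781 = n11445 := (sb E17352 F67828)
theorem E17545 : n2135 = n1333 := ((((iv F4864)).symm.trans (sb E17371 F9822))).symm
theorem F69718 : act 0 n1762 = n2209 := (sb E17376 F9839)
theorem F69719 : act 6 n3050 = n3664 := (sb E17377 F16412)
theorem E17554 : n4238 = n772 := ((((iv F2906)).symm.trans (sb E17381 F16981))).symm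
theorem E17558 : n2466 = n1359 := ((((iv F4957)).symm.trans (sb E17384 F11292))).symm
theorem E17560 : n2208 = n1365 := ((((iv F4981)).symm.trans (sb E17385 F10170))).symm
theorem E17570 : n2279 = n1416 := (((iv F8075)).symm.trans (sb E17397 F6712))
theorem E17571 : n2282 = n1419 := (((iv F8088)).symm.trans (sb E17397 F6713))
theorem F69720 : act 4 n1678 = n1318 := (sb E17399 F6263)
theorem E17573 : n1317 = n1270 := ((((iv D1678)).symm.trans (sb E17399 (iv D1741)))).symm
theorem F69721 : act 2 n994 = n1268 := (sb E17400 (iv D1674))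
theorem E17576 : n2467 = n2361 := ((((iv F8367)).symm.trans (sb E17404 F11322))).symm
theorem F69722 : act 3 n1803 = n2209 := (sb E17405 F10172)
theorem E17577 : n3934 = n2468 := (((iv F13587)).symm.trans (sb E17408 F11298))
theorem F69723 : act 6 n3000 = n2462 := (sb E17408 F11299)
theorem F69724 : act 4 n1875 = n2283 := (sb E17409 F10493)
theorem F69725 : act 4 n3243 = n3935 := (sb E17410 F17573)
theorem F69726 : act 5 n3236 = n3933 := (sb E17417 F17554)
theorem F69727 : act 6 n3236 = n3936 := (sb E17417 F17555)
theorem F69728 : act 1 n5245 = n6504 := (sb E17418 F27273)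
theorem F69729 : act 6 n5245 = n6248 := (sb E17418 F27275)
theorem F69730 : act 1 n1633 = n1291 := (sb E17423 F5950)
theorem F69731 : act 3 n1633 = n1253 := (sb E17423 F5951)
theorem E17583 : n1249 = n1238 := ((((iv D1633)).symm.trans (sb E17423 (iv D1648)))).symm
theorem F69732 : act 1 n1634 = n1290 := (sb E17424 F5942)
theorem F69733 : act 3 n1634 = n1252 := (sb E17424 F5944)
theorem F69734 : act 5 n1634 = n1250 := (sb E17424 F5945)
theorem E17585 : n1248 = n1239 := ((((iv D1634)).symm.trans (sb E17424 (iv D1646)))).symm
theorem E17586 : n1251 = n1237 := ((D1251).symm.trans (sb E17425 (iv D1630)))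
theorem F69735 : act 4 n1627 = n1290 := (sb E17426 F6136)
theorem E17587 : n1288 = n1235 := ((((iv D1627)).symm.trans (sb E17426 (iv D1703)))).symm
theorem F69736 : act 0 n972 = n1268 := (sb E17427 F5861)
theorem E17588 : n1289 = n1234 := ((D1289).symm.trans (sb E17427 (iv D1624)))
theorem F69737 : act 0 n975 = n1266 := (sb E17428 F5854)
theorem F69738 : act 1 n1631 = n1293 := (sb E17431 F5956)
theorem F69739 : act 5 n1631 = n1253 := (sb E17431 F5959)
theorem F69740 : act 3 n1625 = n1293 := (sb E17433 F6139)
theorem F69741 : act 5 n1625 = n1291 := (sb E17433 F6140)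
theorem F69742 : act 5 n961 = n1268 := (sb E17466 F6029)
theorem F69743 : act 6 n961 = n1267 := (sb E17466 (iv D1672))
theorem F69744 : act 3 n963 = n1267 := (sb E17467 F6020)
theorem F69745 : act 5 n963 = n1266 := (sb E17467 (iv D1669))
theorem F69746 : act 5 n1871 = n2281 := (sb E17471 F10482)
theorem F69747 : act 0 n973 = n1267 := (sb E17472 F5857)
theorem E17625 : n1413 = n1311 := (((iv F5138)).symm.trans (sb E17474 F6016))
theorem F69748 : act 2 n1073 = n1266 := (sb E17474 (iv D1668))
theorem F69749 : act 1 n1733 = n1422 := (sb E17476 F6699)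
theorem F69750 : act 2 n4817 = n3733 := (sb E17515 F16689)
theorem F69751 : act 7 n4817 = n3725 := (sb E17515 F16691)
theorem F69752 : act 7 n5151 = n4237 := (sb E17518 F18861)
theorem F69753 : act 1 n4004 = n4979 := (sb E17527 F21164)
theorem F69754 : act 6 n4004 = n4789 := (sb E17527 F21167)
theorem F69755 : act 4 n4254 = n5154 := (sb E17528 F22684)
theorem F69756 : act 0 n1333 = n1678 := (sb E17545 F7599)
theorem F69757 : act 2 n1333 = n1627 := (sb E17545 F7601)
theorem E17669 : n1626 = n1005 := ((((iv D1333)).symm.trans (sb E17545 (iv D2135)))).symm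
theorem E17675 : n3240 = n1025 := ((((iv F3798)).symm.trans (sb E17554 F14611))).symm
theorem E17678 : n2031 = n1791 := ((((iv F6436)).symm.trans (sb E17558 F8728))).symm
theorem E17679 : n1874 = n1794 := ((((iv F6450)).symm.trans (sb E17558 F8729))).symm
theorem F69758 : act 3 n1365 = n1678 := (sb E17560 F7848)
theorem E17681 : n1677 = n1029 := ((((iv D1365)).symm.trans (sb E17560 (iv D2208)))).symm
theorem F69759 : act 2 n1416 = n1735 := (sb E17570 F8075)
theorem F69760 : act 5 n1416 = n1733 := (sb E17570 F8077)
theorem E17687 : n1731 = n1068 := ((((iv D1416)).symm.trans (sb E17570 (iv D2279)))).symm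
theorem F69761 : act 4 n1419 = n1735 := (sb E17571 F8088)
theorem E17688 : n1734 = n1070 := ((((iv D1419)).symm.trans (sb E17571 (iv D2282)))).symm
theorem F69762 : act 4 n1270 = n994 := (sb E17573 (iv D1317))
theorem F69763 : act 3 n2361 = n1875 := (sb E17576 F8731)
theorem F69764 : act 4 n2468 = n3000 := (sb E17577 F13587)
theorem F69765 : act 1 n1238 = n973 := (sb E17583 F4578)
theorem F69766 : act 3 n1238 = n947 := (sb E17583 F4579)
theorem F69767 : act 6 n1238 = n945 := (sb E17583 (iv D1249))
theorem F69768 : act 1 n1239 = n972 := (sb E17585 F4575)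
theorem F69769 : act 3 n1239 = n946 := (sb E17585 F4577)
theorem F69770 : act 5 n1239 = n945 := (sb E17585 (iv D1248))
theorem F69771 : act 1 n1237 = n975 := (sb E17586 F4585)
theorem F69772 : act 5 n1237 = n947 := (sb E17586 F4588)
theorem F69773 : act 6 n1237 = n946 := (sb E17586 (iv D1251))
theorem F69774 : act 4 n1235 = n972 := (sb E17587 (iv D1288))
theorem F69775 : act 3 n1234 = n975 := (sb E17588 F4718)
theorem F69776 : act 5 n1234 = n973 := (sb E17588 F4719)
theorem F69777 : act 6 n1234 = n972 := (sb E17588 (iv D1289))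
theorem F69778 : act 1 n1311 = n1073 := (sb E17625 F5138)
theorem F69779 : act 6 n1311 = n1067 := (sb E17625 (iv D1413))
theorem F69780 : act 0 n1005 = n1270 := (sb E17669 F5868)
theorem F69781 : act 2 n1005 = n1235 := (sb E17669 (iv D1626))
theorem E17732 : n2664 = n1357 := ((((iv F4948)).symm.trans (sb E17675 F11318))).symm
theorem E17734 : n2356 = n1545 := (((iv F8346)).symm.trans (sb E17678 F7210))
theorem E17735 : n1544 = n1355 := ((((iv D1791)).symm.trans (sb E17678 (iv D2031)))).symm
theorem F69782 : act 3 n1794 = n1419 := (sb E17679 F6727)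
theorem E17736 : n1418 = n1358 := ((((iv D1794)).symm.trans (sb E17679 (iv D1874)))).symm
theorem F69783 : act 3 n1029 = n1270 := (sb E17681 (iv D1677))
theorem F69784 : act 2 n1068 = n1312 := (sb E17687 F6219)
theorem F69785 : act 5 n1068 = n1311 := (sb E17687 (iv D1731))
theorem F69786 : act 4 n1070 = n1312 := (sb E17688 (iv D1734))
theorem E17772 : n2030 = n1023 := ((((iv D1357)).symm.trans (sb E17732 (iv D2664)))).symm
theorem F69787 : act 2 n1545 = n1794 := (sb E17734 F8345)
theorem F69788 : act 4 n1545 = n1791 := (sb E17734 F8346)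
theorem E17774 : n1789 = n1171 := ((((iv D1545)).symm.trans (sb E17734 (iv D2356)))).symm
theorem E17775 : n1790 = n1199 := ((D1790).symm.trans (sb E17735 F5555))
theorem F69789 : act 3 n1358 = n1070 := (sb E17736 (iv D1418))
theorem E17788 : n1579 = n1356 := (((D1356).symm.trans (sb E17772 F7206))).symm
theorem F69790 : act 2 n1171 = n1358 := (sb E17774 F6427)
theorem F69791 : act 4 n1171 = n1355 := (sb E17774 (iv D1789))
theorem F69792 : act 6 n1199 = n1355 := (sb E17775 (iv D1790))
theorem F69793 : act 5 n1356 = n1199 := (sb E17788 (iv D1579))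
theorem F69794 : act 6 n16431 = n18114 := d28_55 F47108 (iv F68295) (iv F69146) F68432 (iv D18351) (iv D14123) F35928 F35929 F27891 F27893 (iv D8334) F21621 (iv D4891) (iv D3738) F10021 (iv D2256) (iv D1713) (iv D1297) F3634 (iv D737) F2119 (iv F2128) F2127 (iv F2186) (iv F2822) (iv F3678) F3679 (iv D992) F2809 F2808 (iv D745) F2152 F2151 F2150 (iv D561) (iv D420) D422 D566 D753 (iv F3709) D1326 (iv F6104) F6103 (iv F6184) D2267 F8037 D2532 (iv F11520) (iv F14925) (iv F19303) F19302 (iv F24899) (iv F32087) D12622 D16431 (iv D18114) F45658 (iv D13941) F35494 F27921 F27922 F21661 F16790 (iv F21576) (iv F27812) (iv D8305) F21572 (iv D5086) F13427 F10362 (iv F10336) (iv F69387) F12702 F69385 D3881 F13424 (iv F69241) F16394 (iv F17005) (iv F21953) (iv F28294) F69163 F22404 (iv F22376) (iv F69244) (iv F68447) (iv F31408) (iv F40447) (iv F68611)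
theorem F69795 : act 3 n17917 = n16431 := d20_3 F69794 F58703 (iv F68323)
theorem F69796 : act 5 n18081 = n16431 := d25_3 F69794 F69145 (iv F58607)
theorem F69797 : act 7 n16062 = n18081 := d26_0 F69796 (iv D16431) (iv F68183)
theorem F69798 : act 3 n18081 = n16063 := d21_1 F69797 (iv D16063) D16062
theorem F69799 : act 4 n18084 = n16062 := d24_3 F69797 F58606 D18084
theorem F69800 : act 5 n16063 = n17917 := d19_2 (iv F69796) F69798 F69795
theorem F69801 : act 7 n17917 = n16004 := d26_2 D16063 F69800 F51955
theorem F69802 : act 4 n16004 = n17919 := d24_1 F69801 (iv D17919) (iv F58129)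
theorem F69803 : act 3 n18370 = n16155 := d28_31 F17877 F69729 D8141 D10597 (iv F68459) F69505 F36348 F28207 F21954 D8476 F68480 F35068 F69245 F22390 (iv F28881) (iv F37233) (iv F47963) F67951 (iv D11300) (iv D8664) (iv F28494) D11123 (iv F69509) D18048 F69620 F46110 (iv D10868) D10869 F35986 (iv F46304) (iv F59535) (iv D16155) F40709 F40710 F69505 F69332 (iv F68506) F36809 F67611 F22450 (iv F22490) F22489 F17421 F17422 F13473 F10407 F8048 F8049 (iv F10435) F67266 (iv F17204) (iv F67435) (iv D3848) F10280 (iv F11387) D4277 D5601 F67750 F19054 F14742 F11389 F8777 (iv F11384) (iv F13262) (iv F69254) (iv D4962) (iv D3791) (iv D2891) (iv F69548) (iv F69650) D2813 (iv F69679) F7717 (iv D2167) F5955 F5954 D1653 (iv F7642) D2815 (iv F12698) F69577 F10335 F8228 (iv F10672) D4005 (iv F67208) (iv F22711) F22712 F67352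
theorem F69804 : act 4 n16155 = n18077 := d18_2 (iv F59535) F69803 F58591 F46218 F68248
theorem F69805 : act 5 n16190 = n18370 := d19_0 F69803 F52435 D16190
theorem F69806 : act 6 n16362 = n18370 := d20_0 F69803 F52436 D16362
theorem F69807 : act 7 n16155 = n17913 := d21_2 D18370 F69803 F68252
theorem F69808 : act 5 n17913 = n16191 := d26_1 F69807 (iv D16191) (iv F52435)
theorem F69809 : act 6 n17913 = n16408 := d27_1 F69807 (iv D16408) (iv F52541) F68199 (iv F52436)
theorem F69810 : act 3 n16408 = n18118 := d20_1 F69809 F58720 (iv F68252)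
theorem F69811 : act 5 n18077 = n16408 := d19_0 F69810 F69102 (iv F58591)
theorem F69812 : act 6 n16191 = n18077 := d25_0 F69811 (iv F69809) F69808
theorem F69813 : act 3 n18346 = n16191 := d20_3 F69812 F58591 D18346
theorem F69814 : act 4 n16362 = n18373 := d18_4 (iv F69140) F69813 F68311 D16362 F69136
theorem F69815 : act 7 n16190 = n18346 := d21_0 F69813 (iv D16191) D16190
theorem F69816 : act 2 n18368 = n16190 := d17_3 F69815 F69139 D18368
theorem F69817 : act 4 n18384 = n16190 := d24_3 F69815 F69140 D18384
theorem E17800 : n19136 = n18892 := ((c7_2 F69816 (iv F61086) (iv D19136) F48007 (iv F69300) (iv F59528))).symm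
theorem F69818 : act 0 n18892 = n14783 := (sb E17800 F61815)
theorem F69819 : act 2 n18892 = n14714 := (sb E17800 (iv D19136))
theorem E17801 : n19133 = n18317 := (c16_5 (iv F61087) F69819 (iv D14714) D14712 D19133 F59366)
theorem F69820 : act 0 n18317 = n14780 := (sb E17801 F61807)
theorem F69821 : act 6 n18317 = n14712 := (sb E17801 (iv D19133))
theorem E17802 : n19223 = n19120 := (c1_3 (iv F59366) F69820 D19223 F61769)
theorem F69822 : act 2 n19120 = n14780 := (sb E17802 (iv D19223))
theorem F69823 : act 6 n19120 = n14783 := (sb E17802 F62036)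
theorem F69824 : act 7 n18360 = n16362 := d27_0 F69806 (iv D18370) (iv F58720) F69103 D18360
theorem F69825 : act 3 n16188 = n18360 := d21_3 F69824 (iv D16362) (iv F68199)
def n20586 : Q := act 2 n17858
theorem D20586 : act 2 n17858 = n20586 := rfl
theorem F69826 : act 0 n20586 = n18691 := d1_1 D20586 F60478 (iv F69361)
theorem F69827 : act 1 n20586 = n17913 := d7_1 D20586 (iv D17913) F45213 (iv F45087) (iv F57936)
theorem F69828 : act 3 n20586 = n18297 := d13_2 D17858 D20586 (iv D18297) (iv F68057) (iv F45083)
theorem F69829 : act 4 n20586 = n18059 := d14_2 (iv F57937) D20586 (iv D18059)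
theorem F69830 : act 5 n20586 = n18893 := d15_2 (iv F68500) D20586 F61089
theorem F69831 : act 6 n20586 = n19206 := d16_2 (iv F68501) D20586 F61992 F48143 F67850
theorem F69832 : act 7 n20586 = n18588 := d17_2 F69489 D20586 (iv D18588)
def n20587 : Q := act 2 n17860
theorem D20587 : act 2 n17860 = n20587 := rfl
theorem F69833 : act 0 n20587 = n18893 := d1_1 D20587 F61089 (iv F69356)
theorem F69834 : act 1 n20587 = n20587 := d7_1 D20587 (iv D20587) F57940 F45092 (iv F57940)
theorem F69835 : act 3 n20587 = n19229 := d13_2 (iv F68551) D20587 F62048 F48184 F67850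
theorem F69836 : act 4 n20587 = n17861 := d14_2 (iv F57941) D20587 (iv D17861)
theorem F69837 : act 5 n20587 = n18691 := d15_2 (iv F68552) D20587 F60478
theorem F69838 : act 6 n20587 = n18293 := d16_2 D17860 D20587 (iv D18293) F68167 (iv F45083)
theorem F69839 : act 7 n20587 = n18632 := d17_2 (iv F68553) D20587 (iv D18632)
def n20588 : Q := act 3 n17861
theorem D20588 : act 3 n17861 = n20588 := rfl
theorem F69840 : act 0 n20588 = n19160 := d2_1 D20588 (iv D19160) (iv F69624)
theorem F69841 : act 1 n20588 = n20588 := d8_1 D20588 (iv D20588) F57942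
theorem F69842 : act 2 n20588 = n18065 := d13_1 D20588 (iv D18065) (iv D13901) (iv F45085) D17861
theorem F69843 : act 5 n20588 = n19120 := d19_2 (iv F69625) D20588 (iv D19120)
theorem F69844 : act 6 n20588 = n18690 := d20_2 (iv F57943) D20588 (iv D18690)
def n20589 : Q := act 7 n17861
theorem D20589 : act 7 n17861 = n20589 := rfl
theorem F69845 : act 0 n20589 = n18890 := d6_1 D20589 F68072 (iv F69624)
theorem F69846 : act 1 n20589 = n20589 := d12_1 D20589 (iv D20589) F57942
theorem F69847 : act 2 n20589 = n17862 := d17_1 D20589 (iv D17862) D17861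
theorem F69848 : act 4 n20589 = n18632 := d24_1 D20589 (iv F69839) F69836
theorem F69849 : act 5 n20589 = n19121 := d26_1 D20589 (iv D19121) (iv F69625)
theorem F69850 : act 6 n19118 = n20589 := d23_0 F69848 F69353 (iv F61764)
def n20590 : Q := act 2 n18007
theorem D20590 : act 2 n18007 = n20590 := rfl
theorem F69851 : act 0 n20590 = n18059 := d1_1 D20590 (iv D18059) (iv F58417)
theorem F69852 : act 1 n20590 = n20590 := d7_1 D20590 (iv D20590) F58418 F45448 (iv F58418)
theorem F69853 : act 3 n20590 = n18262 := d13_2 D18007 D20590 (iv D18262) (iv D14053) (iv F45444)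
theorem F69854 : act 4 n20590 = n18691 := d14_2 (iv F69465) D20590 F60478
theorem F69855 : act 5 n20590 = n19118 := d15_2 (iv F68668) D20590 (iv D19118)
theorem F69856 : act 6 n20590 = n19121 := d16_2 (iv F68669) D20590 F61773 F47972 (iv F67951)
theorem F69857 : act 7 n20590 = n18293 := d17_2 (iv F69466) D20590 (iv D18293)
def n20591 : Q := act 2 n18009
theorem D20591 : act 2 n18009 = n20591 := rfl
theorem F69858 : act 0 n20591 = n18063 := d1_1 D20591 (iv D18063) (iv F58422)
theorem F69859 : act 1 n20591 = n20591 := d7_1 D20591 (iv D20591) F58423 F45452 (iv F58423)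
theorem F69860 : act 3 n20591 = n18269 := d13_2 (iv F68901) D20591 F59221 F46043 (iv F67951)
theorem F69861 : act 4 n20591 = n18010 := d14_2 (iv F58424) D20591 (iv D18010)
theorem F69862 : act 5 n20591 = n19114 := d15_2 (iv F68902) D20591 (iv D19114)
theorem F69863 : act 6 n20591 = n18266 := d16_2 D18009 D20591 (iv D18266) (iv D14055) (iv F45444)
theorem F69864 : act 7 n20591 = n18268 := d17_2 (iv F68903) D20591 F68114
def n20592 : Q := act 3 n18010
theorem D20592 : act 3 n18010 = n20592 := rfl
theorem F69865 : act 0 n20592 = n18065 := d2_1 D20592 (iv D18065) (iv F58425)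
theorem F69866 : act 1 n20592 = n20592 := d8_1 D20592 (iv D20592) F58426
theorem F69867 : act 2 n20592 = n19160 := d13_1 D20592 (iv D19160) (iv D14732) F69609 D18010
theorem F69868 : act 5 n20592 = n18317 := d19_2 (iv F69703) D20592 (iv D18317)
theorem F69869 : act 6 n20592 = n18268 := d20_2 (iv F58427) D20592 (iv D18268)
def n20593 : Q := act 7 n18010
theorem D20593 : act 7 n18010 = n20593 := rfl
theorem F69870 : act 0 n20593 = n18066 := d6_1 D20593 (iv D18066) (iv F58425)
theorem F69871 : act 1 n20593 = n20593 := d12_1 D20593 (iv D20593) F58426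
theorem F69872 : act 2 n20593 = n18011 := d17_1 D20593 (iv D18011) D18010
theorem F69873 : act 4 n20593 = n18268 := d24_1 D20593 (iv F69864) F69861
theorem F69874 : act 5 n20593 = n18318 := d26_1 D20593 (iv D18318) (iv F69703)
def n20594 : Q := act 2 n18031
theorem D20594 : act 2 n18031 = n20594 := rfl
theorem F69875 : act 0 n20594 = n18311 := d1_1 D20594 (iv D18311) (iv F69693)
theorem F69876 : act 1 n20594 = n20594 := d7_1 D20594 (iv D20594) F58482 F45497 (iv F58482)
theorem F69877 : act 3 n20594 = n18293 := d13_2 D18031 D20594 (iv D18293) (iv D14077) (iv F45493)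
theorem F69878 : act 4 n20594 = n19114 := d14_2 (iv F69694) D20594 (iv D19114)
theorem F69879 : act 5 n20594 = n18315 := d15_2 (iv F69004) D20594 (iv D18315)
theorem F69880 : act 6 n20594 = n19229 := d16_2 (iv F69005) D20594 F62048 (iv F68900) F58518
theorem F69881 : act 7 n20594 = n18262 := d17_2 (iv F69695) D20594 (iv D18262)
def n20595 : Q := act 2 n18033
theorem D20595 : act 2 n18033 = n20595 := rfl
theorem F69882 : act 0 n20595 = n18315 := d1_1 D20595 (iv D18315) (iv F69702)
theorem F69883 : act 1 n20595 = n18118 := d7_1 D20595 (iv D18118) F45666 (iv F45502) (iv F58486)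
theorem F69884 : act 3 n20595 = n19206 := d13_2 (iv F68968) D20595 F61992 (iv F68899) F58518
theorem F69885 : act 4 n20595 = n18034 := d14_2 (iv F58487) D20595 (iv D18034)
theorem F69886 : act 5 n20595 = n18311 := d15_2 (iv F68969) D20595 (iv D18311)
theorem F69887 : act 6 n20595 = n18297 := d16_2 D18033 D20595 (iv D18297) (iv D14079) (iv F45493)
theorem F69888 : act 7 n20595 = n18329 := d17_2 (iv F68970) D20595 F59404
def n20596 : Q := act 7 n18034
theorem D20596 : act 7 n18034 = n20596 := rfl
theorem F69889 : act 0 n20596 = n18318 := d6_1 D20596 (iv D18318) (iv F69704)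
theorem F69890 : act 1 n20596 = n18121 := d12_1 D20596 (iv D18121) (iv F58488)
theorem F69891 : act 2 n20596 = n18035 := d17_1 D20596 (iv D18035) D18034
theorem F69892 : act 3 n20596 = n19207 := d21_1 D20596 F69086 (iv F68066)
theorem F69893 : act 4 n20596 = n18329 := d24_1 D20596 (iv F69888) F69885
theorem F69894 : act 5 n20596 = n18066 := d26_1 D20596 (iv D18066) (iv F58489)
def n20597 : Q := act 2 n18045
theorem D20597 : act 2 n18045 = n20597 := rfl
theorem F69895 : act 0 n20597 = n18293 := d1_1 D20597 (iv D18293) (iv F69340)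
theorem F69896 : act 1 n20597 = n18077 := d7_1 D20597 (iv D18077) F45568 (iv F45520) (iv F58515)
theorem F69897 : act 3 n20597 = n18311 := d13_2 D18045 D20597 (iv D18311) (iv D14091) (iv F45516)
theorem F69898 : act 4 n20597 = n18588 := d14_2 F69487 D20597 (iv D18588)
theorem F69899 : act 5 n20597 = n19206 := d15_2 (iv F68673) D20597 F61992
theorem F69900 : act 6 n20597 = n18893 := d16_2 (iv F69341) D20597 F61089 F47439 F69320
theorem F69901 : act 7 n20597 = n18059 := d17_2 (iv F58516) D20597 (iv D18059)
def n20598 : Q := act 2 n18047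
theorem D20598 : act 2 n18047 = n20598 := rfl
theorem F69902 : act 0 n20598 = n18297 := d1_1 D20598 (iv D18297) (iv F69338)
theorem F69903 : act 1 n20598 = n20598 := d7_1 D20598 (iv D20598) F58520 F45526 (iv F58520)
theorem F69904 : act 3 n20598 = n18691 := d13_2 (iv F69339) D20598 F60478 F46987 F69320
theorem F69905 : act 4 n20598 = n18048 := d14_2 (iv F58521) D20598 (iv D18048)
theorem F69906 : act 5 n20598 = n19229 := d15_2 (iv F68924) D20598 F62048
theorem F69907 : act 6 n20598 = n18315 := d16_2 D18047 D20598 (iv D18315) (iv D14093) (iv F45516)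
theorem F69908 : act 7 n20598 = n18690 := d17_2 (iv F68925) D20598 F68054
def n20599 : Q := act 7 n18048
theorem D20599 : act 7 n18048 = n20599 := rfl
theorem F69909 : act 0 n20599 = n18300 := d6_1 D20599 (iv D18300) (iv F69620)
theorem F69910 : act 1 n20599 = n20599 := d12_1 D20599 (iv D20599) F58522
theorem F69911 : act 2 n20599 = n18049 := d17_1 D20599 (iv D18049) D18048
theorem F69912 : act 3 n20599 = n19114 := d21_1 D20599 F61751 (iv F69621)
theorem F69913 : act 4 n20599 = n18690 := d24_1 D20599 (iv F69908) F69905
theorem F69914 : act 5 n20599 = n18269 := d26_1 D20599 (iv D18269) (iv F69622)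
def n20600 : Q := act 4 n18065
theorem D20600 : act 4 n18065 = n20600 := rfl
theorem F69915 : act 1 n20600 = n18140 := d9_1 D20600 (iv D18140) (iv F58563)
theorem F69916 : act 3 n20600 = n18338 := d18_1 D20600 F59424 (iv F68904) F58559 D18065
theorem F69917 : act 6 n20600 = n18066 := d23_2 (iv F58564) D20600 F68964
theorem F69918 : act 7 n18337 = n20600 := d27_0 F69917 (iv D18066) F45546 D14112 (iv F69134)
def n20601 : Q := act 7 n18065
theorem D20601 : act 7 n18065 = n20601 := rfl
theorem F69919 : act 1 n20601 = n18141 := d12_1 D20601 (iv D18141) (iv F58563)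
theorem F69920 : act 3 n20601 = n18066 := d21_1 D20601 (iv D18066) D18065
theorem F69921 : act 4 n20601 = n18337 := d24_1 D20601 F69918 (iv D20600)
theorem F69922 : act 5 n20601 = n19207 := d26_1 D20601 F69086 (iv F68117)
theorem F69923 : act 6 n20601 = n18338 := d27_1 D20601 (iv D18338) (iv F58560) F68906 (iv F58564)
def n20602 : Q := act 6 n18121
theorem D20602 : act 6 n18121 = n20602 := rfl
theorem F69924 : act 0 n20602 = n20602 := d5_1 D20602 (iv D20602) F58729
theorem F69925 : act 2 n20602 = n20602 := d16_1 D20602 (iv D20602) F58730 F45675 (iv F58730)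
theorem F69926 : act 3 n20602 = n18384 := d20_1 D20602 F69142 (iv F68253)
theorem F69927 : act 4 n20602 = n18360 := d23_1 D20602 (iv D18360) (iv F69100)
theorem F69928 : act 5 n20602 = n18140 := d25_1 D20602 F69101 (iv F58731)
theorem F69929 : act 7 n20602 = n18373 := d27_2 D18121 D20602 (iv D18373) (iv D14141) (iv F45670)
def n20603 : Q := act 5 n18262
theorem D20603 : act 5 n18262 = n20603 := rfl
theorem F69930 : act 0 n20603 = n18329 := d4_1 D20603 (iv D18329) (iv F59197)
theorem F69931 : act 1 n20603 = n20603 := d10_1 D20603 (iv D20603) F59198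
theorem F69932 : act 2 n20603 = n18263 := d15_1 D20603 (iv D18263) D18262
theorem F69933 : act 3 n20603 = n19118 := d19_1 D20603 (iv F69855) F69853
theorem F69934 : act 4 n20603 = n18318 := d22_1 D20603 (iv F69874) F69873 F68115 (iv F59199)
theorem F69935 : act 7 n20603 = n18315 := d26_2 F69881 D20603 (iv F69879)
def n20604 : Q := act 6 n18262
theorem D20604 : act 6 n18262 = n20604 := rfl
theorem F69936 : act 0 n20604 = n18330 := d5_1 D20604 (iv D18330) (iv F59197)
theorem F69937 : act 1 n20604 = n20604 := d11_1 D20604 (iv D20604) F59198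
theorem F69938 : act 3 n20604 = n19121 := d20_1 D20604 (iv F69856) F69853
theorem F69939 : act 4 n20604 = n18317 := d23_1 D20604 F69821 (iv F59199)
theorem F69940 : act 7 n20604 = n19120 := d27_2 F69881 D20604 F69823 D19229 (iv F69880)
theorem F69941 : act 2 n20604 = n19207 := d28_2 F69881 D20604 (iv D19207) (iv D14767) (iv D11337) (iv F37228) F37229 F28872 D11291 F37241 F28901 F69409 F28306 (iv F28399) F28398 F22022 F22023 (iv F22007) (iv F69250) F17916 F17917 (iv D5258) F13853 (iv F13849) (iv F17695) F67294 F13836 (iv F17322) D6625 (iv F67643) (iv F36349) (iv F69505) F31607 F24528 F69445 F69295 (iv F68471) F28546 (iv F67578) F17390 (iv F17422) (iv F22489) (iv F67950) F28016 (iv D6420) (iv D4918) F13045 F13046 (iv F16802) (iv F21394) F21393 (iv D6315) (iv D4838) F12844 (iv F16534) D6292 D8203 D10685 F35407 F27537 F21365 (iv F27497) (iv F35396) F69204 F28206 (iv D6468) (iv D4952) F13119 D3820 F13226 (iv F12925) F69593 F16514 F12831 F12832 D4834 D6310 F21375 F16574 (iv D4835) F12837 (iv F16517) D6285 D8194 D10671 F35376 (iv F45496) (iv F58482) D20594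
def n20605 : Q := act 2 n18264
theorem D20605 : act 2 n18264 = n20605 := rfl
theorem F69942 : act 0 n20605 = n18333 := d1_1 D20605 (iv D18333) (iv F59203)
theorem F69943 : act 1 n20605 = n18384 := d7_1 D20605 F59579 F46337 F69448 (iv F59204)
theorem F69944 : act 4 n20605 = n18892 := d14_2 (iv F59206) D20605 F69819
theorem F69945 : act 5 n20605 = n18338 := d15_2 (iv F69449) D20605 F59423
theorem F69946 : act 6 n20605 = n19207 := d16_2 D18264 D20605 (iv F69941) (iv D20604) (iv D18262)
theorem F69947 : act 7 n20605 = n18335 := d17_2 (iv F69450) D20605 (iv D18335)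
def n20606 : Q := act 2 n18265
theorem D20606 : act 2 n18265 = n20606 := rfl
theorem F69948 : act 0 n20606 = n18335 := d1_1 D20606 (iv D18335) (iv F59207)
theorem F69949 : act 1 n20606 = n20606 := d7_1 D20606 (iv D20606) F59208 F46051 (iv F59208)
theorem F69950 : act 4 n20606 = n19229 := d14_2 (iv F69369) D20606 F62048
theorem F69951 : act 5 n20606 = n18266 := d15_2 (iv F59209) D20606 (iv D18266)
theorem F69952 : act 6 n20606 = n19114 := d16_2 D18265 D20606 (iv D19114) (iv F68894) F58421
theorem F69953 : act 7 n20606 = n18333 := d17_2 (iv F69370) D20606 (iv D18333)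
def n20607 : Q := act 3 n18266
theorem D20607 : act 3 n18266 = n20607 := rfl
theorem F69954 : act 0 n20607 = n18337 := d2_1 D20607 (iv D18337) (iv F59210)
theorem F69955 : act 1 n20607 = n20607 := d8_1 D20607 (iv D20607) F59211
theorem F69956 : act 6 n20607 = n18269 := d20_2 F69863 D20607 (iv F69860)
def n20608 : Q := act 7 n18266
theorem D20608 : act 7 n18266 = n20608 := rfl
theorem F69957 : act 0 n20608 = n18338 := d6_1 D20608 (iv D18338) (iv F59210)
theorem F69958 : act 1 n20608 = n20608 := d12_1 D20608 (iv D20608) F59211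
theorem F69959 : act 2 n20608 = n18267 := d17_1 D20608 (iv D18267) D18266
theorem F69960 : act 4 n20608 = n18269 := d24_1 D20608 (iv D18269) (iv F59212)
theorem F69961 : act 5 n20608 = n18333 := d26_1 D20608 (iv F69953) F69951
def n20609 : Q := act 5 n18293
theorem D20609 : act 5 n18293 = n20609 := rfl
theorem F69962 : act 0 n20609 = n19206 := d4_1 D20609 (iv F69899) F69895
theorem F69963 : act 1 n20609 = n20609 := d10_1 D20609 (iv D20609) F59297
theorem F69964 : act 2 n20609 = n18294 := d15_1 D20609 (iv D18294) D18293
theorem F69965 : act 3 n20609 = n18315 := d19_1 D20609 (iv F69879) F69877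
theorem F69966 : act 4 n20609 = n19121 := d22_1 D20609 (iv F69849) F69848 F60323 (iv F68257)
theorem F69967 : act 6 n20609 = n18691 := d25_2 F69838 D20609 (iv F69837)
theorem F69968 : act 7 n20609 = n19118 := d26_2 F69857 D20609 (iv F69855)
def n20610 : Q := act 2 n18296
theorem D20610 : act 2 n18296 = n20610 := rfl
theorem F69969 : act 0 n20610 = n19229 := d1_1 D20610 F62048 (iv F69362)
theorem F69970 : act 1 n20610 = n18346 := d7_1 D20610 F69139 F46291 (iv F46122) (iv F59304)
theorem F69971 : act 3 n20610 = n18893 := d13_2 (iv F68068) D20610 F61089 (iv F68540) F57939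
theorem F69972 : act 4 n20610 = n18335 := d14_2 (iv F59305) D20610 (iv D18335)
theorem F69973 : act 5 n20610 = n18297 := d15_2 (iv F59306) D20610 (iv D18297)
theorem F69974 : act 6 n20610 = n18311 := d16_2 D18296 D20610 (iv D18311) (iv F68896) F58484
theorem F69975 : act 7 n20610 = n18892 := d17_2 (iv F69363) D20610 F69819
def n20611 : Q := act 7 n18297
theorem D20611 : act 7 n18297 = n20611 := rfl
theorem F69976 : act 0 n20611 = n18690 := d6_1 D20611 (iv F69908) F69902
theorem F69977 : act 1 n20611 = n18370 := d12_1 D20611 (iv D18370) (iv F59307)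
theorem F69978 : act 2 n20611 = n18298 := d17_1 D20611 (iv D18298) D18297
theorem F69979 : act 3 n20611 = n18588 := d21_1 D20611 (iv F69832) F69828
theorem F69980 : act 4 n20611 = n18300 := d24_1 D20611 (iv D18300) (iv F59308)
theorem F69981 : act 5 n20611 = n18892 := d26_1 D20611 (iv F69975) F69973
theorem F69982 : act 6 n19160 = n20611 := d25_0 F69981 F61087 (iv F61881)
def n20612 : Q := act 6 n18300
theorem D20612 : act 6 n18300 = n20612 := rfl
theorem F69983 : act 1 n20612 = n18373 := d11_1 D20612 (iv D18373) (iv F59314)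
theorem F69984 : act 3 n20612 = n18335 := d20_1 D20612 F69138 (iv F68067)
theorem F69985 : act 4 n20612 = n19160 := d23_1 D20612 F69982 F69980
theorem F69986 : act 5 n20612 = n18337 := d25_1 D20612 F69134 (iv F59316)
def n20613 : Q := act 7 n18317
theorem D20613 : act 7 n18317 = n20613 := rfl
theorem F69987 : act 0 n20613 = n19207 := d6_1 D20613 F69086 (iv F69820)
theorem F69988 : act 1 n20613 = n20613 := d12_1 D20613 (iv D20613) F59365
theorem F69989 : act 2 n20613 = n18330 := d17_1 D20613 F68887 (iv F59366)
theorem F69990 : act 3 n20613 = n18318 := d21_1 D20613 (iv D18318) D18317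
theorem F69991 : act 4 n20613 = n19120 := d24_1 D20613 (iv F69940) F69939
theorem F69992 : act 6 n20613 = n18333 := d27_1 D20613 (iv F69953) F69952 F61751 (iv F69821)
def n20614 : Q := act 6 n18318
theorem D20614 : act 6 n18318 = n20614 := rfl
theorem F69993 : act 1 n20614 = n20614 := d11_1 D20614 (iv D20614) F59367
theorem F69994 : act 2 n20614 = n18337 := d16_1 D20614 F69134 F46196 (iv F46151) (iv F59368)
theorem F69995 : act 3 n20614 = n18333 := d20_1 D20614 (iv F69992) F69990
def n20615 : Q := act 6 n18329
theorem D20615 : act 6 n18329 = n20615 := rfl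
theorem F69996 : act 1 n20615 = n18360 := d11_1 D20615 (iv D18360) (iv F59403)
theorem F69997 : act 3 n20615 = n18890 := d20_1 D20615 F61082 (iv F68885)
theorem F69998 : act 5 n20615 = n18330 := d25_1 D20615 (iv D18330) D18329
theorem F69999 : act 7 n20615 = n19160 := d27_2 F69888 D20615 F69982 (iv D20611) (iv F69887)
def n20616 : Q := act 4 n20588
theorem D20616 : act 4 n20588 = n20616 := rfl
theorem F70000 : act 0 n20616 = n20612 := d3_1 D20616 F69985 (iv F69840)
theorem F70001 : act 1 n20616 = n20616 := d9_1 D20616 (iv D20616) F69841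
theorem F70002 : act 2 n20616 = n20600 := d14_1 D20616 (iv D20600) (iv F69842)
theorem F70003 : act 3 n20616 = n20606 := d18_1 D20616 F69950 (iv F69835) F69836 D20588
theorem F70004 : act 6 n20616 = n20599 := d23_2 (iv F69844) D20616 F69913
theorem F70005 : act 5 n20607 = n20616 := d25_3 F70004 F69914 (iv F69956)
theorem F70006 : act 7 n20614 = n20616 := d27_0 F70004 (iv D20599) F58523 D18318 D20614
def n20617 : Q := act 7 n20588
theorem D20617 : act 7 n20588 = n20617 := rfl
theorem F70007 : act 0 n20617 = n20615 := d6_1 D20617 F69999 (iv F69840)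
theorem F70008 : act 1 n20617 = n20617 := d12_1 D20617 (iv D20617) F69841
theorem F70009 : act 2 n20617 = n20601 := d17_1 D20617 (iv D20601) (iv F69842)
theorem F70010 : act 3 n20617 = n20589 := d21_1 D20617 (iv D20589) D20588
theorem F70011 : act 4 n20617 = n20614 := d24_1 D20617 F70006 (iv D20616)
theorem F70012 : act 5 n20617 = n20604 := d26_1 D20617 F69940 (iv F69843)
theorem F70013 : act 6 n20617 = n20603 := d27_1 D20617 F69935 (iv F69907) F69908 (iv F69844)
def n20618 : Q := act 4 n20592
theorem D20618 : act 4 n20592 = n20618 := rfl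
theorem F70014 : act 0 n20618 = n20600 := d3_1 D20618 (iv D20600) (iv F69865)
theorem F70015 : act 1 n20618 = n20618 := d9_1 D20618 (iv D20618) F69866
theorem F70016 : act 2 n20618 = n20612 := d14_1 D20618 F69985 (iv F69867)
theorem F70017 : act 3 n20618 = n20608 := d18_1 D20618 F69960 (iv F69860) F69861 D20592
theorem F70018 : act 5 n20618 = n20614 := d22_2 (iv F69868) D20618 (iv F70011) F70012 F69939
theorem F70019 : act 6 n20618 = n20593 := d23_2 (iv F69869) D20618 F69873
theorem F70020 : act 7 n20607 = n20618 := d27_0 F70019 (iv D20593) F58427 D18269 (iv F69956)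
def n20619 : Q := act 7 n20592
theorem D20619 : act 7 n20592 = n20619 := rfl
theorem F70021 : act 0 n20619 = n20601 := d6_1 D20619 (iv D20601) (iv F69865)
theorem F70022 : act 1 n20619 = n20619 := d12_1 D20619 (iv D20619) F69866
theorem F70023 : act 2 n20619 = n20615 := d17_1 D20619 F69999 (iv F69867)
theorem F70024 : act 3 n20619 = n20593 := d21_1 D20619 (iv D20593) D20592
theorem F70025 : act 4 n20619 = n20607 := d24_1 D20619 F70020 (iv D20618)
theorem F70026 : act 5 n20619 = n20613 := d26_1 D20619 (iv D20613) (iv F69868)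
theorem F70027 : act 6 n20619 = n20608 := d27_1 D20619 (iv D20608) (iv F69863) F69864 (iv F69869)
def n20620 : Q := act 6 n20596
theorem D20620 : act 6 n20596 = n20620 := rfl
theorem F70028 : act 0 n20620 = n20614 := d5_1 D20620 (iv D20614) (iv F69889)
theorem F70029 : act 1 n20620 = n20602 := d11_1 D20620 (iv D20602) (iv F69890)
theorem F70030 : act 2 n20620 = n20607 := d16_1 D20620 F69956 F59221 (iv F69469) (iv F69891)
theorem F70031 : act 3 n20620 = n20605 := d20_1 D20620 F69946 (iv F69892)
theorem F70032 : act 4 n20620 = n20615 := d23_1 D20620 (iv D20615) (iv F69893)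
theorem F70033 : act 5 n20620 = n20600 := d25_1 D20620 F69917 (iv F69894)
theorem F70034 : act 7 n20620 = n20612 := d27_2 D20596 D20620 (iv D20612) (iv D18300) (iv F58490)

end Cfsg.Agent.Helper17.FiR2TC
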