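import Cfsg.Agent.Helper17.FiR2TC.Final

set_option autoImplicit false
set_option linter.all false
set_option maxRecDepth 100000

noncomputable section

namespace Cfsg.Agent.Helper17.FiR2TC

theorem N1 : nd 1 = n1 := ndS (p := 0) (l := 7) rfl N0 D1
theorem N2 : nd 2 = n2 := ndS (p := 1) (l := 6) rfl N1 D2
theorem N3 : nd 3 = n3 := ndS (p := 2) (l := 2) rfl N2 D3
theorem N4 : nd 4 = n4 := ndS (p := 3) (l := 1) rfl N3 D4
theorem N5 : nd 5 = n5 := ndS (p := 3) (l := 3) rfl N3 D5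
theorem N6 : nd 6 = n6 := ndS (p := 4) (l := 0) rfl N4 D6
theorem N7 : nd 7 = n7 := ndS (p := 4) (l := 3) rfl N4 D7
theorem N8 : nd 8 = n8 := ndS (p := 5) (l := 4) rfl N5 D8
theorem N9 : nd 9 = n9 := ndS (p := 6) (l := 3) rfl N6 D9
theorem N10 : nd 10 = n10 := ndS (p := 7) (l := 2) rfl N7 D10
theorem N11 : nd 11 = n11 := ndS (p := 7) (l := 4) rfl N7 D11
theorem N12 : nd 12 = n12 := ndS (p := 8) (l := 5) rfl N8 D12
theorem N13 : nd 13 = n13 := ndS (p := 9) (l := 2) rfl N9 D13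
theorem N14 : nd 14 = n14 := ndS (p := 9) (l := 4) rfl N9 D14
theorem N15 : nd 15 = n15 := ndS (p := 10) (l := 4) rfl N10 D15
theorem N16 : nd 16 = n16 := ndS (p := 10) (l := 6) rfl N10 D16
theorem N17 : nd 17 = n17 := ndS (p := 11) (l := 5) rfl N11 D17
theorem N18 : nd 18 = n18 := ndS (p := 13) (l := 1) rfl N13 D18
theorem N19 : nd 19 = n19 := ndS (p := 13) (l := 4) rfl N13 D19
theorem N20 : nd 20 = n20 := ndS (p := 13) (l := 6) rfl N13 D20
theorem N21 : nd 21 = n21 := ndS (p := 14) (l := 5) rfl N14 D21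
theorem N22 : nd 22 = n22 := ndS (p := 15) (l := 3) rfl N15 D22
theorem N23 : nd 23 = n23 := ndS (p := 15) (l := 5) rfl N15 D23
theorem N24 : nd 24 = n24 := ndS (p := 15) (l := 6) rfl N15 D24
theorem N25 : nd 25 = n25 := ndS (p := 16) (l := 7) rfl N16 D25
theorem N26 : nd 26 = n26 := ndS (p := 18) (l := 4) rfl N18 D26
theorem N27 : nd 27 = n27 := ndS (p := 18) (l := 6) rfl N18 D27
theorem N28 : nd 28 = n28 := ndS (p := 19) (l := 3) rfl N19 D28
theorem N29 : nd 29 = n29 := ndS (p := 19) (l := 5) rfl N19 D29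
theorem N30 : nd 30 = n30 := ndS (p := 19) (l := 6) rfl N19 D30
theorem N31 : nd 31 = n31 := ndS (p := 20) (l := 7) rfl N20 D31
theorem N32 : nd 32 = n32 := ndS (p := 22) (l := 5) rfl N22 D32
theorem N33 : nd 33 = n33 := ndS (p := 22) (l := 6) rfl N22 D33
theorem N34 : nd 34 = n34 := ndS (p := 23) (l := 6) rfl N23 D34
theorem N35 : nd 35 = n35 := ndS (p := 24) (l := 7) rfl N24 D35
theorem N36 : nd 36 = n36 := ndS (p := 26) (l := 3) rfl N26 D36
theorem N37 : nd 37 = n37 := ndS (p := 26) (l := 5) rfl N26 D37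
theorem N38 : nd 38 = n38 := ndS (p := 26) (l := 6) rfl N26 D38
theorem N39 : nd 39 = n39 := ndS (p := 27) (l := 2) rfl N27 D39
theorem N40 : nd 40 = n40 := ndS (p := 27) (l := 7) rfl N27 D40
theorem N41 : nd 41 = n41 := ndS (p := 28) (l := 5) rfl N28 D41
theorem N42 : nd 42 = n42 := ndS (p := 28) (l := 6) rfl N28 D42
theorem N43 : nd 43 = n43 := ndS (p := 29) (l := 6) rfl N29 D43
theorem N44 : nd 44 = n44 := ndS (p := 30) (l := 7) rfl N30 D44
theorem N45 : nd 45 = n45 := ndS (p := 32) (l := 4) rfl N32 D45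
theorem N46 : nd 46 = n46 := ndS (p := 32) (l := 6) rfl N32 D46
theorem N47 : nd 47 = n47 := ndS (p := 33) (l := 2) rfl N33 D47
theorem N48 : nd 48 = n48 := ndS (p := 33) (l := 7) rfl N33 D48
theorem N49 : nd 49 = n49 := ndS (p := 34) (l := 7) rfl N34 D49
theorem N50 : nd 50 = n50 := ndS (p := 36) (l := 2) rfl N36 D50
theorem N51 : nd 51 = n51 := ndS (p := 36) (l := 5) rfl N36 D51
theorem N52 : nd 52 = n52 := ndS (p := 36) (l := 6) rfl N36 D52
theorem N53 : nd 53 = n53 := ndS (p := 37) (l := 6) rfl N37 D53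
theorem N54 : nd 54 = n54 := ndS (p := 38) (l := 2) rfl N38 D54
theorem N55 : nd 55 = n55 := ndS (p := 38) (l := 7) rfl N38 D55
theorem N56 : nd 56 = n56 := ndS (p := 39) (l := 3) rfl N39 D56
theorem N57 : nd 57 = n57 := ndS (p := 39) (l := 7) rfl N39 D57
theorem N58 : nd 58 = n58 := ndS (p := 41) (l := 4) rfl N41 D58
theorem N59 : nd 59 = n59 := ndS (p := 41) (l := 6) rfl N41 D59
theorem N60 : nd 60 = n60 := ndS (p := 42) (l := 2) rfl N42 D60
theorem N61 : nd 61 = n61 := ndS (p := 42) (l := 7) rfl N42 D61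
theorem N62 : nd 62 = n62 := ndS (p := 43) (l := 7) rfl N43 D62
theorem N63 : nd 63 = n63 := ndS (p := 45) (l := 6) rfl N45 D63
theorem N64 : nd 64 = n64 := ndS (p := 46) (l := 2) rfl N46 D64
theorem N65 : nd 65 = n65 := ndS (p := 46) (l := 7) rfl N46 D65
theorem N66 : nd 66 = n66 := ndS (p := 47) (l := 1) rfl N47 D66
theorem N67 : nd 67 = n67 := ndS (p := 47) (l := 7) rfl N47 D67
theorem N68 : nd 68 = n68 := ndS (p := 50) (l := 5) rfl N50 D68
theorem N69 : nd 69 = n69 := ndS (p := 50) (l := 6) rfl N50 D69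
theorem N70 : nd 70 = n70 := ndS (p := 51) (l := 4) rfl N51 D70
theorem N71 : nd 71 = n71 := ndS (p := 51) (l := 6) rfl N51 D71
theorem N72 : nd 72 = n72 := ndS (p := 52) (l := 2) rfl N52 D72
theorem N73 : nd 73 = n73 := ndS (p := 52) (l := 7) rfl N52 D73
theorem N74 : nd 74 = n74 := ndS (p := 53) (l := 2) rfl N53 D74
theorem N75 : nd 75 = n75 := ndS (p := 53) (l := 7) rfl N53 D75
theorem N76 : nd 76 = n76 := ndS (p := 54) (l := 3) rfl N54 D76
theorem N77 : nd 77 = n77 := ndS (p := 54) (l := 7) rfl N54 D77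
theorem N78 : nd 78 = n78 := ndS (p := 56) (l := 4) rfl N56 D78
theorem N79 : nd 79 = n79 := ndS (p := 56) (l := 7) rfl N56 D79
theorem N80 : nd 80 = n80 := ndS (p := 57) (l := 6) rfl N57 D80
theorem N81 : nd 81 = n81 := ndS (p := 58) (l := 6) rfl N58 D81
theorem N82 : nd 82 = n82 := ndS (p := 59) (l := 2) rfl N59 D82
theorem N83 : nd 83 = n83 := ndS (p := 59) (l := 7) rfl N59 D83
theorem N84 : nd 84 = n84 := ndS (p := 60) (l := 1) rfl N60 D84
theorem N85 : nd 85 = n85 := ndS (p := 60) (l := 7) rfl N60 D85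
theorem N86 : nd 86 = n86 := ndS (p := 63) (l := 2) rfl N63 D86
theorem N87 : nd 87 = n87 := ndS (p := 63) (l := 7) rfl N63 D87
theorem N88 : nd 88 = n88 := ndS (p := 64) (l := 1) rfl N64 D88
theorem N89 : nd 89 = n89 := ndS (p := 64) (l := 7) rfl N64 D89
theorem N90 : nd 90 = n90 := ndS (p := 66) (l := 0) rfl N66 D90
theorem N91 : nd 91 = n91 := ndS (p := 66) (l := 7) rfl N66 D91
theorem N92 : nd 92 = n92 := ndS (p := 67) (l := 6) rfl N67 D92
theorem N93 : nd 93 = n93 := ndS (p := 68) (l := 4) rfl N68 D93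
theorem N94 : nd 94 = n94 := ndS (p := 68) (l := 6) rfl N68 D94
theorem N95 : nd 95 = n95 := ndS (p := 69) (l := 2) rfl N69 D95
theorem N96 : nd 96 = n96 := ndS (p := 69) (l := 7) rfl N69 D96
theorem N97 : nd 97 = n97 := ndS (p := 70) (l := 6) rfl N70 D97
theorem N98 : nd 98 = n98 := ndS (p := 71) (l := 2) rfl N71 D98
theorem N99 : nd 99 = n99 := ndS (p := 71) (l := 7) rfl N71 D99
theorem N100 : nd 100 = n100 := ndS (p := 72) (l := 1) rfl N72 D100
theorem N101 : nd 101 = n101 := ndS (p := 72) (l := 3) rfl N72 D101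
theorem N102 : nd 102 = n102 := ndS (p := 72) (l := 7) rfl N72 D102
theorem N103 : nd 103 = n103 := ndS (p := 74) (l := 3) rfl N74 D103
theorem N104 : nd 104 = n104 := ndS (p := 74) (l := 7) rfl N74 D104
theorem N105 : nd 105 = n105 := ndS (p := 76) (l := 4) rfl N76 D105
theorem N106 : nd 106 = n106 := ndS (p := 76) (l := 7) rfl N76 D106
theorem N107 : nd 107 = n107 := ndS (p := 77) (l := 6) rfl N77 D107
theorem N108 : nd 108 = n108 := ndS (p := 78) (l := 5) rfl N78 D108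
theorem N109 : nd 109 = n109 := ndS (p := 78) (l := 7) rfl N78 D109
theorem N110 : nd 110 = n110 := ndS (p := 79) (l := 6) rfl N79 D110
theorem N111 : nd 111 = n111 := ndS (p := 81) (l := 2) rfl N81 D111
theorem N112 : nd 112 = n112 := ndS (p := 81) (l := 7) rfl N81 D112
theorem N113 : nd 113 = n113 := ndS (p := 82) (l := 1) rfl N82 D113
theorem N114 : nd 114 = n114 := ndS (p := 82) (l := 7) rfl N82 D114
theorem N115 : nd 115 = n115 := ndS (p := 84) (l := 0) rfl N84 D115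
theorem N116 : nd 116 = n116 := ndS (p := 84) (l := 7) rfl N84 D116
theorem N117 : nd 117 = n117 := ndS (p := 85) (l := 6) rfl N85 D117
theorem N118 : nd 118 = n118 := ndS (p := 86) (l := 1) rfl N86 D118
theorem N119 : nd 119 = n119 := ndS (p := 86) (l := 3) rfl N86 D119
theorem N120 : nd 120 = n120 := ndS (p := 86) (l := 7) rfl N86 D120
theorem N121 : nd 121 = n121 := ndS (p := 88) (l := 0) rfl N88 D121
theorem N122 : nd 122 = n122 := ndS (p := 88) (l := 7) rfl N88 D122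
theorem N123 : nd 123 = n123 := ndS (p := 89) (l := 6) rfl N89 D123
theorem N124 : nd 124 = n124 := ndS (p := 90) (l := 7) rfl N90 D124
theorem N125 : nd 125 = n125 := ndS (p := 91) (l := 6) rfl N91 D125
theorem N126 : nd 126 = n126 := ndS (p := 93) (l := 3) rfl N93 D126
theorem N127 : nd 127 = n127 := ndS (p := 93) (l := 6) rfl N93 D127
theorem N128 : nd 128 = n128 := ndS (p := 94) (l := 2) rfl N94 D128
theorem N129 : nd 129 = n129 := ndS (p := 94) (l := 7) rfl N94 D129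
theorem N130 : nd 130 = n130 := ndS (p := 95) (l := 1) rfl N95 D130
theorem N131 : nd 131 = n131 := ndS (p := 95) (l := 3) rfl N95 D131
theorem N132 : nd 132 = n132 := ndS (p := 95) (l := 7) rfl N95 D132
theorem N133 : nd 133 = n133 := ndS (p := 97) (l := 2) rfl N97 D133
theorem N134 : nd 134 = n134 := ndS (p := 97) (l := 7) rfl N97 D134
theorem N135 : nd 135 = n135 := ndS (p := 98) (l := 1) rfl N98 D135
theorem N136 : nd 136 = n136 := ndS (p := 98) (l := 3) rfl N98 D136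
theorem N137 : nd 137 = n137 := ndS (p := 98) (l := 7) rfl N98 D137
theorem N138 : nd 138 = n138 := ndS (p := 100) (l := 0) rfl N100 D138
theorem N139 : nd 139 = n139 := ndS (p := 100) (l := 3) rfl N100 D139
theorem N140 : nd 140 = n140 := ndS (p := 100) (l := 7) rfl N100 D140
theorem N141 : nd 141 = n141 := ndS (p := 101) (l := 4) rfl N101 D141
theorem N142 : nd 142 = n142 := ndS (p := 101) (l := 7) rfl N101 D142
theorem N143 : nd 143 = n143 := ndS (p := 102) (l := 6) rfl N102 D143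
theorem N144 : nd 144 = n144 := ndS (p := 103) (l := 4) rfl N103 D144
theorem N145 : nd 145 = n145 := ndS (p := 103) (l := 7) rfl N103 D145
theorem N146 : nd 146 = n146 := ndS (p := 104) (l := 6) rfl N104 D146
theorem N147 : nd 147 = n147 := ndS (p := 105) (l := 5) rfl N105 D147
theorem N148 : nd 148 = n148 := ndS (p := 105) (l := 7) rfl N105 D148
theorem N149 : nd 149 = n149 := ndS (p := 106) (l := 6) rfl N106 D149
theorem N150 : nd 150 = n150 := ndS (p := 108) (l := 7) rfl N108 D150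
theorem N151 : nd 151 = n151 := ndS (p := 109) (l := 6) rfl N109 D151
theorem N152 : nd 152 = n152 := ndS (p := 110) (l := 2) rfl N110 D152
theorem N153 : nd 153 = n153 := ndS (p := 111) (l := 1) rfl N111 D153
theorem N154 : nd 154 = n154 := ndS (p := 111) (l := 3) rfl N111 D154
theorem N155 : nd 155 = n155 := ndS (p := 111) (l := 7) rfl N111 D155
theorem N156 : nd 156 = n156 := ndS (p := 113) (l := 0) rfl N113 D156
theorem N157 : nd 157 = n157 := ndS (p := 113) (l := 7) rfl N113 D157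
theorem N158 : nd 158 = n158 := ndS (p := 114) (l := 6) rfl N114 D158
theorem N159 : nd 159 = n159 := ndS (p := 115) (l := 7) rfl N115 D159
theorem N160 : nd 160 = n160 := ndS (p := 116) (l := 6) rfl N116 D160
theorem N161 : nd 161 = n161 := ndS (p := 118) (l := 0) rfl N118 D161
theorem N162 : nd 162 = n162 := ndS (p := 118) (l := 3) rfl N118 D162
theorem N163 : nd 163 = n163 := ndS (p := 118) (l := 7) rfl N118 D163
theorem N164 : nd 164 = n164 := ndS (p := 119) (l := 7) rfl N119 D164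
theorem N165 : nd 165 = n165 := ndS (p := 120) (l := 6) rfl N120 D165
theorem N166 : nd 166 = n166 := ndS (p := 121) (l := 7) rfl N121 D166
theorem N167 : nd 167 = n167 := ndS (p := 122) (l := 6) rfl N122 D167
theorem N168 : nd 168 = n168 := ndS (p := 124) (l := 6) rfl N124 D168
theorem N169 : nd 169 = n169 := ndS (p := 125) (l := 2) rfl N125 D169
theorem N170 : nd 170 = n170 := ndS (p := 126) (l := 6) rfl N126 D170
theorem N171 : nd 171 = n171 := ndS (p := 127) (l := 2) rfl N127 D171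
theorem N172 : nd 172 = n172 := ndS (p := 127) (l := 7) rfl N127 D172
theorem N173 : nd 173 = n173 := ndS (p := 128) (l := 1) rfl N128 D173
theorem N174 : nd 174 = n174 := ndS (p := 128) (l := 3) rfl N128 D174
theorem N175 : nd 175 = n175 := ndS (p := 128) (l := 7) rfl N128 D175
theorem N176 : nd 176 = n176 := ndS (p := 130) (l := 0) rfl N130 D176
theorem N177 : nd 177 = n177 := ndS (p := 130) (l := 3) rfl N130 D177
theorem N178 : nd 178 = n178 := ndS (p := 130) (l := 7) rfl N130 D178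
theorem N179 : nd 179 = n179 := ndS (p := 131) (l := 4) rfl N131 D179
theorem N180 : nd 180 = n180 := ndS (p := 131) (l := 7) rfl N131 D180
theorem N181 : nd 181 = n181 := ndS (p := 132) (l := 6) rfl N132 D181
theorem N182 : nd 182 = n182 := ndS (p := 133) (l := 1) rfl N133 D182
theorem N183 : nd 183 = n183 := ndS (p := 133) (l := 3) rfl N133 D183
theorem N184 : nd 184 = n184 := ndS (p := 133) (l := 7) rfl N133 D184
theorem N185 : nd 185 = n185 := ndS (p := 135) (l := 0) rfl N135 D185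
theorem N186 : nd 186 = n186 := ndS (p := 135) (l := 3) rfl N135 D186
theorem N187 : nd 187 = n187 := ndS (p := 135) (l := 7) rfl N135 D187
theorem N188 : nd 188 = n188 := ndS (p := 136) (l := 4) rfl N136 D188
theorem N189 : nd 189 = n189 := ndS (p := 136) (l := 7) rfl N136 D189
theorem N190 : nd 190 = n190 := ndS (p := 137) (l := 6) rfl N137 D190
theorem N191 : nd 191 = n191 := ndS (p := 138) (l := 3) rfl N138 D191
theorem N192 : nd 192 = n192 := ndS (p := 138) (l := 7) rfl N138 D192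
theorem N193 : nd 193 = n193 := ndS (p := 139) (l := 4) rfl N139 D193
theorem N194 : nd 194 = n194 := ndS (p := 139) (l := 7) rfl N139 D194
theorem N195 : nd 195 = n195 := ndS (p := 140) (l := 6) rfl N140 D195
theorem N196 : nd 196 = n196 := ndS (p := 141) (l := 5) rfl N141 D196
theorem N197 : nd 197 = n197 := ndS (p := 141) (l := 7) rfl N141 D197
theorem N198 : nd 198 = n198 := ndS (p := 142) (l := 6) rfl N142 D198
theorem N199 : nd 199 = n199 := ndS (p := 144) (l := 5) rfl N144 D199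
theorem N200 : nd 200 = n200 := ndS (p := 144) (l := 7) rfl N144 D200
theorem N201 : nd 201 = n201 := ndS (p := 145) (l := 6) rfl N145 D201
theorem N202 : nd 202 = n202 := ndS (p := 147) (l := 7) rfl N147 D202
theorem N203 : nd 203 = n203 := ndS (p := 148) (l := 6) rfl N148 D203
theorem N204 : nd 204 = n204 := ndS (p := 149) (l := 2) rfl N149 D204
theorem N205 : nd 205 = n205 := ndS (p := 150) (l := 6) rfl N150 D205
theorem N206 : nd 206 = n206 := ndS (p := 151) (l := 2) rfl N151 D206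
theorem N207 : nd 207 = n207 := ndS (p := 152) (l := 1) rfl N152 D207
theorem N208 : nd 208 = n208 := ndS (p := 153) (l := 0) rfl N153 D208
theorem N209 : nd 209 = n209 := ndS (p := 153) (l := 3) rfl N153 D209
theorem N210 : nd 210 = n210 := ndS (p := 153) (l := 7) rfl N153 D210
theorem N211 : nd 211 = n211 := ndS (p := 154) (l := 7) rfl N154 D211
theorem N212 : nd 212 = n212 := ndS (p := 155) (l := 6) rfl N155 D212
theorem N213 : nd 213 = n213 := ndS (p := 156) (l := 7) rfl N156 D213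
theorem N214 : nd 214 = n214 := ndS (p := 157) (l := 6) rfl N157 D214
theorem N215 : nd 215 = n215 := ndS (p := 159) (l := 6) rfl N159 D215
theorem N216 : nd 216 = n216 := ndS (p := 160) (l := 2) rfl N160 D216
theorem N217 : nd 217 = n217 := ndS (p := 161) (l := 3) rfl N161 D217
theorem N218 : nd 218 = n218 := ndS (p := 161) (l := 7) rfl N161 D218
theorem N219 : nd 219 = n219 := ndS (p := 162) (l := 2) rfl N162 D219
theorem N220 : nd 220 = n220 := ndS (p := 162) (l := 7) rfl N162 D220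
theorem N221 : nd 221 = n221 := ndS (p := 163) (l := 6) rfl N163 D221
theorem N222 : nd 222 = n222 := ndS (p := 164) (l := 6) rfl N164 D222
theorem N223 : nd 223 = n223 := ndS (p := 166) (l := 6) rfl N166 D223
theorem N224 : nd 224 = n224 := ndS (p := 167) (l := 2) rfl N167 D224
theorem N225 : nd 225 = n225 := ndS (p := 168) (l := 2) rfl N168 D225
theorem N226 : nd 226 = n226 := ndS (p := 169) (l := 3) rfl N169 D226
theorem N227 : nd 227 = n227 := ndS (p := 170) (l := 2) rfl N170 D227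
theorem N228 : nd 228 = n228 := ndS (p := 170) (l := 7) rfl N170 D228
theorem N229 : nd 229 = n229 := ndS (p := 171) (l := 1) rfl N171 D229
theorem N230 : nd 230 = n230 := ndS (p := 171) (l := 3) rfl N171 D230
theorem N231 : nd 231 = n231 := ndS (p := 171) (l := 7) rfl N171 D231
theorem N232 : nd 232 = n232 := ndS (p := 173) (l := 0) rfl N173 D232
theorem N233 : nd 233 = n233 := ndS (p := 173) (l := 3) rfl N173 D233
theorem N234 : nd 234 = n234 := ndS (p := 173) (l := 7) rfl N173 D234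
theorem N235 : nd 235 = n235 := ndS (p := 174) (l := 4) rfl N174 D235
theorem N236 : nd 236 = n236 := ndS (p := 174) (l := 7) rfl N174 D236
theorem N237 : nd 237 = n237 := ndS (p := 175) (l := 6) rfl N175 D237
theorem N238 : nd 238 = n238 := ndS (p := 176) (l := 3) rfl N176 D238
theorem N239 : nd 239 = n239 := ndS (p := 176) (l := 7) rfl N176 D239
theorem N240 : nd 240 = n240 := ndS (p := 177) (l := 2) rfl N177 D240
theorem N241 : nd 241 = n241 := ndS (p := 177) (l := 4) rfl N177 D241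
theorem N242 : nd 242 = n242 := ndS (p := 177) (l := 7) rfl N177 D242
theorem N243 : nd 243 = n243 := ndS (p := 178) (l := 6) rfl N178 D243
theorem N244 : nd 244 = n244 := ndS (p := 179) (l := 5) rfl N179 D244
theorem N245 : nd 245 = n245 := ndS (p := 179) (l := 7) rfl N179 D245
theorem N246 : nd 246 = n246 := ndS (p := 180) (l := 6) rfl N180 D246
theorem N247 : nd 247 = n247 := ndS (p := 182) (l := 0) rfl N182 D247
theorem N248 : nd 248 = n248 := ndS (p := 182) (l := 3) rfl N182 D248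
theorem N249 : nd 249 = n249 := ndS (p := 182) (l := 7) rfl N182 D249
theorem N250 : nd 250 = n250 := ndS (p := 183) (l := 4) rfl N183 D250
theorem N251 : nd 251 = n251 := ndS (p := 183) (l := 7) rfl N183 D251
theorem N252 : nd 252 = n252 := ndS (p := 184) (l := 6) rfl N184 D252
theorem N253 : nd 253 = n253 := ndS (p := 185) (l := 3) rfl N185 D253
theorem N254 : nd 254 = n254 := ndS (p := 185) (l := 7) rfl N185 D254
theorem N255 : nd 255 = n255 := ndS (p := 186) (l := 4) rfl N186 D255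
theorem N256 : nd 256 = n256 := ndS (p := 186) (l := 7) rfl N186 D256
theorem N257 : nd 257 = n257 := ndS (p := 187) (l := 6) rfl N187 D257
theorem N258 : nd 258 = n258 := ndS (p := 188) (l := 5) rfl N188 D258
theorem N259 : nd 259 = n259 := ndS (p := 188) (l := 7) rfl N188 D259
theorem N260 : nd 260 = n260 := ndS (p := 189) (l := 6) rfl N189 D260
theorem N261 : nd 261 = n261 := ndS (p := 191) (l := 4) rfl N191 D261
theorem N262 : nd 262 = n262 := ndS (p := 191) (l := 7) rfl N191 D262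
theorem N263 : nd 263 = n263 := ndS (p := 192) (l := 6) rfl N192 D263
theorem N264 : nd 264 = n264 := ndS (p := 193) (l := 5) rfl N193 D264
theorem N265 : nd 265 = n265 := ndS (p := 193) (l := 7) rfl N193 D265
theorem N266 : nd 266 = n266 := ndS (p := 194) (l := 6) rfl N194 D266
theorem N267 : nd 267 = n267 := ndS (p := 195) (l := 2) rfl N195 D267
theorem N268 : nd 268 = n268 := ndS (p := 196) (l := 7) rfl N196 D268
theorem N269 : nd 269 = n269 := ndS (p := 197) (l := 6) rfl N197 D269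
theorem N270 : nd 270 = n270 := ndS (p := 198) (l := 2) rfl N198 D270
theorem N271 : nd 271 = n271 := ndS (p := 199) (l := 7) rfl N199 D271
theorem N272 : nd 272 = n272 := ndS (p := 200) (l := 6) rfl N200 D272
theorem N273 : nd 273 = n273 := ndS (p := 201) (l := 2) rfl N201 D273
theorem N274 : nd 274 = n274 := ndS (p := 202) (l := 6) rfl N202 D274
theorem N275 : nd 275 = n275 := ndS (p := 203) (l := 2) rfl N203 D275
theorem N276 : nd 276 = n276 := ndS (p := 204) (l := 1) rfl N204 D276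
theorem N277 : nd 277 = n277 := ndS (p := 205) (l := 2) rfl N205 D277
theorem N278 : nd 278 = n278 := ndS (p := 206) (l := 1) rfl N206 D278
theorem N279 : nd 279 = n279 := ndS (p := 206) (l := 3) rfl N206 D279
theorem N280 : nd 280 = n280 := ndS (p := 207) (l := 0) rfl N207 D280
theorem N281 : nd 281 = n281 := ndS (p := 208) (l := 3) rfl N208 D281
theorem N282 : nd 282 = n282 := ndS (p := 208) (l := 7) rfl N208 D282
theorem N283 : nd 283 = n283 := ndS (p := 209) (l := 2) rfl N209 D283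
theorem N284 : nd 284 = n284 := ndS (p := 209) (l := 7) rfl N209 D284
theorem N285 : nd 285 = n285 := ndS (p := 210) (l := 6) rfl N210 D285
theorem N286 : nd 286 = n286 := ndS (p := 211) (l := 6) rfl N211 D286
theorem N287 : nd 287 = n287 := ndS (p := 213) (l := 6) rfl N213 D287
theorem N288 : nd 288 = n288 := ndS (p := 214) (l := 2) rfl N214 D288
theorem N289 : nd 289 = n289 := ndS (p := 215) (l := 2) rfl N215 D289
theorem N290 : nd 290 = n290 := ndS (p := 216) (l := 3) rfl N216 D290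
theorem N291 : nd 291 = n291 := ndS (p := 217) (l := 2) rfl N217 D291
theorem N292 : nd 292 = n292 := ndS (p := 217) (l := 7) rfl N217 D292
theorem N293 : nd 293 = n293 := ndS (p := 218) (l := 6) rfl N218 D293
theorem N294 : nd 294 = n294 := ndS (p := 219) (l := 6) rfl N219 D294
theorem N295 : nd 295 = n295 := ndS (p := 219) (l := 7) rfl N219 D295
theorem N296 : nd 296 = n296 := ndS (p := 220) (l := 6) rfl N220 D296
theorem N297 : nd 297 = n297 := ndS (p := 221) (l := 2) rfl N221 D297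
theorem N298 : nd 298 = n298 := ndS (p := 222) (l := 2) rfl N222 D298
theorem N299 : nd 299 = n299 := ndS (p := 223) (l := 2) rfl N223 D299
theorem N300 : nd 300 = n300 := ndS (p := 224) (l := 3) rfl N224 D300
theorem N301 : nd 301 = n304 := ndS (p := 227) (l := 1) rfl N227 D304
theorem N302 : nd 302 = n305 := ndS (p := 227) (l := 3) rfl N227 D305
theorem N303 : nd 303 = n306 := ndS (p := 227) (l := 7) rfl N227 D306
theorem N304 : nd 304 = n307 := ndS (p := 229) (l := 0) rfl N229 D307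
theorem N305 : nd 305 = n308 := ndS (p := 229) (l := 3) rfl N229 D308
theorem N306 : nd 306 = n309 := ndS (p := 229) (l := 7) rfl N229 D309
theorem N307 : nd 307 = n310 := ndS (p := 230) (l := 4) rfl N230 D310
theorem N308 : nd 308 = n311 := ndS (p := 230) (l := 7) rfl N230 D311
theorem N309 : nd 309 = n312 := ndS (p := 231) (l := 6) rfl N231 D312
theorem N310 : nd 310 = n313 := ndS (p := 232) (l := 3) rfl N232 D313
theorem N311 : nd 311 = n314 := ndS (p := 232) (l := 7) rfl N232 D314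
theorem N312 : nd 312 = n315 := ndS (p := 233) (l := 2) rfl N233 D315
theorem N313 : nd 313 = n316 := ndS (p := 233) (l := 4) rfl N233 D316
theorem N314 : nd 314 = n317 := ndS (p := 233) (l := 7) rfl N233 D317
theorem N315 : nd 315 = n318 := ndS (p := 234) (l := 6) rfl N234 D318
theorem N316 : nd 316 = n319 := ndS (p := 235) (l := 5) rfl N235 D319
theorem N317 : nd 317 = n320 := ndS (p := 235) (l := 7) rfl N235 D320
theorem N318 : nd 318 = n321 := ndS (p := 236) (l := 6) rfl N236 D321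
theorem N319 : nd 319 = n322 := ndS (p := 238) (l := 2) rfl N238 D322
theorem N320 : nd 320 = n323 := ndS (p := 238) (l := 4) rfl N238 D323
theorem N321 : nd 321 = n324 := ndS (p := 238) (l := 7) rfl N238 D324
theorem N322 : nd 322 = n325 := ndS (p := 239) (l := 6) rfl N239 D325
theorem N323 : nd 323 = n326 := ndS (p := 240) (l := 4) rfl N240 D326
theorem N324 : nd 324 = n327 := ndS (p := 240) (l := 7) rfl N240 D327
theorem N325 : nd 325 = n328 := ndS (p := 241) (l := 5) rfl N241 D328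
theorem N326 : nd 326 = n329 := ndS (p := 241) (l := 7) rfl N241 D329
theorem N327 : nd 327 = n330 := ndS (p := 242) (l := 6) rfl N242 D330
theorem N328 : nd 328 = n331 := ndS (p := 243) (l := 2) rfl N243 D331
theorem N329 : nd 329 = n332 := ndS (p := 244) (l := 7) rfl N244 D332
theorem N330 : nd 330 = n333 := ndS (p := 245) (l := 6) rfl N245 D333
theorem N331 : nd 331 = n334 := ndS (p := 246) (l := 2) rfl N246 D334
theorem N332 : nd 332 = n335 := ndS (p := 247) (l := 3) rfl N247 D335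
theorem N333 : nd 333 = n336 := ndS (p := 247) (l := 7) rfl N247 D336
theorem N334 : nd 334 = n337 := ndS (p := 248) (l := 2) rfl N248 D337
theorem N335 : nd 335 = n338 := ndS (p := 248) (l := 4) rfl N248 D338
theorem N336 : nd 336 = n339 := ndS (p := 248) (l := 7) rfl N248 D339
theorem N337 : nd 337 = n340 := ndS (p := 249) (l := 6) rfl N249 D340
theorem N338 : nd 338 = n341 := ndS (p := 250) (l := 5) rfl N250 D341
theorem N339 : nd 339 = n342 := ndS (p := 250) (l := 7) rfl N250 D342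
theorem N340 : nd 340 = n343 := ndS (p := 251) (l := 6) rfl N251 D343
theorem N341 : nd 341 = n344 := ndS (p := 253) (l := 4) rfl N253 D344
theorem N342 : nd 342 = n345 := ndS (p := 253) (l := 7) rfl N253 D345
theorem N343 : nd 343 = n346 := ndS (p := 254) (l := 6) rfl N254 D346
theorem N344 : nd 344 = n347 := ndS (p := 255) (l := 5) rfl N255 D347
theorem N345 : nd 345 = n348 := ndS (p := 255) (l := 7) rfl N255 D348
theorem N346 : nd 346 = n349 := ndS (p := 256) (l := 6) rfl N256 D349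
theorem N347 : nd 347 = n350 := ndS (p := 257) (l := 2) rfl N257 D350
theorem N348 : nd 348 = n351 := ndS (p := 258) (l := 7) rfl N258 D351
theorem N349 : nd 349 = n352 := ndS (p := 259) (l := 6) rfl N259 D352
theorem N350 : nd 350 = n353 := ndS (p := 260) (l := 2) rfl N260 D353
theorem N351 : nd 351 = n354 := ndS (p := 261) (l := 5) rfl N261 D354
theorem N352 : nd 352 = n355 := ndS (p := 261) (l := 7) rfl N261 D355
theorem N353 : nd 353 = n356 := ndS (p := 262) (l := 6) rfl N262 D356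
theorem N354 : nd 354 = n357 := ndS (p := 263) (l := 2) rfl N263 D357
theorem N355 : nd 355 = n358 := ndS (p := 264) (l := 7) rfl N264 D358
theorem N356 : nd 356 = n359 := ndS (p := 265) (l := 6) rfl N265 D359
theorem N357 : nd 357 = n360 := ndS (p := 266) (l := 2) rfl N266 D360
theorem N358 : nd 358 = n361 := ndS (p := 267) (l := 3) rfl N267 D361
theorem N359 : nd 359 = n362 := ndS (p := 268) (l := 6) rfl N268 D362
theorem N360 : nd 360 = n363 := ndS (p := 269) (l := 2) rfl N269 D363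
theorem N361 : nd 361 = n364 := ndS (p := 270) (l := 1) rfl N270 D364
theorem N362 : nd 362 = n365 := ndS (p := 271) (l := 6) rfl N271 D365
theorem N363 : nd 363 = n366 := ndS (p := 272) (l := 2) rfl N272 D366
theorem N364 : nd 364 = n367 := ndS (p := 273) (l := 1) rfl N273 D367
theorem N365 : nd 365 = n368 := ndS (p := 274) (l := 2) rfl N274 D368
theorem N366 : nd 366 = n369 := ndS (p := 275) (l := 1) rfl N275 D369
theorem N367 : nd 367 = n370 := ndS (p := 275) (l := 3) rfl N275 D370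
theorem N368 : nd 368 = n371 := ndS (p := 276) (l := 0) rfl N276 D371
theorem N369 : nd 369 = n372 := ndS (p := 277) (l := 1) rfl N277 D372
theorem N370 : nd 370 = n373 := ndS (p := 277) (l := 3) rfl N277 D373
theorem N371 : nd 371 = n376 := ndS (p := 281) (l := 2) rfl N281 D376
theorem N372 : nd 372 = n377 := ndS (p := 281) (l := 7) rfl N281 D377
theorem N373 : nd 373 = n378 := ndS (p := 282) (l := 6) rfl N282 D378
theorem N374 : nd 374 = n379 := ndS (p := 283) (l := 6) rfl N283 D379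
theorem N375 : nd 375 = n380 := ndS (p := 283) (l := 7) rfl N283 D380
theorem N376 : nd 376 = n381 := ndS (p := 284) (l := 6) rfl N284 D381
theorem N377 : nd 377 = n382 := ndS (p := 285) (l := 2) rfl N285 D382
theorem N378 : nd 378 = n383 := ndS (p := 286) (l := 2) rfl N286 D383
theorem N379 : nd 379 = n384 := ndS (p := 287) (l := 2) rfl N287 D384
theorem N380 : nd 380 = n385 := ndS (p := 288) (l := 3) rfl N288 D385
theorem N381 : nd 381 = n389 := ndS (p := 291) (l := 1) rfl N291 D389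
theorem N382 : nd 382 = n390 := ndS (p := 291) (l := 6) rfl N291 D390
theorem N383 : nd 383 = n391 := ndS (p := 291) (l := 7) rfl N291 D391
theorem N384 : nd 384 = n392 := ndS (p := 292) (l := 6) rfl N292 D392
theorem N385 : nd 385 = n393 := ndS (p := 293) (l := 2) rfl N293 D393
theorem N386 : nd 386 = n405 := ndS (p := 301) (l := 0) rfl N301 D405
theorem N387 : nd 387 = n406 := ndS (p := 301) (l := 3) rfl N301 D406
theorem N388 : nd 388 = n407 := ndS (p := 301) (l := 7) rfl N301 D407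
theorem N389 : nd 389 = n408 := ndS (p := 302) (l := 4) rfl N302 D408
theorem N390 : nd 390 = n409 := ndS (p := 302) (l := 7) rfl N302 D409
theorem N391 : nd 391 = n410 := ndS (p := 303) (l := 6) rfl N303 D410
theorem N392 : nd 392 = n411 := ndS (p := 304) (l := 3) rfl N304 D411
theorem N393 : nd 393 = n412 := ndS (p := 304) (l := 7) rfl N304 D412
theorem N394 : nd 394 = n413 := ndS (p := 305) (l := 2) rfl N305 D413
theorem N395 : nd 395 = n414 := ndS (p := 305) (l := 4) rfl N305 D414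
theorem N396 : nd 396 = n415 := ndS (p := 305) (l := 7) rfl N305 D415
theorem N397 : nd 397 = n416 := ndS (p := 306) (l := 6) rfl N306 D416
theorem N398 : nd 398 = n417 := ndS (p := 307) (l := 5) rfl N307 D417
theorem N399 : nd 399 = n418 := ndS (p := 307) (l := 7) rfl N307 D418
theorem N400 : nd 400 = n419 := ndS (p := 308) (l := 6) rfl N308 D419
theorem N401 : nd 401 = n420 := ndS (p := 310) (l := 2) rfl N310 D420
theorem N402 : nd 402 = n421 := ndS (p := 310) (l := 4) rfl N310 D421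
theorem N403 : nd 403 = n422 := ndS (p := 310) (l := 7) rfl N310 D422
theorem N404 : nd 404 = n423 := ndS (p := 311) (l := 6) rfl N311 D423
theorem N405 : nd 405 = n424 := ndS (p := 312) (l := 4) rfl N312 D424
theorem N406 : nd 406 = n425 := ndS (p := 312) (l := 7) rfl N312 D425
theorem N407 : nd 407 = n426 := ndS (p := 313) (l := 5) rfl N313 D426
theorem N408 : nd 408 = n427 := ndS (p := 313) (l := 7) rfl N313 D427
theorem N409 : nd 409 = n428 := ndS (p := 314) (l := 6) rfl N314 D428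
theorem N410 : nd 410 = n429 := ndS (p := 315) (l := 2) rfl N315 D429
theorem N411 : nd 411 = n430 := ndS (p := 316) (l := 7) rfl N316 D430
theorem N412 : nd 412 = n431 := ndS (p := 317) (l := 6) rfl N317 D431
theorem N413 : nd 413 = n432 := ndS (p := 318) (l := 2) rfl N318 D432
theorem N414 : nd 414 = n433 := ndS (p := 319) (l := 1) rfl N319 D433
theorem N415 : nd 415 = n434 := ndS (p := 319) (l := 4) rfl N319 D434
theorem N416 : nd 416 = n435 := ndS (p := 319) (l := 7) rfl N319 D435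
theorem N417 : nd 417 = n436 := ndS (p := 320) (l := 5) rfl N320 D436
theorem N418 : nd 418 = n437 := ndS (p := 320) (l := 7) rfl N320 D437
theorem N419 : nd 419 = n438 := ndS (p := 321) (l := 6) rfl N321 D438
theorem N420 : nd 420 = n439 := ndS (p := 322) (l := 2) rfl N322 D439
theorem N421 : nd 421 = n440 := ndS (p := 323) (l := 3) rfl N323 D440
theorem N422 : nd 422 = n441 := ndS (p := 323) (l := 5) rfl N323 D441
theorem N423 : nd 423 = n442 := ndS (p := 323) (l := 7) rfl N323 D442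
theorem N424 : nd 424 = n443 := ndS (p := 324) (l := 6) rfl N324 D443
theorem N425 : nd 425 = n444 := ndS (p := 325) (l := 7) rfl N325 D444
theorem N426 : nd 426 = n445 := ndS (p := 326) (l := 6) rfl N326 D445
theorem N427 : nd 427 = n446 := ndS (p := 327) (l := 2) rfl N327 D446
theorem N428 : nd 428 = n447 := ndS (p := 328) (l := 3) rfl N328 D447
theorem N429 : nd 429 = n448 := ndS (p := 329) (l := 6) rfl N329 D448
theorem N430 : nd 430 = n449 := ndS (p := 330) (l := 2) rfl N330 D449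
theorem N431 : nd 431 = n450 := ndS (p := 331) (l := 1) rfl N331 D450
theorem N432 : nd 432 = n451 := ndS (p := 332) (l := 2) rfl N332 D451
theorem N433 : nd 433 = n452 := ndS (p := 332) (l := 4) rfl N332 D452
theorem N434 : nd 434 = n453 := ndS (p := 332) (l := 7) rfl N332 D453
theorem N435 : nd 435 = n454 := ndS (p := 333) (l := 6) rfl N333 D454
theorem N436 : nd 436 = n455 := ndS (p := 334) (l := 4) rfl N334 D455
theorem N437 : nd 437 = n456 := ndS (p := 334) (l := 6) rfl N334 D456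
theorem N438 : nd 438 = n457 := ndS (p := 334) (l := 7) rfl N334 D457
theorem N439 : nd 439 = n458 := ndS (p := 335) (l := 5) rfl N335 D458
theorem N440 : nd 440 = n459 := ndS (p := 335) (l := 7) rfl N335 D459
theorem N441 : nd 441 = n460 := ndS (p := 336) (l := 6) rfl N336 D460
theorem N442 : nd 442 = n461 := ndS (p := 337) (l := 2) rfl N337 D461
theorem N443 : nd 443 = n462 := ndS (p := 338) (l := 7) rfl N338 D462
theorem N444 : nd 444 = n463 := ndS (p := 339) (l := 6) rfl N339 D463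
theorem N445 : nd 445 = n464 := ndS (p := 340) (l := 2) rfl N340 D464
theorem N446 : nd 446 = n465 := ndS (p := 341) (l := 5) rfl N341 D465
theorem N447 : nd 447 = n466 := ndS (p := 341) (l := 7) rfl N341 D466
theorem N448 : nd 448 = n467 := ndS (p := 342) (l := 6) rfl N342 D467
theorem N449 : nd 449 = n468 := ndS (p := 343) (l := 2) rfl N343 D468
theorem N450 : nd 450 = n469 := ndS (p := 344) (l := 7) rfl N344 D469
theorem N451 : nd 451 = n470 := ndS (p := 345) (l := 6) rfl N345 D470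
theorem N452 : nd 452 = n471 := ndS (p := 346) (l := 2) rfl N346 D471
theorem N453 : nd 453 = n472 := ndS (p := 347) (l := 3) rfl N347 D472
theorem N454 : nd 454 = n473 := ndS (p := 348) (l := 6) rfl N348 D473
theorem N455 : nd 455 = n474 := ndS (p := 349) (l := 2) rfl N349 D474
theorem N456 : nd 456 = n475 := ndS (p := 350) (l := 1) rfl N350 D475
theorem N457 : nd 457 = n476 := ndS (p := 351) (l := 7) rfl N351 D476
theorem N458 : nd 458 = n477 := ndS (p := 352) (l := 6) rfl N352 D477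
theorem N459 : nd 459 = n478 := ndS (p := 353) (l := 2) rfl N353 D478
theorem N460 : nd 460 = n479 := ndS (p := 354) (l := 1) rfl N354 D479
theorem N461 : nd 461 = n480 := ndS (p := 354) (l := 3) rfl N354 D480
theorem N462 : nd 462 = n481 := ndS (p := 355) (l := 6) rfl N355 D481
theorem N463 : nd 463 = n482 := ndS (p := 356) (l := 2) rfl N356 D482
theorem N464 : nd 464 = n483 := ndS (p := 357) (l := 1) rfl N357 D483
theorem N465 : nd 465 = n484 := ndS (p := 357) (l := 3) rfl N357 D484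
theorem N466 : nd 466 = n485 := ndS (p := 358) (l := 4) rfl N358 D485
theorem N467 : nd 467 = n486 := ndS (p := 359) (l := 2) rfl N359 D486
theorem N468 : nd 468 = n490 := ndS (p := 362) (l := 2) rfl N362 D490
theorem N469 : nd 469 = n491 := ndS (p := 363) (l := 1) rfl N363 D491
theorem N470 : nd 470 = n492 := ndS (p := 363) (l := 3) rfl N363 D492
theorem N471 : nd 471 = n493 := ndS (p := 364) (l := 0) rfl N364 D493
theorem N472 : nd 472 = n494 := ndS (p := 365) (l := 1) rfl N365 D494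
theorem N473 : nd 473 = n495 := ndS (p := 365) (l := 3) rfl N365 D495
theorem N474 : nd 474 = n500 := ndS (p := 370) (l := 4) rfl N370 D500
theorem N475 : nd 475 = n503 := ndS (p := 371) (l := 1) rfl N371 D503
theorem N476 : nd 476 = n504 := ndS (p := 371) (l := 6) rfl N371 D504
theorem N477 : nd 477 = n505 := ndS (p := 371) (l := 7) rfl N371 D505
theorem N478 : nd 478 = n506 := ndS (p := 372) (l := 6) rfl N372 D506
theorem N479 : nd 479 = n507 := ndS (p := 373) (l := 2) rfl N373 D507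
theorem N480 : nd 480 = n508 := ndS (p := 374) (l := 7) rfl N374 D508
theorem N481 : nd 481 = n509 := ndS (p := 375) (l := 6) rfl N375 D509
theorem N482 : nd 482 = n510 := ndS (p := 376) (l := 2) rfl N376 D510
theorem N483 : nd 483 = n511 := ndS (p := 377) (l := 3) rfl N377 D511
theorem N484 : nd 484 = n512 := ndS (p := 378) (l := 1) rfl N378 D512
theorem N485 : nd 485 = n515 := ndS (p := 380) (l := 4) rfl N380 D515
theorem N486 : nd 486 = n519 := ndS (p := 381) (l := 6) rfl N381 D519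
theorem N487 : nd 487 = n520 := ndS (p := 381) (l := 7) rfl N381 D520
theorem N488 : nd 488 = n538 := ndS (p := 386) (l := 3) rfl N386 D538
theorem N489 : nd 489 = n539 := ndS (p := 386) (l := 7) rfl N386 D539
theorem N490 : nd 490 = n540 := ndS (p := 387) (l := 2) rfl N387 D540
theorem N491 : nd 491 = n541 := ndS (p := 387) (l := 4) rfl N387 D541
theorem N492 : nd 492 = n542 := ndS (p := 387) (l := 7) rfl N387 D542
theorem N493 : nd 493 = n543 := ndS (p := 388) (l := 6) rfl N388 D543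
theorem N494 : nd 494 = n544 := ndS (p := 389) (l := 5) rfl N389 D544
theorem N495 : nd 495 = n545 := ndS (p := 389) (l := 7) rfl N389 D545
theorem N496 : nd 496 = n546 := ndS (p := 390) (l := 6) rfl N390 D546
theorem N497 : nd 497 = n547 := ndS (p := 392) (l := 2) rfl N392 D547
theorem N498 : nd 498 = n548 := ndS (p := 392) (l := 4) rfl N392 D548
theorem N499 : nd 499 = n549 := ndS (p := 392) (l := 7) rfl N392 D549
theorem N500 : nd 500 = n550 := ndS (p := 393) (l := 6) rfl N393 D550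
theorem N501 : nd 501 = n551 := ndS (p := 394) (l := 4) rfl N394 D551
theorem N502 : nd 502 = n552 := ndS (p := 394) (l := 6) rfl N394 D552
theorem N503 : nd 503 = n553 := ndS (p := 394) (l := 7) rfl N394 D553
theorem N504 : nd 504 = n554 := ndS (p := 395) (l := 5) rfl N395 D554
theorem N505 : nd 505 = n555 := ndS (p := 395) (l := 7) rfl N395 D555
theorem N506 : nd 506 = n556 := ndS (p := 396) (l := 6) rfl N396 D556
theorem N507 : nd 507 = n557 := ndS (p := 397) (l := 2) rfl N397 D557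
theorem N508 : nd 508 = n558 := ndS (p := 398) (l := 7) rfl N398 D558
theorem N509 : nd 509 = n559 := ndS (p := 399) (l := 6) rfl N399 D559
theorem N510 : nd 510 = n560 := ndS (p := 400) (l := 2) rfl N400 D560
theorem N511 : nd 511 = n561 := ndS (p := 401) (l := 1) rfl N401 D561
theorem N512 : nd 512 = n562 := ndS (p := 401) (l := 4) rfl N401 D562
theorem N513 : nd 513 = n563 := ndS (p := 401) (l := 7) rfl N401 D563
theorem N514 : nd 514 = n564 := ndS (p := 402) (l := 5) rfl N402 D564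
theorem N515 : nd 515 = n565 := ndS (p := 402) (l := 7) rfl N402 D565
theorem N516 : nd 516 = n566 := ndS (p := 403) (l := 6) rfl N403 D566
theorem N517 : nd 517 = n567 := ndS (p := 404) (l := 2) rfl N404 D567
theorem N518 : nd 518 = n568 := ndS (p := 405) (l := 3) rfl N405 D568
theorem N519 : nd 519 = n569 := ndS (p := 405) (l := 5) rfl N405 D569
theorem N520 : nd 520 = n570 := ndS (p := 405) (l := 7) rfl N405 D570
theorem N521 : nd 521 = n571 := ndS (p := 406) (l := 6) rfl N406 D571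
theorem N522 : nd 522 = n572 := ndS (p := 407) (l := 7) rfl N407 D572
theorem N523 : nd 523 = n573 := ndS (p := 408) (l := 6) rfl N408 D573
theorem N524 : nd 524 = n574 := ndS (p := 409) (l := 2) rfl N409 D574
theorem N525 : nd 525 = n575 := ndS (p := 410) (l := 3) rfl N410 D575
theorem N526 : nd 526 = n576 := ndS (p := 411) (l := 6) rfl N411 D576
theorem N527 : nd 527 = n577 := ndS (p := 412) (l := 2) rfl N412 D577
theorem N528 : nd 528 = n578 := ndS (p := 413) (l := 1) rfl N413 D578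
theorem N529 : nd 529 = n579 := ndS (p := 414) (l := 4) rfl N414 D579
theorem N530 : nd 530 = n580 := ndS (p := 414) (l := 7) rfl N414 D580
theorem N531 : nd 531 = n581 := ndS (p := 415) (l := 3) rfl N415 D581
theorem N532 : nd 532 = n582 := ndS (p := 415) (l := 5) rfl N415 D582
theorem N533 : nd 533 = n583 := ndS (p := 415) (l := 7) rfl N415 D583
theorem N534 : nd 534 = n584 := ndS (p := 416) (l := 6) rfl N416 D584
theorem N535 : nd 535 = n585 := ndS (p := 417) (l := 7) rfl N417 D585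
theorem N536 : nd 536 = n586 := ndS (p := 418) (l := 6) rfl N418 D586
theorem N537 : nd 537 = n587 := ndS (p := 419) (l := 2) rfl N419 D587
theorem N538 : nd 538 = n588 := ndS (p := 420) (l := 1) rfl N420 D588
theorem N539 : nd 539 = n589 := ndS (p := 420) (l := 3) rfl N420 D589
theorem N540 : nd 540 = n590 := ndS (p := 421) (l := 5) rfl N421 D590
theorem N541 : nd 541 = n591 := ndS (p := 421) (l := 7) rfl N421 D591
theorem N542 : nd 542 = n592 := ndS (p := 422) (l := 7) rfl N422 D592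
theorem N543 : nd 543 = n593 := ndS (p := 423) (l := 6) rfl N423 D593
theorem N544 : nd 544 = n594 := ndS (p := 424) (l := 2) rfl N424 D594
theorem N545 : nd 545 = n595 := ndS (p := 425) (l := 6) rfl N425 D595
theorem N546 : nd 546 = n596 := ndS (p := 426) (l := 2) rfl N426 D596
theorem N547 : nd 547 = n597 := ndS (p := 427) (l := 1) rfl N427 D597
theorem N548 : nd 548 = n598 := ndS (p := 427) (l := 3) rfl N427 D598
theorem N549 : nd 549 = n599 := ndS (p := 428) (l := 4) rfl N428 D599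
theorem N550 : nd 550 = n600 := ndS (p := 429) (l := 2) rfl N429 D600
theorem N551 : nd 551 = n604 := ndS (p := 432) (l := 1) rfl N432 D604
theorem N552 : nd 552 = n605 := ndS (p := 432) (l := 4) rfl N432 D605
theorem N553 : nd 553 = n606 := ndS (p := 432) (l := 6) rfl N432 D606
theorem N554 : nd 554 = n607 := ndS (p := 432) (l := 7) rfl N432 D607
theorem N555 : nd 555 = n608 := ndS (p := 433) (l := 5) rfl N433 D608
theorem N556 : nd 556 = n609 := ndS (p := 433) (l := 7) rfl N433 D609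
theorem N557 : nd 557 = n610 := ndS (p := 434) (l := 6) rfl N434 D610
theorem N558 : nd 558 = n611 := ndS (p := 435) (l := 2) rfl N435 D611
theorem N559 : nd 559 = n612 := ndS (p := 436) (l := 5) rfl N436 D612
theorem N560 : nd 560 = n613 := ndS (p := 436) (l := 6) rfl N436 D613
theorem N561 : nd 561 = n614 := ndS (p := 436) (l := 7) rfl N436 D614
theorem N562 : nd 562 = n615 := ndS (p := 437) (l := 7) rfl N437 D615
theorem N563 : nd 563 = n616 := ndS (p := 438) (l := 6) rfl N438 D616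
theorem N564 : nd 564 = n617 := ndS (p := 439) (l := 7) rfl N439 D617
theorem N565 : nd 565 = n618 := ndS (p := 440) (l := 6) rfl N440 D618
theorem N566 : nd 566 = n619 := ndS (p := 441) (l := 2) rfl N441 D619
theorem N567 : nd 567 = n620 := ndS (p := 442) (l := 3) rfl N442 D620
theorem N568 : nd 568 = n621 := ndS (p := 443) (l := 6) rfl N443 D621
theorem N569 : nd 569 = n622 := ndS (p := 444) (l := 2) rfl N444 D622
theorem N570 : nd 570 = n623 := ndS (p := 445) (l := 1) rfl N445 D623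
theorem N571 : nd 571 = n624 := ndS (p := 446) (l := 7) rfl N446 D624
theorem N572 : nd 572 = n625 := ndS (p := 447) (l := 6) rfl N447 D625
theorem N573 : nd 573 = n626 := ndS (p := 448) (l := 2) rfl N448 D626
theorem N574 : nd 574 = n627 := ndS (p := 449) (l := 1) rfl N449 D627
theorem N575 : nd 575 = n628 := ndS (p := 449) (l := 3) rfl N449 D628
theorem N576 : nd 576 = n629 := ndS (p := 450) (l := 6) rfl N450 D629
theorem N577 : nd 577 = n630 := ndS (p := 451) (l := 2) rfl N451 D630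
theorem N578 : nd 578 = n631 := ndS (p := 452) (l := 1) rfl N452 D631
theorem N579 : nd 579 = n632 := ndS (p := 452) (l := 3) rfl N452 D632
theorem N580 : nd 580 = n633 := ndS (p := 453) (l := 4) rfl N453 D633
theorem N581 : nd 581 = n634 := ndS (p := 454) (l := 2) rfl N454 D634
theorem N582 : nd 582 = n635 := ndS (p := 455) (l := 1) rfl N455 D635
theorem N583 : nd 583 = n636 := ndS (p := 455) (l := 3) rfl N455 D636
theorem N584 : nd 584 = n637 := ndS (p := 456) (l := 0) rfl N456 D637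
theorem N585 : nd 585 = n638 := ndS (p := 457) (l := 6) rfl N457 D638
theorem N586 : nd 586 = n639 := ndS (p := 458) (l := 2) rfl N458 D639
theorem N587 : nd 587 = n640 := ndS (p := 459) (l := 1) rfl N459 D640
theorem N588 : nd 588 = n641 := ndS (p := 459) (l := 3) rfl N459 D641
theorem N589 : nd 589 = n644 := ndS (p := 462) (l := 2) rfl N462 D644
theorem N590 : nd 590 = n647 := ndS (p := 464) (l := 0) rfl N464 D647
theorem N591 : nd 591 = n648 := ndS (p := 464) (l := 3) rfl N464 D648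
theorem N592 : nd 592 = n655 := ndS (p := 468) (l := 1) rfl N468 D655
theorem N593 : nd 593 = n656 := ndS (p := 468) (l := 3) rfl N468 D656
theorem N594 : nd 594 = n657 := ndS (p := 469) (l := 0) rfl N469 D657
theorem N595 : nd 595 = n658 := ndS (p := 469) (l := 3) rfl N469 D658
theorem N596 : nd 596 = n661 := ndS (p := 473) (l := 4) rfl N473 D661
theorem N597 : nd 597 = n669 := ndS (p := 475) (l := 6) rfl N475 D669
theorem N598 : nd 598 = n670 := ndS (p := 475) (l := 7) rfl N475 D670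
theorem N599 : nd 599 = n671 := ndS (p := 476) (l := 7) rfl N476 D671
theorem N600 : nd 600 = n672 := ndS (p := 477) (l := 6) rfl N477 D672
theorem N601 : nd 601 = n673 := ndS (p := 478) (l := 2) rfl N478 D673
theorem N602 : nd 602 = n675 := ndS (p := 479) (l := 3) rfl N479 D675
theorem N603 : nd 603 = n676 := ndS (p := 480) (l := 6) rfl N480 D676
theorem N604 : nd 604 = n677 := ndS (p := 481) (l := 2) rfl N481 D677
theorem N605 : nd 605 = n678 := ndS (p := 482) (l := 1) rfl N482 D678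
theorem N606 : nd 606 = n679 := ndS (p := 482) (l := 3) rfl N482 D679
theorem N607 : nd 607 = n680 := ndS (p := 483) (l := 4) rfl N483 D680
theorem N608 : nd 608 = n688 := ndS (p := 486) (l := 2) rfl N486 D688
theorem N609 : nd 609 = n710 := ndS (p := 488) (l := 2) rfl N488 D710
theorem N610 : nd 610 = n711 := ndS (p := 488) (l := 4) rfl N488 D711
theorem N611 : nd 611 = n712 := ndS (p := 488) (l := 7) rfl N488 D712
theorem N612 : nd 612 = n713 := ndS (p := 489) (l := 6) rfl N489 D713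
theorem N613 : nd 613 = n714 := ndS (p := 490) (l := 4) rfl N490 D714
theorem N614 : nd 614 = n715 := ndS (p := 490) (l := 6) rfl N490 D715
theorem N615 : nd 615 = n716 := ndS (p := 490) (l := 7) rfl N490 D716
theorem N616 : nd 616 = n717 := ndS (p := 491) (l := 5) rfl N491 D717
theorem N617 : nd 617 = n718 := ndS (p := 491) (l := 7) rfl N491 D718
theorem N618 : nd 618 = n719 := ndS (p := 492) (l := 6) rfl N492 D719
theorem N619 : nd 619 = n720 := ndS (p := 493) (l := 2) rfl N493 D720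
theorem N620 : nd 620 = n721 := ndS (p := 494) (l := 7) rfl N494 D721
theorem N621 : nd 621 = n722 := ndS (p := 495) (l := 6) rfl N495 D722
theorem N622 : nd 622 = n723 := ndS (p := 496) (l := 2) rfl N496 D723
theorem N623 : nd 623 = n724 := ndS (p := 497) (l := 1) rfl N497 D724
theorem N624 : nd 624 = n725 := ndS (p := 497) (l := 4) rfl N497 D725
theorem N625 : nd 625 = n726 := ndS (p := 497) (l := 6) rfl N497 D726
theorem N626 : nd 626 = n727 := ndS (p := 497) (l := 7) rfl N497 D727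
theorem N627 : nd 627 = n728 := ndS (p := 498) (l := 5) rfl N498 D728
theorem N628 : nd 628 = n729 := ndS (p := 498) (l := 7) rfl N498 D729
theorem N629 : nd 629 = n730 := ndS (p := 499) (l := 6) rfl N499 D730
theorem N630 : nd 630 = n731 := ndS (p := 500) (l := 2) rfl N500 D731
theorem N631 : nd 631 = n732 := ndS (p := 501) (l := 3) rfl N501 D732
theorem N632 : nd 632 = n733 := ndS (p := 501) (l := 5) rfl N501 D733
theorem N633 : nd 633 = n734 := ndS (p := 501) (l := 6) rfl N501 D734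
theorem N634 : nd 634 = n735 := ndS (p := 501) (l := 7) rfl N501 D735
theorem N635 : nd 635 = n736 := ndS (p := 502) (l := 7) rfl N502 D736
theorem N636 : nd 636 = n737 := ndS (p := 503) (l := 6) rfl N503 D737
theorem N637 : nd 637 = n738 := ndS (p := 504) (l := 7) rfl N504 D738
theorem N638 : nd 638 = n739 := ndS (p := 505) (l := 6) rfl N505 D739
theorem N639 : nd 639 = n740 := ndS (p := 506) (l := 2) rfl N506 D740
theorem N640 : nd 640 = n741 := ndS (p := 507) (l := 3) rfl N507 D741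
theorem N641 : nd 641 = n742 := ndS (p := 508) (l := 6) rfl N508 D742
theorem N642 : nd 642 = n743 := ndS (p := 509) (l := 2) rfl N509 D743
theorem N643 : nd 643 = n744 := ndS (p := 510) (l := 1) rfl N510 D744
theorem N644 : nd 644 = n745 := ndS (p := 511) (l := 4) rfl N511 D745
theorem N645 : nd 645 = n746 := ndS (p := 511) (l := 7) rfl N511 D746
theorem N646 : nd 646 = n747 := ndS (p := 512) (l := 3) rfl N512 D747
theorem N647 : nd 647 = n748 := ndS (p := 512) (l := 5) rfl N512 D748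
theorem N648 : nd 648 = n749 := ndS (p := 512) (l := 7) rfl N512 D749
theorem N649 : nd 649 = n750 := ndS (p := 513) (l := 6) rfl N513 D750
theorem N650 : nd 650 = n751 := ndS (p := 514) (l := 7) rfl N514 D751
theorem N651 : nd 651 = n752 := ndS (p := 515) (l := 6) rfl N515 D752
theorem N652 : nd 652 = n753 := ndS (p := 516) (l := 2) rfl N516 D753
theorem N653 : nd 653 = n754 := ndS (p := 517) (l := 1) rfl N517 D754
theorem N654 : nd 654 = n755 := ndS (p := 517) (l := 3) rfl N517 D755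
theorem N655 : nd 655 = n756 := ndS (p := 518) (l := 5) rfl N518 D756
theorem N656 : nd 656 = n757 := ndS (p := 518) (l := 7) rfl N518 D757
theorem N657 : nd 657 = n758 := ndS (p := 519) (l := 7) rfl N519 D758
theorem N658 : nd 658 = n759 := ndS (p := 520) (l := 6) rfl N520 D759
theorem N659 : nd 659 = n760 := ndS (p := 521) (l := 2) rfl N521 D760
theorem N660 : nd 660 = n761 := ndS (p := 522) (l := 6) rfl N522 D761
theorem N661 : nd 661 = n762 := ndS (p := 523) (l := 2) rfl N523 D762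
theorem N662 : nd 662 = n763 := ndS (p := 524) (l := 1) rfl N524 D763
theorem N663 : nd 663 = n764 := ndS (p := 524) (l := 3) rfl N524 D764
theorem N664 : nd 664 = n765 := ndS (p := 525) (l := 4) rfl N525 D765
theorem N665 : nd 665 = n766 := ndS (p := 526) (l := 2) rfl N526 D766
theorem N666 : nd 666 = n767 := ndS (p := 527) (l := 1) rfl N527 D767
theorem N667 : nd 667 = n768 := ndS (p := 527) (l := 3) rfl N527 D768
theorem N668 : nd 668 = n769 := ndS (p := 528) (l := 0) rfl N528 D769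
theorem N669 : nd 669 = n770 := ndS (p := 529) (l := 3) rfl N529 D770
theorem N670 : nd 670 = n771 := ndS (p := 529) (l := 5) rfl N529 D771
theorem N671 : nd 671 = n772 := ndS (p := 529) (l := 7) rfl N529 D772
theorem N672 : nd 672 = n773 := ndS (p := 530) (l := 6) rfl N530 D773
theorem N673 : nd 673 = n774 := ndS (p := 531) (l := 5) rfl N531 D774
theorem N674 : nd 674 = n775 := ndS (p := 531) (l := 7) rfl N531 D775
theorem N675 : nd 675 = n776 := ndS (p := 532) (l := 7) rfl N532 D776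
theorem N676 : nd 676 = n777 := ndS (p := 533) (l := 6) rfl N533 D777
theorem N677 : nd 677 = n778 := ndS (p := 534) (l := 2) rfl N534 D778
theorem N678 : nd 678 = n779 := ndS (p := 535) (l := 6) rfl N535 D779
theorem N679 : nd 679 = n780 := ndS (p := 536) (l := 2) rfl N536 D780
theorem N680 : nd 680 = n781 := ndS (p := 537) (l := 1) rfl N537 D781
theorem N681 : nd 681 = n782 := ndS (p := 537) (l := 3) rfl N537 D782
theorem N682 : nd 682 = n785 := ndS (p := 540) (l := 4) rfl N540 D785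
theorem N683 : nd 683 = n786 := ndS (p := 540) (l := 7) rfl N540 D786
theorem N684 : nd 684 = n787 := ndS (p := 541) (l := 6) rfl N541 D787
theorem N685 : nd 685 = n788 := ndS (p := 542) (l := 6) rfl N542 D788
theorem N686 : nd 686 = n789 := ndS (p := 543) (l := 2) rfl N543 D789
theorem N687 : nd 687 = n790 := ndS (p := 544) (l := 1) rfl N544 D790
theorem N688 : nd 688 = n791 := ndS (p := 544) (l := 3) rfl N544 D791
theorem N689 : nd 689 = n792 := ndS (p := 545) (l := 2) rfl N545 D792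
theorem N690 : nd 690 = n795 := ndS (p := 547) (l := 0) rfl N547 D795
theorem N691 : nd 691 = n796 := ndS (p := 547) (l := 3) rfl N547 D796
theorem N692 : nd 692 = n803 := ndS (p := 551) (l := 4) rfl N551 D803
theorem N693 : nd 693 = n804 := ndS (p := 551) (l := 6) rfl N551 D804
theorem N694 : nd 694 = n805 := ndS (p := 551) (l := 7) rfl N551 D805
theorem N695 : nd 695 = n806 := ndS (p := 552) (l := 5) rfl N552 D806
theorem N696 : nd 696 = n807 := ndS (p := 552) (l := 6) rfl N552 D807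
theorem N697 : nd 697 = n808 := ndS (p := 552) (l := 7) rfl N552 D808
theorem N698 : nd 698 = n809 := ndS (p := 553) (l := 7) rfl N553 D809
theorem N699 : nd 699 = n810 := ndS (p := 554) (l := 6) rfl N554 D810
theorem N700 : nd 700 = n811 := ndS (p := 555) (l := 7) rfl N555 D811
theorem N701 : nd 701 = n812 := ndS (p := 556) (l := 6) rfl N556 D812
theorem N702 : nd 702 = n813 := ndS (p := 557) (l := 2) rfl N557 D813
theorem N703 : nd 703 = n814 := ndS (p := 558) (l := 1) rfl N558 D814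
theorem N704 : nd 704 = n815 := ndS (p := 558) (l := 3) rfl N558 D815
theorem N705 : nd 705 = n816 := ndS (p := 559) (l := 6) rfl N559 D816
theorem N706 : nd 706 = n817 := ndS (p := 559) (l := 7) rfl N559 D817
theorem N707 : nd 707 = n818 := ndS (p := 560) (l := 7) rfl N560 D818
theorem N708 : nd 708 = n819 := ndS (p := 561) (l := 6) rfl N561 D819
theorem N709 : nd 709 = n820 := ndS (p := 562) (l := 6) rfl N562 D820
theorem N710 : nd 710 = n821 := ndS (p := 563) (l := 2) rfl N563 D821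
theorem N711 : nd 711 = n822 := ndS (p := 564) (l := 6) rfl N564 D822
theorem N712 : nd 712 = n823 := ndS (p := 565) (l := 2) rfl N565 D823
theorem N713 : nd 713 = n824 := ndS (p := 566) (l := 1) rfl N566 D824
theorem N714 : nd 714 = n825 := ndS (p := 566) (l := 3) rfl N566 D825
theorem N715 : nd 715 = n826 := ndS (p := 567) (l := 4) rfl N567 D826
theorem N716 : nd 716 = n827 := ndS (p := 568) (l := 2) rfl N568 D827
theorem N717 : nd 717 = n828 := ndS (p := 569) (l := 1) rfl N569 D828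
theorem N718 : nd 718 = n829 := ndS (p := 569) (l := 3) rfl N569 D829
theorem N719 : nd 719 = n830 := ndS (p := 570) (l := 0) rfl N570 D830
theorem N720 : nd 720 = n831 := ndS (p := 571) (l := 6) rfl N571 D831
theorem N721 : nd 721 = n832 := ndS (p := 572) (l := 2) rfl N572 D832
theorem N722 : nd 722 = n833 := ndS (p := 573) (l := 1) rfl N573 D833
theorem N723 : nd 723 = n834 := ndS (p := 573) (l := 3) rfl N573 D834
theorem N724 : nd 724 = n836 := ndS (p := 575) (l := 4) rfl N575 D836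
theorem N725 : nd 725 = n837 := ndS (p := 576) (l := 2) rfl N576 D837
theorem N726 : nd 726 = n838 := ndS (p := 577) (l := 1) rfl N577 D838
theorem N727 : nd 727 = n839 := ndS (p := 577) (l := 3) rfl N577 D839
theorem N728 : nd 728 = n840 := ndS (p := 578) (l := 0) rfl N578 D840
theorem N729 : nd 729 = n841 := ndS (p := 578) (l := 3) rfl N578 D841
theorem N730 : nd 730 = n842 := ndS (p := 579) (l := 4) rfl N579 D842
theorem N731 : nd 731 = n843 := ndS (p := 580) (l := 5) rfl N580 D843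
theorem N732 : nd 732 = n845 := ndS (p := 581) (l := 3) rfl N581 D845
theorem N733 : nd 733 = n847 := ndS (p := 582) (l := 3) rfl N582 D847
theorem N734 : nd 734 = n848 := ndS (p := 585) (l := 2) rfl N585 D848
theorem N735 : nd 735 = n849 := ndS (p := 586) (l := 1) rfl N586 D849
theorem N736 : nd 736 = n850 := ndS (p := 586) (l := 3) rfl N586 D850
theorem N737 : nd 737 = n871 := ndS (p := 592) (l := 3) rfl N592 D871
theorem N738 : nd 738 = n872 := ndS (p := 593) (l := 4) rfl N593 D872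
theorem N739 : nd 739 = n873 := ndS (p := 594) (l := 3) rfl N594 D873
theorem N740 : nd 740 = n874 := ndS (p := 595) (l := 2) rfl N595 D874
theorem N741 : nd 741 = n887 := ndS (p := 597) (l := 2) rfl N597 D887
theorem N742 : nd 742 = n888 := ndS (p := 597) (l := 7) rfl N597 D888
theorem N743 : nd 743 = n889 := ndS (p := 598) (l := 6) rfl N598 D889
theorem N744 : nd 744 = n890 := ndS (p := 599) (l := 6) rfl N599 D890
theorem N745 : nd 745 = n891 := ndS (p := 600) (l := 2) rfl N600 D891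
theorem N746 : nd 746 = n893 := ndS (p := 601) (l := 3) rfl N601 D893
theorem N747 : nd 747 = n896 := ndS (p := 603) (l := 2) rfl N603 D896
theorem N748 : nd 748 = n897 := ndS (p := 604) (l := 1) rfl N604 D897
theorem N749 : nd 749 = n898 := ndS (p := 604) (l := 3) rfl N604 D898
theorem N750 : nd 750 = n900 := ndS (p := 605) (l := 3) rfl N605 D900
theorem N751 : nd 751 = n901 := ndS (p := 606) (l := 4) rfl N606 D901
theorem N752 : nd 752 = n909 := ndS (p := 608) (l := 3) rfl N608 D909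
theorem N753 : nd 753 = n937 := ndS (p := 609) (l := 1) rfl N609 D937
theorem N754 : nd 754 = n938 := ndS (p := 609) (l := 4) rfl N609 D938
theorem N755 : nd 755 = n939 := ndS (p := 609) (l := 6) rfl N609 D939
theorem N756 : nd 756 = n940 := ndS (p := 609) (l := 7) rfl N609 D940
theorem N757 : nd 757 = n941 := ndS (p := 610) (l := 5) rfl N610 D941
theorem N758 : nd 758 = n942 := ndS (p := 610) (l := 7) rfl N610 D942
theorem N759 : nd 759 = n943 := ndS (p := 611) (l := 6) rfl N611 D943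
theorem N760 : nd 760 = n944 := ndS (p := 612) (l := 2) rfl N612 D944
theorem N761 : nd 761 = n945 := ndS (p := 613) (l := 3) rfl N613 D945
theorem N762 : nd 762 = n946 := ndS (p := 613) (l := 5) rfl N613 D946
theorem N763 : nd 763 = n947 := ndS (p := 613) (l := 6) rfl N613 D947
theorem N764 : nd 764 = n948 := ndS (p := 613) (l := 7) rfl N613 D948
theorem N765 : nd 765 = n949 := ndS (p := 614) (l := 7) rfl N614 D949
theorem N766 : nd 766 = n950 := ndS (p := 615) (l := 6) rfl N615 D950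
theorem N767 : nd 767 = n951 := ndS (p := 616) (l := 7) rfl N616 D951
theorem N768 : nd 768 = n952 := ndS (p := 617) (l := 6) rfl N617 D952
theorem N769 : nd 769 = n953 := ndS (p := 618) (l := 2) rfl N618 D953
theorem N770 : nd 770 = n954 := ndS (p := 619) (l := 3) rfl N619 D954
theorem N771 : nd 771 = n955 := ndS (p := 620) (l := 6) rfl N620 D955
theorem N772 : nd 772 = n956 := ndS (p := 621) (l := 2) rfl N621 D956
theorem N773 : nd 773 = n957 := ndS (p := 622) (l := 1) rfl N622 D957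
theorem N774 : nd 774 = n958 := ndS (p := 623) (l := 4) rfl N623 D958
theorem N775 : nd 775 = n959 := ndS (p := 623) (l := 6) rfl N623 D959
theorem N776 : nd 776 = n960 := ndS (p := 623) (l := 7) rfl N623 D960
theorem N777 : nd 777 = n961 := ndS (p := 624) (l := 3) rfl N624 D961
theorem N778 : nd 778 = n962 := ndS (p := 624) (l := 5) rfl N624 D962
theorem N779 : nd 779 = n963 := ndS (p := 624) (l := 6) rfl N624 D963
theorem N780 : nd 780 = n964 := ndS (p := 624) (l := 7) rfl N624 D964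
theorem N781 : nd 781 = n965 := ndS (p := 625) (l := 7) rfl N625 D965
theorem N782 : nd 782 = n966 := ndS (p := 626) (l := 6) rfl N626 D966
theorem N783 : nd 783 = n967 := ndS (p := 627) (l := 7) rfl N627 D967
theorem N784 : nd 784 = n968 := ndS (p := 628) (l := 6) rfl N628 D968
theorem N785 : nd 785 = n969 := ndS (p := 629) (l := 2) rfl N629 D969
theorem N786 : nd 786 = n970 := ndS (p := 630) (l := 1) rfl N630 D970
theorem N787 : nd 787 = n971 := ndS (p := 630) (l := 3) rfl N630 D971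
theorem N788 : nd 788 = n972 := ndS (p := 631) (l := 5) rfl N631 D972
theorem N789 : nd 789 = n973 := ndS (p := 631) (l := 6) rfl N631 D973
theorem N790 : nd 790 = n974 := ndS (p := 631) (l := 7) rfl N631 D974
theorem N791 : nd 791 = n975 := ndS (p := 632) (l := 6) rfl N632 D975
theorem N792 : nd 792 = n976 := ndS (p := 632) (l := 7) rfl N632 D976
theorem N793 : nd 793 = n977 := ndS (p := 633) (l := 7) rfl N633 D977
theorem N794 : nd 794 = n978 := ndS (p := 634) (l := 6) rfl N634 D978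
theorem N795 : nd 795 = n979 := ndS (p := 635) (l := 6) rfl N635 D979
theorem N796 : nd 796 = n980 := ndS (p := 636) (l := 2) rfl N636 D980
theorem N797 : nd 797 = n981 := ndS (p := 637) (l := 6) rfl N637 D981
theorem N798 : nd 798 = n982 := ndS (p := 638) (l := 2) rfl N638 D982
theorem N799 : nd 799 = n983 := ndS (p := 639) (l := 1) rfl N639 D983
theorem N800 : nd 800 = n984 := ndS (p := 639) (l := 3) rfl N639 D984
theorem N801 : nd 801 = n985 := ndS (p := 640) (l := 4) rfl N640 D985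
theorem N802 : nd 802 = n986 := ndS (p := 641) (l := 2) rfl N641 D986
theorem N803 : nd 803 = n987 := ndS (p := 642) (l := 1) rfl N642 D987
theorem N804 : nd 804 = n988 := ndS (p := 642) (l := 3) rfl N642 D988
theorem N805 : nd 805 = n989 := ndS (p := 643) (l := 0) rfl N643 D989
theorem N806 : nd 806 = n990 := ndS (p := 644) (l := 3) rfl N644 D990
theorem N807 : nd 807 = n991 := ndS (p := 644) (l := 5) rfl N644 D991
theorem N808 : nd 808 = n992 := ndS (p := 644) (l := 7) rfl N644 D992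
theorem N809 : nd 809 = n993 := ndS (p := 645) (l := 6) rfl N645 D993
theorem N810 : nd 810 = n994 := ndS (p := 646) (l := 5) rfl N646 D994
theorem N811 : nd 811 = n995 := ndS (p := 646) (l := 7) rfl N646 D995
theorem N812 : nd 812 = n996 := ndS (p := 647) (l := 7) rfl N647 D996
theorem N813 : nd 813 = n997 := ndS (p := 648) (l := 6) rfl N648 D997
theorem N814 : nd 814 = n998 := ndS (p := 649) (l := 2) rfl N649 D998
theorem N815 : nd 815 = n999 := ndS (p := 650) (l := 6) rfl N650 D999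
theorem N816 : nd 816 = n1000 := ndS (p := 651) (l := 2) rfl N651 D1000
theorem N817 : nd 817 = n1001 := ndS (p := 652) (l := 1) rfl N652 D1001
theorem N818 : nd 818 = n1002 := ndS (p := 652) (l := 3) rfl N652 D1002
theorem N819 : nd 819 = n1004 := ndS (p := 654) (l := 4) rfl N654 D1004
theorem N820 : nd 820 = n1005 := ndS (p := 655) (l := 4) rfl N655 D1005
theorem N821 : nd 821 = n1006 := ndS (p := 655) (l := 7) rfl N655 D1006
theorem N822 : nd 822 = n1007 := ndS (p := 656) (l := 6) rfl N656 D1007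
theorem N823 : nd 823 = n1008 := ndS (p := 657) (l := 6) rfl N657 D1008
theorem N824 : nd 824 = n1009 := ndS (p := 658) (l := 2) rfl N658 D1009
theorem N825 : nd 825 = n1010 := ndS (p := 659) (l := 1) rfl N659 D1010
theorem N826 : nd 826 = n1011 := ndS (p := 659) (l := 3) rfl N659 D1011
theorem N827 : nd 827 = n1012 := ndS (p := 660) (l := 2) rfl N660 D1012
theorem N828 : nd 828 = n1013 := ndS (p := 661) (l := 1) rfl N661 D1013
theorem N829 : nd 829 = n1014 := ndS (p := 661) (l := 3) rfl N661 D1014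
theorem N830 : nd 830 = n1015 := ndS (p := 662) (l := 0) rfl N662 D1015
theorem N831 : nd 831 = n1016 := ndS (p := 662) (l := 3) rfl N662 D1016
theorem N832 : nd 832 = n1017 := ndS (p := 663) (l := 4) rfl N663 D1017
theorem N833 : nd 833 = n1018 := ndS (p := 664) (l := 5) rfl N664 D1018
theorem N834 : nd 834 = n1020 := ndS (p := 665) (l := 3) rfl N665 D1020
theorem N835 : nd 835 = n1022 := ndS (p := 666) (l := 3) rfl N666 D1022
theorem N836 : nd 836 = n1023 := ndS (p := 669) (l := 2) rfl N669 D1023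
theorem N837 : nd 837 = n1024 := ndS (p := 669) (l := 5) rfl N669 D1024
theorem N838 : nd 838 = n1025 := ndS (p := 669) (l := 7) rfl N669 D1025
theorem N839 : nd 839 = n1026 := ndS (p := 670) (l := 7) rfl N670 D1026
theorem N840 : nd 840 = n1027 := ndS (p := 671) (l := 6) rfl N671 D1027
theorem N841 : nd 841 = n1028 := ndS (p := 672) (l := 2) rfl N672 D1028
theorem N842 : nd 842 = n1029 := ndS (p := 673) (l := 4) rfl N673 D1029
theorem N843 : nd 843 = n1030 := ndS (p := 673) (l := 7) rfl N673 D1030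
theorem N844 : nd 844 = n1031 := ndS (p := 674) (l := 6) rfl N674 D1031
theorem N845 : nd 845 = n1032 := ndS (p := 675) (l := 6) rfl N675 D1032
theorem N846 : nd 846 = n1033 := ndS (p := 676) (l := 2) rfl N676 D1033
theorem N847 : nd 847 = n1034 := ndS (p := 677) (l := 1) rfl N677 D1034
theorem N848 : nd 848 = n1035 := ndS (p := 677) (l := 3) rfl N677 D1035
theorem N849 : nd 849 = n1036 := ndS (p := 678) (l := 2) rfl N678 D1036
theorem N850 : nd 850 = n1037 := ndS (p := 679) (l := 1) rfl N679 D1037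
theorem N851 : nd 851 = n1038 := ndS (p := 679) (l := 3) rfl N679 D1038
theorem N852 : nd 852 = n1045 := ndS (p := 682) (l := 7) rfl N682 D1045
theorem N853 : nd 853 = n1046 := ndS (p := 683) (l := 6) rfl N683 D1046
theorem N854 : nd 854 = n1047 := ndS (p := 684) (l := 2) rfl N684 D1047
theorem N855 : nd 855 = n1048 := ndS (p := 685) (l := 2) rfl N685 D1048
theorem N856 : nd 856 = n1051 := ndS (p := 687) (l := 0) rfl N687 D1051
theorem N857 : nd 857 = n1052 := ndS (p := 687) (l := 3) rfl N687 D1052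
theorem N858 : nd 858 = n1067 := ndS (p := 692) (l := 5) rfl N692 D1067
theorem N859 : nd 859 = n1068 := ndS (p := 692) (l := 6) rfl N692 D1068
theorem N860 : nd 860 = n1069 := ndS (p := 692) (l := 7) rfl N692 D1069
theorem N861 : nd 861 = n1070 := ndS (p := 693) (l := 2) rfl N693 D1070
theorem N862 : nd 862 = n1071 := ndS (p := 693) (l := 7) rfl N693 D1071
theorem N863 : nd 863 = n1072 := ndS (p := 694) (l := 6) rfl N694 D1072
theorem N864 : nd 864 = n1073 := ndS (p := 695) (l := 6) rfl N695 D1073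
theorem N865 : nd 865 = n1074 := ndS (p := 695) (l := 7) rfl N695 D1074
theorem N866 : nd 866 = n1075 := ndS (p := 696) (l := 7) rfl N696 D1075
theorem N867 : nd 867 = n1076 := ndS (p := 697) (l := 6) rfl N697 D1076
theorem N868 : nd 868 = n1077 := ndS (p := 698) (l := 6) rfl N698 D1077
theorem N869 : nd 869 = n1078 := ndS (p := 699) (l := 2) rfl N699 D1078
theorem N870 : nd 870 = n1079 := ndS (p := 700) (l := 6) rfl N700 D1079
theorem N871 : nd 871 = n1080 := ndS (p := 701) (l := 2) rfl N701 D1080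
theorem N872 : nd 872 = n1081 := ndS (p := 702) (l := 1) rfl N702 D1081
theorem N873 : nd 873 = n1082 := ndS (p := 702) (l := 3) rfl N702 D1082
theorem N874 : nd 874 = n1083 := ndS (p := 703) (l := 3) rfl N703 D1083
theorem N875 : nd 875 = n1084 := ndS (p := 704) (l := 4) rfl N704 D1084
theorem N876 : nd 876 = n1085 := ndS (p := 705) (l := 7) rfl N705 D1085
theorem N877 : nd 877 = n1086 := ndS (p := 706) (l := 6) rfl N706 D1086
theorem N878 : nd 878 = n1087 := ndS (p := 707) (l := 6) rfl N707 D1087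
theorem N879 : nd 879 = n1088 := ndS (p := 708) (l := 2) rfl N708 D1088
theorem N880 : nd 880 = n1089 := ndS (p := 709) (l := 2) rfl N709 D1089
theorem N881 : nd 881 = n1090 := ndS (p := 710) (l := 1) rfl N710 D1090
theorem N882 : nd 882 = n1091 := ndS (p := 710) (l := 3) rfl N710 D1091
theorem N883 : nd 883 = n1092 := ndS (p := 711) (l := 2) rfl N711 D1092
theorem N884 : nd 884 = n1093 := ndS (p := 712) (l := 1) rfl N712 D1093
theorem N885 : nd 885 = n1094 := ndS (p := 712) (l := 3) rfl N712 D1094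
theorem N886 : nd 886 = n1095 := ndS (p := 713) (l := 0) rfl N713 D1095
theorem N887 : nd 887 = n1096 := ndS (p := 713) (l := 3) rfl N713 D1096
theorem N888 : nd 888 = n1097 := ndS (p := 714) (l := 4) rfl N714 D1097
theorem N889 : nd 889 = n1098 := ndS (p := 715) (l := 5) rfl N715 D1098
theorem N890 : nd 890 = n1099 := ndS (p := 716) (l := 1) rfl N716 D1099
theorem N891 : nd 891 = n1100 := ndS (p := 716) (l := 3) rfl N716 D1100
theorem N892 : nd 892 = n1101 := ndS (p := 717) (l := 0) rfl N717 D1101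
theorem N893 : nd 893 = n1102 := ndS (p := 717) (l := 3) rfl N717 D1102
theorem N894 : nd 894 = n1103 := ndS (p := 720) (l := 2) rfl N720 D1103
theorem N895 : nd 895 = n1104 := ndS (p := 721) (l := 1) rfl N721 D1104
theorem N896 : nd 896 = n1105 := ndS (p := 721) (l := 3) rfl N721 D1105
theorem N897 : nd 897 = n1106 := ndS (p := 722) (l := 0) rfl N722 D1106
theorem N898 : nd 898 = n1108 := ndS (p := 723) (l := 4) rfl N723 D1108
theorem N899 : nd 899 = n1113 := ndS (p := 725) (l := 3) rfl N725 D1113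
theorem N900 : nd 900 = n1114 := ndS (p := 726) (l := 0) rfl N726 D1114
theorem N901 : nd 901 = n1115 := ndS (p := 726) (l := 3) rfl N726 D1115
theorem N902 : nd 902 = n1116 := ndS (p := 727) (l := 4) rfl N727 D1116
theorem N903 : nd 903 = n1117 := ndS (p := 728) (l := 3) rfl N728 D1117
theorem N904 : nd 904 = n1118 := ndS (p := 729) (l := 4) rfl N729 D1118
theorem N905 : nd 905 = n1124 := ndS (p := 733) (l := 2) rfl N733 D1124
theorem N906 : nd 906 = n1152 := ndS (p := 737) (l := 2) rfl N737 D1152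
theorem N907 : nd 907 = n1154 := ndS (p := 739) (l := 2) rfl N739 D1154
theorem N908 : nd 908 = n1155 := ndS (p := 740) (l := 6) rfl N740 D1155
theorem N909 : nd 909 = n1171 := ndS (p := 741) (l := 3) rfl N741 D1171
theorem N910 : nd 910 = n1172 := ndS (p := 741) (l := 7) rfl N741 D1172
theorem N911 : nd 911 = n1173 := ndS (p := 742) (l := 6) rfl N742 D1173
theorem N912 : nd 912 = n1175 := ndS (p := 744) (l := 2) rfl N744 D1175
theorem N913 : nd 913 = n1177 := ndS (p := 745) (l := 3) rfl N745 D1177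
theorem N914 : nd 914 = n1184 := ndS (p := 747) (l := 1) rfl N747 D1184
theorem N915 : nd 915 = n1185 := ndS (p := 747) (l := 3) rfl N747 D1185
theorem N916 : nd 916 = n1187 := ndS (p := 748) (l := 3) rfl N748 D1187
theorem N917 : nd 917 = n1188 := ndS (p := 749) (l := 4) rfl N749 D1188
theorem N918 : nd 918 = n1190 := ndS (p := 750) (l := 4) rfl N750 D1190
theorem N919 : nd 919 = n1199 := ndS (p := 752) (l := 4) rfl N752 D1199
theorem N920 : nd 920 = n1234 := ndS (p := 753) (l := 4) rfl N753 D1234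
theorem N921 : nd 921 = n1235 := ndS (p := 753) (l := 6) rfl N753 D1235
theorem N922 : nd 922 = n1236 := ndS (p := 753) (l := 7) rfl N753 D1236
theorem N923 : nd 923 = n1237 := ndS (p := 754) (l := 3) rfl N754 D1237
theorem N924 : nd 924 = n1238 := ndS (p := 754) (l := 5) rfl N754 D1238
theorem N925 : nd 925 = n1239 := ndS (p := 754) (l := 6) rfl N754 D1239
theorem N926 : nd 926 = n1240 := ndS (p := 754) (l := 7) rfl N754 D1240
theorem N927 : nd 927 = n1241 := ndS (p := 755) (l := 7) rfl N755 D1241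
theorem N928 : nd 928 = n1242 := ndS (p := 756) (l := 6) rfl N756 D1242
theorem N929 : nd 929 = n1243 := ndS (p := 757) (l := 7) rfl N757 D1243
theorem N930 : nd 930 = n1244 := ndS (p := 758) (l := 6) rfl N758 D1244
theorem N931 : nd 931 = n1245 := ndS (p := 759) (l := 2) rfl N759 D1245
theorem N932 : nd 932 = n1246 := ndS (p := 760) (l := 1) rfl N760 D1246
theorem N933 : nd 933 = n1247 := ndS (p := 760) (l := 3) rfl N760 D1247
theorem N934 : nd 934 = n1250 := ndS (p := 761) (l := 7) rfl N761 D1250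
theorem N935 : nd 935 = n1252 := ndS (p := 762) (l := 7) rfl N762 D1252
theorem N936 : nd 936 = n1253 := ndS (p := 763) (l := 7) rfl N763 D1253
theorem N937 : nd 937 = n1254 := ndS (p := 764) (l := 6) rfl N764 D1254
theorem N938 : nd 938 = n1255 := ndS (p := 765) (l := 6) rfl N765 D1255
theorem N939 : nd 939 = n1256 := ndS (p := 766) (l := 2) rfl N766 D1256
theorem N940 : nd 940 = n1257 := ndS (p := 767) (l := 6) rfl N767 D1257
theorem N941 : nd 941 = n1258 := ndS (p := 768) (l := 2) rfl N768 D1258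
theorem N942 : nd 942 = n1259 := ndS (p := 769) (l := 1) rfl N769 D1259
theorem N943 : nd 943 = n1260 := ndS (p := 769) (l := 3) rfl N769 D1260
theorem N944 : nd 944 = n1261 := ndS (p := 770) (l := 4) rfl N770 D1261
theorem N945 : nd 945 = n1262 := ndS (p := 771) (l := 2) rfl N771 D1262
theorem N946 : nd 946 = n1263 := ndS (p := 772) (l := 1) rfl N772 D1263
theorem N947 : nd 947 = n1264 := ndS (p := 772) (l := 3) rfl N772 D1264
theorem N948 : nd 948 = n1265 := ndS (p := 773) (l := 0) rfl N773 D1265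
theorem N949 : nd 949 = n1266 := ndS (p := 774) (l := 3) rfl N774 D1266
theorem N950 : nd 950 = n1267 := ndS (p := 774) (l := 5) rfl N774 D1267
theorem N951 : nd 951 = n1268 := ndS (p := 774) (l := 6) rfl N774 D1268
theorem N952 : nd 952 = n1269 := ndS (p := 774) (l := 7) rfl N774 D1269
theorem N953 : nd 953 = n1270 := ndS (p := 775) (l := 2) rfl N775 D1270
theorem N954 : nd 954 = n1271 := ndS (p := 775) (l := 7) rfl N775 D1271
theorem N955 : nd 955 = n1272 := ndS (p := 776) (l := 6) rfl N776 D1272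
theorem N956 : nd 956 = n1275 := ndS (p := 777) (l := 7) rfl N777 D1275
theorem N957 : nd 957 = n1277 := ndS (p := 778) (l := 7) rfl N778 D1277
theorem N958 : nd 958 = n1278 := ndS (p := 779) (l := 7) rfl N779 D1278
theorem N959 : nd 959 = n1279 := ndS (p := 780) (l := 6) rfl N780 D1279
theorem N960 : nd 960 = n1280 := ndS (p := 781) (l := 6) rfl N781 D1280
theorem N961 : nd 961 = n1281 := ndS (p := 782) (l := 2) rfl N782 D1281
theorem N962 : nd 962 = n1282 := ndS (p := 783) (l := 6) rfl N783 D1282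
theorem N963 : nd 963 = n1283 := ndS (p := 784) (l := 2) rfl N784 D1283
theorem N964 : nd 964 = n1284 := ndS (p := 785) (l := 1) rfl N785 D1284
theorem N965 : nd 965 = n1285 := ndS (p := 785) (l := 3) rfl N785 D1285
theorem N966 : nd 966 = n1286 := ndS (p := 786) (l := 3) rfl N786 D1286
theorem N967 : nd 967 = n1287 := ndS (p := 787) (l := 4) rfl N787 D1287
theorem N968 : nd 968 = n1290 := ndS (p := 788) (l := 7) rfl N788 D1290
theorem N969 : nd 969 = n1291 := ndS (p := 789) (l := 7) rfl N789 D1291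
theorem N970 : nd 970 = n1292 := ndS (p := 790) (l := 6) rfl N790 D1292
theorem N971 : nd 971 = n1293 := ndS (p := 791) (l := 7) rfl N791 D1293
theorem N972 : nd 972 = n1294 := ndS (p := 792) (l := 6) rfl N792 D1294
theorem N973 : nd 973 = n1295 := ndS (p := 793) (l := 6) rfl N793 D1295
theorem N974 : nd 974 = n1296 := ndS (p := 794) (l := 2) rfl N794 D1296
theorem N975 : nd 975 = n1297 := ndS (p := 795) (l := 2) rfl N795 D1297
theorem N976 : nd 976 = n1298 := ndS (p := 796) (l := 1) rfl N796 D1298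
theorem N977 : nd 977 = n1299 := ndS (p := 796) (l := 3) rfl N796 D1299
theorem N978 : nd 978 = n1300 := ndS (p := 797) (l := 2) rfl N797 D1300
theorem N979 : nd 979 = n1301 := ndS (p := 798) (l := 1) rfl N798 D1301
theorem N980 : nd 980 = n1302 := ndS (p := 798) (l := 3) rfl N798 D1302
theorem N981 : nd 981 = n1303 := ndS (p := 799) (l := 0) rfl N799 D1303
theorem N982 : nd 982 = n1304 := ndS (p := 799) (l := 3) rfl N799 D1304
theorem N983 : nd 983 = n1305 := ndS (p := 800) (l := 4) rfl N800 D1305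
theorem N984 : nd 984 = n1306 := ndS (p := 801) (l := 5) rfl N801 D1306
theorem N985 : nd 985 = n1307 := ndS (p := 802) (l := 1) rfl N802 D1307
theorem N986 : nd 986 = n1308 := ndS (p := 802) (l := 3) rfl N802 D1308
theorem N987 : nd 987 = n1309 := ndS (p := 803) (l := 0) rfl N803 D1309
theorem N988 : nd 988 = n1310 := ndS (p := 803) (l := 3) rfl N803 D1310
theorem N989 : nd 989 = n1311 := ndS (p := 806) (l := 2) rfl N806 D1311
theorem N990 : nd 990 = n1312 := ndS (p := 806) (l := 5) rfl N806 D1312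
theorem N991 : nd 991 = n1313 := ndS (p := 806) (l := 7) rfl N806 D1313
theorem N992 : nd 992 = n1314 := ndS (p := 807) (l := 7) rfl N807 D1314
theorem N993 : nd 993 = n1315 := ndS (p := 808) (l := 6) rfl N808 D1315
theorem N994 : nd 994 = n1316 := ndS (p := 809) (l := 2) rfl N809 D1316
theorem N995 : nd 995 = n1318 := ndS (p := 810) (l := 7) rfl N810 D1318
theorem N996 : nd 996 = n1319 := ndS (p := 811) (l := 6) rfl N811 D1319
theorem N997 : nd 997 = n1320 := ndS (p := 812) (l := 6) rfl N812 D1320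
theorem N998 : nd 998 = n1321 := ndS (p := 813) (l := 2) rfl N813 D1321
theorem N999 : nd 999 = n1322 := ndS (p := 814) (l := 1) rfl N814 D1322
theorem N1000 : nd 1000 = n1323 := ndS (p := 814) (l := 3) rfl N814 D1323
theorem N1001 : nd 1001 = n1324 := ndS (p := 815) (l := 2) rfl N815 D1324
theorem N1002 : nd 1002 = n1325 := ndS (p := 816) (l := 1) rfl N816 D1325
theorem N1003 : nd 1003 = n1326 := ndS (p := 816) (l := 3) rfl N816 D1326
theorem N1004 : nd 1004 = n1327 := ndS (p := 817) (l := 0) rfl N817 D1327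
theorem N1005 : nd 1005 = n1329 := ndS (p := 818) (l := 4) rfl N818 D1329
theorem N1006 : nd 1006 = n1333 := ndS (p := 820) (l := 7) rfl N820 D1333
theorem N1007 : nd 1007 = n1334 := ndS (p := 821) (l := 6) rfl N821 D1334
theorem N1008 : nd 1008 = n1335 := ndS (p := 822) (l := 2) rfl N822 D1335
theorem N1009 : nd 1009 = n1336 := ndS (p := 823) (l := 2) rfl N823 D1336
theorem N1010 : nd 1010 = n1337 := ndS (p := 824) (l := 1) rfl N824 D1337
theorem N1011 : nd 1011 = n1338 := ndS (p := 824) (l := 3) rfl N824 D1338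
theorem N1012 : nd 1012 = n1339 := ndS (p := 825) (l := 0) rfl N825 D1339
theorem N1013 : nd 1013 = n1340 := ndS (p := 825) (l := 3) rfl N825 D1340
theorem N1014 : nd 1014 = n1341 := ndS (p := 826) (l := 4) rfl N826 D1341
theorem N1015 : nd 1015 = n1343 := ndS (p := 827) (l := 3) rfl N827 D1343
theorem N1016 : nd 1016 = n1344 := ndS (p := 828) (l := 0) rfl N828 D1344
theorem N1017 : nd 1017 = n1345 := ndS (p := 828) (l := 3) rfl N828 D1345
theorem N1018 : nd 1018 = n1346 := ndS (p := 829) (l := 4) rfl N829 D1346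
theorem N1019 : nd 1019 = n1347 := ndS (p := 830) (l := 3) rfl N830 D1347
theorem N1020 : nd 1020 = n1348 := ndS (p := 831) (l := 4) rfl N831 D1348
theorem N1021 : nd 1021 = n1354 := ndS (p := 835) (l := 2) rfl N835 D1354
theorem N1022 : nd 1022 = n1355 := ndS (p := 836) (l := 5) rfl N836 D1355
theorem N1023 : nd 1023 = n1356 := ndS (p := 836) (l := 6) rfl N836 D1356
theorem N1024 : nd 1024 = n1357 := ndS (p := 836) (l := 7) rfl N836 D1357
theorem N1025 : nd 1025 = n1358 := ndS (p := 837) (l := 4) rfl N837 D1358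
theorem N1026 : nd 1026 = n1359 := ndS (p := 837) (l := 7) rfl N837 D1359
theorem N1027 : nd 1027 = n1360 := ndS (p := 838) (l := 6) rfl N838 D1360
theorem N1028 : nd 1028 = n1361 := ndS (p := 839) (l := 6) rfl N839 D1361
theorem N1029 : nd 1029 = n1362 := ndS (p := 840) (l := 2) rfl N840 D1362
theorem N1030 : nd 1030 = n1363 := ndS (p := 841) (l := 1) rfl N841 D1363
theorem N1031 : nd 1031 = n1364 := ndS (p := 841) (l := 3) rfl N841 D1364
theorem N1032 : nd 1032 = n1365 := ndS (p := 842) (l := 7) rfl N842 D1365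
theorem N1033 : nd 1033 = n1366 := ndS (p := 843) (l := 6) rfl N843 D1366
theorem N1034 : nd 1034 = n1367 := ndS (p := 844) (l := 2) rfl N844 D1367
theorem N1035 : nd 1035 = n1368 := ndS (p := 845) (l := 2) rfl N845 D1368
theorem N1036 : nd 1036 = n1369 := ndS (p := 846) (l := 1) rfl N846 D1369
theorem N1037 : nd 1037 = n1370 := ndS (p := 846) (l := 3) rfl N846 D1370
theorem N1038 : nd 1038 = n1386 := ndS (p := 852) (l := 6) rfl N852 D1386
theorem N1039 : nd 1039 = n1387 := ndS (p := 853) (l := 2) rfl N853 D1387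
theorem N1040 : nd 1040 = n1396 := ndS (p := 857) (l := 2) rfl N857 D1396
theorem N1041 : nd 1041 = n1414 := ndS (p := 858) (l := 7) rfl N858 D1414
theorem N1042 : nd 1042 = n1416 := ndS (p := 859) (l := 7) rfl N859 D1416
theorem N1043 : nd 1043 = n1417 := ndS (p := 860) (l := 6) rfl N860 D1417
theorem N1044 : nd 1044 = n1419 := ndS (p := 861) (l := 7) rfl N861 D1419
theorem N1045 : nd 1045 = n1420 := ndS (p := 862) (l := 6) rfl N862 D1420
theorem N1046 : nd 1046 = n1421 := ndS (p := 863) (l := 2) rfl N863 D1421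
theorem N1047 : nd 1047 = n1422 := ndS (p := 864) (l := 7) rfl N864 D1422
theorem N1048 : nd 1048 = n1423 := ndS (p := 865) (l := 6) rfl N865 D1423
theorem N1049 : nd 1049 = n1424 := ndS (p := 866) (l := 6) rfl N866 D1424
theorem N1050 : nd 1050 = n1425 := ndS (p := 867) (l := 2) rfl N867 D1425
theorem N1051 : nd 1051 = n1426 := ndS (p := 868) (l := 2) rfl N868 D1426
theorem N1052 : nd 1052 = n1427 := ndS (p := 869) (l := 1) rfl N869 D1427
theorem N1053 : nd 1053 = n1428 := ndS (p := 869) (l := 3) rfl N869 D1428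
theorem N1054 : nd 1054 = n1429 := ndS (p := 870) (l := 2) rfl N870 D1429
theorem N1055 : nd 1055 = n1430 := ndS (p := 871) (l := 1) rfl N871 D1430
theorem N1056 : nd 1056 = n1431 := ndS (p := 871) (l := 3) rfl N871 D1431
theorem N1057 : nd 1057 = n1432 := ndS (p := 872) (l := 0) rfl N872 D1432
theorem N1058 : nd 1058 = n1433 := ndS (p := 872) (l := 3) rfl N872 D1433
theorem N1059 : nd 1059 = n1434 := ndS (p := 873) (l := 4) rfl N873 D1434
theorem N1060 : nd 1060 = n1435 := ndS (p := 874) (l := 2) rfl N874 D1435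
theorem N1061 : nd 1061 = n1438 := ndS (p := 876) (l := 6) rfl N876 D1438
theorem N1062 : nd 1062 = n1439 := ndS (p := 877) (l := 2) rfl N877 D1439
theorem N1063 : nd 1063 = n1440 := ndS (p := 878) (l := 2) rfl N878 D1440
theorem N1064 : nd 1064 = n1441 := ndS (p := 879) (l := 1) rfl N879 D1441
theorem N1065 : nd 1065 = n1442 := ndS (p := 879) (l := 3) rfl N879 D1442
theorem N1066 : nd 1066 = n1443 := ndS (p := 880) (l := 1) rfl N880 D1443
theorem N1067 : nd 1067 = n1444 := ndS (p := 880) (l := 3) rfl N880 D1444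
theorem N1068 : nd 1068 = n1445 := ndS (p := 881) (l := 0) rfl N881 D1445
theorem N1069 : nd 1069 = n1446 := ndS (p := 881) (l := 3) rfl N881 D1446
theorem N1070 : nd 1070 = n1447 := ndS (p := 882) (l := 4) rfl N882 D1447
theorem N1071 : nd 1071 = n1448 := ndS (p := 883) (l := 1) rfl N883 D1448
theorem N1072 : nd 1072 = n1449 := ndS (p := 883) (l := 3) rfl N883 D1449
theorem N1073 : nd 1073 = n1450 := ndS (p := 884) (l := 0) rfl N884 D1450
theorem N1074 : nd 1074 = n1451 := ndS (p := 884) (l := 3) rfl N884 D1451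
theorem N1075 : nd 1075 = n1452 := ndS (p := 885) (l := 4) rfl N885 D1452
theorem N1076 : nd 1076 = n1453 := ndS (p := 886) (l := 3) rfl N886 D1453
theorem N1077 : nd 1077 = n1454 := ndS (p := 887) (l := 4) rfl N887 D1454
theorem N1078 : nd 1078 = n1455 := ndS (p := 888) (l := 5) rfl N888 D1455
theorem N1079 : nd 1079 = n1456 := ndS (p := 890) (l := 0) rfl N890 D1456
theorem N1080 : nd 1080 = n1457 := ndS (p := 890) (l := 3) rfl N890 D1457
theorem N1081 : nd 1081 = n1459 := ndS (p := 892) (l := 3) rfl N892 D1459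
theorem N1082 : nd 1082 = n1460 := ndS (p := 893) (l := 2) rfl N893 D1460
theorem N1083 : nd 1083 = n1461 := ndS (p := 894) (l := 1) rfl N894 D1461
theorem N1084 : nd 1084 = n1462 := ndS (p := 894) (l := 3) rfl N894 D1462
theorem N1085 : nd 1085 = n1463 := ndS (p := 895) (l := 0) rfl N895 D1463
theorem N1086 : nd 1086 = n1464 := ndS (p := 895) (l := 3) rfl N895 D1464
theorem N1087 : nd 1087 = n1465 := ndS (p := 896) (l := 4) rfl N896 D1465
theorem N1088 : nd 1088 = n1476 := ndS (p := 900) (l := 3) rfl N900 D1476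
theorem N1089 : nd 1089 = n1477 := ndS (p := 901) (l := 2) rfl N901 D1477
theorem N1090 : nd 1090 = n1478 := ndS (p := 901) (l := 4) rfl N901 D1478
theorem N1091 : nd 1091 = n1486 := ndS (p := 905) (l := 6) rfl N905 D1486
theorem N1092 : nd 1092 = n1523 := ndS (p := 906) (l := 6) rfl N906 D1523
theorem N1093 : nd 1093 = n1524 := ndS (p := 907) (l := 1) rfl N907 D1524
theorem N1094 : nd 1094 = n1525 := ndS (p := 907) (l := 6) rfl N907 D1525
theorem N1095 : nd 1095 = n1526 := ndS (p := 908) (l := 7) rfl N908 D1526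
theorem N1096 : nd 1096 = n1545 := ndS (p := 909) (l := 7) rfl N909 D1545
theorem N1097 : nd 1097 = n1551 := ndS (p := 912) (l := 3) rfl N912 D1551
theorem N1098 : nd 1098 = n1563 := ndS (p := 914) (l := 3) rfl N914 D1563
theorem N1099 : nd 1099 = n1564 := ndS (p := 915) (l := 4) rfl N915 D1564
theorem N1100 : nd 1100 = n1566 := ndS (p := 916) (l := 2) rfl N916 D1566
theorem N1101 : nd 1101 = n1567 := ndS (p := 916) (l := 4) rfl N916 D1567
theorem N1102 : nd 1102 = n1625 := ndS (p := 920) (l := 7) rfl N920 D1625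
theorem N1103 : nd 1103 = n1627 := ndS (p := 921) (l := 7) rfl N921 D1627
theorem N1104 : nd 1104 = n1628 := ndS (p := 922) (l := 6) rfl N922 D1628
theorem N1105 : nd 1105 = n1631 := ndS (p := 923) (l := 7) rfl N923 D1631
theorem N1106 : nd 1106 = n1633 := ndS (p := 924) (l := 7) rfl N924 D1633
theorem N1107 : nd 1107 = n1634 := ndS (p := 925) (l := 7) rfl N925 D1634
theorem N1108 : nd 1108 = n1635 := ndS (p := 926) (l := 6) rfl N926 D1635
theorem N1109 : nd 1109 = n1636 := ndS (p := 927) (l := 6) rfl N927 D1636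
theorem N1110 : nd 1110 = n1637 := ndS (p := 928) (l := 2) rfl N928 D1637
theorem N1111 : nd 1111 = n1638 := ndS (p := 929) (l := 6) rfl N929 D1638
theorem N1112 : nd 1112 = n1639 := ndS (p := 930) (l := 2) rfl N930 D1639
theorem N1113 : nd 1113 = n1640 := ndS (p := 931) (l := 1) rfl N931 D1640
theorem N1114 : nd 1114 = n1641 := ndS (p := 931) (l := 3) rfl N931 D1641
theorem N1115 : nd 1115 = n1642 := ndS (p := 932) (l := 3) rfl N932 D1642
theorem N1116 : nd 1116 = n1643 := ndS (p := 933) (l := 4) rfl N933 D1643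
theorem N1117 : nd 1117 = n1649 := ndS (p := 934) (l := 6) rfl N934 D1649
theorem N1118 : nd 1118 = n1651 := ndS (p := 935) (l := 6) rfl N935 D1651
theorem N1119 : nd 1119 = n1652 := ndS (p := 936) (l := 6) rfl N936 D1652
theorem N1120 : nd 1120 = n1653 := ndS (p := 937) (l := 2) rfl N937 D1653
theorem N1121 : nd 1121 = n1654 := ndS (p := 938) (l := 2) rfl N938 D1654
theorem N1122 : nd 1122 = n1655 := ndS (p := 939) (l := 1) rfl N939 D1655
theorem N1123 : nd 1123 = n1656 := ndS (p := 939) (l := 3) rfl N939 D1656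
theorem N1124 : nd 1124 = n1657 := ndS (p := 940) (l := 2) rfl N940 D1657
theorem N1125 : nd 1125 = n1658 := ndS (p := 941) (l := 1) rfl N941 D1658
theorem N1126 : nd 1126 = n1659 := ndS (p := 941) (l := 3) rfl N941 D1659
theorem N1127 : nd 1127 = n1660 := ndS (p := 942) (l := 0) rfl N942 D1660
theorem N1128 : nd 1128 = n1661 := ndS (p := 942) (l := 3) rfl N942 D1661
theorem N1129 : nd 1129 = n1662 := ndS (p := 943) (l := 4) rfl N943 D1662
theorem N1130 : nd 1130 = n1663 := ndS (p := 944) (l := 5) rfl N944 D1663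
theorem N1131 : nd 1131 = n1664 := ndS (p := 945) (l := 1) rfl N945 D1664
theorem N1132 : nd 1132 = n1665 := ndS (p := 945) (l := 3) rfl N945 D1665
theorem N1133 : nd 1133 = n1666 := ndS (p := 946) (l := 0) rfl N946 D1666
theorem N1134 : nd 1134 = n1667 := ndS (p := 946) (l := 3) rfl N946 D1667
theorem N1135 : nd 1135 = n1671 := ndS (p := 949) (l := 7) rfl N949 D1671
theorem N1136 : nd 1136 = n1673 := ndS (p := 950) (l := 7) rfl N950 D1673
theorem N1137 : nd 1137 = n1675 := ndS (p := 951) (l := 7) rfl N951 D1675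
theorem N1138 : nd 1138 = n1676 := ndS (p := 952) (l := 6) rfl N952 D1676
theorem N1139 : nd 1139 = n1678 := ndS (p := 953) (l := 7) rfl N953 D1678
theorem N1140 : nd 1140 = n1679 := ndS (p := 954) (l := 6) rfl N954 D1679
theorem N1141 : nd 1141 = n1680 := ndS (p := 955) (l := 2) rfl N955 D1680
theorem N1142 : nd 1142 = n1685 := ndS (p := 956) (l := 6) rfl N956 D1685
theorem N1143 : nd 1143 = n1687 := ndS (p := 957) (l := 6) rfl N957 D1687
theorem N1144 : nd 1144 = n1688 := ndS (p := 958) (l := 6) rfl N958 D1688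
theorem N1145 : nd 1145 = n1689 := ndS (p := 959) (l := 2) rfl N959 D1689
theorem N1146 : nd 1146 = n1690 := ndS (p := 960) (l := 2) rfl N960 D1690
theorem N1147 : nd 1147 = n1691 := ndS (p := 961) (l := 1) rfl N961 D1691
theorem N1148 : nd 1148 = n1692 := ndS (p := 961) (l := 3) rfl N961 D1692
theorem N1149 : nd 1149 = n1693 := ndS (p := 962) (l := 2) rfl N962 D1693
theorem N1150 : nd 1150 = n1694 := ndS (p := 963) (l := 1) rfl N963 D1694
theorem N1151 : nd 1151 = n1695 := ndS (p := 963) (l := 3) rfl N963 D1695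
theorem N1152 : nd 1152 = n1696 := ndS (p := 964) (l := 0) rfl N964 D1696
theorem N1153 : nd 1153 = n1697 := ndS (p := 964) (l := 3) rfl N964 D1697
theorem N1154 : nd 1154 = n1698 := ndS (p := 965) (l := 4) rfl N965 D1698
theorem N1155 : nd 1155 = n1699 := ndS (p := 966) (l := 2) rfl N966 D1699
theorem N1156 : nd 1156 = n1705 := ndS (p := 968) (l := 6) rfl N968 D1705
theorem N1157 : nd 1157 = n1706 := ndS (p := 969) (l := 6) rfl N969 D1706
theorem N1158 : nd 1158 = n1707 := ndS (p := 970) (l := 2) rfl N970 D1707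
theorem N1159 : nd 1159 = n1708 := ndS (p := 971) (l := 6) rfl N971 D1708
theorem N1160 : nd 1160 = n1709 := ndS (p := 972) (l := 2) rfl N972 D1709
theorem N1161 : nd 1161 = n1710 := ndS (p := 973) (l := 2) rfl N973 D1710
theorem N1162 : nd 1162 = n1711 := ndS (p := 974) (l := 1) rfl N974 D1711
theorem N1163 : nd 1163 = n1712 := ndS (p := 974) (l := 3) rfl N974 D1712
theorem N1164 : nd 1164 = n1713 := ndS (p := 975) (l := 1) rfl N975 D1713
theorem N1165 : nd 1165 = n1714 := ndS (p := 975) (l := 3) rfl N975 D1714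
theorem N1166 : nd 1166 = n1715 := ndS (p := 976) (l := 0) rfl N976 D1715
theorem N1167 : nd 1167 = n1716 := ndS (p := 976) (l := 3) rfl N976 D1716
theorem N1168 : nd 1168 = n1717 := ndS (p := 977) (l := 4) rfl N977 D1717
theorem N1169 : nd 1169 = n1718 := ndS (p := 978) (l := 1) rfl N978 D1718
theorem N1170 : nd 1170 = n1719 := ndS (p := 978) (l := 3) rfl N978 D1719
theorem N1171 : nd 1171 = n1720 := ndS (p := 979) (l := 0) rfl N979 D1720
theorem N1172 : nd 1172 = n1721 := ndS (p := 979) (l := 3) rfl N979 D1721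
theorem N1173 : nd 1173 = n1722 := ndS (p := 980) (l := 4) rfl N980 D1722
theorem N1174 : nd 1174 = n1723 := ndS (p := 981) (l := 3) rfl N981 D1723
theorem N1175 : nd 1175 = n1724 := ndS (p := 982) (l := 4) rfl N982 D1724
theorem N1176 : nd 1176 = n1725 := ndS (p := 983) (l := 5) rfl N983 D1725
theorem N1177 : nd 1177 = n1726 := ndS (p := 985) (l := 0) rfl N985 D1726
theorem N1178 : nd 1178 = n1727 := ndS (p := 985) (l := 3) rfl N985 D1727
theorem N1179 : nd 1179 = n1729 := ndS (p := 987) (l := 3) rfl N987 D1729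
theorem N1180 : nd 1180 = n1730 := ndS (p := 988) (l := 2) rfl N988 D1730
theorem N1181 : nd 1181 = n1733 := ndS (p := 989) (l := 7) rfl N989 D1733
theorem N1182 : nd 1182 = n1735 := ndS (p := 990) (l := 7) rfl N990 D1735
theorem N1183 : nd 1183 = n1736 := ndS (p := 991) (l := 6) rfl N991 D1736
theorem N1184 : nd 1184 = n1737 := ndS (p := 992) (l := 6) rfl N992 D1737
theorem N1185 : nd 1185 = n1738 := ndS (p := 993) (l := 2) rfl N993 D1738
theorem N1186 : nd 1186 = n1739 := ndS (p := 994) (l := 1) rfl N994 D1739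
theorem N1187 : nd 1187 = n1740 := ndS (p := 994) (l := 3) rfl N994 D1740
theorem N1188 : nd 1188 = n1742 := ndS (p := 995) (l := 6) rfl N995 D1742
theorem N1189 : nd 1189 = n1743 := ndS (p := 996) (l := 2) rfl N996 D1743
theorem N1190 : nd 1190 = n1744 := ndS (p := 997) (l := 2) rfl N997 D1744
theorem N1191 : nd 1191 = n1745 := ndS (p := 998) (l := 1) rfl N998 D1745
theorem N1192 : nd 1192 = n1746 := ndS (p := 998) (l := 3) rfl N998 D1746
theorem N1193 : nd 1193 = n1747 := ndS (p := 999) (l := 0) rfl N999 D1747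
theorem N1194 : nd 1194 = n1749 := ndS (p := 1000) (l := 4) rfl N1000 D1749
theorem N1195 : nd 1195 = n1750 := ndS (p := 1001) (l := 1) rfl N1001 D1750
theorem N1196 : nd 1196 = n1751 := ndS (p := 1001) (l := 3) rfl N1001 D1751
theorem N1197 : nd 1197 = n1752 := ndS (p := 1002) (l := 0) rfl N1002 D1752
theorem N1198 : nd 1198 = n1753 := ndS (p := 1002) (l := 3) rfl N1002 D1753
theorem N1199 : nd 1199 = n1754 := ndS (p := 1003) (l := 4) rfl N1003 D1754
theorem N1200 : nd 1200 = n1762 := ndS (p := 1006) (l := 6) rfl N1006 D1762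
theorem N1201 : nd 1201 = n1763 := ndS (p := 1007) (l := 2) rfl N1007 D1763
theorem N1202 : nd 1202 = n1764 := ndS (p := 1008) (l := 1) rfl N1008 D1764
theorem N1203 : nd 1203 = n1765 := ndS (p := 1008) (l := 3) rfl N1008 D1765
theorem N1204 : nd 1204 = n1767 := ndS (p := 1009) (l := 3) rfl N1009 D1767
theorem N1205 : nd 1205 = n1768 := ndS (p := 1010) (l := 0) rfl N1010 D1768
theorem N1206 : nd 1206 = n1769 := ndS (p := 1010) (l := 3) rfl N1010 D1769
theorem N1207 : nd 1207 = n1770 := ndS (p := 1011) (l := 4) rfl N1011 D1770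
theorem N1208 : nd 1208 = n1771 := ndS (p := 1012) (l := 3) rfl N1012 D1771
theorem N1209 : nd 1209 = n1772 := ndS (p := 1013) (l := 2) rfl N1013 D1772
theorem N1210 : nd 1210 = n1773 := ndS (p := 1013) (l := 4) rfl N1013 D1773
theorem N1211 : nd 1211 = n1778 := ndS (p := 1016) (l := 3) rfl N1016 D1778
theorem N1212 : nd 1212 = n1779 := ndS (p := 1017) (l := 2) rfl N1017 D1779
theorem N1213 : nd 1213 = n1780 := ndS (p := 1017) (l := 4) rfl N1017 D1780
theorem N1214 : nd 1214 = n1788 := ndS (p := 1021) (l := 6) rfl N1021 D1788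
theorem N1215 : nd 1215 = n1791 := ndS (p := 1022) (l := 7) rfl N1022 D1791
theorem N1216 : nd 1216 = n1794 := ndS (p := 1025) (l := 7) rfl N1025 D1794
theorem N1217 : nd 1217 = n1795 := ndS (p := 1026) (l := 6) rfl N1026 D1795
theorem N1218 : nd 1218 = n1797 := ndS (p := 1028) (l := 2) rfl N1028 D1797
theorem N1219 : nd 1219 = n1798 := ndS (p := 1029) (l := 1) rfl N1029 D1798
theorem N1220 : nd 1220 = n1800 := ndS (p := 1030) (l := 0) rfl N1030 D1800
theorem N1221 : nd 1221 = n1803 := ndS (p := 1032) (l := 6) rfl N1032 D1803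
theorem N1222 : nd 1222 = n1804 := ndS (p := 1033) (l := 2) rfl N1033 D1804
theorem N1223 : nd 1223 = n1832 := ndS (p := 1038) (l := 2) rfl N1038 D1832
theorem N1224 : nd 1224 = n1868 := ndS (p := 1041) (l := 6) rfl N1041 D1868
theorem N1225 : nd 1225 = n1871 := ndS (p := 1042) (l := 6) rfl N1042 D1871
theorem N1226 : nd 1226 = n1872 := ndS (p := 1043) (l := 2) rfl N1043 D1872
theorem N1227 : nd 1227 = n1875 := ndS (p := 1044) (l := 6) rfl N1044 D1875
theorem N1228 : nd 1228 = n1876 := ndS (p := 1045) (l := 2) rfl N1045 D1876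
theorem N1229 : nd 1229 = n1877 := ndS (p := 1046) (l := 1) rfl N1046 D1877
theorem N1230 : nd 1230 = n1879 := ndS (p := 1047) (l := 6) rfl N1047 D1879
theorem N1231 : nd 1231 = n1880 := ndS (p := 1048) (l := 2) rfl N1048 D1880
theorem N1232 : nd 1232 = n1881 := ndS (p := 1049) (l := 2) rfl N1049 D1881
theorem N1233 : nd 1233 = n1882 := ndS (p := 1050) (l := 1) rfl N1050 D1882
theorem N1234 : nd 1234 = n1883 := ndS (p := 1050) (l := 3) rfl N1050 D1883
theorem N1235 : nd 1235 = n1884 := ndS (p := 1051) (l := 1) rfl N1051 D1884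
theorem N1236 : nd 1236 = n1885 := ndS (p := 1051) (l := 3) rfl N1051 D1885
theorem N1237 : nd 1237 = n1886 := ndS (p := 1052) (l := 0) rfl N1052 D1886
theorem N1238 : nd 1238 = n1887 := ndS (p := 1052) (l := 3) rfl N1052 D1887
theorem N1239 : nd 1239 = n1888 := ndS (p := 1053) (l := 4) rfl N1053 D1888
theorem N1240 : nd 1240 = n1889 := ndS (p := 1054) (l := 1) rfl N1054 D1889
theorem N1241 : nd 1241 = n1890 := ndS (p := 1054) (l := 3) rfl N1054 D1890
theorem N1242 : nd 1242 = n1891 := ndS (p := 1055) (l := 0) rfl N1055 D1891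
theorem N1243 : nd 1243 = n1892 := ndS (p := 1055) (l := 3) rfl N1055 D1892
theorem N1244 : nd 1244 = n1893 := ndS (p := 1056) (l := 4) rfl N1056 D1893
theorem N1245 : nd 1245 = n1894 := ndS (p := 1057) (l := 3) rfl N1057 D1894
theorem N1246 : nd 1246 = n1895 := ndS (p := 1058) (l := 2) rfl N1058 D1895
theorem N1247 : nd 1247 = n1896 := ndS (p := 1058) (l := 4) rfl N1058 D1896
theorem N1248 : nd 1248 = n1901 := ndS (p := 1061) (l := 2) rfl N1061 D1901
theorem N1249 : nd 1249 = n1902 := ndS (p := 1062) (l := 1) rfl N1062 D1902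
theorem N1250 : nd 1250 = n1903 := ndS (p := 1062) (l := 3) rfl N1062 D1903
theorem N1251 : nd 1251 = n1904 := ndS (p := 1063) (l := 1) rfl N1063 D1904
theorem N1252 : nd 1252 = n1905 := ndS (p := 1063) (l := 3) rfl N1063 D1905
theorem N1253 : nd 1253 = n1906 := ndS (p := 1064) (l := 0) rfl N1064 D1906
theorem N1254 : nd 1254 = n1907 := ndS (p := 1064) (l := 3) rfl N1064 D1907
theorem N1255 : nd 1255 = n1908 := ndS (p := 1065) (l := 4) rfl N1065 D1908
theorem N1256 : nd 1256 = n1909 := ndS (p := 1066) (l := 0) rfl N1066 D1909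
theorem N1257 : nd 1257 = n1910 := ndS (p := 1066) (l := 3) rfl N1066 D1910
theorem N1258 : nd 1258 = n1911 := ndS (p := 1067) (l := 4) rfl N1067 D1911
theorem N1259 : nd 1259 = n1912 := ndS (p := 1068) (l := 3) rfl N1068 D1912
theorem N1260 : nd 1260 = n1913 := ndS (p := 1069) (l := 2) rfl N1069 D1913
theorem N1261 : nd 1261 = n1914 := ndS (p := 1069) (l := 4) rfl N1069 D1914
theorem N1262 : nd 1262 = n1915 := ndS (p := 1070) (l := 5) rfl N1070 D1915
theorem N1263 : nd 1263 = n1916 := ndS (p := 1071) (l := 0) rfl N1071 D1916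
theorem N1264 : nd 1264 = n1917 := ndS (p := 1071) (l := 3) rfl N1071 D1917
theorem N1265 : nd 1265 = n1918 := ndS (p := 1072) (l := 4) rfl N1072 D1918
theorem N1266 : nd 1266 = n1919 := ndS (p := 1073) (l := 3) rfl N1073 D1919
theorem N1267 : nd 1267 = n1920 := ndS (p := 1074) (l := 2) rfl N1074 D1920
theorem N1268 : nd 1268 = n1921 := ndS (p := 1074) (l := 4) rfl N1074 D1921
theorem N1269 : nd 1269 = n1922 := ndS (p := 1075) (l := 5) rfl N1075 D1922
theorem N1270 : nd 1270 = n1923 := ndS (p := 1076) (l := 4) rfl N1076 D1923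
theorem N1271 : nd 1271 = n1924 := ndS (p := 1077) (l := 5) rfl N1077 D1924
theorem N1272 : nd 1272 = n1925 := ndS (p := 1079) (l := 3) rfl N1079 D1925
theorem N1273 : nd 1273 = n1928 := ndS (p := 1081) (l := 2) rfl N1081 D1928
theorem N1274 : nd 1274 = n1929 := ndS (p := 1082) (l := 6) rfl N1082 D1929
theorem N1275 : nd 1275 = n1931 := ndS (p := 1083) (l := 3) rfl N1083 D1931
theorem N1276 : nd 1276 = n1932 := ndS (p := 1084) (l := 4) rfl N1084 D1932
theorem N1277 : nd 1277 = n1952 := ndS (p := 1089) (l := 4) rfl N1089 D1952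
theorem N1278 : nd 1278 = n1953 := ndS (p := 1089) (l := 6) rfl N1089 D1953
theorem N1279 : nd 1279 = n1962 := ndS (p := 1091) (l := 7) rfl N1091 D1962
theorem N1280 : nd 1280 = n2008 := ndS (p := 1092) (l := 7) rfl N1092 D2008
theorem N1281 : nd 1281 = n2009 := ndS (p := 1093) (l := 6) rfl N1093 D2009
theorem N1282 : nd 1282 = n2010 := ndS (p := 1094) (l := 7) rfl N1094 D2010
theorem N1283 : nd 1283 = n2056 := ndS (p := 1098) (l := 2) rfl N1098 D2056
theorem N1284 : nd 1284 = n2057 := ndS (p := 1098) (l := 4) rfl N1098 D2057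
theorem N1285 : nd 1285 = n2061 := ndS (p := 1100) (l := 4) rfl N1100 D2061
theorem N1286 : nd 1286 = n2133 := ndS (p := 1102) (l := 6) rfl N1102 D2133
theorem N1287 : nd 1287 = n2136 := ndS (p := 1103) (l := 6) rfl N1103 D2136
theorem N1288 : nd 1288 = n2137 := ndS (p := 1104) (l := 2) rfl N1104 D2137
theorem N1289 : nd 1289 = n2143 := ndS (p := 1105) (l := 6) rfl N1105 D2143
theorem N1290 : nd 1290 = n2145 := ndS (p := 1106) (l := 6) rfl N1106 D2145
theorem N1291 : nd 1291 = n2146 := ndS (p := 1107) (l := 6) rfl N1107 D2146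
theorem N1292 : nd 1292 = n2147 := ndS (p := 1108) (l := 2) rfl N1108 D2147
theorem N1293 : nd 1293 = n2148 := ndS (p := 1109) (l := 2) rfl N1109 D2148
theorem N1294 : nd 1294 = n2149 := ndS (p := 1110) (l := 1) rfl N1110 D2149
theorem N1295 : nd 1295 = n2150 := ndS (p := 1110) (l := 3) rfl N1110 D2150
theorem N1296 : nd 1296 = n2151 := ndS (p := 1111) (l := 2) rfl N1111 D2151
theorem N1297 : nd 1297 = n2152 := ndS (p := 1112) (l := 1) rfl N1112 D2152
theorem N1298 : nd 1298 = n2153 := ndS (p := 1112) (l := 3) rfl N1112 D2153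
theorem N1299 : nd 1299 = n2154 := ndS (p := 1113) (l := 0) rfl N1113 D2154
theorem N1300 : nd 1300 = n2155 := ndS (p := 1113) (l := 3) rfl N1113 D2155
theorem N1301 : nd 1301 = n2156 := ndS (p := 1114) (l := 4) rfl N1114 D2156
theorem N1302 : nd 1302 = n2157 := ndS (p := 1115) (l := 2) rfl N1115 D2157
theorem N1303 : nd 1303 = n2158 := ndS (p := 1115) (l := 4) rfl N1115 D2158
theorem N1304 : nd 1304 = n2159 := ndS (p := 1116) (l := 5) rfl N1116 D2159
theorem N1305 : nd 1305 = n2167 := ndS (p := 1117) (l := 2) rfl N1117 D2167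
theorem N1306 : nd 1306 = n2169 := ndS (p := 1118) (l := 2) rfl N1118 D2169
theorem N1307 : nd 1307 = n2170 := ndS (p := 1119) (l := 2) rfl N1119 D2170
theorem N1308 : nd 1308 = n2171 := ndS (p := 1120) (l := 1) rfl N1120 D2171
theorem N1309 : nd 1309 = n2172 := ndS (p := 1120) (l := 3) rfl N1120 D2172
theorem N1310 : nd 1310 = n2173 := ndS (p := 1121) (l := 1) rfl N1121 D2173
theorem N1311 : nd 1311 = n2174 := ndS (p := 1121) (l := 3) rfl N1121 D2174
theorem N1312 : nd 1312 = n2175 := ndS (p := 1122) (l := 0) rfl N1122 D2175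
theorem N1313 : nd 1313 = n2176 := ndS (p := 1122) (l := 3) rfl N1122 D2176
theorem N1314 : nd 1314 = n2177 := ndS (p := 1123) (l := 4) rfl N1123 D2177
theorem N1315 : nd 1315 = n2178 := ndS (p := 1124) (l := 1) rfl N1124 D2178
theorem N1316 : nd 1316 = n2179 := ndS (p := 1124) (l := 3) rfl N1124 D2179
theorem N1317 : nd 1317 = n2180 := ndS (p := 1125) (l := 0) rfl N1125 D2180
theorem N1318 : nd 1318 = n2181 := ndS (p := 1125) (l := 3) rfl N1125 D2181
theorem N1319 : nd 1319 = n2182 := ndS (p := 1126) (l := 4) rfl N1126 D2182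
theorem N1320 : nd 1320 = n2183 := ndS (p := 1127) (l := 3) rfl N1127 D2183
theorem N1321 : nd 1321 = n2184 := ndS (p := 1128) (l := 4) rfl N1128 D2184
theorem N1322 : nd 1322 = n2185 := ndS (p := 1129) (l := 5) rfl N1129 D2185
theorem N1323 : nd 1323 = n2186 := ndS (p := 1131) (l := 0) rfl N1131 D2186
theorem N1324 : nd 1324 = n2187 := ndS (p := 1131) (l := 3) rfl N1131 D2187
theorem N1325 : nd 1325 = n2188 := ndS (p := 1132) (l := 4) rfl N1132 D2188
theorem N1326 : nd 1326 = n2189 := ndS (p := 1133) (l := 3) rfl N1133 D2189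
theorem N1327 : nd 1327 = n2190 := ndS (p := 1134) (l := 2) rfl N1134 D2190
theorem N1328 : nd 1328 = n2199 := ndS (p := 1135) (l := 6) rfl N1135 D2199
theorem N1329 : nd 1329 = n2202 := ndS (p := 1136) (l := 6) rfl N1136 D2202
theorem N1330 : nd 1330 = n2205 := ndS (p := 1137) (l := 6) rfl N1137 D2205
theorem N1331 : nd 1331 = n2206 := ndS (p := 1138) (l := 2) rfl N1138 D2206
theorem N1332 : nd 1332 = n2209 := ndS (p := 1139) (l := 6) rfl N1139 D2209
theorem N1333 : nd 1333 = n2210 := ndS (p := 1140) (l := 2) rfl N1140 D2210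
theorem N1334 : nd 1334 = n2211 := ndS (p := 1141) (l := 1) rfl N1141 D2211
theorem N1335 : nd 1335 = n2212 := ndS (p := 1141) (l := 3) rfl N1141 D2212
theorem N1336 : nd 1336 = n2218 := ndS (p := 1142) (l := 2) rfl N1142 D2218
theorem N1337 : nd 1337 = n2220 := ndS (p := 1143) (l := 2) rfl N1143 D2220
theorem N1338 : nd 1338 = n2221 := ndS (p := 1144) (l := 2) rfl N1144 D2221
theorem N1339 : nd 1339 = n2222 := ndS (p := 1145) (l := 1) rfl N1145 D2222
theorem N1340 : nd 1340 = n2223 := ndS (p := 1145) (l := 3) rfl N1145 D2223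
theorem N1341 : nd 1341 = n2224 := ndS (p := 1146) (l := 1) rfl N1146 D2224
theorem N1342 : nd 1342 = n2225 := ndS (p := 1146) (l := 3) rfl N1146 D2225
theorem N1343 : nd 1343 = n2226 := ndS (p := 1147) (l := 0) rfl N1147 D2226
theorem N1344 : nd 1344 = n2227 := ndS (p := 1147) (l := 3) rfl N1147 D2227
theorem N1345 : nd 1345 = n2228 := ndS (p := 1148) (l := 4) rfl N1148 D2228
theorem N1346 : nd 1346 = n2229 := ndS (p := 1149) (l := 1) rfl N1149 D2229
theorem N1347 : nd 1347 = n2230 := ndS (p := 1149) (l := 3) rfl N1149 D2230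
theorem N1348 : nd 1348 = n2231 := ndS (p := 1150) (l := 0) rfl N1150 D2231
theorem N1349 : nd 1349 = n2232 := ndS (p := 1150) (l := 3) rfl N1150 D2232
theorem N1350 : nd 1350 = n2233 := ndS (p := 1151) (l := 4) rfl N1151 D2233
theorem N1351 : nd 1351 = n2234 := ndS (p := 1152) (l := 3) rfl N1152 D2234
theorem N1352 : nd 1352 = n2235 := ndS (p := 1153) (l := 2) rfl N1153 D2235
theorem N1353 : nd 1353 = n2236 := ndS (p := 1153) (l := 4) rfl N1153 D2236
theorem N1354 : nd 1354 = n2244 := ndS (p := 1156) (l := 2) rfl N1156 D2244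
theorem N1355 : nd 1355 = n2245 := ndS (p := 1157) (l := 2) rfl N1157 D2245
theorem N1356 : nd 1356 = n2246 := ndS (p := 1158) (l := 1) rfl N1158 D2246
theorem N1357 : nd 1357 = n2247 := ndS (p := 1158) (l := 3) rfl N1158 D2247
theorem N1358 : nd 1358 = n2248 := ndS (p := 1159) (l := 2) rfl N1159 D2248
theorem N1359 : nd 1359 = n2249 := ndS (p := 1160) (l := 1) rfl N1160 D2249
theorem N1360 : nd 1360 = n2250 := ndS (p := 1160) (l := 3) rfl N1160 D2250
theorem N1361 : nd 1361 = n2251 := ndS (p := 1161) (l := 1) rfl N1161 D2251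
theorem N1362 : nd 1362 = n2252 := ndS (p := 1161) (l := 3) rfl N1161 D2252
theorem N1363 : nd 1363 = n2253 := ndS (p := 1162) (l := 0) rfl N1162 D2253
theorem N1364 : nd 1364 = n2254 := ndS (p := 1162) (l := 3) rfl N1162 D2254
theorem N1365 : nd 1365 = n2255 := ndS (p := 1163) (l := 4) rfl N1163 D2255
theorem N1366 : nd 1366 = n2256 := ndS (p := 1164) (l := 0) rfl N1164 D2256
theorem N1367 : nd 1367 = n2257 := ndS (p := 1164) (l := 3) rfl N1164 D2257
theorem N1368 : nd 1368 = n2258 := ndS (p := 1165) (l := 4) rfl N1165 D2258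
theorem N1369 : nd 1369 = n2259 := ndS (p := 1166) (l := 3) rfl N1166 D2259
theorem N1370 : nd 1370 = n2260 := ndS (p := 1167) (l := 2) rfl N1167 D2260
theorem N1371 : nd 1371 = n2261 := ndS (p := 1167) (l := 4) rfl N1167 D2261
theorem N1372 : nd 1372 = n2262 := ndS (p := 1168) (l := 5) rfl N1168 D2262
theorem N1373 : nd 1373 = n2263 := ndS (p := 1169) (l := 0) rfl N1169 D2263
theorem N1374 : nd 1374 = n2264 := ndS (p := 1169) (l := 3) rfl N1169 D2264
theorem N1375 : nd 1375 = n2265 := ndS (p := 1170) (l := 4) rfl N1170 D2265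
theorem N1376 : nd 1376 = n2266 := ndS (p := 1171) (l := 3) rfl N1171 D2266
theorem N1377 : nd 1377 = n2267 := ndS (p := 1172) (l := 2) rfl N1172 D2267
theorem N1378 : nd 1378 = n2268 := ndS (p := 1172) (l := 4) rfl N1172 D2268
theorem N1379 : nd 1379 = n2269 := ndS (p := 1173) (l := 5) rfl N1173 D2269
theorem N1380 : nd 1380 = n2270 := ndS (p := 1174) (l := 4) rfl N1174 D2270
theorem N1381 : nd 1381 = n2271 := ndS (p := 1175) (l := 5) rfl N1175 D2271
theorem N1382 : nd 1382 = n2272 := ndS (p := 1177) (l := 3) rfl N1177 D2272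
theorem N1383 : nd 1383 = n2275 := ndS (p := 1179) (l := 2) rfl N1179 D2275
theorem N1384 : nd 1384 = n2276 := ndS (p := 1180) (l := 6) rfl N1180 D2276
theorem N1385 : nd 1385 = n2281 := ndS (p := 1181) (l := 6) rfl N1181 D2281
theorem N1386 : nd 1386 = n2283 := ndS (p := 1182) (l := 6) rfl N1182 D2283
theorem N1387 : nd 1387 = n2284 := ndS (p := 1183) (l := 2) rfl N1183 D2284
theorem N1388 : nd 1388 = n2285 := ndS (p := 1184) (l := 2) rfl N1184 D2285
theorem N1389 : nd 1389 = n2286 := ndS (p := 1185) (l := 1) rfl N1185 D2286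
theorem N1390 : nd 1390 = n2287 := ndS (p := 1185) (l := 3) rfl N1185 D2287
theorem N1391 : nd 1391 = n2288 := ndS (p := 1186) (l := 0) rfl N1186 D2288
theorem N1392 : nd 1392 = n2290 := ndS (p := 1187) (l := 4) rfl N1187 D2290
theorem N1393 : nd 1393 = n2292 := ndS (p := 1188) (l := 2) rfl N1188 D2292
theorem N1394 : nd 1394 = n2293 := ndS (p := 1189) (l := 1) rfl N1189 D2293
theorem N1395 : nd 1395 = n2294 := ndS (p := 1189) (l := 3) rfl N1189 D2294
theorem N1396 : nd 1396 = n2295 := ndS (p := 1190) (l := 1) rfl N1190 D2295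
theorem N1397 : nd 1397 = n2296 := ndS (p := 1190) (l := 3) rfl N1190 D2296
theorem N1398 : nd 1398 = n2297 := ndS (p := 1191) (l := 0) rfl N1191 D2297
theorem N1399 : nd 1399 = n2298 := ndS (p := 1191) (l := 3) rfl N1191 D2298
theorem N1400 : nd 1400 = n2299 := ndS (p := 1192) (l := 4) rfl N1192 D2299
theorem N1401 : nd 1401 = n2305 := ndS (p := 1195) (l := 3) rfl N1195 D2305
theorem N1402 : nd 1402 = n2306 := ndS (p := 1196) (l := 4) rfl N1196 D2306
theorem N1403 : nd 1403 = n2320 := ndS (p := 1200) (l := 2) rfl N1200 D2320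
theorem N1404 : nd 1404 = n2321 := ndS (p := 1201) (l := 1) rfl N1201 D2321
theorem N1405 : nd 1405 = n2322 := ndS (p := 1201) (l := 3) rfl N1201 D2322
theorem N1406 : nd 1406 = n2323 := ndS (p := 1202) (l := 0) rfl N1202 D2323
theorem N1407 : nd 1407 = n2324 := ndS (p := 1202) (l := 3) rfl N1202 D2324
theorem N1408 : nd 1408 = n2325 := ndS (p := 1203) (l := 4) rfl N1203 D2325
theorem N1409 : nd 1409 = n2329 := ndS (p := 1205) (l := 3) rfl N1205 D2329
theorem N1410 : nd 1410 = n2330 := ndS (p := 1206) (l := 2) rfl N1206 D2330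
theorem N1411 : nd 1411 = n2331 := ndS (p := 1206) (l := 4) rfl N1206 D2331
theorem N1412 : nd 1412 = n2333 := ndS (p := 1208) (l := 2) rfl N1208 D2333
theorem N1413 : nd 1413 = n2335 := ndS (p := 1209) (l := 4) rfl N1209 D2335
theorem N1414 : nd 1414 = n2343 := ndS (p := 1212) (l := 4) rfl N1212 D2343
theorem N1415 : nd 1415 = n2344 := ndS (p := 1212) (l := 6) rfl N1212 D2344
theorem N1416 : nd 1416 = n2353 := ndS (p := 1214) (l := 7) rfl N1214 D2353
theorem N1417 : nd 1417 = n2361 := ndS (p := 1216) (l := 6) rfl N1216 D2361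
theorem N1418 : nd 1418 = n2374 := ndS (p := 1221) (l := 2) rfl N1221 D2374
theorem N1419 : nd 1419 = n2413 := ndS (p := 1223) (l := 3) rfl N1223 D2413
theorem N1420 : nd 1420 = n2458 := ndS (p := 1224) (l := 2) rfl N1224 D2458
theorem N1421 : nd 1421 = n2462 := ndS (p := 1225) (l := 2) rfl N1225 D2462
theorem N1422 : nd 1422 = n2463 := ndS (p := 1226) (l := 1) rfl N1226 D2463
theorem N1423 : nd 1423 = n2464 := ndS (p := 1226) (l := 3) rfl N1226 D2464
theorem N1424 : nd 1424 = n2468 := ndS (p := 1227) (l := 2) rfl N1227 D2468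
theorem N1425 : nd 1425 = n2469 := ndS (p := 1228) (l := 1) rfl N1228 D2469
theorem N1426 : nd 1426 = n2471 := ndS (p := 1229) (l := 0) rfl N1229 D2471
theorem N1427 : nd 1427 = n2474 := ndS (p := 1230) (l := 2) rfl N1230 D2474
theorem N1428 : nd 1428 = n2475 := ndS (p := 1231) (l := 1) rfl N1231 D2475
theorem N1429 : nd 1429 = n2476 := ndS (p := 1231) (l := 3) rfl N1231 D2476
theorem N1430 : nd 1430 = n2477 := ndS (p := 1232) (l := 1) rfl N1232 D2477
theorem N1431 : nd 1431 = n2478 := ndS (p := 1232) (l := 3) rfl N1232 D2478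
theorem N1432 : nd 1432 = n2479 := ndS (p := 1233) (l := 0) rfl N1233 D2479
theorem N1433 : nd 1433 = n2480 := ndS (p := 1233) (l := 3) rfl N1233 D2480
theorem N1434 : nd 1434 = n2481 := ndS (p := 1234) (l := 4) rfl N1234 D2481
theorem N1435 : nd 1435 = n2482 := ndS (p := 1235) (l := 0) rfl N1235 D2482
theorem N1436 : nd 1436 = n2483 := ndS (p := 1235) (l := 3) rfl N1235 D2483
theorem N1437 : nd 1437 = n2484 := ndS (p := 1236) (l := 4) rfl N1236 D2484
theorem N1438 : nd 1438 = n2485 := ndS (p := 1237) (l := 3) rfl N1237 D2485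
theorem N1439 : nd 1439 = n2487 := ndS (p := 1238) (l := 4) rfl N1238 D2487
theorem N1440 : nd 1440 = n2489 := ndS (p := 1240) (l := 0) rfl N1240 D2489
theorem N1441 : nd 1441 = n2490 := ndS (p := 1240) (l := 3) rfl N1240 D2490
theorem N1442 : nd 1442 = n2491 := ndS (p := 1241) (l := 4) rfl N1241 D2491
theorem N1443 : nd 1443 = n2492 := ndS (p := 1242) (l := 3) rfl N1242 D2492
theorem N1444 : nd 1444 = n2493 := ndS (p := 1243) (l := 2) rfl N1243 D2493
theorem N1445 : nd 1445 = n2494 := ndS (p := 1243) (l := 4) rfl N1243 D2494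
theorem N1446 : nd 1446 = n2496 := ndS (p := 1245) (l := 2) rfl N1245 D2496
theorem N1447 : nd 1447 = n2497 := ndS (p := 1245) (l := 4) rfl N1245 D2497
theorem N1448 : nd 1448 = n2505 := ndS (p := 1248) (l := 1) rfl N1248 D2505
theorem N1449 : nd 1449 = n2506 := ndS (p := 1248) (l := 3) rfl N1248 D2506
theorem N1450 : nd 1450 = n2507 := ndS (p := 1249) (l := 0) rfl N1249 D2507
theorem N1451 : nd 1451 = n2508 := ndS (p := 1249) (l := 3) rfl N1249 D2508
theorem N1452 : nd 1452 = n2509 := ndS (p := 1250) (l := 4) rfl N1250 D2509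
theorem N1453 : nd 1453 = n2510 := ndS (p := 1251) (l := 0) rfl N1251 D2510
theorem N1454 : nd 1454 = n2511 := ndS (p := 1251) (l := 3) rfl N1251 D2511
theorem N1455 : nd 1455 = n2512 := ndS (p := 1252) (l := 4) rfl N1252 D2512
theorem N1456 : nd 1456 = n2513 := ndS (p := 1253) (l := 3) rfl N1253 D2513
theorem N1457 : nd 1457 = n2514 := ndS (p := 1254) (l := 2) rfl N1254 D2514
theorem N1458 : nd 1458 = n2515 := ndS (p := 1254) (l := 4) rfl N1254 D2515
theorem N1459 : nd 1459 = n2516 := ndS (p := 1255) (l := 5) rfl N1255 D2516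
theorem N1460 : nd 1460 = n2517 := ndS (p := 1256) (l := 3) rfl N1256 D2517
theorem N1461 : nd 1461 = n2518 := ndS (p := 1257) (l := 2) rfl N1257 D2518
theorem N1462 : nd 1462 = n2519 := ndS (p := 1257) (l := 4) rfl N1257 D2519
theorem N1463 : nd 1463 = n2520 := ndS (p := 1258) (l := 5) rfl N1258 D2520
theorem N1464 : nd 1464 = n2521 := ndS (p := 1259) (l := 2) rfl N1259 D2521
theorem N1465 : nd 1465 = n2522 := ndS (p := 1259) (l := 4) rfl N1259 D2522
theorem N1466 : nd 1466 = n2523 := ndS (p := 1260) (l := 4) rfl N1260 D2523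
theorem N1467 : nd 1467 = n2524 := ndS (p := 1261) (l := 5) rfl N1261 D2524
theorem N1468 : nd 1468 = n2525 := ndS (p := 1263) (l := 3) rfl N1263 D2525
theorem N1469 : nd 1469 = n2528 := ndS (p := 1265) (l := 5) rfl N1265 D2528
theorem N1470 : nd 1470 = n2529 := ndS (p := 1266) (l := 2) rfl N1266 D2529
theorem N1471 : nd 1471 = n2530 := ndS (p := 1266) (l := 4) rfl N1266 D2530
theorem N1472 : nd 1472 = n2531 := ndS (p := 1267) (l := 4) rfl N1267 D2531
theorem N1473 : nd 1473 = n2532 := ndS (p := 1267) (l := 6) rfl N1267 D2532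
theorem N1474 : nd 1474 = n2533 := ndS (p := 1268) (l := 5) rfl N1268 D2533
theorem N1475 : nd 1475 = n2534 := ndS (p := 1270) (l := 5) rfl N1270 D2534
theorem N1476 : nd 1476 = n2540 := ndS (p := 1273) (l := 6) rfl N1273 D2540
theorem N1477 : nd 1477 = n2541 := ndS (p := 1274) (l := 7) rfl N1274 D2541
theorem N1478 : nd 1478 = n2572 := ndS (p := 1277) (l := 6) rfl N1277 D2572
theorem N1479 : nd 1479 = n2573 := ndS (p := 1278) (l := 7) rfl N1278 D2573
theorem N1480 : nd 1480 = n2639 := ndS (p := 1281) (l := 2) rfl N1281 D2639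
theorem N1481 : nd 1481 = n2640 := ndS (p := 1281) (l := 7) rfl N1281 D2640
theorem N1482 : nd 1482 = n2698 := ndS (p := 1283) (l := 4) rfl N1283 D2698
theorem N1483 : nd 1483 = n2699 := ndS (p := 1283) (l := 6) rfl N1283 D2699
theorem N1484 : nd 1484 = n2704 := ndS (p := 1285) (l := 3) rfl N1285 D2704
theorem N1485 : nd 1485 = n2796 := ndS (p := 1286) (l := 2) rfl N1286 D2796
theorem N1486 : nd 1486 = n2800 := ndS (p := 1287) (l := 2) rfl N1287 D2800
theorem N1487 : nd 1487 = n2801 := ndS (p := 1288) (l := 1) rfl N1288 D2801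
theorem N1488 : nd 1488 = n2802 := ndS (p := 1288) (l := 3) rfl N1288 D2802
theorem N1489 : nd 1489 = n2811 := ndS (p := 1289) (l := 2) rfl N1289 D2811
theorem N1490 : nd 1490 = n2813 := ndS (p := 1290) (l := 2) rfl N1290 D2813
theorem N1491 : nd 1491 = n2814 := ndS (p := 1291) (l := 2) rfl N1291 D2814
theorem N1492 : nd 1492 = n2815 := ndS (p := 1292) (l := 1) rfl N1292 D2815
theorem N1493 : nd 1493 = n2816 := ndS (p := 1292) (l := 3) rfl N1292 D2816
theorem N1494 : nd 1494 = n2817 := ndS (p := 1293) (l := 1) rfl N1293 D2817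
theorem N1495 : nd 1495 = n2818 := ndS (p := 1293) (l := 3) rfl N1293 D2818
theorem N1496 : nd 1496 = n2819 := ndS (p := 1294) (l := 0) rfl N1294 D2819
theorem N1497 : nd 1497 = n2820 := ndS (p := 1294) (l := 3) rfl N1294 D2820
theorem N1498 : nd 1498 = n2821 := ndS (p := 1295) (l := 4) rfl N1295 D2821
theorem N1499 : nd 1499 = n2822 := ndS (p := 1296) (l := 1) rfl N1296 D2822
theorem N1500 : nd 1500 = n2823 := ndS (p := 1296) (l := 3) rfl N1296 D2823
theorem N1501 : nd 1501 = n2824 := ndS (p := 1297) (l := 0) rfl N1297 D2824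
theorem N1502 : nd 1502 = n2825 := ndS (p := 1297) (l := 3) rfl N1297 D2825
theorem N1503 : nd 1503 = n2826 := ndS (p := 1298) (l := 4) rfl N1298 D2826
theorem N1504 : nd 1504 = n2827 := ndS (p := 1299) (l := 3) rfl N1299 D2827
theorem N1505 : nd 1505 = n2828 := ndS (p := 1300) (l := 2) rfl N1300 D2828
theorem N1506 : nd 1506 = n2829 := ndS (p := 1300) (l := 4) rfl N1300 D2829
theorem N1507 : nd 1507 = n2830 := ndS (p := 1301) (l := 5) rfl N1301 D2830
theorem N1508 : nd 1508 = n2831 := ndS (p := 1302) (l := 4) rfl N1302 D2831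
theorem N1509 : nd 1509 = n2832 := ndS (p := 1302) (l := 6) rfl N1302 D2832
theorem N1510 : nd 1510 = n2833 := ndS (p := 1303) (l := 5) rfl N1303 D2833
theorem N1511 : nd 1511 = n2842 := ndS (p := 1305) (l := 1) rfl N1305 D2842
theorem N1512 : nd 1512 = n2843 := ndS (p := 1305) (l := 3) rfl N1305 D2843
theorem N1513 : nd 1513 = n2845 := ndS (p := 1306) (l := 1) rfl N1306 D2845
theorem N1514 : nd 1514 = n2846 := ndS (p := 1306) (l := 3) rfl N1306 D2846
theorem N1515 : nd 1515 = n2847 := ndS (p := 1307) (l := 1) rfl N1307 D2847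
theorem N1516 : nd 1516 = n2848 := ndS (p := 1307) (l := 3) rfl N1307 D2848
theorem N1517 : nd 1517 = n2849 := ndS (p := 1308) (l := 0) rfl N1308 D2849
theorem N1518 : nd 1518 = n2850 := ndS (p := 1308) (l := 3) rfl N1308 D2850
theorem N1519 : nd 1519 = n2851 := ndS (p := 1309) (l := 4) rfl N1309 D2851
theorem N1520 : nd 1520 = n2852 := ndS (p := 1310) (l := 0) rfl N1310 D2852
theorem N1521 : nd 1521 = n2853 := ndS (p := 1310) (l := 3) rfl N1310 D2853
theorem N1522 : nd 1522 = n2854 := ndS (p := 1311) (l := 4) rfl N1311 D2854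
theorem N1523 : nd 1523 = n2855 := ndS (p := 1312) (l := 3) rfl N1312 D2855
theorem N1524 : nd 1524 = n2856 := ndS (p := 1313) (l := 2) rfl N1313 D2856
theorem N1525 : nd 1525 = n2857 := ndS (p := 1313) (l := 4) rfl N1313 D2857
theorem N1526 : nd 1526 = n2858 := ndS (p := 1314) (l := 5) rfl N1314 D2858
theorem N1527 : nd 1527 = n2859 := ndS (p := 1315) (l := 0) rfl N1315 D2859
theorem N1528 : nd 1528 = n2860 := ndS (p := 1315) (l := 3) rfl N1315 D2860
theorem N1529 : nd 1529 = n2861 := ndS (p := 1316) (l := 4) rfl N1316 D2861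
theorem N1530 : nd 1530 = n2862 := ndS (p := 1317) (l := 3) rfl N1317 D2862
theorem N1531 : nd 1531 = n2863 := ndS (p := 1318) (l := 2) rfl N1318 D2863
theorem N1532 : nd 1532 = n2864 := ndS (p := 1318) (l := 4) rfl N1318 D2864
theorem N1533 : nd 1533 = n2865 := ndS (p := 1319) (l := 5) rfl N1319 D2865
theorem N1534 : nd 1534 = n2866 := ndS (p := 1320) (l := 4) rfl N1320 D2866
theorem N1535 : nd 1535 = n2867 := ndS (p := 1321) (l := 5) rfl N1321 D2867
theorem N1536 : nd 1536 = n2868 := ndS (p := 1323) (l := 3) rfl N1323 D2868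
theorem N1537 : nd 1537 = n2869 := ndS (p := 1324) (l := 2) rfl N1324 D2869
theorem N1538 : nd 1538 = n2870 := ndS (p := 1324) (l := 4) rfl N1324 D2870
theorem N1539 : nd 1539 = n2871 := ndS (p := 1326) (l := 2) rfl N1326 D2871
theorem N1540 : nd 1540 = n2872 := ndS (p := 1327) (l := 6) rfl N1327 D2872
theorem N1541 : nd 1541 = n2887 := ndS (p := 1328) (l := 2) rfl N1328 D2887
theorem N1542 : nd 1542 = n2891 := ndS (p := 1329) (l := 2) rfl N1329 D2891
theorem N1543 : nd 1543 = n2895 := ndS (p := 1330) (l := 2) rfl N1330 D2895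
theorem N1544 : nd 1544 = n2896 := ndS (p := 1331) (l := 1) rfl N1331 D2896
theorem N1545 : nd 1545 = n2897 := ndS (p := 1331) (l := 3) rfl N1331 D2897
theorem N1546 : nd 1546 = n2901 := ndS (p := 1332) (l := 2) rfl N1332 D2901
theorem N1547 : nd 1547 = n2902 := ndS (p := 1333) (l := 1) rfl N1333 D2902
theorem N1548 : nd 1548 = n2903 := ndS (p := 1333) (l := 3) rfl N1333 D2903
theorem N1549 : nd 1549 = n2904 := ndS (p := 1334) (l := 0) rfl N1334 D2904
theorem N1550 : nd 1550 = n2905 := ndS (p := 1334) (l := 3) rfl N1334 D2905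
theorem N1551 : nd 1551 = n2906 := ndS (p := 1335) (l := 4) rfl N1335 D2906
theorem N1552 : nd 1552 = n2912 := ndS (p := 1336) (l := 1) rfl N1336 D2912
theorem N1553 : nd 1553 = n2913 := ndS (p := 1336) (l := 3) rfl N1336 D2913
theorem N1554 : nd 1554 = n2915 := ndS (p := 1337) (l := 1) rfl N1337 D2915
theorem N1555 : nd 1555 = n2916 := ndS (p := 1337) (l := 3) rfl N1337 D2916
theorem N1556 : nd 1556 = n2917 := ndS (p := 1338) (l := 1) rfl N1338 D2917
theorem N1557 : nd 1557 = n2918 := ndS (p := 1338) (l := 3) rfl N1338 D2918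
theorem N1558 : nd 1558 = n2919 := ndS (p := 1339) (l := 0) rfl N1339 D2919
theorem N1559 : nd 1559 = n2920 := ndS (p := 1339) (l := 3) rfl N1339 D2920
theorem N1560 : nd 1560 = n2921 := ndS (p := 1340) (l := 4) rfl N1340 D2921
theorem N1561 : nd 1561 = n2922 := ndS (p := 1341) (l := 0) rfl N1341 D2922
theorem N1562 : nd 1562 = n2923 := ndS (p := 1341) (l := 3) rfl N1341 D2923
theorem N1563 : nd 1563 = n2924 := ndS (p := 1342) (l := 4) rfl N1342 D2924
theorem N1564 : nd 1564 = n2925 := ndS (p := 1343) (l := 3) rfl N1343 D2925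
theorem N1565 : nd 1565 = n2926 := ndS (p := 1344) (l := 2) rfl N1344 D2926
theorem N1566 : nd 1566 = n2927 := ndS (p := 1344) (l := 4) rfl N1344 D2927
theorem N1567 : nd 1567 = n2929 := ndS (p := 1346) (l := 0) rfl N1346 D2929
theorem N1568 : nd 1568 = n2930 := ndS (p := 1346) (l := 3) rfl N1346 D2930
theorem N1569 : nd 1569 = n2931 := ndS (p := 1347) (l := 4) rfl N1347 D2931
theorem N1570 : nd 1570 = n2932 := ndS (p := 1348) (l := 3) rfl N1348 D2932
theorem N1571 : nd 1571 = n2933 := ndS (p := 1349) (l := 2) rfl N1349 D2933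
theorem N1572 : nd 1572 = n2934 := ndS (p := 1349) (l := 4) rfl N1349 D2934
theorem N1573 : nd 1573 = n2936 := ndS (p := 1351) (l := 2) rfl N1351 D2936
theorem N1574 : nd 1574 = n2937 := ndS (p := 1351) (l := 4) rfl N1351 D2937
theorem N1575 : nd 1575 = n2948 := ndS (p := 1354) (l := 1) rfl N1354 D2948
theorem N1576 : nd 1576 = n2949 := ndS (p := 1354) (l := 3) rfl N1354 D2949
theorem N1577 : nd 1577 = n2950 := ndS (p := 1355) (l := 1) rfl N1355 D2950
theorem N1578 : nd 1578 = n2951 := ndS (p := 1355) (l := 3) rfl N1355 D2951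
theorem N1579 : nd 1579 = n2952 := ndS (p := 1356) (l := 0) rfl N1356 D2952
theorem N1580 : nd 1580 = n2953 := ndS (p := 1356) (l := 3) rfl N1356 D2953
theorem N1581 : nd 1581 = n2954 := ndS (p := 1357) (l := 4) rfl N1357 D2954
theorem N1582 : nd 1582 = n2955 := ndS (p := 1358) (l := 1) rfl N1358 D2955
theorem N1583 : nd 1583 = n2956 := ndS (p := 1358) (l := 3) rfl N1358 D2956
theorem N1584 : nd 1584 = n2957 := ndS (p := 1359) (l := 0) rfl N1359 D2957
theorem N1585 : nd 1585 = n2958 := ndS (p := 1359) (l := 3) rfl N1359 D2958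
theorem N1586 : nd 1586 = n2959 := ndS (p := 1360) (l := 4) rfl N1360 D2959
theorem N1587 : nd 1587 = n2960 := ndS (p := 1361) (l := 0) rfl N1361 D2960
theorem N1588 : nd 1588 = n2961 := ndS (p := 1361) (l := 3) rfl N1361 D2961
theorem N1589 : nd 1589 = n2962 := ndS (p := 1362) (l := 4) rfl N1362 D2962
theorem N1590 : nd 1590 = n2963 := ndS (p := 1363) (l := 3) rfl N1363 D2963
theorem N1591 : nd 1591 = n2964 := ndS (p := 1364) (l := 2) rfl N1364 D2964
theorem N1592 : nd 1592 = n2965 := ndS (p := 1364) (l := 4) rfl N1364 D2965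
theorem N1593 : nd 1593 = n2966 := ndS (p := 1365) (l := 5) rfl N1365 D2966
theorem N1594 : nd 1594 = n2967 := ndS (p := 1366) (l := 3) rfl N1366 D2967
theorem N1595 : nd 1595 = n2968 := ndS (p := 1367) (l := 2) rfl N1367 D2968
theorem N1596 : nd 1596 = n2969 := ndS (p := 1367) (l := 4) rfl N1367 D2969
theorem N1597 : nd 1597 = n2970 := ndS (p := 1368) (l := 5) rfl N1368 D2970
theorem N1598 : nd 1598 = n2971 := ndS (p := 1369) (l := 2) rfl N1369 D2971
theorem N1599 : nd 1599 = n2972 := ndS (p := 1369) (l := 4) rfl N1369 D2972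
theorem N1600 : nd 1600 = n2973 := ndS (p := 1370) (l := 4) rfl N1370 D2973
theorem N1601 : nd 1601 = n2974 := ndS (p := 1371) (l := 5) rfl N1371 D2974
theorem N1602 : nd 1602 = n2975 := ndS (p := 1373) (l := 3) rfl N1373 D2975
theorem N1603 : nd 1603 = n2978 := ndS (p := 1375) (l := 5) rfl N1375 D2978
theorem N1604 : nd 1604 = n2979 := ndS (p := 1376) (l := 2) rfl N1376 D2979
theorem N1605 : nd 1605 = n2980 := ndS (p := 1376) (l := 4) rfl N1376 D2980
theorem N1606 : nd 1606 = n2981 := ndS (p := 1377) (l := 4) rfl N1377 D2981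
theorem N1607 : nd 1607 = n2982 := ndS (p := 1377) (l := 6) rfl N1377 D2982
theorem N1608 : nd 1608 = n2983 := ndS (p := 1378) (l := 5) rfl N1378 D2983
theorem N1609 : nd 1609 = n2984 := ndS (p := 1380) (l := 5) rfl N1380 D2984
theorem N1610 : nd 1610 = n2990 := ndS (p := 1383) (l := 6) rfl N1383 D2990
theorem N1611 : nd 1611 = n2991 := ndS (p := 1384) (l := 7) rfl N1384 D2991
theorem N1612 : nd 1612 = n2998 := ndS (p := 1385) (l := 2) rfl N1385 D2998
theorem N1613 : nd 1613 = n3000 := ndS (p := 1386) (l := 2) rfl N1386 D3000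
theorem N1614 : nd 1614 = n3001 := ndS (p := 1387) (l := 1) rfl N1387 D3001
theorem N1615 : nd 1615 = n3002 := ndS (p := 1387) (l := 3) rfl N1387 D3002
theorem N1616 : nd 1616 = n3003 := ndS (p := 1388) (l := 1) rfl N1388 D3003
theorem N1617 : nd 1617 = n3004 := ndS (p := 1388) (l := 3) rfl N1388 D3004
theorem N1618 : nd 1618 = n3005 := ndS (p := 1389) (l := 0) rfl N1389 D3005
theorem N1619 : nd 1619 = n3006 := ndS (p := 1389) (l := 3) rfl N1389 D3006
theorem N1620 : nd 1620 = n3007 := ndS (p := 1390) (l := 4) rfl N1390 D3007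
theorem N1621 : nd 1621 = n3013 := ndS (p := 1393) (l := 1) rfl N1393 D3013
theorem N1622 : nd 1622 = n3014 := ndS (p := 1393) (l := 3) rfl N1393 D3014
theorem N1623 : nd 1623 = n3015 := ndS (p := 1394) (l := 0) rfl N1394 D3015
theorem N1624 : nd 1624 = n3016 := ndS (p := 1394) (l := 3) rfl N1394 D3016
theorem N1625 : nd 1625 = n3017 := ndS (p := 1395) (l := 4) rfl N1395 D3017
theorem N1626 : nd 1626 = n3019 := ndS (p := 1396) (l := 3) rfl N1396 D3019
theorem N1627 : nd 1627 = n3020 := ndS (p := 1397) (l := 4) rfl N1397 D3020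
theorem N1628 : nd 1628 = n3022 := ndS (p := 1399) (l := 2) rfl N1399 D3022
theorem N1629 : nd 1629 = n3050 := ndS (p := 1403) (l := 1) rfl N1403 D3050
theorem N1630 : nd 1630 = n3051 := ndS (p := 1403) (l := 3) rfl N1403 D3051
theorem N1631 : nd 1631 = n3052 := ndS (p := 1404) (l := 0) rfl N1404 D3052
theorem N1632 : nd 1632 = n3053 := ndS (p := 1404) (l := 3) rfl N1404 D3053
theorem N1633 : nd 1633 = n3055 := ndS (p := 1406) (l := 3) rfl N1406 D3055
theorem N1634 : nd 1634 = n3056 := ndS (p := 1407) (l := 2) rfl N1407 D3056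
theorem N1635 : nd 1635 = n3057 := ndS (p := 1407) (l := 4) rfl N1407 D3057
theorem N1636 : nd 1636 = n3058 := ndS (p := 1408) (l := 5) rfl N1408 D3058
theorem N1637 : nd 1637 = n3065 := ndS (p := 1410) (l := 4) rfl N1410 D3065
theorem N1638 : nd 1638 = n3066 := ndS (p := 1410) (l := 6) rfl N1410 D3066
theorem N1639 : nd 1639 = n3071 := ndS (p := 1413) (l := 3) rfl N1413 D3071
theorem N1640 : nd 1640 = n3083 := ndS (p := 1414) (l := 6) rfl N1414 D3083
theorem N1641 : nd 1641 = n3084 := ndS (p := 1415) (l := 7) rfl N1415 D3084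
theorem N1642 : nd 1642 = n3121 := ndS (p := 1418) (l := 3) rfl N1418 D3121
theorem N1643 : nd 1643 = n3229 := ndS (p := 1420) (l := 1) rfl N1420 D3229
theorem N1644 : nd 1644 = n3230 := ndS (p := 1420) (l := 3) rfl N1420 D3230
theorem N1645 : nd 1645 = n3235 := ndS (p := 1421) (l := 1) rfl N1421 D3235
theorem N1646 : nd 1646 = n3236 := ndS (p := 1421) (l := 3) rfl N1421 D3236
theorem N1647 : nd 1647 = n3237 := ndS (p := 1422) (l := 0) rfl N1422 D3237
theorem N1648 : nd 1648 = n3238 := ndS (p := 1422) (l := 3) rfl N1422 D3238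
theorem N1649 : nd 1649 = n3243 := ndS (p := 1424) (l := 1) rfl N1424 D3243
theorem N1650 : nd 1650 = n3245 := ndS (p := 1425) (l := 0) rfl N1425 D3245
theorem N1651 : nd 1651 = n3252 := ndS (p := 1427) (l := 1) rfl N1427 D3252
theorem N1652 : nd 1652 = n3253 := ndS (p := 1427) (l := 3) rfl N1427 D3253
theorem N1653 : nd 1653 = n3254 := ndS (p := 1428) (l := 0) rfl N1428 D3254
theorem N1654 : nd 1654 = n3255 := ndS (p := 1428) (l := 3) rfl N1428 D3255
theorem N1655 : nd 1655 = n3256 := ndS (p := 1429) (l := 4) rfl N1429 D3256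
theorem N1656 : nd 1656 = n3257 := ndS (p := 1430) (l := 0) rfl N1430 D3257
theorem N1657 : nd 1657 = n3258 := ndS (p := 1430) (l := 3) rfl N1430 D3258
theorem N1658 : nd 1658 = n3259 := ndS (p := 1431) (l := 4) rfl N1431 D3259
theorem N1659 : nd 1659 = n3260 := ndS (p := 1432) (l := 3) rfl N1432 D3260
theorem N1660 : nd 1660 = n3261 := ndS (p := 1433) (l := 2) rfl N1433 D3261
theorem N1661 : nd 1661 = n3262 := ndS (p := 1433) (l := 4) rfl N1433 D3262
theorem N1662 : nd 1662 = n3264 := ndS (p := 1435) (l := 3) rfl N1435 D3264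
theorem N1663 : nd 1663 = n3266 := ndS (p := 1436) (l := 4) rfl N1436 D3266
theorem N1664 : nd 1664 = n3269 := ndS (p := 1438) (l := 4) rfl N1438 D3269
theorem N1665 : nd 1665 = n3273 := ndS (p := 1440) (l := 3) rfl N1440 D3273
theorem N1666 : nd 1666 = n3274 := ndS (p := 1441) (l := 2) rfl N1441 D3274
theorem N1667 : nd 1667 = n3275 := ndS (p := 1441) (l := 4) rfl N1441 D3275
theorem N1668 : nd 1668 = n3277 := ndS (p := 1443) (l := 2) rfl N1443 D3277
theorem N1669 : nd 1669 = n3278 := ndS (p := 1443) (l := 4) rfl N1443 D3278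
theorem N1670 : nd 1670 = n3280 := ndS (p := 1444) (l := 6) rfl N1444 D3280
theorem N1671 : nd 1671 = n3293 := ndS (p := 1448) (l := 0) rfl N1448 D3293
theorem N1672 : nd 1672 = n3294 := ndS (p := 1448) (l := 3) rfl N1448 D3294
theorem N1673 : nd 1673 = n3295 := ndS (p := 1449) (l := 4) rfl N1449 D3295
theorem N1674 : nd 1674 = n3296 := ndS (p := 1450) (l := 3) rfl N1450 D3296
theorem N1675 : nd 1675 = n3297 := ndS (p := 1451) (l := 2) rfl N1451 D3297
theorem N1676 : nd 1676 = n3299 := ndS (p := 1452) (l := 5) rfl N1452 D3299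
theorem N1677 : nd 1677 = n3300 := ndS (p := 1453) (l := 3) rfl N1453 D3300
theorem N1678 : nd 1678 = n3301 := ndS (p := 1454) (l := 2) rfl N1454 D3301
theorem N1679 : nd 1679 = n3302 := ndS (p := 1454) (l := 4) rfl N1454 D3302
theorem N1680 : nd 1680 = n3303 := ndS (p := 1455) (l := 5) rfl N1455 D3303
theorem N1681 : nd 1681 = n3304 := ndS (p := 1456) (l := 2) rfl N1456 D3304
theorem N1682 : nd 1682 = n3305 := ndS (p := 1456) (l := 4) rfl N1456 D3305
theorem N1683 : nd 1683 = n3306 := ndS (p := 1457) (l := 4) rfl N1457 D3306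
theorem N1684 : nd 1684 = n3307 := ndS (p := 1457) (l := 6) rfl N1457 D3307
theorem N1685 : nd 1685 = n3308 := ndS (p := 1458) (l := 5) rfl N1458 D3308
theorem N1686 : nd 1686 = n3309 := ndS (p := 1460) (l := 2) rfl N1460 D3309
theorem N1687 : nd 1687 = n3310 := ndS (p := 1460) (l := 4) rfl N1460 D3310
theorem N1688 : nd 1688 = n3311 := ndS (p := 1461) (l := 4) rfl N1461 D3311
theorem N1689 : nd 1689 = n3312 := ndS (p := 1461) (l := 6) rfl N1461 D3312
theorem N1690 : nd 1690 = n3313 := ndS (p := 1462) (l := 5) rfl N1462 D3313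
theorem N1691 : nd 1691 = n3315 := ndS (p := 1464) (l := 4) rfl N1464 D3315
theorem N1692 : nd 1692 = n3316 := ndS (p := 1465) (l := 5) rfl N1465 D3316
theorem N1693 : nd 1693 = n3317 := ndS (p := 1466) (l := 3) rfl N1466 D3317
theorem N1694 : nd 1694 = n3318 := ndS (p := 1466) (l := 5) rfl N1466 D3318
theorem N1695 : nd 1695 = n3324 := ndS (p := 1470) (l := 1) rfl N1470 D3324
theorem N1696 : nd 1696 = n3325 := ndS (p := 1470) (l := 4) rfl N1470 D3325
theorem N1697 : nd 1697 = n3326 := ndS (p := 1470) (l := 6) rfl N1470 D3326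
theorem N1698 : nd 1698 = n3329 := ndS (p := 1472) (l := 6) rfl N1472 D3329
theorem N1699 : nd 1699 = n3330 := ndS (p := 1473) (l := 7) rfl N1473 D3330
theorem N1700 : nd 1700 = n3338 := ndS (p := 1476) (l := 7) rfl N1476 D3338
theorem N1701 : nd 1701 = n3379 := ndS (p := 1478) (l := 7) rfl N1478 D3379
theorem N1702 : nd 1702 = n3456 := ndS (p := 1480) (l := 3) rfl N1480 D3456
theorem N1703 : nd 1703 = n3457 := ndS (p := 1480) (l := 7) rfl N1480 D3457
theorem N1704 : nd 1704 = n3533 := ndS (p := 1482) (l := 3) rfl N1482 D3533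
theorem N1705 : nd 1705 = n3535 := ndS (p := 1482) (l := 6) rfl N1482 D3535
theorem N1706 : nd 1706 = n3658 := ndS (p := 1485) (l := 1) rfl N1485 D3658
theorem N1707 : nd 1707 = n3659 := ndS (p := 1485) (l := 3) rfl N1485 D3659
theorem N1708 : nd 1708 = n3664 := ndS (p := 1486) (l := 1) rfl N1486 D3664
theorem N1709 : nd 1709 = n3665 := ndS (p := 1486) (l := 3) rfl N1486 D3665
theorem N1710 : nd 1710 = n3666 := ndS (p := 1487) (l := 0) rfl N1487 D3666
theorem N1711 : nd 1711 = n3667 := ndS (p := 1487) (l := 3) rfl N1487 D3667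
theorem N1712 : nd 1712 = n3668 := ndS (p := 1488) (l := 4) rfl N1488 D3668
theorem N1713 : nd 1713 = n3679 := ndS (p := 1489) (l := 1) rfl N1489 D3679
theorem N1714 : nd 1714 = n3680 := ndS (p := 1489) (l := 3) rfl N1489 D3680
theorem N1715 : nd 1715 = n3682 := ndS (p := 1490) (l := 1) rfl N1490 D3682
theorem N1716 : nd 1716 = n3683 := ndS (p := 1490) (l := 3) rfl N1490 D3683
theorem N1717 : nd 1717 = n3684 := ndS (p := 1491) (l := 1) rfl N1491 D3684
theorem N1718 : nd 1718 = n3685 := ndS (p := 1491) (l := 3) rfl N1491 D3685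
theorem N1719 : nd 1719 = n3686 := ndS (p := 1492) (l := 0) rfl N1492 D3686
theorem N1720 : nd 1720 = n3687 := ndS (p := 1492) (l := 3) rfl N1492 D3687
theorem N1721 : nd 1721 = n3688 := ndS (p := 1493) (l := 4) rfl N1493 D3688
theorem N1722 : nd 1722 = n3689 := ndS (p := 1494) (l := 0) rfl N1494 D3689
theorem N1723 : nd 1723 = n3690 := ndS (p := 1494) (l := 3) rfl N1494 D3690
theorem N1724 : nd 1724 = n3691 := ndS (p := 1495) (l := 4) rfl N1495 D3691
theorem N1725 : nd 1725 = n3692 := ndS (p := 1496) (l := 3) rfl N1496 D3692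
theorem N1726 : nd 1726 = n3693 := ndS (p := 1497) (l := 2) rfl N1497 D3693
theorem N1727 : nd 1727 = n3694 := ndS (p := 1497) (l := 4) rfl N1497 D3694
theorem N1728 : nd 1728 = n3695 := ndS (p := 1498) (l := 5) rfl N1498 D3695
theorem N1729 : nd 1729 = n3696 := ndS (p := 1499) (l := 0) rfl N1499 D3696
theorem N1730 : nd 1730 = n3697 := ndS (p := 1499) (l := 3) rfl N1499 D3697
theorem N1731 : nd 1731 = n3698 := ndS (p := 1500) (l := 4) rfl N1500 D3698
theorem N1732 : nd 1732 = n3699 := ndS (p := 1501) (l := 3) rfl N1501 D3699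
theorem N1733 : nd 1733 = n3700 := ndS (p := 1502) (l := 2) rfl N1502 D3700
theorem N1734 : nd 1734 = n3701 := ndS (p := 1502) (l := 4) rfl N1502 D3701
theorem N1735 : nd 1735 = n3702 := ndS (p := 1503) (l := 5) rfl N1503 D3702
theorem N1736 : nd 1736 = n3703 := ndS (p := 1504) (l := 2) rfl N1504 D3703
theorem N1737 : nd 1737 = n3704 := ndS (p := 1504) (l := 4) rfl N1504 D3704
theorem N1738 : nd 1738 = n3705 := ndS (p := 1505) (l := 4) rfl N1505 D3705
theorem N1739 : nd 1739 = n3706 := ndS (p := 1505) (l := 6) rfl N1505 D3706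
theorem N1740 : nd 1740 = n3707 := ndS (p := 1506) (l := 5) rfl N1506 D3707
theorem N1741 : nd 1741 = n3708 := ndS (p := 1508) (l := 3) rfl N1508 D3708
theorem N1742 : nd 1742 = n3709 := ndS (p := 1508) (l := 5) rfl N1508 D3709
theorem N1743 : nd 1743 = n3710 := ndS (p := 1508) (l := 6) rfl N1508 D3710
theorem N1744 : nd 1744 = n3711 := ndS (p := 1509) (l := 7) rfl N1509 D3711
theorem N1745 : nd 1745 = n3723 := ndS (p := 1511) (l := 0) rfl N1511 D3723
theorem N1746 : nd 1746 = n3724 := ndS (p := 1511) (l := 3) rfl N1511 D3724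
theorem N1747 : nd 1747 = n3725 := ndS (p := 1512) (l := 4) rfl N1512 D3725
theorem N1748 : nd 1748 = n3728 := ndS (p := 1513) (l := 0) rfl N1513 D3728
theorem N1749 : nd 1749 = n3729 := ndS (p := 1513) (l := 3) rfl N1513 D3729
theorem N1750 : nd 1750 = n3730 := ndS (p := 1514) (l := 4) rfl N1514 D3730
theorem N1751 : nd 1751 = n3731 := ndS (p := 1515) (l := 0) rfl N1515 D3731
theorem N1752 : nd 1752 = n3732 := ndS (p := 1515) (l := 3) rfl N1515 D3732
theorem N1753 : nd 1753 = n3733 := ndS (p := 1516) (l := 4) rfl N1516 D3733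
theorem N1754 : nd 1754 = n3734 := ndS (p := 1517) (l := 3) rfl N1517 D3734
theorem N1755 : nd 1755 = n3735 := ndS (p := 1518) (l := 2) rfl N1518 D3735
theorem N1756 : nd 1756 = n3736 := ndS (p := 1518) (l := 4) rfl N1518 D3736
theorem N1757 : nd 1757 = n3737 := ndS (p := 1519) (l := 5) rfl N1519 D3737
theorem N1758 : nd 1758 = n3738 := ndS (p := 1520) (l := 3) rfl N1520 D3738
theorem N1759 : nd 1759 = n3739 := ndS (p := 1521) (l := 2) rfl N1521 D3739
theorem N1760 : nd 1760 = n3740 := ndS (p := 1521) (l := 4) rfl N1521 D3740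
theorem N1761 : nd 1761 = n3741 := ndS (p := 1522) (l := 5) rfl N1522 D3741
theorem N1762 : nd 1762 = n3742 := ndS (p := 1523) (l := 2) rfl N1523 D3742
theorem N1763 : nd 1763 = n3743 := ndS (p := 1523) (l := 4) rfl N1523 D3743
theorem N1764 : nd 1764 = n3744 := ndS (p := 1524) (l := 4) rfl N1524 D3744
theorem N1765 : nd 1765 = n3745 := ndS (p := 1525) (l := 5) rfl N1525 D3745
theorem N1766 : nd 1766 = n3746 := ndS (p := 1527) (l := 3) rfl N1527 D3746
theorem N1767 : nd 1767 = n3747 := ndS (p := 1528) (l := 2) rfl N1528 D3747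
theorem N1768 : nd 1768 = n3748 := ndS (p := 1528) (l := 4) rfl N1528 D3748
theorem N1769 : nd 1769 = n3749 := ndS (p := 1529) (l := 5) rfl N1529 D3749
theorem N1770 : nd 1770 = n3750 := ndS (p := 1530) (l := 2) rfl N1530 D3750
theorem N1771 : nd 1771 = n3751 := ndS (p := 1530) (l := 4) rfl N1530 D3751
theorem N1772 : nd 1772 = n3752 := ndS (p := 1531) (l := 4) rfl N1531 D3752
theorem N1773 : nd 1773 = n3753 := ndS (p := 1531) (l := 6) rfl N1531 D3753
theorem N1774 : nd 1774 = n3754 := ndS (p := 1532) (l := 5) rfl N1532 D3754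
theorem N1775 : nd 1775 = n3755 := ndS (p := 1534) (l := 5) rfl N1534 D3755
theorem N1776 : nd 1776 = n3756 := ndS (p := 1536) (l := 2) rfl N1536 D3756
theorem N1777 : nd 1777 = n3757 := ndS (p := 1536) (l := 4) rfl N1536 D3757
theorem N1778 : nd 1778 = n3758 := ndS (p := 1537) (l := 4) rfl N1537 D3758
theorem N1779 : nd 1779 = n3759 := ndS (p := 1537) (l := 6) rfl N1537 D3759
theorem N1780 : nd 1780 = n3760 := ndS (p := 1539) (l := 1) rfl N1539 D3760
theorem N1781 : nd 1781 = n3761 := ndS (p := 1539) (l := 6) rfl N1539 D3761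
theorem N1782 : nd 1782 = n3762 := ndS (p := 1540) (l := 7) rfl N1540 D3762
theorem N1783 : nd 1783 = n3784 := ndS (p := 1541) (l := 1) rfl N1541 D3784
theorem N1784 : nd 1784 = n3785 := ndS (p := 1541) (l := 3) rfl N1541 D3785
theorem N1785 : nd 1785 = n3790 := ndS (p := 1542) (l := 1) rfl N1542 D3790
theorem N1786 : nd 1786 = n3791 := ndS (p := 1542) (l := 3) rfl N1542 D3791
theorem N1787 : nd 1787 = n3796 := ndS (p := 1543) (l := 1) rfl N1543 D3796
theorem N1788 : nd 1788 = n3797 := ndS (p := 1543) (l := 3) rfl N1543 D3797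
theorem N1789 : nd 1789 = n3798 := ndS (p := 1544) (l := 0) rfl N1544 D3798
theorem N1790 : nd 1790 = n3799 := ndS (p := 1544) (l := 3) rfl N1544 D3799
theorem N1791 : nd 1791 = n3800 := ndS (p := 1545) (l := 4) rfl N1545 D3800
theorem N1792 : nd 1792 = n3804 := ndS (p := 1546) (l := 1) rfl N1546 D3804
theorem N1793 : nd 1793 = n3805 := ndS (p := 1546) (l := 3) rfl N1546 D3805
theorem N1794 : nd 1794 = n3806 := ndS (p := 1547) (l := 0) rfl N1547 D3806
theorem N1795 : nd 1795 = n3807 := ndS (p := 1547) (l := 3) rfl N1547 D3807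
theorem N1796 : nd 1796 = n3808 := ndS (p := 1548) (l := 4) rfl N1548 D3808
theorem N1797 : nd 1797 = n3809 := ndS (p := 1549) (l := 3) rfl N1549 D3809
theorem N1798 : nd 1798 = n3810 := ndS (p := 1550) (l := 2) rfl N1550 D3810
theorem N1799 : nd 1799 = n3811 := ndS (p := 1550) (l := 4) rfl N1550 D3811
theorem N1800 : nd 1800 = n3812 := ndS (p := 1551) (l := 5) rfl N1551 D3812
theorem N1801 : nd 1801 = n3820 := ndS (p := 1552) (l := 0) rfl N1552 D3820
theorem N1802 : nd 1802 = n3821 := ndS (p := 1552) (l := 3) rfl N1552 D3821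
theorem N1803 : nd 1803 = n3822 := ndS (p := 1553) (l := 4) rfl N1553 D3822
theorem N1804 : nd 1804 = n3825 := ndS (p := 1554) (l := 0) rfl N1554 D3825
theorem N1805 : nd 1805 = n3826 := ndS (p := 1554) (l := 3) rfl N1554 D3826
theorem N1806 : nd 1806 = n3827 := ndS (p := 1555) (l := 4) rfl N1555 D3827
theorem N1807 : nd 1807 = n3828 := ndS (p := 1556) (l := 0) rfl N1556 D3828
theorem N1808 : nd 1808 = n3829 := ndS (p := 1556) (l := 3) rfl N1556 D3829
theorem N1809 : nd 1809 = n3830 := ndS (p := 1557) (l := 4) rfl N1557 D3830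
theorem N1810 : nd 1810 = n3831 := ndS (p := 1558) (l := 3) rfl N1558 D3831
theorem N1811 : nd 1811 = n3832 := ndS (p := 1559) (l := 2) rfl N1559 D3832
theorem N1812 : nd 1812 = n3833 := ndS (p := 1559) (l := 4) rfl N1559 D3833
theorem N1813 : nd 1813 = n3835 := ndS (p := 1561) (l := 3) rfl N1561 D3835
theorem N1814 : nd 1814 = n3836 := ndS (p := 1562) (l := 2) rfl N1562 D3836
theorem N1815 : nd 1815 = n3837 := ndS (p := 1562) (l := 4) rfl N1562 D3837
theorem N1816 : nd 1816 = n3839 := ndS (p := 1564) (l := 2) rfl N1564 D3839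
theorem N1817 : nd 1817 = n3840 := ndS (p := 1564) (l := 4) rfl N1564 D3840
theorem N1818 : nd 1818 = n3844 := ndS (p := 1567) (l := 3) rfl N1567 D3844
theorem N1819 : nd 1819 = n3845 := ndS (p := 1568) (l := 2) rfl N1568 D3845
theorem N1820 : nd 1820 = n3846 := ndS (p := 1568) (l := 4) rfl N1568 D3846
theorem N1821 : nd 1821 = n3848 := ndS (p := 1570) (l := 2) rfl N1570 D3848
theorem N1822 : nd 1822 = n3849 := ndS (p := 1570) (l := 4) rfl N1570 D3849
theorem N1823 : nd 1823 = n3851 := ndS (p := 1571) (l := 6) rfl N1571 D3851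
theorem N1824 : nd 1824 = n3869 := ndS (p := 1575) (l := 0) rfl N1575 D3869
theorem N1825 : nd 1825 = n3870 := ndS (p := 1575) (l := 3) rfl N1575 D3870
theorem N1826 : nd 1826 = n3871 := ndS (p := 1576) (l := 4) rfl N1576 D3871
theorem N1827 : nd 1827 = n3872 := ndS (p := 1577) (l := 0) rfl N1577 D3872
theorem N1828 : nd 1828 = n3873 := ndS (p := 1577) (l := 3) rfl N1577 D3873
theorem N1829 : nd 1829 = n3874 := ndS (p := 1578) (l := 4) rfl N1578 D3874
theorem N1830 : nd 1830 = n3875 := ndS (p := 1579) (l := 3) rfl N1579 D3875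
theorem N1831 : nd 1831 = n3876 := ndS (p := 1580) (l := 2) rfl N1580 D3876
theorem N1832 : nd 1832 = n3877 := ndS (p := 1580) (l := 4) rfl N1580 D3877
theorem N1833 : nd 1833 = n3878 := ndS (p := 1581) (l := 5) rfl N1581 D3878
theorem N1834 : nd 1834 = n3879 := ndS (p := 1582) (l := 0) rfl N1582 D3879
theorem N1835 : nd 1835 = n3880 := ndS (p := 1582) (l := 3) rfl N1582 D3880
theorem N1836 : nd 1836 = n3881 := ndS (p := 1583) (l := 4) rfl N1583 D3881
theorem N1837 : nd 1837 = n3882 := ndS (p := 1584) (l := 3) rfl N1584 D3882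
theorem N1838 : nd 1838 = n3883 := ndS (p := 1585) (l := 2) rfl N1585 D3883
theorem N1839 : nd 1839 = n3885 := ndS (p := 1586) (l := 5) rfl N1586 D3885
theorem N1840 : nd 1840 = n3886 := ndS (p := 1587) (l := 3) rfl N1587 D3886
theorem N1841 : nd 1841 = n3887 := ndS (p := 1588) (l := 2) rfl N1588 D3887
theorem N1842 : nd 1842 = n3888 := ndS (p := 1588) (l := 4) rfl N1588 D3888
theorem N1843 : nd 1843 = n3889 := ndS (p := 1589) (l := 5) rfl N1589 D3889
theorem N1844 : nd 1844 = n3890 := ndS (p := 1590) (l := 2) rfl N1590 D3890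
theorem N1845 : nd 1845 = n3891 := ndS (p := 1590) (l := 4) rfl N1590 D3891
theorem N1846 : nd 1846 = n3892 := ndS (p := 1591) (l := 4) rfl N1591 D3892
theorem N1847 : nd 1847 = n3893 := ndS (p := 1591) (l := 6) rfl N1591 D3893
theorem N1848 : nd 1848 = n3894 := ndS (p := 1592) (l := 5) rfl N1592 D3894
theorem N1849 : nd 1849 = n3895 := ndS (p := 1594) (l := 2) rfl N1594 D3895
theorem N1850 : nd 1850 = n3896 := ndS (p := 1594) (l := 4) rfl N1594 D3896
theorem N1851 : nd 1851 = n3897 := ndS (p := 1595) (l := 4) rfl N1595 D3897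
theorem N1852 : nd 1852 = n3898 := ndS (p := 1595) (l := 6) rfl N1595 D3898
theorem N1853 : nd 1853 = n3899 := ndS (p := 1596) (l := 5) rfl N1596 D3899
theorem N1854 : nd 1854 = n3900 := ndS (p := 1598) (l := 1) rfl N1598 D3900
theorem N1855 : nd 1855 = n3901 := ndS (p := 1598) (l := 4) rfl N1598 D3901
theorem N1856 : nd 1856 = n3902 := ndS (p := 1599) (l := 5) rfl N1599 D3902
theorem N1857 : nd 1857 = n3903 := ndS (p := 1600) (l := 3) rfl N1600 D3903
theorem N1858 : nd 1858 = n3904 := ndS (p := 1600) (l := 5) rfl N1600 D3904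
theorem N1859 : nd 1859 = n3910 := ndS (p := 1604) (l := 1) rfl N1604 D3910
theorem N1860 : nd 1860 = n3911 := ndS (p := 1604) (l := 4) rfl N1604 D3911
theorem N1861 : nd 1861 = n3912 := ndS (p := 1604) (l := 6) rfl N1604 D3912
theorem N1862 : nd 1862 = n3915 := ndS (p := 1606) (l := 6) rfl N1606 D3915
theorem N1863 : nd 1863 = n3916 := ndS (p := 1607) (l := 7) rfl N1607 D3916
theorem N1864 : nd 1864 = n3924 := ndS (p := 1610) (l := 7) rfl N1610 D3924
theorem N1865 : nd 1865 = n3932 := ndS (p := 1612) (l := 1) rfl N1612 D3932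
theorem N1866 : nd 1866 = n3933 := ndS (p := 1612) (l := 3) rfl N1612 D3933
theorem N1867 : nd 1867 = n3935 := ndS (p := 1613) (l := 1) rfl N1613 D3935
theorem N1868 : nd 1868 = n3936 := ndS (p := 1613) (l := 3) rfl N1613 D3936
theorem N1869 : nd 1869 = n3937 := ndS (p := 1614) (l := 0) rfl N1614 D3937
theorem N1870 : nd 1870 = n3938 := ndS (p := 1614) (l := 3) rfl N1614 D3938
theorem N1871 : nd 1871 = n3939 := ndS (p := 1615) (l := 4) rfl N1615 D3939
theorem N1872 : nd 1872 = n3941 := ndS (p := 1616) (l := 3) rfl N1616 D3941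
theorem N1873 : nd 1873 = n3943 := ndS (p := 1618) (l := 3) rfl N1618 D3943
theorem N1874 : nd 1874 = n3944 := ndS (p := 1619) (l := 2) rfl N1619 D3944
theorem N1875 : nd 1875 = n3954 := ndS (p := 1621) (l := 0) rfl N1621 D3954
theorem N1876 : nd 1876 = n3955 := ndS (p := 1621) (l := 3) rfl N1621 D3955
theorem N1877 : nd 1877 = n3956 := ndS (p := 1622) (l := 4) rfl N1622 D3956
theorem N1878 : nd 1878 = n3957 := ndS (p := 1623) (l := 3) rfl N1623 D3957
theorem N1879 : nd 1879 = n3958 := ndS (p := 1624) (l := 2) rfl N1624 D3958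
theorem N1880 : nd 1880 = n3959 := ndS (p := 1624) (l := 4) rfl N1624 D3959
theorem N1881 : nd 1881 = n3962 := ndS (p := 1626) (l := 2) rfl N1626 D3962
theorem N1882 : nd 1882 = n4004 := ndS (p := 1629) (l := 0) rfl N1629 D4004
theorem N1883 : nd 1883 = n4005 := ndS (p := 1629) (l := 3) rfl N1629 D4005
theorem N1884 : nd 1884 = n4007 := ndS (p := 1631) (l := 3) rfl N1631 D4007
theorem N1885 : nd 1885 = n4011 := ndS (p := 1633) (l := 2) rfl N1633 D4011
theorem N1886 : nd 1886 = n4012 := ndS (p := 1633) (l := 4) rfl N1633 D4012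
theorem N1887 : nd 1887 = n4013 := ndS (p := 1634) (l := 4) rfl N1634 D4013
theorem N1888 : nd 1888 = n4014 := ndS (p := 1634) (l := 6) rfl N1634 D4014
theorem N1889 : nd 1889 = n4015 := ndS (p := 1635) (l := 5) rfl N1635 D4015
theorem N1890 : nd 1890 = n4025 := ndS (p := 1637) (l := 3) rfl N1637 D4025
theorem N1891 : nd 1891 = n4027 := ndS (p := 1637) (l := 6) rfl N1637 D4027
theorem N1892 : nd 1892 = n4028 := ndS (p := 1638) (l := 7) rfl N1638 D4028
theorem N1893 : nd 1893 = n4047 := ndS (p := 1640) (l := 7) rfl N1640 D4047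
theorem N1894 : nd 1894 = n4235 := ndS (p := 1643) (l := 0) rfl N1643 D4235
theorem N1895 : nd 1895 = n4236 := ndS (p := 1643) (l := 3) rfl N1643 D4236
theorem N1896 : nd 1896 = n4237 := ndS (p := 1644) (l := 4) rfl N1644 D4237
theorem N1897 : nd 1897 = n4243 := ndS (p := 1645) (l := 0) rfl N1645 D4243
theorem N1898 : nd 1898 = n4244 := ndS (p := 1645) (l := 3) rfl N1645 D4244
theorem N1899 : nd 1899 = n4246 := ndS (p := 1647) (l := 3) rfl N1647 D4246
theorem N1900 : nd 1900 = n4247 := ndS (p := 1648) (l := 2) rfl N1648 D4247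
theorem N1901 : nd 1901 = n4254 := ndS (p := 1649) (l := 0) rfl N1649 D4254
theorem N1902 : nd 1902 = n4266 := ndS (p := 1651) (l := 0) rfl N1651 D4266
theorem N1903 : nd 1903 = n4267 := ndS (p := 1651) (l := 3) rfl N1651 D4267
theorem N1904 : nd 1904 = n4268 := ndS (p := 1652) (l := 4) rfl N1652 D4268
theorem N1905 : nd 1905 = n4269 := ndS (p := 1653) (l := 3) rfl N1653 D4269
theorem N1906 : nd 1906 = n4270 := ndS (p := 1654) (l := 2) rfl N1654 D4270
theorem N1907 : nd 1907 = n4271 := ndS (p := 1654) (l := 4) rfl N1654 D4271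
theorem N1908 : nd 1908 = n4273 := ndS (p := 1656) (l := 3) rfl N1656 D4273
theorem N1909 : nd 1909 = n4274 := ndS (p := 1657) (l := 2) rfl N1657 D4274
theorem N1910 : nd 1910 = n4275 := ndS (p := 1657) (l := 4) rfl N1657 D4275
theorem N1911 : nd 1911 = n4277 := ndS (p := 1659) (l := 2) rfl N1659 D4277
theorem N1912 : nd 1912 = n4278 := ndS (p := 1659) (l := 4) rfl N1659 D4278
theorem N1913 : nd 1913 = n4279 := ndS (p := 1660) (l := 4) rfl N1660 D4279
theorem N1914 : nd 1914 = n4280 := ndS (p := 1660) (l := 6) rfl N1660 D4280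
theorem N1915 : nd 1915 = n4283 := ndS (p := 1662) (l := 4) rfl N1662 D4283
theorem N1916 : nd 1916 = n4295 := ndS (p := 1665) (l := 2) rfl N1665 D4295
theorem N1917 : nd 1917 = n4296 := ndS (p := 1665) (l := 4) rfl N1665 D4296
theorem N1918 : nd 1918 = n4298 := ndS (p := 1666) (l := 6) rfl N1666 D4298
theorem N1919 : nd 1919 = n4302 := ndS (p := 1668) (l := 6) rfl N1668 D4302
theorem N1920 : nd 1920 = n4307 := ndS (p := 1670) (l := 7) rfl N1670 D4307
theorem N1921 : nd 1921 = n4321 := ndS (p := 1671) (l := 3) rfl N1671 D4321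
theorem N1922 : nd 1922 = n4322 := ndS (p := 1672) (l := 2) rfl N1672 D4322
theorem N1923 : nd 1923 = n4324 := ndS (p := 1673) (l := 5) rfl N1673 D4324
theorem N1924 : nd 1924 = n4325 := ndS (p := 1674) (l := 2) rfl N1674 D4325
theorem N1925 : nd 1925 = n4330 := ndS (p := 1677) (l := 2) rfl N1677 D4330
theorem N1926 : nd 1926 = n4331 := ndS (p := 1677) (l := 4) rfl N1677 D4331
theorem N1927 : nd 1927 = n4332 := ndS (p := 1678) (l := 4) rfl N1678 D4332
theorem N1928 : nd 1928 = n4333 := ndS (p := 1678) (l := 6) rfl N1678 D4333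
theorem N1929 : nd 1929 = n4334 := ndS (p := 1679) (l := 5) rfl N1679 D4334
theorem N1930 : nd 1930 = n4335 := ndS (p := 1681) (l := 1) rfl N1681 D4335
theorem N1931 : nd 1931 = n4336 := ndS (p := 1681) (l := 4) rfl N1681 D4336
theorem N1932 : nd 1932 = n4337 := ndS (p := 1681) (l := 6) rfl N1681 D4337
theorem N1933 : nd 1933 = n4338 := ndS (p := 1682) (l := 5) rfl N1682 D4338
theorem N1934 : nd 1934 = n4339 := ndS (p := 1683) (l := 3) rfl N1683 D4339
theorem N1935 : nd 1935 = n4340 := ndS (p := 1683) (l := 5) rfl N1683 D4340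
theorem N1936 : nd 1936 = n4341 := ndS (p := 1683) (l := 6) rfl N1683 D4341
theorem N1937 : nd 1937 = n4342 := ndS (p := 1684) (l := 7) rfl N1684 D4342
theorem N1938 : nd 1938 = n4344 := ndS (p := 1686) (l := 4) rfl N1686 D4344
theorem N1939 : nd 1939 = n4345 := ndS (p := 1686) (l := 6) rfl N1686 D4345
theorem N1940 : nd 1940 = n4346 := ndS (p := 1687) (l := 5) rfl N1687 D4346
theorem N1941 : nd 1941 = n4347 := ndS (p := 1688) (l := 3) rfl N1688 D4347
theorem N1942 : nd 1942 = n4348 := ndS (p := 1688) (l := 5) rfl N1688 D4348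
theorem N1943 : nd 1943 = n4349 := ndS (p := 1688) (l := 6) rfl N1688 D4349
theorem N1944 : nd 1944 = n4351 := ndS (p := 1691) (l := 3) rfl N1691 D4351
theorem N1945 : nd 1945 = n4352 := ndS (p := 1691) (l := 5) rfl N1691 D4352
theorem N1946 : nd 1946 = n4353 := ndS (p := 1693) (l := 5) rfl N1693 D4353
theorem N1947 : nd 1947 = n4365 := ndS (p := 1696) (l := 6) rfl N1696 D4365
theorem N1948 : nd 1948 = n4366 := ndS (p := 1697) (l := 7) rfl N1697 D4366
theorem N1949 : nd 1949 = n4368 := ndS (p := 1698) (l := 7) rfl N1698 D4368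
theorem N1950 : nd 1950 = n4781 := ndS (p := 1706) (l := 0) rfl N1706 D4781
theorem N1951 : nd 1951 = n4782 := ndS (p := 1706) (l := 3) rfl N1706 D4782
theorem N1952 : nd 1952 = n4783 := ndS (p := 1707) (l := 4) rfl N1707 D4783
theorem N1953 : nd 1953 = n4789 := ndS (p := 1708) (l := 0) rfl N1708 D4789
theorem N1954 : nd 1954 = n4790 := ndS (p := 1708) (l := 3) rfl N1708 D4790
theorem N1955 : nd 1955 = n4791 := ndS (p := 1709) (l := 4) rfl N1709 D4791
theorem N1956 : nd 1956 = n4792 := ndS (p := 1710) (l := 3) rfl N1710 D4792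
theorem N1957 : nd 1957 = n4793 := ndS (p := 1711) (l := 2) rfl N1711 D4793
theorem N1958 : nd 1958 = n4794 := ndS (p := 1711) (l := 4) rfl N1711 D4794
theorem N1959 : nd 1959 = n4795 := ndS (p := 1712) (l := 5) rfl N1712 D4795
theorem N1960 : nd 1960 = n4810 := ndS (p := 1713) (l := 0) rfl N1713 D4810
theorem N1961 : nd 1961 = n4811 := ndS (p := 1713) (l := 3) rfl N1713 D4811
theorem N1962 : nd 1962 = n4812 := ndS (p := 1714) (l := 4) rfl N1714 D4812
theorem N1963 : nd 1963 = n4815 := ndS (p := 1715) (l := 0) rfl N1715 D4815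
theorem N1964 : nd 1964 = n4816 := ndS (p := 1715) (l := 3) rfl N1715 D4816
theorem N1965 : nd 1965 = n4817 := ndS (p := 1716) (l := 4) rfl N1716 D4817
theorem N1966 : nd 1966 = n4818 := ndS (p := 1717) (l := 0) rfl N1717 D4818
theorem N1967 : nd 1967 = n4819 := ndS (p := 1717) (l := 3) rfl N1717 D4819
theorem N1968 : nd 1968 = n4820 := ndS (p := 1718) (l := 4) rfl N1718 D4820
theorem N1969 : nd 1969 = n4821 := ndS (p := 1719) (l := 3) rfl N1719 D4821
theorem N1970 : nd 1970 = n4822 := ndS (p := 1720) (l := 2) rfl N1720 D4822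
theorem N1971 : nd 1971 = n4823 := ndS (p := 1720) (l := 4) rfl N1720 D4823
theorem N1972 : nd 1972 = n4824 := ndS (p := 1721) (l := 5) rfl N1721 D4824
theorem N1973 : nd 1973 = n4825 := ndS (p := 1722) (l := 3) rfl N1722 D4825
theorem N1974 : nd 1974 = n4826 := ndS (p := 1723) (l := 2) rfl N1723 D4826
theorem N1975 : nd 1975 = n4827 := ndS (p := 1723) (l := 4) rfl N1723 D4827
theorem N1976 : nd 1976 = n4828 := ndS (p := 1724) (l := 5) rfl N1724 D4828
theorem N1977 : nd 1977 = n4829 := ndS (p := 1725) (l := 2) rfl N1725 D4829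
theorem N1978 : nd 1978 = n4830 := ndS (p := 1725) (l := 4) rfl N1725 D4830
theorem N1979 : nd 1979 = n4831 := ndS (p := 1726) (l := 4) rfl N1726 D4831
theorem N1980 : nd 1980 = n4832 := ndS (p := 1726) (l := 6) rfl N1726 D4832
theorem N1981 : nd 1981 = n4833 := ndS (p := 1727) (l := 5) rfl N1727 D4833
theorem N1982 : nd 1982 = n4834 := ndS (p := 1729) (l := 3) rfl N1729 D4834
theorem N1983 : nd 1983 = n4835 := ndS (p := 1730) (l := 2) rfl N1730 D4835
theorem N1984 : nd 1984 = n4836 := ndS (p := 1730) (l := 4) rfl N1730 D4836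
theorem N1985 : nd 1985 = n4837 := ndS (p := 1731) (l := 5) rfl N1731 D4837
theorem N1986 : nd 1986 = n4838 := ndS (p := 1732) (l := 2) rfl N1732 D4838
theorem N1987 : nd 1987 = n4839 := ndS (p := 1732) (l := 4) rfl N1732 D4839
theorem N1988 : nd 1988 = n4840 := ndS (p := 1733) (l := 4) rfl N1733 D4840
theorem N1989 : nd 1989 = n4841 := ndS (p := 1733) (l := 6) rfl N1733 D4841
theorem N1990 : nd 1990 = n4842 := ndS (p := 1734) (l := 5) rfl N1734 D4842
theorem N1991 : nd 1991 = n4843 := ndS (p := 1736) (l := 4) rfl N1736 D4843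
theorem N1992 : nd 1992 = n4844 := ndS (p := 1736) (l := 6) rfl N1736 D4844
theorem N1993 : nd 1993 = n4845 := ndS (p := 1737) (l := 5) rfl N1737 D4845
theorem N1994 : nd 1994 = n4846 := ndS (p := 1738) (l := 3) rfl N1738 D4846
theorem N1995 : nd 1995 = n4847 := ndS (p := 1738) (l := 5) rfl N1738 D4847
theorem N1996 : nd 1996 = n4848 := ndS (p := 1738) (l := 6) rfl N1738 D4848
theorem N1997 : nd 1997 = n4849 := ndS (p := 1739) (l := 7) rfl N1739 D4849
theorem N1998 : nd 1998 = n4870 := ndS (p := 1745) (l := 3) rfl N1745 D4870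
theorem N1999 : nd 1999 = n4871 := ndS (p := 1746) (l := 2) rfl N1746 D4871
theorem N2000 : nd 2000 = n4872 := ndS (p := 1746) (l := 4) rfl N1746 D4872
theorem N2001 : nd 2001 = n4873 := ndS (p := 1747) (l := 5) rfl N1747 D4873
theorem N2002 : nd 2002 = n4877 := ndS (p := 1748) (l := 3) rfl N1748 D4877
theorem N2003 : nd 2003 = n4878 := ndS (p := 1749) (l := 2) rfl N1749 D4878
theorem N2004 : nd 2004 = n4879 := ndS (p := 1749) (l := 4) rfl N1749 D4879
theorem N2005 : nd 2005 = n4880 := ndS (p := 1750) (l := 5) rfl N1750 D4880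
theorem N2006 : nd 2006 = n4881 := ndS (p := 1751) (l := 3) rfl N1751 D4881
theorem N2007 : nd 2007 = n4882 := ndS (p := 1752) (l := 2) rfl N1752 D4882
theorem N2008 : nd 2008 = n4883 := ndS (p := 1752) (l := 4) rfl N1752 D4883
theorem N2009 : nd 2009 = n4884 := ndS (p := 1753) (l := 5) rfl N1753 D4884
theorem N2010 : nd 2010 = n4885 := ndS (p := 1754) (l := 2) rfl N1754 D4885
theorem N2011 : nd 2011 = n4886 := ndS (p := 1754) (l := 4) rfl N1754 D4886
theorem N2012 : nd 2012 = n4887 := ndS (p := 1755) (l := 4) rfl N1755 D4887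
theorem N2013 : nd 2013 = n4888 := ndS (p := 1755) (l := 6) rfl N1755 D4888
theorem N2014 : nd 2014 = n4889 := ndS (p := 1756) (l := 5) rfl N1756 D4889
theorem N2015 : nd 2015 = n4890 := ndS (p := 1758) (l := 2) rfl N1758 D4890
theorem N2016 : nd 2016 = n4891 := ndS (p := 1758) (l := 4) rfl N1758 D4891
theorem N2017 : nd 2017 = n4892 := ndS (p := 1759) (l := 4) rfl N1759 D4892
theorem N2018 : nd 2018 = n4893 := ndS (p := 1759) (l := 6) rfl N1759 D4893
theorem N2019 : nd 2019 = n4894 := ndS (p := 1760) (l := 5) rfl N1760 D4894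
theorem N2020 : nd 2020 = n4895 := ndS (p := 1762) (l := 1) rfl N1762 D4895
theorem N2021 : nd 2021 = n4896 := ndS (p := 1762) (l := 4) rfl N1762 D4896
theorem N2022 : nd 2022 = n4897 := ndS (p := 1763) (l := 5) rfl N1763 D4897
theorem N2023 : nd 2023 = n4898 := ndS (p := 1764) (l := 3) rfl N1764 D4898
theorem N2024 : nd 2024 = n4899 := ndS (p := 1764) (l := 5) rfl N1764 D4899
theorem N2025 : nd 2025 = n4900 := ndS (p := 1766) (l := 2) rfl N1766 D4900
theorem N2026 : nd 2026 = n4901 := ndS (p := 1766) (l := 4) rfl N1766 D4901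
theorem N2027 : nd 2027 = n4902 := ndS (p := 1767) (l := 4) rfl N1767 D4902
theorem N2028 : nd 2028 = n4903 := ndS (p := 1767) (l := 6) rfl N1767 D4903
theorem N2029 : nd 2029 = n4904 := ndS (p := 1768) (l := 5) rfl N1768 D4904
theorem N2030 : nd 2030 = n4905 := ndS (p := 1770) (l := 1) rfl N1770 D4905
theorem N2031 : nd 2031 = n4906 := ndS (p := 1770) (l := 4) rfl N1770 D4906
theorem N2032 : nd 2032 = n4907 := ndS (p := 1770) (l := 6) rfl N1770 D4907
theorem N2033 : nd 2033 = n4908 := ndS (p := 1771) (l := 5) rfl N1771 D4908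
theorem N2034 : nd 2034 = n4909 := ndS (p := 1772) (l := 5) rfl N1772 D4909
theorem N2035 : nd 2035 = n4910 := ndS (p := 1772) (l := 6) rfl N1772 D4910
theorem N2036 : nd 2036 = n4911 := ndS (p := 1773) (l := 7) rfl N1773 D4911
theorem N2037 : nd 2037 = n4912 := ndS (p := 1776) (l := 1) rfl N1776 D4912
theorem N2038 : nd 2038 = n4913 := ndS (p := 1776) (l := 4) rfl N1776 D4913
theorem N2039 : nd 2039 = n4914 := ndS (p := 1776) (l := 6) rfl N1776 D4914
theorem N2040 : nd 2040 = n4915 := ndS (p := 1778) (l := 3) rfl N1778 D4915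
theorem N2041 : nd 2041 = n4917 := ndS (p := 1779) (l := 7) rfl N1779 D4917
theorem N2042 : nd 2042 = n4918 := ndS (p := 1780) (l := 6) rfl N1780 D4918
theorem N2043 : nd 2043 = n4919 := ndS (p := 1781) (l := 7) rfl N1781 D4919
theorem N2044 : nd 2044 = n4951 := ndS (p := 1783) (l := 0) rfl N1783 D4951
theorem N2045 : nd 2045 = n4952 := ndS (p := 1783) (l := 3) rfl N1783 D4952
theorem N2046 : nd 2046 = n4953 := ndS (p := 1784) (l := 4) rfl N1784 D4953
theorem N2047 : nd 2047 = n4960 := ndS (p := 1785) (l := 0) rfl N1785 D4960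
theorem N2048 : nd 2048 = n4961 := ndS (p := 1785) (l := 3) rfl N1785 D4961
theorem N2049 : nd 2049 = n4962 := ndS (p := 1786) (l := 4) rfl N1786 D4962
theorem N2050 : nd 2050 = n4968 := ndS (p := 1787) (l := 0) rfl N1787 D4968
theorem N2051 : nd 2051 = n4969 := ndS (p := 1787) (l := 3) rfl N1787 D4969
theorem N2052 : nd 2052 = n4970 := ndS (p := 1788) (l := 4) rfl N1788 D4970
theorem N2053 : nd 2053 = n4971 := ndS (p := 1789) (l := 3) rfl N1789 D4971
theorem N2054 : nd 2054 = n4972 := ndS (p := 1790) (l := 2) rfl N1790 D4972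
theorem N2055 : nd 2055 = n4973 := ndS (p := 1790) (l := 4) rfl N1790 D4973
theorem N2056 : nd 2056 = n4974 := ndS (p := 1791) (l := 5) rfl N1791 D4974
theorem N2057 : nd 2057 = n4979 := ndS (p := 1792) (l := 0) rfl N1792 D4979
theorem N2058 : nd 2058 = n4980 := ndS (p := 1792) (l := 3) rfl N1792 D4980
theorem N2059 : nd 2059 = n4981 := ndS (p := 1793) (l := 4) rfl N1793 D4981
theorem N2060 : nd 2060 = n4982 := ndS (p := 1794) (l := 3) rfl N1794 D4982
theorem N2061 : nd 2061 = n4983 := ndS (p := 1795) (l := 2) rfl N1795 D4983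
theorem N2062 : nd 2062 = n4984 := ndS (p := 1795) (l := 4) rfl N1795 D4984
theorem N2063 : nd 2063 = n4985 := ndS (p := 1796) (l := 5) rfl N1796 D4985
theorem N2064 : nd 2064 = n4986 := ndS (p := 1797) (l := 2) rfl N1797 D4986
theorem N2065 : nd 2065 = n4987 := ndS (p := 1797) (l := 4) rfl N1797 D4987
theorem N2066 : nd 2066 = n4988 := ndS (p := 1798) (l := 4) rfl N1798 D4988
theorem N2067 : nd 2067 = n4990 := ndS (p := 1799) (l := 5) rfl N1799 D4990
theorem N2068 : nd 2068 = n5002 := ndS (p := 1801) (l := 3) rfl N1801 D5002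
theorem N2069 : nd 2069 = n5003 := ndS (p := 1802) (l := 2) rfl N1802 D5003
theorem N2070 : nd 2070 = n5004 := ndS (p := 1802) (l := 4) rfl N1802 D5004
theorem N2071 : nd 2071 = n5009 := ndS (p := 1804) (l := 3) rfl N1804 D5009
theorem N2072 : nd 2072 = n5010 := ndS (p := 1805) (l := 2) rfl N1805 D5010
theorem N2073 : nd 2073 = n5011 := ndS (p := 1805) (l := 4) rfl N1805 D5011
theorem N2074 : nd 2074 = n5013 := ndS (p := 1807) (l := 3) rfl N1807 D5013
theorem N2075 : nd 2075 = n5014 := ndS (p := 1808) (l := 2) rfl N1808 D5014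
theorem N2076 : nd 2076 = n5015 := ndS (p := 1808) (l := 4) rfl N1808 D5015
theorem N2077 : nd 2077 = n5017 := ndS (p := 1810) (l := 2) rfl N1810 D5017
theorem N2078 : nd 2078 = n5018 := ndS (p := 1810) (l := 4) rfl N1810 D5018
theorem N2079 : nd 2079 = n5019 := ndS (p := 1811) (l := 4) rfl N1811 D5019
theorem N2080 : nd 2080 = n5020 := ndS (p := 1811) (l := 6) rfl N1811 D5020
theorem N2081 : nd 2081 = n5022 := ndS (p := 1813) (l := 2) rfl N1813 D5022
theorem N2082 : nd 2082 = n5023 := ndS (p := 1813) (l := 4) rfl N1813 D5023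
theorem N2083 : nd 2083 = n5027 := ndS (p := 1816) (l := 1) rfl N1816 D5027
theorem N2084 : nd 2084 = n5035 := ndS (p := 1818) (l := 2) rfl N1818 D5035
theorem N2085 : nd 2085 = n5036 := ndS (p := 1818) (l := 4) rfl N1818 D5036
theorem N2086 : nd 2086 = n5038 := ndS (p := 1819) (l := 6) rfl N1819 D5038
theorem N2087 : nd 2087 = n5042 := ndS (p := 1821) (l := 6) rfl N1821 D5042
theorem N2088 : nd 2088 = n5047 := ndS (p := 1823) (l := 7) rfl N1823 D5047
theorem N2089 : nd 2089 = n5069 := ndS (p := 1824) (l := 3) rfl N1824 D5069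
theorem N2090 : nd 2090 = n5070 := ndS (p := 1825) (l := 2) rfl N1825 D5070
theorem N2091 : nd 2091 = n5071 := ndS (p := 1825) (l := 4) rfl N1825 D5071
theorem N2092 : nd 2092 = n5072 := ndS (p := 1826) (l := 5) rfl N1826 D5072
theorem N2093 : nd 2093 = n5073 := ndS (p := 1827) (l := 3) rfl N1827 D5073
theorem N2094 : nd 2094 = n5074 := ndS (p := 1828) (l := 2) rfl N1828 D5074
theorem N2095 : nd 2095 = n5075 := ndS (p := 1828) (l := 4) rfl N1828 D5075
theorem N2096 : nd 2096 = n5076 := ndS (p := 1829) (l := 5) rfl N1829 D5076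
theorem N2097 : nd 2097 = n5077 := ndS (p := 1830) (l := 2) rfl N1830 D5077
theorem N2098 : nd 2098 = n5078 := ndS (p := 1830) (l := 4) rfl N1830 D5078
theorem N2099 : nd 2099 = n5079 := ndS (p := 1831) (l := 4) rfl N1831 D5079
theorem N2100 : nd 2100 = n5080 := ndS (p := 1831) (l := 6) rfl N1831 D5080
theorem N2101 : nd 2101 = n5081 := ndS (p := 1832) (l := 5) rfl N1832 D5081
theorem N2102 : nd 2102 = n5082 := ndS (p := 1834) (l := 3) rfl N1834 D5082
theorem N2103 : nd 2103 = n5083 := ndS (p := 1835) (l := 2) rfl N1835 D5083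
theorem N2104 : nd 2104 = n5085 := ndS (p := 1836) (l := 5) rfl N1836 D5085
theorem N2105 : nd 2105 = n5086 := ndS (p := 1837) (l := 2) rfl N1837 D5086
theorem N2106 : nd 2106 = n5091 := ndS (p := 1840) (l := 2) rfl N1840 D5091
theorem N2107 : nd 2107 = n5092 := ndS (p := 1840) (l := 4) rfl N1840 D5092
theorem N2108 : nd 2108 = n5093 := ndS (p := 1841) (l := 4) rfl N1841 D5093
theorem N2109 : nd 2109 = n5094 := ndS (p := 1841) (l := 6) rfl N1841 D5094
theorem N2110 : nd 2110 = n5095 := ndS (p := 1842) (l := 5) rfl N1842 D5095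
theorem N2111 : nd 2111 = n5096 := ndS (p := 1844) (l := 1) rfl N1844 D5096
theorem N2112 : nd 2112 = n5097 := ndS (p := 1844) (l := 4) rfl N1844 D5097
theorem N2113 : nd 2113 = n5098 := ndS (p := 1844) (l := 6) rfl N1844 D5098
theorem N2114 : nd 2114 = n5099 := ndS (p := 1845) (l := 5) rfl N1845 D5099
theorem N2115 : nd 2115 = n5100 := ndS (p := 1846) (l := 3) rfl N1846 D5100
theorem N2116 : nd 2116 = n5101 := ndS (p := 1846) (l := 5) rfl N1846 D5101
theorem N2117 : nd 2117 = n5102 := ndS (p := 1846) (l := 6) rfl N1846 D5102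
theorem N2118 : nd 2118 = n5103 := ndS (p := 1847) (l := 7) rfl N1847 D5103
theorem N2119 : nd 2119 = n5104 := ndS (p := 1849) (l := 1) rfl N1849 D5104
theorem N2120 : nd 2120 = n5105 := ndS (p := 1849) (l := 4) rfl N1849 D5105
theorem N2121 : nd 2121 = n5106 := ndS (p := 1849) (l := 6) rfl N1849 D5106
theorem N2122 : nd 2122 = n5107 := ndS (p := 1850) (l := 5) rfl N1850 D5107
theorem N2123 : nd 2123 = n5108 := ndS (p := 1851) (l := 3) rfl N1851 D5108
theorem N2124 : nd 2124 = n5109 := ndS (p := 1851) (l := 5) rfl N1851 D5109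
theorem N2125 : nd 2125 = n5110 := ndS (p := 1851) (l := 6) rfl N1851 D5110
theorem N2126 : nd 2126 = n5111 := ndS (p := 1854) (l := 4) rfl N1854 D5111
theorem N2127 : nd 2127 = n5112 := ndS (p := 1855) (l := 3) rfl N1855 D5112
theorem N2128 : nd 2128 = n5113 := ndS (p := 1855) (l := 5) rfl N1855 D5113
theorem N2129 : nd 2129 = n5114 := ndS (p := 1857) (l := 5) rfl N1857 D5114
theorem N2130 : nd 2130 = n5126 := ndS (p := 1860) (l := 6) rfl N1860 D5126
theorem N2131 : nd 2131 = n5127 := ndS (p := 1861) (l := 7) rfl N1861 D5127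
theorem N2132 : nd 2132 = n5129 := ndS (p := 1862) (l := 7) rfl N1862 D5129
theorem N2133 : nd 2133 = n5149 := ndS (p := 1865) (l := 0) rfl N1865 D5149
theorem N2134 : nd 2134 = n5150 := ndS (p := 1865) (l := 3) rfl N1865 D5150
theorem N2135 : nd 2135 = n5151 := ndS (p := 1866) (l := 4) rfl N1866 D5151
theorem N2136 : nd 2136 = n5154 := ndS (p := 1867) (l := 0) rfl N1867 D5154
theorem N2137 : nd 2137 = n5155 := ndS (p := 1867) (l := 3) rfl N1867 D5155
theorem N2138 : nd 2138 = n5157 := ndS (p := 1869) (l := 3) rfl N1869 D5157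
theorem N2139 : nd 2139 = n5158 := ndS (p := 1870) (l := 2) rfl N1870 D5158
theorem N2140 : nd 2140 = n5159 := ndS (p := 1870) (l := 4) rfl N1870 D5159
theorem N2141 : nd 2141 = n5162 := ndS (p := 1872) (l := 2) rfl N1872 D5162
theorem N2142 : nd 2142 = n5181 := ndS (p := 1875) (l := 3) rfl N1875 D5181
theorem N2143 : nd 2143 = n5182 := ndS (p := 1876) (l := 2) rfl N1876 D5182
theorem N2144 : nd 2144 = n5183 := ndS (p := 1876) (l := 4) rfl N1876 D5183
theorem N2145 : nd 2145 = n5185 := ndS (p := 1878) (l := 2) rfl N1878 D5185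
theorem N2146 : nd 2146 = n5186 := ndS (p := 1878) (l := 4) rfl N1878 D5186
theorem N2147 : nd 2147 = n5245 := ndS (p := 1882) (l := 3) rfl N1882 D5245
theorem N2148 : nd 2148 = n5254 := ndS (p := 1885) (l := 1) rfl N1885 D5254
theorem N2149 : nd 2149 = n5255 := ndS (p := 1885) (l := 4) rfl N1885 D5255
theorem N2150 : nd 2150 = n5256 := ndS (p := 1885) (l := 6) rfl N1885 D5256
theorem N2151 : nd 2151 = n5258 := ndS (p := 1887) (l := 3) rfl N1887 D5258
theorem N2152 : nd 2152 = n5260 := ndS (p := 1887) (l := 6) rfl N1887 D5260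
theorem N2153 : nd 2153 = n5261 := ndS (p := 1888) (l := 7) rfl N1888 D5261
theorem N2154 : nd 2154 = n5543 := ndS (p := 1894) (l := 3) rfl N1894 D5543
theorem N2155 : nd 2155 = n5544 := ndS (p := 1895) (l := 2) rfl N1895 D5544
theorem N2156 : nd 2156 = n5545 := ndS (p := 1895) (l := 4) rfl N1895 D5545
theorem N2157 : nd 2157 = n5554 := ndS (p := 1897) (l := 3) rfl N1897 D5554
theorem N2158 : nd 2158 = n5555 := ndS (p := 1898) (l := 2) rfl N1898 D5555
theorem N2159 : nd 2159 = n5558 := ndS (p := 1899) (l := 2) rfl N1899 D5558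
theorem N2160 : nd 2160 = n5561 := ndS (p := 1900) (l := 6) rfl N1900 D5561
theorem N2161 : nd 2161 = n5586 := ndS (p := 1902) (l := 3) rfl N1902 D5586
theorem N2162 : nd 2162 = n5587 := ndS (p := 1903) (l := 2) rfl N1903 D5587
theorem N2163 : nd 2163 = n5588 := ndS (p := 1903) (l := 4) rfl N1903 D5588
theorem N2164 : nd 2164 = n5590 := ndS (p := 1905) (l := 2) rfl N1905 D5590
theorem N2165 : nd 2165 = n5591 := ndS (p := 1905) (l := 4) rfl N1905 D5591
theorem N2166 : nd 2166 = n5592 := ndS (p := 1906) (l := 4) rfl N1906 D5592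
theorem N2167 : nd 2167 = n5593 := ndS (p := 1906) (l := 6) rfl N1906 D5593
theorem N2168 : nd 2168 = n5595 := ndS (p := 1908) (l := 2) rfl N1908 D5595
theorem N2169 : nd 2169 = n5596 := ndS (p := 1908) (l := 4) rfl N1908 D5596
theorem N2170 : nd 2170 = n5597 := ndS (p := 1909) (l := 4) rfl N1909 D5597
theorem N2171 : nd 2171 = n5598 := ndS (p := 1909) (l := 6) rfl N1909 D5598
theorem N2172 : nd 2172 = n5600 := ndS (p := 1911) (l := 1) rfl N1911 D5600
theorem N2173 : nd 2173 = n5601 := ndS (p := 1911) (l := 4) rfl N1911 D5601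
theorem N2174 : nd 2174 = n5602 := ndS (p := 1911) (l := 6) rfl N1911 D5602
theorem N2175 : nd 2175 = n5607 := ndS (p := 1914) (l := 7) rfl N1914 D5607
theorem N2176 : nd 2176 = n5628 := ndS (p := 1916) (l := 6) rfl N1916 D5628
theorem N2177 : nd 2177 = n5633 := ndS (p := 1918) (l := 7) rfl N1918 D5633
theorem N2178 : nd 2178 = n5639 := ndS (p := 1919) (l := 7) rfl N1919 D5639
theorem N2179 : nd 2179 = n5658 := ndS (p := 1921) (l := 2) rfl N1921 D5658
theorem N2180 : nd 2180 = n5661 := ndS (p := 1922) (l := 6) rfl N1922 D5661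
theorem N2181 : nd 2181 = n5663 := ndS (p := 1924) (l := 1) rfl N1924 D5663
theorem N2182 : nd 2182 = n5671 := ndS (p := 1925) (l := 1) rfl N1925 D5671
theorem N2183 : nd 2183 = n5672 := ndS (p := 1925) (l := 4) rfl N1925 D5672
theorem N2184 : nd 2184 = n5673 := ndS (p := 1925) (l := 6) rfl N1925 D5673
theorem N2185 : nd 2185 = n5674 := ndS (p := 1926) (l := 5) rfl N1926 D5674
theorem N2186 : nd 2186 = n5675 := ndS (p := 1927) (l := 3) rfl N1927 D5675
theorem N2187 : nd 2187 = n5676 := ndS (p := 1927) (l := 5) rfl N1927 D5676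
theorem N2188 : nd 2188 = n5677 := ndS (p := 1927) (l := 6) rfl N1927 D5677
theorem N2189 : nd 2189 = n5678 := ndS (p := 1928) (l := 7) rfl N1928 D5678
theorem N2190 : nd 2190 = n5679 := ndS (p := 1930) (l := 4) rfl N1930 D5679
theorem N2191 : nd 2191 = n5680 := ndS (p := 1930) (l := 6) rfl N1930 D5680
theorem N2192 : nd 2192 = n5681 := ndS (p := 1931) (l := 3) rfl N1931 D5681
theorem N2193 : nd 2193 = n5682 := ndS (p := 1931) (l := 5) rfl N1931 D5682
theorem N2194 : nd 2194 = n5683 := ndS (p := 1931) (l := 6) rfl N1931 D5683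
theorem N2195 : nd 2195 = n5684 := ndS (p := 1932) (l := 7) rfl N1932 D5684
theorem N2196 : nd 2196 = n5685 := ndS (p := 1934) (l := 5) rfl N1934 D5685
theorem N2197 : nd 2197 = n5686 := ndS (p := 1934) (l := 6) rfl N1934 D5686
theorem N2198 : nd 2198 = n5688 := ndS (p := 1936) (l := 7) rfl N1936 D5688
theorem N2199 : nd 2199 = n5691 := ndS (p := 1938) (l := 3) rfl N1938 D5691
theorem N2200 : nd 2200 = n5692 := ndS (p := 1938) (l := 5) rfl N1938 D5692
theorem N2201 : nd 2201 = n5693 := ndS (p := 1938) (l := 6) rfl N1938 D5693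
theorem N2202 : nd 2202 = n5699 := ndS (p := 1944) (l := 5) rfl N1944 D5699
theorem N2203 : nd 2203 = n5716 := ndS (p := 1947) (l := 7) rfl N1947 D5716
theorem N2204 : nd 2204 = n6237 := ndS (p := 1950) (l := 3) rfl N1950 D6237
theorem N2205 : nd 2205 = n6238 := ndS (p := 1951) (l := 2) rfl N1951 D6238
theorem N2206 : nd 2206 = n6239 := ndS (p := 1951) (l := 4) rfl N1951 D6239
theorem N2207 : nd 2207 = n6240 := ndS (p := 1952) (l := 5) rfl N1952 D6240
theorem N2208 : nd 2208 = n6248 := ndS (p := 1953) (l := 3) rfl N1953 D6248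
theorem N2209 : nd 2209 = n6249 := ndS (p := 1954) (l := 2) rfl N1954 D6249
theorem N2210 : nd 2210 = n6250 := ndS (p := 1954) (l := 4) rfl N1954 D6250
theorem N2211 : nd 2211 = n6251 := ndS (p := 1955) (l := 5) rfl N1955 D6251
theorem N2212 : nd 2212 = n6252 := ndS (p := 1956) (l := 2) rfl N1956 D6252
theorem N2213 : nd 2213 = n6253 := ndS (p := 1956) (l := 4) rfl N1956 D6253
theorem N2214 : nd 2214 = n6254 := ndS (p := 1957) (l := 4) rfl N1957 D6254
theorem N2215 : nd 2215 = n6255 := ndS (p := 1957) (l := 6) rfl N1957 D6255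
theorem N2216 : nd 2216 = n6256 := ndS (p := 1958) (l := 5) rfl N1958 D6256
theorem N2217 : nd 2217 = n6277 := ndS (p := 1960) (l := 3) rfl N1960 D6277
theorem N2218 : nd 2218 = n6278 := ndS (p := 1961) (l := 2) rfl N1961 D6278
theorem N2219 : nd 2219 = n6279 := ndS (p := 1961) (l := 4) rfl N1961 D6279
theorem N2220 : nd 2220 = n6280 := ndS (p := 1962) (l := 5) rfl N1962 D6280
theorem N2221 : nd 2221 = n6284 := ndS (p := 1963) (l := 3) rfl N1963 D6284
theorem N2222 : nd 2222 = n6285 := ndS (p := 1964) (l := 2) rfl N1964 D6285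
theorem N2223 : nd 2223 = n6286 := ndS (p := 1964) (l := 4) rfl N1964 D6286
theorem N2224 : nd 2224 = n6287 := ndS (p := 1965) (l := 5) rfl N1965 D6287
theorem N2225 : nd 2225 = n6288 := ndS (p := 1966) (l := 3) rfl N1966 D6288
theorem N2226 : nd 2226 = n6289 := ndS (p := 1967) (l := 2) rfl N1967 D6289
theorem N2227 : nd 2227 = n6290 := ndS (p := 1967) (l := 4) rfl N1967 D6290
theorem N2228 : nd 2228 = n6291 := ndS (p := 1968) (l := 5) rfl N1968 D6291
theorem N2229 : nd 2229 = n6292 := ndS (p := 1969) (l := 2) rfl N1969 D6292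
theorem N2230 : nd 2230 = n6293 := ndS (p := 1969) (l := 4) rfl N1969 D6293
theorem N2231 : nd 2231 = n6294 := ndS (p := 1970) (l := 4) rfl N1970 D6294
theorem N2232 : nd 2232 = n6295 := ndS (p := 1970) (l := 6) rfl N1970 D6295
theorem N2233 : nd 2233 = n6296 := ndS (p := 1971) (l := 5) rfl N1971 D6296
theorem N2234 : nd 2234 = n6297 := ndS (p := 1973) (l := 2) rfl N1973 D6297
theorem N2235 : nd 2235 = n6298 := ndS (p := 1973) (l := 4) rfl N1973 D6298
theorem N2236 : nd 2236 = n6299 := ndS (p := 1974) (l := 4) rfl N1974 D6299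
theorem N2237 : nd 2237 = n6300 := ndS (p := 1974) (l := 6) rfl N1974 D6300
theorem N2238 : nd 2238 = n6301 := ndS (p := 1975) (l := 5) rfl N1975 D6301
theorem N2239 : nd 2239 = n6302 := ndS (p := 1977) (l := 1) rfl N1977 D6302
theorem N2240 : nd 2240 = n6303 := ndS (p := 1977) (l := 4) rfl N1977 D6303
theorem N2241 : nd 2241 = n6304 := ndS (p := 1977) (l := 6) rfl N1977 D6304
theorem N2242 : nd 2242 = n6305 := ndS (p := 1978) (l := 5) rfl N1978 D6305
theorem N2243 : nd 2243 = n6306 := ndS (p := 1979) (l := 3) rfl N1979 D6306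
theorem N2244 : nd 2244 = n6307 := ndS (p := 1979) (l := 5) rfl N1979 D6307
theorem N2245 : nd 2245 = n6308 := ndS (p := 1979) (l := 6) rfl N1979 D6308
theorem N2246 : nd 2246 = n6309 := ndS (p := 1980) (l := 7) rfl N1980 D6309
theorem N2247 : nd 2247 = n6310 := ndS (p := 1982) (l := 2) rfl N1982 D6310
theorem N2248 : nd 2248 = n6311 := ndS (p := 1982) (l := 4) rfl N1982 D6311
theorem N2249 : nd 2249 = n6312 := ndS (p := 1983) (l := 4) rfl N1983 D6312
theorem N2250 : nd 2250 = n6313 := ndS (p := 1983) (l := 6) rfl N1983 D6313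
theorem N2251 : nd 2251 = n6314 := ndS (p := 1984) (l := 5) rfl N1984 D6314
theorem N2252 : nd 2252 = n6315 := ndS (p := 1986) (l := 1) rfl N1986 D6315
theorem N2253 : nd 2253 = n6316 := ndS (p := 1986) (l := 4) rfl N1986 D6316
theorem N2254 : nd 2254 = n6317 := ndS (p := 1986) (l := 6) rfl N1986 D6317
theorem N2255 : nd 2255 = n6318 := ndS (p := 1987) (l := 5) rfl N1987 D6318
theorem N2256 : nd 2256 = n6319 := ndS (p := 1988) (l := 3) rfl N1988 D6319
theorem N2257 : nd 2257 = n6320 := ndS (p := 1988) (l := 5) rfl N1988 D6320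
theorem N2258 : nd 2258 = n6321 := ndS (p := 1988) (l := 6) rfl N1988 D6321
theorem N2259 : nd 2259 = n6322 := ndS (p := 1989) (l := 7) rfl N1989 D6322
theorem N2260 : nd 2260 = n6323 := ndS (p := 1991) (l := 3) rfl N1991 D6323
theorem N2261 : nd 2261 = n6324 := ndS (p := 1991) (l := 5) rfl N1991 D6324
theorem N2262 : nd 2262 = n6325 := ndS (p := 1991) (l := 6) rfl N1991 D6325
theorem N2263 : nd 2263 = n6326 := ndS (p := 1992) (l := 7) rfl N1992 D6326
theorem N2264 : nd 2264 = n6359 := ndS (p := 1998) (l := 2) rfl N1998 D6359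
theorem N2265 : nd 2265 = n6360 := ndS (p := 1998) (l := 4) rfl N1998 D6360
theorem N2266 : nd 2266 = n6361 := ndS (p := 1999) (l := 4) rfl N1999 D6361
theorem N2267 : nd 2267 = n6362 := ndS (p := 1999) (l := 6) rfl N1999 D6362
theorem N2268 : nd 2268 = n6363 := ndS (p := 2000) (l := 5) rfl N2000 D6363
theorem N2269 : nd 2269 = n6368 := ndS (p := 2002) (l := 2) rfl N2002 D6368
theorem N2270 : nd 2270 = n6369 := ndS (p := 2002) (l := 4) rfl N2002 D6369
theorem N2271 : nd 2271 = n6370 := ndS (p := 2003) (l := 4) rfl N2003 D6370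
theorem N2272 : nd 2272 = n6371 := ndS (p := 2003) (l := 6) rfl N2003 D6371
theorem N2273 : nd 2273 = n6372 := ndS (p := 2004) (l := 5) rfl N2004 D6372
theorem N2274 : nd 2274 = n6373 := ndS (p := 2006) (l := 2) rfl N2006 D6373
theorem N2275 : nd 2275 = n6374 := ndS (p := 2006) (l := 4) rfl N2006 D6374
theorem N2276 : nd 2276 = n6375 := ndS (p := 2007) (l := 4) rfl N2007 D6375
theorem N2277 : nd 2277 = n6376 := ndS (p := 2007) (l := 6) rfl N2007 D6376
theorem N2278 : nd 2278 = n6377 := ndS (p := 2008) (l := 5) rfl N2008 D6377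
theorem N2279 : nd 2279 = n6378 := ndS (p := 2010) (l := 1) rfl N2010 D6378
theorem N2280 : nd 2280 = n6379 := ndS (p := 2010) (l := 4) rfl N2010 D6379
theorem N2281 : nd 2281 = n6380 := ndS (p := 2010) (l := 6) rfl N2010 D6380
theorem N2282 : nd 2282 = n6381 := ndS (p := 2011) (l := 5) rfl N2011 D6381
theorem N2283 : nd 2283 = n6382 := ndS (p := 2012) (l := 3) rfl N2012 D6382
theorem N2284 : nd 2284 = n6383 := ndS (p := 2012) (l := 5) rfl N2012 D6383
theorem N2285 : nd 2285 = n6384 := ndS (p := 2012) (l := 6) rfl N2012 D6384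
theorem N2286 : nd 2286 = n6385 := ndS (p := 2013) (l := 7) rfl N2013 D6385
theorem N2287 : nd 2287 = n6386 := ndS (p := 2015) (l := 1) rfl N2015 D6386
theorem N2288 : nd 2288 = n6387 := ndS (p := 2015) (l := 4) rfl N2015 D6387
theorem N2289 : nd 2289 = n6388 := ndS (p := 2015) (l := 6) rfl N2015 D6388
theorem N2290 : nd 2290 = n6389 := ndS (p := 2016) (l := 5) rfl N2016 D6389
theorem N2291 : nd 2291 = n6390 := ndS (p := 2017) (l := 3) rfl N2017 D6390
theorem N2292 : nd 2292 = n6391 := ndS (p := 2017) (l := 5) rfl N2017 D6391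
theorem N2293 : nd 2293 = n6392 := ndS (p := 2017) (l := 6) rfl N2017 D6392
theorem N2294 : nd 2294 = n6393 := ndS (p := 2020) (l := 4) rfl N2020 D6393
theorem N2295 : nd 2295 = n6394 := ndS (p := 2021) (l := 3) rfl N2021 D6394
theorem N2296 : nd 2296 = n6395 := ndS (p := 2021) (l := 5) rfl N2021 D6395
theorem N2297 : nd 2297 = n6396 := ndS (p := 2023) (l := 5) rfl N2023 D6396
theorem N2298 : nd 2298 = n6397 := ndS (p := 2025) (l := 1) rfl N2025 D6397
theorem N2299 : nd 2299 = n6398 := ndS (p := 2025) (l := 4) rfl N2025 D6398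
theorem N2300 : nd 2300 = n6399 := ndS (p := 2025) (l := 6) rfl N2025 D6399
theorem N2301 : nd 2301 = n6400 := ndS (p := 2026) (l := 5) rfl N2026 D6400
theorem N2302 : nd 2302 = n6401 := ndS (p := 2027) (l := 3) rfl N2027 D6401
theorem N2303 : nd 2303 = n6402 := ndS (p := 2027) (l := 5) rfl N2027 D6402
theorem N2304 : nd 2304 = n6403 := ndS (p := 2027) (l := 6) rfl N2027 D6403
theorem N2305 : nd 2305 = n6404 := ndS (p := 2028) (l := 7) rfl N2028 D6404
theorem N2306 : nd 2306 = n6405 := ndS (p := 2030) (l := 4) rfl N2030 D6405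
theorem N2307 : nd 2307 = n6406 := ndS (p := 2030) (l := 6) rfl N2030 D6406
theorem N2308 : nd 2308 = n6407 := ndS (p := 2031) (l := 5) rfl N2031 D6407
theorem N2309 : nd 2309 = n6408 := ndS (p := 2031) (l := 6) rfl N2031 D6408
theorem N2310 : nd 2310 = n6409 := ndS (p := 2032) (l := 7) rfl N2032 D6409
theorem N2311 : nd 2311 = n6410 := ndS (p := 2034) (l := 6) rfl N2034 D6410
theorem N2312 : nd 2312 = n6411 := ndS (p := 2035) (l := 7) rfl N2035 D6411
theorem N2313 : nd 2313 = n6412 := ndS (p := 2037) (l := 4) rfl N2037 D6412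
theorem N2314 : nd 2314 = n6413 := ndS (p := 2037) (l := 6) rfl N2037 D6413
theorem N2315 : nd 2315 = n6414 := ndS (p := 2038) (l := 3) rfl N2038 D6414
theorem N2316 : nd 2316 = n6416 := ndS (p := 2039) (l := 7) rfl N2039 D6416
theorem N2317 : nd 2317 = n6419 := ndS (p := 2042) (l := 2) rfl N2042 D6419
theorem N2318 : nd 2318 = n6420 := ndS (p := 2042) (l := 7) rfl N2042 D6420
theorem N2319 : nd 2319 = n6466 := ndS (p := 2044) (l := 3) rfl N2044 D6466
theorem N2320 : nd 2320 = n6467 := ndS (p := 2045) (l := 2) rfl N2045 D6467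
theorem N2321 : nd 2321 = n6468 := ndS (p := 2045) (l := 4) rfl N2045 D6468
theorem N2322 : nd 2322 = n6478 := ndS (p := 2047) (l := 3) rfl N2047 D6478
theorem N2323 : nd 2323 = n6479 := ndS (p := 2048) (l := 2) rfl N2048 D6479
theorem N2324 : nd 2324 = n6480 := ndS (p := 2048) (l := 4) rfl N2048 D6480
theorem N2325 : nd 2325 = n6489 := ndS (p := 2050) (l := 3) rfl N2050 D6489
theorem N2326 : nd 2326 = n6490 := ndS (p := 2051) (l := 2) rfl N2051 D6490
theorem N2327 : nd 2327 = n6491 := ndS (p := 2051) (l := 4) rfl N2051 D6491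
theorem N2328 : nd 2328 = n6493 := ndS (p := 2053) (l := 2) rfl N2053 D6493
theorem N2329 : nd 2329 = n6494 := ndS (p := 2053) (l := 4) rfl N2053 D6494
theorem N2330 : nd 2330 = n6495 := ndS (p := 2054) (l := 4) rfl N2054 D6495
theorem N2331 : nd 2331 = n6496 := ndS (p := 2054) (l := 6) rfl N2054 D6496
theorem N2332 : nd 2332 = n6497 := ndS (p := 2055) (l := 5) rfl N2055 D6497
theorem N2333 : nd 2333 = n6504 := ndS (p := 2057) (l := 3) rfl N2057 D6504
theorem N2334 : nd 2334 = n6506 := ndS (p := 2058) (l := 4) rfl N2058 D6506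
theorem N2335 : nd 2335 = n6508 := ndS (p := 2060) (l := 2) rfl N2060 D6508
theorem N2336 : nd 2336 = n6509 := ndS (p := 2060) (l := 4) rfl N2060 D6509
theorem N2337 : nd 2337 = n6510 := ndS (p := 2061) (l := 4) rfl N2061 D6510
theorem N2338 : nd 2338 = n6512 := ndS (p := 2062) (l := 5) rfl N2062 D6512
theorem N2339 : nd 2339 = n6513 := ndS (p := 2064) (l := 1) rfl N2064 D6513
theorem N2340 : nd 2340 = n6514 := ndS (p := 2064) (l := 4) rfl N2064 D6514
theorem N2341 : nd 2341 = n6516 := ndS (p := 2065) (l := 5) rfl N2065 D6516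
theorem N2342 : nd 2342 = n6518 := ndS (p := 2066) (l := 5) rfl N2066 D6518
theorem N2343 : nd 2343 = n6537 := ndS (p := 2068) (l := 2) rfl N2068 D6537
theorem N2344 : nd 2344 = n6538 := ndS (p := 2068) (l := 4) rfl N2068 D6538
theorem N2345 : nd 2345 = n6539 := ndS (p := 2069) (l := 4) rfl N2069 D6539
theorem N2346 : nd 2346 = n6540 := ndS (p := 2069) (l := 6) rfl N2069 D6540
theorem N2347 : nd 2347 = n6546 := ndS (p := 2071) (l := 2) rfl N2071 D6546
theorem N2348 : nd 2348 = n6547 := ndS (p := 2071) (l := 4) rfl N2071 D6547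
theorem N2349 : nd 2349 = n6548 := ndS (p := 2072) (l := 4) rfl N2072 D6548
theorem N2350 : nd 2350 = n6549 := ndS (p := 2072) (l := 6) rfl N2072 D6549
theorem N2351 : nd 2351 = n6551 := ndS (p := 2074) (l := 2) rfl N2074 D6551
theorem N2352 : nd 2352 = n6552 := ndS (p := 2074) (l := 4) rfl N2074 D6552
theorem N2353 : nd 2353 = n6553 := ndS (p := 2075) (l := 4) rfl N2075 D6553
theorem N2354 : nd 2354 = n6554 := ndS (p := 2075) (l := 6) rfl N2075 D6554
theorem N2355 : nd 2355 = n6556 := ndS (p := 2077) (l := 1) rfl N2077 D6556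
theorem N2356 : nd 2356 = n6557 := ndS (p := 2077) (l := 4) rfl N2077 D6557
theorem N2357 : nd 2357 = n6558 := ndS (p := 2077) (l := 6) rfl N2077 D6558
theorem N2358 : nd 2358 = n6563 := ndS (p := 2080) (l := 7) rfl N2080 D6563
theorem N2359 : nd 2359 = n6564 := ndS (p := 2081) (l := 1) rfl N2081 D6564
theorem N2360 : nd 2360 = n6584 := ndS (p := 2084) (l := 6) rfl N2084 D6584
theorem N2361 : nd 2361 = n6589 := ndS (p := 2086) (l := 7) rfl N2086 D6589
theorem N2362 : nd 2362 = n6595 := ndS (p := 2087) (l := 7) rfl N2087 D6595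
theorem N2363 : nd 2363 = n6625 := ndS (p := 2089) (l := 2) rfl N2089 D6625
theorem N2364 : nd 2364 = n6626 := ndS (p := 2089) (l := 4) rfl N2089 D6626
theorem N2365 : nd 2365 = n6629 := ndS (p := 2091) (l := 5) rfl N2091 D6629
theorem N2366 : nd 2366 = n6630 := ndS (p := 2093) (l := 2) rfl N2093 D6630
theorem N2367 : nd 2367 = n6631 := ndS (p := 2093) (l := 4) rfl N2093 D6631
theorem N2368 : nd 2368 = n6632 := ndS (p := 2094) (l := 4) rfl N2094 D6632
theorem N2369 : nd 2369 = n6633 := ndS (p := 2094) (l := 6) rfl N2094 D6633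
theorem N2370 : nd 2370 = n6634 := ndS (p := 2095) (l := 5) rfl N2095 D6634
theorem N2371 : nd 2371 = n6635 := ndS (p := 2097) (l := 1) rfl N2097 D6635
theorem N2372 : nd 2372 = n6636 := ndS (p := 2097) (l := 4) rfl N2097 D6636
theorem N2373 : nd 2373 = n6637 := ndS (p := 2097) (l := 6) rfl N2097 D6637
theorem N2374 : nd 2374 = n6638 := ndS (p := 2098) (l := 5) rfl N2098 D6638
theorem N2375 : nd 2375 = n6639 := ndS (p := 2099) (l := 3) rfl N2099 D6639
theorem N2376 : nd 2376 = n6640 := ndS (p := 2099) (l := 5) rfl N2099 D6640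
theorem N2377 : nd 2377 = n6641 := ndS (p := 2099) (l := 6) rfl N2099 D6641
theorem N2378 : nd 2378 = n6642 := ndS (p := 2100) (l := 7) rfl N2100 D6642
theorem N2379 : nd 2379 = n6643 := ndS (p := 2102) (l := 2) rfl N2102 D6643
theorem N2380 : nd 2380 = n6646 := ndS (p := 2103) (l := 6) rfl N2103 D6646
theorem N2381 : nd 2381 = n6648 := ndS (p := 2105) (l := 1) rfl N2105 D6648
theorem N2382 : nd 2382 = n6656 := ndS (p := 2106) (l := 1) rfl N2106 D6656
theorem N2383 : nd 2383 = n6657 := ndS (p := 2106) (l := 4) rfl N2106 D6657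
theorem N2384 : nd 2384 = n6658 := ndS (p := 2106) (l := 6) rfl N2106 D6658
theorem N2385 : nd 2385 = n6659 := ndS (p := 2107) (l := 5) rfl N2107 D6659
theorem N2386 : nd 2386 = n6660 := ndS (p := 2108) (l := 3) rfl N2108 D6660
theorem N2387 : nd 2387 = n6661 := ndS (p := 2108) (l := 5) rfl N2108 D6661
theorem N2388 : nd 2388 = n6662 := ndS (p := 2108) (l := 6) rfl N2108 D6662
theorem N2389 : nd 2389 = n6663 := ndS (p := 2109) (l := 7) rfl N2109 D6663
theorem N2390 : nd 2390 = n6664 := ndS (p := 2111) (l := 4) rfl N2111 D6664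
theorem N2391 : nd 2391 = n6665 := ndS (p := 2111) (l := 6) rfl N2111 D6665
theorem N2392 : nd 2392 = n6666 := ndS (p := 2112) (l := 3) rfl N2112 D6666
theorem N2393 : nd 2393 = n6667 := ndS (p := 2112) (l := 5) rfl N2112 D6667
theorem N2394 : nd 2394 = n6668 := ndS (p := 2112) (l := 6) rfl N2112 D6668
theorem N2395 : nd 2395 = n6669 := ndS (p := 2113) (l := 7) rfl N2113 D6669
theorem N2396 : nd 2396 = n6670 := ndS (p := 2115) (l := 5) rfl N2115 D6670
theorem N2397 : nd 2397 = n6671 := ndS (p := 2115) (l := 6) rfl N2115 D6671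
theorem N2398 : nd 2398 = n6673 := ndS (p := 2117) (l := 7) rfl N2117 D6673
theorem N2399 : nd 2399 = n6674 := ndS (p := 2119) (l := 4) rfl N2119 D6674
theorem N2400 : nd 2400 = n6675 := ndS (p := 2119) (l := 6) rfl N2119 D6675
theorem N2401 : nd 2401 = n6676 := ndS (p := 2120) (l := 3) rfl N2120 D6676
theorem N2402 : nd 2402 = n6677 := ndS (p := 2120) (l := 5) rfl N2120 D6677
theorem N2403 : nd 2403 = n6678 := ndS (p := 2120) (l := 6) rfl N2120 D6678
theorem N2404 : nd 2404 = n6682 := ndS (p := 2126) (l := 3) rfl N2126 D6682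
theorem N2405 : nd 2405 = n6684 := ndS (p := 2127) (l := 5) rfl N2127 D6684
theorem N2406 : nd 2406 = n6701 := ndS (p := 2130) (l := 7) rfl N2130 D6701
theorem N2407 : nd 2407 = n6728 := ndS (p := 2133) (l := 3) rfl N2133 D6728
theorem N2408 : nd 2408 = n6729 := ndS (p := 2134) (l := 2) rfl N2134 D6729
theorem N2409 : nd 2409 = n6730 := ndS (p := 2134) (l := 4) rfl N2134 D6730
theorem N2410 : nd 2410 = n6735 := ndS (p := 2136) (l := 3) rfl N2136 D6735
theorem N2411 : nd 2411 = n6736 := ndS (p := 2137) (l := 2) rfl N2137 D6736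
theorem N2412 : nd 2412 = n6739 := ndS (p := 2138) (l := 2) rfl N2138 D6739
theorem N2413 : nd 2413 = n6740 := ndS (p := 2138) (l := 4) rfl N2138 D6740
theorem N2414 : nd 2414 = n6771 := ndS (p := 2142) (l := 2) rfl N2142 D6771
theorem N2415 : nd 2415 = n6772 := ndS (p := 2142) (l := 4) rfl N2142 D6772
theorem N2416 : nd 2416 = n6871 := ndS (p := 2149) (l := 3) rfl N2149 D6871
theorem N2417 : nd 2417 = n6873 := ndS (p := 2149) (l := 6) rfl N2149 D6873
theorem N2418 : nd 2418 = n6874 := ndS (p := 2150) (l := 7) rfl N2150 D6874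
theorem N2419 : nd 2419 = n7239 := ndS (p := 2154) (l := 2) rfl N2154 D7239
theorem N2420 : nd 2420 = n7240 := ndS (p := 2154) (l := 4) rfl N2154 D7240
theorem N2421 : nd 2421 = n7241 := ndS (p := 2155) (l := 4) rfl N2155 D7241
theorem N2422 : nd 2422 = n7242 := ndS (p := 2155) (l := 6) rfl N2155 D7242
theorem N2423 : nd 2423 = n7254 := ndS (p := 2157) (l := 2) rfl N2157 D7254
theorem N2424 : nd 2424 = n7257 := ndS (p := 2158) (l := 6) rfl N2158 D7257
theorem N2425 : nd 2425 = n7259 := ndS (p := 2159) (l := 1) rfl N2159 D7259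
theorem N2426 : nd 2426 = n7261 := ndS (p := 2159) (l := 6) rfl N2159 D7261
theorem N2427 : nd 2427 = n7266 := ndS (p := 2160) (l := 7) rfl N2160 D7266
theorem N2428 : nd 2428 = n7299 := ndS (p := 2161) (l := 2) rfl N2161 D7299
theorem N2429 : nd 2429 = n7300 := ndS (p := 2161) (l := 4) rfl N2161 D7300
theorem N2430 : nd 2430 = n7301 := ndS (p := 2162) (l := 4) rfl N2162 D7301
theorem N2431 : nd 2431 = n7302 := ndS (p := 2162) (l := 6) rfl N2162 D7302
theorem N2432 : nd 2432 = n7304 := ndS (p := 2164) (l := 1) rfl N2164 D7304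
theorem N2433 : nd 2433 = n7305 := ndS (p := 2164) (l := 4) rfl N2164 D7305
theorem N2434 : nd 2434 = n7306 := ndS (p := 2164) (l := 6) rfl N2164 D7306
theorem N2435 : nd 2435 = n7308 := ndS (p := 2166) (l := 3) rfl N2166 D7308
theorem N2436 : nd 2436 = n7311 := ndS (p := 2167) (l := 7) rfl N2167 D7311
theorem N2437 : nd 2437 = n7312 := ndS (p := 2168) (l := 1) rfl N2168 D7312
theorem N2438 : nd 2438 = n7313 := ndS (p := 2168) (l := 4) rfl N2168 D7313
theorem N2439 : nd 2439 = n7314 := ndS (p := 2168) (l := 6) rfl N2168 D7314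
theorem N2440 : nd 2440 = n7318 := ndS (p := 2170) (l := 6) rfl N2170 D7318
theorem N2441 : nd 2441 = n7319 := ndS (p := 2171) (l := 7) rfl N2171 D7319
theorem N2442 : nd 2442 = n7320 := ndS (p := 2172) (l := 4) rfl N2172 D7320
theorem N2443 : nd 2443 = n7321 := ndS (p := 2172) (l := 6) rfl N2172 D7321
theorem N2444 : nd 2444 = n7325 := ndS (p := 2174) (l := 7) rfl N2174 D7325
theorem N2445 : nd 2445 = n7358 := ndS (p := 2176) (l := 7) rfl N2176 D7358
theorem N2446 : nd 2446 = n7394 := ndS (p := 2179) (l := 1) rfl N2179 D7394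
theorem N2447 : nd 2447 = n7396 := ndS (p := 2179) (l := 6) rfl N2179 D7396
theorem N2448 : nd 2448 = n7412 := ndS (p := 2182) (l := 4) rfl N2182 D7412
theorem N2449 : nd 2449 = n7413 := ndS (p := 2182) (l := 6) rfl N2182 D7413
theorem N2450 : nd 2450 = n7414 := ndS (p := 2183) (l := 3) rfl N2183 D7414
theorem N2451 : nd 2451 = n7415 := ndS (p := 2183) (l := 5) rfl N2183 D7415
theorem N2452 : nd 2452 = n7416 := ndS (p := 2183) (l := 6) rfl N2183 D7416
theorem N2453 : nd 2453 = n7417 := ndS (p := 2184) (l := 7) rfl N2184 D7417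
theorem N2454 : nd 2454 = n7421 := ndS (p := 2188) (l := 7) rfl N2188 D7421
theorem N2455 : nd 2455 = n7422 := ndS (p := 2190) (l := 3) rfl N2190 D7422
theorem N2456 : nd 2456 = n7423 := ndS (p := 2190) (l := 5) rfl N2190 D7423
theorem N2457 : nd 2457 = n7424 := ndS (p := 2190) (l := 6) rfl N2190 D7424
theorem N2458 : nd 2458 = n7426 := ndS (p := 2191) (l := 7) rfl N2191 D7426
theorem N2459 : nd 2459 = n7427 := ndS (p := 2192) (l := 5) rfl N2192 D7427
theorem N2460 : nd 2460 = n7428 := ndS (p := 2192) (l := 6) rfl N2192 D7428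
theorem N2461 : nd 2461 = n7430 := ndS (p := 2194) (l := 7) rfl N2194 D7430
theorem N2462 : nd 2462 = n7433 := ndS (p := 2197) (l := 7) rfl N2197 D7433
theorem N2463 : nd 2463 = n8126 := ndS (p := 2204) (l := 2) rfl N2204 D8126
theorem N2464 : nd 2464 = n8127 := ndS (p := 2204) (l := 4) rfl N2204 D8127
theorem N2465 : nd 2465 = n8128 := ndS (p := 2205) (l := 4) rfl N2205 D8128
theorem N2466 : nd 2466 = n8129 := ndS (p := 2205) (l := 6) rfl N2205 D8129
theorem N2467 : nd 2467 = n8130 := ndS (p := 2206) (l := 5) rfl N2206 D8130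
theorem N2468 : nd 2468 = n8141 := ndS (p := 2208) (l := 2) rfl N2208 D8141
theorem N2469 : nd 2469 = n8142 := ndS (p := 2208) (l := 4) rfl N2208 D8142
theorem N2470 : nd 2470 = n8143 := ndS (p := 2209) (l := 4) rfl N2209 D8143
theorem N2471 : nd 2471 = n8144 := ndS (p := 2209) (l := 6) rfl N2209 D8144
theorem N2472 : nd 2472 = n8145 := ndS (p := 2210) (l := 5) rfl N2210 D8145
theorem N2473 : nd 2473 = n8146 := ndS (p := 2212) (l := 1) rfl N2212 D8146
theorem N2474 : nd 2474 = n8147 := ndS (p := 2212) (l := 4) rfl N2212 D8147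
theorem N2475 : nd 2475 = n8148 := ndS (p := 2212) (l := 6) rfl N2212 D8148
theorem N2476 : nd 2476 = n8149 := ndS (p := 2213) (l := 5) rfl N2213 D8149
theorem N2477 : nd 2477 = n8150 := ndS (p := 2214) (l := 3) rfl N2214 D8150
theorem N2478 : nd 2478 = n8151 := ndS (p := 2214) (l := 5) rfl N2214 D8151
theorem N2479 : nd 2479 = n8152 := ndS (p := 2214) (l := 6) rfl N2214 D8152
theorem N2480 : nd 2480 = n8153 := ndS (p := 2215) (l := 7) rfl N2215 D8153
theorem N2481 : nd 2481 = n8183 := ndS (p := 2217) (l := 2) rfl N2217 D8183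
theorem N2482 : nd 2482 = n8184 := ndS (p := 2217) (l := 4) rfl N2217 D8184
theorem N2483 : nd 2483 = n8185 := ndS (p := 2218) (l := 4) rfl N2218 D8185
theorem N2484 : nd 2484 = n8186 := ndS (p := 2218) (l := 6) rfl N2218 D8186
theorem N2485 : nd 2485 = n8187 := ndS (p := 2219) (l := 5) rfl N2219 D8187
theorem N2486 : nd 2486 = n8192 := ndS (p := 2221) (l := 2) rfl N2221 D8192
theorem N2487 : nd 2487 = n8193 := ndS (p := 2221) (l := 4) rfl N2221 D8193
theorem N2488 : nd 2488 = n8194 := ndS (p := 2222) (l := 4) rfl N2222 D8194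
theorem N2489 : nd 2489 = n8195 := ndS (p := 2222) (l := 6) rfl N2222 D8195
theorem N2490 : nd 2490 = n8196 := ndS (p := 2223) (l := 5) rfl N2223 D8196
theorem N2491 : nd 2491 = n8197 := ndS (p := 2225) (l := 2) rfl N2225 D8197
theorem N2492 : nd 2492 = n8198 := ndS (p := 2225) (l := 4) rfl N2225 D8198
theorem N2493 : nd 2493 = n8199 := ndS (p := 2226) (l := 4) rfl N2226 D8199
theorem N2494 : nd 2494 = n8200 := ndS (p := 2226) (l := 6) rfl N2226 D8200
theorem N2495 : nd 2495 = n8201 := ndS (p := 2227) (l := 5) rfl N2227 D8201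
theorem N2496 : nd 2496 = n8202 := ndS (p := 2229) (l := 1) rfl N2229 D8202
theorem N2497 : nd 2497 = n8203 := ndS (p := 2229) (l := 4) rfl N2229 D8203
theorem N2498 : nd 2498 = n8204 := ndS (p := 2229) (l := 6) rfl N2229 D8204
theorem N2499 : nd 2499 = n8205 := ndS (p := 2230) (l := 5) rfl N2230 D8205
theorem N2500 : nd 2500 = n8206 := ndS (p := 2231) (l := 3) rfl N2231 D8206
theorem N2501 : nd 2501 = n8207 := ndS (p := 2231) (l := 5) rfl N2231 D8207
theorem N2502 : nd 2502 = n8208 := ndS (p := 2231) (l := 6) rfl N2231 D8208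
theorem N2503 : nd 2503 = n8209 := ndS (p := 2232) (l := 7) rfl N2232 D8209
theorem N2504 : nd 2504 = n8210 := ndS (p := 2234) (l := 1) rfl N2234 D8210
theorem N2505 : nd 2505 = n8211 := ndS (p := 2234) (l := 4) rfl N2234 D8211
theorem N2506 : nd 2506 = n8212 := ndS (p := 2234) (l := 6) rfl N2234 D8212
theorem N2507 : nd 2507 = n8213 := ndS (p := 2235) (l := 5) rfl N2235 D8213
theorem N2508 : nd 2508 = n8214 := ndS (p := 2236) (l := 3) rfl N2236 D8214
theorem N2509 : nd 2509 = n8215 := ndS (p := 2236) (l := 5) rfl N2236 D8215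
theorem N2510 : nd 2510 = n8216 := ndS (p := 2236) (l := 6) rfl N2236 D8216
theorem N2511 : nd 2511 = n8217 := ndS (p := 2237) (l := 7) rfl N2237 D8217
theorem N2512 : nd 2512 = n8218 := ndS (p := 2239) (l := 4) rfl N2239 D8218
theorem N2513 : nd 2513 = n8219 := ndS (p := 2239) (l := 6) rfl N2239 D8219
theorem N2514 : nd 2514 = n8220 := ndS (p := 2240) (l := 3) rfl N2240 D8220
theorem N2515 : nd 2515 = n8221 := ndS (p := 2240) (l := 5) rfl N2240 D8221
theorem N2516 : nd 2516 = n8222 := ndS (p := 2240) (l := 6) rfl N2240 D8222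
theorem N2517 : nd 2517 = n8223 := ndS (p := 2241) (l := 7) rfl N2241 D8223
theorem N2518 : nd 2518 = n8228 := ndS (p := 2247) (l := 1) rfl N2247 D8228
theorem N2519 : nd 2519 = n8229 := ndS (p := 2247) (l := 4) rfl N2247 D8229
theorem N2520 : nd 2520 = n8230 := ndS (p := 2247) (l := 6) rfl N2247 D8230
theorem N2521 : nd 2521 = n8231 := ndS (p := 2248) (l := 5) rfl N2248 D8231
theorem N2522 : nd 2522 = n8232 := ndS (p := 2249) (l := 3) rfl N2249 D8232
theorem N2523 : nd 2523 = n8233 := ndS (p := 2249) (l := 5) rfl N2249 D8233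
theorem N2524 : nd 2524 = n8234 := ndS (p := 2249) (l := 6) rfl N2249 D8234
theorem N2525 : nd 2525 = n8235 := ndS (p := 2250) (l := 7) rfl N2250 D8235
theorem N2526 : nd 2526 = n8236 := ndS (p := 2252) (l := 4) rfl N2252 D8236
theorem N2527 : nd 2527 = n8237 := ndS (p := 2252) (l := 6) rfl N2252 D8237
theorem N2528 : nd 2528 = n8238 := ndS (p := 2253) (l := 3) rfl N2253 D8238
theorem N2529 : nd 2529 = n8239 := ndS (p := 2253) (l := 5) rfl N2253 D8239
theorem N2530 : nd 2530 = n8240 := ndS (p := 2253) (l := 6) rfl N2253 D8240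
theorem N2531 : nd 2531 = n8241 := ndS (p := 2254) (l := 7) rfl N2254 D8241
theorem N2532 : nd 2532 = n8291 := ndS (p := 2264) (l := 1) rfl N2264 D8291
theorem N2533 : nd 2533 = n8292 := ndS (p := 2264) (l := 4) rfl N2264 D8292
theorem N2534 : nd 2534 = n8293 := ndS (p := 2264) (l := 6) rfl N2264 D8293
theorem N2535 : nd 2535 = n8294 := ndS (p := 2265) (l := 5) rfl N2265 D8294
theorem N2536 : nd 2536 = n8295 := ndS (p := 2266) (l := 3) rfl N2266 D8295
theorem N2537 : nd 2537 = n8296 := ndS (p := 2266) (l := 5) rfl N2266 D8296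
theorem N2538 : nd 2538 = n8297 := ndS (p := 2266) (l := 6) rfl N2266 D8297
theorem N2539 : nd 2539 = n8298 := ndS (p := 2267) (l := 7) rfl N2267 D8298
theorem N2540 : nd 2540 = n8304 := ndS (p := 2269) (l := 1) rfl N2269 D8304
theorem N2541 : nd 2541 = n8305 := ndS (p := 2269) (l := 4) rfl N2269 D8305
theorem N2542 : nd 2542 = n8306 := ndS (p := 2269) (l := 6) rfl N2269 D8306
theorem N2543 : nd 2543 = n8307 := ndS (p := 2270) (l := 5) rfl N2270 D8307
theorem N2544 : nd 2544 = n8308 := ndS (p := 2271) (l := 3) rfl N2271 D8308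
theorem N2545 : nd 2545 = n8309 := ndS (p := 2271) (l := 5) rfl N2271 D8309
theorem N2546 : nd 2546 = n8310 := ndS (p := 2271) (l := 6) rfl N2271 D8310
theorem N2547 : nd 2547 = n8311 := ndS (p := 2272) (l := 7) rfl N2272 D8311
theorem N2548 : nd 2548 = n8312 := ndS (p := 2274) (l := 1) rfl N2274 D8312
theorem N2549 : nd 2549 = n8313 := ndS (p := 2274) (l := 4) rfl N2274 D8313
theorem N2550 : nd 2550 = n8314 := ndS (p := 2274) (l := 6) rfl N2274 D8314
theorem N2551 : nd 2551 = n8315 := ndS (p := 2275) (l := 5) rfl N2275 D8315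
theorem N2552 : nd 2552 = n8316 := ndS (p := 2276) (l := 3) rfl N2276 D8316
theorem N2553 : nd 2553 = n8317 := ndS (p := 2276) (l := 5) rfl N2276 D8317
theorem N2554 : nd 2554 = n8318 := ndS (p := 2276) (l := 6) rfl N2276 D8318
theorem N2555 : nd 2555 = n8319 := ndS (p := 2277) (l := 7) rfl N2277 D8319
theorem N2556 : nd 2556 = n8320 := ndS (p := 2279) (l := 4) rfl N2279 D8320
theorem N2557 : nd 2557 = n8321 := ndS (p := 2279) (l := 6) rfl N2279 D8321
theorem N2558 : nd 2558 = n8322 := ndS (p := 2280) (l := 3) rfl N2280 D8322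
theorem N2559 : nd 2559 = n8323 := ndS (p := 2280) (l := 5) rfl N2280 D8323
theorem N2560 : nd 2560 = n8324 := ndS (p := 2280) (l := 6) rfl N2280 D8324
theorem N2561 : nd 2561 = n8325 := ndS (p := 2281) (l := 7) rfl N2281 D8325
theorem N2562 : nd 2562 = n8326 := ndS (p := 2283) (l := 5) rfl N2283 D8326
theorem N2563 : nd 2563 = n8327 := ndS (p := 2283) (l := 6) rfl N2283 D8327
theorem N2564 : nd 2564 = n8328 := ndS (p := 2284) (l := 6) rfl N2284 D8328
theorem N2565 : nd 2565 = n8329 := ndS (p := 2285) (l := 7) rfl N2285 D8329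
theorem N2566 : nd 2566 = n8330 := ndS (p := 2287) (l := 4) rfl N2287 D8330
theorem N2567 : nd 2567 = n8331 := ndS (p := 2287) (l := 6) rfl N2287 D8331
theorem N2568 : nd 2568 = n8332 := ndS (p := 2288) (l := 3) rfl N2288 D8332
theorem N2569 : nd 2569 = n8333 := ndS (p := 2288) (l := 5) rfl N2288 D8333
theorem N2570 : nd 2570 = n8334 := ndS (p := 2288) (l := 6) rfl N2288 D8334
theorem N2571 : nd 2571 = n8338 := ndS (p := 2294) (l := 3) rfl N2294 D8338
theorem N2572 : nd 2572 = n8339 := ndS (p := 2294) (l := 5) rfl N2294 D8339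
theorem N2573 : nd 2573 = n8340 := ndS (p := 2295) (l := 5) rfl N2295 D8340
theorem N2574 : nd 2574 = n8342 := ndS (p := 2298) (l := 4) rfl N2298 D8342
theorem N2575 : nd 2575 = n8343 := ndS (p := 2298) (l := 6) rfl N2298 D8343
theorem N2576 : nd 2576 = n8344 := ndS (p := 2299) (l := 3) rfl N2299 D8344
theorem N2577 : nd 2577 = n8345 := ndS (p := 2299) (l := 5) rfl N2299 D8345
theorem N2578 : nd 2578 = n8346 := ndS (p := 2299) (l := 6) rfl N2299 D8346
theorem N2579 : nd 2579 = n8347 := ndS (p := 2300) (l := 7) rfl N2300 D8347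
theorem N2580 : nd 2580 = n8348 := ndS (p := 2302) (l := 5) rfl N2302 D8348
theorem N2581 : nd 2581 = n8350 := ndS (p := 2303) (l := 6) rfl N2303 D8350
theorem N2582 : nd 2582 = n8351 := ndS (p := 2304) (l := 7) rfl N2304 D8351
theorem N2583 : nd 2583 = n8352 := ndS (p := 2306) (l := 5) rfl N2306 D8352
theorem N2584 : nd 2584 = n8353 := ndS (p := 2306) (l := 6) rfl N2306 D8353
theorem N2585 : nd 2585 = n8354 := ndS (p := 2307) (l := 2) rfl N2307 D8354
theorem N2586 : nd 2586 = n8355 := ndS (p := 2307) (l := 7) rfl N2307 D8355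
theorem N2587 : nd 2587 = n8356 := ndS (p := 2308) (l := 6) rfl N2308 D8356
theorem N2588 : nd 2588 = n8357 := ndS (p := 2309) (l := 7) rfl N2309 D8357
theorem N2589 : nd 2589 = n8358 := ndS (p := 2311) (l := 7) rfl N2311 D8358
theorem N2590 : nd 2590 = n8359 := ndS (p := 2313) (l := 3) rfl N2313 D8359
theorem N2591 : nd 2591 = n8362 := ndS (p := 2314) (l := 7) rfl N2314 D8362
theorem N2592 : nd 2592 = n8367 := ndS (p := 2317) (l := 3) rfl N2317 D8367
theorem N2593 : nd 2593 = n8368 := ndS (p := 2317) (l := 7) rfl N2317 D8368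
theorem N2594 : nd 2594 = n8433 := ndS (p := 2319) (l := 2) rfl N2319 D8433
theorem N2595 : nd 2595 = n8434 := ndS (p := 2319) (l := 4) rfl N2319 D8434
theorem N2596 : nd 2596 = n8435 := ndS (p := 2320) (l := 4) rfl N2320 D8435
theorem N2597 : nd 2597 = n8436 := ndS (p := 2320) (l := 6) rfl N2320 D8436
theorem N2598 : nd 2598 = n8449 := ndS (p := 2322) (l := 2) rfl N2322 D8449
theorem N2599 : nd 2599 = n8450 := ndS (p := 2322) (l := 4) rfl N2322 D8450
theorem N2600 : nd 2600 = n8451 := ndS (p := 2323) (l := 4) rfl N2323 D8451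
theorem N2601 : nd 2601 = n8452 := ndS (p := 2323) (l := 6) rfl N2323 D8452
theorem N2602 : nd 2602 = n8464 := ndS (p := 2325) (l := 2) rfl N2325 D8464
theorem N2603 : nd 2603 = n8465 := ndS (p := 2325) (l := 4) rfl N2325 D8465
theorem N2604 : nd 2604 = n8466 := ndS (p := 2326) (l := 4) rfl N2326 D8466
theorem N2605 : nd 2605 = n8467 := ndS (p := 2326) (l := 6) rfl N2326 D8467
theorem N2606 : nd 2606 = n8469 := ndS (p := 2328) (l := 1) rfl N2328 D8469
theorem N2607 : nd 2607 = n8470 := ndS (p := 2328) (l := 4) rfl N2328 D8470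
theorem N2608 : nd 2608 = n8471 := ndS (p := 2328) (l := 6) rfl N2328 D8471
theorem N2609 : nd 2609 = n8472 := ndS (p := 2329) (l := 5) rfl N2329 D8472
theorem N2610 : nd 2610 = n8474 := ndS (p := 2330) (l := 5) rfl N2330 D8474
theorem N2611 : nd 2611 = n8476 := ndS (p := 2331) (l := 7) rfl N2331 D8476
theorem N2612 : nd 2612 = n8487 := ndS (p := 2333) (l := 4) rfl N2333 D8487
theorem N2613 : nd 2613 = n8491 := ndS (p := 2335) (l := 1) rfl N2335 D8491
theorem N2614 : nd 2614 = n8492 := ndS (p := 2335) (l := 4) rfl N2335 D8492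
theorem N2615 : nd 2615 = n8494 := ndS (p := 2336) (l := 5) rfl N2336 D8494
theorem N2616 : nd 2616 = n8496 := ndS (p := 2337) (l := 5) rfl N2337 D8496
theorem N2617 : nd 2617 = n8499 := ndS (p := 2339) (l := 4) rfl N2339 D8499
theorem N2618 : nd 2618 = n8502 := ndS (p := 2340) (l := 5) rfl N2340 D8502
theorem N2619 : nd 2619 = n8530 := ndS (p := 2343) (l := 1) rfl N2343 D8530
theorem N2620 : nd 2620 = n8531 := ndS (p := 2343) (l := 4) rfl N2343 D8531
theorem N2621 : nd 2621 = n8532 := ndS (p := 2343) (l := 6) rfl N2343 D8532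
theorem N2622 : nd 2622 = n8543 := ndS (p := 2347) (l := 1) rfl N2347 D8543
theorem N2623 : nd 2623 = n8544 := ndS (p := 2347) (l := 4) rfl N2347 D8544
theorem N2624 : nd 2624 = n8545 := ndS (p := 2347) (l := 6) rfl N2347 D8545
theorem N2625 : nd 2625 = n8547 := ndS (p := 2349) (l := 3) rfl N2349 D8547
theorem N2626 : nd 2626 = n8550 := ndS (p := 2350) (l := 7) rfl N2350 D8550
theorem N2627 : nd 2627 = n8551 := ndS (p := 2351) (l := 1) rfl N2351 D8551
theorem N2628 : nd 2628 = n8552 := ndS (p := 2351) (l := 4) rfl N2351 D8552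
theorem N2629 : nd 2629 = n8553 := ndS (p := 2351) (l := 6) rfl N2351 D8553
theorem N2630 : nd 2630 = n8557 := ndS (p := 2353) (l := 6) rfl N2353 D8557
theorem N2631 : nd 2631 = n8558 := ndS (p := 2354) (l := 7) rfl N2354 D8558
theorem N2632 : nd 2632 = n8559 := ndS (p := 2355) (l := 4) rfl N2355 D8559
theorem N2633 : nd 2633 = n8560 := ndS (p := 2355) (l := 6) rfl N2355 D8560
theorem N2634 : nd 2634 = n8564 := ndS (p := 2357) (l := 7) rfl N2357 D8564
theorem N2635 : nd 2635 = n8597 := ndS (p := 2360) (l := 7) rfl N2360 D8597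
theorem N2636 : nd 2636 = n8647 := ndS (p := 2363) (l := 1) rfl N2363 D8647
theorem N2637 : nd 2637 = n8650 := ndS (p := 2364) (l := 5) rfl N2364 D8650
theorem N2638 : nd 2638 = n8655 := ndS (p := 2366) (l := 1) rfl N2366 D8655
theorem N2639 : nd 2639 = n8656 := ndS (p := 2366) (l := 4) rfl N2366 D8656
theorem N2640 : nd 2640 = n8657 := ndS (p := 2366) (l := 6) rfl N2366 D8657
theorem N2641 : nd 2641 = n8658 := ndS (p := 2367) (l := 5) rfl N2367 D8658
theorem N2642 : nd 2642 = n8659 := ndS (p := 2368) (l := 3) rfl N2368 D8659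
theorem N2643 : nd 2643 = n8660 := ndS (p := 2368) (l := 5) rfl N2368 D8660
theorem N2644 : nd 2644 = n8661 := ndS (p := 2368) (l := 6) rfl N2368 D8661
theorem N2645 : nd 2645 = n8662 := ndS (p := 2369) (l := 7) rfl N2369 D8662
theorem N2646 : nd 2646 = n8663 := ndS (p := 2371) (l := 4) rfl N2371 D8663
theorem N2647 : nd 2647 = n8664 := ndS (p := 2371) (l := 6) rfl N2371 D8664
theorem N2648 : nd 2648 = n8665 := ndS (p := 2372) (l := 3) rfl N2372 D8665
theorem N2649 : nd 2649 = n8666 := ndS (p := 2372) (l := 5) rfl N2372 D8666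
theorem N2650 : nd 2650 = n8667 := ndS (p := 2372) (l := 6) rfl N2372 D8667
theorem N2651 : nd 2651 = n8668 := ndS (p := 2373) (l := 7) rfl N2373 D8668
theorem N2652 : nd 2652 = n8669 := ndS (p := 2375) (l := 5) rfl N2375 D8669
theorem N2653 : nd 2653 = n8670 := ndS (p := 2375) (l := 6) rfl N2375 D8670
theorem N2654 : nd 2654 = n8673 := ndS (p := 2379) (l := 1) rfl N2379 D8673
theorem N2655 : nd 2655 = n8675 := ndS (p := 2379) (l := 6) rfl N2379 D8675
theorem N2656 : nd 2656 = n8691 := ndS (p := 2382) (l := 4) rfl N2382 D8691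
theorem N2657 : nd 2657 = n8692 := ndS (p := 2382) (l := 6) rfl N2382 D8692
theorem N2658 : nd 2658 = n8693 := ndS (p := 2383) (l := 3) rfl N2383 D8693
theorem N2659 : nd 2659 = n8694 := ndS (p := 2383) (l := 5) rfl N2383 D8694
theorem N2660 : nd 2660 = n8695 := ndS (p := 2383) (l := 6) rfl N2383 D8695
theorem N2661 : nd 2661 = n8696 := ndS (p := 2384) (l := 7) rfl N2384 D8696
theorem N2662 : nd 2662 = n8700 := ndS (p := 2388) (l := 7) rfl N2388 D8700
theorem N2663 : nd 2663 = n8701 := ndS (p := 2390) (l := 3) rfl N2390 D8701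
theorem N2664 : nd 2664 = n8702 := ndS (p := 2390) (l := 5) rfl N2390 D8702
theorem N2665 : nd 2665 = n8703 := ndS (p := 2390) (l := 6) rfl N2390 D8703
theorem N2666 : nd 2666 = n8705 := ndS (p := 2391) (l := 7) rfl N2391 D8705
theorem N2667 : nd 2667 = n8706 := ndS (p := 2392) (l := 5) rfl N2392 D8706
theorem N2668 : nd 2668 = n8707 := ndS (p := 2392) (l := 6) rfl N2392 D8707
theorem N2669 : nd 2669 = n8709 := ndS (p := 2394) (l := 7) rfl N2394 D8709
theorem N2670 : nd 2670 = n8712 := ndS (p := 2397) (l := 7) rfl N2397 D8712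
theorem N2671 : nd 2671 = n8714 := ndS (p := 2399) (l := 3) rfl N2399 D8714
theorem N2672 : nd 2672 = n8716 := ndS (p := 2399) (l := 6) rfl N2399 D8716
theorem N2673 : nd 2673 = n8724 := ndS (p := 2404) (l := 2) rfl N2404 D8724
theorem N2674 : nd 2674 = n8781 := ndS (p := 2407) (l := 2) rfl N2407 D8781
theorem N2675 : nd 2675 = n8782 := ndS (p := 2407) (l := 4) rfl N2407 D8782
theorem N2676 : nd 2676 = n8790 := ndS (p := 2410) (l := 2) rfl N2410 D8790
theorem N2677 : nd 2677 = n9440 := ndS (p := 2419) (l := 1) rfl N2419 D9440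
theorem N2678 : nd 2678 = n9441 := ndS (p := 2419) (l := 4) rfl N2419 D9441
theorem N2679 : nd 2679 = n9442 := ndS (p := 2419) (l := 6) rfl N2419 D9442
theorem N2680 : nd 2680 = n9462 := ndS (p := 2423) (l := 1) rfl N2423 D9462
theorem N2681 : nd 2681 = n9464 := ndS (p := 2423) (l := 6) rfl N2423 D9464
theorem N2682 : nd 2682 = n9471 := ndS (p := 2425) (l := 6) rfl N2425 D9471
theorem N2683 : nd 2683 = n9475 := ndS (p := 2426) (l := 7) rfl N2426 D9475
theorem N2684 : nd 2684 = n9524 := ndS (p := 2428) (l := 1) rfl N2428 D9524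
theorem N2685 : nd 2685 = n9525 := ndS (p := 2428) (l := 4) rfl N2428 D9525
theorem N2686 : nd 2686 = n9526 := ndS (p := 2428) (l := 6) rfl N2428 D9526
theorem N2687 : nd 2687 = n9532 := ndS (p := 2432) (l := 4) rfl N2432 D9532
theorem N2688 : nd 2688 = n9533 := ndS (p := 2432) (l := 6) rfl N2432 D9533
theorem N2689 : nd 2689 = n9534 := ndS (p := 2433) (l := 3) rfl N2433 D9534
theorem N2690 : nd 2690 = n9537 := ndS (p := 2434) (l := 7) rfl N2434 D9537
theorem N2691 : nd 2691 = n9542 := ndS (p := 2437) (l := 4) rfl N2437 D9542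
theorem N2692 : nd 2692 = n9543 := ndS (p := 2437) (l := 6) rfl N2437 D9543
theorem N2693 : nd 2693 = n9546 := ndS (p := 2438) (l := 6) rfl N2438 D9546
theorem N2694 : nd 2694 = n9547 := ndS (p := 2439) (l := 7) rfl N2439 D9547
theorem N2695 : nd 2695 = n9556 := ndS (p := 2443) (l := 7) rfl N2443 D9556
theorem N2696 : nd 2696 = n9647 := ndS (p := 2446) (l := 6) rfl N2446 D9647
theorem N2697 : nd 2697 = n9670 := ndS (p := 2448) (l := 3) rfl N2448 D9670
theorem N2698 : nd 2698 = n9671 := ndS (p := 2448) (l := 5) rfl N2448 D9671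
theorem N2699 : nd 2699 = n9672 := ndS (p := 2448) (l := 6) rfl N2448 D9672
theorem N2700 : nd 2700 = n9673 := ndS (p := 2449) (l := 2) rfl N2449 D9673
theorem N2701 : nd 2701 = n9674 := ndS (p := 2449) (l := 7) rfl N2449 D9674
theorem N2702 : nd 2702 = n9678 := ndS (p := 2452) (l := 7) rfl N2452 D9678
theorem N2703 : nd 2703 = n9685 := ndS (p := 2455) (l := 5) rfl N2455 D9685
theorem N2704 : nd 2704 = n9686 := ndS (p := 2455) (l := 6) rfl N2455 D9686
theorem N2705 : nd 2705 = n9689 := ndS (p := 2457) (l := 7) rfl N2457 D9689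
theorem N2706 : nd 2706 = n9694 := ndS (p := 2460) (l := 7) rfl N2460 D9694
theorem N2707 : nd 2707 = n10574 := ndS (p := 2463) (l := 1) rfl N2463 D10574
theorem N2708 : nd 2708 = n10575 := ndS (p := 2463) (l := 4) rfl N2463 D10575
theorem N2709 : nd 2709 = n10576 := ndS (p := 2463) (l := 6) rfl N2463 D10576
theorem N2710 : nd 2710 = n10577 := ndS (p := 2464) (l := 5) rfl N2464 D10577
theorem N2711 : nd 2711 = n10578 := ndS (p := 2465) (l := 3) rfl N2465 D10578
theorem N2712 : nd 2712 = n10579 := ndS (p := 2465) (l := 5) rfl N2465 D10579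
theorem N2713 : nd 2713 = n10580 := ndS (p := 2465) (l := 6) rfl N2465 D10580
theorem N2714 : nd 2714 = n10581 := ndS (p := 2466) (l := 7) rfl N2466 D10581
theorem N2715 : nd 2715 = n10596 := ndS (p := 2468) (l := 1) rfl N2468 D10596
theorem N2716 : nd 2716 = n10597 := ndS (p := 2468) (l := 4) rfl N2468 D10597
theorem N2717 : nd 2717 = n10598 := ndS (p := 2468) (l := 6) rfl N2468 D10598
theorem N2718 : nd 2718 = n10599 := ndS (p := 2469) (l := 5) rfl N2469 D10599
theorem N2719 : nd 2719 = n10604 := ndS (p := 2473) (l := 4) rfl N2473 D10604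
theorem N2720 : nd 2720 = n10605 := ndS (p := 2473) (l := 6) rfl N2473 D10605
theorem N2721 : nd 2721 = n10606 := ndS (p := 2474) (l := 3) rfl N2474 D10606
theorem N2722 : nd 2722 = n10607 := ndS (p := 2474) (l := 5) rfl N2474 D10607
theorem N2723 : nd 2723 = n10608 := ndS (p := 2474) (l := 6) rfl N2474 D10608
theorem N2724 : nd 2724 = n10609 := ndS (p := 2475) (l := 7) rfl N2475 D10609
theorem N2725 : nd 2725 = n10654 := ndS (p := 2481) (l := 1) rfl N2481 D10654
theorem N2726 : nd 2726 = n10655 := ndS (p := 2481) (l := 4) rfl N2481 D10655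
theorem N2727 : nd 2727 = n10656 := ndS (p := 2481) (l := 6) rfl N2481 D10656
theorem N2728 : nd 2728 = n10657 := ndS (p := 2482) (l := 5) rfl N2482 D10657
theorem N2729 : nd 2729 = n10658 := ndS (p := 2483) (l := 3) rfl N2483 D10658
theorem N2730 : nd 2730 = n10659 := ndS (p := 2483) (l := 5) rfl N2483 D10659
theorem N2731 : nd 2731 = n10660 := ndS (p := 2483) (l := 6) rfl N2483 D10660
theorem N2732 : nd 2732 = n10661 := ndS (p := 2484) (l := 7) rfl N2484 D10661
theorem N2733 : nd 2733 = n10667 := ndS (p := 2486) (l := 1) rfl N2486 D10667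
theorem N2734 : nd 2734 = n10668 := ndS (p := 2486) (l := 4) rfl N2486 D10668
theorem N2735 : nd 2735 = n10669 := ndS (p := 2486) (l := 6) rfl N2486 D10669
theorem N2736 : nd 2736 = n10670 := ndS (p := 2487) (l := 5) rfl N2487 D10670
theorem N2737 : nd 2737 = n10671 := ndS (p := 2488) (l := 3) rfl N2488 D10671
theorem N2738 : nd 2738 = n10672 := ndS (p := 2488) (l := 5) rfl N2488 D10672
theorem N2739 : nd 2739 = n10673 := ndS (p := 2488) (l := 6) rfl N2488 D10673
theorem N2740 : nd 2740 = n10674 := ndS (p := 2489) (l := 7) rfl N2489 D10674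
theorem N2741 : nd 2741 = n10675 := ndS (p := 2491) (l := 1) rfl N2491 D10675
theorem N2742 : nd 2742 = n10676 := ndS (p := 2491) (l := 4) rfl N2491 D10676
theorem N2743 : nd 2743 = n10677 := ndS (p := 2491) (l := 6) rfl N2491 D10677
theorem N2744 : nd 2744 = n10678 := ndS (p := 2492) (l := 5) rfl N2492 D10678
theorem N2745 : nd 2745 = n10679 := ndS (p := 2493) (l := 3) rfl N2493 D10679
theorem N2746 : nd 2746 = n10680 := ndS (p := 2493) (l := 5) rfl N2493 D10680
theorem N2747 : nd 2747 = n10681 := ndS (p := 2493) (l := 6) rfl N2493 D10681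
theorem N2748 : nd 2748 = n10682 := ndS (p := 2494) (l := 7) rfl N2494 D10682
theorem N2749 : nd 2749 = n10683 := ndS (p := 2496) (l := 4) rfl N2496 D10683
theorem N2750 : nd 2750 = n10684 := ndS (p := 2496) (l := 6) rfl N2496 D10684
theorem N2751 : nd 2751 = n10685 := ndS (p := 2497) (l := 3) rfl N2497 D10685
theorem N2752 : nd 2752 = n10686 := ndS (p := 2497) (l := 5) rfl N2497 D10686
theorem N2753 : nd 2753 = n10687 := ndS (p := 2497) (l := 6) rfl N2497 D10687
theorem N2754 : nd 2754 = n10688 := ndS (p := 2498) (l := 7) rfl N2498 D10688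
theorem N2755 : nd 2755 = n10693 := ndS (p := 2504) (l := 4) rfl N2504 D10693
theorem N2756 : nd 2756 = n10694 := ndS (p := 2504) (l := 6) rfl N2504 D10694
theorem N2757 : nd 2757 = n10695 := ndS (p := 2505) (l := 3) rfl N2505 D10695
theorem N2758 : nd 2758 = n10696 := ndS (p := 2505) (l := 5) rfl N2505 D10696
theorem N2759 : nd 2759 = n10697 := ndS (p := 2505) (l := 6) rfl N2505 D10697
theorem N2760 : nd 2760 = n10698 := ndS (p := 2506) (l := 7) rfl N2506 D10698
theorem N2761 : nd 2761 = n10703 := ndS (p := 2512) (l := 3) rfl N2512 D10703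
theorem N2762 : nd 2762 = n10704 := ndS (p := 2512) (l := 5) rfl N2512 D10704
theorem N2763 : nd 2763 = n10705 := ndS (p := 2512) (l := 6) rfl N2512 D10705
theorem N2764 : nd 2764 = n10706 := ndS (p := 2513) (l := 7) rfl N2513 D10706
theorem N2765 : nd 2765 = n10716 := ndS (p := 2518) (l := 4) rfl N2518 D10716
theorem N2766 : nd 2766 = n10717 := ndS (p := 2518) (l := 6) rfl N2518 D10717
theorem N2767 : nd 2767 = n10718 := ndS (p := 2519) (l := 3) rfl N2519 D10718
theorem N2768 : nd 2768 = n10719 := ndS (p := 2519) (l := 5) rfl N2519 D10719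
theorem N2769 : nd 2769 = n10720 := ndS (p := 2519) (l := 6) rfl N2519 D10720
theorem N2770 : nd 2770 = n10721 := ndS (p := 2520) (l := 7) rfl N2520 D10721
theorem N2771 : nd 2771 = n10726 := ndS (p := 2526) (l := 3) rfl N2526 D10726
theorem N2772 : nd 2772 = n10727 := ndS (p := 2526) (l := 5) rfl N2526 D10727
theorem N2773 : nd 2773 = n10728 := ndS (p := 2526) (l := 6) rfl N2526 D10728
theorem N2774 : nd 2774 = n10729 := ndS (p := 2527) (l := 2) rfl N2527 D10729
theorem N2775 : nd 2775 = n10730 := ndS (p := 2527) (l := 7) rfl N2527 D10730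
theorem N2776 : nd 2776 = n10801 := ndS (p := 2532) (l := 4) rfl N2532 D10801
theorem N2777 : nd 2777 = n10802 := ndS (p := 2532) (l := 6) rfl N2532 D10802
theorem N2778 : nd 2778 = n10803 := ndS (p := 2533) (l := 3) rfl N2533 D10803
theorem N2779 : nd 2779 = n10804 := ndS (p := 2533) (l := 5) rfl N2533 D10804
theorem N2780 : nd 2780 = n10805 := ndS (p := 2533) (l := 6) rfl N2533 D10805
theorem N2781 : nd 2781 = n10806 := ndS (p := 2534) (l := 7) rfl N2534 D10806
theorem N2782 : nd 2782 = n10807 := ndS (p := 2536) (l := 5) rfl N2536 D10807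
theorem N2783 : nd 2783 = n10808 := ndS (p := 2536) (l := 6) rfl N2536 D10808
theorem N2784 : nd 2784 = n10809 := ndS (p := 2537) (l := 6) rfl N2537 D10809
theorem N2785 : nd 2785 = n10810 := ndS (p := 2538) (l := 7) rfl N2538 D10810
theorem N2786 : nd 2786 = n10819 := ndS (p := 2540) (l := 4) rfl N2540 D10819
theorem N2787 : nd 2787 = n10820 := ndS (p := 2540) (l := 6) rfl N2540 D10820
theorem N2788 : nd 2788 = n10821 := ndS (p := 2541) (l := 3) rfl N2541 D10821
theorem N2789 : nd 2789 = n10822 := ndS (p := 2541) (l := 5) rfl N2541 D10822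
theorem N2790 : nd 2790 = n10823 := ndS (p := 2541) (l := 6) rfl N2541 D10823
theorem N2791 : nd 2791 = n10824 := ndS (p := 2542) (l := 7) rfl N2542 D10824
theorem N2792 : nd 2792 = n10825 := ndS (p := 2544) (l := 5) rfl N2544 D10825
theorem N2793 : nd 2793 = n10827 := ndS (p := 2545) (l := 6) rfl N2545 D10827
theorem N2794 : nd 2794 = n10828 := ndS (p := 2546) (l := 7) rfl N2546 D10828
theorem N2795 : nd 2795 = n10829 := ndS (p := 2548) (l := 4) rfl N2548 D10829
theorem N2796 : nd 2796 = n10830 := ndS (p := 2548) (l := 6) rfl N2548 D10830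
theorem N2797 : nd 2797 = n10831 := ndS (p := 2549) (l := 3) rfl N2549 D10831
theorem N2798 : nd 2798 = n10832 := ndS (p := 2549) (l := 5) rfl N2549 D10832
theorem N2799 : nd 2799 = n10833 := ndS (p := 2549) (l := 6) rfl N2549 D10833
theorem N2800 : nd 2800 = n10834 := ndS (p := 2550) (l := 7) rfl N2550 D10834
theorem N2801 : nd 2801 = n10839 := ndS (p := 2556) (l := 3) rfl N2556 D10839
theorem N2802 : nd 2802 = n10840 := ndS (p := 2556) (l := 5) rfl N2556 D10840
theorem N2803 : nd 2803 = n10841 := ndS (p := 2556) (l := 6) rfl N2556 D10841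
theorem N2804 : nd 2804 = n10842 := ndS (p := 2557) (l := 2) rfl N2557 D10842
theorem N2805 : nd 2805 = n10843 := ndS (p := 2557) (l := 7) rfl N2557 D10843
theorem N2806 : nd 2806 = n10844 := ndS (p := 2558) (l := 5) rfl N2558 D10844
theorem N2807 : nd 2807 = n10845 := ndS (p := 2558) (l := 6) rfl N2558 D10845
theorem N2808 : nd 2808 = n10846 := ndS (p := 2559) (l := 6) rfl N2559 D10846
theorem N2809 : nd 2809 = n10847 := ndS (p := 2560) (l := 7) rfl N2560 D10847
theorem N2810 : nd 2810 = n10852 := ndS (p := 2566) (l := 3) rfl N2566 D10852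
theorem N2811 : nd 2811 = n10853 := ndS (p := 2566) (l := 5) rfl N2566 D10853
theorem N2812 : nd 2812 = n10854 := ndS (p := 2566) (l := 6) rfl N2566 D10854
theorem N2813 : nd 2813 = n10855 := ndS (p := 2567) (l := 2) rfl N2567 D10855
theorem N2814 : nd 2814 = n10862 := ndS (p := 2571) (l := 2) rfl N2571 D10862
theorem N2815 : nd 2815 = n10863 := ndS (p := 2571) (l := 5) rfl N2571 D10863
theorem N2816 : nd 2816 = n10865 := ndS (p := 2574) (l := 3) rfl N2574 D10865
theorem N2817 : nd 2817 = n10866 := ndS (p := 2574) (l := 5) rfl N2574 D10866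
theorem N2818 : nd 2818 = n10867 := ndS (p := 2574) (l := 6) rfl N2574 D10867
theorem N2819 : nd 2819 = n10868 := ndS (p := 2575) (l := 2) rfl N2575 D10868
theorem N2820 : nd 2820 = n10869 := ndS (p := 2575) (l := 7) rfl N2575 D10869
theorem N2821 : nd 2821 = n10870 := ndS (p := 2576) (l := 5) rfl N2576 D10870
theorem N2822 : nd 2822 = n10872 := ndS (p := 2577) (l := 6) rfl N2577 D10872
theorem N2823 : nd 2823 = n10873 := ndS (p := 2578) (l := 7) rfl N2578 D10873
theorem N2824 : nd 2824 = n10877 := ndS (p := 2581) (l := 7) rfl N2581 D10877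
theorem N2825 : nd 2825 = n10878 := ndS (p := 2583) (l := 6) rfl N2583 D10878
theorem N2826 : nd 2826 = n10879 := ndS (p := 2584) (l := 2) rfl N2584 D10879
theorem N2827 : nd 2827 = n10880 := ndS (p := 2584) (l := 7) rfl N2584 D10880
theorem N2828 : nd 2828 = n10881 := ndS (p := 2585) (l := 3) rfl N2585 D10881
theorem N2829 : nd 2829 = n10882 := ndS (p := 2585) (l := 7) rfl N2585 D10882
theorem N2830 : nd 2830 = n10883 := ndS (p := 2587) (l := 7) rfl N2587 D10883
theorem N2831 : nd 2831 = n10884 := ndS (p := 2590) (l := 2) rfl N2590 D10884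
theorem N2832 : nd 2832 = n10986 := ndS (p := 2594) (l := 1) rfl N2594 D10986
theorem N2833 : nd 2833 = n10987 := ndS (p := 2594) (l := 4) rfl N2594 D10987
theorem N2834 : nd 2834 = n10988 := ndS (p := 2594) (l := 6) rfl N2594 D10988
theorem N2835 : nd 2835 = n11009 := ndS (p := 2598) (l := 1) rfl N2598 D11009
theorem N2836 : nd 2836 = n11010 := ndS (p := 2598) (l := 4) rfl N2598 D11010
theorem N2837 : nd 2837 = n11011 := ndS (p := 2598) (l := 6) rfl N2598 D11011
theorem N2838 : nd 2838 = n11031 := ndS (p := 2602) (l := 1) rfl N2602 D11031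
theorem N2839 : nd 2839 = n11032 := ndS (p := 2602) (l := 4) rfl N2602 D11032
theorem N2840 : nd 2840 = n11033 := ndS (p := 2602) (l := 6) rfl N2602 D11033
theorem N2841 : nd 2841 = n11039 := ndS (p := 2606) (l := 4) rfl N2606 D11039
theorem N2842 : nd 2842 = n11040 := ndS (p := 2606) (l := 6) rfl N2606 D11040
theorem N2843 : nd 2843 = n11042 := ndS (p := 2607) (l := 5) rfl N2607 D11042
theorem N2844 : nd 2844 = n11044 := ndS (p := 2608) (l := 7) rfl N2608 D11044
theorem N2845 : nd 2845 = n11069 := ndS (p := 2613) (l := 4) rfl N2613 D11069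
theorem N2846 : nd 2846 = n11072 := ndS (p := 2614) (l := 5) rfl N2614 D11072
theorem N2847 : nd 2847 = n11080 := ndS (p := 2617) (l := 5) rfl N2617 D11080
theorem N2848 : nd 2848 = n11123 := ndS (p := 2619) (l := 4) rfl N2619 D11123
theorem N2849 : nd 2849 = n11124 := ndS (p := 2619) (l := 6) rfl N2619 D11124
theorem N2850 : nd 2850 = n11141 := ndS (p := 2622) (l := 4) rfl N2622 D11141
theorem N2851 : nd 2851 = n11142 := ndS (p := 2622) (l := 6) rfl N2622 D11142
theorem N2852 : nd 2852 = n11143 := ndS (p := 2623) (l := 3) rfl N2623 D11143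
theorem N2853 : nd 2853 = n11146 := ndS (p := 2624) (l := 7) rfl N2624 D11146
theorem N2854 : nd 2854 = n11151 := ndS (p := 2627) (l := 4) rfl N2627 D11151
theorem N2855 : nd 2855 = n11152 := ndS (p := 2627) (l := 6) rfl N2627 D11152
theorem N2856 : nd 2856 = n11155 := ndS (p := 2628) (l := 6) rfl N2628 D11155
theorem N2857 : nd 2857 = n11156 := ndS (p := 2629) (l := 7) rfl N2629 D11156
theorem N2858 : nd 2858 = n11165 := ndS (p := 2633) (l := 7) rfl N2633 D11165
theorem N2859 : nd 2859 = n11286 := ndS (p := 2638) (l := 4) rfl N2638 D11286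
theorem N2860 : nd 2860 = n11287 := ndS (p := 2638) (l := 6) rfl N2638 D11287
theorem N2861 : nd 2861 = n11288 := ndS (p := 2639) (l := 3) rfl N2639 D11288
theorem N2862 : nd 2862 = n11289 := ndS (p := 2639) (l := 5) rfl N2639 D11289
theorem N2863 : nd 2863 = n11290 := ndS (p := 2639) (l := 6) rfl N2639 D11290
theorem N2864 : nd 2864 = n11291 := ndS (p := 2640) (l := 7) rfl N2640 D11291
theorem N2865 : nd 2865 = n11296 := ndS (p := 2646) (l := 3) rfl N2646 D11296
theorem N2866 : nd 2866 = n11297 := ndS (p := 2646) (l := 5) rfl N2646 D11297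
theorem N2867 : nd 2867 = n11298 := ndS (p := 2646) (l := 6) rfl N2646 D11298
theorem N2868 : nd 2868 = n11300 := ndS (p := 2647) (l := 7) rfl N2647 D11300
theorem N2869 : nd 2869 = n11301 := ndS (p := 2648) (l := 5) rfl N2648 D11301
theorem N2870 : nd 2870 = n11302 := ndS (p := 2648) (l := 6) rfl N2648 D11302
theorem N2871 : nd 2871 = n11311 := ndS (p := 2654) (l := 6) rfl N2654 D11311
theorem N2872 : nd 2872 = n11334 := ndS (p := 2656) (l := 3) rfl N2656 D11334
theorem N2873 : nd 2873 = n11335 := ndS (p := 2656) (l := 5) rfl N2656 D11335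
theorem N2874 : nd 2874 = n11336 := ndS (p := 2656) (l := 6) rfl N2656 D11336
theorem N2875 : nd 2875 = n11337 := ndS (p := 2657) (l := 2) rfl N2657 D11337
theorem N2876 : nd 2876 = n11338 := ndS (p := 2657) (l := 7) rfl N2657 D11338
theorem N2877 : nd 2877 = n11342 := ndS (p := 2660) (l := 7) rfl N2660 D11342
theorem N2878 : nd 2878 = n11348 := ndS (p := 2663) (l := 2) rfl N2663 D11348
theorem N2879 : nd 2879 = n11349 := ndS (p := 2663) (l := 5) rfl N2663 D11349
theorem N2880 : nd 2880 = n11350 := ndS (p := 2663) (l := 6) rfl N2663 D11350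
theorem N2881 : nd 2881 = n11353 := ndS (p := 2665) (l := 7) rfl N2665 D11353
theorem N2882 : nd 2882 = n11358 := ndS (p := 2668) (l := 7) rfl N2668 D11358
theorem N2883 : nd 2883 = n11362 := ndS (p := 2671) (l := 2) rfl N2671 D11362
theorem N2884 : nd 2884 = n11375 := ndS (p := 2673) (l := 6) rfl N2673 D11375
theorem N2885 : nd 2885 = n11445 := ndS (p := 2674) (l := 1) rfl N2674 D11445
theorem N2886 : nd 2886 = n12298 := ndS (p := 2677) (l := 4) rfl N2677 D12298
theorem N2887 : nd 2887 = n12299 := ndS (p := 2677) (l := 6) rfl N2677 D12299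
theorem N2888 : nd 2888 = n12329 := ndS (p := 2680) (l := 6) rfl N2680 D12329
theorem N2889 : nd 2889 = n12341 := ndS (p := 2682) (l := 2) rfl N2682 D12341
theorem N2890 : nd 2890 = n12342 := ndS (p := 2682) (l := 7) rfl N2682 D12342
theorem N2891 : nd 2891 = n12410 := ndS (p := 2684) (l := 4) rfl N2684 D12410
theorem N2892 : nd 2892 = n12411 := ndS (p := 2684) (l := 6) rfl N2684 D12411
theorem N2893 : nd 2893 = n12420 := ndS (p := 2687) (l := 3) rfl N2687 D12420
theorem N2894 : nd 2894 = n12424 := ndS (p := 2688) (l := 7) rfl N2688 D12424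
theorem N2895 : nd 2895 = n12436 := ndS (p := 2691) (l := 6) rfl N2691 D12436
theorem N2896 : nd 2896 = n12437 := ndS (p := 2692) (l := 2) rfl N2692 D12437
theorem N2897 : nd 2897 = n12438 := ndS (p := 2692) (l := 7) rfl N2692 D12438
theorem N2898 : nd 2898 = n12571 := ndS (p := 2696) (l := 2) rfl N2696 D12571
theorem N2899 : nd 2899 = n12604 := ndS (p := 2699) (l := 2) rfl N2699 D12604
theorem N2900 : nd 2900 = n12605 := ndS (p := 2699) (l := 7) rfl N2699 D12605
theorem N2901 : nd 2901 = n12606 := ndS (p := 2700) (l := 3) rfl N2700 D12606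
theorem N2902 : nd 2902 = n12607 := ndS (p := 2700) (l := 7) rfl N2700 D12607
theorem N2903 : nd 2903 = n12622 := ndS (p := 2704) (l := 2) rfl N2704 D12622
theorem N2904 : nd 2904 = n12623 := ndS (p := 2704) (l := 7) rfl N2704 D12623
theorem N2905 : nd 2905 = n13750 := ndS (p := 2707) (l := 4) rfl N2707 D13750
theorem N2906 : nd 2906 = n13751 := ndS (p := 2707) (l := 6) rfl N2707 D13751
theorem N2907 : nd 2907 = n13752 := ndS (p := 2708) (l := 3) rfl N2708 D13752
theorem N2908 : nd 2908 = n13753 := ndS (p := 2708) (l := 5) rfl N2708 D13753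
theorem N2909 : nd 2909 = n13754 := ndS (p := 2708) (l := 6) rfl N2708 D13754
theorem N2910 : nd 2910 = n13755 := ndS (p := 2709) (l := 7) rfl N2709 D13755
theorem N2911 : nd 2911 = n13780 := ndS (p := 2715) (l := 4) rfl N2715 D13780
theorem N2912 : nd 2912 = n13781 := ndS (p := 2715) (l := 6) rfl N2715 D13781
theorem N2913 : nd 2913 = n13790 := ndS (p := 2719) (l := 3) rfl N2719 D13790
theorem N2914 : nd 2914 = n13791 := ndS (p := 2719) (l := 5) rfl N2719 D13791
theorem N2915 : nd 2915 = n13792 := ndS (p := 2719) (l := 6) rfl N2719 D13792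
theorem N2916 : nd 2916 = n13793 := ndS (p := 2720) (l := 2) rfl N2720 D13793
theorem N2917 : nd 2917 = n13794 := ndS (p := 2720) (l := 7) rfl N2720 D13794
theorem N2918 : nd 2918 = n13860 := ndS (p := 2725) (l := 4) rfl N2725 D13860
theorem N2919 : nd 2919 = n13861 := ndS (p := 2725) (l := 6) rfl N2725 D13861
theorem N2920 : nd 2920 = n13862 := ndS (p := 2726) (l := 3) rfl N2726 D13862
theorem N2921 : nd 2921 = n13863 := ndS (p := 2726) (l := 5) rfl N2726 D13863
theorem N2922 : nd 2922 = n13864 := ndS (p := 2726) (l := 6) rfl N2726 D13864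
theorem N2923 : nd 2923 = n13865 := ndS (p := 2727) (l := 7) rfl N2727 D13865
theorem N2924 : nd 2924 = n13878 := ndS (p := 2733) (l := 4) rfl N2733 D13878
theorem N2925 : nd 2925 = n13879 := ndS (p := 2733) (l := 6) rfl N2733 D13879
theorem N2926 : nd 2926 = n13880 := ndS (p := 2734) (l := 3) rfl N2734 D13880
theorem N2927 : nd 2927 = n13881 := ndS (p := 2734) (l := 5) rfl N2734 D13881
theorem N2928 : nd 2928 = n13882 := ndS (p := 2734) (l := 6) rfl N2734 D13882
theorem N2929 : nd 2929 = n13883 := ndS (p := 2735) (l := 7) rfl N2735 D13883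
theorem N2930 : nd 2930 = n13888 := ndS (p := 2741) (l := 4) rfl N2741 D13888
theorem N2931 : nd 2931 = n13889 := ndS (p := 2741) (l := 6) rfl N2741 D13889
theorem N2932 : nd 2932 = n13890 := ndS (p := 2742) (l := 3) rfl N2742 D13890
theorem N2933 : nd 2933 = n13891 := ndS (p := 2742) (l := 5) rfl N2742 D13891
theorem N2934 : nd 2934 = n13892 := ndS (p := 2742) (l := 6) rfl N2742 D13892
theorem N2935 : nd 2935 = n13893 := ndS (p := 2743) (l := 7) rfl N2743 D13893
theorem N2936 : nd 2936 = n13898 := ndS (p := 2749) (l := 3) rfl N2749 D13898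
theorem N2937 : nd 2937 = n13899 := ndS (p := 2749) (l := 5) rfl N2749 D13899
theorem N2938 : nd 2938 = n13900 := ndS (p := 2749) (l := 6) rfl N2749 D13900
theorem N2939 : nd 2939 = n13901 := ndS (p := 2750) (l := 2) rfl N2750 D13901
theorem N2940 : nd 2940 = n13902 := ndS (p := 2750) (l := 7) rfl N2750 D13902
theorem N2941 : nd 2941 = n13912 := ndS (p := 2755) (l := 3) rfl N2755 D13912
theorem N2942 : nd 2942 = n13913 := ndS (p := 2755) (l := 5) rfl N2755 D13913
theorem N2943 : nd 2943 = n13914 := ndS (p := 2755) (l := 6) rfl N2755 D13914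
theorem N2944 : nd 2944 = n13915 := ndS (p := 2756) (l := 2) rfl N2756 D13915
theorem N2945 : nd 2945 = n13916 := ndS (p := 2756) (l := 7) rfl N2756 D13916
theorem N2946 : nd 2946 = n13926 := ndS (p := 2761) (l := 2) rfl N2761 D13926
theorem N2947 : nd 2947 = n13941 := ndS (p := 2765) (l := 3) rfl N2765 D13941
theorem N2948 : nd 2948 = n13942 := ndS (p := 2765) (l := 5) rfl N2765 D13942
theorem N2949 : nd 2949 = n13943 := ndS (p := 2765) (l := 6) rfl N2765 D13943
theorem N2950 : nd 2950 = n13944 := ndS (p := 2766) (l := 2) rfl N2766 D13944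
theorem N2951 : nd 2951 = n13945 := ndS (p := 2766) (l := 7) rfl N2766 D13945
theorem N2952 : nd 2952 = n13958 := ndS (p := 2773) (l := 2) rfl N2773 D13958
theorem N2953 : nd 2953 = n13960 := ndS (p := 2774) (l := 3) rfl N2774 D13960
theorem N2954 : nd 2954 = n13961 := ndS (p := 2774) (l := 7) rfl N2774 D13961
theorem N2955 : nd 2955 = n14053 := ndS (p := 2776) (l := 3) rfl N2776 D14053
theorem N2956 : nd 2956 = n14054 := ndS (p := 2776) (l := 5) rfl N2776 D14054
theorem N2957 : nd 2957 = n14055 := ndS (p := 2776) (l := 6) rfl N2776 D14055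
theorem N2958 : nd 2958 = n14056 := ndS (p := 2777) (l := 2) rfl N2777 D14056
theorem N2959 : nd 2959 = n14057 := ndS (p := 2777) (l := 7) rfl N2777 D14057
theorem N2960 : nd 2960 = n14058 := ndS (p := 2778) (l := 5) rfl N2778 D14058
theorem N2961 : nd 2961 = n14059 := ndS (p := 2778) (l := 6) rfl N2778 D14059
theorem N2962 : nd 2962 = n14060 := ndS (p := 2779) (l := 6) rfl N2779 D14060
theorem N2963 : nd 2963 = n14061 := ndS (p := 2780) (l := 7) rfl N2780 D14061
theorem N2964 : nd 2964 = n14077 := ndS (p := 2786) (l := 3) rfl N2786 D14077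
theorem N2965 : nd 2965 = n14078 := ndS (p := 2786) (l := 5) rfl N2786 D14078
theorem N2966 : nd 2966 = n14079 := ndS (p := 2786) (l := 6) rfl N2786 D14079
theorem N2967 : nd 2967 = n14080 := ndS (p := 2787) (l := 2) rfl N2787 D14080
theorem N2968 : nd 2968 = n14081 := ndS (p := 2787) (l := 7) rfl N2787 D14081
theorem N2969 : nd 2969 = n14082 := ndS (p := 2788) (l := 5) rfl N2788 D14082
theorem N2970 : nd 2970 = n14084 := ndS (p := 2789) (l := 6) rfl N2789 D14084
theorem N2971 : nd 2971 = n14085 := ndS (p := 2790) (l := 7) rfl N2790 D14085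
theorem N2972 : nd 2972 = n14091 := ndS (p := 2795) (l := 3) rfl N2795 D14091
theorem N2973 : nd 2973 = n14092 := ndS (p := 2795) (l := 5) rfl N2795 D14092
theorem N2974 : nd 2974 = n14093 := ndS (p := 2795) (l := 6) rfl N2795 D14093
theorem N2975 : nd 2975 = n14094 := ndS (p := 2796) (l := 2) rfl N2796 D14094
theorem N2976 : nd 2976 = n14095 := ndS (p := 2796) (l := 7) rfl N2796 D14095
theorem N2977 : nd 2977 = n14105 := ndS (p := 2801) (l := 2) rfl N2801 D14105
theorem N2978 : nd 2978 = n14106 := ndS (p := 2801) (l := 5) rfl N2801 D14106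
theorem N2979 : nd 2979 = n14107 := ndS (p := 2801) (l := 6) rfl N2801 D14107
theorem N2980 : nd 2980 = n14108 := ndS (p := 2802) (l := 6) rfl N2802 D14108
theorem N2981 : nd 2981 = n14109 := ndS (p := 2803) (l := 2) rfl N2803 D14109
theorem N2982 : nd 2982 = n14110 := ndS (p := 2803) (l := 7) rfl N2803 D14110
theorem N2983 : nd 2983 = n14111 := ndS (p := 2804) (l := 3) rfl N2804 D14111
theorem N2984 : nd 2984 = n14112 := ndS (p := 2804) (l := 7) rfl N2804 D14112
theorem N2985 : nd 2985 = n14119 := ndS (p := 2810) (l := 2) rfl N2810 D14119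
theorem N2986 : nd 2986 = n14123 := ndS (p := 2812) (l := 2) rfl N2812 D14123
theorem N2987 : nd 2987 = n14131 := ndS (p := 2814) (l := 5) rfl N2814 D14131
theorem N2988 : nd 2988 = n14132 := ndS (p := 2814) (l := 6) rfl N2814 D14132
theorem N2989 : nd 2989 = n14134 := ndS (p := 2816) (l := 2) rfl N2816 D14134
theorem N2990 : nd 2990 = n14135 := ndS (p := 2816) (l := 5) rfl N2816 D14135
theorem N2991 : nd 2991 = n14137 := ndS (p := 2817) (l := 6) rfl N2817 D14137
theorem N2992 : nd 2992 = n14138 := ndS (p := 2818) (l := 2) rfl N2818 D14138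
theorem N2993 : nd 2993 = n14139 := ndS (p := 2818) (l := 7) rfl N2818 D14139
theorem N2994 : nd 2994 = n14141 := ndS (p := 2819) (l := 7) rfl N2819 D14141
theorem N2995 : nd 2995 = n14145 := ndS (p := 2822) (l := 7) rfl N2822 D14145
theorem N2996 : nd 2996 = n14150 := ndS (p := 2825) (l := 2) rfl N2825 D14150
theorem N2997 : nd 2997 = n14151 := ndS (p := 2825) (l := 7) rfl N2825 D14151
theorem N2998 : nd 2998 = n14152 := ndS (p := 2826) (l := 3) rfl N2826 D14152
theorem N2999 : nd 2999 = n14153 := ndS (p := 2826) (l := 7) rfl N2826 D14153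
theorem N3000 : nd 3000 = n14299 := ndS (p := 2832) (l := 4) rfl N2832 D14299
theorem N3001 : nd 3001 = n14300 := ndS (p := 2832) (l := 6) rfl N2832 D14300
theorem N3002 : nd 3002 = n14331 := ndS (p := 2835) (l := 4) rfl N2835 D14331
theorem N3003 : nd 3003 = n14332 := ndS (p := 2835) (l := 6) rfl N2835 D14332
theorem N3004 : nd 3004 = n14361 := ndS (p := 2838) (l := 4) rfl N2838 D14361
theorem N3005 : nd 3005 = n14362 := ndS (p := 2838) (l := 6) rfl N2838 D14362
theorem N3006 : nd 3006 = n14372 := ndS (p := 2841) (l := 5) rfl N2841 D14372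
theorem N3007 : nd 3007 = n14374 := ndS (p := 2842) (l := 2) rfl N2842 D14374
theorem N3008 : nd 3008 = n14375 := ndS (p := 2842) (l := 7) rfl N2842 D14375
theorem N3009 : nd 3009 = n14413 := ndS (p := 2845) (l := 5) rfl N2845 D14413
theorem N3010 : nd 3010 = n14508 := ndS (p := 2850) (l := 3) rfl N2850 D14508
theorem N3011 : nd 3011 = n14512 := ndS (p := 2851) (l := 7) rfl N2851 D14512
theorem N3012 : nd 3012 = n14524 := ndS (p := 2854) (l := 6) rfl N2854 D14524
theorem N3013 : nd 3013 = n14525 := ndS (p := 2855) (l := 2) rfl N2855 D14525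
theorem N3014 : nd 3014 = n14526 := ndS (p := 2855) (l := 7) rfl N2855 D14526
theorem N3015 : nd 3015 = n14698 := ndS (p := 2859) (l := 3) rfl N2859 D14698
theorem N3016 : nd 3016 = n14699 := ndS (p := 2859) (l := 5) rfl N2859 D14699
theorem N3017 : nd 3017 = n14700 := ndS (p := 2859) (l := 6) rfl N2859 D14700
theorem N3018 : nd 3018 = n14701 := ndS (p := 2860) (l := 2) rfl N2860 D14701
theorem N3019 : nd 3019 = n14702 := ndS (p := 2860) (l := 7) rfl N2860 D14702
theorem N3020 : nd 3020 = n14712 := ndS (p := 2865) (l := 2) rfl N2865 D14712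
theorem N3021 : nd 3021 = n14713 := ndS (p := 2865) (l := 5) rfl N2865 D14713
theorem N3022 : nd 3022 = n14714 := ndS (p := 2865) (l := 6) rfl N2865 D14714
theorem N3023 : nd 3023 = n14732 := ndS (p := 2871) (l := 2) rfl N2871 D14732
theorem N3024 : nd 3024 = n14761 := ndS (p := 2872) (l := 2) rfl N2872 D14761
theorem N3025 : nd 3025 = n14765 := ndS (p := 2874) (l := 2) rfl N2874 D14765
theorem N3026 : nd 3026 = n14766 := ndS (p := 2874) (l := 7) rfl N2874 D14766
theorem N3027 : nd 3027 = n14767 := ndS (p := 2875) (l := 3) rfl N2875 D14767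
theorem N3028 : nd 3028 = n14768 := ndS (p := 2875) (l := 7) rfl N2875 D14768
theorem N3029 : nd 3029 = n14780 := ndS (p := 2878) (l := 6) rfl N2878 D14780
theorem N3030 : nd 3030 = n14783 := ndS (p := 2880) (l := 2) rfl N2880 D14783
theorem N3031 : nd 3031 = n14784 := ndS (p := 2880) (l := 7) rfl N2880 D14784
theorem N3032 : nd 3032 = n14811 := ndS (p := 2884) (l := 7) rfl N2884 D14811
theorem N3033 : nd 3033 = n16004 := ndS (p := 2887) (l := 2) rfl N2887 D16004
theorem N3034 : nd 3034 = n16062 := ndS (p := 2889) (l := 3) rfl N2889 D16062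
theorem N3035 : nd 3035 = n16063 := ndS (p := 2889) (l := 7) rfl N2889 D16063
theorem N3036 : nd 3036 = n16155 := ndS (p := 2892) (l := 2) rfl N2892 D16155
theorem N3037 : nd 3037 = n16188 := ndS (p := 2895) (l := 2) rfl N2895 D16188
theorem N3038 : nd 3038 = n16190 := ndS (p := 2896) (l := 3) rfl N2896 D16190
theorem N3039 : nd 3039 = n16191 := ndS (p := 2896) (l := 7) rfl N2896 D16191
theorem N3040 : nd 3040 = n16362 := ndS (p := 2898) (l := 3) rfl N2898 D16362
theorem N3041 : nd 3041 = n16408 := ndS (p := 2899) (l := 7) rfl N2899 D16408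
theorem N3042 : nd 3042 = n16431 := ndS (p := 2903) (l := 7) rfl N2903 D16431
theorem N3043 : nd 3043 = n17858 := ndS (p := 2905) (l := 3) rfl N2905 D17858
theorem N3044 : nd 3044 = n17859 := ndS (p := 2905) (l := 5) rfl N2905 D17859
theorem N3045 : nd 3045 = n17860 := ndS (p := 2905) (l := 6) rfl N2905 D17860
theorem N3046 : nd 3046 = n17861 := ndS (p := 2906) (l := 2) rfl N2906 D17861
theorem N3047 : nd 3047 = n17862 := ndS (p := 2906) (l := 7) rfl N2906 D17862
theorem N3048 : nd 3048 = n17913 := ndS (p := 2913) (l := 2) rfl N2913 D17913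
theorem N3049 : nd 3049 = n17917 := ndS (p := 2915) (l := 2) rfl N2915 D17917
theorem N3050 : nd 3050 = n17919 := ndS (p := 2916) (l := 7) rfl N2916 D17919
theorem N3051 : nd 3051 = n18007 := ndS (p := 2918) (l := 3) rfl N2918 D18007
theorem N3052 : nd 3052 = n18008 := ndS (p := 2918) (l := 5) rfl N2918 D18008
theorem N3053 : nd 3053 = n18009 := ndS (p := 2918) (l := 6) rfl N2918 D18009
theorem N3054 : nd 3054 = n18010 := ndS (p := 2919) (l := 2) rfl N2919 D18010
theorem N3055 : nd 3055 = n18011 := ndS (p := 2919) (l := 7) rfl N2919 D18011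
theorem N3056 : nd 3056 = n18031 := ndS (p := 2924) (l := 3) rfl N2924 D18031
theorem N3057 : nd 3057 = n18032 := ndS (p := 2924) (l := 5) rfl N2924 D18032
theorem N3058 : nd 3058 = n18033 := ndS (p := 2924) (l := 6) rfl N2924 D18033
theorem N3059 : nd 3059 = n18034 := ndS (p := 2925) (l := 2) rfl N2925 D18034
theorem N3060 : nd 3060 = n18035 := ndS (p := 2925) (l := 7) rfl N2925 D18035
theorem N3061 : nd 3061 = n18045 := ndS (p := 2930) (l := 3) rfl N2930 D18045
theorem N3062 : nd 3062 = n18046 := ndS (p := 2930) (l := 5) rfl N2930 D18046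
theorem N3063 : nd 3063 = n18047 := ndS (p := 2930) (l := 6) rfl N2930 D18047
theorem N3064 : nd 3064 = n18048 := ndS (p := 2931) (l := 2) rfl N2931 D18048
theorem N3065 : nd 3065 = n18049 := ndS (p := 2931) (l := 7) rfl N2931 D18049
theorem N3066 : nd 3066 = n18059 := ndS (p := 2936) (l := 2) rfl N2936 D18059
theorem N3067 : nd 3067 = n18063 := ndS (p := 2938) (l := 2) rfl N2938 D18063
theorem N3068 : nd 3068 = n18065 := ndS (p := 2939) (l := 3) rfl N2939 D18065
theorem N3069 : nd 3069 = n18066 := ndS (p := 2939) (l := 7) rfl N2939 D18066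
theorem N3070 : nd 3070 = n18077 := ndS (p := 2941) (l := 2) rfl N2941 D18077
theorem N3071 : nd 3071 = n18081 := ndS (p := 2943) (l := 2) rfl N2943 D18081
theorem N3072 : nd 3072 = n18084 := ndS (p := 2944) (l := 7) rfl N2944 D18084
theorem N3073 : nd 3073 = n18114 := ndS (p := 2947) (l := 2) rfl N2947 D18114
theorem N3074 : nd 3074 = n18118 := ndS (p := 2949) (l := 2) rfl N2949 D18118
theorem N3075 : nd 3075 = n18121 := ndS (p := 2950) (l := 7) rfl N2950 D18121
theorem N3076 : nd 3076 = n18140 := ndS (p := 2953) (l := 4) rfl N2953 D18140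
theorem N3077 : nd 3077 = n18141 := ndS (p := 2953) (l := 7) rfl N2953 D18141
theorem N3078 : nd 3078 = n18262 := ndS (p := 2955) (l := 2) rfl N2955 D18262
theorem N3079 : nd 3079 = n18263 := ndS (p := 2955) (l := 5) rfl N2955 D18263
theorem N3080 : nd 3080 = n18264 := ndS (p := 2955) (l := 6) rfl N2955 D18264
theorem N3081 : nd 3081 = n18265 := ndS (p := 2956) (l := 6) rfl N2956 D18265
theorem N3082 : nd 3082 = n18266 := ndS (p := 2957) (l := 2) rfl N2957 D18266
theorem N3083 : nd 3083 = n18267 := ndS (p := 2957) (l := 7) rfl N2957 D18267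
theorem N3084 : nd 3084 = n18268 := ndS (p := 2958) (l := 3) rfl N2958 D18268
theorem N3085 : nd 3085 = n18269 := ndS (p := 2958) (l := 7) rfl N2958 D18269
theorem N3086 : nd 3086 = n18293 := ndS (p := 2964) (l := 2) rfl N2964 D18293
theorem N3087 : nd 3087 = n18294 := ndS (p := 2964) (l := 5) rfl N2964 D18294
theorem N3088 : nd 3088 = n18296 := ndS (p := 2965) (l := 6) rfl N2965 D18296
theorem N3089 : nd 3089 = n18297 := ndS (p := 2966) (l := 2) rfl N2966 D18297
theorem N3090 : nd 3090 = n18298 := ndS (p := 2966) (l := 7) rfl N2966 D18298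
theorem N3091 : nd 3091 = n18300 := ndS (p := 2967) (l := 7) rfl N2967 D18300
theorem N3092 : nd 3092 = n18311 := ndS (p := 2972) (l := 2) rfl N2972 D18311
theorem N3093 : nd 3093 = n18315 := ndS (p := 2974) (l := 2) rfl N2974 D18315
theorem N3094 : nd 3094 = n18317 := ndS (p := 2975) (l := 3) rfl N2975 D18317
theorem N3095 : nd 3095 = n18318 := ndS (p := 2975) (l := 7) rfl N2975 D18318
theorem N3096 : nd 3096 = n18329 := ndS (p := 2977) (l := 5) rfl N2977 D18329
theorem N3097 : nd 3097 = n18330 := ndS (p := 2977) (l := 6) rfl N2977 D18330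
theorem N3098 : nd 3098 = n18333 := ndS (p := 2979) (l := 2) rfl N2979 D18333
theorem N3099 : nd 3099 = n18335 := ndS (p := 2980) (l := 2) rfl N2980 D18335
theorem N3100 : nd 3100 = n18337 := ndS (p := 2981) (l := 3) rfl N2981 D18337
theorem N3101 : nd 3101 = n18338 := ndS (p := 2981) (l := 7) rfl N2981 D18338
theorem N3102 : nd 3102 = n18346 := ndS (p := 2985) (l := 6) rfl N2985 D18346
theorem N3103 : nd 3103 = n18351 := ndS (p := 2986) (l := 3) rfl N2986 D18351
theorem N3104 : nd 3104 = n18360 := ndS (p := 2987) (l := 6) rfl N2987 D18360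
theorem N3105 : nd 3105 = n18368 := ndS (p := 2991) (l := 7) rfl N2991 D18368
theorem N3106 : nd 3106 = n18370 := ndS (p := 2992) (l := 7) rfl N2992 D18370
theorem N3107 : nd 3107 = n18373 := ndS (p := 2994) (l := 6) rfl N2994 D18373
theorem N3108 : nd 3108 = n18384 := ndS (p := 2996) (l := 7) rfl N2996 D18384
theorem N3109 : nd 3109 = n18588 := ndS (p := 3001) (l := 2) rfl N3001 D18588
theorem N3110 : nd 3110 = n18632 := ndS (p := 3003) (l := 2) rfl N3003 D18632
theorem N3111 : nd 3111 = n18690 := ndS (p := 3007) (l := 3) rfl N3007 D18690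
theorem N3112 : nd 3112 = n18691 := ndS (p := 3007) (l := 7) rfl N3007 D18691
theorem N3113 : nd 3113 = n18890 := ndS (p := 3012) (l := 2) rfl N3012 D18890
theorem N3114 : nd 3114 = n18892 := ndS (p := 3013) (l := 3) rfl N3013 D18892
theorem N3115 : nd 3115 = n18893 := ndS (p := 3013) (l := 7) rfl N3013 D18893
theorem N3116 : nd 3116 = n19114 := ndS (p := 3015) (l := 2) rfl N3015 D19114
theorem N3117 : nd 3117 = n19118 := ndS (p := 3017) (l := 2) rfl N3017 D19118
theorem N3118 : nd 3118 = n19120 := ndS (p := 3018) (l := 3) rfl N3018 D19120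
theorem N3119 : nd 3119 = n19121 := ndS (p := 3018) (l := 7) rfl N3018 D19121
theorem N3120 : nd 3120 = n19160 := ndS (p := 3023) (l := 3) rfl N3023 D19160
theorem N3121 : nd 3121 = n19206 := ndS (p := 3025) (l := 7) rfl N3025 D19206
theorem N3122 : nd 3122 = n19207 := ndS (p := 3027) (l := 4) rfl N3027 D19207
theorem N3123 : nd 3123 = n19229 := ndS (p := 3030) (l := 7) rfl N3030 D19229
theorem N3124 : nd 3124 = n20586 := ndS (p := 3043) (l := 2) rfl N3043 D20586
theorem N3125 : nd 3125 = n20587 := ndS (p := 3045) (l := 2) rfl N3045 D20587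
theorem N3126 : nd 3126 = n20588 := ndS (p := 3046) (l := 3) rfl N3046 D20588
theorem N3127 : nd 3127 = n20589 := ndS (p := 3046) (l := 7) rfl N3046 D20589
theorem N3128 : nd 3128 = n20590 := ndS (p := 3051) (l := 2) rfl N3051 D20590
theorem N3129 : nd 3129 = n20591 := ndS (p := 3053) (l := 2) rfl N3053 D20591
theorem N3130 : nd 3130 = n20592 := ndS (p := 3054) (l := 3) rfl N3054 D20592
theorem N3131 : nd 3131 = n20593 := ndS (p := 3054) (l := 7) rfl N3054 D20593
theorem N3132 : nd 3132 = n20594 := ndS (p := 3056) (l := 2) rfl N3056 D20594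
theorem N3133 : nd 3133 = n20595 := ndS (p := 3058) (l := 2) rfl N3058 D20595
theorem N3134 : nd 3134 = n20596 := ndS (p := 3059) (l := 7) rfl N3059 D20596
theorem N3135 : nd 3135 = n20597 := ndS (p := 3061) (l := 2) rfl N3061 D20597
theorem N3136 : nd 3136 = n20598 := ndS (p := 3063) (l := 2) rfl N3063 D20598
theorem N3137 : nd 3137 = n20599 := ndS (p := 3064) (l := 7) rfl N3064 D20599
theorem N3138 : nd 3138 = n20600 := ndS (p := 3068) (l := 4) rfl N3068 D20600
theorem N3139 : nd 3139 = n20601 := ndS (p := 3068) (l := 7) rfl N3068 D20601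
theorem N3140 : nd 3140 = n20602 := ndS (p := 3075) (l := 6) rfl N3075 D20602
theorem N3141 : nd 3141 = n20603 := ndS (p := 3078) (l := 5) rfl N3078 D20603
theorem N3142 : nd 3142 = n20604 := ndS (p := 3078) (l := 6) rfl N3078 D20604
theorem N3143 : nd 3143 = n20605 := ndS (p := 3080) (l := 2) rfl N3080 D20605
theorem N3144 : nd 3144 = n20606 := ndS (p := 3081) (l := 2) rfl N3081 D20606
theorem N3145 : nd 3145 = n20607 := ndS (p := 3082) (l := 3) rfl N3082 D20607
theorem N3146 : nd 3146 = n20608 := ndS (p := 3082) (l := 7) rfl N3082 D20608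
theorem N3147 : nd 3147 = n20609 := ndS (p := 3086) (l := 5) rfl N3086 D20609
theorem N3148 : nd 3148 = n20610 := ndS (p := 3088) (l := 2) rfl N3088 D20610
theorem N3149 : nd 3149 = n20611 := ndS (p := 3089) (l := 7) rfl N3089 D20611
theorem N3150 : nd 3150 = n20612 := ndS (p := 3091) (l := 6) rfl N3091 D20612
theorem N3151 : nd 3151 = n20613 := ndS (p := 3094) (l := 7) rfl N3094 D20613
theorem N3152 : nd 3152 = n20614 := ndS (p := 3095) (l := 6) rfl N3095 D20614
theorem N3153 : nd 3153 = n20615 := ndS (p := 3096) (l := 6) rfl N3096 D20615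
theorem N3154 : nd 3154 = n20616 := ndS (p := 3126) (l := 4) rfl N3126 D20616
theorem N3155 : nd 3155 = n20617 := ndS (p := 3126) (l := 7) rfl N3126 D20617
theorem N3156 : nd 3156 = n20618 := ndS (p := 3130) (l := 4) rfl N3130 D20618
theorem N3157 : nd 3157 = n20619 := ndS (p := 3130) (l := 7) rfl N3130 D20619
theorem N3158 : nd 3158 = n20620 := ndS (p := 3134) (l := 6) rfl N3134 D20620
theorem Q1 : ∀ i, i < 1 → P i := stepQ 0 Q0 (allL N0 (tt N0 F1) (tt N0 F2) (tt N0 F3) (tt N0 F4) (tt N0 F5) (tt N0 F6) (tt N0 F7) (tt N1 D1))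
theorem Q2 : ∀ i, i < 2 → P i := stepQ 1 Q1 (allL N1 (tt N1 F8) (tt N1 F9) (tt N1 F10) (tt N1 F11) (tt N1 F12) (tt N1 F13) (tt N2 D2) (tt N0 (iv D1)))
theorem Q3 : ∀ i, i < 3 → P i := stepQ 2 Q2 (allL N2 (tt N2 F14) (tt N2 F15) (tt N3 D3) (tt N2 F16) (tt N2 F17) (tt N2 F18) (tt N1 (iv D2)) (tt N2 F19))
theorem Q4 : ∀ i, i < 4 → P i := stepQ 3 Q3 (allL N3 (tt N3 F20) (tt N4 D4) (tt N2 (iv D3)) (tt N5 D5) (tt N3 F21) (tt N3 F22) (tt N3 F23) (tt N3 F24))
theorem Q5 : ∀ i, i < 5 → P i := stepQ 4 Q4 (allL N4 (tt N6 D6) (tt N3 (iv D4)) (tt N4 F25) (tt N7 D7) (tt N4 F26) (tt N4 F27) (tt N4 F28) (tt N4 F29))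
theorem Q6 : ∀ i, i < 6 → P i := stepQ 5 Q5 (allL N5 (tt N5 F30) (tt N7 (iv F41)) (tt N5 F31) (tt N3 (iv D5)) (tt N8 D8) (tt N5 F32) (tt N5 F33) (tt N5 F34))
theorem Q7 : ∀ i, i < 7 → P i := stepQ 6 Q6 (allL N6 (tt N4 (iv D6)) (tt N6 F35) (tt N6 F36) (tt N9 D9) (tt N6 F37) (tt N6 F38) (tt N6 F39) (tt N6 F40))
theorem Q8 : ∀ i, i < 8 → P i := stepQ 7 Q7 (allL N7 (tt N9 (iv F50)) (tt N5 F41) (tt N10 D10) (tt N4 (iv D7)) (tt N11 D11) (tt N7 F42) (tt N7 F43) (tt N7 F44))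
theorem Q9 : ∀ i, i < 9 → P i := stepQ 8 Q8 (allL N8 (tt N8 F45) (tt N11 (iv F59)) (tt N8 F46) (tt N8 F47) (tt N5 (iv D8)) (tt N12 D12) (tt N8 F48) (tt N8 F49))
theorem Q10 : ∀ i, i < 10 → P i := stepQ 9 Q9 (allL N9 (tt N7 F50) (tt N9 F51) (tt N13 D13) (tt N6 (iv D9)) (tt N14 D14) (tt N9 F52) (tt N9 F53) (tt N9 F54))
theorem Q11 : ∀ i, i < 11 → P i := stepQ 10 Q10 (allL N10 (tt N13 (iv F69)) (tt N10 F55) (tt N7 (iv D10)) (tt N10 F56) (tt N15 D15) (tt N10 F57) (tt N16 D16) (tt N10 F58))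
theorem Q12 : ∀ i, i < 12 → P i := stepQ 11 Q11 (allL N11 (tt N14 (iv F73)) (tt N8 F59) (tt N15 (iv F79)) (tt N11 F60) (tt N7 (iv D11)) (tt N17 D17) (tt N11 F61) (tt N11 F62))
theorem Q13 : ∀ i, i < 13 → P i := stepQ 12 Q12 (allL N12 (tt N12 F63) (tt N17 (iv F85)) (tt N12 F64) (tt N12 F65) (tt N12 F66) (tt N8 (iv D12)) (tt N12 F67) (tt N12 F68))
theorem Q14 : ∀ i, i < 14 → P i := stepQ 13 Q13 (allL N13 (tt N10 F69) (tt N18 D18) (tt N9 (iv D13)) (tt N13 F70) (tt N19 D19) (tt N13 F71) (tt N20 D20) (tt N13 F72))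
theorem Q15 : ∀ i, i < 15 → P i := stepQ 14 Q14 (allL N14 (tt N11 F73) (tt N14 F74) (tt N19 (iv F96)) (tt N14 F75) (tt N9 (iv D14)) (tt N21 D21) (tt N14 F76) (tt N14 F77))
theorem Q16 : ∀ i, i < 16 → P i := stepQ 15 Q15 (allL N15 (tt N19 (iv F95)) (tt N15 F78) (tt N11 F79) (tt N22 D22) (tt N10 (iv D15)) (tt N23 D23) (tt N24 D24) (tt N15 F80))
theorem Q17 : ∀ i, i < 17 → P i := stepQ 16 Q16 (allL N16 (tt N20 (iv F98)) (tt N16 F81) (tt N16 F82) (tt N16 F83) (tt N24 (iv F118)) (tt N16 F84) (tt N10 (iv D16)) (tt N25 D25))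
theorem Q18 : ∀ i, i < 18 → P i := stepQ 17 Q17 (allL N17 (tt N21 (iv F102)) (tt N12 F85) (tt N23 (iv F113)) (tt N17 F86) (tt N17 F87) (tt N11 (iv D17)) (tt N17 F88) (tt N17 F89))
theorem Q19 : ∀ i, i < 19 → P i := stepQ 18 Q18 (allL N18 (tt N18 F90) (tt N13 (iv D18)) (tt N18 F91) (tt N18 F92) (tt N26 D26) (tt N18 F93) (tt N27 D27) (tt N18 F94))
theorem Q20 : ∀ i, i < 20 → P i := stepQ 19 Q19 (allL N19 (tt N15 F95) (tt N26 (iv F125)) (tt N14 F96) (tt N28 D28) (tt N13 (iv D19)) (tt N29 D29) (tt N30 D30) (tt N19 F97))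
theorem Q21 : ∀ i, i < 21 → P i := stepQ 20 Q20 (allL N20 (tt N16 F98) (tt N27 (iv F129)) (tt N20 F99) (tt N20 F100) (tt N30 (iv F142)) (tt N20 F101) (tt N13 (iv D20)) (tt N31 D31))
theorem Q22 : ∀ i, i < 22 → P i := stepQ 21 Q21 (allL N21 (tt N17 F102) (tt N21 F103) (tt N29 (iv F137)) (tt N21 F104) (tt N21 F105) (tt N14 (iv D21)) (tt N21 F106) (tt N21 F107))
theorem Q23 : ∀ i, i < 23 → P i := stepQ 22 Q22 (allL N22 (tt N28 (iv F132)) (tt N22 F108) (tt N22 F109) (tt N15 (iv D22)) (tt N22 F110) (tt N32 D32) (tt N33 D33) (tt N22 F111))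
theorem Q24 : ∀ i, i < 24 → P i := stepQ 23 Q23 (allL N23 (tt N29 (iv F136)) (tt N23 F112) (tt N17 F113) (tt N32 (iv F150)) (tt N23 F114) (tt N15 (iv D23)) (tt N34 D34) (tt N23 F115))
theorem Q25 : ∀ i, i < 25 → P i := stepQ 24 Q24 (allL N24 (tt N30 (iv F140)) (tt N24 F116) (tt N24 F117) (tt N33 (iv F153)) (tt N16 F118) (tt N34 (iv F158)) (tt N15 (iv D24)) (tt N35 D35))
theorem Q26 : ∀ i, i < 26 → P i := stepQ 25 Q25 (allL N25 (tt N31 (iv F143)) (tt N25 F119) (tt N25 F120) (tt N25 F121) (tt N35 (iv F161)) (tt N25 F122) (tt N25 F123) (tt N16 (iv D25)))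
theorem Q27 : ∀ i, i < 27 → P i := stepQ 26 Q26 (allL N26 (tt N26 F124) (tt N19 F125) (tt N26 F126) (tt N36 D36) (tt N18 (iv D26)) (tt N37 D37) (tt N38 D38) (tt N26 F127))
theorem Q28 : ∀ i, i < 28 → P i := stepQ 27 Q27 (allL N27 (tt N27 F128) (tt N20 F129) (tt N39 D39) (tt N27 F130) (tt N38 (iv F174)) (tt N27 F131) (tt N18 (iv D27)) (tt N40 D40))
theorem Q29 : ∀ i, i < 29 → P i := stepQ 28 Q28 (allL N28 (tt N22 F132) (tt N36 (iv F164)) (tt N28 F133) (tt N19 (iv D28)) (tt N28 F134) (tt N41 D41) (tt N42 D42) (tt N28 F135))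
theorem Q30 : ∀ i, i < 30 → P i := stepQ 29 Q29 (allL N29 (tt N23 F136) (tt N37 (iv F168)) (tt N21 F137) (tt N41 (iv F186)) (tt N29 F138) (tt N19 (iv D29)) (tt N43 D43) (tt N29 F139))
theorem Q31 : ∀ i, i < 31 → P i := stepQ 30 Q30 (allL N30 (tt N24 F140) (tt N38 (iv F173)) (tt N30 F141) (tt N42 (iv F189)) (tt N20 F142) (tt N43 (iv F194)) (tt N19 (iv D30)) (tt N44 D44))
theorem Q32 : ∀ i, i < 32 → P i := stepQ 31 Q31 (allL N31 (tt N25 F143) (tt N40 (iv F180)) (tt N31 F144) (tt N31 F145) (tt N44 (iv F197)) (tt N31 F146) (tt N31 F147) (tt N20 (iv D31)))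
theorem Q33 : ∀ i, i < 33 → P i := stepQ 32 Q32 (allL N32 (tt N41 (iv F184)) (tt N32 F148) (tt N32 F149) (tt N23 F150) (tt N45 D45) (tt N22 (iv D32)) (tt N46 D46) (tt N32 F151))
theorem Q34 : ∀ i, i < 34 → P i := stepQ 33 Q33 (allL N33 (tt N42 (iv F188)) (tt N33 F152) (tt N47 D47) (tt N24 F153) (tt N33 F154) (tt N46 (iv F206)) (tt N22 (iv D33)) (tt N48 D48))
theorem Q35 : ∀ i, i < 35 → P i := stepQ 34 Q34 (allL N34 (tt N43 (iv F191)) (tt N34 F155) (tt N34 F156) (tt N46 (iv F205)) (tt N34 F157) (tt N24 F158) (tt N23 (iv D34)) (tt N49 D49))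
theorem Q36 : ∀ i, i < 36 → P i := stepQ 35 Q35 (allL N35 (tt N44 (iv F195)) (tt N35 F159) (tt N35 F160) (tt N48 (iv F211)) (tt N25 F161) (tt N49 (iv F217)) (tt N35 F162) (tt N24 (iv D35)))
theorem Q37 : ∀ i, i < 37 → P i := stepQ 36 Q36 (allL N36 (tt N36 F163) (tt N28 F164) (tt N50 D50) (tt N26 (iv D36)) (tt N36 F165) (tt N51 D51) (tt N52 D52) (tt N36 F166))
theorem Q38 : ∀ i, i < 38 → P i := stepQ 37 Q37 (allL N37 (tt N37 F167) (tt N29 F168) (tt N37 F169) (tt N51 (iv F226)) (tt N37 F170) (tt N26 (iv D37)) (tt N53 D53) (tt N37 F171))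
theorem Q39 : ∀ i, i < 39 → P i := stepQ 38 Q38 (allL N38 (tt N38 F172) (tt N30 F173) (tt N54 D54) (tt N52 (iv F230)) (tt N27 F174) (tt N53 (iv F235)) (tt N26 (iv D38)) (tt N55 D55))
theorem Q40 : ∀ i, i < 40 → P i := stepQ 39 Q39 (allL N39 (tt N39 F175) (tt N39 F176) (tt N27 (iv D39)) (tt N56 D56) (tt N54 (iv F238)) (tt N39 F177) (tt N39 F178) (tt N57 D57))
theorem Q41 : ∀ i, i < 41 → P i := stepQ 40 Q40 (allL N40 (tt N40 F179) (tt N31 F180) (tt N57 (iv F251)) (tt N40 F181) (tt N55 (iv F242)) (tt N40 F182) (tt N40 F183) (tt N27 (iv D40)))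
theorem Q42 : ∀ i, i < 42 → P i := stepQ 41 Q41 (allL N41 (tt N32 F184) (tt N51 (iv F225)) (tt N41 F185) (tt N29 F186) (tt N58 D58) (tt N28 (iv D41)) (tt N59 D59) (tt N41 F187))
theorem Q43 : ∀ i, i < 43 → P i := stepQ 42 Q42 (allL N42 (tt N33 F188) (tt N52 (iv F229)) (tt N60 D60) (tt N30 F189) (tt N42 F190) (tt N59 (iv F260)) (tt N28 (iv D42)) (tt N61 D61))
theorem Q44 : ∀ i, i < 44 → P i := stepQ 43 Q43 (allL N43 (tt N34 F191) (tt N53 (iv F233)) (tt N43 F192) (tt N59 (iv F259)) (tt N43 F193) (tt N30 F194) (tt N29 (iv D43)) (tt N62 D62))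
theorem Q45 : ∀ i, i < 45 → P i := stepQ 44 Q44 (allL N44 (tt N35 F195) (tt N55 (iv F241)) (tt N44 F196) (tt N61 (iv F266)) (tt N31 F197) (tt N62 (iv F272)) (tt N44 F198) (tt N30 (iv D44)))
theorem Q46 : ∀ i, i < 46 → P i := stepQ 45 Q45 (allL N45 (tt N58 (iv F253)) (tt N45 F199) (tt N45 F200) (tt N45 F201) (tt N32 (iv D45)) (tt N45 F202) (tt N63 D63) (tt N45 F203))
theorem Q47 : ∀ i, i < 47 → P i := stepQ 46 Q46 (allL N46 (tt N59 (iv F258)) (tt N46 F204) (tt N64 D64) (tt N34 F205) (tt N63 (iv F276)) (tt N33 F206) (tt N32 (iv D46)) (tt N65 D65))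
theorem Q48 : ∀ i, i < 48 → P i := stepQ 47 Q47 (allL N47 (tt N60 (iv F261)) (tt N66 D66) (tt N33 (iv D47)) (tt N47 F207) (tt N47 F208) (tt N64 (iv F279)) (tt N47 F209) (tt N67 D67))
theorem Q49 : ∀ i, i < 49 → P i := stepQ 48 Q48 (allL N48 (tt N61 (iv F265)) (tt N48 F210) (tt N67 (iv F289)) (tt N35 F211) (tt N48 F212) (tt N65 (iv F283)) (tt N48 F213) (tt N33 (iv D48)))
theorem Q50 : ∀ i, i < 50 → P i := stepQ 49 Q49 (allL N49 (tt N62 (iv F269)) (tt N49 F214) (tt N49 F215) (tt N65 (iv F282)) (tt N49 F216) (tt N35 F217) (tt N49 F218) (tt N34 (iv D49)))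
theorem Q51 : ∀ i, i < 51 → P i := stepQ 50 Q50 (allL N50 (tt N50 F219) (tt N50 F220) (tt N36 (iv D50)) (tt N50 F221) (tt N50 F222) (tt N68 D68) (tt N69 D69) (tt N50 F223))
theorem Q52 : ∀ i, i < 52 → P i := stepQ 51 Q51 (allL N51 (tt N51 F224) (tt N41 F225) (tt N68 (iv F294)) (tt N37 F226) (tt N70 D70) (tt N36 (iv D51)) (tt N71 D71) (tt N51 F227))
theorem Q53 : ∀ i, i < 53 → P i := stepQ 52 Q52 (allL N52 (tt N52 F228) (tt N42 F229) (tt N72 D72) (tt N38 F230) (tt N52 F231) (tt N71 (iv F309)) (tt N36 (iv D52)) (tt N73 D73))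
theorem Q54 : ∀ i, i < 54 → P i := stepQ 53 Q53 (allL N53 (tt N53 F232) (tt N43 F233) (tt N74 D74) (tt N71 (iv F308)) (tt N53 F234) (tt N38 F235) (tt N37 (iv D53)) (tt N75 D75))
theorem Q55 : ∀ i, i < 55 → P i := stepQ 54 Q54 (allL N54 (tt N54 F236) (tt N54 F237) (tt N38 (iv D54)) (tt N76 D76) (tt N39 F238) (tt N74 (iv F320)) (tt N54 F239) (tt N77 D77))
theorem Q56 : ∀ i, i < 56 → P i := stepQ 55 Q55 (allL N55 (tt N55 F240) (tt N44 F241) (tt N77 (iv F332)) (tt N73 (iv F314)) (tt N40 F242) (tt N75 (iv F325)) (tt N55 F243) (tt N38 (iv D55)))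
theorem Q57 : ∀ i, i < 57 → P i := stepQ 56 Q56 (allL N56 (tt N56 F244) (tt N56 F245) (tt N56 F246) (tt N39 (iv D56)) (tt N78 D78) (tt N56 F247) (tt N56 F248) (tt N79 D79))
theorem Q58 : ∀ i, i < 58 → P i := stepQ 57 Q57 (allL N57 (tt N57 F249) (tt N57 F250) (tt N40 F251) (tt N79 (iv F341)) (tt N77 (iv F333)) (tt N57 F252) (tt N80 D80) (tt N39 (iv D57)))
theorem Q59 : ∀ i, i < 59 → P i := stepQ 58 Q58 (allL N58 (tt N45 F253) (tt N70 (iv F302)) (tt N58 F254) (tt N58 F255) (tt N41 (iv D58)) (tt N58 F256) (tt N81 D81) (tt N58 F257))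
theorem Q60 : ∀ i, i < 60 → P i := stepQ 59 Q59 (allL N59 (tt N46 F258) (tt N71 (iv F307)) (tt N82 D82) (tt N43 F259) (tt N81 (iv F350)) (tt N42 F260) (tt N41 (iv D59)) (tt N83 D83))
theorem Q61 : ∀ i, i < 61 → P i := stepQ 60 Q60 (allL N60 (tt N47 F261) (tt N84 D84) (tt N42 (iv D60)) (tt N60 F262) (tt N60 F263) (tt N82 (iv F354)) (tt N60 F264) (tt N85 D85))
theorem Q62 : ∀ i, i < 62 → P i := stepQ 61 Q61 (allL N61 (tt N48 F265) (tt N73 (iv F313)) (tt N85 (iv F364)) (tt N44 F266) (tt N61 F267) (tt N83 (iv F358)) (tt N61 F268) (tt N42 (iv D61)))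
theorem Q63 : ∀ i, i < 63 → P i := stepQ 62 Q62 (allL N62 (tt N49 F269) (tt N75 (iv F323)) (tt N62 F270) (tt N83 (iv F357)) (tt N62 F271) (tt N44 F272) (tt N62 F273) (tt N43 (iv D62)))
theorem Q64 : ∀ i, i < 64 → P i := stepQ 63 Q63 (allL N63 (tt N81 (iv F348)) (tt N63 F274) (tt N86 D86) (tt N63 F275) (tt N46 F276) (tt N63 F277) (tt N45 (iv D63)) (tt N87 D87))
theorem Q65 : ∀ i, i < 65 → P i := stepQ 64 Q64 (allL N64 (tt N82 (iv F352)) (tt N88 D88) (tt N46 (iv D64)) (tt N64 F278) (tt N86 (iv F367)) (tt N47 F279) (tt N64 F280) (tt N89 D89))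
theorem Q66 : ∀ i, i < 66 → P i := stepQ 65 Q65 (allL N65 (tt N83 (iv F356)) (tt N65 F281) (tt N89 (iv F379)) (tt N49 F282) (tt N87 (iv F372)) (tt N48 F283) (tt N65 F284) (tt N46 (iv D65)))
theorem Q67 : ∀ i, i < 67 → P i := stepQ 66 Q66 (allL N66 (tt N90 D90) (tt N47 (iv D66)) (tt N66 F285) (tt N66 F286) (tt N66 F287) (tt N88 (iv F377)) (tt N66 F288) (tt N91 D91))
theorem Q68 : ∀ i, i < 68 → P i := stepQ 67 Q67 (allL N67 (tt N85 (iv F363)) (tt N91 (iv F386)) (tt N48 F289) (tt N67 F290) (tt N67 F291) (tt N89 (iv F381)) (tt N92 D92) (tt N47 (iv D67)))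
theorem Q69 : ∀ i, i < 69 → P i := stepQ 68 Q68 (allL N68 (tt N68 F292) (tt N68 F293) (tt N51 F294) (tt N68 F295) (tt N93 D93) (tt N50 (iv D68)) (tt N94 D94) (tt N68 F296))
theorem Q70 : ∀ i, i < 70 → P i := stepQ 69 Q69 (allL N69 (tt N69 F297) (tt N69 F298) (tt N95 D95) (tt N69 F299) (tt N69 F300) (tt N94 (iv F402)) (tt N50 (iv D69)) (tt N96 D96))
theorem Q71 : ∀ i, i < 71 → P i := stepQ 70 Q70 (allL N70 (tt N70 F301) (tt N58 F302) (tt N93 (iv F396)) (tt N70 F303) (tt N51 (iv D70)) (tt N70 F304) (tt N97 D97) (tt N70 F305))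
theorem Q72 : ∀ i, i < 72 → P i := stepQ 71 Q71 (allL N71 (tt N71 F306) (tt N59 F307) (tt N98 D98) (tt N53 F308) (tt N97 (iv F414)) (tt N52 F309) (tt N51 (iv D71)) (tt N99 D99))
theorem Q73 : ∀ i, i < 73 → P i := stepQ 72 Q72 (allL N72 (tt N72 F310) (tt N100 D100) (tt N52 (iv D72)) (tt N101 D101) (tt N72 F311) (tt N98 (iv F417)) (tt N95 (iv F405)) (tt N102 D102))
theorem Q74 : ∀ i, i < 74 → P i := stepQ 73 Q73 (allL N73 (tt N73 F312) (tt N61 F313) (tt N102 (iv F428)) (tt N55 F314) (tt N73 F315) (tt N99 (iv F421)) (tt N73 F316) (tt N52 (iv D73)))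
theorem Q75 : ∀ i, i < 75 → P i := stepQ 74 Q74 (allL N74 (tt N74 F317) (tt N74 F318) (tt N53 (iv D74)) (tt N103 D103) (tt N74 F319) (tt N54 F320) (tt N74 F321) (tt N104 D104))
theorem Q76 : ∀ i, i < 76 → P i := stepQ 75 Q75 (allL N75 (tt N75 F322) (tt N62 F323) (tt N104 (iv F436)) (tt N99 (iv F420)) (tt N75 F324) (tt N55 F325) (tt N75 F326) (tt N53 (iv D75)))
theorem Q77 : ∀ i, i < 77 → P i := stepQ 76 Q76 (allL N76 (tt N76 F327) (tt N76 F328) (tt N101 (iv F426)) (tt N54 (iv D76)) (tt N105 D105) (tt N103 (iv F432)) (tt N76 F329) (tt N106 D106))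
theorem Q78 : ∀ i, i < 78 → P i := stepQ 77 Q77 (allL N77 (tt N77 F330) (tt N77 F331) (tt N55 F332) (tt N106 (iv F445)) (tt N57 F333) (tt N104 (iv F438)) (tt N107 D107) (tt N54 (iv D77)))
theorem Q79 : ∀ i, i < 79 → P i := stepQ 78 Q78 (allL N78 (tt N78 F334) (tt N78 F335) (tt N78 F336) (tt N105 (iv F441)) (tt N56 (iv D78)) (tt N108 D108) (tt N78 F337) (tt N109 D109))
theorem Q80 : ∀ i, i < 80 → P i := stepQ 79 Q79 (allL N79 (tt N79 F338) (tt N79 F339) (tt N79 F340) (tt N57 F341) (tt N109 (iv F459)) (tt N79 F342) (tt N110 D110) (tt N56 (iv D79)))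
theorem Q81 : ∀ i, i < 81 → P i := stepQ 80 Q80 (allL N80 (tt N80 F343) (tt N80 F344) (tt N80 F345) (tt N110 (iv F462)) (tt N107 (iv F449)) (tt N80 F346) (tt N57 (iv D80)) (tt N80 F347))
theorem Q82 : ∀ i, i < 82 → P i := stepQ 81 Q81 (allL N81 (tt N63 F348) (tt N97 (iv F412)) (tt N111 D111) (tt N81 F349) (tt N59 F350) (tt N81 F351) (tt N58 (iv D81)) (tt N112 D112))
theorem Q83 : ∀ i, i < 83 → P i := stepQ 82 Q82 (allL N82 (tt N64 F352) (tt N113 D113) (tt N59 (iv D82)) (tt N82 F353) (tt N111 (iv F466)) (tt N60 F354) (tt N82 F355) (tt N114 D114))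
theorem Q84 : ∀ i, i < 84 → P i := stepQ 83 Q83 (allL N83 (tt N65 F356) (tt N99 (iv F419)) (tt N114 (iv F478)) (tt N62 F357) (tt N112 (iv F471)) (tt N61 F358) (tt N83 F359) (tt N59 (iv D83)))
theorem Q85 : ∀ i, i < 85 → P i := stepQ 84 Q84 (allL N84 (tt N115 D115) (tt N60 (iv D84)) (tt N100 (iv F423)) (tt N84 F360) (tt N84 F361) (tt N113 (iv F475)) (tt N84 F362) (tt N116 D116))
theorem Q86 : ∀ i, i < 86 → P i := stepQ 85 Q85 (allL N85 (tt N67 F363) (tt N116 (iv F485)) (tt N61 F364) (tt N85 F365) (tt N85 F366) (tt N114 (iv F480)) (tt N117 D117) (tt N60 (iv D85)))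
theorem Q87 : ∀ i, i < 87 → P i := stepQ 86 Q86 (allL N86 (tt N111 (iv F465)) (tt N118 D118) (tt N63 (iv D86)) (tt N119 D119) (tt N64 F367) (tt N86 F368) (tt N86 F369) (tt N120 D120))
theorem Q88 : ∀ i, i < 88 → P i := stepQ 87 Q87 (allL N87 (tt N112 (iv F469)) (tt N87 F370) (tt N120 (iv F501)) (tt N87 F371) (tt N65 F372) (tt N87 F373) (tt N87 F374) (tt N63 (iv D87)))
theorem Q89 : ∀ i, i < 89 → P i := stepQ 88 Q88 (allL N88 (tt N121 D121) (tt N64 (iv D88)) (tt N88 F375) (tt N88 F376) (tt N118 (iv F494)) (tt N66 F377) (tt N88 F378) (tt N122 D122))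
theorem Q90 : ∀ i, i < 90 → P i := stepQ 89 Q89 (allL N89 (tt N114 (iv F477)) (tt N122 (iv F508)) (tt N65 F379) (tt N89 F380) (tt N120 (iv F502)) (tt N67 F381) (tt N123 D123) (tt N64 (iv D89)))
theorem Q91 : ∀ i, i < 91 → P i := stepQ 90 Q90 (allL N90 (tt N66 (iv D90)) (tt N115 (iv F481)) (tt N90 F382) (tt N90 F383) (tt N90 F384) (tt N121 (iv F506)) (tt N90 F385) (tt N124 D124))
theorem Q92 : ∀ i, i < 92 → P i := stepQ 91 Q91 (allL N91 (tt N124 (iv F516)) (tt N67 F386) (tt N91 F387) (tt N91 F388) (tt N91 F389) (tt N122 (iv F511)) (tt N125 D125) (tt N66 (iv D91)))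
theorem Q93 : ∀ i, i < 93 → P i := stepQ 92 Q92 (allL N92 (tt N117 (iv F488)) (tt N125 (iv F520)) (tt N92 F390) (tt N92 F391) (tt N92 F392) (tt N123 (iv F514)) (tt N67 (iv D92)) (tt N92 F393))
theorem Q94 : ∀ i, i < 94 → P i := stepQ 93 Q93 (allL N93 (tt N93 F394) (tt N93 F395) (tt N70 F396) (tt N126 D126) (tt N68 (iv D93)) (tt N93 F397) (tt N127 D127) (tt N93 F398))
theorem Q95 : ∀ i, i < 95 → P i := stepQ 94 Q94 (allL N94 (tt N94 F399) (tt N94 F400) (tt N128 D128) (tt N94 F401) (tt N127 (iv F532)) (tt N69 F402) (tt N68 (iv D94)) (tt N129 D129))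
theorem Q96 : ∀ i, i < 96 → P i := stepQ 95 Q95 (allL N95 (tt N95 F403) (tt N130 D130) (tt N69 (iv D95)) (tt N131 D131) (tt N95 F404) (tt N128 (iv F535)) (tt N72 F405) (tt N132 D132))
theorem Q97 : ∀ i, i < 97 → P i := stepQ 96 Q96 (allL N96 (tt N96 F406) (tt N96 F407) (tt N132 (iv F549)) (tt N96 F408) (tt N96 F409) (tt N129 (iv F540)) (tt N96 F410) (tt N69 (iv D96)))
theorem Q98 : ∀ i, i < 98 → P i := stepQ 97 Q97 (allL N97 (tt N97 F411) (tt N81 F412) (tt N133 D133) (tt N97 F413) (tt N71 F414) (tt N97 F415) (tt N70 (iv D97)) (tt N134 D134))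
theorem Q99 : ∀ i, i < 99 → P i := stepQ 98 Q98 (allL N98 (tt N98 F416) (tt N135 D135) (tt N71 (iv D98)) (tt N136 D136) (tt N133 (iv F552)) (tt N72 F417) (tt N128 (iv F536)) (tt N137 D137))
theorem Q100 : ∀ i, i < 100 → P i := stepQ 99 Q99 (allL N99 (tt N99 F418) (tt N83 F419) (tt N137 (iv F566)) (tt N75 F420) (tt N134 (iv F557)) (tt N73 F421) (tt N99 F422) (tt N71 (iv D99)))
theorem Q101 : ∀ i, i < 101 → P i := stepQ 100 Q100 (allL N100 (tt N138 D138) (tt N72 (iv D100)) (tt N84 F423) (tt N139 D139) (tt N100 F424) (tt N135 (iv F561)) (tt N130 (iv F544)) (tt N140 D140))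
theorem Q102 : ∀ i, i < 102 → P i := stepQ 101 Q101 (allL N101 (tt N101 F425) (tt N139 (iv F571)) (tt N76 F426) (tt N72 (iv D101)) (tt N141 D141) (tt N136 (iv F564)) (tt N131 (iv F547)) (tt N142 D142))
theorem Q103 : ∀ i, i < 103 → P i := stepQ 102 Q102 (allL N102 (tt N102 F427) (tt N140 (iv F573)) (tt N73 F428) (tt N142 (iv F581)) (tt N102 F429) (tt N137 (iv F567)) (tt N143 D143) (tt N72 (iv D102)))
theorem Q104 : ∀ i, i < 104 → P i := stepQ 103 Q103 (allL N103 (tt N103 F430) (tt N103 F431) (tt N136 (iv F563)) (tt N74 (iv D103)) (tt N144 D144) (tt N76 F432) (tt N103 F433) (tt N145 D145))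
theorem Q105 : ∀ i, i < 105 → P i := stepQ 104 Q104 (allL N104 (tt N104 F434) (tt N104 F435) (tt N75 F436) (tt N145 (iv F591)) (tt N104 F437) (tt N77 F438) (tt N146 D146) (tt N74 (iv D104)))
theorem Q106 : ∀ i, i < 106 → P i := stepQ 105 Q105 (allL N105 (tt N105 F439) (tt N105 F440) (tt N141 (iv F577)) (tt N78 F441) (tt N76 (iv D105)) (tt N147 D147) (tt N105 F442) (tt N148 D148))
theorem Q107 : ∀ i, i < 107 → P i := stepQ 106 Q106 (allL N106 (tt N106 F443) (tt N106 F444) (tt N142 (iv F580)) (tt N77 F445) (tt N148 (iv F606)) (tt N145 (iv F592)) (tt N149 D149) (tt N76 (iv D106)))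
theorem Q108 : ∀ i, i < 108 → P i := stepQ 107 Q107 (allL N107 (tt N107 F446) (tt N107 F447) (tt N107 F448) (tt N149 (iv F609)) (tt N80 F449) (tt N146 (iv F597)) (tt N77 (iv D107)) (tt N107 F450))
theorem Q109 : ∀ i, i < 109 → P i := stepQ 108 Q108 (allL N108 (tt N108 F451) (tt N108 F452) (tt N108 F453) (tt N147 (iv F601)) (tt N108 F454) (tt N78 (iv D108)) (tt N108 F455) (tt N150 D150))
theorem Q110 : ∀ i, i < 110 → P i := stepQ 109 Q109 (allL N109 (tt N109 F456) (tt N109 F457) (tt N109 F458) (tt N148 (iv F605)) (tt N79 F459) (tt N150 (iv F615)) (tt N151 D151) (tt N78 (iv D109)))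
theorem Q111 : ∀ i, i < 111 → P i := stepQ 110 Q110 (allL N110 (tt N110 F460) (tt N110 F461) (tt N152 D152) (tt N80 F462) (tt N151 (iv F618)) (tt N110 F463) (tt N79 (iv D110)) (tt N110 F464))
theorem Q112 : ∀ i, i < 112 → P i := stepQ 111 Q111 (allL N111 (tt N86 F465) (tt N153 D153) (tt N81 (iv D111)) (tt N154 D154) (tt N82 F466) (tt N111 F467) (tt N111 F468) (tt N155 D155))
theorem Q113 : ∀ i, i < 113 → P i := stepQ 112 Q112 (allL N112 (tt N87 F469) (tt N134 (iv F555)) (tt N155 (iv F634)) (tt N112 F470) (tt N83 F471) (tt N112 F472) (tt N112 F473) (tt N81 (iv D112)))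
theorem Q114 : ∀ i, i < 114 → P i := stepQ 113 Q113 (allL N113 (tt N156 D156) (tt N82 (iv D113)) (tt N135 (iv F560)) (tt N113 F474) (tt N153 (iv F625)) (tt N84 F475) (tt N113 F476) (tt N157 D157))
theorem Q115 : ∀ i, i < 115 → P i := stepQ 114 Q114 (allL N114 (tt N89 F477) (tt N157 (iv F641)) (tt N83 F478) (tt N114 F479) (tt N155 (iv F635)) (tt N85 F480) (tt N158 D158) (tt N82 (iv D114)))
theorem Q116 : ∀ i, i < 116 → P i := stepQ 115 Q115 (allL N115 (tt N84 (iv D115)) (tt N90 F481) (tt N138 (iv F569)) (tt N115 F482) (tt N115 F483) (tt N156 (iv F639)) (tt N115 F484) (tt N159 D159))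
theorem Q117 : ∀ i, i < 117 → P i := stepQ 116 Q116 (allL N116 (tt N159 (iv F649)) (tt N85 F485) (tt N140 (iv F574)) (tt N116 F486) (tt N116 F487) (tt N157 (iv F643)) (tt N160 D160) (tt N84 (iv D116)))
theorem Q118 : ∀ i, i < 118 → P i := stepQ 117 Q117 (allL N117 (tt N92 F488) (tt N160 (iv F653)) (tt N117 F489) (tt N117 F490) (tt N117 F491) (tt N158 (iv F647)) (tt N85 (iv D117)) (tt N117 F492))
theorem Q119 : ∀ i, i < 119 → P i := stepQ 118 Q118 (allL N118 (tt N161 D161) (tt N86 (iv D118)) (tt N118 F493) (tt N162 D162) (tt N88 F494) (tt N118 F495) (tt N118 F496) (tt N163 D163))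
theorem Q120 : ∀ i, i < 120 → P i := stepQ 119 Q119 (allL N119 (tt N154 (iv F628)) (tt N162 (iv F661)) (tt N119 F497) (tt N86 (iv D119)) (tt N119 F498) (tt N119 F499) (tt N119 F500) (tt N164 D164))
theorem Q121 : ∀ i, i < 121 → P i := stepQ 120 Q120 (allL N120 (tt N155 (iv F633)) (tt N163 (iv F665)) (tt N87 F501) (tt N164 (iv F670)) (tt N89 F502) (tt N120 F503) (tt N165 D165) (tt N86 (iv D120)))
theorem Q122 : ∀ i, i < 122 → P i := stepQ 121 Q121 (allL N121 (tt N88 (iv D121)) (tt N156 (iv F637)) (tt N121 F504) (tt N121 F505) (tt N161 (iv F658)) (tt N90 F506) (tt N121 F507) (tt N166 D166))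
theorem Q123 : ∀ i, i < 123 → P i := stepQ 122 Q122 (allL N122 (tt N166 (iv F677)) (tt N89 F508) (tt N122 F509) (tt N122 F510) (tt N163 (iv F667)) (tt N91 F511) (tt N167 D167) (tt N88 (iv D122)))
theorem Q124 : ∀ i, i < 124 → P i := stepQ 123 Q123 (allL N123 (tt N158 (iv F644)) (tt N167 (iv F681)) (tt N123 F512) (tt N123 F513) (tt N165 (iv F674)) (tt N92 F514) (tt N89 (iv D123)) (tt N123 F515))
theorem Q125 : ∀ i, i < 125 → P i := stepQ 124 Q124 (allL N124 (tt N91 F516) (tt N159 (iv F650)) (tt N124 F517) (tt N124 F518) (tt N124 F519) (tt N166 (iv F680)) (tt N168 D168) (tt N90 (iv D124)))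
theorem Q126 : ∀ i, i < 126 → P i := stepQ 125 Q125 (allL N125 (tt N168 (iv F685)) (tt N92 F520) (tt N169 D169) (tt N125 F521) (tt N125 F522) (tt N167 (iv F683)) (tt N91 (iv D125)) (tt N125 F523))
theorem Q127 : ∀ i, i < 127 → P i := stepQ 126 Q126 (allL N126 (tt N126 F524) (tt N126 F525) (tt N126 F526) (tt N93 (iv D126)) (tt N126 F527) (tt N126 F528) (tt N170 D170) (tt N126 F529))
theorem Q128 : ∀ i, i < 128 → P i := stepQ 127 Q127 (allL N127 (tt N127 F530) (tt N127 F531) (tt N171 D171) (tt N170 (iv F695)) (tt N94 F532) (tt N127 F533) (tt N93 (iv D127)) (tt N172 D172))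
theorem Q129 : ∀ i, i < 129 → P i := stepQ 128 Q128 (allL N128 (tt N128 F534) (tt N173 D173) (tt N94 (iv D128)) (tt N174 D174) (tt N171 (iv F699)) (tt N95 F535) (tt N98 F536) (tt N175 D175))
theorem Q130 : ∀ i, i < 130 → P i := stepQ 129 Q129 (allL N129 (tt N129 F537) (tt N129 F538) (tt N175 (iv F715)) (tt N129 F539) (tt N172 (iv F704)) (tt N96 F540) (tt N129 F541) (tt N94 (iv D129)))
theorem Q131 : ∀ i, i < 131 → P i := stepQ 130 Q130 (allL N130 (tt N176 D176) (tt N95 (iv D130)) (tt N130 F542) (tt N177 D177) (tt N130 F543) (tt N173 (iv F708)) (tt N100 F544) (tt N178 D178))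
theorem Q132 : ∀ i, i < 132 → P i := stepQ 131 Q131 (allL N131 (tt N131 F545) (tt N177 (iv F721)) (tt N131 F546) (tt N95 (iv D131)) (tt N179 D179) (tt N174 (iv F712)) (tt N101 F547) (tt N180 D180))
theorem Q133 : ∀ i, i < 133 → P i := stepQ 132 Q132 (allL N132 (tt N132 F548) (tt N178 (iv F723)) (tt N96 F549) (tt N180 (iv F732)) (tt N132 F550) (tt N175 (iv F716)) (tt N181 D181) (tt N95 (iv D132)))
theorem Q134 : ∀ i, i < 134 → P i := stepQ 133 Q133 (allL N133 (tt N133 F551) (tt N182 D182) (tt N97 (iv D133)) (tt N183 D183) (tt N98 F552) (tt N133 F553) (tt N171 (iv F701)) (tt N184 D184))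
theorem Q135 : ∀ i, i < 135 → P i := stepQ 134 Q134 (allL N134 (tt N134 F554) (tt N112 F555) (tt N184 (iv F744)) (tt N134 F556) (tt N99 F557) (tt N134 F558) (tt N134 F559) (tt N97 (iv D134)))
theorem Q136 : ∀ i, i < 136 → P i := stepQ 135 Q135 (allL N135 (tt N185 D185) (tt N98 (iv D135)) (tt N113 F560) (tt N186 D186) (tt N182 (iv F738)) (tt N100 F561) (tt N173 (iv F709)) (tt N187 D187))
theorem Q137 : ∀ i, i < 137 → P i := stepQ 136 Q136 (allL N136 (tt N136 F562) (tt N186 (iv F750)) (tt N103 F563) (tt N98 (iv D136)) (tt N188 D188) (tt N101 F564) (tt N174 (iv F713)) (tt N189 D189))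
theorem Q138 : ∀ i, i < 138 → P i := stepQ 137 Q137 (allL N137 (tt N137 F565) (tt N187 (iv F753)) (tt N99 F566) (tt N189 (iv F760)) (tt N184 (iv F745)) (tt N102 F567) (tt N190 D190) (tt N98 (iv D137)))
theorem Q139 : ∀ i, i < 139 → P i := stepQ 138 Q138 (allL N138 (tt N100 (iv D138)) (tt N138 F568) (tt N115 F569) (tt N191 D191) (tt N138 F570) (tt N185 (iv F749)) (tt N176 (iv F720)) (tt N192 D192))
theorem Q140 : ∀ i, i < 140 → P i := stepQ 139 Q139 (allL N139 (tt N191 (iv F765)) (tt N101 F571) (tt N139 F572) (tt N100 (iv D139)) (tt N193 D193) (tt N186 (iv F752)) (tt N177 (iv F722)) (tt N194 D194))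
theorem Q141 : ∀ i, i < 141 → P i := stepQ 140 Q140 (allL N140 (tt N192 (iv F768)) (tt N102 F573) (tt N116 F574) (tt N194 (iv F777)) (tt N140 F575) (tt N187 (iv F755)) (tt N195 D195) (tt N100 (iv D140)))
theorem Q142 : ∀ i, i < 142 → P i := stepQ 141 Q141 (allL N141 (tt N141 F576) (tt N193 (iv F772)) (tt N105 F577) (tt N141 F578) (tt N101 (iv D141)) (tt N196 D196) (tt N179 (iv F729)) (tt N197 D197))
theorem Q143 : ∀ i, i < 143 → P i := stepQ 142 Q142 (allL N142 (tt N142 F579) (tt N194 (iv F775)) (tt N106 F580) (tt N102 F581) (tt N197 (iv F786)) (tt N189 (iv F761)) (tt N198 D198) (tt N101 (iv D142)))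
theorem Q144 : ∀ i, i < 144 → P i := stepQ 143 Q143 (allL N143 (tt N143 F582) (tt N195 (iv F778)) (tt N143 F583) (tt N198 (iv F788)) (tt N143 F584) (tt N190 (iv F764)) (tt N102 (iv D143)) (tt N181 (iv F736)))
theorem Q145 : ∀ i, i < 145 → P i := stepQ 144 Q144 (allL N144 (tt N144 F585) (tt N144 F586) (tt N188 (iv F757)) (tt N144 F587) (tt N103 (iv D144)) (tt N199 D199) (tt N144 F588) (tt N200 D200))
theorem Q146 : ∀ i, i < 146 → P i := stepQ 145 Q145 (allL N145 (tt N145 F589) (tt N145 F590) (tt N189 (iv F759)) (tt N104 F591) (tt N200 (iv F797)) (tt N106 F592) (tt N201 D201) (tt N103 (iv D145)))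
theorem Q147 : ∀ i, i < 147 → P i := stepQ 146 Q146 (allL N146 (tt N146 F593) (tt N146 F594) (tt N146 F595) (tt N201 (iv F800)) (tt N146 F596) (tt N107 F597) (tt N104 (iv D146)) (tt N146 F598))
theorem Q148 : ∀ i, i < 148 → P i := stepQ 147 Q147 (allL N147 (tt N147 F599) (tt N147 F600) (tt N196 (iv F781)) (tt N108 F601) (tt N199 (iv F792)) (tt N105 (iv D147)) (tt N147 F602) (tt N202 D202))
theorem Q149 : ∀ i, i < 149 → P i := stepQ 148 Q148 (allL N148 (tt N148 F603) (tt N148 F604) (tt N197 (iv F784)) (tt N109 F605) (tt N106 F606) (tt N202 (iv F806)) (tt N203 D203) (tt N105 (iv D148)))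
theorem Q150 : ∀ i, i < 150 → P i := stepQ 149 Q149 (allL N149 (tt N149 F607) (tt N149 F608) (tt N204 D204) (tt N107 F609) (tt N203 (iv F810)) (tt N201 (iv F801)) (tt N106 (iv D149)) (tt N149 F610))
theorem Q151 : ∀ i, i < 151 → P i := stepQ 150 Q150 (allL N150 (tt N150 F611) (tt N150 F612) (tt N150 F613) (tt N202 (iv F805)) (tt N150 F614) (tt N109 F615) (tt N205 D205) (tt N108 (iv D150)))
theorem Q152 : ∀ i, i < 152 → P i := stepQ 151 Q151 (allL N151 (tt N151 F616) (tt N151 F617) (tt N206 D206) (tt N203 (iv F809)) (tt N110 F618) (tt N205 (iv F818)) (tt N109 (iv D151)) (tt N151 F619))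
theorem Q153 : ∀ i, i < 153 → P i := stepQ 152 Q152 (allL N152 (tt N152 F620) (tt N207 D207) (tt N110 (iv D152)) (tt N152 F621) (tt N206 (iv F821)) (tt N152 F622) (tt N152 F623) (tt N152 F624))
theorem Q154 : ∀ i, i < 154 → P i := stepQ 153 Q153 (allL N153 (tt N208 D208) (tt N111 (iv D153)) (tt N182 (iv F737)) (tt N209 D209) (tt N113 F625) (tt N153 F626) (tt N153 F627) (tt N210 D210))
theorem Q155 : ∀ i, i < 155 → P i := stepQ 154 Q154 (allL N154 (tt N119 F628) (tt N209 (iv F833)) (tt N154 F629) (tt N111 (iv D154)) (tt N154 F630) (tt N154 F631) (tt N154 F632) (tt N211 D211))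
theorem Q156 : ∀ i, i < 156 → P i := stepQ 155 Q155 (allL N155 (tt N120 F633) (tt N210 (iv F837)) (tt N112 F634) (tt N211 (iv F842)) (tt N114 F635) (tt N155 F636) (tt N212 D212) (tt N111 (iv D155)))
theorem Q157 : ∀ i, i < 157 → P i := stepQ 156 Q156 (allL N156 (tt N113 (iv D156)) (tt N121 F637) (tt N185 (iv F748)) (tt N156 F638) (tt N208 (iv F830)) (tt N115 F639) (tt N156 F640) (tt N213 D213))
theorem Q158 : ∀ i, i < 158 → P i := stepQ 157 Q157 (allL N157 (tt N213 (iv F850)) (tt N114 F641) (tt N187 (iv F754)) (tt N157 F642) (tt N210 (iv F838)) (tt N116 F643) (tt N214 D214) (tt N113 (iv D157)))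
theorem Q159 : ∀ i, i < 159 → P i := stepQ 158 Q158 (allL N158 (tt N123 F644) (tt N214 (iv F854)) (tt N158 F645) (tt N158 F646) (tt N212 (iv F847)) (tt N117 F647) (tt N114 (iv D158)) (tt N158 F648))
theorem Q160 : ∀ i, i < 160 → P i := stepQ 159 Q159 (allL N159 (tt N116 F649) (tt N124 F650) (tt N192 (iv F770)) (tt N159 F651) (tt N159 F652) (tt N213 (iv F853)) (tt N215 D215) (tt N115 (iv D159)))
theorem Q161 : ∀ i, i < 161 → P i := stepQ 160 Q160 (allL N160 (tt N215 (iv F858)) (tt N117 F653) (tt N216 D216) (tt N160 F654) (tt N160 F655) (tt N214 (iv F856)) (tt N116 (iv D160)) (tt N160 F656))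
theorem Q162 : ∀ i, i < 162 → P i := stepQ 161 Q161 (allL N161 (tt N118 (iv D161)) (tt N208 (iv F829)) (tt N161 F657) (tt N217 D217) (tt N121 F658) (tt N161 F659) (tt N161 F660) (tt N218 D218))
theorem Q163 : ∀ i, i < 163 → P i := stepQ 162 Q162 (allL N162 (tt N217 (iv F866)) (tt N119 F661) (tt N219 D219) (tt N118 (iv D162)) (tt N162 F662) (tt N162 F663) (tt N162 F664) (tt N220 D220))
theorem Q164 : ∀ i, i < 164 → P i := stepQ 163 Q163 (allL N163 (tt N218 (iv F870)) (tt N120 F665) (tt N163 F666) (tt N220 (iv F879)) (tt N122 F667) (tt N163 F668) (tt N221 D221) (tt N118 (iv D163)))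
theorem Q165 : ∀ i, i < 165 → P i := stepQ 164 Q164 (allL N164 (tt N211 (iv F840)) (tt N220 (iv F878)) (tt N164 F669) (tt N120 F670) (tt N164 F671) (tt N164 F672) (tt N222 D222) (tt N119 (iv D164)))
theorem Q166 : ∀ i, i < 166 → P i := stepQ 165 Q165 (allL N165 (tt N212 (iv F845)) (tt N221 (iv F882)) (tt N165 F673) (tt N222 (iv F886)) (tt N123 F674) (tt N165 F675) (tt N120 (iv D165)) (tt N165 F676))
theorem Q167 : ∀ i, i < 167 → P i := stepQ 166 Q166 (allL N166 (tt N122 F677) (tt N213 (iv F851)) (tt N166 F678) (tt N166 F679) (tt N218 (iv F872)) (tt N124 F680) (tt N223 D223) (tt N121 (iv D166)))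
theorem Q168 : ∀ i, i < 168 → P i := stepQ 167 Q167 (allL N167 (tt N223 (iv F890)) (tt N123 F681) (tt N224 D224) (tt N167 F682) (tt N221 (iv F883)) (tt N125 F683) (tt N122 (iv D167)) (tt N167 F684))
theorem Q169 : ∀ i, i < 169 → P i := stepQ 168 Q168 (allL N168 (tt N125 F685) (tt N215 (iv F859)) (tt N225 D225) (tt N168 F686) (tt N168 F687) (tt N223 (iv F892)) (tt N124 (iv D168)) (tt N168 F688))
theorem Q170 : ∀ i, i < 170 → P i := stepQ 169 Q169 (allL N169 (tt N225 (iv F898)) (tt N169 F689) (tt N125 (iv D169)) (tt N226 D226) (tt N169 F690) (tt N224 (iv F895)) (tt N169 F691) (tt N169 F692))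
theorem Q171 : ∀ i, i < 171 → P i := stepQ 170 Q170 (allL N170 (tt N170 F693) (tt N170 F694) (tt N227 D227) (tt N127 F695) (tt N170 F696) (tt N170 F697) (tt N126 (iv D170)) (tt N228 D228))
theorem Q172 : ∀ i, i < 172 → P i := stepQ 171 Q171 (allL N171 (tt N171 F698) (tt N229 D229) (tt N127 (iv D171)) (tt N230 D230) (tt N128 F699) (tt N171 F700) (tt N133 F701) (tt N231 D231))
theorem Q173 : ∀ i, i < 173 → P i := stepQ 172 Q172 (allL N172 (tt N172 F702) (tt N172 F703) (tt N231 (iv F924)) (tt N228 (iv F912)) (tt N129 F704) (tt N172 F705) (tt N172 F706) (tt N127 (iv D172)))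
theorem Q174 : ∀ i, i < 174 → P i := stepQ 173 Q173 (allL N173 (tt N232 D232) (tt N128 (iv D173)) (tt N173 F707) (tt N233 D233) (tt N229 (iv F917)) (tt N130 F708) (tt N135 F709) (tt N234 D234))
theorem Q175 : ∀ i, i < 175 → P i := stepQ 174 Q174 (allL N174 (tt N174 F710) (tt N233 (iv F931)) (tt N174 F711) (tt N128 (iv D174)) (tt N235 D235) (tt N131 F712) (tt N136 F713) (tt N236 D236))
theorem Q176 : ∀ i, i < 176 → P i := stepQ 175 Q175 (allL N175 (tt N175 F714) (tt N234 (iv F934)) (tt N129 F715) (tt N236 (iv F942)) (tt N231 (iv F925)) (tt N132 F716) (tt N237 D237) (tt N128 (iv D175)))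
theorem Q177 : ∀ i, i < 177 → P i := stepQ 176 Q176 (allL N176 (tt N130 (iv D176)) (tt N176 F717) (tt N176 F718) (tt N238 D238) (tt N176 F719) (tt N232 (iv F929)) (tt N138 F720) (tt N239 D239))
theorem Q178 : ∀ i, i < 178 → P i := stepQ 177 Q177 (allL N177 (tt N238 (iv F948)) (tt N131 F721) (tt N240 D240) (tt N130 (iv D177)) (tt N241 D241) (tt N233 (iv F932)) (tt N139 F722) (tt N242 D242))
theorem Q179 : ∀ i, i < 179 → P i := stepQ 178 Q178 (allL N178 (tt N239 (iv F951)) (tt N132 F723) (tt N178 F724) (tt N242 (iv F962)) (tt N178 F725) (tt N234 (iv F936)) (tt N243 D243) (tt N130 (iv D178)))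
theorem Q180 : ∀ i, i < 180 → P i := stepQ 179 Q179 (allL N179 (tt N179 F726) (tt N241 (iv F958)) (tt N179 F727) (tt N179 F728) (tt N131 (iv D179)) (tt N244 D244) (tt N141 F729) (tt N245 D245))
theorem Q181 : ∀ i, i < 181 → P i := stepQ 180 Q180 (allL N180 (tt N180 F730) (tt N242 (iv F961)) (tt N180 F731) (tt N132 F732) (tt N245 (iv F973)) (tt N236 (iv F943)) (tt N246 D246) (tt N131 (iv D180)))
theorem Q182 : ∀ i, i < 182 → P i := stepQ 181 Q181 (allL N181 (tt N181 F733) (tt N243 (iv F963)) (tt N181 F734) (tt N246 (iv F975)) (tt N181 F735) (tt N237 (iv F946)) (tt N132 (iv D181)) (tt N143 F736))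
theorem Q183 : ∀ i, i < 183 → P i := stepQ 182 Q182 (allL N182 (tt N247 D247) (tt N133 (iv D182)) (tt N153 F737) (tt N248 D248) (tt N135 F738) (tt N182 F739) (tt N229 (iv F919)) (tt N249 D249))
theorem Q184 : ∀ i, i < 184 → P i := stepQ 183 Q183 (allL N183 (tt N183 F740) (tt N248 (iv F981)) (tt N183 F741) (tt N133 (iv D183)) (tt N250 D250) (tt N183 F742) (tt N230 (iv F922)) (tt N251 D251))
theorem Q185 : ∀ i, i < 185 → P i := stepQ 184 Q184 (allL N184 (tt N184 F743) (tt N249 (iv F983)) (tt N134 F744) (tt N251 (iv F992)) (tt N137 F745) (tt N184 F746) (tt N252 D252) (tt N133 (iv D184)))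
theorem Q186 : ∀ i, i < 186 → P i := stepQ 185 Q185 (allL N185 (tt N135 (iv D185)) (tt N185 F747) (tt N156 F748) (tt N253 D253) (tt N247 (iv F979)) (tt N138 F749) (tt N232 (iv F930)) (tt N254 D254))
theorem Q187 : ∀ i, i < 187 → P i := stepQ 186 Q186 (allL N186 (tt N253 (iv F998)) (tt N136 F750) (tt N186 F751) (tt N135 (iv D186)) (tt N255 D255) (tt N139 F752) (tt N233 (iv F933)) (tt N256 D256))
theorem Q188 : ∀ i, i < 188 → P i := stepQ 187 Q187 (allL N187 (tt N254 (iv F1002)) (tt N137 F753) (tt N157 F754) (tt N256 (iv F1010)) (tt N249 (iv F985)) (tt N140 F755) (tt N257 D257) (tt N135 (iv D187)))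
theorem Q189 : ∀ i, i < 189 → P i := stepQ 188 Q188 (allL N188 (tt N188 F756) (tt N255 (iv F1006)) (tt N144 F757) (tt N250 (iv F989)) (tt N136 (iv D188)) (tt N258 D258) (tt N235 (iv F939)) (tt N259 D259))
theorem Q190 : ∀ i, i < 190 → P i := stepQ 189 Q189 (allL N189 (tt N189 F758) (tt N256 (iv F1008)) (tt N145 F759) (tt N137 F760) (tt N259 (iv F1019)) (tt N142 F761) (tt N260 D260) (tt N136 (iv D189)))
theorem Q191 : ∀ i, i < 191 → P i := stepQ 190 Q190 (allL N190 (tt N190 F762) (tt N257 (iv F1012)) (tt N190 F763) (tt N260 (iv F1021)) (tt N252 (iv F996)) (tt N143 F764) (tt N137 (iv D190)) (tt N237 (iv F947)))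
theorem Q192 : ∀ i, i < 192 → P i := stepQ 191 Q191 (allL N191 (tt N139 F765) (tt N191 F766) (tt N191 F767) (tt N138 (iv D191)) (tt N261 D261) (tt N253 (iv F1001)) (tt N238 (iv F950)) (tt N262 D262))
theorem Q193 : ∀ i, i < 193 → P i := stepQ 192 Q192 (allL N192 (tt N140 F768) (tt N192 F769) (tt N159 F770) (tt N262 (iv F1030)) (tt N192 F771) (tt N254 (iv F1005)) (tt N263 D263) (tt N138 (iv D192)))
theorem Q194 : ∀ i, i < 194 → P i := stepQ 193 Q193 (allL N193 (tt N261 (iv F1023)) (tt N141 F772) (tt N193 F773) (tt N193 F774) (tt N139 (iv D193)) (tt N264 D264) (tt N241 (iv F960)) (tt N265 D265))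
theorem Q195 : ∀ i, i < 195 → P i := stepQ 194 Q194 (allL N194 (tt N262 (iv F1027)) (tt N142 F775) (tt N194 F776) (tt N140 F777) (tt N265 (iv F1040)) (tt N256 (iv F1011)) (tt N266 D266) (tt N139 (iv D194)))
theorem Q196 : ∀ i, i < 196 → P i := stepQ 195 Q195 (allL N195 (tt N263 (iv F1031)) (tt N143 F778) (tt N267 D267) (tt N266 (iv F1042)) (tt N195 F779) (tt N257 (iv F1013)) (tt N140 (iv D195)) (tt N243 (iv F965)))
theorem Q197 : ∀ i, i < 197 → P i := stepQ 196 Q196 (allL N196 (tt N196 F780) (tt N264 (iv F1034)) (tt N147 F781) (tt N196 F782) (tt N258 (iv F1016)) (tt N141 (iv D196)) (tt N244 (iv F969)) (tt N268 D268))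
theorem Q198 : ∀ i, i < 198 → P i := stepQ 197 Q197 (allL N197 (tt N197 F783) (tt N265 (iv F1037)) (tt N148 F784) (tt N197 F785) (tt N142 F786) (tt N268 (iv F1049)) (tt N269 D269) (tt N141 (iv D197)))
theorem Q199 : ∀ i, i < 199 → P i := stepQ 198 Q198 (allL N198 (tt N198 F787) (tt N266 (iv F1041)) (tt N270 D270) (tt N143 F788) (tt N269 (iv F1052)) (tt N260 (iv F1022)) (tt N142 (iv D198)) (tt N246 (iv F976)))
theorem Q200 : ∀ i, i < 200 → P i := stepQ 199 Q199 (allL N199 (tt N199 F789) (tt N199 F790) (tt N258 (iv F1015)) (tt N199 F791) (tt N147 F792) (tt N144 (iv D199)) (tt N199 F793) (tt N271 D271))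
theorem Q201 : ∀ i, i < 201 → P i := stepQ 200 Q200 (allL N200 (tt N200 F794) (tt N200 F795) (tt N259 (iv F1018)) (tt N200 F796) (tt N145 F797) (tt N271 (iv F1060)) (tt N272 D272) (tt N144 (iv D200)))
theorem Q202 : ∀ i, i < 202 → P i := stepQ 201 Q201 (allL N201 (tt N201 F798) (tt N201 F799) (tt N273 D273) (tt N146 F800) (tt N272 (iv F1064)) (tt N149 F801) (tt N145 (iv D201)) (tt N201 F802))
theorem Q203 : ∀ i, i < 203 → P i := stepQ 202 Q202 (allL N202 (tt N202 F803) (tt N202 F804) (tt N268 (iv F1047)) (tt N150 F805) (tt N271 (iv F1059)) (tt N148 F806) (tt N274 D274) (tt N147 (iv D202)))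
theorem Q204 : ∀ i, i < 204 → P i := stepQ 203 Q203 (allL N203 (tt N203 F807) (tt N203 F808) (tt N275 D275) (tt N151 F809) (tt N149 F810) (tt N274 (iv F1073)) (tt N148 (iv D203)) (tt N203 F811))
theorem Q205 : ∀ i, i < 205 → P i := stepQ 204 Q204 (allL N204 (tt N204 F812) (tt N276 D276) (tt N149 (iv D204)) (tt N204 F813) (tt N275 (iv F1076)) (tt N273 (iv F1068)) (tt N270 (iv F1055)) (tt N204 F814))
theorem Q206 : ∀ i, i < 206 → P i := stepQ 205 Q205 (allL N205 (tt N205 F815) (tt N205 F816) (tt N277 D277) (tt N274 (iv F1072)) (tt N205 F817) (tt N151 F818) (tt N150 (iv D205)) (tt N205 F819))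
theorem Q207 : ∀ i, i < 207 → P i := stepQ 206 Q206 (allL N206 (tt N206 F820) (tt N278 D278) (tt N151 (iv D206)) (tt N279 D279) (tt N152 F821) (tt N277 (iv F1083)) (tt N206 F822) (tt N206 F823))
theorem Q208 : ∀ i, i < 208 → P i := stepQ 207 Q207 (allL N207 (tt N280 D280) (tt N152 (iv D207)) (tt N207 F824) (tt N207 F825) (tt N278 (iv F1087)) (tt N207 F826) (tt N207 F827) (tt N207 F828))
theorem Q209 : ∀ i, i < 209 → P i := stepQ 208 Q208 (allL N208 (tt N153 (iv D208)) (tt N161 F829) (tt N247 (iv F978)) (tt N281 D281) (tt N156 F830) (tt N208 F831) (tt N208 F832) (tt N282 D282))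
theorem Q210 : ∀ i, i < 210 → P i := stepQ 209 Q209 (allL N209 (tt N281 (iv F1100)) (tt N154 F833) (tt N283 D283) (tt N153 (iv D209)) (tt N209 F834) (tt N209 F835) (tt N209 F836) (tt N284 D284))
theorem Q211 : ∀ i, i < 211 → P i := stepQ 210 Q210 (allL N210 (tt N282 (iv F1105)) (tt N155 F837) (tt N249 (iv F984)) (tt N284 (iv F1113)) (tt N157 F838) (tt N210 F839) (tt N285 D285) (tt N153 (iv D210)))
theorem Q212 : ∀ i, i < 212 → P i := stepQ 211 Q211 (allL N211 (tt N164 F840) (tt N284 (iv F1112)) (tt N211 F841) (tt N155 F842) (tt N211 F843) (tt N211 F844) (tt N286 D286) (tt N154 (iv D211)))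
theorem Q213 : ∀ i, i < 213 → P i := stepQ 212 Q212 (allL N212 (tt N165 F845) (tt N285 (iv F1116)) (tt N212 F846) (tt N286 (iv F1121)) (tt N158 F847) (tt N212 F848) (tt N155 (iv D212)) (tt N212 F849))
theorem Q214 : ∀ i, i < 214 → P i := stepQ 213 Q213 (allL N213 (tt N157 F850) (tt N166 F851) (tt N254 (iv F1004)) (tt N213 F852) (tt N282 (iv F1107)) (tt N159 F853) (tt N287 D287) (tt N156 (iv D213)))
theorem Q215 : ∀ i, i < 215 → P i := stepQ 214 Q214 (allL N214 (tt N287 (iv F1125)) (tt N158 F854) (tt N288 D288) (tt N214 F855) (tt N285 (iv F1117)) (tt N160 F856) (tt N157 (iv D214)) (tt N214 F857))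
theorem Q216 : ∀ i, i < 216 → P i := stepQ 215 Q215 (allL N215 (tt N160 F858) (tt N168 F859) (tt N289 D289) (tt N215 F860) (tt N215 F861) (tt N287 (iv F1128)) (tt N159 (iv D215)) (tt N215 F862))
theorem Q217 : ∀ i, i < 217 → P i := stepQ 216 Q216 (allL N216 (tt N289 (iv F1133)) (tt N216 F863) (tt N160 (iv D216)) (tt N290 D290) (tt N216 F864) (tt N288 (iv F1131)) (tt N267 (iv F1045)) (tt N216 F865))
theorem Q218 : ∀ i, i < 218 → P i := stepQ 217 Q217 (allL N217 (tt N162 F866) (tt N281 (iv F1101)) (tt N291 D291) (tt N161 (iv D217)) (tt N217 F867) (tt N217 F868) (tt N217 F869) (tt N292 D292))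
theorem Q219 : ∀ i, i < 219 → P i := stepQ 218 Q218 (allL N218 (tt N163 F870) (tt N282 (iv F1106)) (tt N218 F871) (tt N292 (iv F1144)) (tt N166 F872) (tt N218 F873) (tt N293 D293) (tt N161 (iv D218)))
theorem Q220 : ∀ i, i < 220 → P i := stepQ 219 Q219 (allL N219 (tt N291 (iv F1139)) (tt N219 F874) (tt N162 (iv D219)) (tt N219 F875) (tt N219 F876) (tt N219 F877) (tt N294 D294) (tt N295 D295))
theorem Q221 : ∀ i, i < 221 → P i := stepQ 220 Q220 (allL N220 (tt N292 (iv F1143)) (tt N164 F878) (tt N295 (iv F1157)) (tt N163 F879) (tt N220 F880) (tt N220 F881) (tt N296 D296) (tt N162 (iv D220)))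
theorem Q222 : ∀ i, i < 222 → P i := stepQ 221 Q221 (allL N221 (tt N293 (iv F1147)) (tt N165 F882) (tt N297 D297) (tt N296 (iv F1162)) (tt N167 F883) (tt N221 F884) (tt N163 (iv D221)) (tt N221 F885))
theorem Q223 : ∀ i, i < 223 → P i := stepQ 222 Q222 (allL N222 (tt N286 (iv F1120)) (tt N296 (iv F1161)) (tt N298 D298) (tt N165 F886) (tt N222 F887) (tt N222 F888) (tt N164 (iv D222)) (tt N222 F889))
theorem Q224 : ∀ i, i < 224 → P i := stepQ 223 Q223 (allL N223 (tt N167 F890) (tt N287 (iv F1126)) (tt N299 D299) (tt N223 F891) (tt N293 (iv F1148)) (tt N168 F892) (tt N166 (iv D223)) (tt N223 F893))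
theorem Q225 : ∀ i, i < 225 → P i := stepQ 224 Q224 (allL N224 (tt N299 (iv F1176)) (tt N224 F894) (tt N167 (iv D224)) (tt N300 D300) (tt N297 (iv F1167)) (tt N169 F895) (tt N224 F896) (tt N224 F897))
theorem Q226 : ∀ i, i < 226 → P i := stepQ 225 Q225 (allL N225 (tt N169 F898) (tt N279 F67219) (tt N168 (iv D225)) (tt N278 (iv F67369)) (tt N225 F899) (tt N299 (iv F1177)) (tt N225 F900) (tt N225 F901))
theorem Q227 : ∀ i, i < 227 → P i := stepQ 226 Q226 (allL N226 (tt N278 F67529) (tt N226 F902) (tt N226 F903) (tt N169 (iv D226)) (tt N280 (iv F67668)) (tt N300 (iv F1182)) (tt N226 F904) (tt N226 F905))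
theorem Q228 : ∀ i, i < 228 → P i := stepQ 227 Q227 (allL N227 (tt N227 F906) (tt N301 D304) (tt N170 (iv D227)) (tt N302 D305) (tt N227 F907) (tt N227 F908) (tt N227 F909) (tt N303 D306))
theorem Q229 : ∀ i, i < 229 → P i := stepQ 228 Q228 (allL N228 (tt N228 F910) (tt N228 F911) (tt N303 (iv F1207)) (tt N172 F912) (tt N228 F913) (tt N228 F914) (tt N228 F915) (tt N170 (iv D228)))
theorem Q230 : ∀ i, i < 230 → P i := stepQ 229 Q229 (allL N229 (tt N304 D307) (tt N171 (iv D229)) (tt N229 F916) (tt N305 D308) (tt N173 F917) (tt N229 F918) (tt N182 F919) (tt N306 D309))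
theorem Q231 : ∀ i, i < 231 → P i := stepQ 230 Q230 (allL N230 (tt N230 F920) (tt N305 (iv F1215)) (tt N302 (iv F1203)) (tt N171 (iv D230)) (tt N307 D310) (tt N230 F921) (tt N183 F922) (tt N308 D311))
theorem Q232 : ∀ i, i < 232 → P i := stepQ 231 Q231 (allL N231 (tt N231 F923) (tt N306 (iv F1218)) (tt N172 F924) (tt N308 (iv F1226)) (tt N175 F925) (tt N231 F926) (tt N309 D312) (tt N171 (iv D231)))
theorem Q233 : ∀ i, i < 233 → P i := stepQ 232 Q232 (allL N232 (tt N173 (iv D232)) (tt N232 F927) (tt N232 F928) (tt N310 D313) (tt N304 (iv F1212)) (tt N176 F929) (tt N185 F930) (tt N311 D314))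
theorem Q234 : ∀ i, i < 234 → P i := stepQ 233 Q233 (allL N233 (tt N310 (iv F1233)) (tt N174 F931) (tt N312 D315) (tt N173 (iv D233)) (tt N313 D316) (tt N177 F932) (tt N186 F933) (tt N314 D317))
theorem Q235 : ∀ i, i < 235 → P i := stepQ 234 Q234 (allL N234 (tt N311 (iv F1237)) (tt N175 F934) (tt N234 F935) (tt N314 (iv F1248)) (tt N306 (iv F1220)) (tt N178 F936) (tt N315 D318) (tt N173 (iv D234)))
theorem Q236 : ∀ i, i < 236 → P i := stepQ 235 Q235 (allL N235 (tt N235 F937) (tt N313 (iv F1245)) (tt N235 F938) (tt N307 (iv F1223)) (tt N174 (iv D235)) (tt N316 D319) (tt N188 F939) (tt N317 D320))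
theorem Q237 : ∀ i, i < 237 → P i := stepQ 236 Q236 (allL N236 (tt N236 F940) (tt N314 (iv F1247)) (tt N236 F941) (tt N175 F942) (tt N317 (iv F1259)) (tt N180 F943) (tt N318 D321) (tt N174 (iv D236)))
theorem Q238 : ∀ i, i < 238 → P i := stepQ 237 Q237 (allL N237 (tt N237 F944) (tt N315 (iv F1250)) (tt N237 F945) (tt N318 (iv F1261)) (tt N309 (iv F1230)) (tt N181 F946) (tt N175 (iv D237)) (tt N190 F947))
theorem Q239 : ∀ i, i < 239 → P i := stepQ 238 Q238 (allL N238 (tt N177 F948) (tt N238 F949) (tt N319 D322) (tt N176 (iv D238)) (tt N320 D323) (tt N310 (iv F1235)) (tt N191 F950) (tt N321 D324))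
theorem Q240 : ∀ i, i < 240 → P i := stepQ 239 Q239 (allL N239 (tt N178 F951) (tt N239 F952) (tt N239 F953) (tt N321 (iv F1273)) (tt N239 F954) (tt N311 (iv F1240)) (tt N322 D325) (tt N176 (iv D239)))
theorem Q241 : ∀ i, i < 241 → P i := stepQ 240 Q240 (allL N240 (tt N319 (iv F1264)) (tt N240 F955) (tt N177 (iv D240)) (tt N240 F956) (tt N323 D326) (tt N312 (iv F1243)) (tt N240 F957) (tt N324 D327))
theorem Q242 : ∀ i, i < 242 → P i := stepQ 241 Q241 (allL N241 (tt N320 (iv F1267)) (tt N179 F958) (tt N323 (iv F1279)) (tt N241 F959) (tt N177 (iv D241)) (tt N325 D328) (tt N193 F960) (tt N326 D329))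
theorem Q243 : ∀ i, i < 243 → P i := stepQ 242 Q242 (allL N242 (tt N321 (iv F1271)) (tt N180 F961) (tt N324 (iv F1282)) (tt N178 F962) (tt N326 (iv F1289)) (tt N314 (iv F1249)) (tt N327 D330) (tt N177 (iv D242)))
theorem Q244 : ∀ i, i < 244 → P i := stepQ 243 Q243 (allL N243 (tt N322 (iv F1274)) (tt N181 F963) (tt N328 D331) (tt N327 (iv F1291)) (tt N243 F964) (tt N315 (iv F1251)) (tt N178 (iv D243)) (tt N195 F965))
theorem Q245 : ∀ i, i < 245 → P i := stepQ 244 Q244 (allL N244 (tt N244 F966) (tt N325 (iv F1284)) (tt N244 F967) (tt N244 F968) (tt N316 (iv F1255)) (tt N179 (iv D244)) (tt N196 F969) (tt N329 D332))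
theorem Q246 : ∀ i, i < 246 → P i := stepQ 245 Q245 (allL N245 (tt N245 F970) (tt N326 (iv F1287)) (tt N245 F971) (tt N245 F972) (tt N180 F973) (tt N329 (iv F1300)) (tt N330 D333) (tt N179 (iv D245)))
theorem Q247 : ∀ i, i < 247 → P i := stepQ 246 Q246 (allL N246 (tt N246 F974) (tt N327 (iv F1290)) (tt N331 D334) (tt N181 F975) (tt N330 (iv F1303)) (tt N318 (iv F1262)) (tt N180 (iv D246)) (tt N198 F976))
theorem Q248 : ∀ i, i < 248 → P i := stepQ 247 Q247 (allL N247 (tt N182 (iv D247)) (tt N247 F977) (tt N208 F978) (tt N332 D335) (tt N185 F979) (tt N247 F980) (tt N304 (iv F1214)) (tt N333 D336))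
theorem Q249 : ∀ i, i < 249 → P i := stepQ 248 Q248 (allL N248 (tt N332 (iv F1309)) (tt N183 F981) (tt N334 D337) (tt N182 (iv D248)) (tt N335 D338) (tt N248 F982) (tt N305 (iv F1217)) (tt N336 D339))
theorem Q250 : ∀ i, i < 250 → P i := stepQ 249 Q249 (allL N249 (tt N333 (iv F1312)) (tt N184 F983) (tt N210 F984) (tt N336 (iv F1323)) (tt N187 F985) (tt N249 F986) (tt N337 D340) (tt N182 (iv D249)))
theorem Q251 : ∀ i, i < 251 → P i := stepQ 250 Q250 (allL N250 (tt N250 F987) (tt N335 (iv F1320)) (tt N250 F988) (tt N188 F989) (tt N183 (iv D250)) (tt N338 D341) (tt N307 (iv F1224)) (tt N339 D342))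
theorem Q252 : ∀ i, i < 252 → P i := stepQ 251 Q251 (allL N251 (tt N251 F990) (tt N336 (iv F1322)) (tt N251 F991) (tt N184 F992) (tt N339 (iv F1335)) (tt N251 F993) (tt N340 D343) (tt N183 (iv D251)))
theorem Q253 : ∀ i, i < 253 → P i := stepQ 252 Q252 (allL N252 (tt N252 F994) (tt N337 (iv F1325)) (tt N252 F995) (tt N340 (iv F1337)) (tt N190 F996) (tt N252 F997) (tt N184 (iv D252)) (tt N309 (iv F1232)))
theorem Q254 : ∀ i, i < 254 → P i := stepQ 253 Q253 (allL N253 (tt N186 F998) (tt N253 F999) (tt N253 F1000) (tt N185 (iv D253)) (tt N341 D344) (tt N191 F1001) (tt N310 (iv F1236)) (tt N342 D345))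
theorem Q255 : ∀ i, i < 255 → P i := stepQ 254 Q254 (allL N254 (tt N187 F1002) (tt N254 F1003) (tt N213 F1004) (tt N342 (iv F1345)) (tt N333 (iv F1315)) (tt N192 F1005) (tt N343 D346) (tt N185 (iv D254)))
theorem Q256 : ∀ i, i < 256 → P i := stepQ 255 Q255 (allL N255 (tt N341 (iv F1339)) (tt N188 F1006) (tt N255 F1007) (tt N335 (iv F1321)) (tt N186 (iv D255)) (tt N344 D347) (tt N313 (iv F1246)) (tt N345 D348))
theorem Q257 : ∀ i, i < 257 → P i := stepQ 256 Q256 (allL N256 (tt N342 (iv F1342)) (tt N189 F1008) (tt N256 F1009) (tt N187 F1010) (tt N345 (iv F1355)) (tt N194 F1011) (tt N346 D349) (tt N186 (iv D256)))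
theorem Q258 : ∀ i, i < 258 → P i := stepQ 257 Q257 (allL N257 (tt N343 (iv F1347)) (tt N190 F1012) (tt N347 D350) (tt N346 (iv F1357)) (tt N337 (iv F1326)) (tt N195 F1013) (tt N187 (iv D257)) (tt N315 (iv F1252)))
theorem Q259 : ∀ i, i < 259 → P i := stepQ 258 Q258 (allL N258 (tt N258 F1014) (tt N344 (iv F1350)) (tt N199 F1015) (tt N338 (iv F1330)) (tt N196 F1016) (tt N188 (iv D258)) (tt N316 (iv F1256)) (tt N348 D351))
theorem Q260 : ∀ i, i < 260 → P i := stepQ 259 Q259 (allL N259 (tt N259 F1017) (tt N345 (iv F1353)) (tt N200 F1018) (tt N339 (iv F1334)) (tt N189 F1019) (tt N348 (iv F1365)) (tt N349 D352) (tt N188 (iv D259)))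
theorem Q261 : ∀ i, i < 261 → P i := stepQ 260 Q260 (allL N260 (tt N260 F1020) (tt N346 (iv F1356)) (tt N350 D353) (tt N190 F1021) (tt N349 (iv F1367)) (tt N198 F1022) (tt N189 (iv D260)) (tt N318 (iv F1263)))
theorem Q262 : ∀ i, i < 262 → P i := stepQ 261 Q261 (allL N261 (tt N193 F1023) (tt N261 F1024) (tt N261 F1025) (tt N261 F1026) (tt N191 (iv D261)) (tt N351 D354) (tt N320 (iv F1270)) (tt N352 D355))
theorem Q263 : ∀ i, i < 263 → P i := stepQ 262 Q262 (allL N262 (tt N194 F1027) (tt N262 F1028) (tt N262 F1029) (tt N192 F1030) (tt N352 (iv F1380)) (tt N342 (iv F1346)) (tt N353 D356) (tt N191 (iv D262)))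
theorem Q264 : ∀ i, i < 264 → P i := stepQ 263 Q263 (allL N263 (tt N195 F1031) (tt N263 F1032) (tt N354 D357) (tt N353 (iv F1383)) (tt N263 F1033) (tt N343 (iv F1349)) (tt N192 (iv D263)) (tt N322 (iv F1277)))
theorem Q265 : ∀ i, i < 265 → P i := stepQ 264 Q264 (allL N264 (tt N351 (iv F1372)) (tt N196 F1034) (tt N264 F1035) (tt N264 F1036) (tt N344 (iv F1352)) (tt N193 (iv D264)) (tt N325 (iv F1286)) (tt N355 D358))
theorem Q266 : ∀ i, i < 266 → P i := stepQ 265 Q265 (allL N265 (tt N352 (iv F1376)) (tt N197 F1037) (tt N265 F1038) (tt N265 F1039) (tt N194 F1040) (tt N355 (iv F1390)) (tt N356 D359) (tt N193 (iv D265)))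
theorem Q267 : ∀ i, i < 267 → P i := stepQ 266 Q266 (allL N266 (tt N353 (iv F1381)) (tt N198 F1041) (tt N357 D360) (tt N195 F1042) (tt N356 (iv F1393)) (tt N346 (iv F1358)) (tt N194 (iv D266)) (tt N327 (iv F1292)))
theorem Q268 : ∀ i, i < 268 → P i := stepQ 267 Q267 (allL N267 (tt N354 (iv F1384)) (tt N267 F1043) (tt N195 (iv D267)) (tt N358 D361) (tt N267 F1044) (tt N347 (iv F1360)) (tt N216 F1045) (tt N328 (iv F1296)))
theorem Q269 : ∀ i, i < 269 → P i := stepQ 268 Q268 (allL N268 (tt N268 F1046) (tt N355 (iv F1387)) (tt N202 F1047) (tt N268 F1048) (tt N348 (iv F1364)) (tt N197 F1049) (tt N359 D362) (tt N196 (iv D268)))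
theorem Q270 : ∀ i, i < 270 → P i := stepQ 269 Q269 (allL N269 (tt N269 F1050) (tt N356 (iv F1391)) (tt N360 D363) (tt N269 F1051) (tt N198 F1052) (tt N359 (iv F1399)) (tt N197 (iv D269)) (tt N330 (iv F1304)))
theorem Q271 : ∀ i, i < 271 → P i := stepQ 270 Q270 (allL N270 (tt N270 F1053) (tt N361 D364) (tt N198 (iv D270)) (tt N270 F1054) (tt N360 (iv F1401)) (tt N350 (iv F1370)) (tt N204 F1055) (tt N331 (iv F1308)))
theorem Q272 : ∀ i, i < 272 → P i := stepQ 271 Q271 (allL N271 (tt N271 F1056) (tt N271 F1057) (tt N348 (iv F1363)) (tt N271 F1058) (tt N202 F1059) (tt N200 F1060) (tt N362 D365) (tt N199 (iv D271)))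
theorem Q273 : ∀ i, i < 273 → P i := stepQ 272 Q272 (allL N272 (tt N272 F1061) (tt N272 F1062) (tt N363 D366) (tt N272 F1063) (tt N201 F1064) (tt N362 (iv F1409)) (tt N200 (iv D272)) (tt N272 F1065))
theorem Q274 : ∀ i, i < 274 → P i := stepQ 273 Q273 (allL N273 (tt N273 F1066) (tt N364 D367) (tt N201 (iv D273)) (tt N273 F1067) (tt N363 (iv F1412)) (tt N204 F1068) (tt N350 (iv F1371)) (tt N273 F1069))
theorem Q275 : ∀ i, i < 275 → P i := stepQ 274 Q274 (allL N274 (tt N274 F1070) (tt N274 F1071) (tt N365 D368) (tt N205 F1072) (tt N362 (iv F1408)) (tt N203 F1073) (tt N202 (iv D274)) (tt N274 F1074))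
theorem Q276 : ∀ i, i < 276 → P i := stepQ 275 Q275 (allL N275 (tt N275 F1075) (tt N366 D369) (tt N203 (iv D275)) (tt N367 D370) (tt N204 F1076) (tt N365 (iv F1419)) (tt N360 (iv F1402)) (tt N275 F1077))
theorem Q277 : ∀ i, i < 277 → P i := stepQ 276 Q276 (allL N276 (tt N368 D371) (tt N204 (iv D276)) (tt N276 F1078) (tt N276 F1079) (tt N366 (iv F1422)) (tt N364 (iv F1416)) (tt N361 (iv F1404)) (tt N276 F1080))
theorem Q278 : ∀ i, i < 278 → P i := stepQ 277 Q277 (allL N277 (tt N277 F1081) (tt N369 D372) (tt N205 (iv D277)) (tt N370 D373) (tt N277 F1082) (tt N206 F1083) (tt N277 F1084) (tt N277 F1085))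
theorem Q279 : ∀ i, i < 279 → P i := stepQ 278 Q278 (allL N278 (tt N226 (iv F67529)) (tt N206 (iv D278)) (tt N278 F1086) (tt N225 F67369) (tt N207 F1087) (tt N369 (iv F1434)) (tt N278 F1088) (tt N278 F1089))
theorem Q280 : ∀ i, i < 280 → P i := stepQ 279 Q279 (allL N279 (tt N279 F1090) (tt N225 (iv F67219)) (tt N367 (iv F1425)) (tt N206 (iv D279)) (tt N279 F1091) (tt N370 (iv F1438)) (tt N279 F1092) (tt N279 F1093))
theorem Q281 : ∀ i, i < 281 → P i := stepQ 280 Q280 (allL N280 (tt N207 (iv D280)) (tt N280 F1094) (tt N280 F1095) (tt N280 F1096) (tt N226 F67668) (tt N280 F1097) (tt N280 F1098) (tt N280 F1099))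
theorem Q282 : ∀ i, i < 282 → P i := stepQ 281 Q281 (allL N281 (tt N209 F1100) (tt N217 F1101) (tt N371 D376) (tt N208 (iv D281)) (tt N281 F1102) (tt N281 F1103) (tt N281 F1104) (tt N372 D377))
theorem Q283 : ∀ i, i < 283 → P i := stepQ 282 Q282 (allL N282 (tt N210 F1105) (tt N218 F1106) (tt N333 (iv F1314)) (tt N372 (iv F1455)) (tt N213 F1107) (tt N282 F1108) (tt N373 D378) (tt N208 (iv D282)))
theorem Q284 : ∀ i, i < 284 → P i := stepQ 283 Q283 (allL N283 (tt N371 (iv F1450)) (tt N283 F1109) (tt N209 (iv D283)) (tt N334 (iv F1318)) (tt N283 F1110) (tt N283 F1111) (tt N374 D379) (tt N375 D380))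
theorem Q285 : ∀ i, i < 285 → P i := stepQ 284 Q284 (allL N284 (tt N372 (iv F1453)) (tt N211 F1112) (tt N375 (iv F1468)) (tt N210 F1113) (tt N284 F1114) (tt N284 F1115) (tt N376 D381) (tt N209 (iv D284)))
theorem Q286 : ∀ i, i < 286 → P i := stepQ 285 Q285 (allL N285 (tt N373 (iv F1458)) (tt N212 F1116) (tt N377 D382) (tt N376 (iv F1472)) (tt N214 F1117) (tt N285 F1118) (tt N210 (iv D285)) (tt N285 F1119))
theorem Q287 : ∀ i, i < 287 → P i := stepQ 286 Q286 (allL N286 (tt N222 F1120) (tt N376 (iv F1471)) (tt N378 D383) (tt N212 F1121) (tt N286 F1122) (tt N286 F1123) (tt N211 (iv D286)) (tt N286 F1124))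
theorem Q288 : ∀ i, i < 288 → P i := stepQ 287 Q287 (allL N287 (tt N214 F1125) (tt N223 F1126) (tt N379 D384) (tt N287 F1127) (tt N373 (iv F1460)) (tt N215 F1128) (tt N213 (iv D287)) (tt N287 F1129))
theorem Q289 : ∀ i, i < 289 → P i := stepQ 288 Q288 (allL N288 (tt N379 (iv F1486)) (tt N288 F1130) (tt N214 (iv D288)) (tt N380 D385) (tt N377 (iv F1477)) (tt N216 F1131) (tt N347 (iv F1361)) (tt N288 F1132))
theorem Q290 : ∀ i, i < 290 → P i := stepQ 289 Q289 (allL N289 (tt N216 F1133) (tt N367 (iv F66931)) (tt N215 (iv D289)) (tt N366 F66846) (tt N289 F1134) (tt N379 (iv F1487)) (tt N354 (iv F1386)) (tt N289 F1135))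
theorem Q291 : ∀ i, i < 291 → P i := stepQ 290 Q290 (allL N290 (tt N366 F66843) (tt N290 F1136) (tt N290 F1137) (tt N216 (iv D290)) (tt N368 F66844) (tt N380 (iv F1491)) (tt N358 (iv F1396)) (tt N290 F1138))
theorem Q292 : ∀ i, i < 292 → P i := stepQ 291 Q291 (allL N291 (tt N219 F1139) (tt N381 D389) (tt N217 (iv D291)) (tt N291 F1140) (tt N291 F1141) (tt N291 F1142) (tt N382 D390) (tt N383 D391))
theorem Q293 : ∀ i, i < 293 → P i := stepQ 292 Q292 (allL N292 (tt N220 F1143) (tt N372 (iv F1454)) (tt N383 (iv F1514)) (tt N218 F1144) (tt N292 F1145) (tt N292 F1146) (tt N384 D392) (tt N217 (iv D292)))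
theorem Q294 : ∀ i, i < 294 → P i := stepQ 293 Q293 (allL N293 (tt N221 F1147) (tt N373 (iv F1459)) (tt N385 D393) (tt N384 (iv F1519)) (tt N223 F1148) (tt N293 F1149) (tt N218 (iv D293)) (tt N293 F1150))
theorem Q295 : ∀ i, i < 295 → P i := stepQ 294 Q294 (allL N294 (tt N382 (iv F1508)) (tt N294 F1151) (tt N294 F1152) (tt N294 F1153) (tt N294 F1154) (tt N294 F1155) (tt N219 (iv D294)) (tt N294 F68138))
theorem Q296 : ∀ i, i < 296 → P i := stepQ 295 Q295 (allL N295 (tt N383 (iv F1513)) (tt N295 F1156) (tt N220 F1157) (tt N295 F1158) (tt N295 F1159) (tt N295 F1160) (tt N295 F67836) (tt N219 (iv D295)))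
theorem Q297 : ∀ i, i < 297 → P i := stepQ 296 Q296 (allL N296 (tt N384 (iv F1518)) (tt N222 F1161) (tt N296 F67540) (tt N221 F1162) (tt N296 F1163) (tt N296 F1164) (tt N220 (iv D296)) (tt N296 F1165))
theorem Q298 : ∀ i, i < 298 → P i := stepQ 297 Q297 (allL N297 (tt N385 (iv F1523)) (tt N297 F1166) (tt N221 (iv D297)) (tt N297 F67539) (tt N224 F1167) (tt N297 F1168) (tt N297 F1169) (tt N297 F1170))
theorem Q299 : ∀ i, i < 299 → P i := stepQ 298 Q298 (allL N298 (tt N378 (iv F1480)) (tt N298 F67673) (tt N222 (iv D298)) (tt N298 F1171) (tt N298 F1172) (tt N298 F1173) (tt N298 F1174) (tt N298 F1175))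
theorem Q300 : ∀ i, i < 300 → P i := stepQ 299 Q299 (allL N299 (tt N224 F1176) (tt N370 F67370) (tt N223 (iv D299)) (tt N369 (iv F67531)) (tt N385 (iv F1524)) (tt N225 F1177) (tt N299 F1178) (tt N299 F1179))
theorem Q301 : ∀ i, i < 301 → P i := stepQ 300 Q300 (allL N300 (tt N369 (iv F67530)) (tt N300 F1180) (tt N300 F1181) (tt N224 (iv D300)) (tt N300 F67538) (tt N226 F1182) (tt N300 F1183) (tt N300 F1184))
theorem Q302 : ∀ i, i < 302 → P i := stepQ 301 Q301 (allL N301 (tt N386 D405) (tt N227 (iv D304)) (tt N301 F1198) (tt N387 D406) (tt N301 F1199) (tt N301 F1200) (tt N301 F1201) (tt N388 D407))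
theorem Q303 : ∀ i, i < 303 → P i := stepQ 302 Q302 (allL N302 (tt N302 F1202) (tt N387 (iv F1581)) (tt N230 F1203) (tt N227 (iv D305)) (tt N389 D408) (tt N302 F1204) (tt N302 F1205) (tt N390 D409))
theorem Q304 : ∀ i, i < 304 → P i := stepQ 303 Q303 (allL N303 (tt N303 F1206) (tt N388 (iv F1584)) (tt N228 F1207) (tt N390 (iv F1594)) (tt N303 F1208) (tt N303 F1209) (tt N391 D410) (tt N227 (iv D306)))
theorem Q305 : ∀ i, i < 305 → P i := stepQ 304 Q304 (allL N304 (tt N229 (iv D307)) (tt N304 F1210) (tt N304 F1211) (tt N392 D411) (tt N232 F1212) (tt N304 F1213) (tt N247 F1214) (tt N393 D412))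
theorem Q306 : ∀ i, i < 306 → P i := stepQ 305 Q305 (allL N305 (tt N392 (iv F1601)) (tt N230 F1215) (tt N394 D413) (tt N229 (iv D308)) (tt N395 D414) (tt N305 F1216) (tt N248 F1217) (tt N396 D415))
theorem Q307 : ∀ i, i < 307 → P i := stepQ 306 Q306 (allL N306 (tt N393 (iv F1605)) (tt N231 F1218) (tt N306 F1219) (tt N396 (iv F1616)) (tt N234 F1220) (tt N306 F1221) (tt N397 D416) (tt N229 (iv D309)))
theorem Q308 : ∀ i, i < 308 → P i := stepQ 307 Q307 (allL N307 (tt N307 F1222) (tt N395 (iv F1612)) (tt N389 (iv F1589)) (tt N235 F1223) (tt N230 (iv D310)) (tt N398 D417) (tt N250 F1224) (tt N399 D418))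
theorem Q309 : ∀ i, i < 309 → P i := stepQ 308 Q308 (allL N308 (tt N308 F1225) (tt N396 (iv F1615)) (tt N390 (iv F1593)) (tt N231 F1226) (tt N399 (iv F1628)) (tt N308 F1227) (tt N400 D419) (tt N230 (iv D311)))
theorem Q310 : ∀ i, i < 310 → P i := stepQ 309 Q309 (allL N309 (tt N309 F1228) (tt N397 (iv F1618)) (tt N309 F1229) (tt N400 (iv F1630)) (tt N237 F1230) (tt N309 F1231) (tt N231 (iv D312)) (tt N252 F1232))
theorem Q311 : ∀ i, i < 311 → P i := stepQ 310 Q310 (allL N310 (tt N233 F1233) (tt N310 F1234) (tt N401 D420) (tt N232 (iv D313)) (tt N402 D421) (tt N238 F1235) (tt N253 F1236) (tt N403 D422))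
theorem Q312 : ∀ i, i < 312 → P i := stepQ 311 Q311 (allL N311 (tt N234 F1237) (tt N311 F1238) (tt N311 F1239) (tt N403 (iv F1642)) (tt N393 (iv F1608)) (tt N239 F1240) (tt N404 D423) (tt N232 (iv D314)))
theorem Q313 : ∀ i, i < 313 → P i := stepQ 312 Q312 (allL N312 (tt N401 (iv F1633)) (tt N312 F1241) (tt N233 (iv D315)) (tt N312 F1242) (tt N405 D424) (tt N240 F1243) (tt N312 F1244) (tt N406 D425))
theorem Q314 : ∀ i, i < 314 → P i := stepQ 313 Q313 (allL N313 (tt N402 (iv F1637)) (tt N235 F1245) (tt N405 (iv F1649)) (tt N395 (iv F1613)) (tt N233 (iv D316)) (tt N407 D426) (tt N255 F1246) (tt N408 D427))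
theorem Q315 : ∀ i, i < 315 → P i := stepQ 314 Q314 (allL N314 (tt N403 (iv F1640)) (tt N236 F1247) (tt N406 (iv F1652)) (tt N234 F1248) (tt N408 (iv F1659)) (tt N242 F1249) (tt N409 D428) (tt N233 (iv D317)))
theorem Q316 : ∀ i, i < 316 → P i := stepQ 315 Q315 (allL N315 (tt N404 (iv F1644)) (tt N237 F1250) (tt N410 D429) (tt N409 (iv F1661)) (tt N397 (iv F1619)) (tt N243 F1251) (tt N234 (iv D318)) (tt N257 F1252))
theorem Q317 : ∀ i, i < 317 → P i := stepQ 316 Q316 (allL N316 (tt N316 F1253) (tt N407 (iv F1655)) (tt N316 F1254) (tt N398 (iv F1623)) (tt N244 F1255) (tt N235 (iv D319)) (tt N258 F1256) (tt N411 D430))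
theorem Q318 : ∀ i, i < 318 → P i := stepQ 317 Q317 (allL N317 (tt N317 F1257) (tt N408 (iv F1658)) (tt N317 F1258) (tt N399 (iv F1627)) (tt N236 F1259) (tt N411 (iv F1671)) (tt N412 D431) (tt N235 (iv D320)))
theorem Q319 : ∀ i, i < 319 → P i := stepQ 318 Q318 (allL N318 (tt N318 F1260) (tt N409 (iv F1660)) (tt N413 D432) (tt N237 F1261) (tt N412 (iv F1673)) (tt N246 F1262) (tt N236 (iv D321)) (tt N260 F1263))
theorem Q320 : ∀ i, i < 320 → P i := stepQ 319 Q319 (allL N319 (tt N240 F1264) (tt N414 D433) (tt N238 (iv D322)) (tt N319 F1265) (tt N415 D434) (tt N401 (iv F1635)) (tt N319 F1266) (tt N416 D435))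
theorem Q321 : ∀ i, i < 321 → P i := stepQ 320 Q320 (allL N320 (tt N241 F1267) (tt N320 F1268) (tt N415 (iv F1685)) (tt N320 F1269) (tt N238 (iv D323)) (tt N417 D436) (tt N261 F1270) (tt N418 D437))
theorem Q322 : ∀ i, i < 322 → P i := stepQ 321 Q321 (allL N321 (tt N242 F1271) (tt N321 F1272) (tt N416 (iv F1688)) (tt N239 F1273) (tt N418 (iv F1697)) (tt N403 (iv F1643)) (tt N419 D438) (tt N238 (iv D324)))
theorem Q323 : ∀ i, i < 323 → P i := stepQ 322 Q322 (allL N322 (tt N243 F1274) (tt N322 F1275) (tt N420 D439) (tt N419 (iv F1700)) (tt N322 F1276) (tt N404 (iv F1646)) (tt N239 (iv D325)) (tt N263 F1277))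
theorem Q324 : ∀ i, i < 324 → P i := stepQ 323 Q323 (allL N323 (tt N415 (iv F1684)) (tt N323 F1278) (tt N241 F1279) (tt N421 D440) (tt N240 (iv D326)) (tt N422 D441) (tt N323 F1280) (tt N423 D442))
theorem Q325 : ∀ i, i < 325 → P i := stepQ 324 Q324 (allL N324 (tt N416 (iv F1687)) (tt N324 F1281) (tt N242 F1282) (tt N324 F1283) (tt N423 (iv F1715)) (tt N406 (iv F1654)) (tt N424 D443) (tt N240 (iv D327)))
theorem Q326 : ∀ i, i < 326 → P i := stepQ 325 Q325 (allL N325 (tt N417 (iv F1690)) (tt N244 F1284) (tt N422 (iv F1711)) (tt N325 F1285) (tt N407 (iv F1656)) (tt N241 (iv D328)) (tt N264 F1286) (tt N425 D444))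
theorem Q327 : ∀ i, i < 327 → P i := stepQ 326 Q326 (allL N326 (tt N418 (iv F1694)) (tt N245 F1287) (tt N423 (iv F1714)) (tt N326 F1288) (tt N242 F1289) (tt N425 (iv F1721)) (tt N426 D445) (tt N241 (iv D329)))
theorem Q328 : ∀ i, i < 328 → P i := stepQ 327 Q327 (allL N327 (tt N419 (iv F1698)) (tt N246 F1290) (tt N427 D446) (tt N243 F1291) (tt N426 (iv F1724)) (tt N409 (iv F1662)) (tt N242 (iv D330)) (tt N266 F1292))
theorem Q329 : ∀ i, i < 329 → P i := stepQ 328 Q328 (allL N328 (tt N420 (iv F1702)) (tt N328 F1293) (tt N243 (iv D331)) (tt N428 D447) (tt N328 F1294) (tt N410 (iv F1665)) (tt N328 F1295) (tt N267 F1296))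
theorem Q330 : ∀ i, i < 330 → P i := stepQ 329 Q329 (allL N329 (tt N329 F1297) (tt N425 (iv F1719)) (tt N329 F1298) (tt N329 F1299) (tt N411 (iv F1670)) (tt N245 F1300) (tt N429 D448) (tt N244 (iv D332)))
theorem Q331 : ∀ i, i < 331 → P i := stepQ 330 Q330 (allL N330 (tt N330 F1301) (tt N426 (iv F1722)) (tt N430 D449) (tt N330 F1302) (tt N246 F1303) (tt N429 (iv F1732)) (tt N245 (iv D333)) (tt N269 F1304))
theorem Q332 : ∀ i, i < 332 → P i := stepQ 331 Q331 (allL N331 (tt N331 F1305) (tt N431 D450) (tt N246 (iv D334)) (tt N331 F1306) (tt N430 (iv F1735)) (tt N413 (iv F1677)) (tt N331 F1307) (tt N270 F1308))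
theorem Q333 : ∀ i, i < 333 → P i := stepQ 332 Q332 (allL N332 (tt N248 F1309) (tt N332 F1310) (tt N432 D451) (tt N247 (iv D335)) (tt N433 D452) (tt N332 F1311) (tt N392 (iv F1604)) (tt N434 D453))
theorem Q334 : ∀ i, i < 334 → P i := stepQ 333 Q333 (allL N333 (tt N249 F1312) (tt N333 F1313) (tt N282 F1314) (tt N434 (iv F1749)) (tt N254 F1315) (tt N333 F1316) (tt N435 D454) (tt N247 (iv D336)))
theorem Q335 : ∀ i, i < 335 → P i := stepQ 334 Q334 (allL N334 (tt N432 (iv F1741)) (tt N334 F1317) (tt N248 (iv D337)) (tt N283 F1318) (tt N436 D455) (tt N334 F1319) (tt N437 D456) (tt N438 D457))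
theorem Q336 : ∀ i, i < 336 → P i := stepQ 335 Q335 (allL N335 (tt N433 (iv F1744)) (tt N250 F1320) (tt N436 (iv F1756)) (tt N255 F1321) (tt N248 (iv D338)) (tt N439 D458) (tt N395 (iv F1614)) (tt N440 D459))
theorem Q337 : ∀ i, i < 337 → P i := stepQ 336 Q336 (allL N336 (tt N434 (iv F1747)) (tt N251 F1322) (tt N438 (iv F1762)) (tt N249 F1323) (tt N440 (iv F1770)) (tt N336 F1324) (tt N441 D460) (tt N248 (iv D339)))
theorem Q338 : ∀ i, i < 338 → P i := stepQ 337 Q337 (allL N337 (tt N435 (iv F1751)) (tt N252 F1325) (tt N442 D461) (tt N441 (iv F1772)) (tt N257 F1326) (tt N337 F1327) (tt N249 (iv D340)) (tt N397 (iv F1621)))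
theorem Q339 : ∀ i, i < 339 → P i := stepQ 338 Q338 (allL N338 (tt N338 F1328) (tt N439 (iv F1765)) (tt N338 F1329) (tt N258 F1330) (tt N338 F1331) (tt N250 (iv D341)) (tt N398 (iv F1625)) (tt N443 D462))
theorem Q340 : ∀ i, i < 340 → P i := stepQ 339 Q339 (allL N339 (tt N339 F1332) (tt N440 (iv F1768)) (tt N339 F1333) (tt N259 F1334) (tt N251 F1335) (tt N443 (iv F1782)) (tt N444 D463) (tt N250 (iv D342)))
theorem Q341 : ∀ i, i < 341 → P i := stepQ 340 Q340 (allL N340 (tt N340 F1336) (tt N441 (iv F1771)) (tt N445 D464) (tt N252 F1337) (tt N444 (iv F1785)) (tt N340 F1338) (tt N251 (iv D343)) (tt N400 (iv F1632)))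
theorem Q342 : ∀ i, i < 342 → P i := stepQ 341 Q341 (allL N341 (tt N255 F1339) (tt N341 F1340) (tt N341 F1341) (tt N433 (iv F1746)) (tt N253 (iv D344)) (tt N446 D465) (tt N402 (iv F1639)) (tt N447 D466))
theorem Q343 : ∀ i, i < 343 → P i := stepQ 342 Q342 (allL N342 (tt N256 F1342) (tt N342 F1343) (tt N342 F1344) (tt N254 F1345) (tt N447 (iv F1797)) (tt N262 F1346) (tt N448 D467) (tt N253 (iv D345)))
theorem Q344 : ∀ i, i < 344 → P i := stepQ 343 Q343 (allL N343 (tt N257 F1347) (tt N343 F1348) (tt N449 D468) (tt N448 (iv F1800)) (tt N435 (iv F1753)) (tt N263 F1349) (tt N254 (iv D346)) (tt N404 (iv F1647)))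
theorem Q345 : ∀ i, i < 345 → P i := stepQ 344 Q344 (allL N344 (tt N446 (iv F1790)) (tt N258 F1350) (tt N344 F1351) (tt N439 (iv F1766)) (tt N264 F1352) (tt N255 (iv D347)) (tt N407 (iv F1657)) (tt N450 D469))
theorem Q346 : ∀ i, i < 346 → P i := stepQ 345 Q345 (allL N345 (tt N447 (iv F1794)) (tt N259 F1353) (tt N345 F1354) (tt N440 (iv F1769)) (tt N256 F1355) (tt N450 (iv F1808)) (tt N451 D470) (tt N255 (iv D348)))
theorem Q347 : ∀ i, i < 347 → P i := stepQ 346 Q346 (allL N346 (tt N448 (iv F1798)) (tt N260 F1356) (tt N452 D471) (tt N257 F1357) (tt N451 (iv F1810)) (tt N266 F1358) (tt N256 (iv D349)) (tt N409 (iv F1663)))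
theorem Q348 : ∀ i, i < 348 → P i := stepQ 347 Q347 (allL N347 (tt N449 (iv F1802)) (tt N347 F1359) (tt N257 (iv D350)) (tt N453 D472) (tt N442 (iv F1775)) (tt N267 F1360) (tt N288 F1361) (tt N410 (iv F1667)))
theorem Q349 : ∀ i, i < 349 → P i := stepQ 348 Q348 (allL N348 (tt N348 F1362) (tt N450 (iv F1805)) (tt N271 F1363) (tt N443 (iv F1780)) (tt N268 F1364) (tt N259 F1365) (tt N454 D473) (tt N258 (iv D351)))
theorem Q350 : ∀ i, i < 350 → P i := stepQ 349 Q349 (allL N349 (tt N349 F1366) (tt N451 (iv F1809)) (tt N455 D474) (tt N444 (iv F1784)) (tt N260 F1367) (tt N454 (iv F1818)) (tt N259 (iv D352)) (tt N412 (iv F1674)))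
theorem Q351 : ∀ i, i < 351 → P i := stepQ 350 Q350 (allL N350 (tt N350 F1368) (tt N456 D475) (tt N260 (iv D353)) (tt N350 F1369) (tt N455 (iv F1820)) (tt N270 F1370) (tt N273 F1371) (tt N413 (iv F1679)))
theorem Q352 : ∀ i, i < 352 → P i := stepQ 351 Q351 (allL N351 (tt N264 F1372) (tt N351 F1373) (tt N351 F1374) (tt N351 F1375) (tt N446 (iv F1793)) (tt N261 (iv D354)) (tt N417 (iv F1693)) (tt N457 D476))
theorem Q353 : ∀ i, i < 353 → P i := stepQ 352 Q352 (allL N352 (tt N265 F1376) (tt N352 F1377) (tt N352 F1378) (tt N352 F1379) (tt N262 F1380) (tt N457 (iv F1829)) (tt N458 D477) (tt N261 (iv D355)))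
theorem Q354 : ∀ i, i < 354 → P i := stepQ 353 Q353 (allL N353 (tt N266 F1381) (tt N353 F1382) (tt N459 D478) (tt N263 F1383) (tt N458 (iv F1833)) (tt N448 (iv F1801)) (tt N262 (iv D356)) (tt N419 (iv F1701)))
theorem Q355 : ∀ i, i < 355 → P i := stepQ 354 Q354 (allL N354 (tt N267 F1384) (tt N460 D479) (tt N263 (iv D357)) (tt N461 D480) (tt N354 F1385) (tt N449 (iv F1803)) (tt N289 F1386) (tt N420 (iv F1705)))
theorem Q356 : ∀ i, i < 356 → P i := stepQ 355 Q355 (allL N355 (tt N457 (iv F1825)) (tt N268 F1387) (tt N355 F1388) (tt N355 F1389) (tt N450 (iv F1807)) (tt N265 F1390) (tt N462 D481) (tt N264 (iv D358)))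
theorem Q357 : ∀ i, i < 357 → P i := stepQ 356 Q356 (allL N356 (tt N458 (iv F1830)) (tt N269 F1391) (tt N463 D482) (tt N356 F1392) (tt N266 F1393) (tt N462 (iv F1844)) (tt N265 (iv D359)) (tt N426 (iv F1725)))
theorem Q358 : ∀ i, i < 358 → P i := stepQ 357 Q357 (allL N357 (tt N459 (iv F1834)) (tt N464 D483) (tt N266 (iv D360)) (tt N465 D484) (tt N463 (iv F1845)) (tt N452 (iv F1811)) (tt N357 F1394) (tt N427 (iv F1726)))
theorem Q359 : ∀ i, i < 359 → P i := stepQ 358 Q358 (allL N358 (tt N461 (iv F1840)) (tt N358 F1395) (tt N465 (iv F1849)) (tt N267 (iv D361)) (tt N466 D485) (tt N453 (iv F1814)) (tt N290 F1396) (tt N428 (iv F1729)))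
theorem Q360 : ∀ i, i < 360 → P i := stepQ 359 Q359 (allL N359 (tt N359 F1397) (tt N462 (iv F1842)) (tt N467 D486) (tt N359 F1398) (tt N454 (iv F1817)) (tt N269 F1399) (tt N268 (iv D362)) (tt N429 (iv F1733)))
theorem Q361 : ∀ i, i < 361 → P i := stepQ 360 Q360 (allL N360 (tt N360 F1400) (tt N461 F66699) (tt N269 (iv D363)) (tt N460 (iv F66845)) (tt N270 F1401) (tt N467 (iv F1855)) (tt N275 F1402) (tt N430 (iv F1737)))
theorem Q362 : ∀ i, i < 362 → P i := stepQ 361 Q361 (allL N361 (tt N466 (iv F66591)) (tt N270 (iv D364)) (tt N464 (iv F1847)) (tt N361 F1403) (tt N461 (iv F66578)) (tt N456 (iv F1823)) (tt N276 F1404) (tt N431 (iv F1740)))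
theorem Q363 : ∀ i, i < 363 → P i := stepQ 362 Q362 (allL N362 (tt N362 F1405) (tt N362 F1406) (tt N468 D490) (tt N362 F1407) (tt N274 F1408) (tt N272 F1409) (tt N271 (iv D365)) (tt N362 F1410))
theorem Q364 : ∀ i, i < 364 → P i := stepQ 363 Q363 (allL N363 (tt N363 F1411) (tt N469 D491) (tt N272 (iv D366)) (tt N470 D492) (tt N273 F1412) (tt N468 (iv F1868)) (tt N455 (iv F1821)) (tt N363 F1413))
theorem Q365 : ∀ i, i < 365 → P i := stepQ 364 Q364 (allL N364 (tt N471 D493) (tt N273 (iv D367)) (tt N364 F1414) (tt N364 F1415) (tt N469 (iv F1871)) (tt N276 F1416) (tt N456 (iv F1824)) (tt N364 F1417))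
theorem Q366 : ∀ i, i < 366 → P i := stepQ 365 Q365 (allL N365 (tt N365 F1418) (tt N472 D494) (tt N274 (iv D368)) (tt N473 D495) (tt N468 (iv F1867)) (tt N275 F1419) (tt N467 (iv F1856)) (tt N365 F1420))
theorem Q367 : ∀ i, i < 367 → P i := stepQ 366 Q366 (allL N366 (tt N290 (iv F66843)) (tt N275 (iv D369)) (tt N366 F1421) (tt N289 (iv F66846)) (tt N276 F1422) (tt N472 (iv F1883)) (tt N461 F66700) (tt N366 F1423))
theorem Q368 : ∀ i, i < 368 → P i := stepQ 367 Q367 (allL N367 (tt N367 F1424) (tt N289 F66931) (tt N279 F1425) (tt N275 (iv D370)) (tt N367 F1426) (tt N473 (iv F1887)) (tt N460 F66932) (tt N367 F1427))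
theorem Q369 : ∀ i, i < 369 → P i := stepQ 368 Q368 (allL N368 (tt N276 (iv D371)) (tt N368 F1428) (tt N368 F1429) (tt N368 F1430) (tt N290 (iv F66844)) (tt N471 (iv F1880)) (tt N466 F66722) (tt N368 F1431))
theorem Q370 : ∀ i, i < 370 → P i := stepQ 369 Q369 (allL N369 (tt N300 F67530) (tt N277 (iv D372)) (tt N369 F1432) (tt N299 F67531) (tt N369 F1433) (tt N278 F1434) (tt N369 F1435) (tt N369 F1436))
theorem Q371 : ∀ i, i < 371 → P i := stepQ 370 Q370 (allL N370 (tt N370 F1437) (tt N299 (iv F67370)) (tt N473 (iv F1886)) (tt N277 (iv D373)) (tt N474 D500) (tt N279 F1438) (tt N370 F1439) (tt N370 F1440))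
theorem Q372 : ∀ i, i < 372 → P i := stepQ 371 Q371 (allL N371 (tt N283 F1450) (tt N475 D503) (tt N281 (iv D376)) (tt N432 (iv F1742)) (tt N371 F1451) (tt N371 F1452) (tt N476 D504) (tt N477 D505))
theorem Q373 : ∀ i, i < 373 → P i := stepQ 372 Q372 (allL N372 (tt N284 F1453) (tt N292 F1454) (tt N477 (iv F1928)) (tt N282 F1455) (tt N372 F1456) (tt N372 F1457) (tt N478 D506) (tt N281 (iv D377)))
theorem Q374 : ∀ i, i < 374 → P i := stepQ 373 Q373 (allL N373 (tt N285 F1458) (tt N293 F1459) (tt N479 D507) (tt N478 (iv F1933)) (tt N287 F1460) (tt N373 F1461) (tt N282 (iv D378)) (tt N373 F1462))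
theorem Q375 : ∀ i, i < 375 → P i := stepQ 374 Q374 (allL N374 (tt N476 (iv F1923)) (tt N374 F1463) (tt N374 F1464) (tt N437 (iv F1759)) (tt N374 F1465) (tt N374 F1466) (tt N283 (iv D379)) (tt N480 D508))
theorem Q376 : ∀ i, i < 376 → P i := stepQ 375 Q375 (allL N375 (tt N477 (iv F1927)) (tt N375 F1467) (tt N284 F1468) (tt N438 (iv F1763)) (tt N375 F1469) (tt N375 F1470) (tt N481 D509) (tt N283 (iv D380)))
theorem Q377 : ∀ i, i < 377 → P i := stepQ 376 Q376 (allL N376 (tt N478 (iv F1931)) (tt N286 F1471) (tt N482 D510) (tt N285 F1472) (tt N376 F1473) (tt N376 F1474) (tt N284 (iv D381)) (tt N376 F1475))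
theorem Q378 : ∀ i, i < 378 → P i := stepQ 377 Q377 (allL N377 (tt N479 (iv F1937)) (tt N377 F1476) (tt N285 (iv D382)) (tt N483 D511) (tt N288 F1477) (tt N377 F1478) (tt N442 (iv F1777)) (tt N377 F1479))
theorem Q379 : ∀ i, i < 379 → P i := stepQ 378 Q378 (allL N378 (tt N298 F1480) (tt N484 D512) (tt N286 (iv D383)) (tt N378 F1481) (tt N378 F1482) (tt N378 F1483) (tt N378 F1484) (tt N378 F1485))
theorem Q380 : ∀ i, i < 380 → P i := stepQ 379 Q379 (allL N379 (tt N288 F1486) (tt N473 (iv F67081)) (tt N287 (iv D384)) (tt N472 F66980) (tt N479 (iv F1938)) (tt N289 F1487) (tt N449 (iv F1804)) (tt N379 F1488))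
theorem Q381 : ∀ i, i < 381 → P i := stepQ 380 Q380 (allL N380 (tt N472 F66976) (tt N380 F1489) (tt N380 F1490) (tt N288 (iv D385)) (tt N485 D515) (tt N290 F1491) (tt N453 (iv F1815)) (tt N380 F1492))
theorem Q382 : ∀ i, i < 382 → P i := stepQ 381 Q381 (allL N381 (tt N381 F1504) (tt N291 (iv D389)) (tt N475 (iv F1920)) (tt N381 F1505) (tt N381 F1506) (tt N381 F1507) (tt N486 D519) (tt N487 D520))
theorem Q383 : ∀ i, i < 383 → P i := stepQ 382 Q382 (allL N382 (tt N294 F1508) (tt N486 (iv F1982)) (tt N382 F1509) (tt N382 F1510) (tt N382 F1511) (tt N382 F1512) (tt N291 (iv D390)) (tt N382 F68226))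
theorem Q384 : ∀ i, i < 384 → P i := stepQ 383 Q383 (allL N383 (tt N295 F1513) (tt N487 (iv F1987)) (tt N292 F1514) (tt N383 F1515) (tt N383 F1516) (tt N383 F1517) (tt N383 F67968) (tt N291 (iv D391)))
theorem Q385 : ∀ i, i < 385 → P i := stepQ 384 Q384 (allL N384 (tt N296 F1518) (tt N478 (iv F1932)) (tt N384 F67670) (tt N293 F1519) (tt N384 F1520) (tt N384 F1521) (tt N292 (iv D392)) (tt N384 F1522))
theorem Q386 : ∀ i, i < 386 → P i := stepQ 385 Q385 (allL N385 (tt N297 F1523) (tt N474 F67532) (tt N293 (iv D393)) (tt N385 F67669) (tt N299 F1524) (tt N385 F1525) (tt N385 F1526) (tt N385 F1527))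
theorem Q387 : ∀ i, i < 387 → P i := stepQ 386 Q386 (allL N386 (tt N301 (iv D405)) (tt N386 F1576) (tt N386 F1577) (tt N488 D538) (tt N386 F1578) (tt N386 F1579) (tt N386 F1580) (tt N489 D539))
theorem Q388 : ∀ i, i < 388 → P i := stepQ 387 Q387 (allL N387 (tt N488 (iv F2064)) (tt N302 F1581) (tt N490 D540) (tt N301 (iv D406)) (tt N491 D541) (tt N387 F1582) (tt N387 F1583) (tt N492 D542))
theorem Q389 : ∀ i, i < 389 → P i := stepQ 388 Q388 (allL N388 (tt N489 (iv F2068)) (tt N303 F1584) (tt N388 F1585) (tt N492 (iv F2080)) (tt N388 F1586) (tt N388 F1587) (tt N493 D543) (tt N301 (iv D407)))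
theorem Q390 : ∀ i, i < 390 → P i := stepQ 389 Q389 (allL N389 (tt N389 F1588) (tt N491 (iv F2076)) (tt N307 F1589) (tt N389 F1590) (tt N302 (iv D408)) (tt N494 D544) (tt N389 F1591) (tt N495 D545))
theorem Q391 : ∀ i, i < 391 → P i := stepQ 390 Q390 (allL N390 (tt N390 F1592) (tt N492 (iv F2079)) (tt N308 F1593) (tt N303 F1594) (tt N495 (iv F2094)) (tt N390 F1595) (tt N496 D546) (tt N302 (iv D409)))
theorem Q392 : ∀ i, i < 392 → P i := stepQ 391 Q391 (allL N391 (tt N391 F1596) (tt N493 (iv F2082)) (tt N391 F1597) (tt N496 (iv F2096)) (tt N391 F1598) (tt N391 F1599) (tt N303 (iv D410)) (tt N391 F1600))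
theorem Q393 : ∀ i, i < 393 → P i := stepQ 392 Q392 (allL N392 (tt N305 F1601) (tt N392 F1602) (tt N497 D547) (tt N304 (iv D411)) (tt N498 D548) (tt N392 F1603) (tt N332 F1604) (tt N499 D549))
theorem Q394 : ∀ i, i < 394 → P i := stepQ 393 Q393 (allL N393 (tt N306 F1605) (tt N393 F1606) (tt N393 F1607) (tt N499 (iv F2108)) (tt N311 F1608) (tt N393 F1609) (tt N500 D550) (tt N304 (iv D412)))
theorem Q395 : ∀ i, i < 395 → P i := stepQ 394 Q394 (allL N394 (tt N497 (iv F2099)) (tt N490 (iv F2073)) (tt N305 (iv D413)) (tt N394 F1610) (tt N501 D551) (tt N394 F1611) (tt N502 D552) (tt N503 D553))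
theorem Q396 : ∀ i, i < 396 → P i := stepQ 395 Q395 (allL N395 (tt N498 (iv F2102)) (tt N307 F1612) (tt N501 (iv F2115)) (tt N313 F1613) (tt N305 (iv D414)) (tt N504 D554) (tt N335 F1614) (tt N505 D555))
theorem Q397 : ∀ i, i < 397 → P i := stepQ 396 Q396 (allL N396 (tt N499 (iv F2106)) (tt N308 F1615) (tt N503 (iv F2119)) (tt N306 F1616) (tt N505 (iv F2128)) (tt N396 F1617) (tt N506 D556) (tt N305 (iv D415)))
theorem Q398 : ∀ i, i < 398 → P i := stepQ 397 Q397 (allL N397 (tt N500 (iv F2110)) (tt N309 F1618) (tt N507 D557) (tt N506 (iv F2130)) (tt N315 F1619) (tt N397 F1620) (tt N306 (iv D416)) (tt N337 F1621))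
theorem Q399 : ∀ i, i < 399 → P i := stepQ 398 Q398 (allL N398 (tt N398 F1622) (tt N504 (iv F2122)) (tt N494 (iv F2087)) (tt N316 F1623) (tt N398 F1624) (tt N307 (iv D417)) (tt N338 F1625) (tt N508 D558))
theorem Q400 : ∀ i, i < 400 → P i := stepQ 399 Q399 (allL N399 (tt N399 F1626) (tt N505 (iv F2126)) (tt N495 (iv F2092)) (tt N317 F1627) (tt N308 F1628) (tt N508 (iv F2141)) (tt N509 D559) (tt N307 (iv D418)))
theorem Q401 : ∀ i, i < 401 → P i := stepQ 400 Q400 (allL N400 (tt N400 F1629) (tt N506 (iv F2129)) (tt N510 D560) (tt N309 F1630) (tt N509 (iv F2144)) (tt N400 F1631) (tt N308 (iv D419)) (tt N340 F1632))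
theorem Q402 : ∀ i, i < 402 → P i := stepQ 401 Q401 (allL N401 (tt N312 F1633) (tt N511 D561) (tt N310 (iv D420)) (tt N401 F1634) (tt N512 D562) (tt N319 F1635) (tt N401 F1636) (tt N513 D563))
theorem Q403 : ∀ i, i < 403 → P i := stepQ 402 Q402 (allL N402 (tt N313 F1637) (tt N402 F1638) (tt N512 (iv F2156)) (tt N498 (iv F2104)) (tt N310 (iv D421)) (tt N514 D564) (tt N341 F1639) (tt N515 D565))
theorem Q404 : ∀ i, i < 404 → P i := stepQ 403 Q403 (allL N403 (tt N314 F1640) (tt N403 F1641) (tt N513 (iv F2159)) (tt N311 F1642) (tt N515 (iv F2168)) (tt N321 F1643) (tt N516 D566) (tt N310 (iv D422)))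
theorem Q405 : ∀ i, i < 405 → P i := stepQ 404 Q404 (allL N404 (tt N315 F1644) (tt N404 F1645) (tt N517 D567) (tt N516 (iv F2171)) (tt N500 (iv F2112)) (tt N322 F1646) (tt N311 (iv D423)) (tt N343 F1647))
theorem Q406 : ∀ i, i < 406 → P i := stepQ 405 Q405 (allL N405 (tt N512 (iv F2155)) (tt N405 F1648) (tt N313 F1649) (tt N518 D568) (tt N312 (iv D424)) (tt N519 D569) (tt N405 F1650) (tt N520 D570))
theorem Q407 : ∀ i, i < 407 → P i := stepQ 406 Q406 (allL N406 (tt N513 (iv F2158)) (tt N406 F1651) (tt N314 F1652) (tt N406 F1653) (tt N520 (iv F2187)) (tt N324 F1654) (tt N521 D571) (tt N312 (iv D425)))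
theorem Q408 : ∀ i, i < 408 → P i := stepQ 407 Q407 (allL N407 (tt N514 (iv F2162)) (tt N316 F1655) (tt N519 (iv F2182)) (tt N504 (iv F2123)) (tt N325 F1656) (tt N313 (iv D426)) (tt N344 F1657) (tt N522 D572))
theorem Q409 : ∀ i, i < 409 → P i := stepQ 408 Q408 (allL N408 (tt N515 (iv F2166)) (tt N317 F1658) (tt N520 (iv F2186)) (tt N505 (iv F2127)) (tt N314 F1659) (tt N522 (iv F2194)) (tt N523 D573) (tt N313 (iv D427)))
theorem Q410 : ∀ i, i < 410 → P i := stepQ 409 Q409 (allL N409 (tt N516 (iv F2169)) (tt N318 F1660) (tt N524 D574) (tt N315 F1661) (tt N523 (iv F2196)) (tt N327 F1662) (tt N314 (iv D428)) (tt N346 F1663))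
theorem Q411 : ∀ i, i < 411 → P i := stepQ 410 Q410 (allL N410 (tt N517 (iv F2174)) (tt N410 F1664) (tt N315 (iv D429)) (tt N525 D575) (tt N507 (iv F2134)) (tt N328 F1665) (tt N410 F1666) (tt N347 F1667))
theorem Q412 : ∀ i, i < 412 → P i := stepQ 411 Q411 (allL N411 (tt N411 F1668) (tt N522 (iv F2192)) (tt N411 F1669) (tt N508 (iv F2139)) (tt N329 F1670) (tt N317 F1671) (tt N526 D576) (tt N316 (iv D430)))
theorem Q413 : ∀ i, i < 413 → P i := stepQ 412 Q412 (allL N412 (tt N412 F1672) (tt N523 (iv F2195)) (tt N527 D577) (tt N509 (iv F2143)) (tt N318 F1673) (tt N526 (iv F2206)) (tt N317 (iv D431)) (tt N349 F1674))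
theorem Q414 : ∀ i, i < 414 → P i := stepQ 413 Q413 (allL N413 (tt N413 F1675) (tt N528 D578) (tt N318 (iv D432)) (tt N413 F1676) (tt N527 (iv F2209)) (tt N331 F1677) (tt N413 F1678) (tt N350 F1679))
theorem Q415 : ∀ i, i < 415 → P i := stepQ 414 Q414 (allL N414 (tt N414 F1680) (tt N319 (iv D433)) (tt N414 F1681) (tt N414 F1682) (tt N529 D579) (tt N511 (iv F2153)) (tt N414 F1683) (tt N530 D580))
theorem Q416 : ∀ i, i < 416 → P i := stepQ 415 Q415 (allL N415 (tt N323 F1684) (tt N529 (iv F2217)) (tt N320 F1685) (tt N531 D581) (tt N319 (iv D434)) (tt N532 D582) (tt N415 F1686) (tt N533 D583))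
theorem Q417 : ∀ i, i < 417 → P i := stepQ 416 Q416 (allL N416 (tt N324 F1687) (tt N530 (iv F2221)) (tt N321 F1688) (tt N416 F1689) (tt N533 (iv F2233)) (tt N513 (iv F2161)) (tt N534 D584) (tt N319 (iv D435)))
theorem Q418 : ∀ i, i < 418 → P i := stepQ 417 Q417 (allL N417 (tt N325 F1690) (tt N417 F1691) (tt N532 (iv F2229)) (tt N417 F1692) (tt N514 (iv F2164)) (tt N320 (iv D436)) (tt N351 F1693) (tt N535 D585))
theorem Q419 : ∀ i, i < 419 → P i := stepQ 418 Q418 (allL N418 (tt N326 F1694) (tt N418 F1695) (tt N533 (iv F2232)) (tt N418 F1696) (tt N321 F1697) (tt N535 (iv F2240)) (tt N536 D586) (tt N320 (iv D437)))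
theorem Q420 : ∀ i, i < 420 → P i := stepQ 419 Q419 (allL N419 (tt N327 F1698) (tt N419 F1699) (tt N537 D587) (tt N322 F1700) (tt N536 (iv F2244)) (tt N516 (iv F2172)) (tt N321 (iv D438)) (tt N353 F1701))
theorem Q421 : ∀ i, i < 421 → P i := stepQ 420 Q420 (allL N420 (tt N328 F1702) (tt N538 D588) (tt N322 (iv D439)) (tt N539 D589) (tt N420 F1703) (tt N517 (iv F2175)) (tt N420 F1704) (tt N354 F1705))
theorem Q422 : ∀ i, i < 422 → P i := stepQ 421 Q421 (allL N421 (tt N531 (iv F2224)) (tt N421 F1706) (tt N421 F1707) (tt N323 (iv D440)) (tt N421 F1708) (tt N540 D590) (tt N421 F1709) (tt N541 D591))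
theorem Q423 : ∀ i, i < 423 → P i := stepQ 422 Q422 (allL N422 (tt N532 (iv F2228)) (tt N422 F1710) (tt N325 F1711) (tt N540 (iv F2258)) (tt N519 (iv F2183)) (tt N323 (iv D441)) (tt N422 F1712) (tt N542 D592))
theorem Q424 : ∀ i, i < 424 → P i := stepQ 423 Q423 (allL N423 (tt N533 (iv F2231)) (tt N423 F1713) (tt N326 F1714) (tt N541 (iv F2262)) (tt N324 F1715) (tt N542 (iv F2266)) (tt N543 D593) (tt N323 (iv D442)))
theorem Q425 : ∀ i, i < 425 → P i := stepQ 424 Q424 (allL N424 (tt N534 (iv F2234)) (tt N424 F1716) (tt N544 D594) (tt N424 F1717) (tt N543 (iv F2268)) (tt N521 (iv F2190)) (tt N324 (iv D443)) (tt N424 F1718))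
theorem Q426 : ∀ i, i < 426 → P i := stepQ 425 Q425 (allL N425 (tt N535 (iv F2237)) (tt N329 F1719) (tt N542 (iv F2265)) (tt N425 F1720) (tt N522 (iv F2193)) (tt N326 F1721) (tt N545 D595) (tt N325 (iv D444)))
theorem Q427 : ∀ i, i < 427 → P i := stepQ 426 Q426 (allL N426 (tt N536 (iv F2241)) (tt N330 F1722) (tt N546 D596) (tt N426 F1723) (tt N327 F1724) (tt N545 (iv F2274)) (tt N326 (iv D445)) (tt N356 F1725))
theorem Q428 : ∀ i, i < 428 → P i := stepQ 427 Q427 (allL N427 (tt N537 (iv F2246)) (tt N547 D597) (tt N327 (iv D446)) (tt N548 D598) (tt N546 (iv F2276)) (tt N524 (iv F2198)) (tt N544 (iv F2270)) (tt N357 F1726))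
theorem Q429 : ∀ i, i < 429 → P i := stepQ 428 Q428 (allL N428 (tt N539 (iv F2253)) (tt N428 F1727) (tt N548 (iv F2280)) (tt N328 (iv D447)) (tt N549 D599) (tt N525 (iv F2201)) (tt N428 F1728) (tt N358 F1729))
theorem Q430 : ∀ i, i < 430 → P i := stepQ 429 Q429 (allL N429 (tt N429 F1730) (tt N545 (iv F2272)) (tt N550 D600) (tt N429 F1731) (tt N526 (iv F2205)) (tt N330 F1732) (tt N329 (iv D448)) (tt N359 F1733))
theorem Q431 : ∀ i, i < 431 → P i := stepQ 430 Q430 (allL N430 (tt N430 F1734) (tt N539 F66577) (tt N330 (iv D449)) (tt N538 (iv F66701)) (tt N331 F1735) (tt N550 (iv F2287)) (tt N430 F1736) (tt N360 F1737))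
theorem Q432 : ∀ i, i < 432 → P i := stepQ 431 Q431 (allL N431 (tt N549 F66565) (tt N331 (iv D450)) (tt N547 (iv F2278)) (tt N431 F1738) (tt N539 F66566) (tt N528 (iv F2213)) (tt N431 F1739) (tt N361 F1740))
theorem Q433 : ∀ i, i < 433 → P i := stepQ 432 Q432 (allL N432 (tt N334 F1741) (tt N551 D604) (tt N332 (iv D451)) (tt N371 F1742) (tt N552 D605) (tt N432 F1743) (tt N553 D606) (tt N554 D607))
theorem Q434 : ∀ i, i < 434 → P i := stepQ 433 Q433 (allL N433 (tt N335 F1744) (tt N433 F1745) (tt N552 (iv F2307)) (tt N341 F1746) (tt N332 (iv D452)) (tt N555 D608) (tt N498 (iv F2105)) (tt N556 D609))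
theorem Q435 : ∀ i, i < 435 → P i := stepQ 434 Q434 (allL N434 (tt N336 F1747) (tt N434 F1748) (tt N554 (iv F2313)) (tt N333 F1749) (tt N556 (iv F2323)) (tt N434 F1750) (tt N557 D610) (tt N332 (iv D453)))
theorem Q436 : ∀ i, i < 436 → P i := stepQ 435 Q435 (allL N435 (tt N337 F1751) (tt N435 F1752) (tt N558 D611) (tt N557 (iv F2326)) (tt N343 F1753) (tt N435 F1754) (tt N333 (iv D454)) (tt N500 (iv F2114)))
theorem Q437 : ∀ i, i < 437 → P i := stepQ 436 Q436 (allL N436 (tt N552 (iv F2306)) (tt N436 F1755) (tt N335 F1756) (tt N436 F1757) (tt N334 (iv D455)) (tt N559 D612) (tt N560 D613) (tt N561 D614))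
theorem Q438 : ∀ i, i < 438 → P i := stepQ 437 Q437 (allL N437 (tt N553 (iv F2309)) (tt N437 F1758) (tt N502 (iv F2116)) (tt N374 F1759) (tt N560 (iv F2338)) (tt N437 F1760) (tt N334 (iv D456)) (tt N562 D615))
theorem Q439 : ∀ i, i < 439 → P i := stepQ 438 Q438 (allL N438 (tt N554 (iv F2312)) (tt N438 F1761) (tt N336 F1762) (tt N375 F1763) (tt N561 (iv F2342)) (tt N438 F1764) (tt N563 D616) (tt N334 (iv D457)))
theorem Q440 : ∀ i, i < 440 → P i := stepQ 439 Q439 (allL N439 (tt N555 (iv F2316)) (tt N338 F1765) (tt N559 (iv F2333)) (tt N344 F1766) (tt N439 F1767) (tt N335 (iv D458)) (tt N504 (iv F2125)) (tt N564 D617))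
theorem Q441 : ∀ i, i < 441 → P i := stepQ 440 Q440 (allL N440 (tt N556 (iv F2320)) (tt N339 F1768) (tt N561 (iv F2340)) (tt N345 F1769) (tt N336 F1770) (tt N564 (iv F2352)) (tt N565 D618) (tt N335 (iv D459)))
theorem Q442 : ∀ i, i < 442 → P i := stepQ 441 Q441 (allL N441 (tt N557 (iv F2324)) (tt N340 F1771) (tt N566 D619) (tt N337 F1772) (tt N565 (iv F2355)) (tt N441 F1773) (tt N336 (iv D460)) (tt N506 (iv F2132)))
theorem Q443 : ∀ i, i < 443 → P i := stepQ 442 Q442 (allL N442 (tt N558 (iv F2328)) (tt N442 F1774) (tt N337 (iv D461)) (tt N567 D620) (tt N347 F1775) (tt N442 F1776) (tt N377 F1777) (tt N507 (iv F2137)))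
theorem Q444 : ∀ i, i < 444 → P i := stepQ 443 Q443 (allL N443 (tt N443 F1778) (tt N564 (iv F2349)) (tt N443 F1779) (tt N348 F1780) (tt N443 F1781) (tt N339 F1782) (tt N568 D621) (tt N338 (iv D462)))
theorem Q445 : ∀ i, i < 445 → P i := stepQ 444 Q444 (allL N444 (tt N444 F1783) (tt N565 (iv F2353)) (tt N569 D622) (tt N349 F1784) (tt N340 F1785) (tt N568 (iv F2363)) (tt N339 (iv D463)) (tt N509 (iv F2145)))
theorem Q446 : ∀ i, i < 446 → P i := stepQ 445 Q445 (allL N445 (tt N445 F1786) (tt N570 D623) (tt N340 (iv D464)) (tt N445 F1787) (tt N569 (iv F2365)) (tt N445 F1788) (tt N445 F1789) (tt N510 (iv F2149)))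
theorem Q447 : ∀ i, i < 447 → P i := stepQ 446 Q446 (allL N446 (tt N344 F1790) (tt N446 F1791) (tt N446 F1792) (tt N555 (iv F2318)) (tt N351 F1793) (tt N341 (iv D465)) (tt N514 (iv F2165)) (tt N571 D624))
theorem Q448 : ∀ i, i < 448 → P i := stepQ 447 Q447 (allL N447 (tt N345 F1794) (tt N447 F1795) (tt N447 F1796) (tt N556 (iv F2322)) (tt N342 F1797) (tt N571 (iv F2374)) (tt N572 D625) (tt N341 (iv D466)))
theorem Q449 : ∀ i, i < 449 → P i := stepQ 448 Q448 (allL N448 (tt N346 F1798) (tt N448 F1799) (tt N573 D626) (tt N343 F1800) (tt N572 (iv F2377)) (tt N353 F1801) (tt N342 (iv D467)) (tt N516 (iv F2173)))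
theorem Q450 : ∀ i, i < 450 → P i := stepQ 449 Q449 (allL N449 (tt N347 F1802) (tt N574 D627) (tt N343 (iv D468)) (tt N575 D628) (tt N558 (iv F2329)) (tt N354 F1803) (tt N379 F1804) (tt N517 (iv F2177)))
theorem Q451 : ∀ i, i < 451 → P i := stepQ 450 Q450 (allL N450 (tt N571 (iv F2370)) (tt N348 F1805) (tt N450 F1806) (tt N564 (iv F2350)) (tt N355 F1807) (tt N345 F1808) (tt N576 D629) (tt N344 (iv D469)))
theorem Q452 : ∀ i, i < 452 → P i := stepQ 451 Q451 (allL N451 (tt N572 (iv F2375)) (tt N349 F1809) (tt N577 D630) (tt N565 (iv F2354)) (tt N346 F1810) (tt N576 (iv F2390)) (tt N345 (iv D470)) (tt N523 (iv F2197)))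
theorem Q453 : ∀ i, i < 453 → P i := stepQ 452 Q452 (allL N452 (tt N573 (iv F2378)) (tt N578 D631) (tt N346 (iv D471)) (tt N579 D632) (tt N577 (iv F2391)) (tt N357 F1811) (tt N452 F1812) (tt N524 (iv F2199)))
theorem Q454 : ∀ i, i < 454 → P i := stepQ 453 Q453 (allL N453 (tt N575 (iv F2385)) (tt N453 F1813) (tt N579 (iv F2396)) (tt N347 (iv D472)) (tt N580 D633) (tt N358 F1814) (tt N380 F1815) (tt N525 (iv F2203)))
theorem Q455 : ∀ i, i < 455 → P i := stepQ 454 Q454 (allL N454 (tt N454 F1816) (tt N576 (iv F2388)) (tt N581 D634) (tt N568 (iv F2361)) (tt N359 F1817) (tt N349 F1818) (tt N348 (iv D473)) (tt N526 (iv F2207)))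
theorem Q456 : ∀ i, i < 456 → P i := stepQ 455 Q455 (allL N455 (tt N455 F1819) (tt N582 D635) (tt N349 (iv D474)) (tt N583 D636) (tt N350 F1820) (tt N581 (iv F2403)) (tt N363 F1821) (tt N527 (iv F2211)))
theorem Q457 : ∀ i, i < 457 → P i := stepQ 456 Q456 (allL N456 (tt N584 D637) (tt N350 (iv D475)) (tt N578 (iv F2393)) (tt N456 F1822) (tt N582 (iv F2405)) (tt N361 F1823) (tt N364 F1824) (tt N528 (iv F2215)))
theorem Q458 : ∀ i, i < 458 → P i := stepQ 457 Q457 (allL N457 (tt N355 F1825) (tt N457 F1826) (tt N457 F1827) (tt N457 F1828) (tt N571 (iv F2373)) (tt N352 F1829) (tt N585 D638) (tt N351 (iv D476)))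
theorem Q459 : ∀ i, i < 459 → P i := stepQ 458 Q458 (allL N458 (tt N356 F1830) (tt N458 F1831) (tt N586 D639) (tt N458 F1832) (tt N353 F1833) (tt N585 (iv F2417)) (tt N352 (iv D477)) (tt N536 (iv F2245)))
theorem Q460 : ∀ i, i < 460 → P i := stepQ 459 Q459 (allL N459 (tt N357 F1834) (tt N587 D640) (tt N353 (iv D478)) (tt N588 D641) (tt N586 (iv F2419)) (tt N573 (iv F2379)) (tt N459 F1835) (tt N537 (iv F2247)))
theorem Q461 : ∀ i, i < 461 → P i := stepQ 460 Q460 (allL N460 (tt N460 F1836) (tt N354 (iv D479)) (tt N460 F1837) (tt N360 F66845) (tt N460 F1838) (tt N574 (iv F2383)) (tt N367 (iv F66932)) (tt N538 (iv F2252)))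
theorem Q462 : ∀ i, i < 462 → P i := stepQ 461 Q461 (allL N461 (tt N358 F1840) (tt N360 (iv F66699)) (tt N588 (iv F2424)) (tt N354 (iv D480)) (tt N361 F66578) (tt N575 (iv F2386)) (tt N366 (iv F66700)) (tt N539 (iv F2255)))
theorem Q463 : ∀ i, i < 463 → P i := stepQ 462 Q462 (allL N462 (tt N585 (iv F2414)) (tt N359 F1842) (tt N589 D644) (tt N462 F1843) (tt N576 (iv F2389)) (tt N356 F1844) (tt N355 (iv D481)) (tt N545 (iv F2275)))
theorem Q464 : ∀ i, i < 464 → P i := stepQ 463 Q463 (allL N463 (tt N586 (iv F2418)) (tt N588 F66587) (tt N356 (iv D482)) (tt N587 (iv F66720)) (tt N357 F1845) (tt N589 (iv F2432)) (tt N463 F1846) (tt N546 (iv F2277)))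
theorem Q465 : ∀ i, i < 465 → P i := stepQ 464 Q464 (allL N464 (tt N590 D647) (tt N357 (iv D483)) (tt N361 F1847) (tt N591 D648) (tt N588 F66590) (tt N578 (iv F2394)) (tt N464 F1848) (tt N547 (iv F2279)))
theorem Q466 : ∀ i, i < 466 → P i := stepQ 465 Q465 (allL N465 (tt N588 (iv F2423)) (tt N591 (iv F2441)) (tt N358 F1849) (tt N357 (iv D484)) (tt N590 F66589) (tt N579 (iv F2397)) (tt N465 F1850) (tt N548 (iv F2281)))
theorem Q467 : ∀ i, i < 467 → P i := stepQ 466 Q466 (allL N466 (tt N361 F66591) (tt N466 F1851) (tt N590 F66592) (tt N466 F1852) (tt N358 (iv D485)) (tt N584 (iv F66721)) (tt N368 (iv F66722)) (tt N549 (iv F2285)))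
theorem Q468 : ∀ i, i < 468 → P i := stepQ 467 Q467 (allL N467 (tt N467 F1854) (tt N575 F66838) (tt N359 (iv D486)) (tt N574 (iv F66977)) (tt N581 (iv F2402)) (tt N360 F1855) (tt N365 F1856) (tt N550 (iv F2289)))
theorem Q469 : ∀ i, i < 469 → P i := stepQ 468 Q468 (allL N468 (tt N468 F1866) (tt N592 D655) (tt N362 (iv D490)) (tt N593 D656) (tt N365 F1867) (tt N363 F1868) (tt N581 (iv F2404)) (tt N468 F1869))
theorem Q470 : ∀ i, i < 470 → P i := stepQ 469 Q469 (allL N469 (tt N594 D657) (tt N363 (iv D491)) (tt N469 F1870) (tt N595 D658) (tt N364 F1871) (tt N592 (iv F2463)) (tt N582 (iv F2406)) (tt N469 F1872))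
theorem Q471 : ∀ i, i < 471 → P i := stepQ 470 Q470 (allL N470 (tt N470 F1873) (tt N595 (iv F2473)) (tt N470 F1874) (tt N363 (iv D492)) (tt N470 F1875) (tt N593 (iv F2467)) (tt N583 (iv F2409)) (tt N470 F1876))
theorem Q472 : ∀ i, i < 472 → P i := stepQ 471 Q471 (allL N471 (tt N364 (iv D493)) (tt N471 F1877) (tt N471 F1878) (tt N471 F1879) (tt N594 (iv F2471)) (tt N368 F1880) (tt N584 (iv F2413)) (tt N471 F1881))
theorem Q473 : ∀ i, i < 473 → P i := stepQ 472 Q472 (allL N472 (tt N380 (iv F66976)) (tt N365 (iv D494)) (tt N472 F1882) (tt N379 (iv F66980)) (tt N592 (iv F2462)) (tt N366 F1883) (tt N575 F66839) (tt N472 F1884))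
theorem Q474 : ∀ i, i < 474 → P i := stepQ 473 Q473 (allL N473 (tt N473 F1885) (tt N379 F67081) (tt N370 F1886) (tt N365 (iv D495)) (tt N596 D661) (tt N367 F1887) (tt N574 F67082) (tt N473 F1888))
theorem Q475 : ∀ i, i < 475 → P i := stepQ 474 Q474 (allL N474 (tt N474 F1906) (tt N385 (iv F67532)) (tt N596 (iv F2484)) (tt N474 F1907) (tt N370 (iv D500)) (tt N474 F1908) (tt N474 F1909) (tt N474 F1910))
theorem Q476 : ∀ i, i < 476 → P i := stepQ 475 Q475 (allL N475 (tt N475 F1919) (tt N371 (iv D503)) (tt N381 F1920) (tt N551 (iv F2304)) (tt N475 F1921) (tt N475 F1922) (tt N597 D669) (tt N598 D670))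
theorem Q477 : ∀ i, i < 477 → P i := stepQ 476 Q476 (allL N476 (tt N374 F1923) (tt N597 (iv F2516)) (tt N476 F1924) (tt N553 (iv F2310)) (tt N476 F1925) (tt N476 F1926) (tt N371 (iv D504)) (tt N599 D671))
theorem Q478 : ∀ i, i < 478 → P i := stepQ 477 Q477 (allL N477 (tt N375 F1927) (tt N598 (iv F2520)) (tt N372 F1928) (tt N554 (iv F2314)) (tt N477 F1929) (tt N477 F1930) (tt N600 D672) (tt N371 (iv D505)))
theorem Q479 : ∀ i, i < 479 → P i := stepQ 478 Q478 (allL N478 (tt N376 F1931) (tt N384 F1932) (tt N601 D673) (tt N373 F1933) (tt N478 F1934) (tt N478 F1935) (tt N372 (iv D506)) (tt N478 F1936))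
theorem Q480 : ∀ i, i < 480 → P i := stepQ 479 Q479 (allL N479 (tt N377 F1937) (tt N596 (iv F67220)) (tt N373 (iv D507)) (tt N602 D675) (tt N379 F1938) (tt N479 F1939) (tt N558 (iv F2331)) (tt N479 F1940))
theorem Q481 : ∀ i, i < 481 → P i := stepQ 480 Q480 (allL N480 (tt N599 (iv F2524)) (tt N480 F1941) (tt N480 F1942) (tt N562 (iv F2344)) (tt N480 F1943) (tt N480 F1944) (tt N603 D676) (tt N374 (iv D508)))
theorem Q482 : ∀ i, i < 482 → P i := stepQ 481 Q481 (allL N481 (tt N600 (iv F2528)) (tt N481 F1945) (tt N604 D677) (tt N563 (iv F2347)) (tt N481 F1946) (tt N481 F1947) (tt N375 (iv D509)) (tt N603 (iv F2546)))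
theorem Q483 : ∀ i, i < 483 → P i := stepQ 482 Q482 (allL N482 (tt N601 (iv F2531)) (tt N605 D678) (tt N376 (iv D510)) (tt N606 D679) (tt N482 F1948) (tt N482 F1949) (tt N604 (iv F2549)) (tt N482 F1950))
theorem Q484 : ∀ i, i < 484 → P i := stepQ 483 Q483 (allL N483 (tt N602 (iv F2540)) (tt N483 F1951) (tt N606 (iv F2554)) (tt N377 (iv D511)) (tt N607 D680) (tt N483 F1952) (tt N567 (iv F2359)) (tt N483 F1953))
theorem Q485 : ∀ i, i < 485 → P i := stepQ 484 Q484 (allL N484 (tt N484 F67674) (tt N378 (iv D512)) (tt N605 (iv F2550)) (tt N484 F1954) (tt N484 F1955) (tt N484 F1956) (tt N484 F1957) (tt N484 F1958))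
theorem Q486 : ∀ i, i < 486 → P i := stepQ 485 Q485 (allL N485 (tt N592 F67126) (tt N485 F1967) (tt N485 F1968) (tt N607 (iv F2558)) (tt N380 (iv D515)) (tt N594 F67127) (tt N580 (iv F2400)) (tt N485 F1969))
theorem Q487 : ∀ i, i < 487 → P i := stepQ 486 Q486 (allL N486 (tt N486 F1981) (tt N382 F1982) (tt N608 D688) (tt N486 F1983) (tt N486 F1984) (tt N486 F1985) (tt N381 (iv D519)) (tt N486 F68229))
theorem Q488 : ∀ i, i < 488 → P i := stepQ 487 Q487 (allL N487 (tt N487 F1986) (tt N383 F1987) (tt N598 (iv F2521)) (tt N487 F1988) (tt N487 F1989) (tt N487 F1990) (tt N487 F67974) (tt N381 (iv D520)))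
theorem Q489 : ∀ i, i < 489 → P i := stepQ 488 Q488 (allL N488 (tt N387 F2064) (tt N488 F2065) (tt N609 D710) (tt N386 (iv D538)) (tt N610 D711) (tt N488 F2066) (tt N488 F2067) (tt N611 D712))
theorem Q490 : ∀ i, i < 490 → P i := stepQ 489 Q489 (allL N489 (tt N388 F2068) (tt N489 F2069) (tt N489 F2070) (tt N611 (iv F2689)) (tt N489 F2071) (tt N489 F2072) (tt N612 D713) (tt N386 (iv D539)))
theorem Q491 : ∀ i, i < 491 → P i := stepQ 490 Q490 (allL N490 (tt N609 (iv F2680)) (tt N394 F2073) (tt N387 (iv D540)) (tt N490 F2074) (tt N613 D714) (tt N490 F2075) (tt N614 D715) (tt N615 D716))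
theorem Q492 : ∀ i, i < 492 → P i := stepQ 491 Q491 (allL N491 (tt N610 (iv F2683)) (tt N389 F2076) (tt N613 (iv F2697)) (tt N491 F2077) (tt N387 (iv D541)) (tt N616 D717) (tt N491 F2078) (tt N617 D718))
theorem Q493 : ∀ i, i < 493 → P i := stepQ 492 Q492 (allL N492 (tt N611 (iv F2687)) (tt N390 F2079) (tt N615 (iv F2703)) (tt N388 F2080) (tt N617 (iv F2712)) (tt N492 F2081) (tt N618 D719) (tt N387 (iv D542)))
theorem Q494 : ∀ i, i < 494 → P i := stepQ 493 Q493 (allL N493 (tt N612 (iv F2691)) (tt N391 F2082) (tt N619 D720) (tt N618 (iv F2714)) (tt N493 F2083) (tt N493 F2084) (tt N388 (iv D543)) (tt N493 F2085))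
theorem Q495 : ∀ i, i < 495 → P i := stepQ 494 Q494 (allL N494 (tt N494 F2086) (tt N616 (iv F2706)) (tt N398 F2087) (tt N494 F2088) (tt N494 F2089) (tt N389 (iv D544)) (tt N494 F2090) (tt N620 D721))
theorem Q496 : ∀ i, i < 496 → P i := stepQ 495 Q495 (allL N495 (tt N495 F2091) (tt N617 (iv F2710)) (tt N399 F2092) (tt N495 F2093) (tt N390 F2094) (tt N620 (iv F2726)) (tt N621 D722) (tt N389 (iv D545)))
theorem Q497 : ∀ i, i < 497 → P i := stepQ 496 Q496 (allL N496 (tt N496 F2095) (tt N618 (iv F2713)) (tt N622 D723) (tt N391 F2096) (tt N621 (iv F2729)) (tt N496 F2097) (tt N390 (iv D546)) (tt N496 F2098))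
theorem Q498 : ∀ i, i < 498 → P i := stepQ 497 Q497 (allL N497 (tt N394 F2099) (tt N623 D724) (tt N392 (iv D547)) (tt N497 F2100) (tt N624 D725) (tt N497 F2101) (tt N625 D726) (tt N626 D727))
theorem Q499 : ∀ i, i < 499 → P i := stepQ 498 Q498 (allL N498 (tt N395 F2102) (tt N498 F2103) (tt N624 (iv F2740)) (tt N402 F2104) (tt N392 (iv D548)) (tt N627 D728) (tt N433 F2105) (tt N628 D729))
theorem Q500 : ∀ i, i < 500 → P i := stepQ 499 Q499 (allL N499 (tt N396 F2106) (tt N499 F2107) (tt N626 (iv F2746)) (tt N393 F2108) (tt N628 (iv F2757)) (tt N499 F2109) (tt N629 D730) (tt N392 (iv D549)))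
theorem Q501 : ∀ i, i < 501 → P i := stepQ 500 Q500 (allL N500 (tt N397 F2110) (tt N500 F2111) (tt N630 D731) (tt N629 (iv F2760)) (tt N404 F2112) (tt N500 F2113) (tt N393 (iv D550)) (tt N435 F2114))
theorem Q502 : ∀ i, i < 502 → P i := stepQ 501 Q501 (allL N501 (tt N624 (iv F2739)) (tt N613 (iv F2696)) (tt N395 F2115) (tt N631 D732) (tt N394 (iv D551)) (tt N632 D733) (tt N633 D734) (tt N634 D735))
theorem Q503 : ∀ i, i < 503 → P i := stepQ 502 Q502 (allL N502 (tt N625 (iv F2741)) (tt N614 (iv F2698)) (tt N437 F2116) (tt N502 F2117) (tt N633 (iv F2773)) (tt N502 F2118) (tt N394 (iv D552)) (tt N635 D736))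
theorem Q504 : ∀ i, i < 504 → P i := stepQ 503 Q503 (allL N503 (tt N626 (iv F2745)) (tt N615 (iv F2702)) (tt N396 F2119) (tt N503 F2120) (tt N634 (iv F2775)) (tt N503 F2121) (tt N636 D737) (tt N394 (iv D553)))
theorem Q505 : ∀ i, i < 505 → P i := stepQ 504 Q504 (allL N504 (tt N627 (iv F2749)) (tt N398 F2122) (tt N632 (iv F2770)) (tt N407 F2123) (tt N504 F2124) (tt N395 (iv D554)) (tt N439 F2125) (tt N637 D738))
theorem Q506 : ∀ i, i < 506 → P i := stepQ 505 Q505 (allL N505 (tt N628 (iv F2754)) (tt N399 F2126) (tt N634 (iv F2774)) (tt N408 F2127) (tt N396 F2128) (tt N637 (iv F2784)) (tt N638 D739) (tt N395 (iv D555)))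
theorem Q507 : ∀ i, i < 507 → P i := stepQ 506 Q506 (allL N506 (tt N629 (iv F2758)) (tt N400 F2129) (tt N639 D740) (tt N397 F2130) (tt N638 (iv F2787)) (tt N506 F2131) (tt N396 (iv D556)) (tt N441 F2132))
theorem Q508 : ∀ i, i < 508 → P i := stepQ 507 Q507 (allL N507 (tt N630 (iv F2763)) (tt N507 F2133) (tt N397 (iv D557)) (tt N640 D741) (tt N410 F2134) (tt N507 F2135) (tt N507 F2136) (tt N442 F2137))
theorem Q509 : ∀ i, i < 509 → P i := stepQ 508 Q508 (allL N508 (tt N508 F2138) (tt N637 (iv F2781)) (tt N620 (iv F2723)) (tt N411 F2139) (tt N508 F2140) (tt N399 F2141) (tt N641 D742) (tt N398 (iv D558)))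
theorem Q510 : ∀ i, i < 510 → P i := stepQ 509 Q509 (allL N509 (tt N509 F2142) (tt N638 (iv F2785)) (tt N642 D743) (tt N412 F2143) (tt N400 F2144) (tt N641 (iv F2798)) (tt N399 (iv D559)) (tt N444 F2145))
theorem Q511 : ∀ i, i < 511 → P i := stepQ 510 Q510 (allL N510 (tt N510 F2146) (tt N643 D744) (tt N400 (iv D560)) (tt N510 F2147) (tt N642 (iv F2801)) (tt N510 F2148) (tt N622 (iv F2734)) (tt N445 F2149))
theorem Q512 : ∀ i, i < 512 → P i := stepQ 511 Q511 (allL N511 (tt N511 F2150) (tt N401 (iv D561)) (tt N511 F2151) (tt N511 F2152) (tt N644 D745) (tt N414 F2153) (tt N511 F2154) (tt N645 D746))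
theorem Q513 : ∀ i, i < 513 → P i := stepQ 512 Q512 (allL N512 (tt N405 F2155) (tt N644 (iv F2807)) (tt N402 F2156) (tt N646 D747) (tt N401 (iv D562)) (tt N647 D748) (tt N512 F2157) (tt N648 D749))
theorem Q514 : ∀ i, i < 514 → P i := stepQ 513 Q513 (allL N513 (tt N406 F2158) (tt N645 (iv F2811)) (tt N403 F2159) (tt N513 F2160) (tt N648 (iv F2824)) (tt N416 F2161) (tt N649 D750) (tt N401 (iv D563)))
theorem Q515 : ∀ i, i < 515 → P i := stepQ 514 Q514 (allL N514 (tt N407 F2162) (tt N514 F2163) (tt N647 (iv F2819)) (tt N627 (iv F2751)) (tt N417 F2164) (tt N402 (iv D564)) (tt N446 F2165) (tt N650 D751))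
theorem Q516 : ∀ i, i < 516 → P i := stepQ 515 Q515 (allL N515 (tt N408 F2166) (tt N515 F2167) (tt N648 (iv F2823)) (tt N628 (iv F2756)) (tt N403 F2168) (tt N650 (iv F2832)) (tt N651 D752) (tt N402 (iv D565)))
theorem Q517 : ∀ i, i < 517 → P i := stepQ 516 Q516 (allL N516 (tt N409 F2169) (tt N516 F2170) (tt N652 D753) (tt N404 F2171) (tt N651 (iv F2835)) (tt N419 F2172) (tt N403 (iv D566)) (tt N448 F2173))
theorem Q518 : ∀ i, i < 518 → P i := stepQ 517 Q517 (allL N517 (tt N410 F2174) (tt N653 D754) (tt N404 (iv D567)) (tt N654 D755) (tt N630 (iv F2764)) (tt N420 F2175) (tt N517 F2176) (tt N449 F2177))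
theorem Q519 : ∀ i, i < 519 → P i := stepQ 518 Q518 (allL N518 (tt N646 (iv F2815)) (tt N518 F2178) (tt N631 (iv F2768)) (tt N405 (iv D568)) (tt N518 F2179) (tt N655 D756) (tt N518 F2180) (tt N656 D757))
theorem Q520 : ∀ i, i < 520 → P i := stepQ 519 Q519 (allL N519 (tt N647 (iv F2818)) (tt N519 F2181) (tt N407 F2182) (tt N655 (iv F2850)) (tt N422 F2183) (tt N405 (iv D569)) (tt N519 F2184) (tt N657 D758))
theorem Q521 : ∀ i, i < 521 → P i := stepQ 520 Q520 (allL N520 (tt N648 (iv F2822)) (tt N520 F2185) (tt N408 F2186) (tt N656 (iv F2853)) (tt N406 F2187) (tt N657 (iv F2858)) (tt N658 D759) (tt N405 (iv D570)))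
theorem Q522 : ∀ i, i < 522 → P i := stepQ 521 Q521 (allL N521 (tt N649 (iv F2825)) (tt N521 F2188) (tt N659 D760) (tt N521 F2189) (tt N658 (iv F2860)) (tt N424 F2190) (tt N406 (iv D571)) (tt N521 F2191))
theorem Q523 : ∀ i, i < 523 → P i := stepQ 522 Q522 (allL N522 (tt N650 (iv F2829)) (tt N411 F2192) (tt N657 (iv F2856)) (tt N637 (iv F2782)) (tt N425 F2193) (tt N408 F2194) (tt N660 D761) (tt N407 (iv D572)))
theorem Q524 : ∀ i, i < 524 → P i := stepQ 523 Q523 (allL N523 (tt N651 (iv F2833)) (tt N412 F2195) (tt N661 D762) (tt N638 (iv F2786)) (tt N409 F2196) (tt N660 (iv F2867)) (tt N408 (iv D573)) (tt N451 F2197))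
theorem Q525 : ∀ i, i < 525 → P i := stepQ 524 Q524 (allL N524 (tt N652 (iv F2837)) (tt N662 D763) (tt N409 (iv D574)) (tt N663 D764) (tt N661 (iv F2869)) (tt N427 F2198) (tt N659 (iv F2863)) (tt N452 F2199))
theorem Q526 : ∀ i, i < 526 → P i := stepQ 525 Q525 (allL N525 (tt N654 (iv F2845)) (tt N525 F2200) (tt N663 (iv F2874)) (tt N410 (iv D575)) (tt N664 D765) (tt N428 F2201) (tt N525 F2202) (tt N453 F2203))
theorem Q527 : ∀ i, i < 527 → P i := stepQ 526 Q526 (allL N526 (tt N526 F2204) (tt N660 (iv F2865)) (tt N665 D766) (tt N641 (iv F2796)) (tt N429 F2205) (tt N412 F2206) (tt N411 (iv D576)) (tt N454 F2207))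
theorem Q528 : ∀ i, i < 528 → P i := stepQ 527 Q527 (allL N527 (tt N527 F2208) (tt N666 D767) (tt N412 (iv D577)) (tt N667 D768) (tt N413 F2209) (tt N665 (iv F2882)) (tt N527 F2210) (tt N455 F2211))
theorem Q529 : ∀ i, i < 529 → P i := stepQ 528 Q528 (allL N528 (tt N668 D769) (tt N413 (iv D578)) (tt N662 (iv F2871)) (tt N528 F2212) (tt N666 (iv F2885)) (tt N431 F2213) (tt N528 F2214) (tt N456 F2215))
theorem Q530 : ∀ i, i < 530 → P i := stepQ 529 Q529 (allL N529 (tt N529 F2216) (tt N415 F2217) (tt N529 F2218) (tt N669 D770) (tt N414 (iv D579)) (tt N670 D771) (tt N529 F2219) (tt N671 D772))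
theorem Q531 : ∀ i, i < 531 → P i := stepQ 530 Q530 (allL N530 (tt N530 F2220) (tt N416 F2221) (tt N530 F2222) (tt N530 F2223) (tt N671 (iv F2908)) (tt N645 (iv F2814)) (tt N672 D773) (tt N414 (iv D580)))
theorem Q532 : ∀ i, i < 532 → P i := stepQ 531 Q531 (allL N531 (tt N421 F2224) (tt N669 (iv F2898)) (tt N531 F2225) (tt N415 (iv D581)) (tt N531 F2226) (tt N673 D774) (tt N531 F2227) (tt N674 D775))
theorem Q533 : ∀ i, i < 533 → P i := stepQ 532 Q532 (allL N532 (tt N422 F2228) (tt N670 (iv F2902)) (tt N417 F2229) (tt N673 (iv F2915)) (tt N647 (iv F2820)) (tt N415 (iv D582)) (tt N532 F2230) (tt N675 D776))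
theorem Q534 : ∀ i, i < 534 → P i := stepQ 533 Q533 (allL N533 (tt N423 F2231) (tt N671 (iv F2906)) (tt N418 F2232) (tt N674 (iv F2919)) (tt N416 F2233) (tt N675 (iv F2923)) (tt N676 D777) (tt N415 (iv D583)))
theorem Q535 : ∀ i, i < 535 → P i := stepQ 534 Q534 (allL N534 (tt N424 F2234) (tt N672 (iv F2910)) (tt N677 D778) (tt N534 F2235) (tt N676 (iv F2925)) (tt N649 (iv F2827)) (tt N416 (iv D584)) (tt N534 F2236))
theorem Q536 : ∀ i, i < 536 → P i := stepQ 535 Q535 (allL N535 (tt N425 F2237) (tt N535 F2238) (tt N675 (iv F2922)) (tt N535 F2239) (tt N650 (iv F2831)) (tt N418 F2240) (tt N678 D779) (tt N417 (iv D585)))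
theorem Q537 : ∀ i, i < 537 → P i := stepQ 536 Q536 (allL N536 (tt N426 F2241) (tt N536 F2242) (tt N679 D780) (tt N536 F2243) (tt N419 F2244) (tt N678 (iv F2933)) (tt N418 (iv D586)) (tt N458 F2245))
theorem Q538 : ∀ i, i < 538 → P i := stepQ 537 Q537 (allL N537 (tt N427 F2246) (tt N680 D781) (tt N419 (iv D587)) (tt N681 D782) (tt N679 (iv F2936)) (tt N652 (iv F2838)) (tt N677 (iv F2928)) (tt N459 F2247))
theorem Q539 : ∀ i, i < 539 → P i := stepQ 538 Q538 (allL N538 (tt N538 F2248) (tt N420 (iv D588)) (tt N538 F2249) (tt N430 F66701) (tt N538 F2250) (tt N653 (iv F2842)) (tt N538 F2251) (tt N460 F2252))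
theorem Q540 : ∀ i, i < 540 → P i := stepQ 539 Q539 (allL N539 (tt N428 F2253) (tt N430 (iv F66577)) (tt N681 (iv F2941)) (tt N420 (iv D589)) (tt N431 (iv F66566)) (tt N654 (iv F2846)) (tt N539 F2254) (tt N461 F2255))
theorem Q541 : ∀ i, i < 541 → P i := stepQ 540 Q540 (allL N540 (tt N673 (iv F2913)) (tt N540 F2256) (tt N540 F2257) (tt N422 F2258) (tt N682 D785) (tt N421 (iv D590)) (tt N540 F2259) (tt N683 D786))
theorem Q542 : ∀ i, i < 542 → P i := stepQ 541 Q541 (allL N541 (tt N674 (iv F2917)) (tt N541 F2260) (tt N541 F2261) (tt N423 F2262) (tt N541 F2263) (tt N683 (iv F2958)) (tt N684 D787) (tt N421 (iv D591)))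
theorem Q543 : ∀ i, i < 543 → P i := stepQ 542 Q542 (allL N542 (tt N675 (iv F2921)) (tt N542 F2264) (tt N425 F2265) (tt N683 (iv F2957)) (tt N657 (iv F2857)) (tt N423 F2266) (tt N685 D788) (tt N422 (iv D592)))
theorem Q544 : ∀ i, i < 544 → P i := stepQ 543 Q543 (allL N543 (tt N676 (iv F2924)) (tt N543 F2267) (tt N686 D789) (tt N684 (iv F2960)) (tt N424 F2268) (tt N685 (iv F2964)) (tt N423 (iv D593)) (tt N543 F2269))
theorem Q545 : ∀ i, i < 545 → P i := stepQ 544 Q544 (allL N544 (tt N677 (iv F2927)) (tt N687 D790) (tt N424 (iv D594)) (tt N688 D791) (tt N686 (iv F2966)) (tt N659 (iv F2862)) (tt N427 F2270) (tt N544 F2271))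
theorem Q546 : ∀ i, i < 546 → P i := stepQ 545 Q545 (allL N545 (tt N678 (iv F2930)) (tt N429 F2272) (tt N689 D792) (tt N545 F2273) (tt N660 (iv F2866)) (tt N426 F2274) (tt N425 (iv D595)) (tt N462 F2275))
theorem Q547 : ∀ i, i < 547 → P i := stepQ 546 Q546 (allL N546 (tt N679 (iv F2935)) (tt N681 F66471) (tt N426 (iv D596)) (tt N680 (iv F66596)) (tt N427 F2276) (tt N689 (iv F2975)) (tt N686 (iv F2967)) (tt N463 F2277))
theorem Q548 : ∀ i, i < 548 → P i := stepQ 547 Q547 (allL N547 (tt N690 D795) (tt N427 (iv D597)) (tt N431 F2278) (tt N691 D796) (tt N681 F66474) (tt N662 (iv F2872)) (tt N687 (iv F2970)) (tt N464 F2279))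
theorem Q549 : ∀ i, i < 549 → P i := stepQ 548 Q548 (allL N548 (tt N681 (iv F2940)) (tt N691 (iv F2984)) (tt N428 F2280) (tt N427 (iv D598)) (tt N690 F66473) (tt N663 (iv F2875)) (tt N688 (iv F2973)) (tt N465 F2281))
theorem Q550 : ∀ i, i < 550 → P i := stepQ 549 Q549 (allL N549 (tt N431 (iv F66565)) (tt N549 F2282) (tt N690 F66477) (tt N549 F2283) (tt N428 (iv D599)) (tt N668 (iv F66600)) (tt N549 F2284) (tt N466 F2285))
theorem Q551 : ∀ i, i < 551 → P i := stepQ 550 Q550 (allL N550 (tt N550 F2286) (tt N654 F66698) (tt N429 (iv D600)) (tt N653 (iv F66840)) (tt N665 (iv F2881)) (tt N430 F2287) (tt N550 F2288) (tt N467 F2289))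
theorem Q552 : ∀ i, i < 552 → P i := stepQ 551 Q551 (allL N551 (tt N551 F2302) (tt N432 (iv D604)) (tt N551 F2303) (tt N475 F2304) (tt N692 D803) (tt N551 F2305) (tt N693 D804) (tt N694 D805))
theorem Q553 : ∀ i, i < 553 → P i := stepQ 552 Q552 (allL N552 (tt N436 F2306) (tt N692 (iv F3010)) (tt N433 F2307) (tt N552 F2308) (tt N432 (iv D605)) (tt N695 D806) (tt N696 D807) (tt N697 D808))
theorem Q554 : ∀ i, i < 554 → P i := stepQ 553 Q553 (allL N553 (tt N437 F2309) (tt N693 (iv F3014)) (tt N625 (iv F2742)) (tt N476 F2310) (tt N696 (iv F3028)) (tt N553 F2311) (tt N432 (iv D606)) (tt N698 D809))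
theorem Q555 : ∀ i, i < 555 → P i := stepQ 554 Q554 (allL N554 (tt N438 F2312) (tt N694 (iv F3018)) (tt N434 F2313) (tt N477 F2314) (tt N697 (iv F3032)) (tt N554 F2315) (tt N699 D810) (tt N432 (iv D607)))
theorem Q556 : ∀ i, i < 556 → P i := stepQ 555 Q555 (allL N555 (tt N439 F2316) (tt N555 F2317) (tt N695 (iv F3023)) (tt N446 F2318) (tt N555 F2319) (tt N433 (iv D608)) (tt N627 (iv F2753)) (tt N700 D811))
theorem Q557 : ∀ i, i < 557 → P i := stepQ 556 Q556 (allL N556 (tt N440 F2320) (tt N556 F2321) (tt N697 (iv F3030)) (tt N447 F2322) (tt N434 F2323) (tt N700 (iv F3043)) (tt N701 D812) (tt N433 (iv D609)))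
theorem Q558 : ∀ i, i < 558 → P i := stepQ 557 Q557 (allL N557 (tt N441 F2324) (tt N557 F2325) (tt N702 D813) (tt N435 F2326) (tt N701 (iv F3047)) (tt N557 F2327) (tt N434 (iv D610)) (tt N629 (iv F2762)))
theorem Q559 : ∀ i, i < 559 → P i := stepQ 558 Q558 (allL N558 (tt N442 F2328) (tt N703 D814) (tt N435 (iv D611)) (tt N704 D815) (tt N449 F2329) (tt N558 F2330) (tt N479 F2331) (tt N630 (iv F2767)))
theorem Q560 : ∀ i, i < 560 → P i := stepQ 559 Q559 (allL N559 (tt N695 (iv F3022)) (tt N559 F2332) (tt N439 F2333) (tt N559 F2334) (tt N559 F2335) (tt N436 (iv D612)) (tt N705 D816) (tt N706 D817))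
theorem Q561 : ∀ i, i < 561 → P i := stepQ 560 Q560 (allL N560 (tt N696 (iv F3026)) (tt N560 F2336) (tt N633 (iv F2772)) (tt N560 F2337) (tt N437 F2338) (tt N705 (iv F3061)) (tt N436 (iv D613)) (tt N707 D818))
theorem Q562 : ∀ i, i < 562 → P i := stepQ 561 Q561 (allL N561 (tt N697 (iv F3029)) (tt N561 F2339) (tt N440 F2340) (tt N561 F2341) (tt N438 F2342) (tt N706 (iv F3066)) (tt N708 D819) (tt N436 (iv D614)))
theorem Q563 : ∀ i, i < 563 → P i := stepQ 562 Q562 (allL N562 (tt N698 (iv F3033)) (tt N562 F2343) (tt N635 (iv F2776)) (tt N480 F2344) (tt N707 (iv F3069)) (tt N562 F2345) (tt N709 D820) (tt N437 (iv D615)))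
theorem Q564 : ∀ i, i < 564 → P i := stepQ 563 Q563 (allL N563 (tt N699 (iv F3036)) (tt N563 F2346) (tt N710 D821) (tt N481 F2347) (tt N708 (iv F3072)) (tt N563 F2348) (tt N438 (iv D616)) (tt N709 (iv F3076)))
theorem Q565 : ∀ i, i < 565 → P i := stepQ 564 Q564 (allL N564 (tt N700 (iv F3039)) (tt N443 F2349) (tt N706 (iv F3063)) (tt N450 F2350) (tt N564 F2351) (tt N440 F2352) (tt N711 D822) (tt N439 (iv D617)))
theorem Q566 : ∀ i, i < 566 → P i := stepQ 565 Q565 (allL N565 (tt N701 (iv F3044)) (tt N444 F2353) (tt N712 D823) (tt N451 F2354) (tt N441 F2355) (tt N711 (iv F3082)) (tt N440 (iv D618)) (tt N638 (iv F2788)))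
theorem Q567 : ∀ i, i < 567 → P i := stepQ 566 Q566 (allL N566 (tt N702 (iv F3048)) (tt N713 D824) (tt N441 (iv D619)) (tt N714 D825) (tt N712 (iv F3083)) (tt N566 F2356) (tt N710 (iv F3078)) (tt N639 (iv F2790)))
theorem Q568 : ∀ i, i < 568 → P i := stepQ 567 Q567 (allL N567 (tt N704 (iv F3055)) (tt N567 F2357) (tt N714 (iv F3086)) (tt N442 (iv D620)) (tt N715 D826) (tt N567 F2358) (tt N483 F2359) (tt N640 (iv F2794)))
theorem Q569 : ∀ i, i < 569 → P i := stepQ 568 Q568 (allL N568 (tt N568 F2360) (tt N711 (iv F3079)) (tt N716 D827) (tt N454 F2361) (tt N568 F2362) (tt N444 F2363) (tt N443 (iv D621)) (tt N641 (iv F2799)))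
theorem Q570 : ∀ i, i < 570 → P i := stepQ 569 Q569 (allL N569 (tt N569 F2364) (tt N717 D828) (tt N444 (iv D622)) (tt N718 D829) (tt N445 F2365) (tt N716 (iv F3093)) (tt N569 F2366) (tt N642 (iv F2802)))
theorem Q571 : ∀ i, i < 571 → P i := stepQ 570 Q570 (allL N570 (tt N719 D830) (tt N445 (iv D623)) (tt N713 (iv F3084)) (tt N570 F2367) (tt N717 (iv F3095)) (tt N570 F2368) (tt N570 F2369) (tt N643 (iv F2805)))
theorem Q572 : ∀ i, i < 572 → P i := stepQ 571 Q571 (allL N571 (tt N450 F2370) (tt N571 F2371) (tt N571 F2372) (tt N700 (iv F3041)) (tt N457 F2373) (tt N447 F2374) (tt N720 D831) (tt N446 (iv D624)))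
theorem Q573 : ∀ i, i < 573 → P i := stepQ 572 Q572 (allL N572 (tt N451 F2375) (tt N572 F2376) (tt N721 D832) (tt N701 (iv F3046)) (tt N448 F2377) (tt N720 (iv F3108)) (tt N447 (iv D625)) (tt N651 (iv F2836)))
theorem Q574 : ∀ i, i < 574 → P i := stepQ 573 Q573 (allL N573 (tt N452 F2378) (tt N722 D833) (tt N448 (iv D626)) (tt N723 D834) (tt N721 (iv F3110)) (tt N459 F2379) (tt N573 F2380) (tt N652 (iv F2839)))
theorem Q575 : ∀ i, i < 575 → P i := stepQ 574 Q574 (allL N574 (tt N574 F2381) (tt N449 (iv D627)) (tt N574 F2382) (tt N467 F66977) (tt N703 (iv F3052)) (tt N460 F2383) (tt N473 (iv F67082)) (tt N653 (iv F2844)))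
theorem Q576 : ∀ i, i < 576 → P i := stepQ 575 Q575 (allL N575 (tt N453 F2385) (tt N467 (iv F66838)) (tt N723 (iv F3116)) (tt N449 (iv D628)) (tt N724 D836) (tt N461 F2386) (tt N472 (iv F66839)) (tt N654 (iv F2848)))
theorem Q577 : ∀ i, i < 577 → P i := stepQ 576 Q576 (allL N576 (tt N720 (iv F3105)) (tt N454 F2388) (tt N725 D837) (tt N711 (iv F3080)) (tt N462 F2389) (tt N451 F2390) (tt N450 (iv D629)) (tt N660 (iv F2868)))
theorem Q578 : ∀ i, i < 578 → P i := stepQ 577 Q577 (allL N577 (tt N721 (iv F3109)) (tt N726 D838) (tt N451 (iv D630)) (tt N727 D839) (tt N452 F2391) (tt N725 (iv F3126)) (tt N577 F2392) (tt N661 (iv F2870)))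
theorem Q579 : ∀ i, i < 579 → P i := stepQ 578 Q578 (allL N578 (tt N728 D840) (tt N452 (iv D631)) (tt N456 F2393) (tt N729 D841) (tt N726 (iv F3129)) (tt N464 F2394) (tt N578 F2395) (tt N662 (iv F2873)))
theorem Q580 : ∀ i, i < 580 → P i := stepQ 579 Q579 (allL N579 (tt N723 (iv F3115)) (tt N729 (iv F3135)) (tt N453 F2396) (tt N452 (iv D632)) (tt N730 D842) (tt N465 F2397) (tt N579 F2398) (tt N663 (iv F2876)))
theorem Q581 : ∀ i, i < 581 → P i := stepQ 580 Q580 (allL N580 (tt N724 (iv F3123)) (tt N580 F2399) (tt N730 (iv F3139)) (tt N715 (iv F3089)) (tt N453 (iv D633)) (tt N731 D843) (tt N485 F2400) (tt N664 (iv F2879)))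
theorem Q582 : ∀ i, i < 582 → P i := stepQ 581 Q581 (allL N581 (tt N581 F2401) (tt N724 F66930) (tt N454 (iv D634)) (tt N732 D845) (tt N467 F2402) (tt N455 F2403) (tt N468 F2404) (tt N665 (iv F2884)))
theorem Q583 : ∀ i, i < 583 → P i := stepQ 582 Q582 (allL N582 (tt N731 (iv F66864)) (tt N455 (iv D635)) (tt N726 (iv F3128)) (tt N733 D847) (tt N456 F2405) (tt N724 (iv F66841)) (tt N469 F2406) (tt N666 (iv F2887)))
theorem Q584 : ∀ i, i < 584 → P i := stepQ 583 Q583 (allL N583 (tt N583 F2407) (tt N733 (iv F3153)) (tt N718 (iv F3098)) (tt N455 (iv D636)) (tt N583 F2408) (tt N732 (iv F3148)) (tt N470 F2409) (tt N667 (iv F2891)))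
theorem Q585 : ∀ i, i < 585 → P i := stepQ 584 Q584 (allL N584 (tt N456 (iv D637)) (tt N584 F2410) (tt N728 (iv F3132)) (tt N584 F2411) (tt N731 (iv F66866)) (tt N466 F66721) (tt N471 F2413) (tt N668 (iv F2896)))
theorem Q586 : ∀ i, i < 586 → P i := stepQ 585 Q585 (allL N585 (tt N462 F2414) (tt N585 F2415) (tt N734 D848) (tt N585 F2416) (tt N720 (iv F3107)) (tt N458 F2417) (tt N457 (iv D638)) (tt N678 (iv F2934)))
theorem Q587 : ∀ i, i < 587 → P i := stepQ 586 Q586 (allL N586 (tt N463 F2418) (tt N735 D849) (tt N458 (iv D639)) (tt N736 D850) (tt N459 F2419) (tt N734 (iv F3157)) (tt N586 F2420) (tt N679 (iv F2937)))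
theorem Q588 : ∀ i, i < 588 → P i := stepQ 587 Q587 (allL N587 (tt N736 F66719) (tt N459 (iv D640)) (tt N587 F2421) (tt N463 F66720) (tt N735 (iv F3160)) (tt N722 (iv F3113)) (tt N587 F2422) (tt N680 (iv F2939)))
theorem Q589 : ∀ i, i < 589 → P i := stepQ 588 Q588 (allL N588 (tt N465 F2423) (tt N463 (iv F66587)) (tt N461 F2424) (tt N459 (iv D641)) (tt N464 (iv F66590)) (tt N723 (iv F3117)) (tt N588 F2425) (tt N681 (iv F2942)))
theorem Q590 : ∀ i, i < 590 → P i := stepQ 589 Q589 (allL N589 (tt N734 (iv F3156)) (tt N723 F66714) (tt N462 (iv D644)) (tt N722 (iv F66858)) (tt N725 (iv F3125)) (tt N463 F2432) (tt N589 F2433) (tt N689 (iv F2976)))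
theorem Q591 : ∀ i, i < 591 → P i := stepQ 590 Q590 (allL N590 (tt N464 (iv D647)) (tt N736 F66717) (tt N466 (iv F66592)) (tt N735 F66718) (tt N465 (iv F66589)) (tt N728 (iv F3133)) (tt N590 F2440) (tt N690 (iv F2983)))
theorem Q592 : ∀ i, i < 592 → P i := stepQ 591 Q591 (allL N591 (tt N735 (iv F66654)) (tt N465 F2441) (tt N591 F2442) (tt N464 (iv D648)) (tt N736 (iv F66586)) (tt N729 (iv F3137)) (tt N591 F2443) (tt N691 (iv F2986)))
theorem Q593 : ∀ i, i < 593 → P i := stepQ 592 Q592 (allL N592 (tt N485 (iv F67126)) (tt N468 (iv D655)) (tt N592 F2461) (tt N737 D871) (tt N472 F2462) (tt N469 F2463) (tt N724 F66978) (tt N592 F2464))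
theorem Q594 : ∀ i, i < 594 → P i := stepQ 593 Q593 (allL N593 (tt N593 F2465) (tt N737 (iv F3225)) (tt N593 F2466) (tt N468 (iv D656)) (tt N738 D872) (tt N470 F2467) (tt N732 (iv F3149)) (tt N593 F2468))
theorem Q595 : ∀ i, i < 595 → P i := stepQ 594 Q594 (allL N594 (tt N469 (iv D657)) (tt N594 F2469) (tt N594 F2470) (tt N739 D873) (tt N471 F2471) (tt N485 (iv F67127)) (tt N731 F67000) (tt N594 F2472))
theorem Q596 : ∀ i, i < 596 → P i := stepQ 595 Q595 (allL N595 (tt N739 (iv F3233)) (tt N470 F2473) (tt N740 D874) (tt N469 (iv D658)) (tt N595 F2474) (tt N737 (iv F3226)) (tt N733 (iv F3155)) (tt N595 F2475))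
theorem Q597 : ∀ i, i < 597 → P i := stepQ 596 Q596 (allL N596 (tt N596 F2483) (tt N479 F67220) (tt N474 F2484) (tt N738 (iv F3230)) (tt N473 (iv D661)) (tt N596 F2485) (tt N703 F67221) (tt N596 F2486))
theorem Q598 : ∀ i, i < 598 → P i := stepQ 597 Q597 (allL N597 (tt N597 F2515) (tt N476 F2516) (tt N741 D887) (tt N693 (iv F3015)) (tt N597 F2517) (tt N597 F2518) (tt N475 (iv D669)) (tt N742 D888))
theorem Q599 : ∀ i, i < 599 → P i := stepQ 598 Q598 (allL N598 (tt N598 F2519) (tt N477 F2520) (tt N487 F2521) (tt N694 (iv F3020)) (tt N598 F2522) (tt N598 F2523) (tt N743 D889) (tt N475 (iv D670)))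
theorem Q600 : ∀ i, i < 600 → P i := stepQ 599 Q599 (allL N599 (tt N480 F2524) (tt N742 (iv F3293)) (tt N599 F2525) (tt N698 (iv F3034)) (tt N599 F2526) (tt N599 F2527) (tt N744 D890) (tt N476 (iv D671)))
theorem Q601 : ∀ i, i < 601 → P i := stepQ 600 Q600 (allL N600 (tt N481 F2528) (tt N743 (iv F3297)) (tt N745 D891) (tt N699 (iv F3037)) (tt N600 F2529) (tt N600 F2530) (tt N477 (iv D672)) (tt N744 (iv F3303)))
theorem Q602 : ∀ i, i < 602 → P i := stepQ 601 Q601 (allL N601 (tt N482 F2531) (tt N601 F67671) (tt N478 (iv D673)) (tt N746 D893) (tt N601 F2532) (tt N601 F2533) (tt N745 (iv F3307)) (tt N601 F2534))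
theorem Q603 : ∀ i, i < 603 → P i := stepQ 602 Q602 (allL N602 (tt N483 F2540) (tt N738 (iv F67367)) (tt N746 (iv F3313)) (tt N479 (iv D675)) (tt N737 F67260) (tt N602 F2541) (tt N704 (iv F3057)) (tt N602 F2542))
theorem Q604 : ∀ i, i < 604 → P i := stepQ 603 Q603 (allL N603 (tt N744 (iv F3300)) (tt N603 F2543) (tt N747 D896) (tt N709 (iv F3074)) (tt N603 F2544) (tt N603 F2545) (tt N480 (iv D676)) (tt N481 F2546))
theorem Q605 : ∀ i, i < 605 → P i := stepQ 604 Q604 (allL N604 (tt N745 (iv F3304)) (tt N748 D897) (tt N481 (iv D677)) (tt N749 D898) (tt N604 F2547) (tt N604 F2548) (tt N482 F2549) (tt N747 (iv F3326)))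
theorem Q606 : ∀ i, i < 606 → P i := stepQ 605 Q605 (allL N605 (tt N605 F67672) (tt N482 (iv D678)) (tt N484 F2550) (tt N750 D900) (tt N605 F2551) (tt N605 F2552) (tt N748 (iv F3330)) (tt N605 F2553))
theorem Q607 : ∀ i, i < 607 → P i := stepQ 606 Q606 (allL N606 (tt N746 (iv F3312)) (tt N750 (iv F3337)) (tt N483 F2554) (tt N482 (iv D679)) (tt N751 D901) (tt N606 F2555) (tt N749 (iv F3332)) (tt N606 F2556))
theorem Q608 : ∀ i, i < 608 → P i := stepQ 607 Q607 (allL N607 (tt N737 F67258) (tt N607 F2557) (tt N751 (iv F3341)) (tt N485 F2558) (tt N483 (iv D680)) (tt N739 F67259) (tt N715 (iv F3090)) (tt N607 F2559))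
theorem Q609 : ∀ i, i < 609 → P i := stepQ 608 Q608 (allL N608 (tt N608 F2589) (tt N608 F2590) (tt N486 (iv D688)) (tt N752 D909) (tt N608 F2591) (tt N608 F2592) (tt N741 (iv F3291)) (tt N608 F68296))
theorem Q610 : ∀ i, i < 610 → P i := stepQ 609 Q609 (allL N609 (tt N490 F2680) (tt N753 D937) (tt N488 (iv D710)) (tt N609 F2681) (tt N754 D938) (tt N609 F2682) (tt N755 D939) (tt N756 D940))
theorem Q611 : ∀ i, i < 611 → P i := stepQ 610 Q610 (allL N610 (tt N491 F2683) (tt N610 F2684) (tt N754 (iv F3490)) (tt N610 F2685) (tt N488 (iv D711)) (tt N757 D941) (tt N610 F2686) (tt N758 D942))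
theorem Q612 : ∀ i, i < 612 → P i := stepQ 611 Q611 (allL N611 (tt N492 F2687) (tt N611 F2688) (tt N756 (iv F3496)) (tt N489 F2689) (tt N758 (iv F3507)) (tt N611 F2690) (tt N759 D943) (tt N488 (iv D712)))
theorem Q613 : ∀ i, i < 613 → P i := stepQ 612 Q612 (allL N612 (tt N493 F2691) (tt N612 F2692) (tt N760 D944) (tt N759 (iv F3510)) (tt N612 F2693) (tt N612 F2694) (tt N489 (iv D713)) (tt N612 F2695))
theorem Q614 : ∀ i, i < 614 → P i := stepQ 613 Q613 (allL N613 (tt N754 (iv F3489)) (tt N501 F2696) (tt N491 F2697) (tt N761 D945) (tt N490 (iv D714)) (tt N762 D946) (tt N763 D947) (tt N764 D948))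
theorem Q615 : ∀ i, i < 615 → P i := stepQ 614 Q614 (allL N614 (tt N755 (iv F3491)) (tt N502 F2698) (tt N614 F2699) (tt N614 F2700) (tt N763 (iv F3526)) (tt N614 F2701) (tt N490 (iv D715)) (tt N765 D949))
theorem Q616 : ∀ i, i < 616 → P i := stepQ 615 Q615 (allL N615 (tt N756 (iv F3495)) (tt N503 F2702) (tt N492 F2703) (tt N615 F2704) (tt N764 (iv F3529)) (tt N615 F2705) (tt N766 D950) (tt N490 (iv D716)))
theorem Q617 : ∀ i, i < 617 → P i := stepQ 616 Q616 (allL N616 (tt N757 (iv F3499)) (tt N494 F2706) (tt N762 (iv F3522)) (tt N616 F2707) (tt N616 F2708) (tt N491 (iv D717)) (tt N616 F2709) (tt N767 D951))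
theorem Q618 : ∀ i, i < 618 → P i := stepQ 617 Q617 (allL N617 (tt N758 (iv F3504)) (tt N495 F2710) (tt N764 (iv F3528)) (tt N617 F2711) (tt N492 F2712) (tt N767 (iv F3540)) (tt N768 D952) (tt N491 (iv D718)))
theorem Q619 : ∀ i, i < 619 → P i := stepQ 618 Q618 (allL N618 (tt N759 (iv F3508)) (tt N496 F2713) (tt N769 D953) (tt N493 F2714) (tt N768 (iv F3543)) (tt N618 F2715) (tt N492 (iv D719)) (tt N618 F2716))
theorem Q620 : ∀ i, i < 620 → P i := stepQ 619 Q619 (allL N619 (tt N760 (iv F3513)) (tt N619 F2717) (tt N493 (iv D720)) (tt N770 D954) (tt N619 F2718) (tt N619 F2719) (tt N619 F2720) (tt N619 F2721))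
theorem Q621 : ∀ i, i < 621 → P i := stepQ 620 Q620 (allL N620 (tt N620 F2722) (tt N767 (iv F3537)) (tt N508 F2723) (tt N620 F2724) (tt N620 F2725) (tt N495 F2726) (tt N771 D955) (tt N494 (iv D721)))
theorem Q622 : ∀ i, i < 622 → P i := stepQ 621 Q621 (allL N621 (tt N621 F2727) (tt N768 (iv F3541)) (tt N772 D956) (tt N621 F2728) (tt N496 F2729) (tt N771 (iv F3554)) (tt N495 (iv D722)) (tt N621 F2730))
theorem Q623 : ∀ i, i < 623 → P i := stepQ 622 Q622 (allL N622 (tt N622 F2731) (tt N773 D957) (tt N496 (iv D723)) (tt N622 F2732) (tt N772 (iv F3557)) (tt N622 F2733) (tt N510 F2734) (tt N622 F2735))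
theorem Q624 : ∀ i, i < 624 → P i := stepQ 623 Q623 (allL N623 (tt N753 (iv F3485)) (tt N497 (iv D724)) (tt N623 F2736) (tt N623 F2737) (tt N774 D958) (tt N623 F2738) (tt N775 D959) (tt N776 D960))
theorem Q625 : ∀ i, i < 625 → P i := stepQ 624 Q624 (allL N624 (tt N501 F2739) (tt N774 (iv F3564)) (tt N498 F2740) (tt N777 D961) (tt N497 (iv D725)) (tt N778 D962) (tt N779 D963) (tt N780 D964))
theorem Q626 : ∀ i, i < 626 → P i := stepQ 625 Q625 (allL N625 (tt N502 F2741) (tt N775 (iv F3566)) (tt N553 F2742) (tt N625 F2743) (tt N779 (iv F3581)) (tt N625 F2744) (tt N497 (iv D726)) (tt N781 D965))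
theorem Q627 : ∀ i, i < 627 → P i := stepQ 626 Q626 (allL N626 (tt N503 F2745) (tt N776 (iv F3569)) (tt N499 F2746) (tt N626 F2747) (tt N780 (iv F3584)) (tt N626 F2748) (tt N782 D966) (tt N497 (iv D727)))
theorem Q628 : ∀ i, i < 628 → P i := stepQ 627 Q627 (allL N627 (tt N504 F2749) (tt N627 F2750) (tt N778 (iv F3577)) (tt N514 F2751) (tt N627 F2752) (tt N498 (iv D728)) (tt N555 F2753) (tt N783 D967))
theorem Q629 : ∀ i, i < 629 → P i := stepQ 628 Q628 (allL N628 (tt N505 F2754) (tt N628 F2755) (tt N780 (iv F3583)) (tt N515 F2756) (tt N499 F2757) (tt N783 (iv F3596)) (tt N784 D968) (tt N498 (iv D729)))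
theorem Q630 : ∀ i, i < 630 → P i := stepQ 629 Q629 (allL N629 (tt N506 F2758) (tt N629 F2759) (tt N785 D969) (tt N500 F2760) (tt N784 (iv F3600)) (tt N629 F2761) (tt N499 (iv D730)) (tt N557 F2762))
theorem Q631 : ∀ i, i < 631 → P i := stepQ 630 Q630 (allL N630 (tt N507 F2763) (tt N786 D970) (tt N500 (iv D731)) (tt N787 D971) (tt N517 F2764) (tt N630 F2765) (tt N630 F2766) (tt N558 F2767))
theorem Q632 : ∀ i, i < 632 → P i := stepQ 631 Q631 (allL N631 (tt N777 (iv F3573)) (tt N761 (iv F3518)) (tt N518 F2768) (tt N501 (iv D732)) (tt N631 F2769) (tt N788 D972) (tt N789 D973) (tt N790 D974))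
theorem Q633 : ∀ i, i < 633 → P i := stepQ 632 Q632 (allL N632 (tt N778 (iv F3576)) (tt N762 (iv F3521)) (tt N504 F2770) (tt N788 (iv F3616)) (tt N632 F2771) (tt N501 (iv D733)) (tt N791 D975) (tt N792 D976))
theorem Q634 : ∀ i, i < 634 → P i := stepQ 633 Q633 (allL N633 (tt N779 (iv F3579)) (tt N763 (iv F3524)) (tt N560 F2772) (tt N789 (iv F3618)) (tt N502 F2773) (tt N791 (iv F3625)) (tt N501 (iv D734)) (tt N793 D977))
theorem Q635 : ∀ i, i < 635 → P i := stepQ 634 Q634 (allL N634 (tt N780 (iv F3582)) (tt N764 (iv F3527)) (tt N505 F2774) (tt N790 (iv F3621)) (tt N503 F2775) (tt N792 (iv F3628)) (tt N794 D978) (tt N501 (iv D735)))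
theorem Q636 : ∀ i, i < 636 → P i := stepQ 635 Q635 (allL N635 (tt N781 (iv F3585)) (tt N765 (iv F3530)) (tt N562 F2776) (tt N635 F2777) (tt N793 (iv F3630)) (tt N635 F2778) (tt N795 D979) (tt N502 (iv D736)))
theorem Q637 : ∀ i, i < 637 → P i := stepQ 636 Q636 (allL N636 (tt N782 (iv F3589)) (tt N766 (iv F3534)) (tt N796 D980) (tt N636 F2779) (tt N794 (iv F3631)) (tt N636 F2780) (tt N503 (iv D737)) (tt N795 (iv F3634)))
theorem Q638 : ∀ i, i < 638 → P i := stepQ 637 Q637 (allL N637 (tt N783 (iv F3592)) (tt N508 F2781) (tt N792 (iv F3626)) (tt N522 F2782) (tt N637 F2783) (tt N505 F2784) (tt N797 D981) (tt N504 (iv D738)))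
theorem Q639 : ∀ i, i < 639 → P i := stepQ 638 Q638 (allL N638 (tt N784 (iv F3597)) (tt N509 F2785) (tt N798 D982) (tt N523 F2786) (tt N506 F2787) (tt N797 (iv F3640)) (tt N505 (iv D739)) (tt N565 F2788))
theorem Q640 : ∀ i, i < 640 → P i := stepQ 639 Q639 (allL N639 (tt N785 (iv F3602)) (tt N799 D983) (tt N506 (iv D740)) (tt N800 D984) (tt N798 (iv F3642)) (tt N639 F2789) (tt N796 (iv F3636)) (tt N566 F2790))
theorem Q641 : ∀ i, i < 641 → P i := stepQ 640 Q640 (allL N640 (tt N787 (iv F3611)) (tt N640 F2791) (tt N800 (iv F3647)) (tt N507 (iv D741)) (tt N801 D985) (tt N640 F2792) (tt N640 F2793) (tt N567 F2794))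
theorem Q642 : ∀ i, i < 642 → P i := stepQ 641 Q641 (allL N641 (tt N641 F2795) (tt N797 (iv F3637)) (tt N802 D986) (tt N526 F2796) (tt N641 F2797) (tt N509 F2798) (tt N508 (iv D742)) (tt N568 F2799))
theorem Q643 : ∀ i, i < 643 → P i := stepQ 642 Q642 (allL N642 (tt N642 F2800) (tt N803 D987) (tt N509 (iv D743)) (tt N804 D988) (tt N510 F2801) (tt N802 (iv F3656)) (tt N772 (iv F3558)) (tt N569 F2802))
theorem Q644 : ∀ i, i < 644 → P i := stepQ 643 Q643 (allL N643 (tt N805 D989) (tt N510 (iv D744)) (tt N799 (iv F3644)) (tt N643 F2803) (tt N803 (iv F3658)) (tt N643 F2804) (tt N773 (iv F3562)) (tt N570 F2805))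
theorem Q645 : ∀ i, i < 645 → P i := stepQ 644 Q644 (allL N644 (tt N644 F2806) (tt N512 F2807) (tt N644 F2808) (tt N806 D990) (tt N511 (iv D745)) (tt N807 D991) (tt N644 F2809) (tt N808 D992))
theorem Q646 : ∀ i, i < 646 → P i := stepQ 645 Q645 (allL N645 (tt N645 F2810) (tt N513 F2811) (tt N645 F2812) (tt N645 F2813) (tt N808 (iv F3680)) (tt N530 F2814) (tt N809 D993) (tt N511 (iv D746)))
theorem Q647 : ∀ i, i < 647 → P i := stepQ 646 Q646 (allL N646 (tt N518 F2815) (tt N806 (iv F3669)) (tt N777 (iv F3574)) (tt N512 (iv D747)) (tt N646 F2816) (tt N810 D994) (tt N646 F2817) (tt N811 D995))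
theorem Q648 : ∀ i, i < 648 → P i := stepQ 647 Q647 (allL N647 (tt N519 F2818) (tt N807 (iv F3673)) (tt N514 F2819) (tt N810 (iv F3687)) (tt N532 F2820) (tt N512 (iv D748)) (tt N647 F2821) (tt N812 D996))
theorem Q649 : ∀ i, i < 649 → P i := stepQ 648 Q648 (allL N648 (tt N520 F2822) (tt N808 (iv F3678)) (tt N515 F2823) (tt N811 (iv F3690)) (tt N513 F2824) (tt N812 (iv F3695)) (tt N813 D997) (tt N512 (iv D749)))
theorem Q650 : ∀ i, i < 650 → P i := stepQ 649 Q649 (allL N649 (tt N521 F2825) (tt N809 (iv F3682)) (tt N814 D998) (tt N649 F2826) (tt N813 (iv F3697)) (tt N534 F2827) (tt N513 (iv D750)) (tt N649 F2828))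
theorem Q651 : ∀ i, i < 651 → P i := stepQ 650 Q650 (allL N650 (tt N522 F2829) (tt N650 F2830) (tt N812 (iv F3693)) (tt N783 (iv F3594)) (tt N535 F2831) (tt N515 F2832) (tt N815 D999) (tt N514 (iv D751)))
theorem Q652 : ∀ i, i < 652 → P i := stepQ 651 Q651 (allL N651 (tt N523 F2833) (tt N651 F2834) (tt N816 D1000) (tt N784 (iv F3599)) (tt N516 F2835) (tt N815 (iv F3706)) (tt N515 (iv D752)) (tt N572 F2836))
theorem Q653 : ∀ i, i < 653 → P i := stepQ 652 Q652 (allL N652 (tt N524 F2837) (tt N817 D1001) (tt N516 (iv D753)) (tt N818 D1002) (tt N816 (iv F3709)) (tt N537 F2838) (tt N814 (iv F3701)) (tt N573 F2839))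
theorem Q654 : ∀ i, i < 654 → P i := stepQ 653 Q653 (allL N653 (tt N653 F2840) (tt N517 (iv D754)) (tt N653 F2841) (tt N550 F66840) (tt N786 (iv F3607)) (tt N538 F2842) (tt N653 F2843) (tt N574 F2844))
theorem Q655 : ∀ i, i < 655 → P i := stepQ 654 Q654 (allL N654 (tt N525 F2845) (tt N550 (iv F66698)) (tt N818 (iv F3715)) (tt N517 (iv D755)) (tt N819 D1004) (tt N539 F2846) (tt N654 F2847) (tt N575 F2848))
theorem Q656 : ∀ i, i < 656 → P i := stepQ 655 Q655 (allL N655 (tt N810 (iv F3686)) (tt N655 F2849) (tt N788 (iv F3615)) (tt N519 F2850) (tt N820 D1005) (tt N518 (iv D756)) (tt N655 F2851) (tt N821 D1006))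
theorem Q657 : ∀ i, i < 657 → P i := stepQ 656 Q656 (allL N656 (tt N811 (iv F3689)) (tt N656 F2852) (tt N790 (iv F3620)) (tt N520 F2853) (tt N656 F2854) (tt N821 (iv F3732)) (tt N822 D1007) (tt N518 (iv D757)))
theorem Q658 : ∀ i, i < 658 → P i := stepQ 657 Q657 (allL N657 (tt N812 (iv F3692)) (tt N657 F2855) (tt N522 F2856) (tt N821 (iv F3731)) (tt N542 F2857) (tt N520 F2858) (tt N823 D1008) (tt N519 (iv D758)))
theorem Q659 : ∀ i, i < 659 → P i := stepQ 658 Q658 (allL N658 (tt N813 (iv F3696)) (tt N658 F2859) (tt N824 D1009) (tt N822 (iv F3734)) (tt N521 F2860) (tt N823 (iv F3739)) (tt N520 (iv D759)) (tt N658 F2861))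
theorem Q660 : ∀ i, i < 660 → P i := stepQ 659 Q659 (allL N659 (tt N814 (iv F3699)) (tt N825 D1010) (tt N521 (iv D760)) (tt N826 D1011) (tt N824 (iv F3741)) (tt N544 F2862) (tt N524 F2863) (tt N659 F2864))
theorem Q661 : ∀ i, i < 661 → P i := stepQ 660 Q660 (allL N660 (tt N815 (iv F3703)) (tt N526 F2865) (tt N827 D1012) (tt N797 (iv F3638)) (tt N545 F2866) (tt N523 F2867) (tt N522 (iv D761)) (tt N576 F2868))
theorem Q662 : ∀ i, i < 662 → P i := stepQ 661 Q661 (allL N661 (tt N816 (iv F3708)) (tt N828 D1013) (tt N523 (iv D762)) (tt N829 D1014) (tt N524 F2869) (tt N827 (iv F3753)) (tt N824 (iv F3742)) (tt N577 F2870))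
theorem Q663 : ∀ i, i < 663 → P i := stepQ 662 Q662 (allL N662 (tt N830 D1015) (tt N524 (iv D763)) (tt N528 F2871) (tt N831 D1016) (tt N828 (iv F3756)) (tt N547 F2872) (tt N825 (iv F3746)) (tt N578 F2873))
theorem Q664 : ∀ i, i < 664 → P i := stepQ 663 Q663 (allL N663 (tt N818 (iv F3714)) (tt N831 (iv F3762)) (tt N525 F2874) (tt N524 (iv D764)) (tt N832 D1017) (tt N548 F2875) (tt N826 (iv F3750)) (tt N579 F2876))
theorem Q665 : ∀ i, i < 665 → P i := stepQ 664 Q664 (allL N664 (tt N819 (iv F3723)) (tt N664 F2877) (tt N832 (iv F3766)) (tt N801 (iv F3651)) (tt N525 (iv D765)) (tt N833 D1018) (tt N664 F2878) (tt N580 F2879))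
theorem Q666 : ∀ i, i < 666 → P i := stepQ 665 Q665 (allL N665 (tt N665 F2880) (tt N819 F66797) (tt N526 (iv D766)) (tt N834 D1020) (tt N550 F2881) (tt N527 F2882) (tt N665 F2883) (tt N581 F2884))
theorem Q667 : ∀ i, i < 667 → P i := stepQ 666 Q666 (allL N666 (tt N833 (iv F66727)) (tt N527 (iv D767)) (tt N828 (iv F3755)) (tt N835 D1022) (tt N528 F2885) (tt N819 (iv F66702)) (tt N666 F2886) (tt N582 F2887))
theorem Q668 : ∀ i, i < 668 → P i := stepQ 667 Q667 (allL N667 (tt N667 F2888) (tt N835 (iv F3784)) (tt N804 (iv F3661)) (tt N527 (iv D768)) (tt N667 F2889) (tt N834 (iv F3777)) (tt N667 F2890) (tt N583 F2891))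
theorem Q669 : ∀ i, i < 669 → P i := stepQ 668 Q668 (allL N668 (tt N528 (iv D769)) (tt N668 F2892) (tt N830 (iv F3759)) (tt N668 F2893) (tt N833 (iv F66729)) (tt N549 F66600) (tt N668 F2895) (tt N584 F2896))
theorem Q670 : ∀ i, i < 670 → P i := stepQ 669 Q669 (allL N669 (tt N669 F2897) (tt N531 F2898) (tt N836 D1023) (tt N529 (iv D770)) (tt N669 F2899) (tt N837 D1024) (tt N669 F2900) (tt N838 D1025))
theorem Q671 : ∀ i, i < 671 → P i := stepQ 670 Q670 (allL N670 (tt N670 F2901) (tt N532 F2902) (tt N670 F2903) (tt N837 (iv F3794)) (tt N807 (iv F3675)) (tt N529 (iv D771)) (tt N670 F2904) (tt N839 D1026))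
theorem Q672 : ∀ i, i < 672 → P i := stepQ 671 Q671 (allL N671 (tt N671 F2905) (tt N533 F2906) (tt N671 F2907) (tt N838 (iv F3798)) (tt N530 F2908) (tt N839 (iv F3803)) (tt N840 D1027) (tt N529 (iv D772)))
theorem Q673 : ∀ i, i < 673 → P i := stepQ 672 Q672 (allL N672 (tt N672 F2909) (tt N534 F2910) (tt N841 D1028) (tt N672 F2911) (tt N840 (iv F3806)) (tt N809 (iv F3684)) (tt N530 (iv D773)) (tt N672 F2912))
theorem Q674 : ∀ i, i < 674 → P i := stepQ 673 Q673 (allL N673 (tt N540 F2913) (tt N837 (iv F3793)) (tt N673 F2914) (tt N532 F2915) (tt N842 D1029) (tt N531 (iv D774)) (tt N673 F2916) (tt N843 D1030))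
theorem Q675 : ∀ i, i < 675 → P i := stepQ 674 Q674 (allL N674 (tt N541 F2917) (tt N838 (iv F3797)) (tt N674 F2918) (tt N533 F2919) (tt N674 F2920) (tt N843 (iv F3818)) (tt N844 D1031) (tt N531 (iv D775)))
theorem Q676 : ∀ i, i < 676 → P i := stepQ 675 Q675 (allL N675 (tt N542 F2921) (tt N839 (iv F3801)) (tt N535 F2922) (tt N843 (iv F3817)) (tt N812 (iv F3694)) (tt N533 F2923) (tt N845 D1032) (tt N532 (iv D776)))
theorem Q677 : ∀ i, i < 677 → P i := stepQ 676 Q676 (allL N676 (tt N543 F2924) (tt N840 (iv F3805)) (tt N846 D1033) (tt N844 (iv F3820)) (tt N534 F2925) (tt N845 (iv F3824)) (tt N533 (iv D777)) (tt N676 F2926))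
theorem Q678 : ∀ i, i < 678 → P i := stepQ 677 Q677 (allL N677 (tt N544 F2927) (tt N847 D1034) (tt N534 (iv D778)) (tt N848 D1035) (tt N846 (iv F3827)) (tt N814 (iv F3700)) (tt N537 F2928) (tt N677 F2929))
theorem Q679 : ∀ i, i < 679 → P i := stepQ 678 Q678 (allL N678 (tt N545 F2930) (tt N678 F2931) (tt N849 D1036) (tt N678 F2932) (tt N815 (iv F3705)) (tt N536 F2933) (tt N535 (iv D779)) (tt N585 F2934))
theorem Q680 : ∀ i, i < 680 → P i := stepQ 679 Q679 (allL N679 (tt N546 F2935) (tt N850 D1037) (tt N536 (iv D780)) (tt N851 D1038) (tt N537 F2936) (tt N849 (iv F3837)) (tt N846 (iv F3828)) (tt N586 F2937))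
theorem Q681 : ∀ i, i < 681 → P i := stepQ 680 Q680 (allL N680 (tt N851 F66595) (tt N537 (iv D781)) (tt N680 F2938) (tt N546 F66596) (tt N850 (iv F3840)) (tt N817 (iv F3712)) (tt N847 (iv F3830)) (tt N587 F2939))
theorem Q682 : ∀ i, i < 682 → P i := stepQ 681 Q681 (allL N681 (tt N548 F2940) (tt N546 (iv F66471)) (tt N539 F2941) (tt N537 (iv D782)) (tt N547 (iv F66474)) (tt N818 (iv F3716)) (tt N848 (iv F3834)) (tt N588 F2942))
theorem Q683 : ∀ i, i < 683 → P i := stepQ 682 Q682 (allL N682 (tt N842 (iv F3811)) (tt N682 F2951) (tt N682 F2952) (tt N820 (iv F3727)) (tt N540 (iv D785)) (tt N682 F2953) (tt N682 F2954) (tt N852 D1045))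
theorem Q684 : ∀ i, i < 684 → P i := stepQ 683 Q683 (allL N683 (tt N843 (iv F3815)) (tt N683 F2955) (tt N683 F2956) (tt N542 F2957) (tt N852 (iv F3867)) (tt N541 F2958) (tt N853 D1046) (tt N540 (iv D786)))
theorem Q685 : ∀ i, i < 685 → P i := stepQ 684 Q684 (allL N684 (tt N844 (iv F3819)) (tt N684 F2959) (tt N854 D1047) (tt N543 F2960) (tt N684 F2961) (tt N853 (iv F3871)) (tt N541 (iv D787)) (tt N684 F2962))
theorem Q686 : ∀ i, i < 686 → P i := stepQ 685 Q685 (allL N685 (tt N845 (iv F3823)) (tt N685 F2963) (tt N855 D1048) (tt N853 (iv F3870)) (tt N823 (iv F3738)) (tt N543 F2964) (tt N542 (iv D788)) (tt N685 F2965))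
theorem Q687 : ∀ i, i < 687 → P i := stepQ 686 Q686 (allL N686 (tt N846 (iv F3826)) (tt N848 (iv F66484)) (tt N543 (iv D789)) (tt N847 (iv F66487)) (tt N544 F2966) (tt N855 (iv F3876)) (tt N546 F2967) (tt N686 F2968))
theorem Q688 : ∀ i, i < 688 → P i := stepQ 687 Q687 (allL N687 (tt N856 D1051) (tt N544 (iv D790)) (tt N687 F2969) (tt N857 D1052) (tt N848 (iv F66485)) (tt N825 (iv F3745)) (tt N547 F2970) (tt N687 F2971))
theorem Q689 : ∀ i, i < 689 → P i := stepQ 688 Q688 (allL N688 (tt N848 (iv F3832)) (tt N857 (iv F3888)) (tt N688 F2972) (tt N544 (iv D791)) (tt N856 F66597) (tt N826 (iv F3749)) (tt N548 F2973) (tt N688 F2974))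
theorem Q690 : ∀ i, i < 690 → P i := stepQ 689 Q689 (allL N689 (tt N849 (iv F3836)) (tt N818 F66583) (tt N545 (iv D792)) (tt N817 (iv F66713)) (tt N827 (iv F3752)) (tt N546 F2975) (tt N855 (iv F3877)) (tt N589 F2976))
theorem Q691 : ∀ i, i < 691 → P i := stepQ 690 Q690 (allL N690 (tt N547 (iv D795)) (tt N851 F66593) (tt N549 (iv F66477)) (tt N850 F66594) (tt N548 (iv F66473)) (tt N830 (iv F3760)) (tt N856 (iv F3886)) (tt N590 F2983))
theorem Q692 : ∀ i, i < 692 → P i := stepQ 691 Q691 (allL N691 (tt N850 (iv F66556)) (tt N548 F2984) (tt N691 F2985) (tt N547 (iv D796)) (tt N851 (iv F66470)) (tt N831 (iv F3764)) (tt N857 (iv F3889)) (tt N591 F2986))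
theorem Q693 : ∀ i, i < 693 → P i := stepQ 692 Q692 (allL N692 (tt N692 F3009) (tt N552 F3010) (tt N692 F3011) (tt N692 F3012) (tt N551 (iv D803)) (tt N858 D1067) (tt N859 D1068) (tt N860 D1069))
theorem Q694 : ∀ i, i < 694 → P i := stepQ 693 Q693 (allL N693 (tt N693 F3013) (tt N553 F3014) (tt N861 D1070) (tt N597 F3015) (tt N859 (iv F3945)) (tt N693 F3016) (tt N551 (iv D804)) (tt N862 D1071))
theorem Q695 : ∀ i, i < 695 → P i := stepQ 694 Q694 (allL N694 (tt N694 F3017) (tt N554 F3018) (tt N694 F3019) (tt N598 F3020) (tt N860 (iv F3950)) (tt N694 F3021) (tt N863 D1072) (tt N551 (iv D805)))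
theorem Q696 : ∀ i, i < 696 → P i := stepQ 695 Q695 (allL N695 (tt N559 F3022) (tt N858 (iv F3938)) (tt N555 F3023) (tt N695 F3024) (tt N695 F3025) (tt N552 (iv D806)) (tt N864 D1073) (tt N865 D1074))
theorem Q697 : ∀ i, i < 697 → P i := stepQ 696 Q696 (allL N696 (tt N560 F3026) (tt N859 (iv F3943)) (tt N779 (iv F3580)) (tt N696 F3027) (tt N553 F3028) (tt N864 (iv F3965)) (tt N552 (iv D807)) (tt N866 D1075))
theorem Q698 : ∀ i, i < 698 → P i := stepQ 697 Q697 (allL N697 (tt N561 F3029) (tt N860 (iv F3947)) (tt N556 F3030) (tt N697 F3031) (tt N554 F3032) (tt N865 (iv F3970)) (tt N867 D1076) (tt N552 (iv D808)))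
theorem Q699 : ∀ i, i < 699 → P i := stepQ 698 Q698 (allL N698 (tt N562 F3033) (tt N862 (iv F3955)) (tt N781 (iv F3586)) (tt N599 F3034) (tt N866 (iv F3973)) (tt N698 F3035) (tt N868 D1077) (tt N553 (iv D809)))
theorem Q700 : ∀ i, i < 700 → P i := stepQ 699 Q699 (allL N699 (tt N563 F3036) (tt N863 (iv F3959)) (tt N869 D1078) (tt N600 F3037) (tt N867 (iv F3976)) (tt N699 F3038) (tt N554 (iv D810)) (tt N868 (iv F3980)))
theorem Q701 : ∀ i, i < 701 → P i := stepQ 700 Q700 (allL N700 (tt N564 F3039) (tt N700 F3040) (tt N865 (iv F3967)) (tt N571 F3041) (tt N700 F3042) (tt N556 F3043) (tt N870 D1079) (tt N555 (iv D811)))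
theorem Q702 : ∀ i, i < 702 → P i := stepQ 701 Q701 (allL N701 (tt N565 F3044) (tt N701 F3045) (tt N871 D1080) (tt N572 F3046) (tt N557 F3047) (tt N870 (iv F3988)) (tt N556 (iv D812)) (tt N784 (iv F3601)))
theorem Q703 : ∀ i, i < 703 → P i := stepQ 702 Q702 (allL N702 (tt N566 F3048) (tt N872 D1081) (tt N557 (iv D813)) (tt N873 D1082) (tt N871 (iv F3990)) (tt N702 F3049) (tt N869 (iv F3983)) (tt N785 (iv F3604)))
theorem Q704 : ∀ i, i < 704 → P i := stepQ 703 Q703 (allL N703 (tt N703 F3050) (tt N558 (iv D814)) (tt N703 F3051) (tt N874 D1083) (tt N574 F3052) (tt N703 F3053) (tt N596 (iv F67221)) (tt N786 (iv F3610)))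
theorem Q705 : ∀ i, i < 705 → P i := stepQ 704 Q704 (allL N704 (tt N567 F3055) (tt N874 (iv F3997)) (tt N873 (iv F3994)) (tt N558 (iv D815)) (tt N875 D1084) (tt N704 F3056) (tt N602 F3057) (tt N787 (iv F3614)))
theorem Q706 : ∀ i, i < 706 → P i := stepQ 705 Q705 (allL N705 (tt N864 (iv F3962)) (tt N705 F3058) (tt N791 (iv F3623)) (tt N705 F3059) (tt N705 F3060) (tt N560 F3061) (tt N559 (iv D816)) (tt N876 D1085))
theorem Q707 : ∀ i, i < 707 → P i := stepQ 706 Q706 (allL N706 (tt N865 (iv F3966)) (tt N706 F3062) (tt N564 F3063) (tt N706 F3064) (tt N706 F3065) (tt N561 F3066) (tt N877 D1086) (tt N559 (iv D817)))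
theorem Q708 : ∀ i, i < 708 → P i := stepQ 707 Q707 (allL N707 (tt N866 (iv F3971)) (tt N707 F3067) (tt N793 (iv F3629)) (tt N707 F3068) (tt N562 F3069) (tt N876 (iv F4006)) (tt N878 D1087) (tt N560 (iv D818)))
theorem Q709 : ∀ i, i < 709 → P i := stepQ 708 Q708 (allL N708 (tt N867 (iv F3974)) (tt N708 F3070) (tt N879 D1088) (tt N708 F3071) (tt N563 F3072) (tt N877 (iv F4010)) (tt N561 (iv D819)) (tt N878 (iv F4014)))
theorem Q710 : ∀ i, i < 710 → P i := stepQ 709 Q709 (allL N709 (tt N868 (iv F3977)) (tt N709 F3073) (tt N880 D1089) (tt N603 F3074) (tt N878 (iv F4013)) (tt N709 F3075) (tt N562 (iv D820)) (tt N563 F3076))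
theorem Q711 : ∀ i, i < 711 → P i := stepQ 710 Q710 (allL N710 (tt N869 (iv F3981)) (tt N881 D1090) (tt N563 (iv D821)) (tt N882 D1091) (tt N879 (iv F4015)) (tt N710 F3077) (tt N566 F3078) (tt N880 (iv F4018)))
theorem Q712 : ∀ i, i < 712 → P i := stepQ 711 Q711 (allL N711 (tt N870 (iv F3984)) (tt N568 F3079) (tt N883 D1092) (tt N576 F3080) (tt N711 F3081) (tt N565 F3082) (tt N564 (iv D822)) (tt N797 (iv F3641)))
theorem Q713 : ∀ i, i < 713 → P i := stepQ 712 Q712 (allL N712 (tt N871 (iv F3989)) (tt N884 D1093) (tt N565 (iv D823)) (tt N885 D1094) (tt N566 F3083) (tt N883 (iv F4026)) (tt N879 (iv F4016)) (tt N798 (iv F3643)))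
theorem Q714 : ∀ i, i < 714 → P i := stepQ 713 Q713 (allL N713 (tt N886 D1095) (tt N566 (iv D824)) (tt N570 F3084) (tt N887 D1096) (tt N884 (iv F4028)) (tt N713 F3085) (tt N881 (iv F4021)) (tt N799 (iv F3646)))
theorem Q715 : ∀ i, i < 715 → P i := stepQ 714 Q714 (allL N714 (tt N873 (iv F3993)) (tt N887 (iv F4032)) (tt N567 F3086) (tt N566 (iv D825)) (tt N888 D1097) (tt N714 F3087) (tt N882 (iv F4024)) (tt N800 (iv F3649)))
theorem Q716 : ∀ i, i < 716 → P i := stepQ 715 Q715 (allL N715 (tt N875 (iv F4000)) (tt N715 F3088) (tt N888 (iv F4035)) (tt N580 F3089) (tt N567 (iv D826)) (tt N889 D1098) (tt N607 F3090) (tt N801 (iv F3653)))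
theorem Q717 : ∀ i, i < 717 → P i := stepQ 716 Q716 (allL N716 (tt N716 F3091) (tt N890 D1099) (tt N568 (iv D827)) (tt N891 D1100) (tt N716 F3092) (tt N569 F3093) (tt N716 F3094) (tt N802 (iv F3657)))
theorem Q718 : ∀ i, i < 718 → P i := stepQ 717 Q717 (allL N717 (tt N892 D1101) (tt N569 (iv D828)) (tt N884 (iv F4027)) (tt N893 D1102) (tt N570 F3095) (tt N890 (iv F4041)) (tt N717 F3096) (tt N803 (iv F3659)))
theorem Q719 : ∀ i, i < 719 → P i := stepQ 718 Q718 (allL N718 (tt N718 F3097) (tt N893 (iv F4050)) (tt N583 F3098) (tt N569 (iv D829)) (tt N718 F3099) (tt N891 (iv F4045)) (tt N718 F3100) (tt N804 (iv F3663)))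
theorem Q720 : ∀ i, i < 720 → P i := stepQ 719 Q719 (allL N719 (tt N570 (iv D830)) (tt N719 F3101) (tt N886 (iv F4030)) (tt N719 F3102) (tt N892 (iv F4048)) (tt N719 F3103) (tt N719 F3104) (tt N805 (iv F3667)))
theorem Q721 : ∀ i, i < 721 → P i := stepQ 720 Q720 (allL N720 (tt N576 F3105) (tt N720 F3106) (tt N894 D1103) (tt N870 (iv F3986)) (tt N585 F3107) (tt N572 F3108) (tt N571 (iv D831)) (tt N815 (iv F3707)))
theorem Q722 : ∀ i, i < 722 → P i := stepQ 721 Q721 (allL N721 (tt N577 F3109) (tt N895 D1104) (tt N572 (iv D832)) (tt N896 D1105) (tt N573 F3110) (tt N894 (iv F4055)) (tt N721 F3111) (tt N816 (iv F3710)))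
theorem Q723 : ∀ i, i < 723 → P i := stepQ 722 Q722 (allL N722 (tt N897 D1106) (tt N573 (iv D833)) (tt N722 F3112) (tt N589 F66858) (tt N895 (iv F4058)) (tt N587 F3113) (tt N722 F3114) (tt N817 (iv F3713)))
theorem Q724 : ∀ i, i < 724 → P i := stepQ 723 Q723 (allL N723 (tt N579 F3115) (tt N589 (iv F66714)) (tt N575 F3116) (tt N573 (iv D834)) (tt N898 D1108) (tt N588 F3117) (tt N723 F3118) (tt N818 (iv F3717)))
theorem Q725 : ∀ i, i < 725 → P i := stepQ 724 Q724 (allL N724 (tt N580 F3123) (tt N581 (iv F66930)) (tt N898 (iv F4070)) (tt N875 (iv F4001)) (tt N575 (iv D836)) (tt N582 F66841) (tt N592 (iv F66978)) (tt N819 (iv F3725)))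
theorem Q726 : ∀ i, i < 726 → P i := stepQ 725 Q725 (allL N725 (tt N894 (iv F4053)) (tt N898 F66853) (tt N576 (iv D837)) (tt N899 D1113) (tt N589 F3125) (tt N577 F3126) (tt N725 F3127) (tt N827 (iv F3754)))
theorem Q727 : ∀ i, i < 727 → P i := stepQ 726 Q726 (allL N726 (tt N900 D1114) (tt N577 (iv D838)) (tt N582 F3128) (tt N901 D1115) (tt N578 F3129) (tt N898 F66848) (tt N726 F3130) (tt N828 (iv F3757)))
theorem Q728 : ∀ i, i < 728 → P i := stepQ 727 Q727 (allL N727 (tt N896 (iv F4060)) (tt N901 (iv F4090)) (tt N885 (iv F4029)) (tt N577 (iv D839)) (tt N902 D1116) (tt N899 (iv F4085)) (tt N727 F3131) (tt N829 (iv F3758)))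
theorem Q729 : ∀ i, i < 729 → P i := stepQ 728 Q728 (allL N728 (tt N578 (iv D840)) (tt N897 (iv F4062)) (tt N584 F3132) (tt N903 D1117) (tt N900 (iv F4088)) (tt N590 F3133) (tt N728 F3134) (tt N830 (iv F3761)))
theorem Q730 : ∀ i, i < 730 → P i := stepQ 729 Q729 (allL N729 (tt N903 (iv F4094)) (tt N579 F3135) (tt N729 F3136) (tt N578 (iv D841)) (tt N904 D1118) (tt N591 F3137) (tt N729 F3138) (tt N831 (iv F3765)))
theorem Q731 : ∀ i, i < 731 → P i := stepQ 730 Q730 (allL N730 (tt N898 (iv F4069)) (tt N904 (iv F4098)) (tt N580 F3139) (tt N902 (iv F4092)) (tt N579 (iv D842)) (tt N900 F66854) (tt N730 F3140) (tt N832 (iv F3767)))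
theorem Q732 : ∀ i, i < 732 → P i := stepQ 731 Q731 (allL N731 (tt N582 F66864) (tt N731 F3141) (tt N900 F66865) (tt N889 (iv F4037)) (tt N584 F66866) (tt N580 (iv D843)) (tt N594 (iv F67000)) (tt N833 (iv F3771)))
theorem Q733 : ∀ i, i < 733 → P i := stepQ 732 Q732 (allL N732 (tt N732 F3147) (tt N875 F67080) (tt N891 (iv F4044)) (tt N581 (iv D845)) (tt N874 (iv F67218)) (tt N583 F3148) (tt N593 F3149) (tt N834 (iv F3779)))
theorem Q734 : ∀ i, i < 734 → P i := stepQ 733 Q733 (allL N733 (tt N889 (iv F66999)) (tt N583 F3153) (tt N905 D1124) (tt N582 (iv D847)) (tt N733 F3154) (tt N875 (iv F66979)) (tt N595 F3155) (tt N835 (iv F3787)))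
theorem Q735 : ∀ i, i < 735 → P i := stepQ 734 Q734 (allL N734 (tt N589 F3156) (tt N903 F66859) (tt N585 (iv D848)) (tt N897 F66860) (tt N894 (iv F4054)) (tt N586 F3157) (tt N734 F3158) (tt N849 (iv F3838)))
theorem Q736 : ∀ i, i < 736 → P i := stepQ 735 Q735 (allL N735 (tt N591 F66654) (tt N586 (iv D849)) (tt N735 F3159) (tt N590 (iv F66718)) (tt N587 F3160) (tt N903 (iv F66802)) (tt N735 F3161) (tt N850 (iv F3841)))
theorem Q737 : ∀ i, i < 737 → P i := stepQ 736 Q736 (allL N736 (tt N587 (iv F66719)) (tt N590 (iv F66717)) (tt N736 F3163) (tt N586 (iv D850)) (tt N591 F66586) (tt N897 (iv F66709)) (tt N736 F3164) (tt N851 (iv F3844)))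
theorem Q738 : ∀ i, i < 738 → P i := stepQ 737 Q737 (allL N737 (tt N607 (iv F67258)) (tt N593 F3225) (tt N906 D1152) (tt N592 (iv D871)) (tt N602 (iv F67260)) (tt N595 F3226) (tt N875 F67128) (tt N737 F3227))
theorem Q739 : ∀ i, i < 739 → P i := stepQ 738 Q738 (allL N738 (tt N738 F3228) (tt N602 F67367) (tt N738 F3229) (tt N596 F3230) (tt N593 (iv D872)) (tt N738 F3231) (tt N874 F67368) (tt N738 F3232))
theorem Q740 : ∀ i, i < 740 → P i := stepQ 739 Q739 (allL N739 (tt N595 F3233) (tt N739 F3234) (tt N907 D1154) (tt N594 (iv D873)) (tt N739 F3235) (tt N607 (iv F67259)) (tt N889 F67153) (tt N739 F3236))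
theorem Q741 : ∀ i, i < 741 → P i := stepQ 740 Q740 (allL N740 (tt N907 (iv F4206)) (tt N740 F3237) (tt N595 (iv D874)) (tt N740 F3238) (tt N740 F3239) (tt N906 (iv F4200)) (tt N908 D1155) (tt N740 F3240))
theorem Q742 : ∀ i, i < 742 → P i := stepQ 741 Q741 (allL N741 (tt N741 F3287) (tt N741 F3288) (tt N597 (iv D887)) (tt N909 D1171) (tt N741 F3289) (tt N741 F3290) (tt N608 F3291) (tt N910 D1172))
theorem Q743 : ∀ i, i < 743 → P i := stepQ 742 Q742 (allL N742 (tt N742 F3292) (tt N599 F3293) (tt N910 (iv F4277)) (tt N862 (iv F3956)) (tt N742 F3294) (tt N742 F3295) (tt N911 D1173) (tt N597 (iv D888)))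
theorem Q744 : ∀ i, i < 744 → P i := stepQ 743 Q743 (allL N743 (tt N743 F3296) (tt N600 F3297) (tt N743 F67847) (tt N863 (iv F3960)) (tt N743 F3298) (tt N743 F3299) (tt N598 (iv D889)) (tt N911 (iv F4284)))
theorem Q745 : ∀ i, i < 745 → P i := stepQ 744 Q744 (allL N744 (tt N603 F3300) (tt N911 (iv F4281)) (tt N912 D1175) (tt N868 (iv F3978)) (tt N744 F3301) (tt N744 F3302) (tt N599 (iv D890)) (tt N600 F3303))
theorem Q746 : ∀ i, i < 746 → P i := stepQ 745 Q745 (allL N745 (tt N604 F3304) (tt N745 F67837) (tt N600 (iv D891)) (tt N913 D1177) (tt N745 F3305) (tt N745 F3306) (tt N601 F3307) (tt N912 (iv F4293)))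
theorem Q747 : ∀ i, i < 747 → P i := stepQ 746 Q746 (allL N746 (tt N606 F3312) (tt N746 F67567) (tt N602 F3313) (tt N601 (iv D893)) (tt N906 F67414) (tt N746 F3314) (tt N913 (iv F4299)) (tt N746 F3315))
theorem Q748 : ∀ i, i < 748 → P i := stepQ 747 Q747 (allL N747 (tt N912 (iv F4289)) (tt N914 D1184) (tt N603 (iv D896)) (tt N915 D1185) (tt N747 F3323) (tt N747 F3324) (tt N747 F3325) (tt N604 F3326))
theorem Q749 : ∀ i, i < 749 → P i := stepQ 748 Q748 (allL N748 (tt N748 F67838) (tt N604 (iv D897)) (tt N748 F3327) (tt N916 D1187) (tt N748 F3328) (tt N748 F3329) (tt N605 F3330) (tt N914 (iv F4328)))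
theorem Q750 : ∀ i, i < 750 → P i := stepQ 749 Q749 (allL N749 (tt N913 (iv F4297)) (tt N916 (iv F4336)) (tt N882 (iv F4022)) (tt N604 (iv D898)) (tt N917 D1188) (tt N749 F3331) (tt N606 F3332) (tt N915 (iv F4331)))
theorem Q751 : ∀ i, i < 751 → P i := stepQ 750 Q750 (allL N750 (tt N750 F67568) (tt N606 F3337) (tt N750 F3338) (tt N605 (iv D900)) (tt N918 D1190) (tt N750 F3339) (tt N916 (iv F4338)) (tt N750 F3340))
theorem Q752 : ∀ i, i < 752 → P i := stepQ 751 Q751 (allL N751 (tt N906 F67412) (tt N918 (iv F4345)) (tt N607 F3341) (tt N751 F3342) (tt N606 (iv D901)) (tt N907 F67413) (tt N917 (iv F4340)) (tt N751 F3343))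
theorem Q753 : ∀ i, i < 753 → P i := stepQ 752 Q752 (allL N752 (tt N752 F3371) (tt N752 F3372) (tt N752 F3373) (tt N608 (iv D909)) (tt N919 D1199) (tt N752 F3374) (tt N909 (iv F4274)) (tt N752 F68325))
theorem Q754 : ∀ i, i < 754 → P i := stepQ 753 Q753 (allL N753 (tt N623 F3485) (tt N609 (iv D937)) (tt N753 F3486) (tt N753 F3487) (tt N920 D1234) (tt N753 F3488) (tt N921 D1235) (tt N922 D1236))
theorem Q755 : ∀ i, i < 755 → P i := stepQ 754 Q754 (allL N754 (tt N613 F3489) (tt N920 (iv F4522)) (tt N610 F3490) (tt N923 D1237) (tt N609 (iv D938)) (tt N924 D1238) (tt N925 D1239) (tt N926 D1240))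
theorem Q756 : ∀ i, i < 756 → P i := stepQ 755 Q755 (allL N755 (tt N614 F3491) (tt N921 (iv F4525)) (tt N755 F3492) (tt N755 F3493) (tt N925 (iv F4541)) (tt N755 F3494) (tt N609 (iv D939)) (tt N927 D1241))
theorem Q757 : ∀ i, i < 757 → P i := stepQ 756 Q756 (allL N756 (tt N615 F3495) (tt N922 (iv F4529)) (tt N611 F3496) (tt N756 F3497) (tt N926 (iv F4544)) (tt N756 F3498) (tt N928 D1242) (tt N609 (iv D940)))
theorem Q758 : ∀ i, i < 758 → P i := stepQ 757 Q757 (allL N757 (tt N616 F3499) (tt N757 F3500) (tt N924 (iv F4537)) (tt N757 F3501) (tt N757 F3502) (tt N610 (iv D941)) (tt N757 F3503) (tt N929 D1243))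
theorem Q759 : ∀ i, i < 759 → P i := stepQ 758 Q758 (allL N758 (tt N617 F3504) (tt N758 F3505) (tt N926 (iv F4543)) (tt N758 F3506) (tt N611 F3507) (tt N929 (iv F4556)) (tt N930 D1244) (tt N610 (iv D942)))
theorem Q760 : ∀ i, i < 760 → P i := stepQ 759 Q759 (allL N759 (tt N618 F3508) (tt N759 F3509) (tt N931 D1245) (tt N612 F3510) (tt N930 (iv F4560)) (tt N759 F3511) (tt N611 (iv D943)) (tt N759 F3512))
theorem Q761 : ∀ i, i < 761 → P i := stepQ 760 Q760 (allL N760 (tt N619 F3513) (tt N932 D1246) (tt N612 (iv D944)) (tt N933 D1247) (tt N760 F3514) (tt N760 F3515) (tt N760 F3516) (tt N760 F3517))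
theorem Q762 : ∀ i, i < 762 → P i := stepQ 761 Q761 (allL N761 (tt N923 (iv F4533)) (tt N631 F3518) (tt N761 F3519) (tt N613 (iv D945)) (tt N761 F3520) (tt N925 (iv F69770)) (tt N924 (iv F69767)) (tt N934 D1250))
theorem Q763 : ∀ i, i < 763 → P i := stepQ 762 Q762 (allL N762 (tt N924 (iv F4536)) (tt N632 F3521) (tt N616 F3522) (tt N925 (iv F69769)) (tt N762 F3523) (tt N613 (iv D946)) (tt N923 (iv F69773)) (tt N935 D1252))
theorem Q764 : ∀ i, i < 764 → P i := stepQ 763 Q763 (allL N763 (tt N925 (iv F4539)) (tt N633 F3524) (tt N763 F3525) (tt N924 (iv F69766)) (tt N614 F3526) (tt N923 (iv F69772)) (tt N613 (iv D947)) (tt N936 D1253))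
theorem Q765 : ∀ i, i < 765 → P i := stepQ 764 Q764 (allL N764 (tt N926 (iv F4542)) (tt N634 F3527) (tt N617 F3528) (tt N934 (iv F4583)) (tt N615 F3529) (tt N935 (iv F4592)) (tt N937 D1254) (tt N613 (iv D948)))
theorem Q766 : ∀ i, i < 766 → P i := stepQ 765 Q765 (allL N765 (tt N927 (iv F4545)) (tt N635 F3530) (tt N765 F3531) (tt N765 F3532) (tt N936 (iv F4595)) (tt N765 F3533) (tt N938 D1255) (tt N614 (iv D949)))
theorem Q767 : ∀ i, i < 767 → P i := stepQ 766 Q766 (allL N766 (tt N928 (iv F4549)) (tt N636 F3534) (tt N939 D1256) (tt N766 F3535) (tt N937 (iv F4597)) (tt N766 F3536) (tt N615 (iv D950)) (tt N938 (iv F4601)))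
theorem Q768 : ∀ i, i < 768 → P i := stepQ 767 Q767 (allL N767 (tt N929 (iv F4552)) (tt N620 F3537) (tt N935 (iv F4590)) (tt N767 F3538) (tt N767 F3539) (tt N617 F3540) (tt N940 D1257) (tt N616 (iv D951)))
theorem Q769 : ∀ i, i < 769 → P i := stepQ 768 Q768 (allL N768 (tt N930 (iv F4557)) (tt N621 F3541) (tt N941 D1258) (tt N768 F3542) (tt N618 F3543) (tt N940 (iv F4607)) (tt N617 (iv D952)) (tt N768 F3544))
theorem Q770 : ∀ i, i < 770 → P i := stepQ 769 Q769 (allL N769 (tt N931 (iv F4562)) (tt N942 D1259) (tt N618 (iv D953)) (tt N943 D1260) (tt N941 (iv F4609)) (tt N769 F3545) (tt N939 (iv F4603)) (tt N769 F3546))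
theorem Q771 : ∀ i, i < 771 → P i := stepQ 770 Q770 (allL N770 (tt N933 (iv F4571)) (tt N770 F3547) (tt N943 (iv F4614)) (tt N619 (iv D954)) (tt N944 D1261) (tt N770 F3548) (tt N770 F3549) (tt N770 F3550))
theorem Q772 : ∀ i, i < 772 → P i := stepQ 771 Q771 (allL N771 (tt N771 F3551) (tt N940 (iv F4604)) (tt N945 D1262) (tt N771 F3552) (tt N771 F3553) (tt N621 F3554) (tt N620 (iv D955)) (tt N771 F3555))
theorem Q773 : ∀ i, i < 773 → P i := stepQ 772 Q772 (allL N772 (tt N772 F3556) (tt N946 D1263) (tt N621 (iv D956)) (tt N947 D1264) (tt N622 F3557) (tt N945 (iv F4623)) (tt N642 F3558) (tt N772 F3559))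
theorem Q774 : ∀ i, i < 774 → P i := stepQ 773 Q773 (allL N773 (tt N948 D1265) (tt N622 (iv D957)) (tt N942 (iv F4611)) (tt N773 F3560) (tt N946 (iv F4626)) (tt N773 F3561) (tt N643 F3562) (tt N773 F3563))
theorem Q775 : ∀ i, i < 775 → P i := stepQ 774 Q774 (allL N774 (tt N920 (iv F4521)) (tt N624 F3564) (tt N774 F3565) (tt N949 D1266) (tt N623 (iv D958)) (tt N950 D1267) (tt N951 D1268) (tt N952 D1269))
theorem Q776 : ∀ i, i < 776 → P i := stepQ 775 Q775 (allL N775 (tt N921 (iv F4524)) (tt N625 F3566) (tt N953 D1270) (tt N775 F3567) (tt N951 (iv F4645)) (tt N775 F3568) (tt N623 (iv D959)) (tt N954 D1271))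
theorem Q777 : ∀ i, i < 777 → P i := stepQ 776 Q776 (allL N776 (tt N922 (iv F4528)) (tt N626 F3569) (tt N776 F3570) (tt N776 F3571) (tt N952 (iv F4648)) (tt N776 F3572) (tt N955 D1272) (tt N623 (iv D960)))
theorem Q778 : ∀ i, i < 778 → P i := stepQ 777 Q777 (allL N777 (tt N631 F3573) (tt N949 (iv F4639)) (tt N646 F3574) (tt N624 (iv D961)) (tt N777 F3575) (tt N951 F69742) (tt N950 F69743) (tt N956 D1275))
theorem Q779 : ∀ i, i < 779 → P i := stepQ 778 Q778 (allL N778 (tt N632 F3576) (tt N950 (iv F4641)) (tt N627 F3577) (tt N951 (iv F69671)) (tt N778 F3578) (tt N624 (iv D962)) (tt N949 (iv F69672)) (tt N957 D1277))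
theorem Q780 : ∀ i, i < 780 → P i := stepQ 779 Q779 (allL N779 (tt N633 F3579) (tt N951 (iv F4644)) (tt N696 F3580) (tt N950 F69744) (tt N625 F3581) (tt N949 F69745) (tt N624 (iv D963)) (tt N958 D1278))
theorem Q781 : ∀ i, i < 781 → P i := stepQ 780 Q780 (allL N780 (tt N634 F3582) (tt N952 (iv F4646)) (tt N628 F3583) (tt N956 (iv F4667)) (tt N626 F3584) (tt N957 (iv F4676)) (tt N959 D1279) (tt N624 (iv D964)))
theorem Q782 : ∀ i, i < 782 → P i := stepQ 781 Q781 (allL N781 (tt N635 F3585) (tt N954 (iv F4652)) (tt N698 F3586) (tt N781 F3587) (tt N958 (iv F4679)) (tt N781 F3588) (tt N960 D1280) (tt N625 (iv D965)))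
theorem Q783 : ∀ i, i < 783 → P i := stepQ 782 Q782 (allL N782 (tt N636 F3589) (tt N955 (iv F4655)) (tt N961 D1281) (tt N782 F3590) (tt N959 (iv F4681)) (tt N782 F3591) (tt N626 (iv D966)) (tt N960 (iv F4685)))
theorem Q784 : ∀ i, i < 784 → P i := stepQ 783 Q783 (allL N783 (tt N637 F3592) (tt N783 F3593) (tt N957 (iv F4674)) (tt N650 F3594) (tt N783 F3595) (tt N628 F3596) (tt N962 D1282) (tt N627 (iv D967)))
theorem Q785 : ∀ i, i < 785 → P i := stepQ 784 Q784 (allL N784 (tt N638 F3597) (tt N784 F3598) (tt N963 D1283) (tt N651 F3599) (tt N629 F3600) (tt N962 (iv F4693)) (tt N628 (iv D968)) (tt N701 F3601))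
theorem Q786 : ∀ i, i < 786 → P i := stepQ 785 Q785 (allL N785 (tt N639 F3602) (tt N964 D1284) (tt N629 (iv D969)) (tt N965 D1285) (tt N963 (iv F4696)) (tt N785 F3603) (tt N961 (iv F4688)) (tt N702 F3604))
theorem Q787 : ∀ i, i < 787 → P i := stepQ 786 Q786 (allL N786 (tt N786 F3605) (tt N630 (iv D970)) (tt N786 F3606) (tt N966 D1286) (tt N653 F3607) (tt N786 F3608) (tt N786 F3609) (tt N703 F3610))
theorem Q788 : ∀ i, i < 788 → P i := stepQ 787 Q787 (allL N787 (tt N640 F3611) (tt N966 (iv F4706)) (tt N965 (iv F4702)) (tt N630 (iv D971)) (tt N967 D1287) (tt N787 F3612) (tt N787 F3613) (tt N704 F3614))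
theorem Q789 : ∀ i, i < 789 → P i := stepQ 788 Q788 (allL N788 (tt N951 F69736) (tt N925 (iv F69768)) (tt N655 F3615) (tt N632 F3616) (tt N921 (iv F69774)) (tt N631 (iv D972)) (tt N920 (iv F69777)) (tt N968 D1290))
theorem Q790 : ∀ i, i < 790 → P i := stepQ 789 Q789 (allL N789 (tt N950 F69747) (tt N924 (iv F69765)) (tt N789 F3617) (tt N633 F3618) (tt N789 F3619) (tt N920 (iv F69776)) (tt N631 (iv D973)) (tt N969 D1291))
theorem Q791 : ∀ i, i < 791 → P i := stepQ 790 Q790 (allL N790 (tt N956 (iv F4665)) (tt N934 (iv F4581)) (tt N656 F3620) (tt N634 F3621) (tt N790 F3622) (tt N968 (iv F4722)) (tt N970 D1292) (tt N631 (iv D974)))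
theorem Q792 : ∀ i, i < 792 → P i := stepQ 791 Q791 (allL N791 (tt N949 F69737) (tt N923 (iv F69771)) (tt N705 F3623) (tt N920 (iv F69775)) (tt N791 F3624) (tt N633 F3625) (tt N632 (iv D975)) (tt N971 D1293))
theorem Q793 : ∀ i, i < 793 → P i := stepQ 792 Q792 (allL N792 (tt N957 (iv F4673)) (tt N935 (iv F4589)) (tt N637 F3626) (tt N968 (iv F4721)) (tt N792 F3627) (tt N634 F3628) (tt N972 D1294) (tt N632 (iv D976)))
theorem Q794 : ∀ i, i < 794 → P i := stepQ 793 Q793 (allL N793 (tt N958 (iv F4677)) (tt N936 (iv F4593)) (tt N707 F3629) (tt N969 (iv F4724)) (tt N635 F3630) (tt N971 (iv F4730)) (tt N973 D1295) (tt N633 (iv D977)))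
theorem Q795 : ∀ i, i < 795 → P i := stepQ 794 Q794 (allL N794 (tt N959 (iv F4680)) (tt N937 (iv F4596)) (tt N974 D1296) (tt N970 (iv F4726)) (tt N636 F3631) (tt N972 (iv F4732)) (tt N634 (iv D978)) (tt N973 (iv F4734)))
theorem Q796 : ∀ i, i < 796 → P i := stepQ 795 Q795 (allL N795 (tt N960 (iv F4682)) (tt N938 (iv F4598)) (tt N975 D1297) (tt N795 F3632) (tt N973 (iv F4733)) (tt N795 F3633) (tt N635 (iv D979)) (tt N636 F3634))
theorem Q797 : ∀ i, i < 797 → P i := stepQ 796 Q796 (allL N796 (tt N961 (iv F4686)) (tt N976 D1298) (tt N636 (iv D980)) (tt N977 D1299) (tt N974 (iv F4735)) (tt N796 F3635) (tt N639 F3636) (tt N975 (iv F4739)))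
theorem Q798 : ∀ i, i < 798 → P i := stepQ 797 Q797 (allL N797 (tt N962 (iv F4689)) (tt N641 F3637) (tt N978 D1300) (tt N660 F3638) (tt N797 F3639) (tt N638 F3640) (tt N637 (iv D981)) (tt N711 F3641))
theorem Q799 : ∀ i, i < 799 → P i := stepQ 798 Q798 (allL N798 (tt N963 (iv F4695)) (tt N979 D1301) (tt N638 (iv D982)) (tt N980 D1302) (tt N639 F3642) (tt N978 (iv F4746)) (tt N974 (iv F4736)) (tt N712 F3643))
theorem Q800 : ∀ i, i < 800 → P i := stepQ 799 Q799 (allL N799 (tt N981 D1303) (tt N639 (iv D983)) (tt N643 F3644) (tt N982 D1304) (tt N979 (iv F4749)) (tt N799 F3645) (tt N976 (iv F4741)) (tt N713 F3646))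
theorem Q801 : ∀ i, i < 801 → P i := stepQ 800 Q800 (allL N800 (tt N965 (iv F4701)) (tt N982 (iv F4756)) (tt N640 F3647) (tt N639 (iv D984)) (tt N983 D1305) (tt N800 F3648) (tt N977 (iv F4744)) (tt N714 F3649))
theorem Q802 : ∀ i, i < 802 → P i := stepQ 801 Q801 (allL N801 (tt N967 (iv F4710)) (tt N801 F3650) (tt N983 (iv F4760)) (tt N664 F3651) (tt N640 (iv D985)) (tt N984 D1306) (tt N801 F3652) (tt N715 F3653))
theorem Q803 : ∀ i, i < 803 → P i := stepQ 802 Q802 (allL N802 (tt N802 F3654) (tt N985 D1307) (tt N641 (iv D986)) (tt N986 D1308) (tt N802 F3655) (tt N642 F3656) (tt N945 (iv F4624)) (tt N716 F3657))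
theorem Q804 : ∀ i, i < 804 → P i := stepQ 803 Q803 (allL N803 (tt N987 D1309) (tt N642 (iv D987)) (tt N979 (iv F4748)) (tt N988 D1310) (tt N643 F3658) (tt N985 (iv F4768)) (tt N946 (iv F4627)) (tt N717 F3659))
theorem Q805 : ∀ i, i < 805 → P i := stepQ 804 Q804 (allL N804 (tt N804 F3660) (tt N988 (iv F4777)) (tt N667 F3661) (tt N642 (iv D988)) (tt N804 F3662) (tt N986 (iv F4772)) (tt N947 (iv F4632)) (tt N718 F3663))
theorem Q806 : ∀ i, i < 806 → P i := stepQ 805 Q805 (allL N805 (tt N643 (iv D989)) (tt N805 F3664) (tt N981 (iv F4753)) (tt N805 F3665) (tt N987 (iv F4775)) (tt N805 F3666) (tt N948 (iv F4637)) (tt N719 F3667))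
theorem Q807 : ∀ i, i < 807 → P i := stepQ 806 Q806 (allL N806 (tt N806 F3668) (tt N646 F3669) (tt N989 D1311) (tt N644 (iv D990)) (tt N806 F3670) (tt N990 D1312) (tt N806 F3671) (tt N991 D1313))
theorem Q808 : ∀ i, i < 808 → P i := stepQ 807 Q807 (allL N807 (tt N807 F3672) (tt N647 F3673) (tt N807 F3674) (tt N990 (iv F4785)) (tt N670 F3675) (tt N644 (iv D991)) (tt N807 F3676) (tt N992 D1314))
theorem Q809 : ∀ i, i < 809 → P i := stepQ 808 Q808 (allL N808 (tt N808 F3677) (tt N648 F3678) (tt N808 F3679) (tt N991 (iv F4789)) (tt N645 F3680) (tt N992 (iv F4795)) (tt N993 D1315) (tt N644 (iv D992)))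
theorem Q810 : ∀ i, i < 810 → P i := stepQ 809 Q809 (allL N809 (tt N809 F3681) (tt N649 F3682) (tt N994 D1316) (tt N809 F3683) (tt N993 (iv F4798)) (tt N672 F3684) (tt N645 (iv D993)) (tt N809 F3685))
theorem Q811 : ∀ i, i < 811 → P i := stepQ 810 Q810 (allL N810 (tt N655 F3686) (tt N990 (iv F4784)) (tt N951 F69721) (tt N647 F3687) (tt N953 (iv F69762)) (tt N646 (iv D994)) (tt N810 F3688) (tt N995 D1318))
theorem Q812 : ∀ i, i < 812 → P i := stepQ 811 Q811 (allL N811 (tt N656 F3689) (tt N991 (iv F4788)) (tt N956 (iv F4666)) (tt N648 F3690) (tt N811 F3691) (tt N995 (iv F4810)) (tt N996 D1319) (tt N646 (iv D995)))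
theorem Q813 : ∀ i, i < 813 → P i := stepQ 812 Q812 (allL N812 (tt N657 F3692) (tt N992 (iv F4792)) (tt N650 F3693) (tt N995 (iv F4809)) (tt N675 F3694) (tt N648 F3695) (tt N997 D1320) (tt N647 (iv D996)))
theorem Q814 : ∀ i, i < 814 → P i := stepQ 813 Q813 (allL N813 (tt N658 F3696) (tt N993 (iv F4797)) (tt N998 D1321) (tt N996 (iv F4812)) (tt N649 F3697) (tt N997 (iv F4817)) (tt N648 (iv D997)) (tt N813 F3698))
theorem Q815 : ∀ i, i < 815 → P i := stepQ 814 Q814 (allL N814 (tt N659 F3699) (tt N999 D1322) (tt N649 (iv D998)) (tt N1000 D1323) (tt N998 (iv F4820)) (tt N677 F3700) (tt N652 F3701) (tt N814 F3702))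
theorem Q816 : ∀ i, i < 816 → P i := stepQ 815 Q815 (allL N815 (tt N660 F3703) (tt N815 F3704) (tt N1001 D1324) (tt N962 (iv F4691)) (tt N678 F3705) (tt N651 F3706) (tt N650 (iv D999)) (tt N720 F3707))
theorem Q817 : ∀ i, i < 817 → P i := stepQ 816 Q816 (allL N816 (tt N661 F3708) (tt N1002 D1325) (tt N651 (iv D1000)) (tt N1003 D1326) (tt N652 F3709) (tt N1001 (iv F4833)) (tt N998 (iv F4821)) (tt N721 F3710))
theorem Q818 : ∀ i, i < 818 → P i := stepQ 817 Q817 (allL N817 (tt N1004 D1327) (tt N652 (iv D1001)) (tt N817 F3711) (tt N689 F66713) (tt N1002 (iv F4836)) (tt N680 F3712) (tt N999 (iv F4824)) (tt N722 F3713))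
theorem Q819 : ∀ i, i < 819 → P i := stepQ 818 Q818 (allL N818 (tt N663 F3714) (tt N689 (iv F66583)) (tt N654 F3715) (tt N652 (iv D1002)) (tt N1005 D1329) (tt N681 F3716) (tt N1000 (iv F4829)) (tt N723 F3717))
theorem Q820 : ∀ i, i < 820 → P i := stepQ 819 Q819 (allL N819 (tt N664 F3723) (tt N665 (iv F66797)) (tt N1005 (iv F4848)) (tt N967 (iv F4711)) (tt N654 (iv D1004)) (tt N666 F66702) (tt N819 F3724) (tt N724 F3725))
theorem Q821 : ∀ i, i < 821 → P i := stepQ 820 Q820 (allL N820 (tt N953 F69780) (tt N820 F3726) (tt N921 F69781) (tt N682 F3727) (tt N655 (iv D1005)) (tt N820 F3728) (tt N820 F3729) (tt N1006 D1333))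
theorem Q822 : ∀ i, i < 822 → P i := stepQ 821 Q821 (allL N821 (tt N995 (iv F4808)) (tt N821 F3730) (tt N968 (iv F4720)) (tt N657 F3731) (tt N1006 (iv F4864)) (tt N656 F3732) (tt N1007 D1334) (tt N655 (iv D1006)))
theorem Q823 : ∀ i, i < 823 → P i := stepQ 822 Q822 (allL N822 (tt N996 (iv F4811)) (tt N822 F3733) (tt N1008 D1335) (tt N658 F3734) (tt N822 F3735) (tt N1007 (iv F4868)) (tt N656 (iv D1007)) (tt N822 F3736))
theorem Q824 : ∀ i, i < 824 → P i := stepQ 823 Q823 (allL N823 (tt N997 (iv F4815)) (tt N823 F3737) (tt N1009 D1336) (tt N1007 (iv F4867)) (tt N685 F3738) (tt N658 F3739) (tt N657 (iv D1008)) (tt N823 F3740))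
theorem Q825 : ∀ i, i < 825 → P i := stepQ 824 Q824 (allL N824 (tt N998 (iv F4819)) (tt N1010 D1337) (tt N658 (iv D1009)) (tt N1011 D1338) (tt N659 F3741) (tt N1009 (iv F4873)) (tt N661 F3742) (tt N824 F3743))
theorem Q826 : ∀ i, i < 826 → P i := stepQ 825 Q825 (allL N825 (tt N1012 D1339) (tt N659 (iv D1010)) (tt N825 F3744) (tt N1013 D1340) (tt N1010 (iv F4877)) (tt N687 F3745) (tt N662 F3746) (tt N825 F3747))
theorem Q827 : ∀ i, i < 827 → P i := stepQ 826 Q826 (allL N826 (tt N1000 (iv F4826)) (tt N1013 (iv F4886)) (tt N826 F3748) (tt N659 (iv D1011)) (tt N1014 D1341) (tt N688 F3749) (tt N663 F3750) (tt N826 F3751))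
theorem Q828 : ∀ i, i < 828 → P i := stepQ 827 Q827 (allL N827 (tt N1001 (iv F4831)) (tt N1005 F66707) (tt N660 (iv D1012)) (tt N1015 D1343) (tt N689 F3752) (tt N661 F3753) (tt N1009 (iv F4874)) (tt N725 F3754))
theorem Q829 : ∀ i, i < 829 → P i := stepQ 828 Q828 (allL N828 (tt N1016 D1344) (tt N661 (iv D1013)) (tt N666 F3755) (tt N1017 D1345) (tt N662 F3756) (tt N1005 F66703) (tt N1010 (iv F4878)) (tt N726 F3757))
theorem Q830 : ∀ i, i < 830 → P i := stepQ 829 Q829 (allL N829 (tt N1003 (iv F4838)) (tt N1017 (iv F4902)) (tt N980 (iv F4751)) (tt N661 (iv D1014)) (tt N1018 D1346) (tt N1015 (iv F4897)) (tt N1011 (iv F4880)) (tt N727 F3758))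
theorem Q831 : ∀ i, i < 831 → P i := stepQ 830 Q830 (allL N830 (tt N662 (iv D1015)) (tt N1004 (iv F4840)) (tt N668 F3759) (tt N1019 D1347) (tt N1016 (iv F4900)) (tt N690 F3760) (tt N1012 (iv F4884)) (tt N728 F3761))
theorem Q832 : ∀ i, i < 832 → P i := stepQ 831 Q831 (allL N831 (tt N1019 (iv F4906)) (tt N663 F3762) (tt N831 F3763) (tt N662 (iv D1016)) (tt N1020 D1348) (tt N691 F3764) (tt N1013 (iv F4888)) (tt N729 F3765))
theorem Q833 : ∀ i, i < 833 → P i := stepQ 832 Q832 (allL N832 (tt N1005 (iv F4847)) (tt N1020 (iv F4910)) (tt N664 F3766) (tt N1018 (iv F4904)) (tt N663 (iv D1017)) (tt N1016 F66710) (tt N1014 (iv F4891)) (tt N730 F3767))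
theorem Q834 : ∀ i, i < 834 → P i := stepQ 833 Q833 (allL N833 (tt N666 F66727) (tt N833 F3768) (tt N1016 F66728) (tt N984 (iv F4763)) (tt N668 F66729) (tt N664 (iv D1018)) (tt N833 F3770) (tt N731 F3771))
theorem Q835 : ∀ i, i < 835 → P i := stepQ 834 Q834 (allL N834 (tt N834 F3776) (tt N967 F66929) (tt N986 (iv F4771)) (tt N665 (iv D1020)) (tt N966 (iv F67079)) (tt N667 F3777) (tt N834 F3778) (tt N732 F3779))
theorem Q836 : ∀ i, i < 836 → P i := stepQ 835 Q835 (allL N835 (tt N984 (iv F66870)) (tt N667 F3784) (tt N1021 D1354) (tt N666 (iv D1022)) (tt N835 F3785) (tt N967 (iv F66842)) (tt N835 F3786) (tt N733 F3787))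
theorem Q837 : ∀ i, i < 837 → P i := stepQ 836 Q836 (allL N836 (tt N836 F3788) (tt N836 F3789) (tt N669 (iv D1023)) (tt N836 F3790) (tt N836 F3791) (tt N1022 D1355) (tt N1023 D1356) (tt N1024 D1357))
theorem Q838 : ∀ i, i < 838 → P i := stepQ 837 Q837 (allL N837 (tt N837 F3792) (tt N673 F3793) (tt N1022 (iv F4939)) (tt N670 F3794) (tt N1025 D1358) (tt N669 (iv D1024)) (tt N837 F3795) (tt N1026 D1359))
theorem Q839 : ∀ i, i < 839 → P i := stepQ 838 Q838 (allL N838 (tt N838 F3796) (tt N674 F3797) (tt N1024 (iv F4948)) (tt N671 F3798) (tt N838 F3799) (tt N1026 (iv F4958)) (tt N1027 D1360) (tt N669 (iv D1025)))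
theorem Q840 : ∀ i, i < 840 → P i := stepQ 839 Q839 (allL N839 (tt N839 F3800) (tt N675 F3801) (tt N839 F3802) (tt N1026 (iv F4957)) (tt N992 (iv F4794)) (tt N671 F3803) (tt N1028 D1361) (tt N670 (iv D1026)))
theorem Q841 : ∀ i, i < 841 → P i := stepQ 840 Q840 (allL N840 (tt N840 F3804) (tt N676 F3805) (tt N1029 D1362) (tt N1027 (iv F4961)) (tt N672 F3806) (tt N1028 (iv F4966)) (tt N671 (iv D1027)) (tt N840 F3807))
theorem Q842 : ∀ i, i < 842 → P i := stepQ 841 Q841 (allL N841 (tt N841 F3808) (tt N1030 D1363) (tt N672 (iv D1028)) (tt N1031 D1364) (tt N1029 (iv F4969)) (tt N994 (iv F4801)) (tt N841 F3809) (tt N841 F3810))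
theorem Q843 : ∀ i, i < 843 → P i := stepQ 842 Q842 (allL N842 (tt N682 F3811) (tt N1025 (iv F4952)) (tt N842 F3812) (tt N953 F69783) (tt N673 (iv D1029)) (tt N842 F3813) (tt N842 F3814) (tt N1032 D1365))
theorem Q844 : ∀ i, i < 844 → P i := stepQ 843 Q843 (allL N843 (tt N683 F3815) (tt N1026 (iv F4956)) (tt N843 F3816) (tt N675 F3817) (tt N1032 (iv F4981)) (tt N674 F3818) (tt N1033 D1366) (tt N673 (iv D1030)))
theorem Q845 : ∀ i, i < 845 → P i := stepQ 844 Q844 (allL N844 (tt N684 F3819) (tt N1027 (iv F4960)) (tt N1034 D1367) (tt N676 F3820) (tt N844 F3821) (tt N1033 (iv F4985)) (tt N674 (iv D1031)) (tt N844 F3822))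
theorem Q846 : ∀ i, i < 846 → P i := stepQ 845 Q845 (allL N845 (tt N685 F3823) (tt N1028 (iv F4965)) (tt N1035 D1368) (tt N1033 (iv F4984)) (tt N997 (iv F4816)) (tt N676 F3824) (tt N675 (iv D1032)) (tt N845 F3825))
theorem Q847 : ∀ i, i < 847 → P i := stepQ 846 Q846 (allL N846 (tt N686 F3826) (tt N1036 D1369) (tt N676 (iv D1033)) (tt N1037 D1370) (tt N677 F3827) (tt N1035 (iv F4992)) (tt N679 F3828) (tt N846 F3829))
theorem Q848 : ∀ i, i < 848 → P i := stepQ 847 Q847 (allL N847 (tt N1037 F66486) (tt N677 (iv D1034)) (tt N1030 (iv F4972)) (tt N686 F66487) (tt N1036 (iv F4995)) (tt N999 (iv F4823)) (tt N680 F3830) (tt N847 F3831))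
theorem Q849 : ∀ i, i < 849 → P i := stepQ 848 Q848 (allL N848 (tt N688 F3832) (tt N686 F66484) (tt N848 F3833) (tt N677 (iv D1035)) (tt N687 F66485) (tt N1000 (iv F4828)) (tt N681 F3834) (tt N848 F3835))
theorem Q850 : ∀ i, i < 850 → P i := stepQ 849 Q849 (allL N849 (tt N689 F3836) (tt N1019 F66711) (tt N678 (iv D1036)) (tt N1004 F66712) (tt N1001 (iv F4832)) (tt N679 F3837) (tt N1035 (iv F4993)) (tt N734 F3838))
theorem Q851 : ∀ i, i < 851 → P i := stepQ 850 Q850 (allL N850 (tt N691 F66556) (tt N679 (iv D1037)) (tt N850 F3839) (tt N690 (iv F66594)) (tt N680 F3840) (tt N1019 (iv F66655)) (tt N1036 (iv F4996)) (tt N735 F3841))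
theorem Q852 : ∀ i, i < 852 → P i := stepQ 851 Q851 (allL N851 (tt N680 (iv F66595)) (tt N690 (iv F66593)) (tt N851 F3843) (tt N679 (iv D1038)) (tt N691 F66470) (tt N1004 (iv F66599)) (tt N1037 (iv F4999)) (tt N736 F3844))
theorem Q853 : ∀ i, i < 853 → P i := stepQ 852 Q852 (allL N852 (tt N1032 (iv F4979)) (tt N852 F3865) (tt N852 F3866) (tt N1006 (iv F4863)) (tt N683 F3867) (tt N852 F3868) (tt N1038 D1386) (tt N682 (iv D1045)))
theorem Q854 : ∀ i, i < 854 → P i := stepQ 853 Q853 (allL N853 (tt N1033 (iv F4983)) (tt N853 F3869) (tt N1039 D1387) (tt N685 F3870) (tt N1038 (iv F5051)) (tt N684 F3871) (tt N683 (iv D1046)) (tt N853 F3872))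
theorem Q855 : ∀ i, i < 855 → P i := stepQ 854 Q854 (allL N854 (tt N1034 (iv F4987)) (tt N1031 (iv F66523)) (tt N684 (iv D1047)) (tt N1030 (iv F66524)) (tt N854 F3873) (tt N1039 (iv F5054)) (tt N854 F3874) (tt N854 F3875))
theorem Q856 : ∀ i, i < 856 → P i := stepQ 855 Q855 (allL N855 (tt N1035 (iv F4991)) (tt N1000 (iv F66598)) (tt N685 (iv D1048)) (tt N999 (iv F66608)) (tt N1009 (iv F4872)) (tt N686 F3876) (tt N689 F3877) (tt N855 F3878))
theorem Q857 : ∀ i, i < 857 → P i := stepQ 856 Q856 (allL N856 (tt N687 (iv D1051)) (tt N1037 F66480) (tt N856 F3885) (tt N1036 (iv F66604)) (tt N688 (iv F66597)) (tt N1012 (iv F4883)) (tt N690 F3886) (tt N856 F3887))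
theorem Q858 : ∀ i, i < 858 → P i := stepQ 857 Q857 (allL N857 (tt N1036 (iv F66603)) (tt N688 F3888) (tt N1040 D1396) (tt N687 (iv D1052)) (tt N1037 F66476) (tt N1013 (iv F4887)) (tt N691 F3889) (tt N857 F3890))
theorem Q859 : ∀ i, i < 859 → P i := stepQ 858 Q858 (allL N858 (tt N858 F3937) (tt N695 F3938) (tt N858 F3939) (tt N858 F3940) (tt N858 F3941) (tt N692 (iv D1067)) (tt N989 (iv F69779)) (tt N1041 D1414))
theorem Q860 : ∀ i, i < 860 → P i := stepQ 859 Q859 (allL N859 (tt N859 F3942) (tt N696 F3943) (tt N990 F69784) (tt N859 F3944) (tt N693 F3945) (tt N989 F69785) (tt N692 (iv D1068)) (tt N1042 D1416))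
theorem Q861 : ∀ i, i < 861 → P i := stepQ 860 Q860 (allL N860 (tt N860 F3946) (tt N697 F3947) (tt N860 F3948) (tt N860 F3949) (tt N694 F3950) (tt N1041 (iv F5147)) (tt N1043 D1417) (tt N692 (iv D1069)))
theorem Q862 : ∀ i, i < 862 → P i := stepQ 861 Q861 (allL N861 (tt N861 F3951) (tt N953 (iv F4649)) (tt N693 (iv D1070)) (tt N1025 (iv F69789)) (tt N990 F69786) (tt N861 F3952) (tt N861 F3953) (tt N1044 D1419))
theorem Q863 : ∀ i, i < 863 → P i := stepQ 862 Q862 (allL N862 (tt N862 F3954) (tt N698 F3955) (tt N1044 (iv F5164)) (tt N742 F3956) (tt N1042 (iv F5154)) (tt N862 F3957) (tt N1045 D1420) (tt N693 (iv D1071)))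
theorem Q864 : ∀ i, i < 864 → P i := stepQ 863 Q863 (allL N863 (tt N863 F3958) (tt N699 F3959) (tt N1046 D1421) (tt N743 F3960) (tt N1043 (iv F5158)) (tt N863 F3961) (tt N694 (iv D1072)) (tt N1045 (iv F5170)))
theorem Q865 : ∀ i, i < 865 → P i := stepQ 864 Q864 (allL N864 (tt N705 F3962) (tt N989 (iv F69778)) (tt N949 F69748) (tt N864 F3963) (tt N864 F3964) (tt N696 F3965) (tt N695 (iv D1073)) (tt N1047 D1422))
theorem Q866 : ∀ i, i < 866 → P i := stepQ 865 Q865 (allL N865 (tt N706 F3966) (tt N1041 (iv F5143)) (tt N700 F3967) (tt N865 F3968) (tt N865 F3969) (tt N697 F3970) (tt N1048 D1423) (tt N695 (iv D1074)))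
theorem Q867 : ∀ i, i < 867 → P i := stepQ 866 Q866 (allL N866 (tt N707 F3971) (tt N1042 (iv F5152)) (tt N958 (iv F4678)) (tt N866 F3972) (tt N698 F3973) (tt N1047 (iv F5177)) (tt N1049 D1424) (tt N696 (iv D1075)))
theorem Q868 : ∀ i, i < 868 → P i := stepQ 867 Q867 (allL N867 (tt N708 F3974) (tt N1043 (iv F5156)) (tt N1050 D1425) (tt N867 F3975) (tt N699 F3976) (tt N1048 (iv F5181)) (tt N697 (iv D1076)) (tt N1049 (iv F5185)))
theorem Q869 : ∀ i, i < 869 → P i := stepQ 868 Q868 (allL N868 (tt N709 F3977) (tt N1045 (iv F5167)) (tt N1051 D1426) (tt N744 F3978) (tt N1049 (iv F5184)) (tt N868 F3979) (tt N698 (iv D1077)) (tt N699 F3980))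
theorem Q870 : ∀ i, i < 870 → P i := stepQ 869 Q869 (allL N869 (tt N710 F3981) (tt N1052 D1427) (tt N699 (iv D1078)) (tt N1053 D1428) (tt N1050 (iv F5187)) (tt N869 F3982) (tt N702 F3983) (tt N1051 (iv F5191)))
theorem Q871 : ∀ i, i < 871 → P i := stepQ 870 Q870 (allL N870 (tt N711 F3984) (tt N870 F3985) (tt N1054 D1429) (tt N720 F3986) (tt N870 F3987) (tt N701 F3988) (tt N700 (iv D1079)) (tt N962 (iv F4694)))
theorem Q872 : ∀ i, i < 872 → P i := stepQ 871 Q871 (allL N871 (tt N712 F3989) (tt N1055 D1430) (tt N701 (iv D1080)) (tt N1056 D1431) (tt N702 F3990) (tt N1054 (iv F5200)) (tt N1050 (iv F5188)) (tt N963 (iv F4697)))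
theorem Q873 : ∀ i, i < 873 → P i := stepQ 872 Q872 (allL N872 (tt N1057 D1432) (tt N702 (iv D1081)) (tt N872 F3991) (tt N1058 D1433) (tt N1055 (iv F5202)) (tt N872 F3992) (tt N1052 (iv F5193)) (tt N964 (iv F4700)))
theorem Q874 : ∀ i, i < 874 → P i := stepQ 873 Q873 (allL N873 (tt N714 F3993) (tt N1058 (iv F5208)) (tt N704 F3994) (tt N702 (iv D1082)) (tt N1059 D1434) (tt N873 F3995) (tt N1053 (iv F5197)) (tt N965 (iv F4704)))
theorem Q875 : ∀ i, i < 875 → P i := stepQ 874 Q874 (allL N874 (tt N874 F3996) (tt N704 F3997) (tt N1060 D1435) (tt N703 (iv D1083)) (tt N732 F67218) (tt N874 F3998) (tt N738 (iv F67368)) (tt N966 (iv F4709)))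
theorem Q876 : ∀ i, i < 876 → P i := stepQ 875 Q875 (allL N875 (tt N715 F4000) (tt N732 (iv F67080)) (tt N1059 (iv F5211)) (tt N724 F4001) (tt N704 (iv D1084)) (tt N733 F66979) (tt N737 (iv F67128)) (tt N967 (iv F4713)))
theorem Q877 : ∀ i, i < 877 → P i := stepQ 876 Q876 (allL N876 (tt N1047 (iv F5174)) (tt N876 F4003) (tt N971 (iv F4728)) (tt N876 F4004) (tt N876 F4005) (tt N707 F4006) (tt N1061 D1438) (tt N705 (iv D1085)))
theorem Q878 : ∀ i, i < 878 → P i := stepQ 877 Q877 (allL N877 (tt N1048 (iv F5178)) (tt N877 F4007) (tt N1062 D1439) (tt N877 F4008) (tt N877 F4009) (tt N708 F4010) (tt N706 (iv D1086)) (tt N1061 (iv F5227)))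
theorem Q879 : ∀ i, i < 879 → P i := stepQ 878 Q878 (allL N878 (tt N1049 (iv F5182)) (tt N878 F4011) (tt N1063 D1440) (tt N878 F4012) (tt N709 F4013) (tt N1061 (iv F5226)) (tt N707 (iv D1087)) (tt N708 F4014))
theorem Q880 : ∀ i, i < 880 → P i := stepQ 879 Q879 (allL N879 (tt N1050 (iv F5186)) (tt N1064 D1441) (tt N708 (iv D1088)) (tt N1065 D1442) (tt N710 F4015) (tt N1062 (iv F5229)) (tt N712 F4016) (tt N1063 (iv F5232)))
theorem Q881 : ∀ i, i < 881 → P i := stepQ 880 Q880 (allL N880 (tt N1051 (iv F5189)) (tt N1066 D1443) (tt N709 (iv D1089)) (tt N1067 D1444) (tt N1063 (iv F5231)) (tt N880 F4017) (tt N975 (iv F4738)) (tt N710 F4018))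
theorem Q882 : ∀ i, i < 882 → P i := stepQ 881 Q881 (allL N881 (tt N1068 D1445) (tt N710 (iv D1090)) (tt N881 F4019) (tt N1069 D1446) (tt N1064 (iv F5234)) (tt N881 F4020) (tt N713 F4021) (tt N1066 (iv F5240)))
theorem Q883 : ∀ i, i < 883 → P i := stepQ 882 Q882 (allL N882 (tt N1053 (iv F5194)) (tt N1069 (iv F5247)) (tt N749 F4022) (tt N710 (iv D1091)) (tt N1070 D1447) (tt N882 F4023) (tt N714 F4024) (tt N1067 (iv F5243)))
theorem Q884 : ∀ i, i < 884 → P i := stepQ 883 Q883 (allL N883 (tt N1054 (iv F5198)) (tt N1071 D1448) (tt N711 (iv D1092)) (tt N1072 D1449) (tt N883 F4025) (tt N712 F4026) (tt N1062 (iv F5230)) (tt N978 (iv F4747)))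
theorem Q885 : ∀ i, i < 885 → P i := stepQ 884 Q884 (allL N884 (tt N1073 D1450) (tt N712 (iv D1093)) (tt N717 F4027) (tt N1074 D1451) (tt N713 F4028) (tt N1071 (iv F5254)) (tt N1064 (iv F5235)) (tt N979 (iv F4750)))
theorem Q886 : ∀ i, i < 886 → P i := stepQ 885 Q885 (allL N885 (tt N1056 (iv F5203)) (tt N1074 (iv F5259)) (tt N727 F4029) (tt N712 (iv D1094)) (tt N1075 D1452) (tt N1072 (iv F5256)) (tt N1065 (iv F5237)) (tt N980 (iv F4752)))
theorem Q887 : ∀ i, i < 887 → P i := stepQ 886 Q886 (allL N886 (tt N713 (iv D1095)) (tt N1057 (iv F5205)) (tt N719 F4030) (tt N1076 D1453) (tt N1073 (iv F5258)) (tt N886 F4031) (tt N1068 (iv F5246)) (tt N981 (iv F4755)))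
theorem Q888 : ∀ i, i < 888 → P i := stepQ 887 Q887 (allL N887 (tt N1076 (iv F5262)) (tt N714 F4032) (tt N887 F4033) (tt N713 (iv D1096)) (tt N1077 D1454) (tt N887 F4034) (tt N1069 (iv F5249)) (tt N982 (iv F4759)))
theorem Q889 : ∀ i, i < 889 → P i := stepQ 888 Q888 (allL N888 (tt N1059 (iv F5210)) (tt N1077 (iv F5265)) (tt N715 F4035) (tt N1075 (iv F5261)) (tt N714 (iv D1097)) (tt N1078 D1455) (tt N1070 (iv F5251)) (tt N983 (iv F4761)))
theorem Q890 : ∀ i, i < 890 → P i := stepQ 889 Q889 (allL N889 (tt N733 F66999) (tt N889 F4036) (tt N1078 (iv F5267)) (tt N731 F4037) (tt N889 F4038) (tt N715 (iv D1098)) (tt N739 (iv F67153)) (tt N984 (iv F4766)))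
theorem Q891 : ∀ i, i < 891 → P i := stepQ 890 Q890 (allL N890 (tt N1079 D1456) (tt N716 (iv D1099)) (tt N1071 (iv F5252)) (tt N1080 D1457) (tt N890 F4040) (tt N717 F4041) (tt N890 F4042) (tt N985 (iv F4769)))
theorem Q892 : ∀ i, i < 892 → P i := stepQ 891 Q891 (allL N891 (tt N891 F4043) (tt N1080 (iv F5273)) (tt N732 F4044) (tt N716 (iv D1100)) (tt N1060 (iv F67366)) (tt N718 F4045) (tt N891 F4046) (tt N986 (iv F4773)))
theorem Q893 : ∀ i, i < 893 → P i := stepQ 892 Q892 (allL N892 (tt N717 (iv D1101)) (tt N892 F4047) (tt N1073 (iv F5257)) (tt N1081 D1459) (tt N719 F4048) (tt N1079 (iv F5271)) (tt N892 F4049) (tt N987 (iv F4776)))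
theorem Q894 : ∀ i, i < 894 → P i := stepQ 893 Q893 (allL N893 (tt N1081 (iv F5281)) (tt N718 F4050) (tt N1082 D1460) (tt N717 (iv D1102)) (tt N893 F4051) (tt N1080 (iv F5274)) (tt N893 F4052) (tt N988 (iv F4779)))
theorem Q895 : ∀ i, i < 895 → P i := stepQ 894 Q894 (allL N894 (tt N725 F4053) (tt N1083 D1461) (tt N720 (iv D1103)) (tt N1084 D1462) (tt N734 F4054) (tt N721 F4055) (tt N894 F4056) (tt N1001 (iv F4834)))
theorem Q896 : ∀ i, i < 896 → P i := stepQ 895 Q895 (allL N895 (tt N1085 D1463) (tt N721 (iv D1104)) (tt N895 F4057) (tt N1086 D1464) (tt N722 F4058) (tt N1083 (iv F5289)) (tt N895 F4059) (tt N1002 (iv F4837)))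
theorem Q897 : ∀ i, i < 897 → P i := stepQ 896 Q896 (allL N896 (tt N727 F4060) (tt N1086 (iv F5298)) (tt N1056 (iv F5204)) (tt N721 (iv D1105)) (tt N1087 D1465) (tt N1084 (iv F5292)) (tt N896 F4061) (tt N1003 (iv F4839)))
theorem Q898 : ∀ i, i < 898 → P i := stepQ 897 Q897 (allL N897 (tt N722 (iv D1106)) (tt N728 F4062) (tt N897 F4063) (tt N734 (iv F66860)) (tt N1085 (iv F5296)) (tt N736 F66709) (tt N897 F4065) (tt N1004 (iv F4843)))
theorem Q899 : ∀ i, i < 899 → P i := stepQ 898 Q898 (allL N898 (tt N730 F4069) (tt N725 (iv F66853)) (tt N724 F4070) (tt N1087 (iv F5301)) (tt N723 (iv D1108)) (tt N726 (iv F66848)) (tt N898 F4071) (tt N1005 (iv F4849)))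
theorem Q900 : ∀ i, i < 900 → P i := stepQ 899 Q899 (allL N899 (tt N1084 (iv F5291)) (tt N1087 F66991) (tt N1072 (iv F5255)) (tt N725 (iv D1113)) (tt N1086 (iv F67143)) (tt N727 F4085) (tt N899 F4086) (tt N1015 (iv F4898)))
theorem Q901 : ∀ i, i < 901 → P i := stepQ 900 Q900 (allL N900 (tt N726 (iv D1114)) (tt N1085 (iv F5294)) (tt N731 (iv F66865)) (tt N1088 D1476) (tt N728 F4088) (tt N730 (iv F66854)) (tt N900 F4089) (tt N1016 (iv F4901)))
theorem Q902 : ∀ i, i < 902 → P i := stepQ 901 Q901 (allL N901 (tt N1088 (iv F5335)) (tt N727 F4090) (tt N1089 D1477) (tt N726 (iv D1115)) (tt N1090 D1478) (tt N1087 F66986) (tt N901 F4091) (tt N1017 (iv F4903)))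
theorem Q903 : ∀ i, i < 903 → P i := stepQ 902 Q902 (allL N902 (tt N1087 (iv F5300)) (tt N1090 (iv F5338)) (tt N1075 (iv F5260)) (tt N730 F4092) (tt N727 (iv D1116)) (tt N1088 F66990) (tt N902 F4093) (tt N1018 (iv F4905)))
theorem Q904 : ∀ i, i < 904 → P i := stepQ 903 Q903 (allL N903 (tt N729 F4094) (tt N734 (iv F66859)) (tt N903 F4095) (tt N728 (iv D1117)) (tt N1083 (iv F66940)) (tt N735 F66802) (tt N903 F4097) (tt N1019 (iv F4909)))
theorem Q905 : ∀ i, i < 905 → P i := stepQ 904 Q904 (allL N904 (tt N1083 (iv F66939)) (tt N730 F4098) (tt N904 F4099) (tt N1090 (iv F5339)) (tt N729 (iv D1118)) (tt N1085 (iv F66856)) (tt N904 F4100) (tt N1020 (iv F4912)))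
theorem Q906 : ∀ i, i < 906 → P i := stepQ 905 Q905 (allL N905 (tt N1078 (iv F67152)) (tt N1082 (iv F5285)) (tt N733 (iv D1124)) (tt N1089 (iv F5337)) (tt N905 F4119) (tt N1059 (iv F67129)) (tt N1091 D1486) (tt N1021 (iv F4936)))
theorem Q907 : ∀ i, i < 907 → P i := stepQ 906 Q906 (allL N906 (tt N751 (iv F67412)) (tt N906 F4198) (tt N737 (iv D1152)) (tt N906 F4199) (tt N746 (iv F67414)) (tt N740 F4200) (tt N1092 D1523) (tt N906 F4201))
theorem Q908 : ∀ i, i < 908 → P i := stepQ 907 Q907 (allL N907 (tt N740 F4206) (tt N1093 D1524) (tt N739 (iv D1154)) (tt N907 F4207) (tt N907 F4208) (tt N751 (iv F67413)) (tt N1094 D1525) (tt N907 F4209))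
theorem Q909 : ∀ i, i < 909 → P i := stepQ 908 Q908 (allL N908 (tt N1094 (iv F5479)) (tt N908 F4210) (tt N1091 (iv F5361)) (tt N908 F4211) (tt N908 F4212) (tt N1092 (iv F5473)) (tt N740 (iv D1155)) (tt N1095 D1526))
theorem Q910 : ∀ i, i < 910 → P i := stepQ 909 Q909 (allL N909 (tt N909 F4271) (tt N909 F4272) (tt N1025 F69790) (tt N741 (iv D1171)) (tt N1022 F69791) (tt N909 F4273) (tt N752 F4274) (tt N1096 D1545))
theorem Q911 : ∀ i, i < 911 → P i := stepQ 910 Q910 (allL N910 (tt N910 F4275) (tt N910 F4276) (tt N742 F4277) (tt N1096 (iv F5558)) (tt N910 F4278) (tt N910 F4279) (tt N910 F68238) (tt N741 (iv D1172)))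
theorem Q912 : ∀ i, i < 912 → P i := stepQ 911 Q911 (allL N911 (tt N911 F4280) (tt N744 F4281) (tt N911 F67984) (tt N1045 (iv F5168)) (tt N911 F4282) (tt N911 F4283) (tt N742 (iv D1173)) (tt N743 F4284))
theorem Q913 : ∀ i, i < 913 → P i := stepQ 912 Q912 (allL N912 (tt N747 F4289) (tt N912 F67972) (tt N744 (iv D1175)) (tt N1097 D1551) (tt N912 F4290) (tt N912 F4291) (tt N912 F4292) (tt N745 F4293))
theorem Q914 : ∀ i, i < 914 → P i := stepQ 913 Q913 (allL N913 (tt N749 F4297) (tt N913 F67679) (tt N1053 (iv F5195)) (tt N745 (iv D1177)) (tt N1092 F67536) (tt N913 F4298) (tt N746 F4299) (tt N1097 (iv F5583)))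
theorem Q915 : ∀ i, i < 915 → P i := stepQ 914 Q914 (allL N914 (tt N914 F67973) (tt N747 (iv D1184)) (tt N914 F4324) (tt N1098 D1563) (tt N914 F4325) (tt N914 F4326) (tt N914 F4327) (tt N748 F4328))
theorem Q916 : ∀ i, i < 916 → P i := stepQ 915 Q915 (allL N915 (tt N1097 (iv F5580)) (tt N1098 (iv F5626)) (tt N1067 (iv F5241)) (tt N747 (iv D1185)) (tt N1099 D1564) (tt N915 F4329) (tt N915 F4330) (tt N749 F4331))
theorem Q917 : ∀ i, i < 917 → P i := stepQ 916 Q916 (allL N916 (tt N916 F67704) (tt N749 F4336) (tt N1100 D1566) (tt N748 (iv D1187)) (tt N1101 D1567) (tt N916 F4337) (tt N750 F4338) (tt N1098 (iv F5629)))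
theorem Q918 : ∀ i, i < 918 → P i := stepQ 917 Q917 (allL N917 (tt N1092 F67565) (tt N1101 (iv F5639)) (tt N1070 (iv F5250)) (tt N917 F4339) (tt N749 (iv D1188)) (tt N1094 F67566) (tt N751 F4340) (tt N1099 (iv F5632)))
theorem Q919 : ∀ i, i < 919 → P i := stepQ 918 Q918 (allL N918 (tt N918 F67700) (tt N751 F4345) (tt N918 F4346) (tt N918 F4347) (tt N750 (iv D1190)) (tt N1093 F67564) (tt N1101 (iv F5641)) (tt N918 F4348))
theorem Q920 : ∀ i, i < 920 → P i := stepQ 919 Q919 (allL N919 (tt N919 F4381) (tt N919 F4382) (tt N919 F4383) (tt N919 F4384) (tt N752 (iv D1199)) (tt N1023 (iv F69793)) (tt N1022 F69792) (tt N919 F68353))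
theorem Q921 : ∀ i, i < 921 → P i := stepQ 920 Q920 (allL N920 (tt N774 F4521) (tt N754 F4522) (tt N920 F4523) (tt N791 F69775) (tt N753 (iv D1234)) (tt N789 F69776) (tt N788 F69777) (tt N1102 D1625))
theorem Q922 : ∀ i, i < 922 → P i := stepQ 921 Q921 (allL N921 (tt N775 F4524) (tt N755 F4525) (tt N820 (iv F69781)) (tt N921 F4526) (tt N788 F69774) (tt N921 F4527) (tt N753 (iv D1235)) (tt N1103 D1627))
theorem Q923 : ∀ i, i < 923 → P i := stepQ 922 Q922 (allL N922 (tt N776 F4528) (tt N756 F4529) (tt N922 F4530) (tt N922 F4531) (tt N1102 (iv F5867)) (tt N922 F4532) (tt N1104 D1628) (tt N753 (iv D1236)))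
theorem Q924 : ∀ i, i < 924 → P i := stepQ 923 Q923 (allL N923 (tt N761 F4533) (tt N791 F69771) (tt N923 F4534) (tt N754 (iv D1237)) (tt N923 F4535) (tt N763 F69772) (tt N762 F69773) (tt N1105 D1631))
theorem Q925 : ∀ i, i < 925 → P i := stepQ 924 Q924 (allL N924 (tt N762 F4536) (tt N789 F69765) (tt N757 F4537) (tt N763 F69766) (tt N924 F4538) (tt N754 (iv D1238)) (tt N761 F69767) (tt N1106 D1633))
theorem Q926 : ∀ i, i < 926 → P i := stepQ 925 Q925 (allL N925 (tt N763 F4539) (tt N788 F69768) (tt N925 F4540) (tt N762 F69769) (tt N755 F4541) (tt N761 F69770) (tt N754 (iv D1239)) (tt N1107 D1634))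
theorem Q927 : ∀ i, i < 927 → P i := stepQ 926 Q926 (allL N926 (tt N764 F4542) (tt N1102 (iv F5865)) (tt N758 F4543) (tt N1105 (iv F5888)) (tt N756 F4544) (tt N1106 (iv F5897)) (tt N1108 D1635) (tt N754 (iv D1240)))
theorem Q928 : ∀ i, i < 928 → P i := stepQ 927 Q927 (allL N927 (tt N765 F4545) (tt N1103 (iv F5873)) (tt N927 F4546) (tt N927 F4547) (tt N1107 (iv F5900)) (tt N927 F4548) (tt N1109 D1636) (tt N755 (iv D1241)))
theorem Q929 : ∀ i, i < 929 → P i := stepQ 928 Q928 (allL N928 (tt N766 F4549) (tt N1104 (iv F5877)) (tt N1110 D1637) (tt N928 F4550) (tt N1108 (iv F5902)) (tt N928 F4551) (tt N756 (iv D1242)) (tt N1109 (iv F5906)))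
theorem Q930 : ∀ i, i < 930 → P i := stepQ 929 Q929 (allL N929 (tt N767 F4552) (tt N929 F4553) (tt N1106 (iv F5895)) (tt N929 F4554) (tt N929 F4555) (tt N758 F4556) (tt N1111 D1638) (tt N757 (iv D1243)))
theorem Q931 : ∀ i, i < 931 → P i := stepQ 930 Q930 (allL N930 (tt N768 F4557) (tt N930 F4558) (tt N1112 D1639) (tt N930 F4559) (tt N759 F4560) (tt N1111 (iv F5914)) (tt N758 (iv D1244)) (tt N930 F4561))
theorem Q932 : ∀ i, i < 932 → P i := stepQ 931 Q931 (allL N931 (tt N769 F4562) (tt N1113 D1640) (tt N759 (iv D1245)) (tt N1114 D1641) (tt N1112 (iv F5917)) (tt N931 F4563) (tt N1110 (iv F5909)) (tt N931 F4564))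
theorem Q933 : ∀ i, i < 933 → P i := stepQ 932 Q932 (allL N932 (tt N932 F4565) (tt N760 (iv D1246)) (tt N932 F4566) (tt N1115 D1642) (tt N932 F4567) (tt N932 F4568) (tt N932 F4569) (tt N932 F4570))
theorem Q934 : ∀ i, i < 934 → P i := stepQ 933 Q933 (allL N933 (tt N770 F4571) (tt N1115 (iv F5927)) (tt N1114 (iv F5923)) (tt N760 (iv D1247)) (tt N1116 D1643) (tt N933 F4572) (tt N933 F4573) (tt N933 F4574))
theorem Q935 : ∀ i, i < 935 → P i := stepQ 934 Q934 (allL N934 (tt N1105 (iv F5886)) (tt N790 F4581) (tt N934 F4582) (tt N764 F4583) (tt N934 F4584) (tt N1107 (iv F69734)) (tt N1117 D1649) (tt N761 (iv D1250)))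
theorem Q936 : ∀ i, i < 936 → P i := stepQ 935 Q935 (allL N935 (tt N1106 (iv F5894)) (tt N792 F4589) (tt N767 F4590) (tt N1107 (iv F69733)) (tt N935 F4591) (tt N764 F4592) (tt N1118 D1651) (tt N762 (iv D1252)))
theorem Q937 : ∀ i, i < 937 → P i := stepQ 936 Q936 (allL N936 (tt N1107 (iv F5898)) (tt N793 F4593) (tt N936 F4594) (tt N1106 (iv F69731)) (tt N765 F4595) (tt N1105 (iv F69739)) (tt N1119 D1652) (tt N763 (iv D1253)))
theorem Q938 : ∀ i, i < 938 → P i := stepQ 937 Q937 (allL N937 (tt N1108 (iv F5901)) (tt N794 F4596) (tt N1120 D1653) (tt N1117 (iv F5954)) (tt N766 F4597) (tt N1118 (iv F5962)) (tt N764 (iv D1254)) (tt N1119 (iv F5965)))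
theorem Q939 : ∀ i, i < 939 → P i := stepQ 938 Q938 (allL N938 (tt N1109 (iv F5903)) (tt N795 F4598) (tt N1121 D1654) (tt N938 F4599) (tt N1119 (iv F5964)) (tt N938 F4600) (tt N765 (iv D1255)) (tt N766 F4601))
theorem Q940 : ∀ i, i < 940 → P i := stepQ 939 Q939 (allL N939 (tt N1110 (iv F5907)) (tt N1122 D1655) (tt N766 (iv D1256)) (tt N1123 D1656) (tt N1120 (iv F5966)) (tt N939 F4602) (tt N769 F4603) (tt N1121 (iv F5970)))
theorem Q941 : ∀ i, i < 941 → P i := stepQ 940 Q940 (allL N940 (tt N1111 (iv F5910)) (tt N771 F4604) (tt N1124 D1657) (tt N940 F4605) (tt N940 F4606) (tt N768 F4607) (tt N767 (iv D1257)) (tt N940 F4608))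
theorem Q942 : ∀ i, i < 942 → P i := stepQ 941 Q941 (allL N941 (tt N1112 (iv F5916)) (tt N1125 D1658) (tt N768 (iv D1258)) (tt N1126 D1659) (tt N769 F4609) (tt N1124 (iv F5978)) (tt N1120 (iv F5967)) (tt N941 F4610))
theorem Q943 : ∀ i, i < 943 → P i := stepQ 942 Q942 (allL N942 (tt N1127 D1660) (tt N769 (iv D1259)) (tt N773 F4611) (tt N1128 D1661) (tt N1125 (iv F5981)) (tt N942 F4612) (tt N1122 (iv F5973)) (tt N942 F4613))
theorem Q944 : ∀ i, i < 944 → P i := stepQ 943 Q943 (allL N943 (tt N1114 (iv F5922)) (tt N1128 (iv F5988)) (tt N770 F4614) (tt N769 (iv D1260)) (tt N1129 D1662) (tt N943 F4615) (tt N1123 (iv F5976)) (tt N943 F4616))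
theorem Q945 : ∀ i, i < 945 → P i := stepQ 944 Q944 (allL N944 (tt N1116 (iv F5931)) (tt N944 F4617) (tt N1129 (iv F5992)) (tt N944 F4618) (tt N770 (iv D1261)) (tt N1130 D1663) (tt N944 F4619) (tt N944 F4620))
theorem Q946 : ∀ i, i < 946 → P i := stepQ 945 Q945 (allL N945 (tt N945 F4621) (tt N1131 D1664) (tt N771 (iv D1262)) (tt N1132 D1665) (tt N945 F4622) (tt N772 F4623) (tt N802 F4624) (tt N945 F4625))
theorem Q947 : ∀ i, i < 947 → P i := stepQ 946 Q946 (allL N946 (tt N1133 D1666) (tt N772 (iv D1263)) (tt N1125 (iv F5980)) (tt N1134 D1667) (tt N773 F4626) (tt N1131 (iv F6000)) (tt N803 F4627) (tt N946 F4628))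
theorem Q948 : ∀ i, i < 948 → P i := stepQ 947 Q947 (allL N947 (tt N947 F4629) (tt N1134 (iv F6012)) (tt N947 F4630) (tt N772 (iv D1264)) (tt N947 F4631) (tt N1132 (iv F6005)) (tt N804 F4632) (tt N947 F4633))
theorem Q949 : ∀ i, i < 949 → P i := stepQ 948 Q948 (allL N948 (tt N773 (iv D1265)) (tt N948 F4634) (tt N1127 (iv F5985)) (tt N948 F4635) (tt N1133 (iv F6009)) (tt N948 F4636) (tt N805 F4637) (tt N948 F4638))
theorem Q950 : ∀ i, i < 950 → P i := stepQ 949 Q949 (allL N949 (tt N791 (iv F69737)) (tt N777 F4639) (tt N864 (iv F69748)) (tt N774 (iv D1266)) (tt N949 F4640) (tt N779 (iv F69745)) (tt N778 F69672) (tt N1135 D1671))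
theorem Q951 : ∀ i, i < 951 → P i := stepQ 950 Q950 (allL N950 (tt N789 (iv F69747)) (tt N778 F4641) (tt N950 F4642) (tt N779 (iv F69744)) (tt N950 F4643) (tt N774 (iv D1267)) (tt N777 (iv F69743)) (tt N1136 D1673))
theorem Q952 : ∀ i, i < 952 → P i := stepQ 951 Q951 (allL N951 (tt N788 (iv F69736)) (tt N779 F4644) (tt N810 (iv F69721)) (tt N778 F69671) (tt N775 F4645) (tt N777 (iv F69742)) (tt N774 (iv D1268)) (tt N1137 D1675))
theorem Q953 : ∀ i, i < 953 → P i := stepQ 952 Q952 (allL N952 (tt N1102 (iv F5864)) (tt N780 F4646) (tt N952 F4647) (tt N1135 (iv F6025)) (tt N776 F4648) (tt N1136 (iv F6033)) (tt N1138 D1676) (tt N774 (iv D1269)))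
theorem Q954 : ∀ i, i < 954 → P i := stepQ 953 Q953 (allL N953 (tt N820 (iv F69780)) (tt N861 F4649) (tt N775 (iv D1270)) (tt N842 (iv F69783)) (tt N810 F69762) (tt N953 F4650) (tt N953 F4651) (tt N1139 D1678))
theorem Q955 : ∀ i, i < 955 → P i := stepQ 954 Q954 (allL N954 (tt N1103 (iv F5872)) (tt N781 F4652) (tt N1139 (iv F6046)) (tt N954 F4653) (tt N1137 (iv F6038)) (tt N954 F4654) (tt N1140 D1679) (tt N775 (iv D1271)))
theorem Q956 : ∀ i, i < 956 → P i := stepQ 955 Q955 (allL N955 (tt N1104 (iv F5876)) (tt N782 F4655) (tt N1141 D1680) (tt N955 F4656) (tt N1138 (iv F6040)) (tt N955 F4657) (tt N776 (iv D1272)) (tt N1140 (iv F6051)))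
theorem Q957 : ∀ i, i < 957 → P i := stepQ 956 Q956 (allL N956 (tt N790 F4665) (tt N1135 (iv F6024)) (tt N811 F4666) (tt N780 F4667) (tt N956 F4668) (tt N1137 F69667) (tt N1142 D1685) (tt N777 (iv D1275)))
theorem Q958 : ∀ i, i < 958 → P i := stepQ 957 Q957 (allL N957 (tt N792 F4673) (tt N1136 (iv F6030)) (tt N783 F4674) (tt N1137 (iv F69547)) (tt N957 F4675) (tt N780 F4676) (tt N1143 D1687) (tt N778 (iv D1277)))
theorem Q959 : ∀ i, i < 959 → P i := stepQ 958 Q958 (allL N958 (tt N793 F4677) (tt N1137 (iv F6037)) (tt N866 F4678) (tt N1136 F69668) (tt N781 F4679) (tt N1135 F69669) (tt N1144 D1688) (tt N779 (iv D1278)))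
theorem Q960 : ∀ i, i < 960 → P i := stepQ 959 Q959 (allL N959 (tt N794 F4680) (tt N1138 (iv F6039)) (tt N1145 D1689) (tt N1142 (iv F6071)) (tt N782 F4681) (tt N1143 (iv F6079)) (tt N780 (iv D1279)) (tt N1144 (iv F6082)))
theorem Q961 : ∀ i, i < 961 → P i := stepQ 960 Q960 (allL N960 (tt N795 F4682) (tt N1140 (iv F6048)) (tt N1146 D1690) (tt N960 F4683) (tt N1144 (iv F6081)) (tt N960 F4684) (tt N781 (iv D1280)) (tt N782 F4685))
theorem Q962 : ∀ i, i < 962 → P i := stepQ 961 Q961 (allL N961 (tt N796 F4686) (tt N1147 D1691) (tt N782 (iv D1281)) (tt N1148 D1692) (tt N1145 (iv F6084)) (tt N961 F4687) (tt N785 F4688) (tt N1146 (iv F6089)))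
theorem Q963 : ∀ i, i < 963 → P i := stepQ 962 Q962 (allL N962 (tt N797 F4689) (tt N962 F4690) (tt N1149 D1693) (tt N815 F4691) (tt N962 F4692) (tt N784 F4693) (tt N783 (iv D1282)) (tt N870 F4694))
theorem Q964 : ∀ i, i < 964 → P i := stepQ 963 Q963 (allL N963 (tt N798 F4695) (tt N1150 D1694) (tt N784 (iv D1283)) (tt N1151 D1695) (tt N785 F4696) (tt N1149 (iv F6098)) (tt N1145 (iv F6085)) (tt N871 F4697))
theorem Q965 : ∀ i, i < 965 → P i := stepQ 964 Q964 (allL N964 (tt N1152 D1696) (tt N785 (iv D1284)) (tt N964 F4698) (tt N1153 D1697) (tt N1150 (iv F6101)) (tt N964 F4699) (tt N1147 (iv F6091)) (tt N872 F4700))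
theorem Q966 : ∀ i, i < 966 → P i := stepQ 965 Q965 (allL N965 (tt N800 F4701) (tt N1153 (iv F6110)) (tt N787 F4702) (tt N785 (iv D1285)) (tt N1154 D1698) (tt N965 F4703) (tt N1148 (iv F6095)) (tt N873 F4704))
theorem Q967 : ∀ i, i < 967 → P i := stepQ 966 Q966 (allL N966 (tt N966 F4705) (tt N787 F4706) (tt N1155 D1699) (tt N786 (iv D1286)) (tt N834 F67079) (tt N966 F4707) (tt N966 F4708) (tt N874 F4709))
theorem Q968 : ∀ i, i < 968 → P i := stepQ 967 Q967 (allL N967 (tt N801 F4710) (tt N834 (iv F66929)) (tt N1154 (iv F6114)) (tt N819 F4711) (tt N787 (iv D1287)) (tt N835 F66842) (tt N967 F4712) (tt N875 F4713))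
theorem Q969 : ∀ i, i < 969 → P i := stepQ 968 Q968 (allL N968 (tt N1137 F69649) (tt N1107 (iv F69732)) (tt N821 F4720) (tt N792 F4721) (tt N1103 (iv F69735)) (tt N790 F4722) (tt N1156 D1705) (tt N788 (iv D1290)))
theorem Q970 : ∀ i, i < 970 → P i := stepQ 969 Q969 (allL N969 (tt N1136 F69670) (tt N1106 (iv F69730)) (tt N969 F4723) (tt N793 F4724) (tt N969 F4725) (tt N1102 (iv F69741)) (tt N1157 D1706) (tt N789 (iv D1291)))
theorem Q971 : ∀ i, i < 971 → P i := stepQ 970 Q970 (allL N970 (tt N1142 (iv F6070)) (tt N1117 (iv F5953)) (tt N1158 D1707) (tt N794 F4726) (tt N970 F4727) (tt N1156 (iv F6142)) (tt N790 (iv D1292)) (tt N1157 (iv F6145)))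
theorem Q972 : ∀ i, i < 972 → P i := stepQ 971 Q971 (allL N971 (tt N1135 F69663) (tt N1105 (iv F69738)) (tt N876 F4728) (tt N1102 (iv F69740)) (tt N971 F4729) (tt N793 F4730) (tt N1159 D1708) (tt N791 (iv D1293)))
theorem Q973 : ∀ i, i < 973 → P i := stepQ 972 Q972 (allL N972 (tt N1143 (iv F6077)) (tt N1118 (iv F5960)) (tt N1160 D1709) (tt N1156 (iv F6141)) (tt N972 F4731) (tt N794 F4732) (tt N792 (iv D1294)) (tt N1159 (iv F6150)))
theorem Q974 : ∀ i, i < 974 → P i := stepQ 973 Q973 (allL N973 (tt N1144 (iv F6080)) (tt N1119 (iv F5963)) (tt N1161 D1710) (tt N1157 (iv F6143)) (tt N795 F4733) (tt N1159 (iv F6149)) (tt N793 (iv D1295)) (tt N794 F4734))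
theorem Q975 : ∀ i, i < 975 → P i := stepQ 974 Q974 (allL N974 (tt N1145 (iv F6083)) (tt N1162 D1711) (tt N794 (iv D1296)) (tt N1163 D1712) (tt N796 F4735) (tt N1160 (iv F6152)) (tt N798 F4736) (tt N1161 (iv F6156)))
theorem Q976 : ∀ i, i < 976 → P i := stepQ 975 Q975 (allL N975 (tt N1146 (iv F6086)) (tt N1164 D1713) (tt N795 (iv D1297)) (tt N1165 D1714) (tt N1161 (iv F6154)) (tt N975 F4737) (tt N880 F4738) (tt N796 F4739))
theorem Q977 : ∀ i, i < 977 → P i := stepQ 976 Q976 (allL N976 (tt N1166 D1715) (tt N796 (iv D1298)) (tt N1122 (iv F5971)) (tt N1167 D1716) (tt N1162 (iv F6157)) (tt N976 F4740) (tt N799 F4741) (tt N1164 (iv F6162)))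
theorem Q978 : ∀ i, i < 978 → P i := stepQ 977 Q977 (allL N977 (tt N1148 (iv F6092)) (tt N1167 (iv F6169)) (tt N977 F4742) (tt N796 (iv D1299)) (tt N1168 D1717) (tt N977 F4743) (tt N800 F4744) (tt N1165 (iv F6166)))
theorem Q979 : ∀ i, i < 979 → P i := stepQ 978 Q978 (allL N978 (tt N1149 (iv F6096)) (tt N1169 D1718) (tt N797 (iv D1300)) (tt N1170 D1719) (tt N978 F4745) (tt N798 F4746) (tt N1160 (iv F6153)) (tt N883 F4747))
theorem Q980 : ∀ i, i < 980 → P i := stepQ 979 Q979 (allL N979 (tt N1171 D1720) (tt N798 (iv D1301)) (tt N803 F4748) (tt N1172 D1721) (tt N799 F4749) (tt N1169 (iv F6176)) (tt N1162 (iv F6158)) (tt N884 F4750))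
theorem Q981 : ∀ i, i < 981 → P i := stepQ 980 Q980 (allL N980 (tt N1151 (iv F6103)) (tt N1172 (iv F6184)) (tt N829 F4751) (tt N798 (iv D1302)) (tt N1173 D1722) (tt N1170 (iv F6179)) (tt N1163 (iv F6159)) (tt N885 F4752))
theorem Q982 : ∀ i, i < 982 → P i := stepQ 981 Q981 (allL N981 (tt N799 (iv D1303)) (tt N1152 (iv F6106)) (tt N805 F4753) (tt N1174 D1723) (tt N1171 (iv F6182)) (tt N981 F4754) (tt N1166 (iv F6168)) (tt N886 F4755))
theorem Q983 : ∀ i, i < 983 → P i := stepQ 982 Q982 (allL N982 (tt N1174 (iv F6189)) (tt N800 F4756) (tt N982 F4757) (tt N799 (iv D1304)) (tt N1175 D1724) (tt N982 F4758) (tt N1167 (iv F6171)) (tt N887 F4759))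
theorem Q984 : ∀ i, i < 984 → P i := stepQ 983 Q983 (allL N983 (tt N1154 (iv F6113)) (tt N1175 (iv F6193)) (tt N801 F4760) (tt N1173 (iv F6187)) (tt N800 (iv D1305)) (tt N1176 D1725) (tt N1168 (iv F6173)) (tt N888 F4761))
theorem Q985 : ∀ i, i < 985 → P i := stepQ 984 Q984 (allL N984 (tt N835 F66870) (tt N984 F4762) (tt N1176 (iv F6196)) (tt N833 F4763) (tt N984 F4764) (tt N801 (iv D1306)) (tt N984 F4765) (tt N889 F4766))
theorem Q986 : ∀ i, i < 986 → P i := stepQ 985 Q985 (allL N985 (tt N1177 D1726) (tt N802 (iv D1307)) (tt N1169 (iv F6174)) (tt N1178 D1727) (tt N985 F4767) (tt N803 F4768) (tt N1131 (iv F6001)) (tt N890 F4769))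
theorem Q987 : ∀ i, i < 987 → P i := stepQ 986 Q986 (allL N986 (tt N986 F4770) (tt N1178 (iv F6203)) (tt N834 F4771) (tt N802 (iv D1308)) (tt N1155 (iv F67217)) (tt N804 F4772) (tt N1132 (iv F6006)) (tt N891 F4773))
theorem Q988 : ∀ i, i < 988 → P i := stepQ 987 Q987 (allL N987 (tt N803 (iv D1309)) (tt N987 F4774) (tt N1171 (iv F6181)) (tt N1179 D1729) (tt N805 F4775) (tt N1177 (iv F6201)) (tt N1133 (iv F6010)) (tt N892 F4776))
theorem Q989 : ∀ i, i < 989 → P i := stepQ 988 Q988 (allL N988 (tt N1179 (iv F6211)) (tt N804 F4777) (tt N1180 D1730) (tt N803 (iv D1310)) (tt N988 F4778) (tt N1178 (iv F6204)) (tt N1134 (iv F6014)) (tt N893 F4779))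
theorem Q990 : ∀ i, i < 990 → P i := stepQ 989 Q989 (allL N989 (tt N989 F4780) (tt N864 F69778) (tt N806 (iv D1311)) (tt N989 F4781) (tt N989 F4782) (tt N859 (iv F69785)) (tt N858 F69779) (tt N1181 D1733))
theorem Q991 : ∀ i, i < 991 → P i := stepQ 990 Q990 (allL N990 (tt N990 F4783) (tt N810 F4784) (tt N859 (iv F69784)) (tt N807 F4785) (tt N861 (iv F69786)) (tt N806 (iv D1312)) (tt N990 F4786) (tt N1182 D1735))
theorem Q992 : ∀ i, i < 992 → P i := stepQ 991 Q991 (allL N991 (tt N991 F4787) (tt N811 F4788) (tt N1181 (iv F6226)) (tt N808 F4789) (tt N991 F4790) (tt N1182 (iv F6237)) (tt N1183 D1736) (tt N806 (iv D1313)))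
theorem Q993 : ∀ i, i < 993 → P i := stepQ 992 Q992 (allL N992 (tt N992 F4791) (tt N812 F4792) (tt N992 F4793) (tt N1182 (iv F6236)) (tt N839 F4794) (tt N808 F4795) (tt N1184 D1737) (tt N807 (iv D1314)))
theorem Q994 : ∀ i, i < 994 → P i := stepQ 993 Q993 (allL N993 (tt N993 F4796) (tt N813 F4797) (tt N1185 D1738) (tt N1183 (iv F6240)) (tt N809 F4798) (tt N1184 (iv F6246)) (tt N808 (iv D1315)) (tt N993 F4799))
theorem Q995 : ∀ i, i < 995 → P i := stepQ 994 Q994 (allL N994 (tt N994 F4800) (tt N1186 D1739) (tt N809 (iv D1316)) (tt N1187 D1740) (tt N1185 (iv F6249)) (tt N841 F4801) (tt N994 F4802) (tt N994 F4803))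
theorem Q996 : ∀ i, i < 996 → P i := stepQ 995 Q995 (allL N995 (tt N821 F4808) (tt N1182 (iv F6235)) (tt N1137 F69640) (tt N812 F4809) (tt N1139 (iv F69720)) (tt N811 F4810) (tt N1188 D1742) (tt N810 (iv D1318)))
theorem Q997 : ∀ i, i < 997 → P i := stepQ 996 Q996 (allL N996 (tt N822 F4811) (tt N1183 (iv F6239)) (tt N1189 D1743) (tt N813 F4812) (tt N996 F4813) (tt N1188 (iv F6267)) (tt N811 (iv D1319)) (tt N996 F4814))
theorem Q998 : ∀ i, i < 998 → P i := stepQ 997 Q997 (allL N997 (tt N823 F4815) (tt N1184 (iv F6244)) (tt N1190 D1744) (tt N1188 (iv F6266)) (tt N845 F4816) (tt N813 F4817) (tt N812 (iv D1320)) (tt N997 F4818))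
theorem Q999 : ∀ i, i < 999 → P i := stepQ 998 Q998 (allL N998 (tt N824 F4819) (tt N1191 D1745) (tt N813 (iv D1321)) (tt N1192 D1746) (tt N814 F4820) (tt N1190 (iv F6274)) (tt N816 F4821) (tt N998 F4822))
theorem Q1000 : ∀ i, i < 1000 → P i := stepQ 999 Q999 (allL N999 (tt N1193 D1747) (tt N814 (iv D1322)) (tt N1186 (iv F6252)) (tt N855 F66608) (tt N1191 (iv F6277)) (tt N847 F4823) (tt N817 F4824) (tt N999 F4825))
theorem Q1001 : ∀ i, i < 1001 → P i := stepQ 1000 Q1000 (allL N1000 (tt N826 F4826) (tt N855 F66598) (tt N1000 F4827) (tt N814 (iv D1323)) (tt N1194 D1749) (tt N848 F4828) (tt N818 F4829) (tt N1000 F4830))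
theorem Q1002 : ∀ i, i < 1002 → P i := stepQ 1001 Q1001 (allL N1001 (tt N827 F4831) (tt N1195 D1750) (tt N815 (iv D1324)) (tt N1196 D1751) (tt N849 F4832) (tt N816 F4833) (tt N1190 (iv F6275)) (tt N894 F4834))
theorem Q1003 : ∀ i, i < 1003 → P i := stepQ 1002 Q1002 (allL N1002 (tt N1197 D1752) (tt N816 (iv D1325)) (tt N1002 F4835) (tt N1198 D1753) (tt N817 F4836) (tt N1195 (iv F6297)) (tt N1191 (iv F6278)) (tt N895 F4837))
theorem Q1004 : ∀ i, i < 1004 → P i := stepQ 1003 Q1003 (allL N1003 (tt N829 F4838) (tt N1198 (iv F6306)) (tt N1151 (iv F6104)) (tt N816 (iv D1326)) (tt N1199 D1754) (tt N1196 (iv F6300)) (tt N1192 (iv F6281)) (tt N896 F4839))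
theorem Q1005 : ∀ i, i < 1005 → P i := stepQ 1004 Q1004 (allL N1004 (tt N817 (iv D1327)) (tt N830 F4840) (tt N1004 F4841) (tt N849 (iv F66712)) (tt N1197 (iv F6304)) (tt N851 F66599) (tt N1193 (iv F6285)) (tt N897 F4843))
theorem Q1006 : ∀ i, i < 1006 → P i := stepQ 1005 Q1005 (allL N1005 (tt N832 F4847) (tt N827 (iv F66707)) (tt N819 F4848) (tt N1199 (iv F6309)) (tt N818 (iv D1329)) (tt N828 (iv F66703)) (tt N1194 (iv F6293)) (tt N898 F4849))
theorem Q1007 : ∀ i, i < 1007 → P i := stepQ 1006 Q1006 (allL N1006 (tt N1139 F69756) (tt N1006 F4862) (tt N1103 F69757) (tt N852 F4863) (tt N821 F4864) (tt N1006 F4865) (tt N1200 D1762) (tt N820 (iv D1333)))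
theorem Q1008 : ∀ i, i < 1008 → P i := stepQ 1007 Q1007 (allL N1007 (tt N1188 (iv F6265)) (tt N1007 F4866) (tt N1201 D1763) (tt N823 F4867) (tt N1200 (iv F6339)) (tt N822 F4868) (tt N821 (iv D1334)) (tt N1007 F4869))
theorem Q1009 : ∀ i, i < 1009 → P i := stepQ 1008 Q1008 (allL N1008 (tt N1189 (iv F6269)) (tt N1202 D1764) (tt N822 (iv D1335)) (tt N1203 D1765) (tt N1008 F4870) (tt N1201 (iv F6342)) (tt N1158 (iv F6147)) (tt N1008 F4871))
theorem Q1010 : ∀ i, i < 1010 → P i := stepQ 1009 Q1009 (allL N1009 (tt N1190 (iv F6272)) (tt N1194 (iv F66724)) (tt N823 (iv D1336)) (tt N1204 D1767) (tt N855 F4872) (tt N824 F4873) (tt N827 F4874) (tt N1009 F4875))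
theorem Q1011 : ∀ i, i < 1011 → P i := stepQ 1010 Q1010 (allL N1010 (tt N1205 D1768) (tt N824 (iv D1337)) (tt N1010 F4876) (tt N1206 D1769) (tt N825 F4877) (tt N1194 (iv F66725)) (tt N828 F4878) (tt N1010 F4879))
theorem Q1012 : ∀ i, i < 1012 → P i := stepQ 1011 Q1011 (allL N1011 (tt N1192 (iv F6280)) (tt N1206 (iv F6361)) (tt N1203 (iv F6347)) (tt N824 (iv D1338)) (tt N1207 D1770) (tt N1204 (iv F6354)) (tt N829 F4880) (tt N1011 F4881))
theorem Q1013 : ∀ i, i < 1013 → P i := stepQ 1012 Q1012 (allL N1012 (tt N825 (iv D1339)) (tt N1193 (iv F6283)) (tt N1012 F4882) (tt N1208 D1771) (tt N1205 (iv F6358)) (tt N856 F4883) (tt N830 F4884) (tt N1012 F4885))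
theorem Q1014 : ∀ i, i < 1014 → P i := stepQ 1013 Q1013 (allL N1013 (tt N1208 (iv F6367)) (tt N826 F4886) (tt N1209 D1772) (tt N825 (iv D1340)) (tt N1210 D1773) (tt N857 F4887) (tt N831 F4888) (tt N1013 F4889))
theorem Q1015 : ∀ i, i < 1015 → P i := stepQ 1014 Q1014 (allL N1014 (tt N1194 (iv F6291)) (tt N1210 (iv F6376)) (tt N1014 F4890) (tt N1207 (iv F6364)) (tt N826 (iv D1341)) (tt N1205 F66861) (tt N832 F4891) (tt N1014 F4892))
theorem Q1016 : ∀ i, i < 1016 → P i := stepQ 1015 Q1015 (allL N1015 (tt N1196 (iv F6299)) (tt N1199 F66852) (tt N1170 (iv F6178)) (tt N827 (iv D1343)) (tt N1198 (iv F66993)) (tt N829 F4897) (tt N1204 (iv F6355)) (tt N899 F4898))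
theorem Q1017 : ∀ i, i < 1017 → P i := stepQ 1016 Q1016 (allL N1016 (tt N828 (iv D1344)) (tt N1197 (iv F6302)) (tt N833 (iv F66728)) (tt N1211 D1778) (tt N830 F4900) (tt N832 (iv F66710)) (tt N1205 (iv F6359)) (tt N900 F4901))
theorem Q1018 : ∀ i, i < 1018 → P i := stepQ 1017 Q1017 (allL N1017 (tt N1211 (iv F6392)) (tt N829 F4902) (tt N1212 D1779) (tt N828 (iv D1345)) (tt N1213 D1780) (tt N1199 F66847) (tt N1206 (iv F6362)) (tt N901 F4903))
theorem Q1019 : ∀ i, i < 1019 → P i := stepQ 1018 Q1018 (allL N1018 (tt N1199 (iv F6308)) (tt N1213 (iv F6396)) (tt N1173 (iv F6186)) (tt N832 F4904) (tt N829 (iv D1346)) (tt N1211 F66850) (tt N1207 (iv F6365)) (tt N902 F4905))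
theorem Q1020 : ∀ i, i < 1020 → P i := stepQ 1019 Q1019 (allL N1019 (tt N831 F4906) (tt N849 (iv F66711)) (tt N1019 F4907) (tt N830 (iv D1347)) (tt N1195 (iv F66804)) (tt N850 F66655) (tt N1208 (iv F6369)) (tt N903 F4909))
theorem Q1021 : ∀ i, i < 1021 → P i := stepQ 1020 Q1020 (allL N1020 (tt N1195 (iv F66803)) (tt N832 F4910) (tt N1020 F4911) (tt N1213 (iv F6397)) (tt N831 (iv D1348)) (tt N1197 (iv F66706)) (tt N1210 (iv F6377)) (tt N904 F4912))
theorem Q1022 : ∀ i, i < 1022 → P i := stepQ 1021 Q1021 (allL N1021 (tt N1176 (iv F67007)) (tt N1180 (iv F6215)) (tt N835 (iv D1354)) (tt N1212 (iv F6394)) (tt N1021 F4935) (tt N1154 (iv F66981)) (tt N1214 D1788) (tt N905 F4936))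
theorem Q1023 : ∀ i, i < 1023 → P i := stepQ 1022 Q1022 (allL N1022 (tt N1022 F4937) (tt N1022 F4938) (tt N837 F4939) (tt N1022 F4940) (tt N909 (iv F69791)) (tt N836 (iv D1355)) (tt N919 (iv F69792)) (tt N1215 D1791))
theorem Q1024 : ∀ i, i < 1024 → P i := stepQ 1023 Q1023 (allL N1023 (tt N1023 F4941) (tt N1023 F4942) (tt N1023 F4943) (tt N1023 F4944) (tt N1023 F4945) (tt N919 F69793) (tt N836 (iv D1356)) (tt N1023 F66971))
theorem Q1025 : ∀ i, i < 1025 → P i := stepQ 1024 Q1024 (allL N1024 (tt N1024 F4946) (tt N1024 F4947) (tt N838 F4948) (tt N1024 F4949) (tt N1024 F4950) (tt N1215 (iv F6438)) (tt N1024 F66694) (tt N836 (iv D1357)))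
theorem Q1026 : ∀ i, i < 1026 → P i := stepQ 1025 Q1025 (allL N1025 (tt N1025 F4951) (tt N842 F4952) (tt N909 (iv F69790)) (tt N861 F69789) (tt N837 (iv D1358)) (tt N1025 F4953) (tt N1025 F4954) (tt N1216 D1794))
theorem Q1027 : ∀ i, i < 1027 → P i := stepQ 1026 Q1026 (allL N1026 (tt N1026 F4955) (tt N843 F4956) (tt N1215 (iv F6436)) (tt N839 F4957) (tt N1216 (iv F6450)) (tt N838 F4958) (tt N1217 D1795) (tt N837 (iv D1359)))
theorem Q1028 : ∀ i, i < 1028 → P i := stepQ 1027 Q1027 (allL N1027 (tt N1027 F4959) (tt N844 F4960) (tt N1027 F66459) (tt N840 F4961) (tt N1027 F4962) (tt N1217 (iv F6455)) (tt N838 (iv D1360)) (tt N1027 F4963))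
theorem Q1029 : ∀ i, i < 1029 → P i := stepQ 1028 Q1028 (allL N1028 (tt N1028 F4964) (tt N845 F4965) (tt N1218 D1797) (tt N1217 (iv F6454)) (tt N1184 (iv F6245)) (tt N840 F4966) (tt N839 (iv D1361)) (tt N1028 F4967))
theorem Q1030 : ∀ i, i < 1030 → P i := stepQ 1029 Q1029 (allL N1029 (tt N1029 F4968) (tt N1219 D1798) (tt N840 (iv D1362)) (tt N1029 F66685) (tt N841 F4969) (tt N1218 (iv F6461)) (tt N1029 F4970) (tt N1029 F4971))
theorem Q1031 : ∀ i, i < 1031 → P i := stepQ 1030 Q1030 (allL N1030 (tt N1220 D1800) (tt N841 (iv D1363)) (tt N847 F4972) (tt N854 F66524) (tt N1219 (iv F6465)) (tt N1186 (iv F6253)) (tt N1030 F4973) (tt N1030 F4974))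
theorem Q1032 : ∀ i, i < 1032 → P i := stepQ 1031 Q1031 (allL N1031 (tt N1031 F4975) (tt N854 F66523) (tt N1031 F4976) (tt N841 (iv D1364)) (tt N1031 F66631) (tt N1187 (iv F6258)) (tt N1031 F4977) (tt N1031 F4978))
theorem Q1033 : ∀ i, i < 1033 → P i := stepQ 1032 Q1032 (allL N1032 (tt N852 F4979) (tt N1216 (iv F6449)) (tt N1032 F4980) (tt N1139 F69758) (tt N843 F4981) (tt N1032 F4982) (tt N1221 D1803) (tt N842 (iv D1365)))
theorem Q1034 : ∀ i, i < 1034 → P i := stepQ 1033 Q1033 (allL N1033 (tt N853 F4983) (tt N1217 (iv F6453)) (tt N1222 D1804) (tt N845 F4984) (tt N1221 (iv F6483)) (tt N844 F4985) (tt N843 (iv D1366)) (tt N1033 F4986))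
theorem Q1035 : ∀ i, i < 1035 → P i := stepQ 1034 Q1034 (allL N1034 (tt N854 F4987) (tt N1034 F66334) (tt N844 (iv D1367)) (tt N1220 F66522) (tt N1034 F4988) (tt N1222 (iv F6487)) (tt N1034 F4989) (tt N1034 F4990))
theorem Q1036 : ∀ i, i < 1036 → P i := stepQ 1035 Q1035 (allL N1035 (tt N855 F4991) (tt N1208 (iv F66733)) (tt N845 (iv D1368)) (tt N1193 F66607) (tt N1190 (iv F6273)) (tt N846 F4992) (tt N849 F4993) (tt N1035 F4994))
theorem Q1037 : ∀ i, i < 1037 → P i := stepQ 1036 Q1036 (allL N1036 (tt N857 F66603) (tt N846 (iv D1369)) (tt N1219 (iv F6464)) (tt N856 F66604) (tt N847 F4995) (tt N1208 (iv F66734)) (tt N850 F4996) (tt N1036 F4997))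
theorem Q1038 : ∀ i, i < 1038 → P i := stepQ 1037 Q1037 (allL N1037 (tt N847 (iv F66486)) (tt N856 (iv F66480)) (tt N1220 (iv F66425)) (tt N846 (iv D1370)) (tt N857 (iv F66476)) (tt N1193 (iv F66488)) (tt N851 F4999) (tt N1037 F5000))
theorem Q1039 : ∀ i, i < 1039 → P i := stepQ 1038 Q1038 (allL N1038 (tt N1221 (iv F6482)) (tt N1038 F5050) (tt N1223 D1832) (tt N1200 (iv F6338)) (tt N853 F5051) (tt N1038 F5052) (tt N852 (iv D1386)) (tt N1038 F5053))
theorem Q1040 : ∀ i, i < 1040 → P i := stepQ 1039 Q1039 (allL N1039 (tt N1222 (iv F6486)) (tt N1187 (iv F66641)) (tt N853 (iv D1387)) (tt N1186 (iv F66613)) (tt N1223 (iv F6579)) (tt N854 F5054) (tt N1039 F5055) (tt N1039 F5056))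
theorem Q1041 : ∀ i, i < 1041 → P i := stepQ 1040 Q1040 (allL N1040 (tt N1219 (iv F66560)) (tt N1040 F5084) (tt N857 (iv D1396)) (tt N1040 F5085) (tt N1220 F66492) (tt N1209 (iv F6373)) (tt N1040 F5086) (tt N1040 F5087))
theorem Q1042 : ∀ i, i < 1042 → P i := stepQ 1041 Q1041 (allL N1041 (tt N1041 F5142) (tt N865 F5143) (tt N1041 F5144) (tt N1041 F5145) (tt N1041 F5146) (tt N860 F5147) (tt N1224 D1868) (tt N858 (iv D1414)))
theorem Q1043 : ∀ i, i < 1043 → P i := stepQ 1042 Q1042 (allL N1042 (tt N1042 F5151) (tt N866 F5152) (tt N1182 F69759) (tt N1042 F5153) (tt N862 F5154) (tt N1181 F69760) (tt N1225 D1871) (tt N859 (iv D1416)))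
theorem Q1044 : ∀ i, i < 1044 → P i := stepQ 1043 Q1043 (allL N1043 (tt N1043 F5155) (tt N867 F5156) (tt N1226 D1872) (tt N1043 F5157) (tt N863 F5158) (tt N1224 (iv F6707)) (tt N860 (iv D1417)) (tt N1225 (iv F6718)))
theorem Q1045 : ∀ i, i < 1045 → P i := stepQ 1044 Q1044 (allL N1044 (tt N1044 F5163) (tt N1139 (iv F6045)) (tt N862 F5164) (tt N1216 (iv F69782)) (tt N1182 F69761) (tt N1044 F5165) (tt N1227 D1875) (tt N861 (iv D1419)))
theorem Q1046 : ∀ i, i < 1046 → P i := stepQ 1045 Q1045 (allL N1045 (tt N1045 F5166) (tt N868 F5167) (tt N1228 D1876) (tt N911 F5168) (tt N1225 (iv F6717)) (tt N1045 F5169) (tt N862 (iv D1420)) (tt N863 F5170))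
theorem Q1047 : ∀ i, i < 1047 → P i := stepQ 1046 Q1046 (allL N1046 (tt N1046 F5171) (tt N1229 D1877) (tt N863 (iv D1421)) (tt N1046 F67846) (tt N1226 (iv F6720)) (tt N1046 F5172) (tt N1046 F5173) (tt N1228 (iv F6734)))
theorem Q1048 : ∀ i, i < 1048 → P i := stepQ 1047 Q1047 (allL N1047 (tt N876 F5174) (tt N1181 (iv F69749)) (tt N1135 F69673) (tt N1047 F5175) (tt N1047 F5176) (tt N866 F5177) (tt N1230 D1879) (tt N864 (iv D1422)))
theorem Q1049 : ∀ i, i < 1049 → P i := stepQ 1048 Q1048 (allL N1048 (tt N877 F5178) (tt N1224 (iv F6704)) (tt N1231 D1880) (tt N1048 F5179) (tt N1048 F5180) (tt N867 F5181) (tt N865 (iv D1423)) (tt N1230 (iv F6746)))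
theorem Q1050 : ∀ i, i < 1050 → P i := stepQ 1049 Q1049 (allL N1049 (tt N878 F5182) (tt N1225 (iv F6715)) (tt N1232 D1881) (tt N1049 F5183) (tt N868 F5184) (tt N1230 (iv F6745)) (tt N866 (iv D1424)) (tt N867 F5185))
theorem Q1051 : ∀ i, i < 1051 → P i := stepQ 1050 Q1050 (allL N1050 (tt N879 F5186) (tt N1233 D1882) (tt N867 (iv D1425)) (tt N1234 D1883) (tt N869 F5187) (tt N1231 (iv F6749)) (tt N871 F5188) (tt N1232 (iv F6753)))
theorem Q1052 : ∀ i, i < 1052 → P i := stepQ 1051 Q1051 (allL N1051 (tt N880 F5189) (tt N1235 D1884) (tt N868 (iv D1426)) (tt N1236 D1885) (tt N1232 (iv F6752)) (tt N1051 F5190) (tt N1146 (iv F6088)) (tt N869 F5191))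
theorem Q1053 : ∀ i, i < 1053 → P i := stepQ 1052 Q1052 (allL N1052 (tt N1237 D1886) (tt N869 (iv D1427)) (tt N1229 (iv F6735)) (tt N1238 D1887) (tt N1233 (iv F6754)) (tt N1052 F5192) (tt N872 F5193) (tt N1235 (iv F6760)))
theorem Q1054 : ∀ i, i < 1054 → P i := stepQ 1053 Q1053 (allL N1053 (tt N882 F5194) (tt N1238 (iv F6768)) (tt N913 F5195) (tt N869 (iv D1428)) (tt N1239 D1888) (tt N1053 F5196) (tt N873 F5197) (tt N1236 (iv F6764)))
theorem Q1055 : ∀ i, i < 1055 → P i := stepQ 1054 Q1054 (allL N1054 (tt N883 F5198) (tt N1240 D1889) (tt N870 (iv D1429)) (tt N1241 D1890) (tt N1054 F5199) (tt N871 F5200) (tt N1231 (iv F6750)) (tt N1149 (iv F6099)))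
theorem Q1056 : ∀ i, i < 1056 → P i := stepQ 1055 Q1055 (allL N1055 (tt N1242 D1891) (tt N871 (iv D1430)) (tt N1055 F5201) (tt N1243 D1892) (tt N872 F5202) (tt N1240 (iv F6776)) (tt N1233 (iv F6755)) (tt N1150 (iv F6102)))
theorem Q1057 : ∀ i, i < 1057 → P i := stepQ 1056 Q1056 (allL N1056 (tt N885 F5203) (tt N1243 (iv F6783)) (tt N896 F5204) (tt N871 (iv D1431)) (tt N1244 D1893) (tt N1241 (iv F6779)) (tt N1234 (iv F6758)) (tt N1151 (iv F6105)))
theorem Q1058 : ∀ i, i < 1058 → P i := stepQ 1057 Q1057 (allL N1057 (tt N872 (iv D1432)) (tt N886 F5205) (tt N1057 F5206) (tt N1245 D1894) (tt N1242 (iv F6782)) (tt N1057 F5207) (tt N1237 (iv F6767)) (tt N1152 (iv F6109)))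
theorem Q1059 : ∀ i, i < 1059 → P i := stepQ 1058 Q1058 (allL N1058 (tt N1245 (iv F6787)) (tt N873 F5208) (tt N1246 D1895) (tt N872 (iv D1433)) (tt N1247 D1896) (tt N1058 F5209) (tt N1238 (iv F6770)) (tt N1153 (iv F6112)))
theorem Q1060 : ∀ i, i < 1060 → P i := stepQ 1059 Q1059 (allL N1059 (tt N888 F5210) (tt N1247 (iv F6793)) (tt N875 F5211) (tt N1244 (iv F6786)) (tt N873 (iv D1434)) (tt N905 F67129) (tt N1239 (iv F6773)) (tt N1154 (iv F6115)))
theorem Q1061 : ∀ i, i < 1061 → P i := stepQ 1060 Q1060 (allL N1060 (tt N1060 F5212) (tt N1246 (iv F6790)) (tt N874 (iv D1435)) (tt N1060 F5213) (tt N891 F67366) (tt N1060 F5214) (tt N1060 F67528) (tt N1155 (iv F6119)))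
theorem Q1062 : ∀ i, i < 1062 → P i := stepQ 1061 Q1061 (allL N1061 (tt N1230 (iv F6742)) (tt N1061 F5223) (tt N1248 D1901) (tt N1061 F5224) (tt N1061 F5225) (tt N878 F5226) (tt N876 (iv D1438)) (tt N877 F5227))
theorem Q1063 : ∀ i, i < 1063 → P i := stepQ 1062 Q1062 (allL N1062 (tt N1231 (iv F6747)) (tt N1249 D1902) (tt N877 (iv D1439)) (tt N1250 D1903) (tt N1062 F5228) (tt N879 F5229) (tt N883 F5230) (tt N1248 (iv F6810)))
theorem Q1064 : ∀ i, i < 1064 → P i := stepQ 1063 Q1063 (allL N1063 (tt N1232 (iv F6751)) (tt N1251 D1904) (tt N878 (iv D1440)) (tt N1252 D1905) (tt N880 F5231) (tt N1248 (iv F6809)) (tt N1161 (iv F6155)) (tt N879 F5232))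
theorem Q1065 : ∀ i, i < 1065 → P i := stepQ 1064 Q1064 (allL N1064 (tt N1253 D1906) (tt N879 (iv D1441)) (tt N1064 F5233) (tt N1254 D1907) (tt N881 F5234) (tt N1249 (iv F6813)) (tt N884 F5235) (tt N1251 (iv F6820)))
theorem Q1066 : ∀ i, i < 1066 → P i := stepQ 1065 Q1065 (allL N1065 (tt N1234 (iv F6756)) (tt N1254 (iv F6826)) (tt N1065 F5236) (tt N879 (iv D1442)) (tt N1255 D1908) (tt N1250 (iv F6816)) (tt N885 F5237) (tt N1252 (iv F6822)))
theorem Q1067 : ∀ i, i < 1067 → P i := stepQ 1066 Q1066 (allL N1066 (tt N1256 D1909) (tt N880 (iv D1443)) (tt N1066 F5238) (tt N1257 D1910) (tt N1251 (iv F6819)) (tt N1066 F5239) (tt N1164 (iv F6161)) (tt N881 F5240))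
theorem Q1068 : ∀ i, i < 1068 → P i := stepQ 1067 Q1067 (allL N1067 (tt N1236 (iv F6761)) (tt N1257 (iv F6834)) (tt N915 F5241) (tt N880 (iv D1444)) (tt N1258 D1911) (tt N1067 F5242) (tt N1165 (iv F6165)) (tt N882 F5243))
theorem Q1069 : ∀ i, i < 1069 → P i := stepQ 1068 Q1068 (allL N1068 (tt N881 (iv D1445)) (tt N1237 (iv F6765)) (tt N1068 F5244) (tt N1259 D1912) (tt N1253 (iv F6824)) (tt N1068 F5245) (tt N886 F5246) (tt N1256 (iv F6833)))
theorem Q1070 : ∀ i, i < 1070 → P i := stepQ 1069 Q1069 (allL N1069 (tt N1259 (iv F6839)) (tt N882 F5247) (tt N1260 D1913) (tt N881 (iv D1446)) (tt N1261 D1914) (tt N1069 F5248) (tt N887 F5249) (tt N1257 (iv F6836)))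
theorem Q1071 : ∀ i, i < 1071 → P i := stepQ 1070 Q1070 (allL N1070 (tt N1239 (iv F6771)) (tt N1261 (iv F6846)) (tt N917 F5250) (tt N1255 (iv F6829)) (tt N882 (iv D1447)) (tt N1262 D1915) (tt N888 F5251) (tt N1258 (iv F6838)))
theorem Q1072 : ∀ i, i < 1072 → P i := stepQ 1071 Q1071 (allL N1071 (tt N1263 D1916) (tt N883 (iv D1448)) (tt N890 F5252) (tt N1264 D1917) (tt N1071 F5253) (tt N884 F5254) (tt N1249 (iv F6814)) (tt N1169 (iv F6177)))
theorem Q1073 : ∀ i, i < 1073 → P i := stepQ 1072 Q1072 (allL N1072 (tt N1241 (iv F6777)) (tt N1264 (iv F6854)) (tt N899 F5255) (tt N883 (iv D1449)) (tt N1265 D1918) (tt N885 F5256) (tt N1250 (iv F6817)) (tt N1170 (iv F6180)))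
theorem Q1074 : ∀ i, i < 1074 → P i := stepQ 1073 Q1073 (allL N1073 (tt N884 (iv D1450)) (tt N1242 (iv F6780)) (tt N892 F5257) (tt N1266 D1919) (tt N886 F5258) (tt N1263 (iv F6853)) (tt N1253 (iv F6825)) (tt N1171 (iv F6183)))
theorem Q1075 : ∀ i, i < 1075 → P i := stepQ 1074 Q1074 (allL N1074 (tt N1266 (iv F6858)) (tt N885 F5259) (tt N1267 D1920) (tt N884 (iv D1451)) (tt N1268 D1921) (tt N1264 (iv F6855)) (tt N1254 (iv F6827)) (tt N1172 (iv F6185)))
theorem Q1076 : ∀ i, i < 1076 → P i := stepQ 1075 Q1075 (allL N1075 (tt N1244 (iv F6784)) (tt N1268 (iv F6861)) (tt N902 F5260) (tt N888 F5261) (tt N885 (iv D1452)) (tt N1269 D1922) (tt N1255 (iv F6830)) (tt N1173 (iv F6188)))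
theorem Q1077 : ∀ i, i < 1077 → P i := stepQ 1076 Q1076 (allL N1076 (tt N887 F5262) (tt N1245 (iv F6788)) (tt N1076 F5263) (tt N886 (iv D1453)) (tt N1270 D1923) (tt N1076 F5264) (tt N1259 (iv F6841)) (tt N1174 (iv F6192)))
theorem Q1078 : ∀ i, i < 1078 → P i := stepQ 1077 Q1077 (allL N1077 (tt N1270 (iv F6865)) (tt N888 F5265) (tt N1077 F5266) (tt N1268 (iv F6862)) (tt N887 (iv D1454)) (tt N1271 D1924) (tt N1261 (iv F6847)) (tt N1175 (iv F6195)))
theorem Q1079 : ∀ i, i < 1079 → P i := stepQ 1078 Q1078 (allL N1078 (tt N905 F67152) (tt N1271 (iv F6867)) (tt N889 F5267) (tt N1269 (iv F6864)) (tt N1078 F5268) (tt N888 (iv D1455)) (tt N1262 (iv F6850)) (tt N1176 (iv F6198)))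
theorem Q1080 : ∀ i, i < 1080 → P i := stepQ 1079 Q1079 (allL N1079 (tt N890 (iv D1456)) (tt N1079 F5269) (tt N1263 (iv F6851)) (tt N1272 D1925) (tt N1079 F5270) (tt N892 F5271) (tt N1079 F5272) (tt N1177 (iv F6202)))
theorem Q1081 : ∀ i, i < 1081 → P i := stepQ 1080 Q1080 (allL N1080 (tt N1272 (iv F6870)) (tt N891 F5273) (tt N1247 F67364) (tt N890 (iv D1457)) (tt N1246 (iv F67527)) (tt N893 F5274) (tt N1080 F5275) (tt N1178 (iv F6205)))
theorem Q1082 : ∀ i, i < 1082 → P i := stepQ 1081 Q1081 (allL N1081 (tt N893 F5281) (tt N1081 F5282) (tt N1273 D1928) (tt N892 (iv D1459)) (tt N1081 F5283) (tt N1272 (iv F6872)) (tt N1081 F5284) (tt N1179 (iv F6214)))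
theorem Q1083 : ∀ i, i < 1083 → P i := stepQ 1082 Q1082 (allL N1082 (tt N1273 (iv F6880)) (tt N905 F5285) (tt N893 (iv D1460)) (tt N1267 (iv F6860)) (tt N1082 F5286) (tt N1247 (iv F67261)) (tt N1274 D1929) (tt N1180 (iv F6217)))
theorem Q1084 : ∀ i, i < 1084 → P i := stepQ 1083 Q1083 (allL N1083 (tt N904 F66939) (tt N894 (iv D1461)) (tt N1083 F5287) (tt N1275 D1931) (tt N903 F66940) (tt N895 F5289) (tt N1083 F5290) (tt N1195 (iv F6298)))
theorem Q1085 : ∀ i, i < 1085 → P i := stepQ 1084 Q1084 (allL N1084 (tt N899 F5291) (tt N1275 (iv F6890)) (tt N1241 (iv F6778)) (tt N894 (iv D1462)) (tt N1276 D1932) (tt N896 F5292) (tt N1084 F5293) (tt N1196 (iv F6301)))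
theorem Q1086 : ∀ i, i < 1086 → P i := stepQ 1085 Q1085 (allL N1085 (tt N895 (iv D1463)) (tt N900 F5294) (tt N1085 F5295) (tt N1276 (iv F66996)) (tt N897 F5296) (tt N904 F66856) (tt N1085 F5297) (tt N1197 (iv F6305)))
theorem Q1087 : ∀ i, i < 1087 → P i := stepQ 1086 Q1086 (allL N1086 (tt N1276 F67142) (tt N896 F5298) (tt N1265 (iv F67283)) (tt N895 (iv D1464)) (tt N899 F67143) (tt N1275 (iv F6891)) (tt N1086 F5299) (tt N1198 (iv F6307)))
theorem Q1088 : ∀ i, i < 1088 → P i := stepQ 1087 Q1087 (allL N1087 (tt N902 F5300) (tt N899 (iv F66991)) (tt N1244 (iv F6785)) (tt N898 F5301) (tt N896 (iv D1465)) (tt N901 (iv F66986)) (tt N1087 F5302) (tt N1199 (iv F6310)))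
theorem Q1089 : ∀ i, i < 1089 → P i := stepQ 1088 Q1088 (allL N1088 (tt N901 F5335) (tt N1276 F67002) (tt N1269 (iv F67001)) (tt N900 (iv D1476)) (tt N1275 F67003) (tt N902 (iv F66990)) (tt N1088 F5336) (tt N1211 (iv F6393)))
theorem Q1090 : ∀ i, i < 1090 → P i := stepQ 1089 Q1089 (allL N1089 (tt N1269 F67135) (tt N1267 (iv F6859)) (tt N901 (iv D1477)) (tt N905 F5337) (tt N1277 D1952) (tt N1244 F67136) (tt N1278 D1953) (tt N1212 (iv F6395)))
theorem Q1091 : ∀ i, i < 1091 → P i := stepQ 1090 Q1090 (allL N1090 (tt N1275 F66956) (tt N902 F5338) (tt N1277 (iv F6950)) (tt N904 F5339) (tt N901 (iv D1478)) (tt N1276 (iv F66995)) (tt N1090 F5340) (tt N1213 (iv F6398)))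
theorem Q1092 : ∀ i, i < 1092 → P i := stepQ 1091 Q1091 (allL N1091 (tt N1262 (iv F67297)) (tt N1274 (iv F6882)) (tt N908 F5361) (tt N1278 (iv F6953)) (tt N1091 F5362) (tt N1239 (iv F67262)) (tt N905 (iv D1486)) (tt N1279 D1962))
theorem Q1093 : ∀ i, i < 1093 → P i := stepQ 1092 Q1092 (allL N1092 (tt N917 (iv F67565)) (tt N1092 F5471) (tt N1239 F67415) (tt N1092 F5472) (tt N913 (iv F67536)) (tt N908 F5473) (tt N906 (iv D1523)) (tt N1280 D2008))
theorem Q1094 : ∀ i, i < 1094 → P i := stepQ 1093 Q1093 (allL N1093 (tt N1093 F5474) (tt N907 (iv D1524)) (tt N1093 F5475) (tt N1093 F5476) (tt N1093 F5477) (tt N918 (iv F67564)) (tt N1281 D2009) (tt N1093 F5478))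
theorem Q1095 : ∀ i, i < 1095 → P i := stepQ 1094 Q1094 (allL N1094 (tt N908 F5479) (tt N1281 (iv F7122)) (tt N1262 F67460) (tt N1094 F5480) (tt N1094 F5481) (tt N917 (iv F67566)) (tt N907 (iv D1525)) (tt N1282 D2010))
theorem Q1096 : ∀ i, i < 1096 → P i := stepQ 1095 Q1095 (allL N1095 (tt N1282 (iv F7125)) (tt N1095 F5482) (tt N1279 (iv F6977)) (tt N1095 F5483) (tt N1095 F5484) (tt N1280 (iv F7119)) (tt N1095 F5485) (tt N908 (iv D1526)))
theorem Q1097 : ∀ i, i < 1097 → P i := stepQ 1096 Q1096 (allL N1096 (tt N1096 F5556) (tt N1096 F5557) (tt N1216 F69787) (tt N910 F5558) (tt N1215 F69788) (tt N1096 F5559) (tt N1096 F68305) (tt N909 (iv D1545)))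
theorem Q1098 : ∀ i, i < 1098 → P i := stepQ 1097 Q1097 (allL N1097 (tt N915 F5580) (tt N1097 F67843) (tt N1236 (iv F6762)) (tt N912 (iv D1551)) (tt N1280 F67676) (tt N1097 F5581) (tt N1097 F5582) (tt N913 F5583))
theorem Q1099 : ∀ i, i < 1099 → P i := stepQ 1098 Q1098 (allL N1098 (tt N1098 F67865) (tt N915 F5626) (tt N1283 D2056) (tt N914 (iv D1563)) (tt N1284 D2057) (tt N1098 F5627) (tt N1098 F5628) (tt N916 F5629))
theorem Q1100 : ∀ i, i < 1100 → P i := stepQ 1099 Q1099 (allL N1099 (tt N1280 F67702) (tt N1284 (iv F7304)) (tt N1258 (iv F6837)) (tt N1099 F5630) (tt N915 (iv D1564)) (tt N1282 F67703) (tt N1099 F5631) (tt N917 F5632))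
theorem Q1101 : ∀ i, i < 1101 → P i := stepQ 1100 Q1100 (allL N1100 (tt N1100 F67864) (tt N1260 (iv F6842)) (tt N916 (iv D1566)) (tt N1100 F5636) (tt N1285 D2061) (tt N1100 F5637) (tt N1100 F5638) (tt N1283 (iv F7303)))
theorem Q1102 : ∀ i, i < 1102 → P i := stepQ 1101 Q1101 (allL N1101 (tt N1101 F67861) (tt N917 F5639) (tt N1285 (iv F7319)) (tt N1101 F5640) (tt N916 (iv D1567)) (tt N1281 F67701) (tt N918 F5641) (tt N1284 (iv F7307)))
theorem Q1103 : ∀ i, i < 1103 → P i := stepQ 1102 Q1102 (allL N1102 (tt N952 F5864) (tt N926 F5865) (tt N1102 F5866) (tt N971 F69740) (tt N922 F5867) (tt N969 F69741) (tt N1286 D2133) (tt N920 (iv D1625)))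
theorem Q1104 : ∀ i, i < 1104 → P i := stepQ 1103 Q1103 (allL N1103 (tt N954 F5872) (tt N927 F5873) (tt N1006 (iv F69757)) (tt N1103 F5874) (tt N968 F69735) (tt N1103 F5875) (tt N1287 D2136) (tt N921 (iv D1627)))
theorem Q1105 : ∀ i, i < 1105 → P i := stepQ 1104 Q1104 (allL N1104 (tt N955 F5876) (tt N928 F5877) (tt N1288 D2137) (tt N1104 F5878) (tt N1286 (iv F7593)) (tt N1104 F5879) (tt N922 (iv D1628)) (tt N1287 (iv F7607)))
theorem Q1106 : ∀ i, i < 1106 → P i := stepQ 1105 Q1105 (allL N1105 (tt N934 F5886) (tt N971 F69738) (tt N1105 F5887) (tt N926 F5888) (tt N1105 F5889) (tt N936 F69739) (tt N1289 D2143) (tt N923 (iv D1631)))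
theorem Q1107 : ∀ i, i < 1107 → P i := stepQ 1106 Q1106 (allL N1106 (tt N935 F5894) (tt N969 F69730) (tt N929 F5895) (tt N936 F69731) (tt N1106 F5896) (tt N926 F5897) (tt N1290 D2145) (tt N924 (iv D1633)))
theorem Q1108 : ∀ i, i < 1108 → P i := stepQ 1107 Q1107 (allL N1107 (tt N936 F5898) (tt N968 F69732) (tt N1107 F5899) (tt N935 F69733) (tt N927 F5900) (tt N934 F69734) (tt N1291 D2146) (tt N925 (iv D1634)))
theorem Q1109 : ∀ i, i < 1109 → P i := stepQ 1108 Q1108 (allL N1108 (tt N937 F5901) (tt N1286 (iv F7592)) (tt N1292 D2147) (tt N1289 (iv F7630)) (tt N928 F5902) (tt N1290 (iv F7638)) (tt N926 (iv D1635)) (tt N1291 (iv F7641)))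
theorem Q1110 : ∀ i, i < 1110 → P i := stepQ 1109 Q1109 (allL N1109 (tt N938 F5903) (tt N1287 (iv F7604)) (tt N1293 D2148) (tt N1109 F5904) (tt N1291 (iv F7640)) (tt N1109 F5905) (tt N927 (iv D1636)) (tt N928 F5906))
theorem Q1111 : ∀ i, i < 1111 → P i := stepQ 1110 Q1110 (allL N1110 (tt N939 F5907) (tt N1294 D2149) (tt N928 (iv D1637)) (tt N1295 D2150) (tt N1292 (iv F7643)) (tt N1110 F5908) (tt N931 F5909) (tt N1293 (iv F7648)))
theorem Q1112 : ∀ i, i < 1112 → P i := stepQ 1111 Q1111 (allL N1111 (tt N940 F5910) (tt N1111 F5911) (tt N1296 D2151) (tt N1111 F5912) (tt N1111 F5913) (tt N930 F5914) (tt N929 (iv D1638)) (tt N1111 F5915))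
theorem Q1113 : ∀ i, i < 1113 → P i := stepQ 1112 Q1112 (allL N1112 (tt N941 F5916) (tt N1297 D2152) (tt N930 (iv D1639)) (tt N1298 D2153) (tt N931 F5917) (tt N1296 (iv F7657)) (tt N1292 (iv F7644)) (tt N1112 F5918))
theorem Q1114 : ∀ i, i < 1114 → P i := stepQ 1113 Q1113 (allL N1113 (tt N1299 D2154) (tt N931 (iv D1640)) (tt N1113 F5919) (tt N1300 D2155) (tt N1297 (iv F7660)) (tt N1113 F5920) (tt N1294 (iv F7650)) (tt N1113 F5921))
theorem Q1115 : ∀ i, i < 1115 → P i := stepQ 1114 Q1114 (allL N1114 (tt N943 F5922) (tt N1300 (iv F7669)) (tt N933 F5923) (tt N931 (iv D1641)) (tt N1301 D2156) (tt N1114 F5924) (tt N1295 (iv F7654)) (tt N1114 F5925))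
theorem Q1116 : ∀ i, i < 1116 → P i := stepQ 1115 Q1115 (allL N1115 (tt N1115 F5926) (tt N933 F5927) (tt N1302 D2157) (tt N932 (iv D1642)) (tt N1303 D2158) (tt N1115 F5928) (tt N1115 F5929) (tt N1115 F5930))
theorem Q1117 : ∀ i, i < 1117 → P i := stepQ 1116 Q1116 (allL N1116 (tt N944 F5931) (tt N1303 (iv F7680)) (tt N1301 (iv F7673)) (tt N1116 F5932) (tt N933 (iv D1643)) (tt N1304 D2159) (tt N1116 F5933) (tt N1116 F5934))
theorem Q1118 : ∀ i, i < 1118 → P i := stepQ 1117 Q1117 (allL N1117 (tt N1289 (iv F7629)) (tt N970 F5953) (tt N1305 D2167) (tt N937 F5954) (tt N1117 F5955) (tt N1291 (iv F69655)) (tt N934 (iv D1649)) (tt N1290 (iv F69652)))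
theorem Q1119 : ∀ i, i < 1119 → P i := stepQ 1118 Q1118 (allL N1118 (tt N1290 (iv F7636)) (tt N972 F5960) (tt N1306 D2169) (tt N1291 (iv F69654)) (tt N1118 F5961) (tt N937 F5962) (tt N935 (iv D1651)) (tt N1289 (iv F69658)))
theorem Q1120 : ∀ i, i < 1120 → P i := stepQ 1119 Q1119 (allL N1119 (tt N1291 (iv F7639)) (tt N973 F5963) (tt N1307 D2170) (tt N1290 (iv F69651)) (tt N938 F5964) (tt N1289 (iv F69657)) (tt N936 (iv D1652)) (tt N937 F5965))
theorem Q1121 : ∀ i, i < 1121 → P i := stepQ 1120 Q1120 (allL N1120 (tt N1292 (iv F7642)) (tt N1308 D2171) (tt N937 (iv D1653)) (tt N1309 D2172) (tt N939 F5966) (tt N1306 (iv F7723)) (tt N941 F5967) (tt N1307 (iv F7727)))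
theorem Q1122 : ∀ i, i < 1122 → P i := stepQ 1121 Q1121 (allL N1121 (tt N1293 (iv F7645)) (tt N1310 D2173) (tt N938 (iv D1654)) (tt N1311 D2174) (tt N1307 (iv F7725)) (tt N1121 F5968) (tt N1121 F5969) (tt N939 F5970))
theorem Q1123 : ∀ i, i < 1123 → P i := stepQ 1122 Q1122 (allL N1122 (tt N1312 D2175) (tt N939 (iv D1655)) (tt N976 F5971) (tt N1313 D2176) (tt N1308 (iv F7729)) (tt N1122 F5972) (tt N942 F5973) (tt N1310 (iv F7735)))
theorem Q1124 : ∀ i, i < 1124 → P i := stepQ 1123 Q1123 (allL N1123 (tt N1295 (iv F7651)) (tt N1313 (iv F7743)) (tt N1123 F5974) (tt N939 (iv D1656)) (tt N1314 D2177) (tt N1123 F5975) (tt N943 F5976) (tt N1311 (iv F7739)))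
theorem Q1125 : ∀ i, i < 1125 → P i := stepQ 1124 Q1124 (allL N1124 (tt N1296 (iv F7655)) (tt N1315 D2178) (tt N940 (iv D1657)) (tt N1316 D2179) (tt N1124 F5977) (tt N941 F5978) (tt N1306 (iv F7724)) (tt N1124 F5979))
theorem Q1126 : ∀ i, i < 1126 → P i := stepQ 1125 Q1125 (allL N1125 (tt N1317 D2180) (tt N941 (iv D1658)) (tt N946 F5980) (tt N1318 D2181) (tt N942 F5981) (tt N1315 (iv F7750)) (tt N1308 (iv F7730)) (tt N1125 F5982))
theorem Q1127 : ∀ i, i < 1127 → P i := stepQ 1126 Q1126 (allL N1126 (tt N1298 (iv F7662)) (tt N1318 (iv F7758)) (tt N1126 F5983) (tt N941 (iv D1659)) (tt N1319 D2182) (tt N1316 (iv F7753)) (tt N1309 (iv F7731)) (tt N1126 F5984))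
theorem Q1128 : ∀ i, i < 1128 → P i := stepQ 1127 Q1127 (allL N1127 (tt N942 (iv D1660)) (tt N1299 (iv F7665)) (tt N948 F5985) (tt N1320 D2183) (tt N1317 (iv F7756)) (tt N1127 F5986) (tt N1312 (iv F7742)) (tt N1127 F5987))
theorem Q1129 : ∀ i, i < 1129 → P i := stepQ 1128 Q1128 (allL N1128 (tt N1320 (iv F7763)) (tt N943 F5988) (tt N1128 F5989) (tt N942 (iv D1661)) (tt N1321 D2184) (tt N1128 F5990) (tt N1313 (iv F7745)) (tt N1128 F5991))
theorem Q1130 : ∀ i, i < 1130 → P i := stepQ 1129 Q1129 (allL N1129 (tt N1301 (iv F7672)) (tt N1321 (iv F7767)) (tt N944 F5992) (tt N1319 (iv F7761)) (tt N943 (iv D1662)) (tt N1322 D2185) (tt N1314 (iv F7747)) (tt N1129 F5993))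
theorem Q1131 : ∀ i, i < 1131 → P i := stepQ 1130 Q1130 (allL N1130 (tt N1304 (iv F7684)) (tt N1130 F5994) (tt N1322 (iv F7770)) (tt N1130 F5995) (tt N1130 F5996) (tt N944 (iv D1663)) (tt N1130 F5997) (tt N1130 F5998))
theorem Q1132 : ∀ i, i < 1132 → P i := stepQ 1131 Q1131 (allL N1131 (tt N1323 D2186) (tt N945 (iv D1664)) (tt N1315 (iv F7748)) (tt N1324 D2187) (tt N1131 F5999) (tt N946 F6000) (tt N985 F6001) (tt N1131 F6002))
theorem Q1133 : ∀ i, i < 1133 → P i := stepQ 1132 Q1132 (allL N1132 (tt N1132 F6003) (tt N1324 (iv F7778)) (tt N1132 F6004) (tt N945 (iv D1665)) (tt N1325 D2188) (tt N947 F6005) (tt N986 F6006) (tt N1132 F6007))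
theorem Q1134 : ∀ i, i < 1134 → P i := stepQ 1133 Q1133 (allL N1133 (tt N946 (iv D1666)) (tt N1133 F6008) (tt N1317 (iv F7755)) (tt N1326 D2189) (tt N948 F6009) (tt N1323 (iv F7775)) (tt N987 F6010) (tt N1133 F6011))
theorem Q1135 : ∀ i, i < 1135 → P i := stepQ 1134 Q1134 (allL N1134 (tt N1326 (iv F7788)) (tt N947 F6012) (tt N1327 D2190) (tt N946 (iv D1667)) (tt N1134 F6013) (tt N1324 (iv F7779)) (tt N988 F6014) (tt N1134 F6015))
theorem Q1136 : ∀ i, i < 1136 → P i := stepQ 1135 Q1135 (allL N1135 (tt N971 (iv F69663)) (tt N956 F6024) (tt N1047 (iv F69673)) (tt N952 F6025) (tt N1135 F6026) (tt N958 (iv F69669)) (tt N1328 D2199) (tt N949 (iv D1671)))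
theorem Q1137 : ∀ i, i < 1137 → P i := stepQ 1136 Q1136 (allL N1136 (tt N969 (iv F69670)) (tt N957 F6030) (tt N1136 F6031) (tt N958 (iv F69668)) (tt N1136 F6032) (tt N952 F6033) (tt N1329 D2202) (tt N950 (iv D1673)))
theorem Q1138 : ∀ i, i < 1138 → P i := stepQ 1137 Q1137 (allL N1137 (tt N968 (iv F69649)) (tt N958 F6037) (tt N995 (iv F69640)) (tt N957 F69547) (tt N954 F6038) (tt N956 (iv F69667)) (tt N1330 D2205) (tt N951 (iv D1675)))
theorem Q1139 : ∀ i, i < 1139 → P i := stepQ 1138 Q1138 (allL N1138 (tt N1286 (iv F7591)) (tt N959 F6039) (tt N1331 D2206) (tt N1328 (iv F7821)) (tt N955 F6040) (tt N1329 (iv F7832)) (tt N952 (iv D1676)) (tt N1330 (iv F7840)))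
theorem Q1140 : ∀ i, i < 1140 → P i := stepQ 1139 Q1139 (allL N1139 (tt N1006 (iv F69756)) (tt N1044 F6045) (tt N954 F6046) (tt N1032 (iv F69758)) (tt N995 F69720) (tt N1139 F6047) (tt N1332 D2209) (tt N953 (iv D1678)))
theorem Q1141 : ∀ i, i < 1141 → P i := stepQ 1140 Q1140 (allL N1140 (tt N1287 (iv F7603)) (tt N960 F6048) (tt N1333 D2210) (tt N1140 F6049) (tt N1330 (iv F7839)) (tt N1140 F6050) (tt N954 (iv D1679)) (tt N955 F6051))
theorem Q1142 : ∀ i, i < 1142 → P i := stepQ 1141 Q1141 (allL N1141 (tt N1288 (iv F7608)) (tt N1334 D2211) (tt N955 (iv D1680)) (tt N1335 D2212) (tt N1331 (iv F7841)) (tt N1141 F6052) (tt N1141 F6053) (tt N1333 (iv F7854)))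
theorem Q1143 : ∀ i, i < 1143 → P i := stepQ 1142 Q1142 (allL N1142 (tt N970 F6070) (tt N1328 (iv F7820)) (tt N1336 D2218) (tt N959 F6071) (tt N1142 F6072) (tt N1330 F69543) (tt N956 (iv D1685)) (tt N1329 F69544))
theorem Q1144 : ∀ i, i < 1144 → P i := stepQ 1143 Q1143 (allL N1143 (tt N972 F6077) (tt N1329 (iv F7830)) (tt N1337 D2220) (tt N1330 (iv F69410)) (tt N1143 F6078) (tt N959 F6079) (tt N957 (iv D1687)) (tt N1328 (iv F69411)))
theorem Q1145 : ∀ i, i < 1145 → P i := stepQ 1144 Q1144 (allL N1144 (tt N973 F6080) (tt N1330 (iv F7838)) (tt N1338 D2221) (tt N1329 F69545) (tt N960 F6081) (tt N1328 F69546) (tt N958 (iv D1688)) (tt N959 F6082))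
theorem Q1146 : ∀ i, i < 1146 → P i := stepQ 1145 Q1145 (allL N1145 (tt N974 F6083) (tt N1339 D2222) (tt N959 (iv D1689)) (tt N1340 D2223) (tt N961 F6084) (tt N1337 (iv F7891)) (tt N963 F6085) (tt N1338 (iv F7896)))
theorem Q1147 : ∀ i, i < 1147 → P i := stepQ 1146 Q1146 (allL N1146 (tt N975 F6086) (tt N1341 D2224) (tt N960 (iv D1690)) (tt N1342 D2225) (tt N1338 (iv F7894)) (tt N1146 F6087) (tt N1051 F6088) (tt N961 F6089))
theorem Q1148 : ∀ i, i < 1148 → P i := stepQ 1147 Q1147 (allL N1147 (tt N1343 D2226) (tt N961 (iv D1691)) (tt N1334 (iv F7855)) (tt N1344 D2227) (tt N1339 (iv F7897)) (tt N1147 F6090) (tt N964 F6091) (tt N1341 (iv F7903)))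
theorem Q1149 : ∀ i, i < 1149 → P i := stepQ 1148 Q1148 (allL N1148 (tt N977 F6092) (tt N1344 (iv F7912)) (tt N1148 F6093) (tt N961 (iv D1692)) (tt N1345 D2228) (tt N1148 F6094) (tt N965 F6095) (tt N1342 (iv F7908)))
theorem Q1150 : ∀ i, i < 1150 → P i := stepQ 1149 Q1149 (allL N1149 (tt N978 F6096) (tt N1346 D2229) (tt N962 (iv D1693)) (tt N1347 D2230) (tt N1149 F6097) (tt N963 F6098) (tt N1337 (iv F7892)) (tt N1054 F6099))
theorem Q1151 : ∀ i, i < 1151 → P i := stepQ 1150 Q1150 (allL N1150 (tt N1348 D2231) (tt N963 (iv D1694)) (tt N1150 F6100) (tt N1349 D2232) (tt N964 F6101) (tt N1346 (iv F7920)) (tt N1339 (iv F7898)) (tt N1055 F6102))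
theorem Q1152 : ∀ i, i < 1152 → P i := stepQ 1151 Q1151 (allL N1151 (tt N980 F6103) (tt N1349 (iv F7930)) (tt N1003 F6104) (tt N963 (iv D1695)) (tt N1350 D2233) (tt N1347 (iv F7924)) (tt N1340 (iv F7900)) (tt N1056 F6105))
theorem Q1153 : ∀ i, i < 1153 → P i := stepQ 1152 Q1152 (allL N1152 (tt N964 (iv D1696)) (tt N981 F6106) (tt N1152 F6107) (tt N1351 D2234) (tt N1348 (iv F7928)) (tt N1152 F6108) (tt N1343 (iv F7911)) (tt N1057 F6109))
theorem Q1154 : ∀ i, i < 1154 → P i := stepQ 1153 Q1153 (allL N1153 (tt N1351 (iv F7936)) (tt N965 F6110) (tt N1352 D2235) (tt N964 (iv D1697)) (tt N1353 D2236) (tt N1153 F6111) (tt N1344 (iv F7914)) (tt N1058 F6112))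
theorem Q1155 : ∀ i, i < 1155 → P i := stepQ 1154 Q1154 (allL N1154 (tt N983 F6113) (tt N1353 (iv F7944)) (tt N967 F6114) (tt N1350 (iv F7934)) (tt N965 (iv D1698)) (tt N1021 F66981) (tt N1345 (iv F7917)) (tt N1059 F6115))
theorem Q1156 : ∀ i, i < 1156 → P i := stepQ 1155 Q1155 (allL N1155 (tt N1155 F6116) (tt N1352 (iv F7940)) (tt N966 (iv D1699)) (tt N1155 F6117) (tt N986 F67217) (tt N1155 F6118) (tt N1325 (iv F67365)) (tt N1060 F6119))
theorem Q1157 : ∀ i, i < 1157 → P i := stepQ 1156 Q1156 (allL N1156 (tt N1330 F69529) (tt N1291 (iv F69653)) (tt N1354 D2244) (tt N972 F6141) (tt N1287 (iv F69659)) (tt N970 F6142) (tt N968 (iv D1705)) (tt N1286 (iv F69662)))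
theorem Q1158 : ∀ i, i < 1158 → P i := stepQ 1157 Q1157 (allL N1157 (tt N1329 F69548) (tt N1290 (iv F69650)) (tt N1355 D2245) (tt N973 F6143) (tt N1157 F6144) (tt N1286 (iv F69661)) (tt N969 (iv D1706)) (tt N970 F6145))
theorem Q1159 : ∀ i, i < 1159 → P i := stepQ 1158 Q1158 (allL N1158 (tt N1336 (iv F7882)) (tt N1356 D2246) (tt N970 (iv D1707)) (tt N1357 D2247) (tt N1158 F6146) (tt N1354 (iv F7973)) (tt N1008 F6147) (tt N1355 (iv F7977)))
theorem Q1160 : ∀ i, i < 1160 → P i := stepQ 1159 Q1159 (allL N1159 (tt N1328 F69530) (tt N1289 (iv F69656)) (tt N1358 D2248) (tt N1286 (iv F69660)) (tt N1159 F6148) (tt N973 F6149) (tt N971 (iv D1708)) (tt N972 F6150))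
theorem Q1161 : ∀ i, i < 1161 → P i := stepQ 1160 Q1160 (allL N1160 (tt N1337 (iv F7889)) (tt N1359 D2249) (tt N972 (iv D1709)) (tt N1360 D2250) (tt N1160 F6151) (tt N974 F6152) (tt N978 F6153) (tt N1358 (iv F7985)))
theorem Q1162 : ∀ i, i < 1162 → P i := stepQ 1161 Q1161 (allL N1161 (tt N1338 (iv F7893)) (tt N1361 D2251) (tt N973 (iv D1710)) (tt N1362 D2252) (tt N975 F6154) (tt N1358 (iv F7983)) (tt N1063 F6155) (tt N974 F6156))
theorem Q1163 : ∀ i, i < 1163 → P i := stepQ 1162 Q1162 (allL N1162 (tt N1363 D2253) (tt N974 (iv D1711)) (tt N1308 (iv F7728)) (tt N1364 D2254) (tt N976 F6157) (tt N1359 (iv F7987)) (tt N979 F6158) (tt N1361 (iv F7993)))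
theorem Q1164 : ∀ i, i < 1164 → P i := stepQ 1163 Q1163 (allL N1163 (tt N1340 (iv F7899)) (tt N1364 (iv F7998)) (tt N1357 (iv F7980)) (tt N974 (iv D1712)) (tt N1365 D2255) (tt N1360 (iv F7989)) (tt N980 F6159) (tt N1362 (iv F7995)))
theorem Q1165 : ∀ i, i < 1165 → P i := stepQ 1164 Q1164 (allL N1164 (tt N1366 D2256) (tt N975 (iv D1713)) (tt N1310 (iv F7732)) (tt N1367 D2257) (tt N1361 (iv F7991)) (tt N1164 F6160) (tt N1066 F6161) (tt N976 F6162))
theorem Q1166 : ∀ i, i < 1166 → P i := stepQ 1165 Q1165 (allL N1165 (tt N1342 (iv F7904)) (tt N1367 (iv F8005)) (tt N1165 F6163) (tt N975 (iv D1714)) (tt N1368 D2258) (tt N1165 F6164) (tt N1067 F6165) (tt N977 F6166))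
theorem Q1167 : ∀ i, i < 1167 → P i := stepQ 1166 Q1166 (allL N1166 (tt N976 (iv D1715)) (tt N1343 (iv F7909)) (tt N1312 (iv F7740)) (tt N1369 D2259) (tt N1363 (iv F7996)) (tt N1166 F6167) (tt N981 F6168) (tt N1366 (iv F8004)))
theorem Q1168 : ∀ i, i < 1168 → P i := stepQ 1167 Q1167 (allL N1167 (tt N1369 (iv F8012)) (tt N977 F6169) (tt N1370 D2260) (tt N976 (iv D1716)) (tt N1371 D2261) (tt N1167 F6170) (tt N982 F6171) (tt N1367 (iv F8008)))
theorem Q1169 : ∀ i, i < 1169 → P i := stepQ 1168 Q1168 (allL N1168 (tt N1345 (iv F7915)) (tt N1371 (iv F8018)) (tt N1168 F6172) (tt N1365 (iv F8000)) (tt N977 (iv D1717)) (tt N1372 D2262) (tt N983 F6173) (tt N1368 (iv F8011)))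
theorem Q1170 : ∀ i, i < 1170 → P i := stepQ 1169 Q1169 (allL N1169 (tt N1373 D2263) (tt N978 (iv D1718)) (tt N985 F6174) (tt N1374 D2264) (tt N1169 F6175) (tt N979 F6176) (tt N1359 (iv F7988)) (tt N1071 F6177))
theorem Q1171 : ∀ i, i < 1171 → P i := stepQ 1170 Q1170 (allL N1170 (tt N1347 (iv F7922)) (tt N1374 (iv F8027)) (tt N1015 F6178) (tt N978 (iv D1719)) (tt N1375 D2265) (tt N980 F6179) (tt N1360 (iv F7990)) (tt N1072 F6180))
theorem Q1172 : ∀ i, i < 1172 → P i := stepQ 1171 Q1171 (allL N1171 (tt N979 (iv D1720)) (tt N1348 (iv F7926)) (tt N987 F6181) (tt N1376 D2266) (tt N981 F6182) (tt N1373 (iv F8025)) (tt N1363 (iv F7997)) (tt N1073 F6183))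
theorem Q1173 : ∀ i, i < 1173 → P i := stepQ 1172 Q1172 (allL N1172 (tt N1376 (iv F8033)) (tt N980 F6184) (tt N1377 D2267) (tt N979 (iv D1721)) (tt N1378 D2268) (tt N1374 (iv F8028)) (tt N1364 (iv F7999)) (tt N1074 F6185))
theorem Q1174 : ∀ i, i < 1174 → P i := stepQ 1173 Q1173 (allL N1173 (tt N1350 (iv F7932)) (tt N1378 (iv F8038)) (tt N1018 F6186) (tt N983 F6187) (tt N980 (iv D1722)) (tt N1379 D2269) (tt N1365 (iv F8001)) (tt N1075 F6188))
theorem Q1175 : ∀ i, i < 1175 → P i := stepQ 1174 Q1174 (allL N1174 (tt N982 F6189) (tt N1351 (iv F7937)) (tt N1174 F6190) (tt N981 (iv D1723)) (tt N1380 D2270) (tt N1174 F6191) (tt N1369 (iv F8014)) (tt N1076 F6192))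
theorem Q1176 : ∀ i, i < 1176 → P i := stepQ 1175 Q1175 (allL N1175 (tt N1380 (iv F8044)) (tt N983 F6193) (tt N1175 F6194) (tt N1378 (iv F8039)) (tt N982 (iv D1724)) (tt N1381 D2271) (tt N1371 (iv F8019)) (tt N1077 F6195))
theorem Q1177 : ∀ i, i < 1177 → P i := stepQ 1176 Q1176 (allL N1176 (tt N1021 F67007) (tt N1381 (iv F8047)) (tt N984 F6196) (tt N1379 (iv F8042)) (tt N1176 F6197) (tt N983 (iv D1725)) (tt N1372 (iv F8022)) (tt N1078 F6198))
theorem Q1178 : ∀ i, i < 1178 → P i := stepQ 1177 Q1177 (allL N1177 (tt N985 (iv D1726)) (tt N1177 F6199) (tt N1373 (iv F8023)) (tt N1382 D2272) (tt N1177 F6200) (tt N987 F6201) (tt N1323 (iv F7776)) (tt N1079 F6202))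
theorem Q1179 : ∀ i, i < 1179 → P i := stepQ 1178 Q1178 (allL N1178 (tt N1382 (iv F8051)) (tt N986 F6203) (tt N1353 F67216) (tt N985 (iv D1727)) (tt N1352 (iv F67363)) (tt N988 F6204) (tt N1324 (iv F7780)) (tt N1080 F6205))
theorem Q1180 : ∀ i, i < 1180 → P i := stepQ 1179 Q1179 (allL N1179 (tt N988 F6211) (tt N1179 F6212) (tt N1383 D2275) (tt N987 (iv D1729)) (tt N1179 F6213) (tt N1382 (iv F8053)) (tt N1326 (iv F7791)) (tt N1081 F6214))
theorem Q1181 : ∀ i, i < 1181 → P i := stepQ 1180 Q1180 (allL N1180 (tt N1383 (iv F8062)) (tt N1021 F6215) (tt N988 (iv D1730)) (tt N1377 (iv F8036)) (tt N1180 F6216) (tt N1353 (iv F67130)) (tt N1384 D2276) (tt N1082 F6217))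
theorem Q1182 : ∀ i, i < 1182 → P i := stepQ 1181 Q1181 (allL N1181 (tt N1181 F6225) (tt N1047 F69749) (tt N991 F6226) (tt N1181 F6227) (tt N1181 F6228) (tt N1042 (iv F69760)) (tt N1385 D2281) (tt N989 (iv D1733)))
theorem Q1183 : ∀ i, i < 1183 → P i := stepQ 1182 Q1182 (allL N1182 (tt N1182 F6234) (tt N995 F6235) (tt N1042 (iv F69759)) (tt N992 F6236) (tt N1044 (iv F69761)) (tt N991 F6237) (tt N1386 D2283) (tt N990 (iv D1735)))
theorem Q1184 : ∀ i, i < 1184 → P i := stepQ 1183 Q1183 (allL N1183 (tt N1183 F6238) (tt N996 F6239) (tt N1387 D2284) (tt N993 F6240) (tt N1183 F6241) (tt N1386 (iv F8093)) (tt N991 (iv D1736)) (tt N1183 F6242))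
theorem Q1185 : ∀ i, i < 1185 → P i := stepQ 1184 Q1184 (allL N1184 (tt N1184 F6243) (tt N997 F6244) (tt N1388 D2285) (tt N1386 (iv F8092)) (tt N1028 F6245) (tt N993 F6246) (tt N992 (iv D1737)) (tt N1184 F6247))
theorem Q1186 : ∀ i, i < 1186 → P i := stepQ 1185 Q1185 (allL N1185 (tt N1185 F6248) (tt N1389 D2286) (tt N993 (iv D1738)) (tt N1390 D2287) (tt N994 F6249) (tt N1388 (iv F8100)) (tt N1185 F6250) (tt N1185 F6251))
theorem Q1187 : ∀ i, i < 1187 → P i := stepQ 1186 Q1186 (allL N1186 (tt N1391 D2288) (tt N994 (iv D1739)) (tt N999 F6252) (tt N1039 F66613) (tt N1389 (iv F8104)) (tt N1030 F6253) (tt N1186 F6254) (tt N1186 F6255))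
theorem Q1188 : ∀ i, i < 1188 → P i := stepQ 1187 Q1187 (allL N1187 (tt N1187 F6256) (tt N1039 F66641) (tt N1187 F6257) (tt N994 (iv D1740)) (tt N1392 D2290) (tt N1031 F6258) (tt N1187 F6259) (tt N1187 F6260))
theorem Q1189 : ∀ i, i < 1189 → P i := stepQ 1188 Q1188 (allL N1188 (tt N1007 F6265) (tt N1386 (iv F8091)) (tt N1393 D2292) (tt N997 F6266) (tt N1332 (iv F69641)) (tt N996 F6267) (tt N995 (iv D1742)) (tt N1188 F6268))
theorem Q1190 : ∀ i, i < 1190 → P i := stepQ 1189 Q1189 (allL N1189 (tt N1008 F6269) (tt N1394 D2293) (tt N996 (iv D1743)) (tt N1395 D2294) (tt N1189 F6270) (tt N1393 (iv F8129)) (tt N1336 (iv F7884)) (tt N1189 F6271))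
theorem Q1191 : ∀ i, i < 1191 → P i := stepQ 1190 Q1190 (allL N1190 (tt N1009 F6272) (tt N1396 D2295) (tt N997 (iv D1744)) (tt N1397 D2296) (tt N1035 F6273) (tt N998 F6274) (tt N1001 F6275) (tt N1190 F6276))
theorem Q1192 : ∀ i, i < 1192 → P i := stepQ 1191 Q1191 (allL N1191 (tt N1398 D2297) (tt N998 (iv D1745)) (tt N1389 (iv F8103)) (tt N1399 D2298) (tt N999 F6277) (tt N1396 (iv F8137)) (tt N1002 F6278) (tt N1191 F6279))
theorem Q1193 : ∀ i, i < 1193 → P i := stepQ 1192 Q1192 (allL N1192 (tt N1011 F6280) (tt N1399 (iv F8148)) (tt N1395 (iv F8134)) (tt N998 (iv D1746)) (tt N1400 D2299) (tt N1397 (iv F8141)) (tt N1003 F6281) (tt N1192 F6282))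
theorem Q1194 : ∀ i, i < 1194 → P i := stepQ 1193 Q1193 (allL N1193 (tt N999 (iv D1747)) (tt N1012 F6283) (tt N1391 (iv F8111)) (tt N1035 (iv F66607)) (tt N1398 (iv F8145)) (tt N1037 F66488) (tt N1004 F6285) (tt N1193 F6286))
theorem Q1195 : ∀ i, i < 1195 → P i := stepQ 1194 Q1194 (allL N1194 (tt N1014 F6291) (tt N1009 F66724) (tt N1194 F6292) (tt N1400 (iv F8152)) (tt N1000 (iv D1749)) (tt N1010 F66725) (tt N1005 F6293) (tt N1194 F6294))
theorem Q1196 : ∀ i, i < 1196 → P i := stepQ 1195 Q1195 (allL N1195 (tt N1020 F66803) (tt N1001 (iv D1750)) (tt N1195 F6295) (tt N1401 D2305) (tt N1019 F66804) (tt N1002 F6297) (tt N1396 (iv F8138)) (tt N1083 F6298))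
theorem Q1197 : ∀ i, i < 1197 → P i := stepQ 1196 Q1196 (allL N1196 (tt N1015 F6299) (tt N1401 (iv F8176)) (tt N1347 (iv F7923)) (tt N1001 (iv D1751)) (tt N1402 D2306) (tt N1003 F6300) (tt N1397 (iv F8142)) (tt N1084 F6301))
theorem Q1198 : ∀ i, i < 1198 → P i := stepQ 1197 Q1197 (allL N1197 (tt N1002 (iv D1752)) (tt N1016 F6302) (tt N1197 F6303) (tt N1402 (iv F66857)) (tt N1004 F6304) (tt N1020 F66706) (tt N1398 (iv F8146)) (tt N1085 F6305))
theorem Q1199 : ∀ i, i < 1199 → P i := stepQ 1198 Q1198 (allL N1198 (tt N1402 F66992) (tt N1003 F6306) (tt N1375 (iv F67141)) (tt N1002 (iv D1753)) (tt N1015 F66993) (tt N1401 (iv F8177)) (tt N1399 (iv F8149)) (tt N1086 F6307))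
theorem Q1200 : ∀ i, i < 1200 → P i := stepQ 1199 Q1199 (allL N1199 (tt N1018 F6308) (tt N1015 (iv F66852)) (tt N1350 (iv F7933)) (tt N1005 F6309) (tt N1003 (iv D1754)) (tt N1017 (iv F66847)) (tt N1400 (iv F8153)) (tt N1087 F6310))
theorem Q1201 : ∀ i, i < 1201 → P i := stepQ 1200 Q1200 (allL N1200 (tt N1332 F69718) (tt N1200 F6337) (tt N1403 D2320) (tt N1038 F6338) (tt N1007 F6339) (tt N1200 F6340) (tt N1006 (iv D1762)) (tt N1200 F6341))
theorem Q1202 : ∀ i, i < 1202 → P i := stepQ 1201 Q1201 (allL N1201 (tt N1393 (iv F8128)) (tt N1404 D2321) (tt N1007 (iv D1763)) (tt N1405 D2322) (tt N1403 (iv F8225)) (tt N1008 F6342) (tt N1354 (iv F7974)) (tt N1201 F6343))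
theorem Q1203 : ∀ i, i < 1203 → P i := stepQ 1202 Q1202 (allL N1202 (tt N1406 D2323) (tt N1008 (iv D1764)) (tt N1202 F6344) (tt N1407 D2324) (tt N1202 F6345) (tt N1404 (iv F8229)) (tt N1356 (iv F7979)) (tt N1202 F6346))
theorem Q1204 : ∀ i, i < 1204 → P i := stepQ 1203 Q1203 (allL N1203 (tt N1395 (iv F8133)) (tt N1407 (iv F8237)) (tt N1011 F6347) (tt N1008 (iv D1765)) (tt N1408 D2325) (tt N1405 (iv F8232)) (tt N1357 (iv F7981)) (tt N1203 F6348))
theorem Q1205 : ∀ i, i < 1205 → P i := stepQ 1204 Q1204 (allL N1204 (tt N1397 (iv F8140)) (tt N1400 (iv F66862)) (tt N1405 (iv F8231)) (tt N1009 (iv D1767)) (tt N1399 (iv F66880)) (tt N1011 F6354) (tt N1015 F6355) (tt N1204 F6356))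
theorem Q1206 : ∀ i, i < 1206 → P i := stepQ 1205 Q1205 (allL N1205 (tt N1010 (iv D1768)) (tt N1398 (iv F8144)) (tt N1205 F6357) (tt N1409 D2329) (tt N1012 F6358) (tt N1014 (iv F66861)) (tt N1016 F6359) (tt N1205 F6360))
theorem Q1207 : ∀ i, i < 1207 → P i := stepQ 1206 Q1206 (allL N1206 (tt N1409 (iv F8254)) (tt N1011 F6361) (tt N1410 D2330) (tt N1010 (iv D1769)) (tt N1411 D2331) (tt N1400 (iv F66863)) (tt N1017 F6362) (tt N1206 F6363))
theorem Q1208 : ∀ i, i < 1208 → P i := stepQ 1207 Q1207 (allL N1207 (tt N1400 (iv F8151)) (tt N1411 (iv F8259)) (tt N1408 (iv F8239)) (tt N1014 F6364) (tt N1011 (iv D1770)) (tt N1409 F66989) (tt N1018 F6365) (tt N1207 F6366))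
theorem Q1209 : ∀ i, i < 1209 → P i := stepQ 1208 Q1208 (allL N1208 (tt N1013 F6367) (tt N1035 F66733) (tt N1412 D2333) (tt N1012 (iv D1771)) (tt N1396 (iv F66874)) (tt N1036 F66734) (tt N1019 F6369) (tt N1208 F6370))
theorem Q1210 : ∀ i, i < 1210 → P i := stepQ 1209 Q1209 (allL N1209 (tt N1412 (iv F8266)) (tt N1209 F6371) (tt N1013 (iv D1772)) (tt N1209 F6372) (tt N1413 D2335) (tt N1040 F6373) (tt N1209 F6374) (tt N1209 F6375))
theorem Q1211 : ∀ i, i < 1211 → P i := stepQ 1210 Q1210 (allL N1210 (tt N1396 (iv F66873)) (tt N1014 F6376) (tt N1413 (iv F8275)) (tt N1411 (iv F8260)) (tt N1013 (iv D1773)) (tt N1398 F66735) (tt N1020 F6377) (tt N1210 F6378))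
theorem Q1212 : ∀ i, i < 1212 → P i := stepQ 1211 Q1211 (allL N1211 (tt N1017 F6392) (tt N1402 F66982) (tt N1379 (iv F66871)) (tt N1016 (iv D1778)) (tt N1401 F66983) (tt N1018 (iv F66850)) (tt N1409 (iv F8255)) (tt N1088 F6393))
theorem Q1213 : ∀ i, i < 1213 → P i := stepQ 1212 Q1212 (allL N1212 (tt N1379 F66984) (tt N1377 (iv F8035)) (tt N1017 (iv D1779)) (tt N1021 F6394) (tt N1414 D2343) (tt N1350 F66985) (tt N1415 D2344) (tt N1089 F6395))
theorem Q1214 : ∀ i, i < 1214 → P i := stepQ 1213 Q1213 (allL N1213 (tt N1401 (iv F66938)) (tt N1018 F6396) (tt N1414 (iv F8300)) (tt N1020 F6397) (tt N1017 (iv D1780)) (tt N1402 (iv F66855)) (tt N1411 (iv F8261)) (tt N1090 F6398))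
theorem Q1215 : ∀ i, i < 1215 → P i := stepQ 1214 Q1214 (allL N1214 (tt N1372 (iv F67158)) (tt N1384 (iv F8065)) (tt N1214 F6423) (tt N1415 (iv F8303)) (tt N1214 F6424) (tt N1345 (iv F67131)) (tt N1021 (iv D1788)) (tt N1416 D2353))
theorem Q1216 : ∀ i, i < 1216 → P i := stepQ 1215 Q1215 (allL N1215 (tt N1215 F6434) (tt N1215 F6435) (tt N1026 F6436) (tt N1215 F6437) (tt N1096 (iv F69788)) (tt N1024 F6438) (tt N1215 F66835) (tt N1022 (iv D1791)))
theorem Q1217 : ∀ i, i < 1217 → P i := stepQ 1216 Q1216 (allL N1216 (tt N1216 F6448) (tt N1032 F6449) (tt N1096 (iv F69787)) (tt N1044 F69782) (tt N1026 F6450) (tt N1216 F6451) (tt N1417 D2361) (tt N1025 (iv D1794)))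
theorem Q1218 : ∀ i, i < 1218 → P i := stepQ 1217 Q1217 (allL N1217 (tt N1217 F6452) (tt N1033 F6453) (tt N1217 F66572) (tt N1028 F6454) (tt N1417 (iv F8367)) (tt N1027 F6455) (tt N1026 (iv D1795)) (tt N1217 F6456))
theorem Q1219 : ∀ i, i < 1219 → P i := stepQ 1218 Q1218 (allL N1218 (tt N1218 F6460) (tt N1412 F66824) (tt N1028 (iv D1797)) (tt N1218 F66825) (tt N1388 (iv F8099)) (tt N1029 F6461) (tt N1218 F6462) (tt N1218 F6463))
theorem Q1220 : ∀ i, i < 1220 → P i := stepQ 1219 Q1219 (allL N1219 (tt N1040 F66560) (tt N1029 (iv D1798)) (tt N1036 F6464) (tt N1219 F66559) (tt N1030 F6465) (tt N1412 (iv F66684)) (tt N1219 F6466) (tt N1219 F6467))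
theorem Q1221 : ∀ i, i < 1221 → P i := stepQ 1220 Q1220 (allL N1220 (tt N1030 (iv D1800)) (tt N1220 F6471) (tt N1037 F66425) (tt N1034 (iv F66522)) (tt N1040 (iv F66492)) (tt N1391 (iv F8112)) (tt N1220 F6473) (tt N1220 F6474))
theorem Q1222 : ∀ i, i < 1222 → P i := stepQ 1221 Q1221 (allL N1221 (tt N1038 F6482) (tt N1417 (iv F8366)) (tt N1418 D2374) (tt N1332 F69722) (tt N1033 F6483) (tt N1221 F6484) (tt N1032 (iv D1803)) (tt N1221 F6485))
theorem Q1223 : ∀ i, i < 1223 → P i := stepQ 1222 Q1222 (allL N1222 (tt N1039 F6486) (tt N1222 F66384) (tt N1033 (iv D1804)) (tt N1391 (iv F66634)) (tt N1418 (iv F8414)) (tt N1034 F6487) (tt N1222 F6488) (tt N1222 F6489))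
theorem Q1224 : ∀ i, i < 1224 → P i := stepQ 1223 Q1223 (allL N1223 (tt N1418 (iv F8413)) (tt N1392 (iv F66776)) (tt N1038 (iv D1832)) (tt N1419 D2413) (tt N1039 F6579) (tt N1223 F6580) (tt N1223 F6581) (tt N1223 F6582))
theorem Q1225 : ∀ i, i < 1225 → P i := stepQ 1224 Q1224 (allL N1224 (tt N1224 F6703) (tt N1048 F6704) (tt N1420 D2458) (tt N1224 F6705) (tt N1224 F6706) (tt N1043 F6707) (tt N1041 (iv D1868)) (tt N1385 (iv F69675)))
theorem Q1226 : ∀ i, i < 1226 → P i := stepQ 1225 Q1225 (allL N1225 (tt N1225 F6714) (tt N1049 F6715) (tt N1421 D2462) (tt N1225 F6716) (tt N1045 F6717) (tt N1385 F69746) (tt N1042 (iv D1871)) (tt N1043 F6718))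
theorem Q1227 : ∀ i, i < 1227 → P i := stepQ 1226 Q1226 (allL N1226 (tt N1226 F6719) (tt N1422 D2463) (tt N1043 (iv D1872)) (tt N1423 D2464) (tt N1046 F6720) (tt N1420 (iv F8702)) (tt N1226 F6721) (tt N1421 (iv F8716)))
theorem Q1228 : ∀ i, i < 1228 → P i := stepQ 1227 Q1227 (allL N1227 (tt N1227 F6729) (tt N1332 (iv F7850)) (tt N1424 D2468) (tt N1417 (iv F69763)) (tt N1386 F69724) (tt N1227 F6730) (tt N1044 (iv D1875)) (tt N1227 F6731))
theorem Q1229 : ∀ i, i < 1229 → P i := stepQ 1228 Q1228 (allL N1228 (tt N1228 F6732) (tt N1425 D2469) (tt N1045 (iv D1876)) (tt N1228 F67983) (tt N1421 (iv F8715)) (tt N1228 F6733) (tt N1424 (iv F8736)) (tt N1046 F6734))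
theorem Q1230 : ∀ i, i < 1230 → P i := stepQ 1229 Q1229 (allL N1229 (tt N1426 D2471) (tt N1046 (iv D1877)) (tt N1052 F6735) (tt N1229 F67677) (tt N1422 (iv F8718)) (tt N1229 F6736) (tt N1229 F6737) (tt N1425 (iv F8740)))
theorem Q1231 : ∀ i, i < 1231 → P i := stepQ 1230 Q1230 (allL N1230 (tt N1061 F6742) (tt N1385 (iv F69674)) (tt N1427 D2474) (tt N1230 F6743) (tt N1230 F6744) (tt N1049 F6745) (tt N1047 (iv D1879)) (tt N1048 F6746))
theorem Q1232 : ∀ i, i < 1232 → P i := stepQ 1231 Q1231 (allL N1231 (tt N1062 F6747) (tt N1428 D2475) (tt N1048 (iv D1880)) (tt N1429 D2476) (tt N1231 F6748) (tt N1050 F6749) (tt N1054 F6750) (tt N1427 (iv F8758)))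
theorem Q1233 : ∀ i, i < 1233 → P i := stepQ 1232 Q1232 (allL N1232 (tt N1063 F6751) (tt N1430 D2477) (tt N1049 (iv D1881)) (tt N1431 D2478) (tt N1051 F6752) (tt N1427 (iv F8757)) (tt N1338 (iv F7895)) (tt N1050 F6753))
theorem Q1234 : ∀ i, i < 1234 → P i := stepQ 1233 Q1233 (allL N1233 (tt N1432 D2479) (tt N1050 (iv D1882)) (tt N1422 (iv F8717)) (tt N1433 D2480) (tt N1052 F6754) (tt N1428 (iv F8760)) (tt N1055 F6755) (tt N1430 (iv F8767)))
theorem Q1235 : ∀ i, i < 1235 → P i := stepQ 1234 Q1234 (allL N1234 (tt N1065 F6756) (tt N1433 (iv F8774)) (tt N1234 F6757) (tt N1050 (iv D1883)) (tt N1434 D2481) (tt N1429 (iv F8764)) (tt N1056 F6758) (tt N1431 (iv F8770)))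
theorem Q1236 : ∀ i, i < 1236 → P i := stepQ 1235 Q1235 (allL N1235 (tt N1435 D2482) (tt N1051 (iv D1884)) (tt N1425 (iv F8738)) (tt N1436 D2483) (tt N1430 (iv F8766)) (tt N1235 F6759) (tt N1341 (iv F7902)) (tt N1052 F6760))
theorem Q1237 : ∀ i, i < 1237 → P i := stepQ 1236 Q1236 (allL N1236 (tt N1067 F6761) (tt N1436 (iv F8783)) (tt N1097 F6762) (tt N1051 (iv D1885)) (tt N1437 D2484) (tt N1236 F6763) (tt N1342 (iv F7907)) (tt N1053 F6764))
theorem Q1238 : ∀ i, i < 1238 → P i := stepQ 1237 Q1237 (allL N1237 (tt N1052 (iv D1886)) (tt N1068 F6765) (tt N1426 (iv F8746)) (tt N1438 D2485) (tt N1432 (iv F8772)) (tt N1237 F6766) (tt N1057 F6767) (tt N1435 (iv F8782)))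
theorem Q1239 : ∀ i, i < 1239 → P i := stepQ 1238 Q1238 (allL N1238 (tt N1438 (iv F8789)) (tt N1053 F6768) (tt N1238 F67678) (tt N1052 (iv D1887)) (tt N1439 D2487) (tt N1238 F6769) (tt N1058 F6770) (tt N1436 (iv F8785)))
theorem Q1240 : ∀ i, i < 1240 → P i := stepQ 1239 Q1239 (allL N1239 (tt N1070 F6771) (tt N1439 (iv F8795)) (tt N1092 (iv F67415)) (tt N1434 (iv F8778)) (tt N1053 (iv D1888)) (tt N1091 F67262) (tt N1059 F6773) (tt N1437 (iv F8788)))
theorem Q1241 : ∀ i, i < 1241 → P i := stepQ 1240 Q1240 (allL N1240 (tt N1440 D2489) (tt N1054 (iv D1889)) (tt N1240 F6774) (tt N1441 D2490) (tt N1240 F6775) (tt N1055 F6776) (tt N1428 (iv F8761)) (tt N1346 (iv F7921)))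
theorem Q1242 : ∀ i, i < 1242 → P i := stepQ 1241 Q1241 (allL N1241 (tt N1072 F6777) (tt N1441 (iv F8805)) (tt N1084 F6778) (tt N1054 (iv D1890)) (tt N1442 D2491) (tt N1056 F6779) (tt N1429 (iv F8765)) (tt N1347 (iv F7925)))
theorem Q1243 : ∀ i, i < 1243 → P i := stepQ 1242 Q1242 (allL N1242 (tt N1055 (iv D1891)) (tt N1073 F6780) (tt N1242 F6781) (tt N1443 D2492) (tt N1057 F6782) (tt N1440 (iv F8804)) (tt N1432 (iv F8773)) (tt N1348 (iv F7929)))
theorem Q1244 : ∀ i, i < 1244 → P i := stepQ 1243 Q1243 (allL N1243 (tt N1443 (iv F8810)) (tt N1056 F6783) (tt N1444 D2493) (tt N1055 (iv D1892)) (tt N1445 D2494) (tt N1441 (iv F8806)) (tt N1433 (iv F8775)) (tt N1349 (iv F7931)))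
theorem Q1245 : ∀ i, i < 1245 → P i := stepQ 1244 Q1244 (allL N1244 (tt N1075 F6784) (tt N1445 (iv F8814)) (tt N1087 F6785) (tt N1059 F6786) (tt N1056 (iv D1893)) (tt N1089 (iv F67136)) (tt N1434 (iv F8779)) (tt N1350 (iv F7935)))
theorem Q1246 : ∀ i, i < 1246 → P i := stepQ 1245 Q1245 (allL N1245 (tt N1058 F6787) (tt N1076 F6788) (tt N1446 D2496) (tt N1057 (iv D1894)) (tt N1447 D2497) (tt N1245 F6789) (tt N1438 (iv F8792)) (tt N1351 (iv F7939)))
theorem Q1247 : ∀ i, i < 1247 → P i := stepQ 1246 Q1246 (allL N1246 (tt N1446 (iv F8819)) (tt N1060 F6790) (tt N1058 (iv D1895)) (tt N1246 F6791) (tt N1080 F67527) (tt N1246 F6792) (tt N1246 F67667) (tt N1352 (iv F7943)))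
theorem Q1248 : ∀ i, i < 1248 → P i := stepQ 1247 Q1247 (allL N1247 (tt N1447 (iv F8823)) (tt N1059 F6793) (tt N1080 (iv F67364)) (tt N1445 (iv F8815)) (tt N1058 (iv D1896)) (tt N1082 F67261) (tt N1439 (iv F8796)) (tt N1353 (iv F7945)))
theorem Q1249 : ∀ i, i < 1249 → P i := stepQ 1248 Q1248 (allL N1248 (tt N1427 (iv F8755)) (tt N1448 D2505) (tt N1061 (iv D1901)) (tt N1449 D2506) (tt N1248 F6808) (tt N1063 F6809) (tt N1358 (iv F7984)) (tt N1062 F6810))
theorem Q1250 : ∀ i, i < 1250 → P i := stepQ 1249 Q1249 (allL N1249 (tt N1450 D2507) (tt N1062 (iv D1902)) (tt N1249 F6811) (tt N1451 D2508) (tt N1249 F6812) (tt N1064 F6813) (tt N1071 F6814) (tt N1448 (iv F8848)))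
theorem Q1251 : ∀ i, i < 1251 → P i := stepQ 1250 Q1250 (allL N1250 (tt N1429 (iv F8762)) (tt N1451 (iv F8856)) (tt N1250 F6815) (tt N1062 (iv D1903)) (tt N1452 D2509) (tt N1065 F6816) (tt N1072 F6817) (tt N1449 (iv F8851)))
theorem Q1252 : ∀ i, i < 1252 → P i := stepQ 1251 Q1251 (allL N1251 (tt N1453 D2510) (tt N1063 (iv D1904)) (tt N1251 F6818) (tt N1454 D2511) (tt N1066 F6819) (tt N1448 (iv F8847)) (tt N1361 (iv F7992)) (tt N1064 F6820))
theorem Q1253 : ∀ i, i < 1253 → P i := stepQ 1252 Q1252 (allL N1252 (tt N1431 (iv F8768)) (tt N1454 (iv F8865)) (tt N1252 F6821) (tt N1063 (iv D1905)) (tt N1455 D2512) (tt N1449 (iv F8850)) (tt N1362 (iv F7994)) (tt N1065 F6822))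
theorem Q1254 : ∀ i, i < 1254 → P i := stepQ 1253 Q1253 (allL N1253 (tt N1064 (iv D1906)) (tt N1432 (iv F8771)) (tt N1253 F6823) (tt N1456 D2513) (tt N1068 F6824) (tt N1450 (iv F8854)) (tt N1073 F6825) (tt N1453 (iv F8864)))
theorem Q1255 : ∀ i, i < 1255 → P i := stepQ 1254 Q1254 (allL N1254 (tt N1456 (iv F8870)) (tt N1065 F6826) (tt N1457 D2514) (tt N1064 (iv D1907)) (tt N1458 D2515) (tt N1451 (iv F8857)) (tt N1074 F6827) (tt N1454 (iv F8866)))
theorem Q1256 : ∀ i, i < 1256 → P i := stepQ 1255 Q1255 (allL N1255 (tt N1434 (iv F8776)) (tt N1458 (iv F8874)) (tt N1255 F6828) (tt N1070 F6829) (tt N1065 (iv D1908)) (tt N1459 D2516) (tt N1075 F6830) (tt N1455 (iv F8869)))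
theorem Q1257 : ∀ i, i < 1257 → P i := stepQ 1256 Q1256 (allL N1256 (tt N1066 (iv D1909)) (tt N1435 (iv F8780)) (tt N1256 F6831) (tt N1460 D2517) (tt N1453 (iv F8863)) (tt N1256 F6832) (tt N1366 (iv F8003)) (tt N1068 F6833))
theorem Q1258 : ∀ i, i < 1258 → P i := stepQ 1257 Q1257 (allL N1257 (tt N1460 (iv F8880)) (tt N1067 F6834) (tt N1461 D2518) (tt N1066 (iv D1910)) (tt N1462 D2519) (tt N1257 F6835) (tt N1367 (iv F8007)) (tt N1069 F6836))
theorem Q1259 : ∀ i, i < 1259 → P i := stepQ 1258 Q1258 (allL N1258 (tt N1437 (iv F8786)) (tt N1462 (iv F8887)) (tt N1099 F6837) (tt N1455 (iv F8868)) (tt N1067 (iv D1911)) (tt N1463 D2520) (tt N1368 (iv F8010)) (tt N1070 F6838))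
theorem Q1260 : ∀ i, i < 1260 → P i := stepQ 1259 Q1259 (allL N1259 (tt N1069 F6839) (tt N1438 (iv F8790)) (tt N1464 D2521) (tt N1068 (iv D1912)) (tt N1465 D2522) (tt N1259 F6840) (tt N1076 F6841) (tt N1460 (iv F8882)))
theorem Q1261 : ∀ i, i < 1261 → P i := stepQ 1260 Q1260 (allL N1260 (tt N1464 (iv F8892)) (tt N1100 F6842) (tt N1069 (iv D1913)) (tt N1260 F6843) (tt N1466 D2523) (tt N1260 F6844) (tt N1260 F6845) (tt N1461 (iv F8886)))
theorem Q1262 : ∀ i, i < 1262 → P i := stepQ 1261 Q1261 (allL N1261 (tt N1465 (iv F8896)) (tt N1070 F6846) (tt N1466 (iv F8899)) (tt N1458 (iv F8875)) (tt N1069 (iv D1914)) (tt N1467 D2524) (tt N1077 F6847) (tt N1462 (iv F8888)))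
theorem Q1263 : ∀ i, i < 1263 → P i := stepQ 1262 Q1262 (allL N1262 (tt N1091 F67297) (tt N1467 (iv F8901)) (tt N1094 (iv F67460)) (tt N1459 (iv F8878)) (tt N1262 F6849) (tt N1070 (iv D1915)) (tt N1078 F6850) (tt N1463 (iv F8891)))
theorem Q1264 : ∀ i, i < 1264 → P i := stepQ 1263 Q1263 (allL N1263 (tt N1071 (iv D1916)) (tt N1440 (iv F8801)) (tt N1079 F6851) (tt N1468 D2525) (tt N1263 F6852) (tt N1073 F6853) (tt N1450 (iv F8855)) (tt N1373 (iv F8026)))
theorem Q1265 : ∀ i, i < 1265 → P i := stepQ 1264 Q1264 (allL N1264 (tt N1468 (iv F8904)) (tt N1072 F6854) (tt N1445 F67279) (tt N1071 (iv D1917)) (tt N1444 (iv F67441)) (tt N1074 F6855) (tt N1451 (iv F8858)) (tt N1374 (iv F8029)))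
theorem Q1266 : ∀ i, i < 1266 → P i := stepQ 1265 Q1265 (allL N1265 (tt N1442 (iv F8807)) (tt N1444 (iv F67440)) (tt N1086 F67283) (tt N1265 F6857) (tt N1072 (iv D1918)) (tt N1469 D2528) (tt N1452 (iv F8861)) (tt N1375 (iv F8032)))
theorem Q1267 : ∀ i, i < 1267 → P i := stepQ 1266 Q1266 (allL N1266 (tt N1074 F6858) (tt N1443 (iv F8811)) (tt N1470 D2529) (tt N1073 (iv D1919)) (tt N1471 D2530) (tt N1468 (iv F8905)) (tt N1456 (iv F8871)) (tt N1376 (iv F8034)))
theorem Q1268 : ∀ i, i < 1268 → P i := stepQ 1267 Q1267 (allL N1267 (tt N1470 (iv F8914)) (tt N1089 F6859) (tt N1074 (iv D1920)) (tt N1082 F6860) (tt N1472 D2531) (tt N1445 F67270) (tt N1473 D2532) (tt N1377 (iv F8037)))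
theorem Q1269 : ∀ i, i < 1269 → P i := stepQ 1268 Q1268 (allL N1268 (tt N1471 (iv F8916)) (tt N1075 F6861) (tt N1472 (iv F8919)) (tt N1077 F6862) (tt N1074 (iv D1921)) (tt N1474 D2533) (tt N1458 (iv F8876)) (tt N1378 (iv F8040)))
theorem Q1270 : ∀ i, i < 1270 → P i := stepQ 1269 Q1269 (allL N1269 (tt N1089 (iv F67135)) (tt N1474 (iv F8923)) (tt N1088 F67001) (tt N1078 F6864) (tt N1469 (iv F8913)) (tt N1075 (iv D1922)) (tt N1459 (iv F8879)) (tt N1379 (iv F8043)))
theorem Q1271 : ∀ i, i < 1271 → P i := stepQ 1270 Q1270 (allL N1270 (tt N1077 F6865) (tt N1447 (iv F8824)) (tt N1270 F6866) (tt N1471 (iv F8917)) (tt N1076 (iv D1923)) (tt N1475 D2534) (tt N1465 (iv F8897)) (tt N1380 (iv F8046)))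
theorem Q1272 : ∀ i, i < 1272 → P i := stepQ 1271 Q1271 (allL N1271 (tt N1475 (iv F8925)) (tt N1078 F6867) (tt N1271 F6868) (tt N1474 (iv F8924)) (tt N1271 F6869) (tt N1077 (iv D1924)) (tt N1467 (iv F8903)) (tt N1381 (iv F8050)))
theorem Q1273 : ∀ i, i < 1273 → P i := stepQ 1272 Q1272 (allL N1272 (tt N1080 F6870) (tt N1272 F6871) (tt N1447 F67525) (tt N1079 (iv D1925)) (tt N1446 (iv F67665)) (tt N1081 F6872) (tt N1272 F6873) (tt N1382 (iv F8054)))
theorem Q1274 : ∀ i, i < 1274 → P i := stepQ 1273 Q1273 (allL N1273 (tt N1082 F6880) (tt N1475 (iv F67458)) (tt N1081 (iv D1928)) (tt N1470 (iv F8915)) (tt N1273 F6881) (tt N1447 (iv F67416)) (tt N1476 D2540) (tt N1383 (iv F8064)))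
theorem Q1275 : ∀ i, i < 1275 → P i := stepQ 1274 Q1274 (allL N1274 (tt N1476 (iv F8944)) (tt N1091 F6882) (tt N1274 F6883) (tt N1473 (iv F8922)) (tt N1274 F6884) (tt N1439 (iv F67417)) (tt N1082 (iv D1929)) (tt N1477 D2541))
theorem Q1276 : ∀ i, i < 1276 → P i := stepQ 1275 Q1275 (allL N1275 (tt N1090 (iv F66956)) (tt N1084 F6890) (tt N1469 (iv F67150)) (tt N1083 (iv D1931)) (tt N1088 (iv F67003)) (tt N1086 F6891) (tt N1275 F6892) (tt N1401 (iv F8178)))
theorem Q1277 : ∀ i, i < 1277 → P i := stepQ 1276 Q1276 (allL N1276 (tt N1086 (iv F67142)) (tt N1088 (iv F67002)) (tt N1442 (iv F8808)) (tt N1085 F66996) (tt N1084 (iv D1932)) (tt N1090 F66995) (tt N1276 F6895) (tt N1402 (iv F8181)))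
theorem Q1278 : ∀ i, i < 1278 → P i := stepQ 1277 Q1277 (allL N1277 (tt N1469 F66998) (tt N1472 (iv F8918)) (tt N1090 F6950) (tt N1277 F6951) (tt N1089 (iv D1952)) (tt N1442 (iv F67146)) (tt N1478 D2572) (tt N1414 (iv F8302)))
theorem Q1279 : ∀ i, i < 1279 → P i := stepQ 1278 Q1278 (allL N1278 (tt N1459 F67273) (tt N1473 (iv F8921)) (tt N1278 F6952) (tt N1091 F6953) (tt N1478 (iv F9039)) (tt N1434 F67274) (tt N1089 (iv D1953)) (tt N1479 D2573))
theorem Q1280 : ∀ i, i < 1280 → P i := stepQ 1279 Q1279 (allL N1279 (tt N1463 (iv F67461)) (tt N1477 (iv F8947)) (tt N1095 F6977) (tt N1479 (iv F9041)) (tt N1279 F6978) (tt N1437 (iv F67418)) (tt N1416 (iv F8333)) (tt N1091 (iv D1962)))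
theorem Q1281 : ∀ i, i < 1281 → P i := stepQ 1280 Q1280 (allL N1280 (tt N1099 (iv F67702)) (tt N1280 F7117) (tt N1437 F67569) (tt N1280 F7118) (tt N1097 (iv F67676)) (tt N1095 F7119) (tt N1280 F7120) (tt N1092 (iv D2008)))
theorem Q1282 : ∀ i, i < 1282 → P i := stepQ 1281 Q1281 (allL N1281 (tt N1281 F7121) (tt N1094 F7122) (tt N1480 D2639) (tt N1281 F7123) (tt N1281 F7124) (tt N1101 (iv F67701)) (tt N1093 (iv D2009)) (tt N1481 D2640))
theorem Q1283 : ∀ i, i < 1283 → P i := stepQ 1282 Q1282 (allL N1282 (tt N1095 F7125) (tt N1481 (iv F9252)) (tt N1463 F67624) (tt N1282 F7126) (tt N1282 F7127) (tt N1099 (iv F67703)) (tt N1282 F7128) (tt N1094 (iv D2010)))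
theorem Q1284 : ∀ i, i < 1284 → P i := stepQ 1283 Q1283 (allL N1283 (tt N1283 F68003) (tt N1461 (iv F8883)) (tt N1098 (iv D2056)) (tt N1283 F7301) (tt N1482 D2698) (tt N1283 F7302) (tt N1483 D2699) (tt N1100 F7303))
theorem Q1285 : ∀ i, i < 1285 → P i := stepQ 1284 Q1284 (allL N1284 (tt N1284 F68000) (tt N1099 F7304) (tt N1482 (iv F9470)) (tt N1284 F7305) (tt N1098 (iv D2057)) (tt N1481 F67863) (tt N1284 F7306) (tt N1101 F7307))
theorem Q1286 : ∀ i, i < 1286 → P i := stepQ 1285 Q1285 (allL N1285 (tt N1285 F67999) (tt N1466 (iv F8898)) (tt N1101 F7319) (tt N1484 D2704) (tt N1100 (iv D2061)) (tt N1480 F67862) (tt N1285 F7320) (tt N1482 (iv F9471)))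
theorem Q1287 : ∀ i, i < 1287 → P i := stepQ 1286 Q1286 (allL N1286 (tt N1138 F7591) (tt N1108 F7592) (tt N1485 D2796) (tt N1159 F69660) (tt N1104 F7593) (tt N1157 F69661) (tt N1102 (iv D2133)) (tt N1156 F69662))
theorem Q1288 : ∀ i, i < 1288 → P i := stepQ 1287 Q1287 (allL N1287 (tt N1140 F7603) (tt N1109 F7604) (tt N1486 D2800) (tt N1287 F7605) (tt N1156 F69659) (tt N1287 F7606) (tt N1103 (iv D2136)) (tt N1104 F7607))
theorem Q1289 : ∀ i, i < 1289 → P i := stepQ 1288 Q1288 (allL N1288 (tt N1141 F7608) (tt N1487 D2801) (tt N1104 (iv D2137)) (tt N1488 D2802) (tt N1485 (iv F9828)) (tt N1288 F7609) (tt N1288 F7610) (tt N1486 (iv F9845)))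
theorem Q1290 : ∀ i, i < 1290 → P i := stepQ 1289 Q1289 (allL N1289 (tt N1117 F7629) (tt N1159 F69656) (tt N1489 D2811) (tt N1108 F7630) (tt N1289 F7631) (tt N1119 F69657) (tt N1105 (iv D2143)) (tt N1118 F69658))
theorem Q1291 : ∀ i, i < 1291 → P i := stepQ 1290 Q1290 (allL N1290 (tt N1118 F7636) (tt N1157 F69650) (tt N1490 D2813) (tt N1119 F69651) (tt N1290 F7637) (tt N1108 F7638) (tt N1106 (iv D2145)) (tt N1117 F69652))
theorem Q1292 : ∀ i, i < 1292 → P i := stepQ 1291 Q1291 (allL N1291 (tt N1119 F7639) (tt N1156 F69653) (tt N1491 D2814) (tt N1118 F69654) (tt N1109 F7640) (tt N1117 F69655) (tt N1107 (iv D2146)) (tt N1108 F7641))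
theorem Q1293 : ∀ i, i < 1293 → P i := stepQ 1292 Q1292 (allL N1292 (tt N1120 F7642) (tt N1492 D2815) (tt N1108 (iv D2147)) (tt N1493 D2816) (tt N1110 F7643) (tt N1490 (iv F9893)) (tt N1112 F7644) (tt N1491 (iv F9898)))
theorem Q1294 : ∀ i, i < 1294 → P i := stepQ 1293 Q1293 (allL N1293 (tt N1121 F7645) (tt N1494 D2817) (tt N1109 (iv D2148)) (tt N1495 D2818) (tt N1491 (iv F9896)) (tt N1293 F7646) (tt N1293 F7647) (tt N1110 F7648))
theorem Q1295 : ∀ i, i < 1295 → P i := stepQ 1294 Q1294 (allL N1294 (tt N1496 D2819) (tt N1110 (iv D2149)) (tt N1487 (iv F9846)) (tt N1497 D2820) (tt N1492 (iv F9899)) (tt N1294 F7649) (tt N1113 F7650) (tt N1494 (iv F9905)))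
theorem Q1296 : ∀ i, i < 1296 → P i := stepQ 1295 Q1295 (allL N1295 (tt N1123 F7651) (tt N1497 (iv F9914)) (tt N1295 F7652) (tt N1110 (iv D2150)) (tt N1498 D2821) (tt N1295 F7653) (tt N1114 F7654) (tt N1495 (iv F9910)))
theorem Q1297 : ∀ i, i < 1297 → P i := stepQ 1296 Q1296 (allL N1296 (tt N1124 F7655) (tt N1499 D2822) (tt N1111 (iv D2151)) (tt N1500 D2823) (tt N1296 F7656) (tt N1112 F7657) (tt N1490 (iv F9894)) (tt N1296 F7658))
theorem Q1298 : ∀ i, i < 1298 → P i := stepQ 1297 Q1297 (allL N1297 (tt N1501 D2824) (tt N1112 (iv D2152)) (tt N1297 F7659) (tt N1502 D2825) (tt N1113 F7660) (tt N1499 (iv F9922)) (tt N1492 (iv F9900)) (tt N1297 F7661))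
theorem Q1299 : ∀ i, i < 1299 → P i := stepQ 1298 Q1298 (allL N1298 (tt N1126 F7662) (tt N1502 (iv F9932)) (tt N1298 F7663) (tt N1112 (iv D2153)) (tt N1503 D2826) (tt N1500 (iv F9926)) (tt N1493 (iv F9902)) (tt N1298 F7664))
theorem Q1300 : ∀ i, i < 1300 → P i := stepQ 1299 Q1299 (allL N1299 (tt N1113 (iv D2154)) (tt N1127 F7665) (tt N1299 F7666) (tt N1504 D2827) (tt N1501 (iv F9930)) (tt N1299 F7667) (tt N1496 (iv F9913)) (tt N1299 F7668))
theorem Q1301 : ∀ i, i < 1301 → P i := stepQ 1300 Q1300 (allL N1300 (tt N1504 (iv F9938)) (tt N1114 F7669) (tt N1505 D2828) (tt N1113 (iv D2155)) (tt N1506 D2829) (tt N1300 F7670) (tt N1497 (iv F9916)) (tt N1300 F7671))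
theorem Q1302 : ∀ i, i < 1302 → P i := stepQ 1301 Q1301 (allL N1301 (tt N1129 F7672) (tt N1506 (iv F9946)) (tt N1116 F7673) (tt N1503 (iv F9936)) (tt N1114 (iv D2156)) (tt N1507 D2830) (tt N1498 (iv F9919)) (tt N1301 F7674))
theorem Q1303 : ∀ i, i < 1303 → P i := stepQ 1302 Q1302 (allL N1302 (tt N1302 F7675) (tt N1505 (iv F9942)) (tt N1115 (iv D2157)) (tt N1302 F7676) (tt N1508 D2831) (tt N1302 F7677) (tt N1509 D2832) (tt N1302 F7678))
theorem Q1304 : ∀ i, i < 1304 → P i := stepQ 1303 Q1303 (allL N1303 (tt N1303 F7679) (tt N1116 F7680) (tt N1508 (iv F9953)) (tt N1303 F7681) (tt N1115 (iv D2158)) (tt N1510 D2833) (tt N1303 F7682) (tt N1303 F7683))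
theorem Q1305 : ∀ i, i < 1305 → P i := stepQ 1304 Q1304 (allL N1304 (tt N1130 F7684) (tt N1510 (iv F9960)) (tt N1507 (iv F9949)) (tt N1304 F7685) (tt N1304 F7686) (tt N1116 (iv D2159)) (tt N1304 F7687) (tt N1304 F7688))
theorem Q1306 : ∀ i, i < 1306 → P i := stepQ 1305 Q1305 (allL N1305 (tt N1489 (iv F9884)) (tt N1511 D2842) (tt N1117 (iv D2167)) (tt N1512 D2843) (tt N1305 F7716) (tt N1491 F69678) (tt N1305 F7717) (tt N1490 F69679))
theorem Q1307 : ∀ i, i < 1307 → P i := stepQ 1306 Q1306 (allL N1306 (tt N1490 (iv F9891)) (tt N1513 D2845) (tt N1118 (iv D2169)) (tt N1514 D2846) (tt N1306 F7722) (tt N1120 F7723) (tt N1124 F7724) (tt N1489 (iv F69551)))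
theorem Q1308 : ∀ i, i < 1308 → P i := stepQ 1307 Q1307 (allL N1307 (tt N1491 (iv F9895)) (tt N1515 D2847) (tt N1119 (iv D2170)) (tt N1516 D2848) (tt N1121 F7725) (tt N1489 (iv F69550)) (tt N1307 F7726) (tt N1120 F7727))
theorem Q1309 : ∀ i, i < 1309 → P i := stepQ 1308 Q1308 (allL N1308 (tt N1517 D2849) (tt N1120 (iv D2171)) (tt N1162 F7728) (tt N1518 D2850) (tt N1122 F7729) (tt N1513 (iv F10004)) (tt N1125 F7730) (tt N1515 (iv F10011)))
theorem Q1310 : ∀ i, i < 1310 → P i := stepQ 1309 Q1309 (allL N1309 (tt N1493 (iv F9901)) (tt N1518 (iv F10017)) (tt N1512 (iv F9996)) (tt N1120 (iv D2172)) (tt N1519 D2851) (tt N1514 (iv F10006)) (tt N1126 F7731) (tt N1516 (iv F10013)))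
theorem Q1311 : ∀ i, i < 1311 → P i := stepQ 1310 Q1310 (allL N1310 (tt N1520 D2852) (tt N1121 (iv D2173)) (tt N1164 F7732) (tt N1521 D2853) (tt N1515 (iv F10009)) (tt N1310 F7733) (tt N1310 F7734) (tt N1122 F7735))
theorem Q1312 : ∀ i, i < 1312 → P i := stepQ 1311 Q1311 (allL N1311 (tt N1495 (iv F9906)) (tt N1521 (iv F10025)) (tt N1311 F7736) (tt N1121 (iv D2174)) (tt N1522 D2854) (tt N1311 F7737) (tt N1311 F7738) (tt N1123 F7739))
theorem Q1313 : ∀ i, i < 1313 → P i := stepQ 1312 Q1312 (allL N1312 (tt N1122 (iv D2175)) (tt N1496 (iv F9911)) (tt N1166 F7740) (tt N1523 D2855) (tt N1517 (iv F10015)) (tt N1312 F7741) (tt N1127 F7742) (tt N1520 (iv F10024)))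
theorem Q1314 : ∀ i, i < 1314 → P i := stepQ 1313 Q1313 (allL N1313 (tt N1523 (iv F10032)) (tt N1123 F7743) (tt N1524 D2856) (tt N1122 (iv D2176)) (tt N1525 D2857) (tt N1313 F7744) (tt N1128 F7745) (tt N1521 (iv F10028)))
theorem Q1315 : ∀ i, i < 1315 → P i := stepQ 1314 Q1314 (allL N1314 (tt N1498 (iv F9917)) (tt N1525 (iv F10039)) (tt N1314 F7746) (tt N1519 (iv F10019)) (tt N1123 (iv D2177)) (tt N1526 D2858) (tt N1129 F7747) (tt N1522 (iv F10031)))
theorem Q1316 : ∀ i, i < 1316 → P i := stepQ 1315 Q1315 (allL N1315 (tt N1527 D2859) (tt N1124 (iv D2178)) (tt N1131 F7748) (tt N1528 D2860) (tt N1315 F7749) (tt N1125 F7750) (tt N1513 (iv F10005)) (tt N1315 F7751))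
theorem Q1317 : ∀ i, i < 1317 → P i := stepQ 1316 Q1316 (allL N1316 (tt N1500 (iv F9924)) (tt N1528 (iv F10048)) (tt N1316 F7752) (tt N1124 (iv D2179)) (tt N1529 D2861) (tt N1126 F7753) (tt N1514 (iv F10007)) (tt N1316 F7754))
theorem Q1318 : ∀ i, i < 1318 → P i := stepQ 1317 Q1317 (allL N1317 (tt N1125 (iv D2180)) (tt N1501 (iv F9928)) (tt N1133 F7755) (tt N1530 D2862) (tt N1127 F7756) (tt N1527 (iv F10046)) (tt N1517 (iv F10016)) (tt N1317 F7757))
theorem Q1319 : ∀ i, i < 1319 → P i := stepQ 1318 Q1318 (allL N1318 (tt N1530 (iv F10054)) (tt N1126 F7758) (tt N1531 D2863) (tt N1125 (iv D2181)) (tt N1532 D2864) (tt N1528 (iv F10049)) (tt N1518 (iv F10018)) (tt N1318 F7759))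
theorem Q1320 : ∀ i, i < 1320 → P i := stepQ 1319 Q1319 (allL N1319 (tt N1503 (iv F9934)) (tt N1532 (iv F10059)) (tt N1319 F7760) (tt N1129 F7761) (tt N1126 (iv D2182)) (tt N1533 D2865) (tt N1519 (iv F10020)) (tt N1319 F7762))
theorem Q1321 : ∀ i, i < 1321 → P i := stepQ 1320 Q1320 (allL N1320 (tt N1128 F7763) (tt N1504 (iv F9939)) (tt N1320 F7764) (tt N1127 (iv D2183)) (tt N1534 D2866) (tt N1320 F7765) (tt N1523 (iv F10034)) (tt N1320 F7766))
theorem Q1322 : ∀ i, i < 1322 → P i := stepQ 1321 Q1321 (allL N1321 (tt N1534 (iv F10065)) (tt N1129 F7767) (tt N1321 F7768) (tt N1532 (iv F10060)) (tt N1128 (iv D2184)) (tt N1535 D2867) (tt N1525 (iv F10040)) (tt N1321 F7769))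
theorem Q1323 : ∀ i, i < 1323 → P i := stepQ 1322 Q1322 (allL N1322 (tt N1507 (iv F9948)) (tt N1535 (iv F10068)) (tt N1130 F7770) (tt N1533 (iv F10063)) (tt N1322 F7771) (tt N1129 (iv D2185)) (tt N1526 (iv F10043)) (tt N1322 F7772))
theorem Q1324 : ∀ i, i < 1324 → P i := stepQ 1323 Q1323 (allL N1323 (tt N1131 (iv D2186)) (tt N1323 F7773) (tt N1527 (iv F10044)) (tt N1536 D2868) (tt N1323 F7774) (tt N1133 F7775) (tt N1177 F7776) (tt N1323 F7777))
theorem Q1325 : ∀ i, i < 1325 → P i := stepQ 1324 Q1324 (allL N1324 (tt N1536 (iv F10072)) (tt N1132 F7778) (tt N1537 D2869) (tt N1131 (iv D2187)) (tt N1538 D2870) (tt N1134 F7779) (tt N1178 F7780) (tt N1324 F7781))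
theorem Q1326 : ∀ i, i < 1326 → P i := stepQ 1325 Q1325 (allL N1325 (tt N1325 F7782) (tt N1538 (iv F10080)) (tt N1325 F7783) (tt N1325 F7784) (tt N1132 (iv D2188)) (tt N1325 F7785) (tt N1155 F67365) (tt N1325 F7787))
theorem Q1327 : ∀ i, i < 1327 → P i := stepQ 1326 Q1326 (allL N1326 (tt N1134 F7788) (tt N1326 F7789) (tt N1539 D2871) (tt N1133 (iv D2189)) (tt N1326 F7790) (tt N1536 (iv F10074)) (tt N1179 F7791) (tt N1326 F7792))
theorem Q1328 : ∀ i, i < 1328 → P i := stepQ 1327 Q1327 (allL N1327 (tt N1539 (iv F10085)) (tt N1327 F7793) (tt N1134 (iv D2190)) (tt N1531 (iv F10057)) (tt N1327 F7794) (tt N1537 (iv F10078)) (tt N1540 D2872) (tt N1327 F7795))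
theorem Q1329 : ∀ i, i < 1329 → P i := stepQ 1328 Q1328 (allL N1328 (tt N1159 (iv F69530)) (tt N1142 F7820) (tt N1541 D2887) (tt N1138 F7821) (tt N1328 F7822) (tt N1144 (iv F69546)) (tt N1135 (iv D2199)) (tt N1143 F69411))
theorem Q1330 : ∀ i, i < 1330 → P i := stepQ 1329 Q1329 (allL N1329 (tt N1157 (iv F69548)) (tt N1143 F7830) (tt N1542 D2891) (tt N1144 (iv F69545)) (tt N1329 F7831) (tt N1138 F7832) (tt N1136 (iv D2202)) (tt N1142 (iv F69544)))
theorem Q1331 : ∀ i, i < 1331 → P i := stepQ 1330 Q1330 (allL N1330 (tt N1156 (iv F69529)) (tt N1144 F7838) (tt N1543 D2895) (tt N1143 F69410) (tt N1140 F7839) (tt N1142 (iv F69543)) (tt N1137 (iv D2205)) (tt N1138 F7840))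
theorem Q1332 : ∀ i, i < 1332 → P i := stepQ 1331 Q1331 (allL N1331 (tt N1485 (iv F9827)) (tt N1544 D2896) (tt N1138 (iv D2206)) (tt N1545 D2897) (tt N1141 F7841) (tt N1542 (iv F10148)) (tt N1331 F7842) (tt N1543 (iv F10159)))
theorem Q1333 : ∀ i, i < 1333 → P i := stepQ 1332 Q1332 (allL N1332 (tt N1200 (iv F69718)) (tt N1227 F7850) (tt N1546 D2901) (tt N1221 (iv F69722)) (tt N1188 F69641) (tt N1332 F7851) (tt N1139 (iv D2209)) (tt N1332 F7852))
theorem Q1334 : ∀ i, i < 1334 → P i := stepQ 1333 Q1333 (allL N1333 (tt N1486 (iv F9843)) (tt N1547 D2902) (tt N1140 (iv D2210)) (tt N1548 D2903) (tt N1543 (iv F10158)) (tt N1333 F7853) (tt N1546 (iv F10176)) (tt N1141 F7854))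
theorem Q1335 : ∀ i, i < 1335 → P i := stepQ 1334 Q1334 (allL N1334 (tt N1549 D2904) (tt N1141 (iv D2211)) (tt N1147 F7855) (tt N1550 D2905) (tt N1544 (iv F10161)) (tt N1334 F7856) (tt N1334 F7857) (tt N1547 (iv F10180)))
theorem Q1336 : ∀ i, i < 1336 → P i := stepQ 1335 Q1335 (allL N1335 (tt N1488 (iv F9849)) (tt N1550 (iv F10187)) (tt N1335 F7858) (tt N1141 (iv D2212)) (tt N1551 D2906) (tt N1335 F7859) (tt N1335 F7860) (tt N1548 (iv F10183)))
theorem Q1337 : ∀ i, i < 1337 → P i := stepQ 1336 Q1336 (allL N1336 (tt N1158 F7882) (tt N1552 D2912) (tt N1142 (iv D2218)) (tt N1553 D2913) (tt N1336 F7883) (tt N1543 F69402) (tt N1189 F7884) (tt N1542 F69403))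
theorem Q1338 : ∀ i, i < 1338 → P i := stepQ 1337 Q1337 (allL N1337 (tt N1160 F7889) (tt N1554 D2915) (tt N1143 (iv D2220)) (tt N1555 D2916) (tt N1337 F7890) (tt N1145 F7891) (tt N1149 F7892) (tt N1541 (iv F69258)))
theorem Q1339 : ∀ i, i < 1339 → P i := stepQ 1338 Q1338 (allL N1338 (tt N1161 F7893) (tt N1556 D2917) (tt N1144 (iv D2221)) (tt N1557 D2918) (tt N1146 F7894) (tt N1541 F69399) (tt N1232 F7895) (tt N1145 F7896))
theorem Q1340 : ∀ i, i < 1340 → P i := stepQ 1339 Q1339 (allL N1339 (tt N1558 D2919) (tt N1145 (iv D2222)) (tt N1544 (iv F10160)) (tt N1559 D2920) (tt N1147 F7897) (tt N1554 (iv F10223)) (tt N1150 F7898) (tt N1556 (iv F10230)))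
theorem Q1341 : ∀ i, i < 1341 → P i := stepQ 1340 Q1340 (allL N1340 (tt N1163 F7899) (tt N1559 (iv F10237)) (tt N1553 (iv F10215)) (tt N1145 (iv D2223)) (tt N1560 D2921) (tt N1555 (iv F10226)) (tt N1151 F7900) (tt N1557 (iv F10233)))
theorem Q1342 : ∀ i, i < 1342 → P i := stepQ 1341 Q1341 (allL N1341 (tt N1561 D2922) (tt N1146 (iv D2224)) (tt N1547 (iv F10178)) (tt N1562 D2923) (tt N1556 (iv F10228)) (tt N1341 F7901) (tt N1235 F7902) (tt N1147 F7903))
theorem Q1343 : ∀ i, i < 1343 → P i := stepQ 1342 Q1342 (allL N1342 (tt N1165 F7904) (tt N1562 (iv F10246)) (tt N1342 F7905) (tt N1146 (iv D2225)) (tt N1563 D2924) (tt N1342 F7906) (tt N1236 F7907) (tt N1148 F7908))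
theorem Q1344 : ∀ i, i < 1344 → P i := stepQ 1343 Q1343 (allL N1343 (tt N1147 (iv D2226)) (tt N1166 F7909) (tt N1549 (iv F10184)) (tt N1564 D2925) (tt N1558 (iv F10235)) (tt N1343 F7910) (tt N1152 F7911) (tt N1561 (iv F10245)))
theorem Q1345 : ∀ i, i < 1345 → P i := stepQ 1344 Q1344 (allL N1344 (tt N1564 (iv F10254)) (tt N1148 F7912) (tt N1565 D2926) (tt N1147 (iv D2227)) (tt N1566 D2927) (tt N1344 F7913) (tt N1153 F7914) (tt N1562 (iv F10249)))
theorem Q1346 : ∀ i, i < 1346 → P i := stepQ 1345 Q1345 (allL N1345 (tt N1168 F7915) (tt N1566 (iv F10260)) (tt N1345 F7916) (tt N1560 (iv F10240)) (tt N1148 (iv D2228)) (tt N1214 F67131) (tt N1154 F7917) (tt N1563 (iv F10253)))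
theorem Q1347 : ∀ i, i < 1347 → P i := stepQ 1346 Q1346 (allL N1346 (tt N1567 D2929) (tt N1149 (iv D2229)) (tt N1346 F7918) (tt N1568 D2930) (tt N1346 F7919) (tt N1150 F7920) (tt N1554 (iv F10224)) (tt N1240 F7921))
theorem Q1348 : ∀ i, i < 1348 → P i := stepQ 1347 Q1347 (allL N1347 (tt N1170 F7922) (tt N1568 (iv F10271)) (tt N1196 F7923) (tt N1149 (iv D2230)) (tt N1569 D2931) (tt N1151 F7924) (tt N1555 (iv F10227)) (tt N1241 F7925))
theorem Q1349 : ∀ i, i < 1349 → P i := stepQ 1348 Q1348 (allL N1348 (tt N1150 (iv D2231)) (tt N1171 F7926) (tt N1348 F7927) (tt N1570 D2932) (tt N1152 F7928) (tt N1567 (iv F10269)) (tt N1558 (iv F10236)) (tt N1242 F7929))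
theorem Q1350 : ∀ i, i < 1350 → P i := stepQ 1349 Q1349 (allL N1349 (tt N1570 (iv F10278)) (tt N1151 F7930) (tt N1571 D2933) (tt N1150 (iv D2232)) (tt N1572 D2934) (tt N1568 (iv F10272)) (tt N1559 (iv F10238)) (tt N1243 F7931))
theorem Q1351 : ∀ i, i < 1351 → P i := stepQ 1350 Q1350 (allL N1350 (tt N1173 F7932) (tt N1572 (iv F10284)) (tt N1199 F7933) (tt N1154 F7934) (tt N1151 (iv D2233)) (tt N1212 (iv F66985)) (tt N1560 (iv F10241)) (tt N1244 F7935))
theorem Q1352 : ∀ i, i < 1352 → P i := stepQ 1351 Q1351 (allL N1351 (tt N1153 F7936) (tt N1174 F7937) (tt N1573 D2936) (tt N1152 (iv D2234)) (tt N1574 D2937) (tt N1351 F7938) (tt N1564 (iv F10257)) (tt N1245 F7939))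
theorem Q1353 : ∀ i, i < 1353 → P i := stepQ 1352 Q1352 (allL N1352 (tt N1573 (iv F10291)) (tt N1155 F7940) (tt N1153 (iv D2235)) (tt N1352 F7941) (tt N1178 F67363) (tt N1352 F7942) (tt N1538 (iv F67526)) (tt N1246 F7943))
theorem Q1354 : ∀ i, i < 1354 → P i := stepQ 1353 Q1353 (allL N1353 (tt N1574 (iv F10296)) (tt N1154 F7944) (tt N1178 (iv F67216)) (tt N1572 (iv F10285)) (tt N1153 (iv D2236)) (tt N1180 F67130) (tt N1566 (iv F10261)) (tt N1247 F7945))
theorem Q1355 : ∀ i, i < 1355 → P i := stepQ 1354 Q1354 (allL N1354 (tt N1543 F69384) (tt N1575 D2948) (tt N1156 (iv D2244)) (tt N1576 D2949) (tt N1486 (iv F69534)) (tt N1158 F7973) (tt N1201 F7974) (tt N1485 (iv F69536)))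
theorem Q1356 : ∀ i, i < 1356 → P i := stepQ 1355 Q1355 (allL N1355 (tt N1542 F69414) (tt N1577 D2950) (tt N1157 (iv D2245)) (tt N1578 D2951) (tt N1355 F7975) (tt N1485 (iv F69535)) (tt N1355 F7976) (tt N1158 F7977))
theorem Q1357 : ∀ i, i < 1357 → P i := stepQ 1356 Q1356 (allL N1356 (tt N1579 D2952) (tt N1158 (iv D2246)) (tt N1511 (iv F9993)) (tt N1580 D2953) (tt N1356 F7978) (tt N1575 (iv F10334)) (tt N1202 F7979) (tt N1577 (iv F10341)))
theorem Q1358 : ∀ i, i < 1358 → P i := stepQ 1357 Q1357 (allL N1357 (tt N1553 (iv F10214)) (tt N1580 (iv F10347)) (tt N1163 F7980) (tt N1158 (iv D2247)) (tt N1581 D2954) (tt N1576 (iv F10337)) (tt N1203 F7981) (tt N1578 (iv F10344)))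
theorem Q1359 : ∀ i, i < 1359 → P i := stepQ 1358 Q1358 (allL N1358 (tt N1541 F69383) (tt N1582 D2955) (tt N1159 (iv D2248)) (tt N1583 D2956) (tt N1358 F7982) (tt N1161 F7983) (tt N1248 F7984) (tt N1160 F7985))
theorem Q1360 : ∀ i, i < 1360 → P i := stepQ 1359 Q1359 (allL N1359 (tt N1584 D2957) (tt N1160 (iv D2249)) (tt N1513 (iv F10002)) (tt N1585 D2958) (tt N1359 F7986) (tt N1162 F7987) (tt N1169 F7988) (tt N1582 (iv F10355)))
theorem Q1361 : ∀ i, i < 1361 → P i := stepQ 1360 Q1360 (allL N1360 (tt N1555 (iv F10225)) (tt N1585 (iv F10362)) (tt N1576 (iv F10336)) (tt N1160 (iv D2250)) (tt N1586 D2959) (tt N1163 F7989) (tt N1170 F7990) (tt N1583 (iv F10358)))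
theorem Q1362 : ∀ i, i < 1362 → P i := stepQ 1361 Q1361 (allL N1361 (tt N1587 D2960) (tt N1161 (iv D2251)) (tt N1515 (iv F10008)) (tt N1588 D2961) (tt N1164 F7991) (tt N1582 (iv F10353)) (tt N1251 F7992) (tt N1162 F7993))
theorem Q1363 : ∀ i, i < 1363 → P i := stepQ 1362 Q1362 (allL N1362 (tt N1557 (iv F10231)) (tt N1588 (iv F10370)) (tt N1578 (iv F10342)) (tt N1161 (iv D2252)) (tt N1589 D2962) (tt N1583 (iv F10356)) (tt N1252 F7994) (tt N1163 F7995))
theorem Q1364 : ∀ i, i < 1364 → P i := stepQ 1363 Q1363 (allL N1363 (tt N1162 (iv D2253)) (tt N1558 (iv F10234)) (tt N1517 (iv F10014)) (tt N1590 D2963) (tt N1166 F7996) (tt N1584 (iv F10360)) (tt N1171 F7997) (tt N1587 (iv F10369)))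
theorem Q1365 : ∀ i, i < 1365 → P i := stepQ 1364 Q1364 (allL N1364 (tt N1590 (iv F10376)) (tt N1163 F7998) (tt N1591 D2964) (tt N1162 (iv D2254)) (tt N1592 D2965) (tt N1585 (iv F10363)) (tt N1172 F7999) (tt N1588 (iv F10372)))
theorem Q1366 : ∀ i, i < 1366 → P i := stepQ 1365 Q1365 (allL N1365 (tt N1560 (iv F10239)) (tt N1592 (iv F10378)) (tt N1581 (iv F10349)) (tt N1168 F8000) (tt N1163 (iv D2255)) (tt N1593 D2966) (tt N1173 F8001) (tt N1589 (iv F10375)))
theorem Q1367 : ∀ i, i < 1367 → P i := stepQ 1366 Q1366 (allL N1366 (tt N1164 (iv D2256)) (tt N1561 (iv F10242)) (tt N1520 (iv F10021)) (tt N1594 D2967) (tt N1587 (iv F10367)) (tt N1366 F8002) (tt N1256 F8003) (tt N1166 F8004))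
theorem Q1368 : ∀ i, i < 1368 → P i := stepQ 1367 Q1367 (allL N1367 (tt N1594 (iv F10383)) (tt N1165 F8005) (tt N1595 D2968) (tt N1164 (iv D2257)) (tt N1596 D2969) (tt N1367 F8006) (tt N1257 F8007) (tt N1167 F8008))
theorem Q1369 : ∀ i, i < 1369 → P i := stepQ 1368 Q1368 (allL N1368 (tt N1563 (iv F10250)) (tt N1596 (iv F10390)) (tt N1368 F8009) (tt N1589 (iv F10373)) (tt N1165 (iv D2258)) (tt N1597 D2970) (tt N1258 F8010) (tt N1168 F8011))
theorem Q1370 : ∀ i, i < 1370 → P i := stepQ 1369 Q1369 (allL N1369 (tt N1167 F8012) (tt N1564 (iv F10255)) (tt N1598 D2971) (tt N1166 (iv D2259)) (tt N1599 D2972) (tt N1369 F8013) (tt N1174 F8014) (tt N1594 (iv F10386)))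
theorem Q1371 : ∀ i, i < 1371 → P i := stepQ 1370 Q1370 (allL N1370 (tt N1598 (iv F10397)) (tt N1370 F8015) (tt N1167 (iv D2260)) (tt N1524 (iv F10036)) (tt N1600 D2973) (tt N1370 F8016) (tt N1370 F8017) (tt N1595 (iv F10389)))
theorem Q1372 : ∀ i, i < 1372 → P i := stepQ 1371 Q1371 (allL N1371 (tt N1599 (iv F10400)) (tt N1168 F8018) (tt N1600 (iv F10403)) (tt N1592 (iv F10379)) (tt N1167 (iv D2261)) (tt N1601 D2974) (tt N1175 F8019) (tt N1596 (iv F10392)))
theorem Q1373 : ∀ i, i < 1373 → P i := stepQ 1372 Q1372 (allL N1372 (tt N1214 F67158) (tt N1601 (iv F10405)) (tt N1372 F8020) (tt N1593 (iv F10381)) (tt N1372 F8021) (tt N1168 (iv D2262)) (tt N1176 F8022) (tt N1597 (iv F10396)))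
theorem Q1374 : ∀ i, i < 1374 → P i := stepQ 1373 Q1373 (allL N1373 (tt N1169 (iv D2263)) (tt N1567 (iv F10266)) (tt N1177 F8023) (tt N1602 D2975) (tt N1373 F8024) (tt N1171 F8025) (tt N1584 (iv F10361)) (tt N1263 F8026))
theorem Q1375 : ∀ i, i < 1375 → P i := stepQ 1374 Q1374 (allL N1374 (tt N1602 (iv F10408)) (tt N1170 F8027) (tt N1572 F67138) (tt N1169 (iv D2264)) (tt N1571 (iv F67281)) (tt N1172 F8028) (tt N1585 (iv F10364)) (tt N1264 F8029))
theorem Q1376 : ∀ i, i < 1376 → P i := stepQ 1375 Q1375 (allL N1375 (tt N1569 (iv F10274)) (tt N1571 (iv F67280)) (tt N1198 F67141) (tt N1375 F8031) (tt N1170 (iv D2265)) (tt N1603 D2978) (tt N1586 (iv F10366)) (tt N1265 F8032))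
theorem Q1377 : ∀ i, i < 1377 → P i := stepQ 1376 Q1376 (allL N1376 (tt N1172 F8033) (tt N1570 (iv F10279)) (tt N1604 D2979) (tt N1171 (iv D2266)) (tt N1605 D2980) (tt N1602 (iv F10409)) (tt N1590 (iv F10377)) (tt N1266 F8034))
theorem Q1378 : ∀ i, i < 1378 → P i := stepQ 1377 Q1377 (allL N1377 (tt N1604 (iv F10422)) (tt N1212 F8035) (tt N1172 (iv D2267)) (tt N1180 F8036) (tt N1606 D2981) (tt N1572 F67132) (tt N1607 D2982) (tt N1267 F8037))
theorem Q1379 : ∀ i, i < 1379 → P i := stepQ 1378 Q1378 (allL N1378 (tt N1605 (iv F10425)) (tt N1173 F8038) (tt N1606 (iv F10429)) (tt N1175 F8039) (tt N1172 (iv D2268)) (tt N1608 D2983) (tt N1592 (iv F10380)) (tt N1268 F8040))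
theorem Q1380 : ∀ i, i < 1380 → P i := stepQ 1379 Q1379 (allL N1379 (tt N1212 (iv F66984)) (tt N1608 (iv F10434)) (tt N1211 F66871) (tt N1176 F8042) (tt N1603 (iv F10420)) (tt N1173 (iv D2269)) (tt N1593 (iv F10382)) (tt N1269 F8043))
theorem Q1381 : ∀ i, i < 1381 → P i := stepQ 1380 Q1380 (allL N1380 (tt N1175 F8044) (tt N1574 (iv F10297)) (tt N1380 F8045) (tt N1605 (iv F10426)) (tt N1174 (iv D2270)) (tt N1609 D2984) (tt N1599 (iv F10401)) (tt N1270 F8046))
theorem Q1382 : ∀ i, i < 1382 → P i := stepQ 1381 Q1381 (allL N1381 (tt N1609 (iv F10437)) (tt N1176 F8047) (tt N1381 F8048) (tt N1608 (iv F10435)) (tt N1381 F8049) (tt N1175 (iv D2271)) (tt N1601 (iv F10407)) (tt N1271 F8050))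
theorem Q1383 : ∀ i, i < 1383 → P i := stepQ 1382 Q1382 (allL N1382 (tt N1178 F8051) (tt N1382 F8052) (tt N1574 F67362) (tt N1177 (iv D2272)) (tt N1573 (iv F67524)) (tt N1179 F8053) (tt N1536 (iv F10075)) (tt N1272 F8054))
theorem Q1384 : ∀ i, i < 1384 → P i := stepQ 1383 Q1383 (allL N1383 (tt N1180 F8062) (tt N1609 (iv F67304)) (tt N1179 (iv D2275)) (tt N1604 (iv F10423)) (tt N1383 F8063) (tt N1574 (iv F67263)) (tt N1610 D2990) (tt N1273 F8064))
theorem Q1385 : ∀ i, i < 1385 → P i := stepQ 1384 Q1384 (allL N1384 (tt N1610 (iv F10459)) (tt N1214 F8065) (tt N1540 (iv F10089)) (tt N1607 (iv F10433)) (tt N1384 F8066) (tt N1566 (iv F67264)) (tt N1180 (iv D2276)) (tt N1611 D2991))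
theorem Q1386 : ∀ i, i < 1386 → P i := stepQ 1385 Q1385 (allL N1385 (tt N1385 F8082) (tt N1230 F69674) (tt N1612 D2998) (tt N1385 F8083) (tt N1385 F8084) (tt N1225 (iv F69746)) (tt N1181 (iv D2281)) (tt N1224 F69675))
theorem Q1387 : ∀ i, i < 1387 → P i := stepQ 1386 Q1386 (allL N1386 (tt N1386 F8090) (tt N1188 F8091) (tt N1613 D3000) (tt N1184 F8092) (tt N1227 (iv F69724)) (tt N1183 F8093) (tt N1182 (iv D2283)) (tt N1386 F8094))
theorem Q1388 : ∀ i, i < 1388 → P i := stepQ 1387 Q1387 (allL N1387 (tt N1387 F8095) (tt N1614 D3001) (tt N1183 (iv D2284)) (tt N1615 D3002) (tt N1387 F8096) (tt N1613 (iv F10497)) (tt N1612 (iv F10489)) (tt N1387 F8097))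
theorem Q1389 : ∀ i, i < 1389 → P i := stepQ 1388 Q1388 (allL N1388 (tt N1388 F8098) (tt N1616 D3003) (tt N1184 (iv D2285)) (tt N1617 D3004) (tt N1218 F8099) (tt N1185 F8100) (tt N1388 F8101) (tt N1388 F8102))
theorem Q1390 : ∀ i, i < 1390 → P i := stepQ 1389 Q1389 (allL N1389 (tt N1618 D3005) (tt N1185 (iv D2286)) (tt N1191 F8103) (tt N1619 D3006) (tt N1186 F8104) (tt N1616 (iv F10507)) (tt N1389 F8105) (tt N1389 F8106))
theorem Q1391 : ∀ i, i < 1391 → P i := stepQ 1390 Q1390 (allL N1390 (tt N1390 F8107) (tt N1619 (iv F10519)) (tt N1615 (iv F10503)) (tt N1185 (iv D2287)) (tt N1620 D3007) (tt N1617 (iv F10511)) (tt N1390 F8108) (tt N1390 F8109))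
theorem Q1392 : ∀ i, i < 1392 → P i := stepQ 1391 Q1391 (allL N1391 (tt N1186 (iv D2288)) (tt N1391 F8110) (tt N1193 F8111) (tt N1222 F66634) (tt N1618 (iv F10516)) (tt N1220 F8112) (tt N1391 F8113) (tt N1391 F8114))
theorem Q1393 : ∀ i, i < 1393 → P i := stepQ 1392 Q1392 (allL N1392 (tt N1392 F8119) (tt N1223 F66776) (tt N1392 F8120) (tt N1620 (iv F10523)) (tt N1187 (iv D2290)) (tt N1392 F66905) (tt N1392 F8121) (tt N1392 F8122))
theorem Q1394 : ∀ i, i < 1394 → P i := stepQ 1393 Q1393 (allL N1393 (tt N1201 F8128) (tt N1621 D3013) (tt N1188 (iv D2292)) (tt N1622 D3014) (tt N1546 (iv F69524)) (tt N1189 F8129) (tt N1543 F69379) (tt N1393 F8130))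
theorem Q1395 : ∀ i, i < 1395 → P i := stepQ 1394 Q1394 (allL N1394 (tt N1623 D3015) (tt N1189 (iv D2293)) (tt N1614 (iv F10499)) (tt N1624 D3016) (tt N1394 F8131) (tt N1621 (iv F10547)) (tt N1552 (iv F10213)) (tt N1394 F8132))
theorem Q1396 : ∀ i, i < 1396 → P i := stepQ 1395 Q1395 (allL N1395 (tt N1203 F8133) (tt N1624 (iv F10556)) (tt N1192 F8134) (tt N1189 (iv D2294)) (tt N1625 D3017) (tt N1622 (iv F10551)) (tt N1553 (iv F10216)) (tt N1395 F8135))
theorem Q1397 : ∀ i, i < 1397 → P i := stepQ 1396 Q1396 (allL N1396 (tt N1210 F66873) (tt N1190 (iv D2295)) (tt N1616 (iv F10505)) (tt N1626 D3019) (tt N1208 F66874) (tt N1191 F8137) (tt N1195 F8138) (tt N1396 F8139))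
theorem Q1398 : ∀ i, i < 1398 → P i := stepQ 1397 Q1397 (allL N1397 (tt N1204 F8140) (tt N1626 (iv F10567)) (tt N1622 (iv F10550)) (tt N1190 (iv D2296)) (tt N1627 D3020) (tt N1192 F8141) (tt N1196 F8142) (tt N1397 F8143))
theorem Q1399 : ∀ i, i < 1399 → P i := stepQ 1398 Q1398 (allL N1398 (tt N1191 (iv D2297)) (tt N1205 F8144) (tt N1618 (iv F10515)) (tt N1627 (iv F66739)) (tt N1193 F8145) (tt N1210 (iv F66735)) (tt N1197 F8146) (tt N1398 F8147))
theorem Q1400 : ∀ i, i < 1400 → P i := stepQ 1399 Q1399 (allL N1399 (tt N1627 F66879) (tt N1192 F8148) (tt N1628 D3022) (tt N1191 (iv D2298)) (tt N1204 F66880) (tt N1626 (iv F10568)) (tt N1198 F8149) (tt N1399 F8150))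
theorem Q1401 : ∀ i, i < 1401 → P i := stepQ 1400 Q1400 (allL N1400 (tt N1207 F8151) (tt N1204 F66862) (tt N1625 (iv F10559)) (tt N1194 F8152) (tt N1192 (iv D2299)) (tt N1206 F66863) (tt N1199 F8153) (tt N1400 F8154))
theorem Q1402 : ∀ i, i < 1402 → P i := stepQ 1401 Q1401 (allL N1401 (tt N1213 F66938) (tt N1196 F8176) (tt N1603 (iv F67092)) (tt N1195 (iv D2305)) (tt N1211 (iv F66983)) (tt N1198 F8177) (tt N1626 (iv F10569)) (tt N1275 F8178))
theorem Q1403 : ∀ i, i < 1403 → P i := stepQ 1402 Q1402 (allL N1402 (tt N1198 (iv F66992)) (tt N1211 (iv F66982)) (tt N1569 (iv F10275)) (tt N1197 F66857) (tt N1196 (iv D2306)) (tt N1213 F66855) (tt N1627 (iv F10573)) (tt N1276 F8181))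
theorem Q1404 : ∀ i, i < 1404 → P i := stepQ 1403 Q1403 (allL N1403 (tt N1546 F69638) (tt N1629 D3050) (tt N1200 (iv D2320)) (tt N1630 D3051) (tt N1201 F8225) (tt N1403 F8226) (tt N1486 F69639) (tt N1403 F8227))
theorem Q1405 : ∀ i, i < 1405 → P i := stepQ 1404 Q1404 (allL N1404 (tt N1631 D3052) (tt N1201 (iv D2321)) (tt N1404 F8228) (tt N1632 D3053) (tt N1629 (iv F10672)) (tt N1202 F8229) (tt N1575 (iv F10335)) (tt N1404 F8230))
theorem Q1406 : ∀ i, i < 1406 → P i := stepQ 1405 Q1405 (allL N1405 (tt N1622 (iv F10549)) (tt N1632 (iv F10681)) (tt N1204 F8231) (tt N1201 (iv D2322)) (tt N1628 (iv F67018)) (tt N1203 F8232) (tt N1576 (iv F10338)) (tt N1405 F8233))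
theorem Q1407 : ∀ i, i < 1407 → P i := stepQ 1406 Q1406 (allL N1406 (tt N1202 (iv D2323)) (tt N1623 (iv F10553)) (tt N1406 F8234) (tt N1633 D3055) (tt N1406 F8235) (tt N1631 (iv F10679)) (tt N1579 (iv F10346)) (tt N1406 F8236))
theorem Q1408 : ∀ i, i < 1408 → P i := stepQ 1407 Q1407 (allL N1407 (tt N1633 (iv F10686)) (tt N1203 F8237) (tt N1634 D3056) (tt N1202 (iv D2324)) (tt N1635 D3057) (tt N1632 (iv F10682)) (tt N1580 (iv F10348)) (tt N1407 F8238))
theorem Q1409 : ∀ i, i < 1409 → P i := stepQ 1408 Q1408 (allL N1408 (tt N1625 (iv F10558)) (tt N1635 (iv F10691)) (tt N1207 F8239) (tt N1408 F8240) (tt N1203 (iv D2325)) (tt N1636 D3058) (tt N1581 (iv F10351)) (tt N1408 F8241))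
theorem Q1410 : ∀ i, i < 1410 → P i := stepQ 1409 Q1409 (allL N1409 (tt N1206 F8254) (tt N1627 F66875) (tt N1636 (iv F67009)) (tt N1205 (iv D2329)) (tt N1626 (iv F67012)) (tt N1207 (iv F66989)) (tt N1211 F8255) (tt N1409 F8256))
theorem Q1411 : ∀ i, i < 1411 → P i := stepQ 1410 Q1410 (allL N1410 (tt N1636 (iv F67008)) (tt N1634 (iv F10688)) (tt N1206 (iv D2330)) (tt N1410 F8257) (tt N1637 D3065) (tt N1625 (iv F66997)) (tt N1638 D3066) (tt N1410 F8258))
theorem Q1412 : ∀ i, i < 1412 → P i := stepQ 1411 Q1411 (allL N1411 (tt N1626 (iv F67011)) (tt N1207 F8259) (tt N1637 (iv F10719)) (tt N1210 F8260) (tt N1206 (iv D2331)) (tt N1627 F66869) (tt N1213 F8261) (tt N1411 F8262))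
theorem Q1413 : ∀ i, i < 1413 → P i := stepQ 1412 Q1412 (allL N1412 (tt N1209 F8266) (tt N1218 (iv F66824)) (tt N1208 (iv D2333)) (tt N1412 F8267) (tt N1616 (iv F66747)) (tt N1219 F66684) (tt N1412 F8269) (tt N1412 F8270))
theorem Q1414 : ∀ i, i < 1414 → P i := stepQ 1413 Q1413 (allL N1413 (tt N1616 (iv F66746)) (tt N1413 F8274) (tt N1210 F8275) (tt N1639 D3071) (tt N1209 (iv D2335)) (tt N1618 F66612) (tt N1413 F8276) (tt N1413 F8277))
theorem Q1415 : ∀ i, i < 1415 → P i := stepQ 1414 Q1414 (allL N1414 (tt N1603 F66867) (tt N1606 (iv F10428)) (tt N1213 F8300) (tt N1414 F8301) (tt N1212 (iv D2343)) (tt N1569 (iv F66994)) (tt N1640 D3083) (tt N1277 F8302))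
theorem Q1416 : ∀ i, i < 1416 → P i := stepQ 1415 Q1415 (allL N1415 (tt N1593 F67133) (tt N1607 (iv F10432)) (tt N1638 (iv F10721)) (tt N1214 F8303) (tt N1640 (iv F10779)) (tt N1560 F67134) (tt N1212 (iv D2344)) (tt N1641 D3084))
theorem Q1417 : ∀ i, i < 1417 → P i := stepQ 1416 Q1416 (allL N1416 (tt N1597 (iv F67306)) (tt N1611 (iv F10461)) (tt N1416 F8331) (tt N1641 (iv F10780)) (tt N1416 F8332) (tt N1563 (iv F67265)) (tt N1279 F8333) (tt N1214 (iv D2353)))
theorem Q1418 : ∀ i, i < 1418 → P i := stepQ 1417 Q1417 (allL N1417 (tt N1417 F8365) (tt N1221 F8366) (tt N1417 F66693) (tt N1227 F69763) (tt N1217 F8367) (tt N1417 F8368) (tt N1216 (iv D2361)) (tt N1417 F8369))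
theorem Q1419 : ∀ i, i < 1419 → P i := stepQ 1418 Q1418 (allL N1418 (tt N1223 F8413) (tt N1418 F66458) (tt N1221 (iv D2374)) (tt N1642 D3121) (tt N1222 F8414) (tt N1418 F8415) (tt N1418 F8416) (tt N1418 F8417))
theorem Q1420 : ∀ i, i < 1420 → P i := stepQ 1419 Q1419 (allL N1419 (tt N1642 (iv F10911)) (tt N1620 (iv F66913)) (tt N1630 (iv F10675)) (tt N1223 (iv D2413)) (tt N1619 F66777) (tt N1419 F8545) (tt N1419 F8546) (tt N1419 F8547))
theorem Q1421 : ∀ i, i < 1421 → P i := stepQ 1420 Q1420 (allL N1420 (tt N1420 F8700) (tt N1643 D3229) (tt N1224 (iv D2458)) (tt N1644 D3230) (tt N1420 F8701) (tt N1226 F8702) (tt N1420 F8703) (tt N1612 (iv F69566)))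
theorem Q1422 : ∀ i, i < 1422 → P i := stepQ 1421 Q1421 (allL N1421 (tt N1421 F8714) (tt N1645 D3235) (tt N1225 (iv D2462)) (tt N1646 D3236) (tt N1228 F8715) (tt N1612 F69689) (tt N1613 (iv F69723)) (tt N1226 F8716))
theorem Q1423 : ∀ i, i < 1423 → P i := stepQ 1422 Q1422 (allL N1422 (tt N1647 D3237) (tt N1226 (iv D2463)) (tt N1233 F8717) (tt N1648 D3238) (tt N1229 F8718) (tt N1643 (iv F11280)) (tt N1422 F8719) (tt N1645 (iv F11303)))
theorem Q1424 : ∀ i, i < 1424 → P i := stepQ 1423 Q1423 (allL N1423 (tt N1423 F8720) (tt N1648 (iv F11311)) (tt N1423 F8721) (tt N1226 (iv D2464)) (tt N1423 F68128) (tt N1644 (iv F11284)) (tt N1423 F8722) (tt N1646 (iv F11306)))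
theorem Q1425 : ∀ i, i < 1425 → P i := stepQ 1424 Q1424 (allL N1424 (tt N1424 F8734) (tt N1649 D3243) (tt N1227 (iv D2468)) (tt N1424 F68147) (tt N1613 F69764) (tt N1424 F8735) (tt N1228 F8736) (tt N1424 F8737))
theorem Q1426 : ∀ i, i < 1426 → P i := stepQ 1425 Q1425 (allL N1425 (tt N1650 D3245) (tt N1228 (iv D2469)) (tt N1235 F8738) (tt N1425 F67842) (tt N1645 (iv F11302)) (tt N1425 F8739) (tt N1649 (iv F11329)) (tt N1229 F8740))
theorem Q1427 : ∀ i, i < 1427 → P i := stepQ 1426 Q1426 (allL N1426 (tt N1229 (iv D2471)) (tt N1426 F8745) (tt N1237 F8746) (tt N1426 F67844) (tt N1647 (iv F11309)) (tt N1426 F8747) (tt N1426 F8748) (tt N1650 (iv F11338)))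
theorem Q1428 : ∀ i, i < 1428 → P i := stepQ 1427 Q1427 (allL N1427 (tt N1248 F8755) (tt N1651 D3252) (tt N1230 (iv D2474)) (tt N1652 D3253) (tt N1427 F8756) (tt N1232 F8757) (tt N1541 F69412) (tt N1231 F8758))
theorem Q1429 : ∀ i, i < 1429 → P i := stepQ 1428 Q1428 (allL N1428 (tt N1653 D3254) (tt N1231 (iv D2475)) (tt N1643 (iv F11278)) (tt N1654 D3255) (tt N1428 F8759) (tt N1233 F8760) (tt N1240 F8761) (tt N1651 (iv F11360)))
theorem Q1430 : ∀ i, i < 1430 → P i := stepQ 1429 Q1429 (allL N1429 (tt N1250 F8762) (tt N1654 (iv F11369)) (tt N1429 F8763) (tt N1231 (iv D2476)) (tt N1655 D3256) (tt N1234 F8764) (tt N1241 F8765) (tt N1652 (iv F11364)))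
theorem Q1431 : ∀ i, i < 1431 → P i := stepQ 1430 Q1430 (allL N1430 (tt N1656 D3257) (tt N1232 (iv D2477)) (tt N1645 (iv F11301)) (tt N1657 D3258) (tt N1235 F8766) (tt N1651 (iv F11359)) (tt N1556 (iv F10229)) (tt N1233 F8767))
theorem Q1432 : ∀ i, i < 1432 → P i := stepQ 1431 Q1431 (allL N1431 (tt N1252 F8768) (tt N1657 (iv F11379)) (tt N1431 F8769) (tt N1232 (iv D2478)) (tt N1658 D3259) (tt N1652 (iv F11363)) (tt N1557 (iv F10232)) (tt N1234 F8770))
theorem Q1433 : ∀ i, i < 1433 → P i := stepQ 1432 Q1432 (allL N1432 (tt N1233 (iv D2479)) (tt N1253 F8771) (tt N1647 (iv F11308)) (tt N1659 D3260) (tt N1237 F8772) (tt N1653 (iv F11367)) (tt N1242 F8773) (tt N1656 (iv F11378)))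
theorem Q1434 : ∀ i, i < 1434 → P i := stepQ 1433 Q1433 (allL N1433 (tt N1659 (iv F11385)) (tt N1234 F8774) (tt N1660 D3261) (tt N1233 (iv D2480)) (tt N1661 D3262) (tt N1654 (iv F11370)) (tt N1243 F8775) (tt N1657 (iv F11380)))
theorem Q1435 : ∀ i, i < 1435 → P i := stepQ 1434 Q1434 (allL N1434 (tt N1255 F8776) (tt N1661 (iv F11389)) (tt N1434 F8777) (tt N1239 F8778) (tt N1234 (iv D2481)) (tt N1278 (iv F67274)) (tt N1244 F8779) (tt N1658 (iv F11384)))
theorem Q1436 : ∀ i, i < 1436 → P i := stepQ 1435 Q1435 (allL N1435 (tt N1235 (iv D2482)) (tt N1256 F8780) (tt N1650 (iv F11336)) (tt N1662 D3264) (tt N1656 (iv F11377)) (tt N1435 F8781) (tt N1561 (iv F10244)) (tt N1237 F8782))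
theorem Q1437 : ∀ i, i < 1437 → P i := stepQ 1436 Q1436 (allL N1436 (tt N1662 (iv F11396)) (tt N1236 F8783) (tt N1436 F67841) (tt N1235 (iv D2483)) (tt N1663 D3266) (tt N1436 F8784) (tt N1562 (iv F10248)) (tt N1238 F8785))
theorem Q1438 : ∀ i, i < 1438 → P i := stepQ 1437 Q1437 (allL N1437 (tt N1258 F8786) (tt N1663 (iv F11403)) (tt N1280 (iv F67569)) (tt N1658 (iv F11383)) (tt N1236 (iv D2484)) (tt N1279 F67418) (tt N1563 (iv F10252)) (tt N1239 F8788))
theorem Q1439 : ∀ i, i < 1439 → P i := stepQ 1438 Q1438 (allL N1438 (tt N1238 F8789) (tt N1259 F8790) (tt N1438 F67845) (tt N1237 (iv D2485)) (tt N1664 D3269) (tt N1438 F8791) (tt N1245 F8792) (tt N1662 (iv F11399)))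
theorem Q1440 : ∀ i, i < 1440 → P i := stepQ 1439 Q1439 (allL N1439 (tt N1664 (iv F11411)) (tt N1239 F8795) (tt N1439 F67571) (tt N1661 (iv F11390)) (tt N1238 (iv D2487)) (tt N1274 F67417) (tt N1247 F8796) (tt N1663 (iv F11404)))
theorem Q1441 : ∀ i, i < 1441 → P i := stepQ 1440 Q1440 (allL N1440 (tt N1240 (iv D2489)) (tt N1263 F8801) (tt N1440 F8802) (tt N1665 D3273) (tt N1440 F8803) (tt N1242 F8804) (tt N1653 (iv F11368)) (tt N1567 (iv F10270)))
theorem Q1442 : ∀ i, i < 1442 → P i := stepQ 1441 Q1441 (allL N1441 (tt N1665 (iv F11422)) (tt N1241 F8805) (tt N1666 D3274) (tt N1240 (iv D2490)) (tt N1667 D3275) (tt N1243 F8806) (tt N1654 (iv F11371)) (tt N1568 (iv F10273)))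
theorem Q1443 : ∀ i, i < 1443 → P i := stepQ 1442 Q1442 (allL N1442 (tt N1265 F8807) (tt N1667 (iv F11428)) (tt N1276 F8808) (tt N1442 F8809) (tt N1241 (iv D2491)) (tt N1277 F67146) (tt N1655 (iv F11375)) (tt N1569 (iv F10277)))
theorem Q1444 : ∀ i, i < 1444 → P i := stepQ 1443 Q1443 (allL N1443 (tt N1243 F8810) (tt N1266 F8811) (tt N1668 D3277) (tt N1242 (iv D2492)) (tt N1669 D3278) (tt N1665 (iv F11424)) (tt N1659 (iv F11387)) (tt N1570 (iv F10280)))
theorem Q1445 : ∀ i, i < 1445 → P i := stepQ 1444 Q1444 (allL N1444 (tt N1668 (iv F11434)) (tt N1265 F67440) (tt N1243 (iv D2493)) (tt N1444 F8813) (tt N1264 F67441) (tt N1666 (iv F11427)) (tt N1670 D3280) (tt N1571 (iv F10283)))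
theorem Q1446 : ∀ i, i < 1446 → P i := stepQ 1445 Q1445 (allL N1445 (tt N1669 (iv F11436)) (tt N1244 F8814) (tt N1264 (iv F67279)) (tt N1247 F8815) (tt N1243 (iv D2494)) (tt N1267 (iv F67270)) (tt N1661 (iv F11391)) (tt N1572 (iv F10286)))
theorem Q1447 : ∀ i, i < 1447 → P i := stepQ 1446 Q1446 (allL N1446 (tt N1246 F8819) (tt N1446 F8820) (tt N1245 (iv D2496)) (tt N1446 F8821) (tt N1272 F67665) (tt N1446 F8822) (tt N1446 F67834) (tt N1573 (iv F10295)))
theorem Q1448 : ∀ i, i < 1448 → P i := stepQ 1447 Q1447 (allL N1447 (tt N1247 F8823) (tt N1270 F8824) (tt N1272 (iv F67525)) (tt N1669 (iv F11438)) (tt N1245 (iv D2497)) (tt N1273 F67416) (tt N1664 (iv F11413)) (tt N1574 (iv F10298)))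
theorem Q1449 : ∀ i, i < 1449 → P i := stepQ 1448 Q1448 (allL N1448 (tt N1671 D3293) (tt N1248 (iv D2505)) (tt N1448 F8845) (tt N1672 D3294) (tt N1448 F8846) (tt N1251 F8847) (tt N1582 (iv F10354)) (tt N1249 F8848))
theorem Q1450 : ∀ i, i < 1450 → P i := stepQ 1449 Q1449 (allL N1449 (tt N1652 (iv F11361)) (tt N1672 (iv F11482)) (tt N1449 F8849) (tt N1248 (iv D2506)) (tt N1673 D3295) (tt N1252 F8850) (tt N1583 (iv F10357)) (tt N1250 F8851))
theorem Q1451 : ∀ i, i < 1451 → P i := stepQ 1450 Q1450 (allL N1450 (tt N1249 (iv D2507)) (tt N1653 (iv F11365)) (tt N1450 F8852) (tt N1674 D3296) (tt N1450 F8853) (tt N1253 F8854) (tt N1263 F8855) (tt N1671 (iv F11481)))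
theorem Q1452 : ∀ i, i < 1452 → P i := stepQ 1451 Q1451 (allL N1451 (tt N1674 (iv F11488)) (tt N1250 F8856) (tt N1675 D3297) (tt N1249 (iv D2508)) (tt N1670 (iv F67598)) (tt N1254 F8857) (tt N1264 F8858) (tt N1672 (iv F11484)))
theorem Q1453 : ∀ i, i < 1453 → P i := stepQ 1452 Q1452 (allL N1452 (tt N1655 (iv F11372)) (tt N1670 (iv F67597)) (tt N1452 F8859) (tt N1452 F8860) (tt N1250 (iv D2509)) (tt N1676 D3299) (tt N1265 F8861) (tt N1673 (iv F11487)))
theorem Q1454 : ∀ i, i < 1454 → P i := stepQ 1453 Q1453 (allL N1453 (tt N1251 (iv D2510)) (tt N1656 (iv F11376)) (tt N1453 F8862) (tt N1677 D3300) (tt N1256 F8863) (tt N1671 (iv F11480)) (tt N1587 (iv F10368)) (tt N1253 F8864))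
theorem Q1455 : ∀ i, i < 1455 → P i := stepQ 1454 Q1454 (allL N1454 (tt N1677 (iv F11501)) (tt N1252 F8865) (tt N1678 D3301) (tt N1251 (iv D2511)) (tt N1679 D3302) (tt N1672 (iv F11483)) (tt N1588 (iv F10371)) (tt N1254 F8866))
theorem Q1456 : ∀ i, i < 1456 → P i := stepQ 1455 Q1455 (allL N1455 (tt N1658 (iv F11381)) (tt N1679 (iv F11506)) (tt N1455 F8867) (tt N1258 F8868) (tt N1252 (iv D2512)) (tt N1680 D3303) (tt N1589 (iv F10374)) (tt N1255 F8869))
theorem Q1457 : ∀ i, i < 1457 → P i := stepQ 1456 Q1456 (allL N1456 (tt N1254 F8870) (tt N1659 (iv F11386)) (tt N1681 D3304) (tt N1253 (iv D2513)) (tt N1682 D3305) (tt N1674 (iv F11489)) (tt N1266 F8871) (tt N1677 (iv F11502)))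
theorem Q1458 : ∀ i, i < 1458 → P i := stepQ 1457 Q1457 (allL N1457 (tt N1681 (iv F11512)) (tt N1457 F8872) (tt N1254 (iv D2514)) (tt N1457 F8873) (tt N1683 D3306) (tt N1675 (iv F11493)) (tt N1684 D3307) (tt N1678 (iv F11505)))
theorem Q1459 : ∀ i, i < 1459 → P i := stepQ 1458 Q1458 (allL N1458 (tt N1682 (iv F11514)) (tt N1255 F8874) (tt N1683 (iv F11518)) (tt N1261 F8875) (tt N1254 (iv D2515)) (tt N1685 D3308) (tt N1268 F8876) (tt N1679 (iv F11508)))
theorem Q1460 : ∀ i, i < 1460 → P i := stepQ 1459 Q1459 (allL N1459 (tt N1278 (iv F67273)) (tt N1685 (iv F11522)) (tt N1459 F8877) (tt N1262 F8878) (tt N1676 (iv F11499)) (tt N1255 (iv D2516)) (tt N1269 F8879) (tt N1680 (iv F11511)))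
theorem Q1461 : ∀ i, i < 1461 → P i := stepQ 1460 Q1460 (allL N1460 (tt N1257 F8880) (tt N1662 (iv F11397)) (tt N1686 D3309) (tt N1256 (iv D2517)) (tt N1687 D3310) (tt N1460 F8881) (tt N1594 (iv F10385)) (tt N1259 F8882))
theorem Q1462 : ∀ i, i < 1462 → P i := stepQ 1461 Q1461 (allL N1461 (tt N1686 (iv F11525)) (tt N1283 F8883) (tt N1257 (iv D2518)) (tt N1461 F8884) (tt N1688 D3311) (tt N1461 F8885) (tt N1689 D3312) (tt N1260 F8886))
theorem Q1463 : ∀ i, i < 1463 → P i := stepQ 1462 Q1462 (allL N1462 (tt N1687 (iv F11529)) (tt N1258 F8887) (tt N1688 (iv F11532)) (tt N1679 (iv F11507)) (tt N1257 (iv D2519)) (tt N1690 D3313) (tt N1596 (iv F10391)) (tt N1261 F8888))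
theorem Q1464 : ∀ i, i < 1464 → P i := stepQ 1463 Q1463 (allL N1463 (tt N1279 F67461) (tt N1690 (iv F11538)) (tt N1282 (iv F67624)) (tt N1680 (iv F11510)) (tt N1463 F8890) (tt N1258 (iv D2520)) (tt N1597 (iv F10395)) (tt N1262 F8891))
theorem Q1465 : ∀ i, i < 1465 → P i := stepQ 1464 Q1464 (allL N1464 (tt N1260 F8892) (tt N1464 F67866) (tt N1259 (iv D2521)) (tt N1464 F8893) (tt N1691 D3315) (tt N1464 F8894) (tt N1464 F8895) (tt N1686 (iv F11528)))
theorem Q1466 : ∀ i, i < 1466 → P i := stepQ 1465 Q1465 (allL N1465 (tt N1261 F8896) (tt N1664 (iv F11412)) (tt N1691 (iv F11546)) (tt N1682 (iv F11515)) (tt N1259 (iv D2522)) (tt N1692 D3316) (tt N1270 F8897) (tt N1687 (iv F11530)))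
theorem Q1467 : ∀ i, i < 1467 → P i := stepQ 1466 Q1466 (allL N1466 (tt N1691 (iv F11545)) (tt N1285 F8898) (tt N1261 F8899) (tt N1693 D3317) (tt N1260 (iv D2523)) (tt N1694 D3318) (tt N1466 F8900) (tt N1688 (iv F11533)))
theorem Q1468 : ∀ i, i < 1468 → P i := stepQ 1467 Q1467 (allL N1467 (tt N1692 (iv F11548)) (tt N1262 F8901) (tt N1694 (iv F11555)) (tt N1685 (iv F11523)) (tt N1467 F8902) (tt N1261 (iv D2524)) (tt N1271 F8903) (tt N1690 (iv F11540)))
theorem Q1469 : ∀ i, i < 1469 → P i := stepQ 1468 Q1468 (allL N1468 (tt N1264 F8904) (tt N1665 (iv F11423)) (tt N1669 F67433) (tt N1263 (iv D2525)) (tt N1668 (iv F67593)) (tt N1266 F8905) (tt N1674 (iv F11490)) (tt N1602 (iv F10410)))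
theorem Q1470 : ∀ i, i < 1470 → P i := stepQ 1469 Q1469 (allL N1469 (tt N1277 (iv F66998)) (tt N1666 (iv F67290)) (tt N1275 F67150) (tt N1469 F8912) (tt N1269 F8913) (tt N1265 (iv D2528)) (tt N1676 (iv F11500)) (tt N1603 (iv F10421)))
theorem Q1471 : ∀ i, i < 1471 → P i := stepQ 1470 Q1470 (allL N1470 (tt N1267 F8914) (tt N1695 D3324) (tt N1266 (iv D2529)) (tt N1273 F8915) (tt N1696 D3325) (tt N1669 F67425) (tt N1697 D3326) (tt N1604 (iv F10424)))
theorem Q1472 : ∀ i, i < 1472 → P i := stepQ 1471 Q1471 (allL N1471 (tt N1268 F8916) (tt N1669 (iv F11437)) (tt N1696 (iv F11574)) (tt N1270 F8917) (tt N1266 (iv D2530)) (tt N1695 F67431) (tt N1682 (iv F11516)) (tt N1605 (iv F10427)))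
theorem Q1473 : ∀ i, i < 1473 → P i := stepQ 1472 Q1472 (allL N1472 (tt N1696 (iv F11573)) (tt N1277 F8918) (tt N1268 F8919) (tt N1472 F8920) (tt N1267 (iv D2531)) (tt N1667 (iv F67287)) (tt N1698 D3329) (tt N1606 (iv F10431)))
theorem Q1474 : ∀ i, i < 1474 → P i := stepQ 1473 Q1473 (allL N1473 (tt N1697 (iv F11576)) (tt N1278 F8921) (tt N1684 (iv F11520)) (tt N1274 F8922) (tt N1698 (iv F11585)) (tt N1661 F67428) (tt N1267 (iv D2532)) (tt N1699 D3330))
theorem Q1475 : ∀ i, i < 1475 → P i := stepQ 1474 Q1474 (allL N1474 (tt N1695 (iv F67298)) (tt N1269 F8923) (tt N1667 (iv F67286)) (tt N1271 F8924) (tt N1666 (iv F67291)) (tt N1268 (iv D2533)) (tt N1685 (iv F11524)) (tt N1608 (iv F10436)))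
theorem Q1476 : ∀ i, i < 1476 → P i := stepQ 1475 Q1475 (allL N1475 (tt N1271 F8925) (tt N1273 F67458) (tt N1475 F8926) (tt N1695 F67459) (tt N1475 F8927) (tt N1270 (iv D2534)) (tt N1692 (iv F11550)) (tt N1609 (iv F10440)))
theorem Q1477 : ∀ i, i < 1477 → P i := stepQ 1476 Q1476 (allL N1476 (tt N1274 F8944) (tt N1692 (iv F67623)) (tt N1476 F8945) (tt N1697 (iv F11577)) (tt N1476 F8946) (tt N1664 (iv F67570)) (tt N1273 (iv D2540)) (tt N1700 D3338))
theorem Q1478 : ∀ i, i < 1478 → P i := stepQ 1477 Q1477 (allL N1477 (tt N1700 (iv F11610)) (tt N1279 F8947) (tt N1477 F8948) (tt N1699 (iv F11587)) (tt N1477 F8949) (tt N1663 (iv F67572)) (tt N1611 (iv F10463)) (tt N1274 (iv D2541)))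
theorem Q1479 : ∀ i, i < 1479 → P i := stepQ 1478 Q1478 (allL N1478 (tt N1676 F67151) (tt N1698 (iv F11583)) (tt N1478 F9037) (tt N1478 F9038) (tt N1278 F9039) (tt N1655 (iv F67289)) (tt N1277 (iv D2572)) (tt N1701 D3379))
theorem Q1480 : ∀ i, i < 1480 → P i := stepQ 1479 Q1479 (allL N1479 (tt N1680 F67429) (tt N1699 (iv F11586)) (tt N1479 F9040) (tt N1279 F9041) (tt N1701 (iv F11730)) (tt N1658 F67430) (tt N1641 (iv F10781)) (tt N1278 (iv D2573)))
theorem Q1481 : ∀ i, i < 1481 → P i := stepQ 1480 Q1480 (allL N1480 (tt N1480 F9248) (tt N1694 F67766) (tt N1281 (iv D2639)) (tt N1702 D3456) (tt N1480 F9249) (tt N1285 (iv F67862)) (tt N1480 F9250) (tt N1703 D3457))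
theorem Q1482 : ∀ i, i < 1482 → P i := stepQ 1481 Q1481 (allL N1481 (tt N1481 F9251) (tt N1282 F9252) (tt N1703 (iv F11981)) (tt N1481 F9253) (tt N1481 F9254) (tt N1284 (iv F67863)) (tt N1481 F9255) (tt N1281 (iv D2640)))
theorem Q1483 : ∀ i, i < 1483 → P i := stepQ 1482 Q1482 (allL N1482 (tt N1482 F68152) (tt N1688 (iv F11531)) (tt N1284 F9470) (tt N1704 D3533) (tt N1283 (iv D2698)) (tt N1703 F68002) (tt N1705 D3535) (tt N1285 F9471))
theorem Q1484 : ∀ i, i < 1484 → P i := stepQ 1483 Q1483 (allL N1483 (tt N1483 F68155) (tt N1689 (iv F11534)) (tt N1483 F9472) (tt N1483 F9473) (tt N1705 (iv F12264)) (tt N1483 F9474) (tt N1283 (iv D2699)) (tt N1483 F9475))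
theorem Q1485 : ∀ i, i < 1485 → P i := stepQ 1484 Q1484 (allL N1484 (tt N1484 F68151) (tt N1693 (iv F11551)) (tt N1484 F9491) (tt N1285 (iv D2704)) (tt N1484 F9492) (tt N1702 F68001) (tt N1484 F9493) (tt N1704 (iv F12259)))
theorem Q1486 : ∀ i, i < 1486 → P i := stepQ 1485 Q1485 (allL N1485 (tt N1331 F9827) (tt N1706 D3658) (tt N1286 (iv D2796)) (tt N1707 D3659) (tt N1288 F9828) (tt N1355 F69535) (tt N1485 F9829) (tt N1354 F69536))
theorem Q1487 : ∀ i, i < 1487 → P i := stepQ 1486 Q1486 (allL N1486 (tt N1333 F9843) (tt N1708 D3664) (tt N1287 (iv D2800)) (tt N1709 D3665) (tt N1354 F69534) (tt N1486 F9844) (tt N1403 (iv F69639)) (tt N1288 F9845))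
theorem Q1488 : ∀ i, i < 1488 → P i := stepQ 1487 Q1487 (allL N1487 (tt N1710 D3666) (tt N1288 (iv D2801)) (tt N1294 F9846) (tt N1711 D3667) (tt N1706 (iv F12699)) (tt N1487 F9847) (tt N1487 F9848) (tt N1708 (iv F12723)))
theorem Q1489 : ∀ i, i < 1489 → P i := stepQ 1488 Q1488 (allL N1488 (tt N1335 F9849) (tt N1711 (iv F12732)) (tt N1488 F9850) (tt N1288 (iv D2802)) (tt N1712 D3668) (tt N1488 F9851) (tt N1488 F9852) (tt N1709 (iv F12727)))
theorem Q1490 : ∀ i, i < 1490 → P i := stepQ 1489 Q1489 (allL N1489 (tt N1305 F9884) (tt N1713 D3679) (tt N1289 (iv D2811)) (tt N1714 D3680) (tt N1489 F9885) (tt N1307 F69550) (tt N1489 F9886) (tt N1306 F69551))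
theorem Q1491 : ∀ i, i < 1491 → P i := stepQ 1490 Q1490 (allL N1490 (tt N1306 F9891) (tt N1715 D3682) (tt N1290 (iv D2813)) (tt N1716 D3683) (tt N1490 F9892) (tt N1292 F9893) (tt N1296 F9894) (tt N1305 (iv F69679)))
theorem Q1492 : ∀ i, i < 1492 → P i := stepQ 1491 Q1491 (allL N1491 (tt N1307 F9895) (tt N1717 D3684) (tt N1291 (iv D2814)) (tt N1718 D3685) (tt N1293 F9896) (tt N1305 (iv F69678)) (tt N1491 F9897) (tt N1292 F9898))
theorem Q1493 : ∀ i, i < 1493 → P i := stepQ 1492 Q1492 (allL N1492 (tt N1719 D3686) (tt N1292 (iv D2815)) (tt N1706 (iv F12698)) (tt N1720 D3687) (tt N1294 F9899) (tt N1715 (iv F12787)) (tt N1297 F9900) (tt N1717 (iv F12794)))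
theorem Q1494 : ∀ i, i < 1494 → P i := stepQ 1493 Q1493 (allL N1493 (tt N1309 F9901) (tt N1720 (iv F12801)) (tt N1714 (iv F12779)) (tt N1292 (iv D2816)) (tt N1721 D3688) (tt N1716 (iv F12790)) (tt N1298 F9902) (tt N1718 (iv F12797)))
theorem Q1495 : ∀ i, i < 1495 → P i := stepQ 1494 Q1494 (allL N1494 (tt N1722 D3689) (tt N1293 (iv D2817)) (tt N1708 (iv F12721)) (tt N1723 D3690) (tt N1717 (iv F12792)) (tt N1494 F9903) (tt N1494 F9904) (tt N1294 F9905))
theorem Q1496 : ∀ i, i < 1496 → P i := stepQ 1495 Q1495 (allL N1495 (tt N1311 F9906) (tt N1723 (iv F12810)) (tt N1495 F9907) (tt N1293 (iv D2818)) (tt N1724 D3691) (tt N1495 F9908) (tt N1495 F9909) (tt N1295 F9910))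
theorem Q1497 : ∀ i, i < 1497 → P i := stepQ 1496 Q1496 (allL N1496 (tt N1294 (iv D2819)) (tt N1312 F9911) (tt N1710 (iv F12729)) (tt N1725 D3692) (tt N1719 (iv F12799)) (tt N1496 F9912) (tt N1299 F9913) (tt N1722 (iv F12809)))
theorem Q1498 : ∀ i, i < 1498 → P i := stepQ 1497 Q1497 (allL N1497 (tt N1725 (iv F12818)) (tt N1295 F9914) (tt N1726 D3693) (tt N1294 (iv D2820)) (tt N1727 D3694) (tt N1497 F9915) (tt N1300 F9916) (tt N1723 (iv F12813)))
theorem Q1499 : ∀ i, i < 1499 → P i := stepQ 1498 Q1498 (allL N1498 (tt N1314 F9917) (tt N1727 (iv F12824)) (tt N1498 F9918) (tt N1721 (iv F12804)) (tt N1295 (iv D2821)) (tt N1728 D3695) (tt N1301 F9919) (tt N1724 (iv F12817)))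
theorem Q1500 : ∀ i, i < 1500 → P i := stepQ 1499 Q1499 (allL N1499 (tt N1729 D3696) (tt N1296 (iv D2822)) (tt N1499 F9920) (tt N1730 D3697) (tt N1499 F9921) (tt N1297 F9922) (tt N1715 (iv F12788)) (tt N1499 F9923))
theorem Q1501 : ∀ i, i < 1501 → P i := stepQ 1500 Q1500 (allL N1500 (tt N1316 F9924) (tt N1730 (iv F12835)) (tt N1500 F9925) (tt N1296 (iv D2823)) (tt N1731 D3698) (tt N1298 F9926) (tt N1716 (iv F12791)) (tt N1500 F9927))
theorem Q1502 : ∀ i, i < 1502 → P i := stepQ 1501 Q1501 (allL N1501 (tt N1297 (iv D2824)) (tt N1317 F9928) (tt N1501 F9929) (tt N1732 D3699) (tt N1299 F9930) (tt N1729 (iv F12833)) (tt N1719 (iv F12800)) (tt N1501 F9931))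
theorem Q1503 : ∀ i, i < 1503 → P i := stepQ 1502 Q1502 (allL N1502 (tt N1732 (iv F12842)) (tt N1298 F9932) (tt N1733 D3700) (tt N1297 (iv D2825)) (tt N1734 D3701) (tt N1730 (iv F12836)) (tt N1720 (iv F12802)) (tt N1502 F9933))
theorem Q1504 : ∀ i, i < 1504 → P i := stepQ 1503 Q1503 (allL N1503 (tt N1319 F9934) (tt N1734 (iv F12848)) (tt N1503 F9935) (tt N1301 F9936) (tt N1298 (iv D2826)) (tt N1735 D3702) (tt N1721 (iv F12805)) (tt N1503 F9937))
theorem Q1505 : ∀ i, i < 1505 → P i := stepQ 1504 Q1504 (allL N1504 (tt N1300 F9938) (tt N1320 F9939) (tt N1736 D3703) (tt N1299 (iv D2827)) (tt N1737 D3704) (tt N1504 F9940) (tt N1725 (iv F12821)) (tt N1504 F9941))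
theorem Q1506 : ∀ i, i < 1506 → P i := stepQ 1505 Q1505 (allL N1505 (tt N1736 (iv F12855)) (tt N1302 F9942) (tt N1300 (iv D2828)) (tt N1505 F9943) (tt N1738 D3705) (tt N1505 F9944) (tt N1739 D3706) (tt N1505 F9945))
theorem Q1507 : ∀ i, i < 1507 → P i := stepQ 1506 Q1506 (allL N1506 (tt N1737 (iv F12860)) (tt N1301 F9946) (tt N1738 (iv F12864)) (tt N1734 (iv F12849)) (tt N1300 (iv D2829)) (tt N1740 D3707) (tt N1727 (iv F12825)) (tt N1506 F9947))
theorem Q1508 : ∀ i, i < 1508 → P i := stepQ 1507 Q1507 (allL N1507 (tt N1322 F9948) (tt N1740 (iv F12869)) (tt N1304 F9949) (tt N1735 (iv F12853)) (tt N1507 F9950) (tt N1301 (iv D2830)) (tt N1728 (iv F12829)) (tt N1507 F9951))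
theorem Q1509 : ∀ i, i < 1509 → P i := stepQ 1508 Q1508 (allL N1508 (tt N1508 F9952) (tt N1738 (iv F12863)) (tt N1303 F9953) (tt N1741 D3708) (tt N1302 (iv D2831)) (tt N1742 D3709) (tt N1743 D3710) (tt N1508 F9954))
theorem Q1510 : ∀ i, i < 1510 → P i := stepQ 1509 Q1509 (allL N1509 (tt N1509 F9955) (tt N1739 (iv F12866)) (tt N1509 F9956) (tt N1509 F9957) (tt N1743 (iv F12882)) (tt N1509 F9958) (tt N1302 (iv D2832)) (tt N1744 D3711))
theorem Q1511 : ∀ i, i < 1511 → P i := stepQ 1510 Q1510 (allL N1510 (tt N1510 F9959) (tt N1304 F9960) (tt N1742 (iv F12877)) (tt N1510 F9961) (tt N1510 F9962) (tt N1303 (iv D2833)) (tt N1510 F9963) (tt N1510 F9964))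
theorem Q1512 : ∀ i, i < 1512 → P i := stepQ 1511 Q1511 (allL N1511 (tt N1745 D3723) (tt N1305 (iv D2842)) (tt N1356 F9993) (tt N1746 D3724) (tt N1511 F9994) (tt N1717 (iv F69665)) (tt N1511 F9995) (tt N1715 (iv F69590)))
theorem Q1513 : ∀ i, i < 1513 → P i := stepQ 1512 Q1512 (allL N1512 (tt N1714 (iv F12778)) (tt N1746 (iv F12928)) (tt N1309 F9996) (tt N1305 (iv D2843)) (tt N1747 D3725) (tt N1718 (iv F69683)) (tt N1512 F9997) (tt N1716 (iv F69681)))
theorem Q1514 : ∀ i, i < 1514 → P i := stepQ 1513 Q1513 (allL N1513 (tt N1748 D3728) (tt N1306 (iv D2845)) (tt N1359 F10002) (tt N1749 D3729) (tt N1513 F10003) (tt N1308 F10004) (tt N1315 F10005) (tt N1713 (iv F69417)))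
theorem Q1515 : ∀ i, i < 1515 → P i := stepQ 1514 Q1514 (allL N1514 (tt N1716 (iv F12789)) (tt N1749 (iv F12945)) (tt N1718 (iv F69682)) (tt N1306 (iv D2846)) (tt N1750 D3730) (tt N1309 F10006) (tt N1316 F10007) (tt N1714 (iv F69687)))
theorem Q1516 : ∀ i, i < 1516 → P i := stepQ 1515 Q1515 (allL N1515 (tt N1751 D3731) (tt N1307 (iv D2847)) (tt N1361 F10008) (tt N1752 D3732) (tt N1310 F10009) (tt N1713 (iv F69416)) (tt N1515 F10010) (tt N1308 F10011))
theorem Q1517 : ∀ i, i < 1517 → P i := stepQ 1516 Q1516 (allL N1516 (tt N1718 (iv F12795)) (tt N1752 (iv F12954)) (tt N1716 (iv F69680)) (tt N1307 (iv D2848)) (tt N1753 D3733) (tt N1714 (iv F69686)) (tt N1516 F10012) (tt N1309 F10013))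
theorem Q1518 : ∀ i, i < 1518 → P i := stepQ 1517 Q1517 (allL N1517 (tt N1308 (iv D2849)) (tt N1719 (iv F12798)) (tt N1363 F10014) (tt N1754 D3734) (tt N1312 F10015) (tt N1748 (iv F12943)) (tt N1317 F10016) (tt N1751 (iv F12953)))
theorem Q1519 : ∀ i, i < 1519 → P i := stepQ 1518 Q1518 (allL N1518 (tt N1754 (iv F12960)) (tt N1309 F10017) (tt N1755 D3735) (tt N1308 (iv D2850)) (tt N1756 D3736) (tt N1749 (iv F12946)) (tt N1318 F10018) (tt N1752 (iv F12956)))
theorem Q1520 : ∀ i, i < 1520 → P i := stepQ 1519 Q1519 (allL N1519 (tt N1721 (iv F12803)) (tt N1756 (iv F12963)) (tt N1747 (iv F12930)) (tt N1314 F10019) (tt N1309 (iv D2851)) (tt N1757 D3737) (tt N1319 F10020) (tt N1753 (iv F12959)))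
theorem Q1521 : ∀ i, i < 1521 → P i := stepQ 1520 Q1520 (allL N1520 (tt N1310 (iv D2852)) (tt N1722 (iv F12806)) (tt N1366 F10021) (tt N1758 D3738) (tt N1751 (iv F12951)) (tt N1520 F10022) (tt N1520 F10023) (tt N1312 F10024))
theorem Q1522 : ∀ i, i < 1522 → P i := stepQ 1521 Q1521 (allL N1521 (tt N1758 (iv F12968)) (tt N1311 F10025) (tt N1759 D3739) (tt N1310 (iv D2853)) (tt N1760 D3740) (tt N1521 F10026) (tt N1521 F10027) (tt N1313 F10028))
theorem Q1523 : ∀ i, i < 1523 → P i := stepQ 1522 Q1522 (allL N1522 (tt N1724 (iv F12814)) (tt N1760 (iv F12976)) (tt N1522 F10029) (tt N1753 (iv F12957)) (tt N1311 (iv D2854)) (tt N1761 D3741) (tt N1522 F10030) (tt N1314 F10031))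
theorem Q1524 : ∀ i, i < 1524 → P i := stepQ 1523 Q1523 (allL N1523 (tt N1313 F10032) (tt N1725 (iv F12819)) (tt N1762 D3742) (tt N1312 (iv D2855)) (tt N1763 D3743) (tt N1523 F10033) (tt N1320 F10034) (tt N1758 (iv F12971)))
theorem Q1525 : ∀ i, i < 1525 → P i := stepQ 1524 Q1524 (allL N1524 (tt N1762 (iv F12983)) (tt N1524 F10035) (tt N1313 (iv D2856)) (tt N1370 F10036) (tt N1764 D3744) (tt N1524 F10037) (tt N1524 F10038) (tt N1759 (iv F12975)))
theorem Q1526 : ∀ i, i < 1526 → P i := stepQ 1525 Q1525 (allL N1525 (tt N1763 (iv F12987)) (tt N1314 F10039) (tt N1764 (iv F12990)) (tt N1756 (iv F12964)) (tt N1313 (iv D2857)) (tt N1765 D3745) (tt N1321 F10040) (tt N1760 (iv F12978)))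
theorem Q1527 : ∀ i, i < 1527 → P i := stepQ 1526 Q1526 (allL N1526 (tt N1728 (iv F12826)) (tt N1765 (iv F12992)) (tt N1526 F10041) (tt N1757 (iv F12966)) (tt N1526 F10042) (tt N1314 (iv D2858)) (tt N1322 F10043) (tt N1761 (iv F12982)))
theorem Q1528 : ∀ i, i < 1528 → P i := stepQ 1527 Q1527 (allL N1527 (tt N1315 (iv D2859)) (tt N1729 (iv F12830)) (tt N1323 F10044) (tt N1766 D3746) (tt N1527 F10045) (tt N1317 F10046) (tt N1748 (iv F12944)) (tt N1527 F10047))
theorem Q1529 : ∀ i, i < 1529 → P i := stepQ 1528 Q1528 (allL N1528 (tt N1766 (iv F12995)) (tt N1316 F10048) (tt N1767 D3747) (tt N1315 (iv D2860)) (tt N1768 D3748) (tt N1318 F10049) (tt N1749 (iv F12947)) (tt N1528 F10050))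
theorem Q1530 : ∀ i, i < 1530 → P i := stepQ 1529 Q1529 (allL N1529 (tt N1731 (iv F12838)) (tt N1768 (iv F13002)) (tt N1529 F10051) (tt N1529 F10052) (tt N1316 (iv D2861)) (tt N1769 D3749) (tt N1750 (iv F12949)) (tt N1529 F10053))
theorem Q1531 : ∀ i, i < 1531 → P i := stepQ 1530 Q1530 (allL N1530 (tt N1318 F10054) (tt N1732 (iv F12843)) (tt N1770 D3750) (tt N1317 (iv D2862)) (tt N1771 D3751) (tt N1766 (iv F12996)) (tt N1754 (iv F12961)) (tt N1530 F10055))
theorem Q1532 : ∀ i, i < 1532 → P i := stepQ 1531 Q1531 (allL N1531 (tt N1770 (iv F13009)) (tt N1531 F10056) (tt N1318 (iv D2863)) (tt N1327 F10057) (tt N1772 D3752) (tt N1767 (iv F13000)) (tt N1773 D3753) (tt N1531 F10058))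
theorem Q1533 : ∀ i, i < 1533 → P i := stepQ 1532 Q1532 (allL N1532 (tt N1771 (iv F13012)) (tt N1319 F10059) (tt N1772 (iv F13016)) (tt N1321 F10060) (tt N1318 (iv D2864)) (tt N1774 D3754) (tt N1756 (iv F12965)) (tt N1532 F10061))
theorem Q1534 : ∀ i, i < 1534 → P i := stepQ 1533 Q1533 (allL N1533 (tt N1735 (iv F12851)) (tt N1774 (iv F13021)) (tt N1533 F10062) (tt N1322 F10063) (tt N1769 (iv F13007)) (tt N1319 (iv D2865)) (tt N1757 (iv F12967)) (tt N1533 F10064))
theorem Q1535 : ∀ i, i < 1535 → P i := stepQ 1534 Q1534 (allL N1534 (tt N1321 F10065) (tt N1737 (iv F12861)) (tt N1534 F10066) (tt N1771 (iv F13013)) (tt N1320 (iv D2866)) (tt N1775 D3755) (tt N1763 (iv F12988)) (tt N1534 F10067))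
theorem Q1536 : ∀ i, i < 1536 → P i := stepQ 1535 Q1535 (allL N1535 (tt N1775 (iv F13024)) (tt N1322 F10068) (tt N1535 F10069) (tt N1774 (iv F13022)) (tt N1535 F10070) (tt N1321 (iv D2867)) (tt N1765 (iv F12994)) (tt N1535 F10071))
theorem Q1537 : ∀ i, i < 1537 → P i := stepQ 1536 Q1536 (allL N1536 (tt N1324 F10072) (tt N1536 F10073) (tt N1776 D3756) (tt N1323 (iv D2868)) (tt N1777 D3757) (tt N1326 F10074) (tt N1382 F10075) (tt N1536 F10076))
theorem Q1538 : ∀ i, i < 1538 → P i := stepQ 1537 Q1537 (allL N1537 (tt N1776 (iv F13028)) (tt N1537 F10077) (tt N1324 (iv D2869)) (tt N1767 (iv F12999)) (tt N1778 D3758) (tt N1327 F10078) (tt N1779 D3759) (tt N1537 F10079))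
theorem Q1539 : ∀ i, i < 1539 → P i := stepQ 1538 Q1538 (allL N1538 (tt N1777 (iv F13031)) (tt N1325 F10080) (tt N1778 (iv F13038)) (tt N1538 F10081) (tt N1324 (iv D2870)) (tt N1538 F10082) (tt N1352 F67526) (tt N1538 F10084))
theorem Q1540 : ∀ i, i < 1540 → P i := stepQ 1539 Q1539 (allL N1539 (tt N1327 F10085) (tt N1780 D3760) (tt N1326 (iv D2871)) (tt N1770 (iv F13010)) (tt N1539 F10086) (tt N1776 (iv F13029)) (tt N1781 D3761) (tt N1539 F10087))
theorem Q1541 : ∀ i, i < 1541 → P i := stepQ 1540 Q1540 (allL N1540 (tt N1781 (iv F13048)) (tt N1540 F10088) (tt N1384 F10089) (tt N1773 (iv F13020)) (tt N1540 F10090) (tt N1779 (iv F13043)) (tt N1327 (iv D2872)) (tt N1782 D3762))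
theorem Q1542 : ∀ i, i < 1542 → P i := stepQ 1541 Q1541 (allL N1541 (tt N1358 (iv F69383)) (tt N1783 D3784) (tt N1328 (iv D2887)) (tt N1784 D3785) (tt N1541 F10135) (tt N1338 (iv F69399)) (tt N1427 (iv F69412)) (tt N1337 F69258))
theorem Q1543 : ∀ i, i < 1543 → P i := stepQ 1542 Q1542 (allL N1542 (tt N1355 (iv F69414)) (tt N1785 D3790) (tt N1329 (iv D2891)) (tt N1786 D3791) (tt N1542 F10147) (tt N1331 F10148) (tt N1542 F10149) (tt N1336 (iv F69403)))
theorem Q1544 : ∀ i, i < 1544 → P i := stepQ 1543 Q1543 (allL N1543 (tt N1354 (iv F69384)) (tt N1787 D3796) (tt N1330 (iv D2895)) (tt N1788 D3797) (tt N1333 F10158) (tt N1336 (iv F69402)) (tt N1393 (iv F69379)) (tt N1331 F10159))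
theorem Q1545 : ∀ i, i < 1545 → P i := stepQ 1544 Q1544 (allL N1544 (tt N1789 D3798) (tt N1331 (iv D2896)) (tt N1339 F10160) (tt N1790 D3799) (tt N1334 F10161) (tt N1785 (iv F13137)) (tt N1544 F10162) (tt N1787 (iv F13155)))
theorem Q1546 : ∀ i, i < 1546 → P i := stepQ 1545 Q1545 (allL N1545 (tt N1707 (iv F12701)) (tt N1790 (iv F13160)) (tt N1784 (iv F13121)) (tt N1331 (iv D2897)) (tt N1791 D3800) (tt N1786 (iv F13139)) (tt N1545 F10163) (tt N1788 (iv F13156)))
theorem Q1547 : ∀ i, i < 1547 → P i := stepQ 1546 Q1546 (allL N1546 (tt N1403 (iv F69638)) (tt N1792 D3804) (tt N1332 (iv D2901)) (tt N1793 D3805) (tt N1393 F69524) (tt N1546 F10175) (tt N1333 F10176) (tt N1546 F10177))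
theorem Q1548 : ∀ i, i < 1548 → P i := stepQ 1547 Q1547 (allL N1547 (tt N1794 D3806) (tt N1333 (iv D2902)) (tt N1341 F10178) (tt N1795 D3807) (tt N1787 (iv F13154)) (tt N1547 F10179) (tt N1792 (iv F13176)) (tt N1334 F10180))
theorem Q1549 : ∀ i, i < 1549 → P i := stepQ 1548 Q1548 (allL N1548 (tt N1709 (iv F12724)) (tt N1795 (iv F13184)) (tt N1548 F10181) (tt N1333 (iv D2903)) (tt N1796 D3808) (tt N1548 F10182) (tt N1793 (iv F13179)) (tt N1335 F10183))
theorem Q1550 : ∀ i, i < 1550 → P i := stepQ 1549 Q1549 (allL N1549 (tt N1334 (iv D2904)) (tt N1710 (iv F12728)) (tt N1343 F10184) (tt N1797 D3809) (tt N1789 (iv F13158)) (tt N1549 F10185) (tt N1549 F10186) (tt N1794 (iv F13183)))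
theorem Q1551 : ∀ i, i < 1551 → P i := stepQ 1550 Q1550 (allL N1550 (tt N1797 (iv F13189)) (tt N1335 F10187) (tt N1798 D3810) (tt N1334 (iv D2905)) (tt N1799 D3811) (tt N1550 F10188) (tt N1550 F10189) (tt N1795 (iv F13186)))
theorem Q1552 : ∀ i, i < 1552 → P i := stepQ 1551 Q1551 (allL N1551 (tt N1712 (iv F12735)) (tt N1799 (iv F13195)) (tt N1551 F10190) (tt N1791 (iv F13162)) (tt N1335 (iv D2906)) (tt N1800 D3812) (tt N1551 F10191) (tt N1796 (iv F13188)))
theorem Q1553 : ∀ i, i < 1553 → P i := stepQ 1552 Q1552 (allL N1552 (tt N1801 D3820) (tt N1336 (iv D2912)) (tt N1783 (iv F13119)) (tt N1802 D3821) (tt N1552 F10212) (tt N1787 (iv F69413)) (tt N1394 F10213) (tt N1785 F69291))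
theorem Q1554 : ∀ i, i < 1554 → P i := stepQ 1553 Q1553 (allL N1553 (tt N1357 F10214) (tt N1802 (iv F13229)) (tt N1340 F10215) (tt N1336 (iv D2913)) (tt N1803 D3822) (tt N1788 F69251) (tt N1395 F10216) (tt N1786 (iv F69406)))
theorem Q1555 : ∀ i, i < 1555 → P i := stepQ 1554 Q1554 (allL N1554 (tt N1804 D3825) (tt N1337 (iv D2915)) (tt N1785 (iv F13135)) (tt N1805 D3826) (tt N1554 F10222) (tt N1339 F10223) (tt N1346 F10224) (tt N1783 (iv F69194)))
theorem Q1556 : ∀ i, i < 1556 → P i := stepQ 1555 Q1555 (allL N1555 (tt N1360 F10225) (tt N1805 (iv F13247)) (tt N1788 (iv F69186)) (tt N1337 (iv D2916)) (tt N1806 D3827) (tt N1340 F10226) (tt N1347 F10227) (tt N1784 (iv F69187)))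
theorem Q1557 : ∀ i, i < 1557 → P i := stepQ 1556 Q1556 (allL N1556 (tt N1807 D3828) (tt N1338 (iv D2917)) (tt N1787 (iv F13153)) (tt N1808 D3829) (tt N1341 F10228) (tt N1783 F69263) (tt N1430 F10229) (tt N1339 F10230))
theorem Q1558 : ∀ i, i < 1558 → P i := stepQ 1557 Q1557 (allL N1557 (tt N1362 F10231) (tt N1808 (iv F13257)) (tt N1786 (iv F69405)) (tt N1338 (iv D2918)) (tt N1809 D3830) (tt N1784 F69252) (tt N1431 F10232) (tt N1340 F10233))
theorem Q1559 : ∀ i, i < 1559 → P i := stepQ 1558 Q1558 (allL N1558 (tt N1339 (iv D2919)) (tt N1363 F10234) (tt N1789 (iv F13157)) (tt N1810 D3831) (tt N1343 F10235) (tt N1804 (iv F13245)) (tt N1348 F10236) (tt N1807 (iv F13256)))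
theorem Q1560 : ∀ i, i < 1560 → P i := stepQ 1559 Q1559 (allL N1559 (tt N1810 (iv F13264)) (tt N1340 F10237) (tt N1811 D3832) (tt N1339 (iv D2920)) (tt N1812 D3833) (tt N1805 (iv F13248)) (tt N1349 F10238) (tt N1808 (iv F13259)))
theorem Q1561 : ∀ i, i < 1561 → P i := stepQ 1560 Q1560 (allL N1560 (tt N1365 F10239) (tt N1812 (iv F13267)) (tt N1803 (iv F13232)) (tt N1345 F10240) (tt N1340 (iv D2921)) (tt N1415 (iv F67134)) (tt N1350 F10241) (tt N1809 (iv F13263)))
theorem Q1562 : ∀ i, i < 1562 → P i := stepQ 1561 Q1561 (allL N1561 (tt N1341 (iv D2922)) (tt N1366 F10242) (tt N1794 (iv F13181)) (tt N1813 D3835) (tt N1807 (iv F13254)) (tt N1561 F10243) (tt N1435 F10244) (tt N1343 F10245))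
theorem Q1563 : ∀ i, i < 1563 → P i := stepQ 1562 Q1562 (allL N1562 (tt N1813 (iv F13273)) (tt N1342 F10246) (tt N1814 D3836) (tt N1341 (iv D2923)) (tt N1815 D3837) (tt N1562 F10247) (tt N1436 F10248) (tt N1344 F10249))
theorem Q1564 : ∀ i, i < 1564 → P i := stepQ 1563 Q1563 (allL N1563 (tt N1368 F10250) (tt N1815 (iv F13281)) (tt N1563 F10251) (tt N1809 (iv F13261)) (tt N1342 (iv D2924)) (tt N1416 F67265) (tt N1437 F10252) (tt N1345 F10253))
theorem Q1565 : ∀ i, i < 1565 → P i := stepQ 1564 Q1564 (allL N1564 (tt N1344 F10254) (tt N1369 F10255) (tt N1816 D3839) (tt N1343 (iv D2925)) (tt N1817 D3840) (tt N1564 F10256) (tt N1351 F10257) (tt N1813 (iv F13277)))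
theorem Q1566 : ∀ i, i < 1566 → P i := stepQ 1565 Q1565 (allL N1565 (tt N1816 (iv F13289)) (tt N1565 F10258) (tt N1344 (iv D2926)) (tt N1798 (iv F13193)) (tt N1779 F67537) (tt N1565 F10259) (tt N1778 (iv F67666)) (tt N1814 (iv F13280)))
theorem Q1567 : ∀ i, i < 1567 → P i := stepQ 1566 Q1566 (allL N1566 (tt N1817 (iv F13291)) (tt N1345 F10260) (tt N1779 (iv F67420)) (tt N1812 (iv F13268)) (tt N1344 (iv D2927)) (tt N1384 F67264) (tt N1353 F10261) (tt N1815 (iv F13283)))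
theorem Q1568 : ∀ i, i < 1568 → P i := stepQ 1567 Q1567 (allL N1567 (tt N1346 (iv D2929)) (tt N1373 F10266) (tt N1567 F10267) (tt N1818 D3844) (tt N1567 F10268) (tt N1348 F10269) (tt N1804 (iv F13246)) (tt N1440 F10270))
theorem Q1569 : ∀ i, i < 1569 → P i := stepQ 1568 Q1568 (allL N1568 (tt N1818 (iv F13302)) (tt N1347 F10271) (tt N1819 D3845) (tt N1346 (iv D2930)) (tt N1820 D3846) (tt N1349 F10272) (tt N1805 (iv F13249)) (tt N1441 F10273))
theorem Q1570 : ∀ i, i < 1570 → P i := stepQ 1569 Q1569 (allL N1569 (tt N1375 F10274) (tt N1820 (iv F13310)) (tt N1402 F10275) (tt N1569 F10276) (tt N1347 (iv D2931)) (tt N1414 F66994) (tt N1806 (iv F13252)) (tt N1442 F10277))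
theorem Q1571 : ∀ i, i < 1571 → P i := stepQ 1570 Q1570 (allL N1570 (tt N1349 F10278) (tt N1376 F10279) (tt N1821 D3848) (tt N1348 (iv D2932)) (tt N1822 D3849) (tt N1818 (iv F13304)) (tt N1810 (iv F13266)) (tt N1443 F10280))
theorem Q1572 : ∀ i, i < 1572 → P i := stepQ 1571 Q1571 (allL N1571 (tt N1821 (iv F13318)) (tt N1375 F67280) (tt N1349 (iv D2933)) (tt N1571 F10282) (tt N1374 F67281) (tt N1819 (iv F13308)) (tt N1823 D3851) (tt N1444 F10283))
theorem Q1573 : ∀ i, i < 1573 → P i := stepQ 1572 Q1572 (allL N1572 (tt N1822 (iv F13321)) (tt N1350 F10284) (tt N1374 (iv F67138)) (tt N1353 F10285) (tt N1349 (iv D2934)) (tt N1377 (iv F67132)) (tt N1812 (iv F13269)) (tt N1445 F10286))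
theorem Q1574 : ∀ i, i < 1574 → P i := stepQ 1573 Q1573 (allL N1573 (tt N1352 F10291) (tt N1573 F10292) (tt N1351 (iv D2936)) (tt N1573 F10293) (tt N1382 F67524) (tt N1573 F10294) (tt N1777 (iv F67664)) (tt N1446 F10295))
theorem Q1575 : ∀ i, i < 1575 → P i := stepQ 1574 Q1574 (allL N1574 (tt N1353 F10296) (tt N1380 F10297) (tt N1382 (iv F67362)) (tt N1822 (iv F13323)) (tt N1351 (iv D2937)) (tt N1383 F67263) (tt N1817 (iv F13293)) (tt N1447 F10298))
theorem Q1576 : ∀ i, i < 1576 → P i := stepQ 1575 Q1575 (allL N1575 (tt N1824 D3869) (tt N1354 (iv D2948)) (tt N1717 (iv F69664)) (tt N1825 D3870) (tt N1708 (iv F69666)) (tt N1356 F10334) (tt N1404 F10335) (tt N1706 (iv F69577)))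
theorem Q1577 : ∀ i, i < 1577 → P i := stepQ 1576 Q1576 (allL N1576 (tt N1788 F69238) (tt N1825 (iv F13392)) (tt N1360 F10336) (tt N1354 (iv D2949)) (tt N1826 D3871) (tt N1357 F10337) (tt N1405 F10338) (tt N1707 (iv F69387)))
theorem Q1578 : ∀ i, i < 1578 → P i := stepQ 1577 Q1577 (allL N1577 (tt N1827 D3872) (tt N1355 (iv D2950)) (tt N1715 (iv F69589)) (tt N1828 D3873) (tt N1577 F10339) (tt N1706 (iv F69576)) (tt N1577 F10340) (tt N1356 F10341))
theorem Q1579 : ∀ i, i < 1579 → P i := stepQ 1578 Q1578 (allL N1578 (tt N1786 (iv F69404)) (tt N1828 (iv F13400)) (tt N1362 F10342) (tt N1355 (iv D2951)) (tt N1829 D3874) (tt N1707 (iv F69386)) (tt N1578 F10343) (tt N1357 F10344))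
theorem Q1580 : ∀ i, i < 1580 → P i := stepQ 1579 Q1579 (allL N1579 (tt N1356 (iv D2952)) (tt N1801 (iv F13226)) (tt N1745 (iv F12925)) (tt N1830 D3875) (tt N1579 F10345) (tt N1824 (iv F13390)) (tt N1406 F10346) (tt N1827 (iv F13399)))
theorem Q1581 : ∀ i, i < 1581 → P i := stepQ 1580 Q1580 (allL N1580 (tt N1830 (iv F13407)) (tt N1357 F10347) (tt N1831 D3876) (tt N1356 (iv D2953)) (tt N1832 D3877) (tt N1825 (iv F13393)) (tt N1407 F10348) (tt N1828 (iv F13402)))
theorem Q1582 : ∀ i, i < 1582 → P i := stepQ 1581 Q1581 (allL N1581 (tt N1803 (iv F13231)) (tt N1832 (iv F13410)) (tt N1365 F10349) (tt N1581 F10350) (tt N1357 (iv D2954)) (tt N1833 D3878) (tt N1408 F10351) (tt N1829 (iv F13406)))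
theorem Q1583 : ∀ i, i < 1583 → P i := stepQ 1582 Q1582 (allL N1582 (tt N1834 D3879) (tt N1358 (iv D2955)) (tt N1713 (iv F69415)) (tt N1835 D3880) (tt N1582 F10352) (tt N1361 F10353) (tt N1448 F10354) (tt N1359 F10355))
theorem Q1584 : ∀ i, i < 1584 → P i := stepQ 1583 Q1583 (allL N1583 (tt N1784 F69239) (tt N1835 (iv F13420)) (tt N1707 (iv F69385)) (tt N1358 (iv D2956)) (tt N1836 D3881) (tt N1362 F10356) (tt N1449 F10357) (tt N1360 F10358))
theorem Q1585 : ∀ i, i < 1585 → P i := stepQ 1584 Q1584 (allL N1584 (tt N1359 (iv D2957)) (tt N1804 (iv F13243)) (tt N1748 (iv F12941)) (tt N1837 D3882) (tt N1584 F10359) (tt N1363 F10360) (tt N1373 F10361) (tt N1834 (iv F13419)))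
theorem Q1586 : ∀ i, i < 1586 → P i := stepQ 1585 Q1585 (allL N1585 (tt N1837 (iv F13427)) (tt N1360 F10362) (tt N1838 D3883) (tt N1359 (iv D2958)) (tt N1823 (iv F67439)) (tt N1364 F10363) (tt N1374 F10364) (tt N1835 (iv F13423)))
theorem Q1587 : ∀ i, i < 1587 → P i := stepQ 1586 Q1586 (allL N1586 (tt N1806 (iv F13250)) (tt N1823 (iv F67438)) (tt N1826 (iv F13395)) (tt N1586 F10365) (tt N1360 (iv D2959)) (tt N1839 D3885) (tt N1375 F10366) (tt N1836 (iv F13426)))
theorem Q1588 : ∀ i, i < 1588 → P i := stepQ 1587 Q1587 (allL N1587 (tt N1361 (iv D2960)) (tt N1807 (iv F13253)) (tt N1751 (iv F12950)) (tt N1840 D3886) (tt N1366 F10367) (tt N1834 (iv F13417)) (tt N1453 F10368) (tt N1363 F10369))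
theorem Q1589 : ∀ i, i < 1589 → P i := stepQ 1588 Q1588 (allL N1588 (tt N1840 (iv F13437)) (tt N1362 F10370) (tt N1841 D3887) (tt N1361 (iv D2961)) (tt N1842 D3888) (tt N1835 (iv F13421)) (tt N1454 F10371) (tt N1364 F10372))
theorem Q1590 : ∀ i, i < 1590 → P i := stepQ 1589 Q1589 (allL N1589 (tt N1809 (iv F13260)) (tt N1842 (iv F13441)) (tt N1829 (iv F13403)) (tt N1368 F10373) (tt N1362 (iv D2962)) (tt N1843 D3889) (tt N1455 F10374) (tt N1365 F10375))
theorem Q1591 : ∀ i, i < 1591 → P i := stepQ 1590 Q1590 (allL N1590 (tt N1364 F10376) (tt N1810 (iv F13265)) (tt N1844 D3890) (tt N1363 (iv D2963)) (tt N1845 D3891) (tt N1837 (iv F13428)) (tt N1376 F10377) (tt N1840 (iv F13439)))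
theorem Q1592 : ∀ i, i < 1592 → P i := stepQ 1591 Q1591 (allL N1591 (tt N1844 (iv F13448)) (tt N1831 (iv F13409)) (tt N1364 (iv D2964)) (tt N1755 (iv F12962)) (tt N1846 D3892) (tt N1838 (iv F13430)) (tt N1847 D3893) (tt N1841 (iv F13440)))
theorem Q1593 : ∀ i, i < 1593 → P i := stepQ 1592 Q1592 (allL N1592 (tt N1845 (iv F13449)) (tt N1365 F10378) (tt N1846 (iv F13452)) (tt N1371 F10379) (tt N1364 (iv D2965)) (tt N1848 D3894) (tt N1378 F10380) (tt N1842 (iv F13444)))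
theorem Q1594 : ∀ i, i < 1594 → P i := stepQ 1593 Q1593 (allL N1593 (tt N1415 (iv F67133)) (tt N1848 (iv F13454)) (tt N1833 (iv F13413)) (tt N1372 F10381) (tt N1839 (iv F13435)) (tt N1365 (iv D2966)) (tt N1379 F10382) (tt N1843 (iv F13447)))
theorem Q1595 : ∀ i, i < 1595 → P i := stepQ 1594 Q1594 (allL N1594 (tt N1367 F10383) (tt N1813 (iv F13274)) (tt N1849 D3895) (tt N1366 (iv D2967)) (tt N1850 D3896) (tt N1594 F10384) (tt N1460 F10385) (tt N1369 F10386))
theorem Q1596 : ∀ i, i < 1596 → P i := stepQ 1595 Q1595 (allL N1595 (tt N1849 (iv F13457)) (tt N1595 F10387) (tt N1367 (iv D2968)) (tt N1759 (iv F12973)) (tt N1851 D3897) (tt N1595 F10388) (tt N1852 D3898) (tt N1370 F10389))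
theorem Q1597 : ∀ i, i < 1597 → P i := stepQ 1596 Q1596 (allL N1596 (tt N1850 (iv F13460)) (tt N1368 F10390) (tt N1851 (iv F13464)) (tt N1842 (iv F13442)) (tt N1367 (iv D2969)) (tt N1853 D3899) (tt N1462 F10391) (tt N1371 F10392))
theorem Q1598 : ∀ i, i < 1598 → P i := stepQ 1597 Q1597 (allL N1597 (tt N1416 F67306) (tt N1853 (iv F13470)) (tt N1597 F10393) (tt N1843 (iv F13445)) (tt N1597 F10394) (tt N1368 (iv D2970)) (tt N1463 F10395) (tt N1372 F10396))
theorem Q1599 : ∀ i, i < 1599 → P i := stepQ 1598 Q1598 (allL N1598 (tt N1370 F10397) (tt N1854 D3900) (tt N1369 (iv D2971)) (tt N1762 (iv F12984)) (tt N1855 D3901) (tt N1598 F10398) (tt N1598 F10399) (tt N1849 (iv F13459)))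
theorem Q1600 : ∀ i, i < 1600 → P i := stepQ 1599 Q1599 (allL N1599 (tt N1371 F10400) (tt N1817 (iv F13292)) (tt N1855 (iv F13478)) (tt N1845 (iv F13450)) (tt N1369 (iv D2972)) (tt N1856 D3902) (tt N1380 F10401) (tt N1850 (iv F13462)))
theorem Q1601 : ∀ i, i < 1601 → P i := stepQ 1600 Q1600 (allL N1600 (tt N1855 (iv F13477)) (tt N1600 F10402) (tt N1371 F10403) (tt N1857 D3903) (tt N1370 (iv D2973)) (tt N1858 D3904) (tt N1600 F10404) (tt N1851 (iv F13465)))
theorem Q1602 : ∀ i, i < 1602 → P i := stepQ 1601 Q1601 (allL N1601 (tt N1856 (iv F13480)) (tt N1372 F10405) (tt N1858 (iv F13486)) (tt N1848 (iv F13455)) (tt N1601 F10406) (tt N1371 (iv D2974)) (tt N1381 F10407) (tt N1853 (iv F13473)))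
theorem Q1603 : ∀ i, i < 1603 → P i := stepQ 1602 Q1602 (allL N1602 (tt N1374 F10408) (tt N1818 (iv F13303)) (tt N1822 F67278) (tt N1373 (iv D2975)) (tt N1821 (iv F67436)) (tt N1376 F10409) (tt N1837 (iv F13429)) (tt N1468 F10410))
theorem Q1604 : ∀ i, i < 1604 → P i := stepQ 1603 Q1603 (allL N1603 (tt N1414 (iv F66867)) (tt N1819 (iv F67231)) (tt N1401 F67092) (tt N1603 F10419) (tt N1379 F10420) (tt N1375 (iv D2978)) (tt N1839 (iv F13436)) (tt N1469 F10421))
theorem Q1605 : ∀ i, i < 1605 → P i := stepQ 1604 Q1604 (allL N1604 (tt N1377 F10422) (tt N1859 D3910) (tt N1376 (iv D2979)) (tt N1383 F10423) (tt N1860 D3911) (tt N1822 F67268) (tt N1861 D3912) (tt N1470 F10424))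
theorem Q1606 : ∀ i, i < 1606 → P i := stepQ 1605 Q1605 (allL N1605 (tt N1378 F10425) (tt N1822 (iv F13322)) (tt N1860 (iv F13510)) (tt N1380 F10426) (tt N1376 (iv D2980)) (tt N1859 F67275) (tt N1845 (iv F13451)) (tt N1471 F10427))
theorem Q1607 : ∀ i, i < 1607 → P i := stepQ 1606 Q1606 (allL N1606 (tt N1860 (iv F13509)) (tt N1414 F10428) (tt N1378 F10429) (tt N1606 F10430) (tt N1377 (iv D2981)) (tt N1820 (iv F67144)) (tt N1862 D3915) (tt N1472 F10431))
theorem Q1608 : ∀ i, i < 1608 → P i := stepQ 1607 Q1607 (allL N1607 (tt N1861 (iv F13513)) (tt N1415 F10432) (tt N1847 (iv F13453)) (tt N1384 F10433) (tt N1862 (iv F13524)) (tt N1812 F67269) (tt N1377 (iv D2982)) (tt N1863 D3916))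
theorem Q1609 : ∀ i, i < 1609 → P i := stepQ 1608 Q1608 (allL N1608 (tt N1859 (iv F67159)) (tt N1379 F10434) (tt N1820 F67266) (tt N1381 F10435) (tt N1819 F67267) (tt N1378 (iv D2983)) (tt N1848 (iv F13456)) (tt N1474 F10436))
theorem Q1610 : ∀ i, i < 1610 → P i := stepQ 1609 Q1609 (allL N1609 (tt N1381 F10437) (tt N1383 F67304) (tt N1609 F10438) (tt N1859 F67305) (tt N1609 F10439) (tt N1380 (iv D2984)) (tt N1856 (iv F13482)) (tt N1475 F10440))
theorem Q1611 : ∀ i, i < 1611 → P i := stepQ 1610 Q1610 (allL N1610 (tt N1384 F10459) (tt N1856 (iv F67467)) (tt N1781 (iv F13049)) (tt N1861 (iv F13514)) (tt N1610 F10460) (tt N1817 (iv F67419)) (tt N1383 (iv D2990)) (tt N1864 D3924))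
theorem Q1612 : ∀ i, i < 1612 → P i := stepQ 1611 Q1611 (allL N1611 (tt N1864 (iv F13551)) (tt N1416 F10461) (tt N1782 (iv F13052)) (tt N1863 (iv F13526)) (tt N1611 F10462) (tt N1815 (iv F67421)) (tt N1477 F10463) (tt N1384 (iv D2991)))
theorem Q1613 : ∀ i, i < 1613 → P i := stepQ 1612 Q1612 (allL N1612 (tt N1612 F10487) (tt N1865 D3932) (tt N1385 (iv D2998)) (tt N1866 D3933) (tt N1612 F10488) (tt N1421 (iv F69689)) (tt N1387 F10489) (tt N1420 F69566))
theorem Q1614 : ∀ i, i < 1614 → P i := stepQ 1613 Q1613 (allL N1613 (tt N1613 F10496) (tt N1867 D3935) (tt N1386 (iv D3000)) (tt N1868 D3936) (tt N1424 (iv F69764)) (tt N1387 F10497) (tt N1421 F69723) (tt N1613 F10498))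
theorem Q1615 : ∀ i, i < 1615 → P i := stepQ 1614 Q1614 (allL N1614 (tt N1869 D3937) (tt N1387 (iv D3001)) (tt N1394 F10499) (tt N1870 D3938) (tt N1614 F10500) (tt N1867 (iv F13591)) (tt N1865 (iv F13582)) (tt N1614 F10501))
theorem Q1616 : ∀ i, i < 1616 → P i := stepQ 1615 Q1615 (allL N1615 (tt N1615 F10502) (tt N1870 (iv F13601)) (tt N1390 F10503) (tt N1387 (iv D3002)) (tt N1871 D3939) (tt N1868 (iv F13595)) (tt N1866 (iv F13585)) (tt N1615 F10504))
theorem Q1617 : ∀ i, i < 1617 → P i := stepQ 1616 Q1616 (allL N1616 (tt N1413 F66746) (tt N1388 (iv D3003)) (tt N1396 F10505) (tt N1872 D3941) (tt N1412 F66747) (tt N1389 F10507) (tt N1616 F10508) (tt N1616 F10509))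
theorem Q1618 : ∀ i, i < 1618 → P i := stepQ 1617 Q1617 (allL N1617 (tt N1617 F10510) (tt N1872 (iv F13613)) (tt N1868 (iv F13594)) (tt N1388 (iv D3004)) (tt N1617 F67110) (tt N1390 F10511) (tt N1617 F10512) (tt N1617 F10513))
theorem Q1619 : ∀ i, i < 1619 → P i := stepQ 1618 Q1618 (allL N1618 (tt N1389 (iv D3005)) (tt N1618 F10514) (tt N1398 F10515) (tt N1873 D3943) (tt N1391 F10516) (tt N1413 (iv F66612)) (tt N1618 F10517) (tt N1618 F10518))
theorem Q1620 : ∀ i, i < 1620 → P i := stepQ 1619 Q1619 (allL N1619 (tt N1873 (iv F13621)) (tt N1390 F10519) (tt N1874 D3944) (tt N1389 (iv D3006)) (tt N1419 (iv F66777)) (tt N1872 (iv F13614)) (tt N1619 F10520) (tt N1619 F10521))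
theorem Q1621 : ∀ i, i < 1621 → P i := stepQ 1620 Q1620 (allL N1620 (tt N1620 F10522) (tt N1419 F66913) (tt N1871 (iv F13604)) (tt N1392 F10523) (tt N1390 (iv D3007)) (tt N1620 F67051) (tt N1620 F10524) (tt N1620 F10525))
theorem Q1622 : ∀ i, i < 1622 → P i := stepQ 1621 Q1621 (allL N1621 (tt N1875 D3954) (tt N1393 (iv D3013)) (tt N1867 (iv F13590)) (tt N1876 D3955) (tt N1792 (iv F69643)) (tt N1394 F10547) (tt N1787 F69523) (tt N1621 F10548))
theorem Q1623 : ∀ i, i < 1623 → P i := stepQ 1622 Q1622 (allL N1622 (tt N1405 F10549) (tt N1876 (iv F13664)) (tt N1397 F10550) (tt N1393 (iv D3014)) (tt N1877 D3956) (tt N1395 F10551) (tt N1788 F69236) (tt N1622 F10552))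
theorem Q1624 : ∀ i, i < 1624 → P i := stepQ 1623 Q1623 (allL N1623 (tt N1394 (iv D3015)) (tt N1406 F10553) (tt N1869 (iv F13598)) (tt N1878 D3957) (tt N1623 F10554) (tt N1875 (iv F13662)) (tt N1801 (iv F13228)) (tt N1623 F10555))
theorem Q1625 : ∀ i, i < 1625 → P i := stepQ 1624 Q1624 (allL N1624 (tt N1878 (iv F13670)) (tt N1395 F10556) (tt N1879 D3958) (tt N1394 (iv D3016)) (tt N1880 D3959) (tt N1876 (iv F13665)) (tt N1802 (iv F13230)) (tt N1624 F10557))
theorem Q1626 : ∀ i, i < 1626 → P i := stepQ 1625 Q1625 (allL N1625 (tt N1408 F10558) (tt N1880 (iv F13675)) (tt N1400 F10559) (tt N1625 F10560) (tt N1395 (iv D3017)) (tt N1410 F66997) (tt N1803 (iv F13234)) (tt N1625 F10561))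
theorem Q1627 : ∀ i, i < 1627 → P i := stepQ 1626 Q1626 (allL N1626 (tt N1411 F67011) (tt N1397 F10567) (tt N1881 D3962) (tt N1396 (iv D3019)) (tt N1409 F67012) (tt N1399 F10568) (tt N1401 F10569) (tt N1626 F10570))
theorem Q1628 : ∀ i, i < 1628 → P i := stepQ 1627 Q1627 (allL N1627 (tt N1399 (iv F66879)) (tt N1409 (iv F66875)) (tt N1877 (iv F13668)) (tt N1398 F66739) (tt N1397 (iv D3020)) (tt N1411 (iv F66869)) (tt N1402 F10573) (tt N1627 F10574))
theorem Q1629 : ∀ i, i < 1629 → P i := stepQ 1628 Q1628 (allL N1628 (tt N1877 F67017) (tt N1879 (iv F13673)) (tt N1399 (iv D3022)) (tt N1874 (iv F13625)) (tt N1405 F67018) (tt N1881 (iv F13687)) (tt N1826 (iv F67172)) (tt N1628 F10579))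
theorem Q1630 : ∀ i, i < 1630 → P i := stepQ 1629 Q1629 (allL N1629 (tt N1882 D4004) (tt N1403 (iv D3050)) (tt N1629 F10671) (tt N1883 D4005) (tt N1404 F10672) (tt N1629 F10673) (tt N1708 F69719) (tt N1629 F10674))
theorem Q1631 : ∀ i, i < 1631 → P i := stepQ 1630 Q1630 (allL N1630 (tt N1793 F69526) (tt N1883 (iv F13828)) (tt N1419 F10675) (tt N1403 (iv D3051)) (tt N1874 F66914) (tt N1630 F10676) (tt N1709 F69527) (tt N1630 F10677))
theorem Q1632 : ∀ i, i < 1632 → P i := stepQ 1631 Q1631 (allL N1631 (tt N1404 (iv D3052)) (tt N1875 (iv F13661)) (tt N1631 F10678) (tt N1884 D4007) (tt N1882 (iv F13825)) (tt N1406 F10679) (tt N1824 (iv F13391)) (tt N1631 F10680))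
theorem Q1633 : ∀ i, i < 1633 → P i := stepQ 1632 Q1632 (allL N1632 (tt N1884 (iv F13834)) (tt N1405 F10681) (tt N1880 (iv F67148)) (tt N1404 (iv D3053)) (tt N1879 (iv F67171)) (tt N1407 F10682) (tt N1825 (iv F13394)) (tt N1632 F10683))
theorem Q1634 : ∀ i, i < 1634 → P i := stepQ 1633 Q1633 (allL N1633 (tt N1407 F10686) (tt N1878 (iv F13671)) (tt N1885 D4011) (tt N1406 (iv D3055)) (tt N1886 D4012) (tt N1884 (iv F13835)) (tt N1830 (iv F13408)) (tt N1633 F10687))
theorem Q1635 : ∀ i, i < 1635 → P i := stepQ 1634 Q1634 (allL N1634 (tt N1885 (iv F13846)) (tt N1410 F10688) (tt N1407 (iv D3056)) (tt N1634 F10689) (tt N1887 D4013) (tt N1880 (iv F67149)) (tt N1888 D4014) (tt N1634 F10690))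
theorem Q1636 : ∀ i, i < 1636 → P i := stepQ 1635 Q1635 (allL N1635 (tt N1886 (iv F13849)) (tt N1408 F10691) (tt N1887 (iv F13853)) (tt N1635 F10692) (tt N1407 (iv D3057)) (tt N1889 D4015) (tt N1832 (iv F13412)) (tt N1635 F10693))
theorem Q1637 : ∀ i, i < 1637 → P i := stepQ 1636 Q1636 (allL N1636 (tt N1410 F67008) (tt N1889 (iv F13857)) (tt N1409 F67009) (tt N1636 F10695) (tt N1881 (iv F67163)) (tt N1408 (iv D3058)) (tt N1833 (iv F13415)) (tt N1636 F10696))
theorem Q1638 : ∀ i, i < 1638 → P i := stepQ 1637 Q1637 (allL N1637 (tt N1881 (iv F67162)) (tt N1887 (iv F13852)) (tt N1411 F10719) (tt N1890 D4025) (tt N1410 (iv D3065)) (tt N1877 F67006) (tt N1891 D4027) (tt N1637 F10720))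
theorem Q1639 : ∀ i, i < 1639 → P i := stepQ 1638 Q1638 (allL N1638 (tt N1833 (iv F67160)) (tt N1888 (iv F13855)) (tt N1415 F10721) (tt N1638 F10722) (tt N1891 (iv F13896)) (tt N1803 (iv F67147)) (tt N1410 (iv D3066)) (tt N1892 D4028))
theorem Q1640 : ∀ i, i < 1640 → P i := stepQ 1639 Q1639 (allL N1639 (tt N1872 (iv F66887)) (tt N1639 F10740) (tt N1890 (iv F13890)) (tt N1413 (iv D3071)) (tt N1639 F10741) (tt N1873 F66745) (tt N1639 F10742) (tt N1639 F10743))
theorem Q1641 : ∀ i, i < 1641 → P i := stepQ 1640 Q1640 (allL N1640 (tt N1839 F67004) (tt N1862 (iv F13522)) (tt N1891 (iv F13895)) (tt N1640 F10778) (tt N1415 F10779) (tt N1806 (iv F67145)) (tt N1414 (iv D3083)) (tt N1893 D4047))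
theorem Q1642 : ∀ i, i < 1642 → P i := stepQ 1641 Q1641 (allL N1641 (tt N1843 F67271) (tt N1863 (iv F13525)) (tt N1892 (iv F13897)) (tt N1416 F10780) (tt N1893 (iv F13958)) (tt N1809 F67272) (tt N1479 F10781) (tt N1415 (iv D3084)))
theorem Q1643 : ∀ i, i < 1643 → P i := stepQ 1642 Q1642 (allL N1642 (tt N1419 F10911) (tt N1642 F66571) (tt N1793 F69540) (tt N1418 (iv D3121)) (tt N1873 F66744) (tt N1642 F10912) (tt N1642 F10913) (tt N1642 F10914))
theorem Q1644 : ∀ i, i < 1644 → P i := stepQ 1643 Q1643 (allL N1643 (tt N1894 D4235) (tt N1420 (iv D3229)) (tt N1428 F11278) (tt N1895 D4236) (tt N1643 F11279) (tt N1422 F11280) (tt N1643 F11281) (tt N1865 (iv F69444)))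
theorem Q1645 : ∀ i, i < 1645 → P i := stepQ 1644 Q1644 (allL N1644 (tt N1644 F11282) (tt N1895 (iv F14602)) (tt N1644 F11283) (tt N1420 (iv D3230)) (tt N1896 D4237) (tt N1423 F11284) (tt N1644 F11285) (tt N1866 (iv F69690)))
theorem Q1646 : ∀ i, i < 1646 → P i := stepQ 1645 Q1645 (allL N1645 (tt N1897 D4243) (tt N1421 (iv D3235)) (tt N1430 F11301) (tt N1898 D4244) (tt N1425 F11302) (tt N1865 F69565) (tt N1867 (iv F69642)) (tt N1422 F11303))
theorem Q1647 : ∀ i, i < 1647 → P i := stepQ 1646 Q1646 (allL N1646 (tt N1646 F11304) (tt N1898 (iv F14630)) (tt N1646 F11305) (tt N1421 (iv D3236)) (tt N1646 F68129) (tt N1866 F69726) (tt N1868 F69727) (tt N1423 F11306))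
theorem Q1648 : ∀ i, i < 1648 → P i := stepQ 1647 Q1647 (allL N1647 (tt N1422 (iv D3237)) (tt N1647 F11307) (tt N1432 F11308) (tt N1899 D4246) (tt N1426 F11309) (tt N1894 (iv F14600)) (tt N1647 F11310) (tt N1897 (iv F14629)))
theorem Q1649 : ∀ i, i < 1649 → P i := stepQ 1648 Q1648 (allL N1648 (tt N1899 (iv F14636)) (tt N1423 F11311) (tt N1900 D4247) (tt N1422 (iv D3238)) (tt N1648 F67966) (tt N1895 (iv F14603)) (tt N1648 F11312) (tt N1898 (iv F14631)))
theorem Q1650 : ∀ i, i < 1650 → P i := stepQ 1649 Q1649 (allL N1649 (tt N1901 D4254) (tt N1424 (iv D3243)) (tt N1792 (iv F13174)) (tt N1649 F67982) (tt N1867 F69725) (tt N1649 F11328) (tt N1425 F11329) (tt N1649 F11330))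
theorem Q1651 : ∀ i, i < 1651 → P i := stepQ 1650 Q1650 (allL N1650 (tt N1425 (iv D3245)) (tt N1650 F11335) (tt N1435 F11336) (tt N1650 F67978) (tt N1897 (iv F14628)) (tt N1650 F11337) (tt N1901 (iv F14666)) (tt N1426 F11338))
theorem Q1652 : ∀ i, i < 1652 → P i := stepQ 1651 Q1651 (allL N1651 (tt N1902 D4266) (tt N1427 (iv D3252)) (tt N1865 (iv F69443)) (tt N1903 D4267) (tt N1651 F11358) (tt N1430 F11359) (tt N1783 F69292) (tt N1428 F11360))
theorem Q1653 : ∀ i, i < 1653 → P i := stepQ 1652 Q1652 (allL N1652 (tt N1449 F11361) (tt N1903 (iv F14708)) (tt N1652 F11362) (tt N1427 (iv D3253)) (tt N1904 D4268) (tt N1431 F11363) (tt N1784 F69259) (tt N1429 F11364))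
theorem Q1654 : ∀ i, i < 1654 → P i := stepQ 1653 Q1653 (allL N1653 (tt N1428 (iv D3254)) (tt N1450 F11365) (tt N1894 (iv F14598)) (tt N1905 D4269) (tt N1653 F11366) (tt N1432 F11367) (tt N1440 F11368) (tt N1902 (iv F14707)))
theorem Q1655 : ∀ i, i < 1655 → P i := stepQ 1654 Q1654 (allL N1654 (tt N1905 (iv F14715)) (tt N1429 F11369) (tt N1906 D4270) (tt N1428 (iv D3255)) (tt N1907 D4271) (tt N1433 F11370) (tt N1441 F11371) (tt N1903 (iv F14710)))
theorem Q1656 : ∀ i, i < 1656 → P i := stepQ 1655 Q1655 (allL N1655 (tt N1452 F11372) (tt N1907 (iv F14721)) (tt N1655 F11373) (tt N1655 F11374) (tt N1429 (iv D3256)) (tt N1478 F67289) (tt N1442 F11375) (tt N1904 (iv F14714)))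
theorem Q1657 : ∀ i, i < 1657 → P i := stepQ 1656 Q1656 (allL N1656 (tt N1430 (iv D3257)) (tt N1453 F11376) (tt N1897 (iv F14627)) (tt N1908 D4273) (tt N1435 F11377) (tt N1902 (iv F14706)) (tt N1807 (iv F13255)) (tt N1432 F11378))
theorem Q1658 : ∀ i, i < 1658 → P i := stepQ 1657 Q1657 (allL N1657 (tt N1908 (iv F14729)) (tt N1431 F11379) (tt N1909 D4274) (tt N1430 (iv D3258)) (tt N1910 D4275) (tt N1903 (iv F14709)) (tt N1808 (iv F13258)) (tt N1433 F11380))
theorem Q1659 : ∀ i, i < 1659 → P i := stepQ 1658 Q1658 (allL N1658 (tt N1455 F11381) (tt N1910 (iv F14734)) (tt N1658 F11382) (tt N1437 F11383) (tt N1431 (iv D3259)) (tt N1479 (iv F67430)) (tt N1809 (iv F13262)) (tt N1434 F11384))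
theorem Q1660 : ∀ i, i < 1660 → P i := stepQ 1659 Q1659 (allL N1659 (tt N1433 F11385) (tt N1456 F11386) (tt N1911 D4277) (tt N1432 (iv D3260)) (tt N1912 D4278) (tt N1905 (iv F14717)) (tt N1443 F11387) (tt N1908 (iv F14731)))
theorem Q1661 : ∀ i, i < 1661 → P i := stepQ 1660 Q1660 (allL N1660 (tt N1911 (iv F14741)) (tt N1660 F11388) (tt N1433 (iv D3261)) (tt N1900 (iv F14640)) (tt N1913 D4279) (tt N1906 (iv F14720)) (tt N1914 D4280) (tt N1909 (iv F14733)))
theorem Q1662 : ∀ i, i < 1662 → P i := stepQ 1661 Q1661 (allL N1661 (tt N1912 (iv F14742)) (tt N1434 F11389) (tt N1913 (iv F14747)) (tt N1439 F11390) (tt N1433 (iv D3262)) (tt N1473 (iv F67428)) (tt N1445 F11391) (tt N1910 (iv F14736)))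
theorem Q1663 : ∀ i, i < 1663 → P i := stepQ 1662 Q1662 (allL N1662 (tt N1436 F11396) (tt N1460 F11397) (tt N1662 F67977) (tt N1435 (iv D3264)) (tt N1915 D4283) (tt N1662 F11398) (tt N1813 (iv F13276)) (tt N1438 F11399))
theorem Q1664 : ∀ i, i < 1664 → P i := stepQ 1663 Q1663 (allL N1663 (tt N1915 (iv F14756)) (tt N1437 F11403) (tt N1663 F67707) (tt N1910 (iv F14735)) (tt N1436 (iv D3266)) (tt N1477 F67572) (tt N1815 (iv F13282)) (tt N1439 F11404))
theorem Q1665 : ∀ i, i < 1665 → P i := stepQ 1664 Q1664 (allL N1664 (tt N1439 F11411) (tt N1465 F11412) (tt N1664 F67705) (tt N1912 (iv F14744)) (tt N1438 (iv D3269)) (tt N1476 F67570) (tt N1447 F11413) (tt N1915 (iv F14758)))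
theorem Q1666 : ∀ i, i < 1666 → P i := stepQ 1665 Q1665 (allL N1665 (tt N1441 F11422) (tt N1468 F11423) (tt N1916 D4295) (tt N1440 (iv D3273)) (tt N1917 D4296) (tt N1443 F11424) (tt N1905 (iv F14718)) (tt N1818 (iv F13305)))
theorem Q1667 : ∀ i, i < 1667 → P i := stepQ 1666 Q1666 (allL N1666 (tt N1916 (iv F14789)) (tt N1469 F67290) (tt N1441 (iv D3274)) (tt N1666 F11426) (tt N1474 F67291) (tt N1444 F11427) (tt N1918 D4298) (tt N1819 (iv F13309)))
theorem Q1668 : ∀ i, i < 1668 → P i := stepQ 1667 Q1667 (allL N1667 (tt N1917 (iv F14792)) (tt N1442 F11428) (tt N1474 F67286) (tt N1667 F11429) (tt N1441 (iv D3275)) (tt N1472 F67287) (tt N1907 (iv F14723)) (tt N1820 (iv F13312)))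
theorem Q1669 : ∀ i, i < 1669 → P i := stepQ 1668 Q1668 (allL N1668 (tt N1444 F11434) (tt N1917 F67592) (tt N1443 (iv D3277)) (tt N1668 F11435) (tt N1468 F67593) (tt N1916 (iv F14791)) (tt N1919 D4302) (tt N1821 (iv F13320)))
theorem Q1670 : ∀ i, i < 1670 → P i := stepQ 1669 Q1669 (allL N1669 (tt N1445 F11436) (tt N1471 F11437) (tt N1468 (iv F67433)) (tt N1447 F11438) (tt N1443 (iv D3278)) (tt N1470 (iv F67425)) (tt N1912 (iv F14745)) (tt N1822 (iv F13324)))
theorem Q1671 : ∀ i, i < 1671 → P i := stepQ 1670 Q1670 (allL N1670 (tt N1919 (iv F14808)) (tt N1452 F67597) (tt N1914 (iv F14749)) (tt N1670 F11442) (tt N1451 F67598) (tt N1918 (iv F14799)) (tt N1444 (iv D3280)) (tt N1920 D4307))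
theorem Q1672 : ∀ i, i < 1672 → P i := stepQ 1671 Q1671 (allL N1671 (tt N1448 (iv D3293)) (tt N1902 (iv F14704)) (tt N1671 F11478) (tt N1921 D4321) (tt N1671 F11479) (tt N1453 F11480) (tt N1834 (iv F13418)) (tt N1450 F11481))
theorem Q1673 : ∀ i, i < 1673 → P i := stepQ 1672 Q1672 (allL N1672 (tt N1921 (iv F14864)) (tt N1449 F11482) (tt N1922 D4322) (tt N1448 (iv D3294)) (tt N1920 (iv F67731)) (tt N1454 F11483) (tt N1835 (iv F13422)) (tt N1451 F11484))
theorem Q1674 : ∀ i, i < 1674 → P i := stepQ 1673 Q1673 (allL N1673 (tt N1904 (iv F14711)) (tt N1920 (iv F67730)) (tt N1673 F11485) (tt N1673 F11486) (tt N1449 (iv D3295)) (tt N1923 D4324) (tt N1836 (iv F13425)) (tt N1452 F11487))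
theorem Q1675 : ∀ i, i < 1675 → P i := stepQ 1674 Q1674 (allL N1674 (tt N1451 F11488) (tt N1905 (iv F14716)) (tt N1924 D4325) (tt N1450 (iv D3296)) (tt N1919 (iv F67725)) (tt N1456 F11489) (tt N1468 F11490) (tt N1921 (iv F14866)))
theorem Q1676 : ∀ i, i < 1676 → P i := stepQ 1675 Q1675 (allL N1675 (tt N1924 (iv F14878)) (tt N1675 F11491) (tt N1451 (iv D3297)) (tt N1675 F11492) (tt N1914 (iv F67732)) (tt N1457 F11493) (tt N1913 F67599) (tt N1922 (iv F14870)))
theorem Q1677 : ∀ i, i < 1677 → P i := stepQ 1676 Q1676 (allL N1676 (tt N1478 (iv F67151)) (tt N1918 (iv F67454)) (tt N1676 F11497) (tt N1676 F11498) (tt N1459 F11499) (tt N1452 (iv D3299)) (tt N1469 F11500) (tt N1923 (iv F14877)))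
theorem Q1678 : ∀ i, i < 1678 → P i := stepQ 1677 Q1677 (allL N1677 (tt N1454 F11501) (tt N1908 (iv F14730)) (tt N1925 D4330) (tt N1453 (iv D3300)) (tt N1926 D4331) (tt N1921 (iv F14865)) (tt N1840 (iv F13438)) (tt N1456 F11502))
theorem Q1679 : ∀ i, i < 1679 → P i := stepQ 1678 Q1678 (allL N1678 (tt N1925 (iv F14894)) (tt N1678 F11503) (tt N1454 (iv D3301)) (tt N1678 F11504) (tt N1927 D4332) (tt N1922 (iv F14869)) (tt N1928 D4333) (tt N1457 F11505))
theorem Q1680 : ∀ i, i < 1680 → P i := stepQ 1679 Q1679 (allL N1679 (tt N1926 (iv F14897)) (tt N1455 F11506) (tt N1927 (iv F14901)) (tt N1462 F11507) (tt N1454 (iv D3302)) (tt N1929 D4334) (tt N1842 (iv F13443)) (tt N1458 F11508))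
theorem Q1681 : ∀ i, i < 1681 → P i := stepQ 1680 Q1680 (allL N1680 (tt N1479 (iv F67429)) (tt N1929 (iv F14905)) (tt N1680 F11509) (tt N1463 F11510) (tt N1923 (iv F14876)) (tt N1455 (iv D3303)) (tt N1843 (iv F13446)) (tt N1459 F11511))
theorem Q1682 : ∀ i, i < 1682 → P i := stepQ 1681 Q1681 (allL N1681 (tt N1457 F11512) (tt N1930 D4335) (tt N1456 (iv D3304)) (tt N1681 F11513) (tt N1931 D4336) (tt N1924 (iv F14880)) (tt N1932 D4337) (tt N1925 (iv F14896)))
theorem Q1683 : ∀ i, i < 1683 → P i := stepQ 1682 Q1682 (allL N1682 (tt N1458 F11514) (tt N1912 (iv F14743)) (tt N1931 (iv F14911)) (tt N1465 F11515) (tt N1456 (iv D3305)) (tt N1933 D4338) (tt N1471 F11516) (tt N1926 (iv F14899)))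
theorem Q1684 : ∀ i, i < 1684 → P i := stepQ 1683 Q1683 (allL N1683 (tt N1931 (iv F14910)) (tt N1683 F11517) (tt N1458 F11518) (tt N1934 D4339) (tt N1457 (iv D3306)) (tt N1935 D4340) (tt N1936 D4341) (tt N1927 (iv F14902)))
theorem Q1685 : ∀ i, i < 1685 → P i := stepQ 1684 Q1684 (allL N1684 (tt N1932 (iv F14912)) (tt N1684 F11519) (tt N1473 F11520) (tt N1684 F11521) (tt N1936 (iv F14925)) (tt N1913 F67586) (tt N1457 (iv D3307)) (tt N1937 D4342))
theorem Q1686 : ∀ i, i < 1686 → P i := stepQ 1685 Q1685 (allL N1685 (tt N1933 (iv F14915)) (tt N1459 F11522) (tt N1935 (iv F14922)) (tt N1467 F11523) (tt N1918 (iv F67455)) (tt N1458 (iv D3308)) (tt N1474 F11524) (tt N1929 (iv F14907)))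
theorem Q1687 : ∀ i, i < 1687 → P i := stepQ 1686 Q1686 (allL N1686 (tt N1461 F11525) (tt N1686 F68005) (tt N1460 (iv D3309)) (tt N1686 F11526) (tt N1938 D4344) (tt N1686 F11527) (tt N1939 D4345) (tt N1464 F11528))
theorem Q1688 : ∀ i, i < 1688 → P i := stepQ 1687 Q1687 (allL N1687 (tt N1462 F11529) (tt N1915 (iv F14757)) (tt N1938 (iv F14934)) (tt N1926 (iv F14898)) (tt N1460 (iv D3310)) (tt N1940 D4346) (tt N1850 (iv F13461)) (tt N1465 F11530))
theorem Q1689 : ∀ i, i < 1689 → P i := stepQ 1688 Q1688 (allL N1688 (tt N1938 (iv F14933)) (tt N1482 F11531) (tt N1462 F11532) (tt N1941 D4347) (tt N1461 (iv D3311)) (tt N1942 D4348) (tt N1943 D4349) (tt N1466 F11533))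
theorem Q1690 : ∀ i, i < 1690 → P i := stepQ 1689 Q1689 (allL N1689 (tt N1939 (iv F14936)) (tt N1483 F11534) (tt N1852 (iv F13467)) (tt N1689 F11535) (tt N1943 (iv F14951)) (tt N1689 F11536) (tt N1461 (iv D3312)) (tt N1689 F11537))
theorem Q1691 : ∀ i, i < 1691 → P i := stepQ 1690 Q1690 (allL N1690 (tt N1940 (iv F14940)) (tt N1463 F11538) (tt N1942 (iv F14947)) (tt N1929 (iv F14906)) (tt N1690 F11539) (tt N1462 (iv D3313)) (tt N1853 (iv F13472)) (tt N1467 F11540))
theorem Q1692 : ∀ i, i < 1692 → P i := stepQ 1691 Q1691 (allL N1691 (tt N1466 F11545) (tt N1691 F68004) (tt N1465 F11546) (tt N1944 D4351) (tt N1464 (iv D3315)) (tt N1945 D4352) (tt N1691 F11547) (tt N1938 (iv F14935)))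
theorem Q1693 : ∀ i, i < 1693 → P i := stepQ 1692 Q1692 (allL N1692 (tt N1467 F11548) (tt N1476 F67623) (tt N1945 (iv F14960)) (tt N1933 (iv F14916)) (tt N1692 F11549) (tt N1465 (iv D3316)) (tt N1475 F11550) (tt N1940 (iv F14942)))
theorem Q1694 : ∀ i, i < 1694 → P i := stepQ 1693 Q1693 (allL N1693 (tt N1944 (iv F14956)) (tt N1484 F11551) (tt N1934 (iv F14919)) (tt N1466 (iv D3317)) (tt N1693 F11552) (tt N1946 D4353) (tt N1693 F11553) (tt N1941 (iv F14945)))
theorem Q1695 : ∀ i, i < 1695 → P i := stepQ 1694 Q1694 (allL N1694 (tt N1945 (iv F14959)) (tt N1480 (iv F67766)) (tt N1467 F11555) (tt N1946 (iv F14964)) (tt N1694 F11556) (tt N1466 (iv D3318)) (tt N1694 F11557) (tt N1942 (iv F14949)))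
theorem Q1696 : ∀ i, i < 1696 → P i := stepQ 1695 Q1695 (allL N1695 (tt N1474 F67298) (tt N1470 (iv D3324)) (tt N1917 (iv F67449)) (tt N1475 (iv F67459)) (tt N1916 F67395) (tt N1471 (iv F67431)) (tt N1933 (iv F67462)) (tt N1859 (iv F13508)))
theorem Q1697 : ∀ i, i < 1697 → P i := stepQ 1696 Q1696 (allL N1696 (tt N1472 F11573) (tt N1916 F67394) (tt N1471 F11574) (tt N1696 F11575) (tt N1470 (iv D3325)) (tt N1917 (iv F67444)) (tt N1947 D4365) (tt N1860 (iv F13512)))
theorem Q1698 : ∀ i, i < 1698 → P i := stepQ 1697 Q1697 (allL N1697 (tt N1473 F11576) (tt N1933 F67582) (tt N1932 (iv F14913)) (tt N1476 F11577) (tt N1947 (iv F14999)) (tt N1912 F67583) (tt N1470 (iv D3326)) (tt N1948 D4366))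
theorem Q1699 : ∀ i, i < 1699 → P i := stepQ 1698 Q1698 (allL N1698 (tt N1947 (iv F14997)) (tt N1478 F11583) (tt N1936 (iv F14924)) (tt N1698 F11584) (tt N1473 F11585) (tt N1907 (iv F67447)) (tt N1472 (iv D3329)) (tt N1949 D4368))
theorem Q1700 : ∀ i, i < 1700 → P i := stepQ 1699 Q1699 (allL N1699 (tt N1948 (iv F15000)) (tt N1479 F11586) (tt N1937 (iv F14927)) (tt N1477 F11587) (tt N1949 (iv F15007)) (tt N1910 F67585) (tt N1863 (iv F13527)) (tt N1473 (iv D3330)))
theorem Q1701 : ∀ i, i < 1701 → P i := stepQ 1700 Q1700 (allL N1700 (tt N1477 F11610) (tt N1940 (iv F67765)) (tt N1700 F11611) (tt N1948 (iv F15001)) (tt N1700 F11612) (tt N1915 (iv F67706)) (tt N1864 (iv F13553)) (tt N1476 (iv D3338)))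
theorem Q1702 : ∀ i, i < 1702 → P i := stepQ 1701 Q1701 (allL N1701 (tt N1923 F67296) (tt N1949 (iv F15005)) (tt N1701 F11728) (tt N1701 F11729) (tt N1479 F11730) (tt N1904 (iv F67448)) (tt N1893 (iv F13959)) (tt N1478 (iv D3379)))
theorem Q1703 : ∀ i, i < 1703 → P i := stepQ 1702 Q1702 (allL N1702 (tt N1702 F11977) (tt N1946 F67944) (tt N1702 F11978) (tt N1480 (iv D3456)) (tt N1744 F68859) (tt N1484 (iv F68001)) (tt N1702 F11979) (tt N1743 F68860))
theorem Q1704 : ∀ i, i < 1704 → P i := stepQ 1703 Q1703 (allL N1703 (tt N1703 F11980) (tt N1942 F67945) (tt N1481 F11981) (tt N1743 F68858) (tt N1703 F11982) (tt N1482 (iv F68002)) (tt N1741 (iv F68962)) (tt N1480 (iv D3457)))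
theorem Q1705 : ∀ i, i < 1705 → P i := stepQ 1704 Q1704 (allL N1704 (tt N1704 F68241) (tt N1941 (iv F14943)) (tt N1704 F12257) (tt N1482 (iv D3533)) (tt N1704 F12258) (tt N1743 F68857) (tt N1742 (iv F68959)) (tt N1484 F12259))
theorem Q1706 : ∀ i, i < 1706 → P i := stepQ 1705 Q1705 (allL N1705 (tt N1705 F68242) (tt N1943 (iv F14950)) (tt N1705 F12263) (tt N1742 F69072) (tt N1483 F12264) (tt N1741 F69073) (tt N1482 (iv D3535)) (tt N1705 F12265))
theorem Q1707 : ∀ i, i < 1707 → P i := stepQ 1706 Q1706 (allL N1706 (tt N1950 D4781) (tt N1485 (iv D3658)) (tt N1492 F12698) (tt N1951 D4782) (tt N1487 F12699) (tt N1577 F69576) (tt N1706 F12700) (tt N1575 F69577))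
theorem Q1708 : ∀ i, i < 1708 → P i := stepQ 1707 Q1707 (allL N1707 (tt N1545 F12701) (tt N1951 (iv F16392)) (tt N1583 F69385) (tt N1485 (iv D3659)) (tt N1952 D4783) (tt N1578 F69386) (tt N1707 F12702) (tt N1576 F69387))
theorem Q1709 : ∀ i, i < 1709 → P i := stepQ 1708 Q1708 (allL N1708 (tt N1953 D4789) (tt N1486 (iv D3664)) (tt N1494 F12721) (tt N1954 D4790) (tt N1575 F69666) (tt N1708 F12722) (tt N1629 (iv F69719)) (tt N1487 F12723))
theorem Q1710 : ∀ i, i < 1710 → P i := stepQ 1709 Q1709 (allL N1709 (tt N1548 F12724) (tt N1954 (iv F16422)) (tt N1709 F12725) (tt N1486 (iv D3665)) (tt N1955 D4791) (tt N1709 F12726) (tt N1630 (iv F69527)) (tt N1488 F12727))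
theorem Q1711 : ∀ i, i < 1711 → P i := stepQ 1710 Q1710 (allL N1710 (tt N1487 (iv D3666)) (tt N1549 F12728) (tt N1496 F12729) (tt N1956 D4792) (tt N1950 (iv F16390)) (tt N1710 F12730) (tt N1710 F12731) (tt N1953 (iv F16421)))
theorem Q1712 : ∀ i, i < 1712 → P i := stepQ 1711 Q1711 (allL N1711 (tt N1956 (iv F16428)) (tt N1488 F12732) (tt N1957 D4793) (tt N1487 (iv D3667)) (tt N1958 D4794) (tt N1711 F12733) (tt N1711 F12734) (tt N1954 (iv F16424)))
theorem Q1713 : ∀ i, i < 1713 → P i := stepQ 1712 Q1712 (allL N1712 (tt N1551 F12735) (tt N1958 (iv F16435)) (tt N1712 F12736) (tt N1952 (iv F16395)) (tt N1488 (iv D3668)) (tt N1959 D4795) (tt N1712 F12737) (tt N1955 (iv F16427)))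
theorem Q1714 : ∀ i, i < 1714 → P i := stepQ 1713 Q1713 (allL N1713 (tt N1960 D4810) (tt N1489 (iv D3679)) (tt N1582 F69415) (tt N1961 D4811) (tt N1713 F12776) (tt N1515 F69416) (tt N1713 F12777) (tt N1513 F69417))
theorem Q1715 : ∀ i, i < 1715 → P i := stepQ 1714 Q1714 (allL N1714 (tt N1512 F12778) (tt N1961 (iv F16497)) (tt N1493 F12779) (tt N1489 (iv D3680)) (tt N1962 D4812) (tt N1516 F69686) (tt N1714 F12780) (tt N1514 F69687))
theorem Q1716 : ∀ i, i < 1716 → P i := stepQ 1715 Q1715 (allL N1715 (tt N1963 D4815) (tt N1490 (iv D3682)) (tt N1577 F69589) (tt N1964 D4816) (tt N1715 F12786) (tt N1492 F12787) (tt N1499 F12788) (tt N1511 F69590))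
theorem Q1717 : ∀ i, i < 1717 → P i := stepQ 1716 Q1716 (allL N1716 (tt N1514 F12789) (tt N1964 (iv F16515)) (tt N1516 F69680) (tt N1490 (iv D3683)) (tt N1965 D4817) (tt N1493 F12790) (tt N1500 F12791) (tt N1512 F69681))
theorem Q1718 : ∀ i, i < 1718 → P i := stepQ 1717 Q1717 (allL N1717 (tt N1966 D4818) (tt N1491 (iv D3684)) (tt N1575 F69664) (tt N1967 D4819) (tt N1494 F12792) (tt N1511 F69665) (tt N1717 F12793) (tt N1492 F12794))
theorem Q1719 : ∀ i, i < 1719 → P i := stepQ 1718 Q1718 (allL N1718 (tt N1516 F12795) (tt N1967 (iv F16525)) (tt N1514 F69682) (tt N1491 (iv D3685)) (tt N1968 D4820) (tt N1512 F69683) (tt N1718 F12796) (tt N1493 F12797))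
theorem Q1720 : ∀ i, i < 1720 → P i := stepQ 1719 Q1719 (allL N1719 (tt N1492 (iv D3686)) (tt N1517 F12798) (tt N1950 (iv F16389)) (tt N1969 D4821) (tt N1496 F12799) (tt N1963 (iv F16513)) (tt N1501 F12800) (tt N1966 (iv F16524)))
theorem Q1721 : ∀ i, i < 1721 → P i := stepQ 1720 Q1720 (allL N1720 (tt N1969 (iv F16532)) (tt N1493 F12801) (tt N1970 D4822) (tt N1492 (iv D3687)) (tt N1971 D4823) (tt N1964 (iv F16516)) (tt N1502 F12802) (tt N1967 (iv F16527)))
theorem Q1722 : ∀ i, i < 1722 → P i := stepQ 1721 Q1721 (allL N1721 (tt N1519 F12803) (tt N1971 (iv F16535)) (tt N1962 (iv F16500)) (tt N1498 F12804) (tt N1493 (iv D3688)) (tt N1972 D4824) (tt N1503 F12805) (tt N1968 (iv F16531)))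
theorem Q1723 : ∀ i, i < 1723 → P i := stepQ 1722 Q1722 (allL N1722 (tt N1494 (iv D3689)) (tt N1520 F12806) (tt N1953 (iv F16419)) (tt N1973 D4825) (tt N1966 (iv F16522)) (tt N1722 F12807) (tt N1722 F12808) (tt N1496 F12809))
theorem Q1724 : ∀ i, i < 1724 → P i := stepQ 1723 Q1723 (allL N1723 (tt N1973 (iv F16541)) (tt N1495 F12810) (tt N1974 D4826) (tt N1494 (iv D3690)) (tt N1975 D4827) (tt N1723 F12811) (tt N1723 F12812) (tt N1497 F12813))
theorem Q1725 : ∀ i, i < 1725 → P i := stepQ 1724 Q1724 (allL N1724 (tt N1522 F12814) (tt N1975 (iv F16549)) (tt N1724 F12815) (tt N1968 (iv F16529)) (tt N1495 (iv D3691)) (tt N1976 D4828) (tt N1724 F12816) (tt N1498 F12817))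
theorem Q1726 : ∀ i, i < 1726 → P i := stepQ 1725 Q1725 (allL N1725 (tt N1497 F12818) (tt N1523 F12819) (tt N1977 D4829) (tt N1496 (iv D3692)) (tt N1978 D4830) (tt N1725 F12820) (tt N1504 F12821) (tt N1973 (iv F16545)))
theorem Q1727 : ∀ i, i < 1727 → P i := stepQ 1726 Q1726 (allL N1726 (tt N1977 (iv F16557)) (tt N1726 F12822) (tt N1497 (iv D3693)) (tt N1957 (iv F16433)) (tt N1979 D4831) (tt N1726 F12823) (tt N1980 D4832) (tt N1974 (iv F16548)))
theorem Q1728 : ∀ i, i < 1728 → P i := stepQ 1727 Q1727 (allL N1727 (tt N1978 (iv F16559)) (tt N1498 F12824) (tt N1979 (iv F16563)) (tt N1971 (iv F16536)) (tt N1497 (iv D3694)) (tt N1981 D4833) (tt N1506 F12825) (tt N1975 (iv F16551)))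
theorem Q1729 : ∀ i, i < 1729 → P i := stepQ 1728 Q1728 (allL N1728 (tt N1526 F12826) (tt N1981 (iv F16567)) (tt N1728 F12827) (tt N1972 (iv F16539)) (tt N1728 F12828) (tt N1498 (iv D3695)) (tt N1507 F12829) (tt N1976 (iv F16556)))
theorem Q1730 : ∀ i, i < 1730 → P i := stepQ 1729 Q1729 (allL N1729 (tt N1499 (iv D3696)) (tt N1527 F12830) (tt N1729 F12831) (tt N1982 D4834) (tt N1729 F12832) (tt N1501 F12833) (tt N1963 (iv F16514)) (tt N1729 F12834))
theorem Q1731 : ∀ i, i < 1731 → P i := stepQ 1730 Q1730 (allL N1730 (tt N1982 (iv F16570)) (tt N1500 F12835) (tt N1983 D4835) (tt N1499 (iv D3697)) (tt N1984 D4836) (tt N1502 F12836) (tt N1964 (iv F16517)) (tt N1730 F12837))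
theorem Q1732 : ∀ i, i < 1732 → P i := stepQ 1731 Q1731 (allL N1731 (tt N1529 F12838) (tt N1984 (iv F16578)) (tt N1731 F12839) (tt N1731 F12840) (tt N1500 (iv D3698)) (tt N1985 D4837) (tt N1965 (iv F16520)) (tt N1731 F12841))
theorem Q1733 : ∀ i, i < 1733 → P i := stepQ 1732 Q1732 (allL N1732 (tt N1502 F12842) (tt N1530 F12843) (tt N1986 D4838) (tt N1501 (iv D3699)) (tt N1987 D4839) (tt N1982 (iv F16572)) (tt N1969 (iv F16534)) (tt N1732 F12844))
theorem Q1734 : ∀ i, i < 1734 → P i := stepQ 1733 Q1733 (allL N1733 (tt N1986 (iv F16586)) (tt N1733 F12845) (tt N1502 (iv D3700)) (tt N1733 F12846) (tt N1988 D4840) (tt N1983 (iv F16576)) (tt N1989 D4841) (tt N1733 F12847))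
theorem Q1735 : ∀ i, i < 1735 → P i := stepQ 1734 Q1734 (allL N1734 (tt N1987 (iv F16589)) (tt N1503 F12848) (tt N1988 (iv F16594)) (tt N1506 F12849) (tt N1502 (iv D3701)) (tt N1990 D4842) (tt N1971 (iv F16537)) (tt N1734 F12850))
theorem Q1736 : ∀ i, i < 1736 → P i := stepQ 1735 Q1735 (allL N1735 (tt N1533 F12851) (tt N1990 (iv F16598)) (tt N1735 F12852) (tt N1507 F12853) (tt N1985 (iv F16584)) (tt N1503 (iv D3702)) (tt N1972 (iv F16540)) (tt N1735 F12854))
theorem Q1737 : ∀ i, i < 1737 → P i := stepQ 1736 Q1736 (allL N1736 (tt N1505 F12855) (tt N1736 F12856) (tt N1504 (iv D3703)) (tt N1736 F12857) (tt N1991 D4843) (tt N1736 F12858) (tt N1992 D4844) (tt N1736 F12859))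
theorem Q1738 : ∀ i, i < 1738 → P i := stepQ 1737 Q1737 (allL N1737 (tt N1506 F12860) (tt N1534 F12861) (tt N1991 (iv F16603)) (tt N1987 (iv F16591)) (tt N1504 (iv D3704)) (tt N1993 D4845) (tt N1978 (iv F16561)) (tt N1737 F12862))
theorem Q1739 : ∀ i, i < 1739 → P i := stepQ 1738 Q1738 (allL N1738 (tt N1991 (iv F16601)) (tt N1508 F12863) (tt N1506 F12864) (tt N1994 D4846) (tt N1505 (iv D3705)) (tt N1995 D4847) (tt N1996 D4848) (tt N1738 F12865))
theorem Q1740 : ∀ i, i < 1740 → P i := stepQ 1739 Q1739 (allL N1739 (tt N1992 (iv F16605)) (tt N1509 F12866) (tt N1980 (iv F16565)) (tt N1739 F12867) (tt N1996 (iv F16621)) (tt N1739 F12868) (tt N1505 (iv D3706)) (tt N1997 D4849))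
theorem Q1741 : ∀ i, i < 1741 → P i := stepQ 1740 Q1740 (allL N1740 (tt N1993 (iv F16609)) (tt N1507 F12869) (tt N1995 (iv F16617)) (tt N1990 (iv F16599)) (tt N1740 F12870) (tt N1506 (iv D3707)) (tt N1981 (iv F16569)) (tt N1740 F12871))
theorem Q1742 : ∀ i, i < 1742 → P i := stepQ 1741 Q1741 (allL N1741 (tt N1741 F12872) (tt N1994 (iv F16613)) (tt N1741 F12873) (tt N1508 (iv D3708)) (tt N1741 F12874) (tt N1705 (iv F69073)) (tt N1703 F68962) (tt N1741 F12875))
theorem Q1743 : ∀ i, i < 1743 → P i := stepQ 1742 Q1742 (allL N1742 (tt N1742 F12876) (tt N1995 (iv F16616)) (tt N1510 F12877) (tt N1705 (iv F69072)) (tt N1742 F12878) (tt N1508 (iv D3709)) (tt N1704 F68959) (tt N1742 F12879))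
theorem Q1744 : ∀ i, i < 1744 → P i := stepQ 1743 Q1743 (allL N1743 (tt N1743 F12880) (tt N1996 (iv F16620)) (tt N1743 F12881) (tt N1703 (iv F68858)) (tt N1509 F12882) (tt N1704 (iv F68857)) (tt N1508 (iv D3710)) (tt N1702 (iv F68860)))
theorem Q1745 : ∀ i, i < 1745 → P i := stepQ 1744 Q1744 (allL N1744 (tt N1744 F12883) (tt N1997 (iv F16622)) (tt N1744 F12884) (tt N1744 F12885) (tt N1702 (iv F68859)) (tt N1744 F12886) (tt N1744 F12887) (tt N1509 (iv D3711)))
theorem Q1746 : ∀ i, i < 1746 → P i := stepQ 1745 Q1745 (allL N1745 (tt N1511 (iv D3723)) (tt N1960 (iv F16494)) (tt N1579 F12925) (tt N1998 D4870) (tt N1745 F12926) (tt N1966 F69592) (tt N1745 F12927) (tt N1963 F69593))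
theorem Q1747 : ∀ i, i < 1747 → P i := stepQ 1746 Q1746 (allL N1746 (tt N1998 (iv F16692)) (tt N1512 F12928) (tt N1999 D4871) (tt N1511 (iv D3724)) (tt N2000 D4872) (tt N1967 (iv F69555)) (tt N1746 F12929) (tt N1964 (iv F69558)))
theorem Q1748 : ∀ i, i < 1748 → P i := stepQ 1747 Q1747 (allL N1747 (tt N1962 (iv F16499)) (tt N2000 (iv F16696)) (tt N1519 F12930) (tt N1747 F12931) (tt N1512 (iv D3725)) (tt N2001 D4873) (tt N1747 F12932) (tt N1965 (iv F69751)))
theorem Q1749 : ∀ i, i < 1749 → P i := stepQ 1748 Q1748 (allL N1748 (tt N1513 (iv D3728)) (tt N1963 (iv F16511)) (tt N1584 F12941) (tt N2002 D4877) (tt N1748 F12942) (tt N1517 F12943) (tt N1527 F12944) (tt N1960 (iv F69479)))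
theorem Q1750 : ∀ i, i < 1750 → P i := stepQ 1749 Q1749 (allL N1749 (tt N2002 (iv F16714)) (tt N1514 F12945) (tt N2003 D4878) (tt N1513 (iv D3729)) (tt N2004 D4879) (tt N1518 F12946) (tt N1528 F12947) (tt N1961 (iv F69554)))
theorem Q1751 : ∀ i, i < 1751 → P i := stepQ 1750 Q1750 (allL N1750 (tt N1965 (iv F16518)) (tt N2004 (iv F16719)) (tt N1968 F69684) (tt N1750 F12948) (tt N1514 (iv D3730)) (tt N2005 D4880) (tt N1529 F12949) (tt N1962 F69685))
theorem Q1752 : ∀ i, i < 1752 → P i := stepQ 1751 Q1751 (allL N1751 (tt N1515 (iv D3731)) (tt N1966 (iv F16521)) (tt N1587 F12950) (tt N2006 D4881) (tt N1520 F12951) (tt N1960 (iv F69478)) (tt N1751 F12952) (tt N1517 F12953))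
theorem Q1753 : ∀ i, i < 1753 → P i := stepQ 1752 Q1752 (allL N1752 (tt N2006 (iv F16725)) (tt N1516 F12954) (tt N2007 D4882) (tt N1515 (iv D3732)) (tt N2008 D4883) (tt N1961 (iv F69553)) (tt N1752 F12955) (tt N1518 F12956))
theorem Q1754 : ∀ i, i < 1754 → P i := stepQ 1753 Q1753 (allL N1753 (tt N1968 (iv F16528)) (tt N2008 (iv F16730)) (tt N1965 (iv F69750)) (tt N1522 F12957) (tt N1516 (iv D3733)) (tt N2009 D4884) (tt N1753 F12958) (tt N1519 F12959))
theorem Q1755 : ∀ i, i < 1755 → P i := stepQ 1754 Q1754 (allL N1754 (tt N1518 F12960) (tt N1969 (iv F16533)) (tt N2010 D4885) (tt N1517 (iv D3734)) (tt N2011 D4886) (tt N2002 (iv F16715)) (tt N1530 F12961) (tt N2006 (iv F16727)))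
theorem Q1756 : ∀ i, i < 1756 → P i := stepQ 1755 Q1755 (allL N1755 (tt N2010 (iv F16737)) (tt N1999 (iv F16694)) (tt N1518 (iv D3735)) (tt N1591 F12962) (tt N2012 D4887) (tt N2003 (iv F16718)) (tt N2013 D4888) (tt N2007 (iv F16729)))
theorem Q1757 : ∀ i, i < 1757 → P i := stepQ 1756 Q1756 (allL N1756 (tt N2011 (iv F16739)) (tt N1519 F12963) (tt N2012 (iv F16742)) (tt N1525 F12964) (tt N1518 (iv D3736)) (tt N2014 D4889) (tt N1532 F12965) (tt N2008 (iv F16733)))
theorem Q1758 : ∀ i, i < 1758 → P i := stepQ 1757 Q1757 (allL N1757 (tt N1972 (iv F16538)) (tt N2014 (iv F16745)) (tt N2001 (iv F16699)) (tt N1526 F12966) (tt N2005 (iv F16723)) (tt N1519 (iv D3737)) (tt N1533 F12967) (tt N2009 (iv F16736)))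
theorem Q1759 : ∀ i, i < 1759 → P i := stepQ 1758 Q1758 (allL N1758 (tt N1521 F12968) (tt N1973 (iv F16542)) (tt N2015 D4890) (tt N1520 (iv D3738)) (tt N2016 D4891) (tt N1758 F12969) (tt N1758 F12970) (tt N1523 F12971))
theorem Q1760 : ∀ i, i < 1760 → P i := stepQ 1759 Q1759 (allL N1759 (tt N2015 (iv F16748)) (tt N1759 F12972) (tt N1521 (iv D3739)) (tt N1595 F12973) (tt N2017 D4892) (tt N1759 F12974) (tt N2018 D4893) (tt N1524 F12975))
theorem Q1761 : ∀ i, i < 1761 → P i := stepQ 1760 Q1760 (allL N1760 (tt N2016 (iv F16752)) (tt N1522 F12976) (tt N2017 (iv F16756)) (tt N2008 (iv F16731)) (tt N1521 (iv D3740)) (tt N2019 D4894) (tt N1760 F12977) (tt N1525 F12978))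
theorem Q1762 : ∀ i, i < 1762 → P i := stepQ 1761 Q1761 (allL N1761 (tt N1976 (iv F16552)) (tt N2019 (iv F16763)) (tt N1761 F12979) (tt N2009 (iv F16734)) (tt N1761 F12980) (tt N1522 (iv D3741)) (tt N1761 F12981) (tt N1526 F12982))
theorem Q1763 : ∀ i, i < 1763 → P i := stepQ 1762 Q1762 (allL N1762 (tt N1524 F12983) (tt N2020 D4895) (tt N1523 (iv D3742)) (tt N1598 F12984) (tt N2021 D4896) (tt N1762 F12985) (tt N1762 F12986) (tt N2015 (iv F16751)))
theorem Q1764 : ∀ i, i < 1764 → P i := stepQ 1763 Q1763 (allL N1763 (tt N1525 F12987) (tt N1978 (iv F16560)) (tt N2021 (iv F16772)) (tt N2011 (iv F16740)) (tt N1523 (iv D3743)) (tt N2022 D4897) (tt N1534 F12988) (tt N2016 (iv F16754)))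
theorem Q1765 : ∀ i, i < 1765 → P i := stepQ 1764 Q1764 (allL N1764 (tt N2021 (iv F16771)) (tt N1764 F12989) (tt N1525 F12990) (tt N2023 D4898) (tt N1524 (iv D3744)) (tt N2024 D4899) (tt N1764 F12991) (tt N2017 (iv F16757)))
theorem Q1766 : ∀ i, i < 1766 → P i := stepQ 1765 Q1765 (allL N1765 (tt N2022 (iv F16774)) (tt N1526 F12992) (tt N2024 (iv F16781)) (tt N2014 (iv F16746)) (tt N1765 F12993) (tt N1525 (iv D3745)) (tt N1535 F12994) (tt N2019 (iv F16766)))
theorem Q1767 : ∀ i, i < 1767 → P i := stepQ 1766 Q1766 (allL N1766 (tt N1528 F12995) (tt N1982 (iv F16571)) (tt N2025 D4900) (tt N1527 (iv D3746)) (tt N2026 D4901) (tt N1530 F12996) (tt N2002 (iv F16716)) (tt N1766 F12997))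
theorem Q1768 : ∀ i, i < 1768 → P i := stepQ 1767 Q1767 (allL N1767 (tt N2025 (iv F16784)) (tt N1767 F12998) (tt N1528 (iv D3747)) (tt N1537 F12999) (tt N2027 D4902) (tt N1531 F13000) (tt N2028 D4903) (tt N1767 F13001))
theorem Q1769 : ∀ i, i < 1769 → P i := stepQ 1768 Q1768 (allL N1768 (tt N2026 (iv F16788)) (tt N1529 F13002) (tt N2027 (iv F16792)) (tt N1768 F13003) (tt N1528 (iv D3748)) (tt N2029 D4904) (tt N2004 (iv F16721)) (tt N1768 F13004))
theorem Q1770 : ∀ i, i < 1770 → P i := stepQ 1769 Q1769 (allL N1769 (tt N1985 (iv F16581)) (tt N2029 (iv F16797)) (tt N1769 F13005) (tt N1769 F13006) (tt N1533 F13007) (tt N1529 (iv D3749)) (tt N2005 (iv F16724)) (tt N1769 F13008))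
theorem Q1771 : ∀ i, i < 1771 → P i := stepQ 1770 Q1770 (allL N1770 (tt N1531 F13009) (tt N2030 D4905) (tt N1530 (iv D3750)) (tt N1539 F13010) (tt N2031 D4906) (tt N2025 (iv F16786)) (tt N2032 D4907) (tt N1770 F13011))
theorem Q1772 : ∀ i, i < 1772 → P i := stepQ 1771 Q1771 (allL N1771 (tt N1532 F13012) (tt N1987 (iv F16590)) (tt N2031 (iv F16805)) (tt N1534 F13013) (tt N1530 (iv D3751)) (tt N2033 D4908) (tt N2011 (iv F16741)) (tt N1771 F13014))
theorem Q1773 : ∀ i, i < 1773 → P i := stepQ 1772 Q1772 (allL N1772 (tt N2031 (iv F16804)) (tt N1772 F13015) (tt N1532 F13016) (tt N1772 F13017) (tt N1531 (iv D3752)) (tt N2034 D4909) (tt N2035 D4910) (tt N1772 F13018))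
theorem Q1774 : ∀ i, i < 1774 → P i := stepQ 1773 Q1773 (allL N1773 (tt N2032 (iv F16808)) (tt N1773 F13019) (tt N2013 (iv F16743)) (tt N1540 F13020) (tt N2035 (iv F16819)) (tt N2028 (iv F16796)) (tt N1531 (iv D3753)) (tt N2036 D4911))
theorem Q1775 : ∀ i, i < 1775 → P i := stepQ 1774 Q1774 (allL N1774 (tt N2033 (iv F16810)) (tt N1533 F13021) (tt N2034 (iv F16814)) (tt N1535 F13022) (tt N2029 (iv F16799)) (tt N1532 (iv D3754)) (tt N2014 (iv F16747)) (tt N1774 F13023))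
theorem Q1776 : ∀ i, i < 1776 → P i := stepQ 1775 Q1775 (allL N1775 (tt N1535 F13024) (tt N1993 (iv F16610)) (tt N1775 F13025) (tt N2033 (iv F16811)) (tt N1775 F13026) (tt N1534 (iv D3755)) (tt N2022 (iv F16776)) (tt N1775 F13027))
theorem Q1777 : ∀ i, i < 1777 → P i := stepQ 1776 Q1776 (allL N1776 (tt N1537 F13028) (tt N2037 D4912) (tt N1536 (iv D3756)) (tt N2025 (iv F16785)) (tt N2038 D4913) (tt N1539 F13029) (tt N2039 D4914) (tt N1776 F13030))
theorem Q1778 : ∀ i, i < 1778 → P i := stepQ 1777 Q1777 (allL N1777 (tt N1538 F13031) (tt N1777 F13032) (tt N2038 (iv F16828)) (tt N1777 F13033) (tt N1536 (iv D3757)) (tt N1777 F13034) (tt N1573 F67664) (tt N1777 F13036))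
theorem Q1779 : ∀ i, i < 1779 → P i := stepQ 1778 Q1778 (allL N1778 (tt N2038 (iv F16827)) (tt N1778 F13037) (tt N1538 F13038) (tt N2040 D4915) (tt N1537 (iv D3758)) (tt N1778 F13039) (tt N1565 F67666) (tt N1778 F13040))
theorem Q1780 : ∀ i, i < 1780 → P i := stepQ 1779 Q1779 (allL N1779 (tt N2039 (iv F16831)) (tt N1779 F13041) (tt N1566 F67420) (tt N2028 (iv F16795)) (tt N1565 (iv F67537)) (tt N1540 F13043) (tt N1537 (iv D3759)) (tt N2041 D4917))
theorem Q1781 : ∀ i, i < 1781 → P i := stepQ 1780 Q1780 (allL N1780 (tt N1780 F13044) (tt N1539 (iv D3760)) (tt N1780 F13045) (tt N2030 (iv F16802)) (tt N1780 F13046) (tt N2037 (iv F16825)) (tt N2042 D4918) (tt N1780 F13047))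
theorem Q1782 : ∀ i, i < 1782 → P i := stepQ 1781 Q1781 (allL N1781 (tt N1540 F13048) (tt N2042 (iv F16847)) (tt N1610 F13049) (tt N2032 (iv F16809)) (tt N1781 F13050) (tt N2039 (iv F16833)) (tt N1539 (iv D3761)) (tt N2043 D4919))
theorem Q1783 : ∀ i, i < 1783 → P i := stepQ 1782 Q1782 (allL N1782 (tt N2043 (iv F16849)) (tt N1782 F13051) (tt N1611 F13052) (tt N2036 (iv F16821)) (tt N1782 F13053) (tt N2041 (iv F16844)) (tt N1782 F13054) (tt N1540 (iv D3762)))
theorem Q1784 : ∀ i, i < 1784 → P i := stepQ 1783 Q1783 (allL N1783 (tt N2044 D4951) (tt N1541 (iv D3784)) (tt N1552 F13119) (tt N2045 D4952) (tt N1783 F13120) (tt N1556 (iv F69263)) (tt N1651 (iv F69292)) (tt N1554 F69194))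
theorem Q1785 : ∀ i, i < 1785 → P i := stepQ 1784 Q1784 (allL N1784 (tt N1583 (iv F69239)) (tt N2045 (iv F16948)) (tt N1545 F13121) (tt N1541 (iv D3785)) (tt N2046 D4953) (tt N1557 (iv F69252)) (tt N1652 (iv F69259)) (tt N1555 F69187))
theorem Q1786 : ∀ i, i < 1786 → P i := stepQ 1785 Q1785 (allL N1785 (tt N2047 D4960) (tt N1542 (iv D3790)) (tt N1554 F13135) (tt N2048 D4961) (tt N1785 F13136) (tt N1544 F13137) (tt N1785 F13138) (tt N1552 (iv F69291)))
theorem Q1787 : ∀ i, i < 1787 → P i := stepQ 1786 Q1786 (allL N1786 (tt N1578 F69404) (tt N2048 (iv F16976)) (tt N1557 F69405) (tt N1542 (iv D3791)) (tt N2049 D4962) (tt N1545 F13139) (tt N1786 F13140) (tt N1553 F69406))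
theorem Q1788 : ∀ i, i < 1788 → P i := stepQ 1787 Q1787 (allL N1787 (tt N2050 D4968) (tt N1543 (iv D3796)) (tt N1556 F13153) (tt N2051 D4969) (tt N1547 F13154) (tt N1552 F69413) (tt N1621 (iv F69523)) (tt N1544 F13155))
theorem Q1789 : ∀ i, i < 1789 → P i := stepQ 1788 Q1788 (allL N1788 (tt N1576 (iv F69238)) (tt N2051 (iv F16998)) (tt N1555 F69186) (tt N1543 (iv D3797)) (tt N2052 D4970) (tt N1553 (iv F69251)) (tt N1622 (iv F69236)) (tt N1545 F13156))
theorem Q1790 : ∀ i, i < 1790 → P i := stepQ 1789 Q1789 (allL N1789 (tt N1544 (iv D3798)) (tt N1950 (iv F16388)) (tt N1558 F13157) (tt N2053 D4971) (tt N1549 F13158) (tt N2047 (iv F16974)) (tt N1789 F13159) (tt N2050 (iv F16997)))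
theorem Q1791 : ∀ i, i < 1791 → P i := stepQ 1790 Q1790 (allL N1790 (tt N2053 (iv F17002)) (tt N1545 F13160) (tt N2054 D4972) (tt N1544 (iv D3799)) (tt N2055 D4973) (tt N2048 (iv F16977)) (tt N1790 F13161) (tt N2051 (iv F16999)))
theorem Q1792 : ∀ i, i < 1792 → P i := stepQ 1791 Q1791 (allL N1791 (tt N1952 (iv F16394)) (tt N2055 (iv F17005)) (tt N2046 (iv F16949)) (tt N1551 F13162) (tt N1545 (iv D3800)) (tt N2056 D4974) (tt N1791 F13163) (tt N2052 (iv F17001)))
theorem Q1793 : ∀ i, i < 1793 → P i := stepQ 1792 Q1792 (allL N1792 (tt N2057 D4979) (tt N1546 (iv D3804)) (tt N1649 F13174) (tt N2058 D4980) (tt N1621 F69643) (tt N1792 F13175) (tt N1547 F13176) (tt N1792 F13177))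
theorem Q1794 : ∀ i, i < 1794 → P i := stepQ 1793 Q1793 (allL N1793 (tt N1630 (iv F69526)) (tt N2058 (iv F17029)) (tt N1642 (iv F69540)) (tt N1546 (iv D3805)) (tt N2059 D4981) (tt N1793 F13178) (tt N1548 F13179) (tt N1793 F13180))
theorem Q1795 : ∀ i, i < 1795 → P i := stepQ 1794 Q1794 (allL N1794 (tt N1547 (iv D3806)) (tt N1953 (iv F16418)) (tt N1561 F13181) (tt N2060 D4982) (tt N2050 (iv F16996)) (tt N1794 F13182) (tt N2057 (iv F17027)) (tt N1549 F13183))
theorem Q1796 : ∀ i, i < 1796 → P i := stepQ 1795 Q1795 (allL N1795 (tt N2060 (iv F17035)) (tt N1548 F13184) (tt N2061 D4983) (tt N1547 (iv D3807)) (tt N2062 D4984) (tt N1795 F13185) (tt N2058 (iv F17031)) (tt N1550 F13186))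
theorem Q1797 : ∀ i, i < 1797 → P i := stepQ 1796 Q1796 (allL N1796 (tt N1955 (iv F16425)) (tt N2062 (iv F17042)) (tt N1796 F13187) (tt N2052 (iv F17000)) (tt N1548 (iv D3808)) (tt N2063 D4985) (tt N2059 (iv F17033)) (tt N1551 F13188))
theorem Q1798 : ∀ i, i < 1798 → P i := stepQ 1797 Q1797 (allL N1797 (tt N1550 F13189) (tt N1956 (iv F16429)) (tt N2064 D4986) (tt N1549 (iv D3809)) (tt N2065 D4987) (tt N1797 F13190) (tt N1797 F13191) (tt N2060 (iv F17037)))
theorem Q1799 : ∀ i, i < 1799 → P i := stepQ 1798 Q1798 (allL N1798 (tt N2064 (iv F17047)) (tt N1798 F13192) (tt N1550 (iv D3810)) (tt N1565 F13193) (tt N2066 D4988) (tt N1798 F13194) (tt N2040 (iv F67835)) (tt N2061 (iv F17041)))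
theorem Q1800 : ∀ i, i < 1800 → P i := stepQ 1799 Q1799 (allL N1799 (tt N2065 (iv F17050)) (tt N1551 F13195) (tt N2066 (iv F17053)) (tt N2055 (iv F17006)) (tt N1550 (iv D3811)) (tt N2067 D4990) (tt N1799 F13196) (tt N2062 (iv F17043)))
theorem Q1801 : ∀ i, i < 1801 → P i := stepQ 1800 Q1800 (allL N1800 (tt N1959 (iv F16437)) (tt N2067 (iv F17058)) (tt N1800 F13197) (tt N2056 (iv F17008)) (tt N1800 F13198) (tt N1551 (iv D3812)) (tt N1800 F13199) (tt N2063 (iv F17046)))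
theorem Q1802 : ∀ i, i < 1802 → P i := stepQ 1801 Q1801 (allL N1801 (tt N1552 (iv D3820)) (tt N1579 F13226) (tt N2044 (iv F16946)) (tt N2068 D5002) (tt N1801 F13227) (tt N2050 (iv F69471)) (tt N1623 F13228) (tt N2047 F69322))
theorem Q1803 : ∀ i, i < 1803 → P i := stepQ 1802 Q1802 (allL N1802 (tt N2068 (iv F17102)) (tt N1553 F13229) (tt N2069 D5003) (tt N1552 (iv D3821)) (tt N2070 D5004) (tt N2051 F69400) (tt N1624 F13230) (tt N2048 F69401))
theorem Q1804 : ∀ i, i < 1804 → P i := stepQ 1803 Q1803 (allL N1803 (tt N1581 F13231) (tt N2070 (iv F17106)) (tt N1560 F13232) (tt N1803 F13233) (tt N1553 (iv D3822)) (tt N1638 F67147) (tt N1625 F13234) (tt N2049 (iv F69256)))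
theorem Q1805 : ∀ i, i < 1805 → P i := stepQ 1804 Q1804 (allL N1804 (tt N1554 (iv D3825)) (tt N1584 F13243) (tt N2047 (iv F16972)) (tt N2071 D5009) (tt N1804 F13244) (tt N1558 F13245) (tt N1567 F13246) (tt N2044 (iv F69220)))
theorem Q1806 : ∀ i, i < 1806 → P i := stepQ 1805 Q1805 (allL N1805 (tt N2071 (iv F17126)) (tt N1555 F13247) (tt N2072 D5010) (tt N1554 (iv D3826)) (tt N2073 D5011) (tt N1559 F13248) (tt N1568 F13249) (tt N2045 (iv F69160)))
theorem Q1807 : ∀ i, i < 1807 → P i := stepQ 1806 Q1806 (allL N1806 (tt N1586 F13250) (tt N2073 (iv F17131)) (tt N2052 (iv F69153)) (tt N1806 F13251) (tt N1555 (iv D3827)) (tt N1640 F67145) (tt N1569 F13252) (tt N2046 (iv F69156)))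
theorem Q1808 : ∀ i, i < 1808 → P i := stepQ 1807 Q1807 (allL N1807 (tt N1556 (iv D3828)) (tt N1587 F13253) (tt N2050 (iv F16995)) (tt N2074 D5013) (tt N1561 F13254) (tt N2044 F69315) (tt N1656 F13255) (tt N1558 F13256))
theorem Q1809 : ∀ i, i < 1809 → P i := stepQ 1808 Q1808 (allL N1808 (tt N2074 (iv F17138)) (tt N1557 F13257) (tt N2075 D5014) (tt N1556 (iv D3829)) (tt N2076 D5015) (tt N2045 F69192) (tt N1657 F13258) (tt N1559 F13259))
theorem Q1810 : ∀ i, i < 1810 → P i := stepQ 1809 Q1809 (allL N1809 (tt N1589 F13260) (tt N2076 (iv F17143)) (tt N2049 (iv F69254)) (tt N1563 F13261) (tt N1557 (iv D3830)) (tt N1641 (iv F67272)) (tt N1658 F13262) (tt N1560 F13263))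
theorem Q1811 : ∀ i, i < 1811 → P i := stepQ 1810 Q1810 (allL N1810 (tt N1559 F13264) (tt N1590 F13265) (tt N2077 D5017) (tt N1558 (iv D3831)) (tt N2078 D5018) (tt N2071 (iv F17128)) (tt N1570 F13266) (tt N2074 (iv F17141)))
theorem Q1812 : ∀ i, i < 1812 → P i := stepQ 1811 Q1811 (allL N1811 (tt N2077 (iv F17151)) (tt N2069 (iv F17105)) (tt N1559 (iv D3832)) (tt N2054 (iv F17004)) (tt N2079 D5019) (tt N2072 (iv F17130)) (tt N2080 D5020) (tt N2075 (iv F17142)))
theorem Q1813 : ∀ i, i < 1813 → P i := stepQ 1812 Q1812 (allL N1812 (tt N2078 (iv F17152)) (tt N1560 F13267) (tt N2079 (iv F17156)) (tt N1566 F13268) (tt N1559 (iv D3833)) (tt N1607 (iv F67269)) (tt N1572 F13269) (tt N2076 (iv F17146)))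
theorem Q1814 : ∀ i, i < 1814 → P i := stepQ 1813 Q1813 (allL N1813 (tt N1562 F13273) (tt N1594 F13274) (tt N2081 D5022) (tt N1561 (iv D3835)) (tt N2082 D5023) (tt N1813 F13275) (tt N1662 F13276) (tt N1564 F13277))
theorem Q1815 : ∀ i, i < 1815 → P i := stepQ 1814 Q1814 (allL N1814 (tt N2081 (iv F17161)) (tt N1814 F13278) (tt N1562 (iv D3836)) (tt N2061 (iv F17039)) (tt N2041 F67675) (tt N1814 F13279) (tt N1814 F67840) (tt N1565 F13280))
theorem Q1816 : ∀ i, i < 1816 → P i := stepQ 1815 Q1815 (allL N1815 (tt N2082 (iv F17164)) (tt N1563 F13281) (tt N2041 (iv F67575)) (tt N2076 (iv F17144)) (tt N1562 (iv D3837)) (tt N1611 F67421) (tt N1663 F13282) (tt N1566 F13283))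
theorem Q1817 : ∀ i, i < 1817 → P i := stepQ 1816 Q1816 (allL N1816 (tt N1565 F13289) (tt N2083 D5027) (tt N1564 (iv D3839)) (tt N2064 (iv F17048)) (tt N2039 F67680) (tt N1816 F13290) (tt N2038 (iv F67833)) (tt N2081 (iv F17163)))
theorem Q1818 : ∀ i, i < 1818 → P i := stepQ 1817 Q1817 (allL N1817 (tt N1566 F13291) (tt N1599 F13292) (tt N2039 (iv F67573)) (tt N2078 (iv F17154)) (tt N1564 (iv D3840)) (tt N1610 F67419) (tt N1574 F13293) (tt N2082 (iv F17167)))
theorem Q1819 : ∀ i, i < 1819 → P i := stepQ 1818 Q1818 (allL N1818 (tt N1568 F13302) (tt N1602 F13303) (tt N2084 D5035) (tt N1567 (iv D3844)) (tt N2085 D5036) (tt N1570 F13304) (tt N2071 (iv F17129)) (tt N1665 F13305))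
theorem Q1820 : ∀ i, i < 1820 → P i := stepQ 1819 Q1819 (allL N1819 (tt N2084 (iv F17200)) (tt N1603 F67231) (tt N1568 (iv D3845)) (tt N1819 F13307) (tt N1608 (iv F67267)) (tt N1571 F13308) (tt N2086 D5038) (tt N1666 F13309))
theorem Q1821 : ∀ i, i < 1821 → P i := stepQ 1820 Q1820 (allL N1820 (tt N2085 (iv F17204)) (tt N1569 F13310) (tt N1608 (iv F67266)) (tt N1820 F13311) (tt N1568 (iv D3846)) (tt N1606 F67144) (tt N2073 (iv F17133)) (tt N1667 F13312))
theorem Q1822 : ∀ i, i < 1822 → P i := stepQ 1821 Q1821 (allL N1821 (tt N1571 F13318) (tt N2085 F67435) (tt N1570 (iv D3848)) (tt N1821 F13319) (tt N1602 F67436) (tt N2084 (iv F17202)) (tt N2087 D5042) (tt N1668 F13320))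
theorem Q1823 : ∀ i, i < 1823 → P i := stepQ 1822 Q1822 (allL N1822 (tt N1572 F13321) (tt N1605 F13322) (tt N1602 (iv F67278)) (tt N1574 F13323) (tt N1570 (iv D3849)) (tt N1604 (iv F67268)) (tt N2078 (iv F17155)) (tt N1669 F13324))
theorem Q1824 : ∀ i, i < 1824 → P i := stepQ 1823 Q1823 (allL N1823 (tt N2087 (iv F17225)) (tt N1586 F67438) (tt N2080 (iv F17157)) (tt N1823 F13329) (tt N1585 F67439) (tt N2086 (iv F17213)) (tt N1571 (iv D3851)) (tt N2088 D5047))
theorem Q1825 : ∀ i, i < 1825 → P i := stepQ 1824 Q1824 (allL N1824 (tt N1575 (iv D3869)) (tt N2050 F69580) (tt N1966 F69581) (tt N2089 D5069) (tt N1953 (iv F69705)) (tt N1579 F13390) (tt N1631 F13391) (tt N1950 F69582))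
theorem Q1826 : ∀ i, i < 1826 → P i := stepQ 1825 Q1825 (allL N1825 (tt N2089 (iv F17320)) (tt N1576 F13392) (tt N2090 D5070) (tt N1575 (iv D3870)) (tt N2091 D5071) (tt N1580 F13393) (tt N1632 F13394) (tt N1951 (iv F69533)))
theorem Q1827 : ∀ i, i < 1827 → P i := stepQ 1826 Q1826 (allL N1826 (tt N2052 F69176) (tt N2091 (iv F17325)) (tt N1586 F13395) (tt N1955 (iv F69240)) (tt N1576 (iv D3871)) (tt N2092 D5072) (tt N1628 F67172) (tt N1952 (iv F69242)))
theorem Q1828 : ∀ i, i < 1828 → P i := stepQ 1827 Q1827 (allL N1827 (tt N1577 (iv D3872)) (tt N2047 F69321) (tt N1963 (iv F69476)) (tt N2093 D5073) (tt N1827 F13397) (tt N1950 (iv F69470)) (tt N1827 F13398) (tt N1579 F13399))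
theorem Q1829 : ∀ i, i < 1829 → P i := stepQ 1828 Q1828 (allL N1828 (tt N2093 (iv F17330)) (tt N1578 F13400) (tt N2094 D5074) (tt N1577 (iv D3873)) (tt N2095 D5075) (tt N1951 (iv F69532)) (tt N1828 F13401) (tt N1580 F13402))
theorem Q1830 : ∀ i, i < 1830 → P i := stepQ 1829 Q1829 (allL N1829 (tt N2049 (iv F69253)) (tt N2095 (iv F17335)) (tt N1589 F13403) (tt N1829 F13404) (tt N1578 (iv D3874)) (tt N2096 D5076) (tt N1829 F13405) (tt N1581 F13406))
theorem Q1831 : ∀ i, i < 1831 → P i := stepQ 1830 Q1830 (allL N1830 (tt N1580 F13407) (tt N2068 (iv F17103)) (tt N2097 D5077) (tt N1579 (iv D3875)) (tt N2098 D5078) (tt N2089 (iv F17321)) (tt N1633 F13408) (tt N2093 (iv F17332)))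
theorem Q1832 : ∀ i, i < 1832 → P i := stepQ 1831 Q1831 (allL N1831 (tt N2097 (iv F17343)) (tt N1591 F13409) (tt N1580 (iv D3876)) (tt N1999 (iv F16695)) (tt N2099 D5079) (tt N2090 (iv F17324)) (tt N2100 D5080) (tt N2094 (iv F17334)))
theorem Q1833 : ∀ i, i < 1833 → P i := stepQ 1832 Q1832 (allL N1832 (tt N2098 (iv F17344)) (tt N1581 F13410) (tt N2099 (iv F17348)) (tt N1832 F13411) (tt N1580 (iv D3877)) (tt N2101 D5081) (tt N1635 F13412) (tt N2095 (iv F17338)))
theorem Q1834 : ∀ i, i < 1834 → P i := stepQ 1833 Q1833 (allL N1833 (tt N1638 F67160) (tt N2101 (iv F17351)) (tt N1593 F13413) (tt N1833 F13414) (tt N2092 (iv F17328)) (tt N1581 (iv D3878)) (tt N1636 F13415) (tt N2096 (iv F17342)))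
theorem Q1835 : ∀ i, i < 1835 → P i := stepQ 1834 Q1834 (allL N1834 (tt N1582 (iv D3879)) (tt N2044 F69317) (tt N1960 (iv F69477)) (tt N2102 D5082) (tt N1834 F13416) (tt N1587 F13417) (tt N1671 F13418) (tt N1584 F13419))
theorem Q1836 : ∀ i, i < 1836 → P i := stepQ 1835 Q1835 (allL N1835 (tt N2102 (iv F17354)) (tt N1583 F13420) (tt N2103 D5083) (tt N1582 (iv D3880)) (tt N2088 (iv F67596)) (tt N1588 F13421) (tt N1672 F13422) (tt N1585 F13423))
theorem Q1837 : ∀ i, i < 1837 → P i := stepQ 1836 Q1836 (allL N1836 (tt N2046 F69177) (tt N2088 (iv F67595)) (tt N1952 (iv F69241)) (tt N1836 F13424) (tt N1583 (iv D3881)) (tt N2104 D5085) (tt N1673 F13425) (tt N1586 F13426))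
theorem Q1838 : ∀ i, i < 1838 → P i := stepQ 1837 Q1837 (allL N1837 (tt N1585 F13427) (tt N2071 (iv F17127)) (tt N2105 D5086) (tt N1584 (iv D3882)) (tt N2087 (iv F67590)) (tt N1590 F13428) (tt N1602 F13429) (tt N2102 (iv F17357)))
theorem Q1839 : ∀ i, i < 1839 → P i := stepQ 1838 Q1838 (allL N1838 (tt N2105 (iv F17368)) (tt N2090 (iv F17323)) (tt N1585 (iv D3883)) (tt N2003 (iv F16717)) (tt N2080 (iv F67594)) (tt N1591 F13430) (tt N2079 F67437) (tt N2103 (iv F17359)))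
theorem Q1840 : ∀ i, i < 1840 → P i := stepQ 1839 Q1839 (allL N1839 (tt N1640 (iv F67004)) (tt N2086 (iv F67378)) (tt N2092 (iv F17327)) (tt N1839 F13434) (tt N1593 F13435) (tt N1586 (iv D3885)) (tt N1603 F13436) (tt N2104 (iv F17367)))
theorem Q1841 : ∀ i, i < 1841 → P i := stepQ 1840 Q1840 (allL N1840 (tt N1588 F13437) (tt N2074 (iv F17139)) (tt N2106 D5091) (tt N1587 (iv D3886)) (tt N2107 D5092) (tt N2102 (iv F17355)) (tt N1677 F13438) (tt N1590 F13439))
theorem Q1842 : ∀ i, i < 1842 → P i := stepQ 1841 Q1841 (allL N1841 (tt N2106 (iv F17380)) (tt N2094 (iv F17333)) (tt N1588 (iv D3887)) (tt N2007 (iv F16728)) (tt N2108 D5093) (tt N2103 (iv F17358)) (tt N2109 D5094) (tt N1591 F13440))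
theorem Q1843 : ∀ i, i < 1843 → P i := stepQ 1842 Q1842 (allL N1842 (tt N2107 (iv F17382)) (tt N1589 F13441) (tt N2108 (iv F17386)) (tt N1596 F13442) (tt N1588 (iv D3888)) (tt N2110 D5095) (tt N1679 F13443) (tt N1592 F13444))
theorem Q1844 : ∀ i, i < 1844 → P i := stepQ 1843 Q1843 (allL N1843 (tt N1641 (iv F67271)) (tt N2110 (iv F17389)) (tt N2096 (iv F17339)) (tt N1597 F13445) (tt N2104 (iv F17365)) (tt N1589 (iv D3889)) (tt N1680 F13446) (tt N1593 F13447))
theorem Q1845 : ∀ i, i < 1845 → P i := stepQ 1844 Q1844 (allL N1844 (tt N1591 F13448) (tt N2111 D5096) (tt N1590 (iv D3890)) (tt N2010 (iv F16738)) (tt N2112 D5097) (tt N2105 (iv F17369)) (tt N2113 D5098) (tt N2106 (iv F17381)))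
theorem Q1846 : ∀ i, i < 1846 → P i := stepQ 1845 Q1845 (allL N1845 (tt N1592 F13449) (tt N2078 (iv F17153)) (tt N2112 (iv F17394)) (tt N1599 F13450) (tt N1590 (iv D3891)) (tt N2114 D5099) (tt N1605 F13451) (tt N2107 (iv F17385)))
theorem Q1847 : ∀ i, i < 1847 → P i := stepQ 1846 Q1846 (allL N1846 (tt N2112 (iv F17393)) (tt N2099 (iv F17347)) (tt N1592 F13452) (tt N2115 D5100) (tt N1591 (iv D3892)) (tt N2116 D5101) (tt N2117 D5102) (tt N2108 (iv F17387)))
theorem Q1848 : ∀ i, i < 1848 → P i := stepQ 1847 Q1847 (allL N1847 (tt N2113 (iv F17395)) (tt N2100 (iv F17349)) (tt N1607 F13453) (tt N2013 (iv F16744)) (tt N2117 (iv F17403)) (tt N2079 F67426) (tt N1591 (iv D3893)) (tt N2118 D5103))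
theorem Q1849 : ∀ i, i < 1849 → P i := stepQ 1848 Q1848 (allL N1848 (tt N2114 (iv F17397)) (tt N1593 F13454) (tt N2116 (iv F17401)) (tt N1601 F13455) (tt N2086 F67422) (tt N1592 (iv D3894)) (tt N1608 F13456) (tt N2110 (iv F17392)))
theorem Q1850 : ∀ i, i < 1850 → P i := stepQ 1849 Q1849 (allL N1849 (tt N1595 F13457) (tt N2119 D5104) (tt N1594 (iv D3895)) (tt N2015 (iv F16749)) (tt N2120 D5105) (tt N1849 F13458) (tt N2121 D5106) (tt N1598 F13459))
theorem Q1851 : ∀ i, i < 1851 → P i := stepQ 1850 Q1850 (allL N1850 (tt N1596 F13460) (tt N2082 (iv F17165)) (tt N2120 (iv F17409)) (tt N2107 (iv F17383)) (tt N1594 (iv D3896)) (tt N2122 D5107) (tt N1687 F13461) (tt N1599 F13462))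
theorem Q1852 : ∀ i, i < 1852 → P i := stepQ 1851 Q1851 (allL N1851 (tt N2120 (iv F17408)) (tt N1851 F13463) (tt N1596 F13464) (tt N2123 D5108) (tt N1595 (iv D3897)) (tt N2124 D5109) (tt N2125 D5110) (tt N1600 F13465))
theorem Q1853 : ∀ i, i < 1853 → P i := stepQ 1852 Q1852 (allL N1852 (tt N2121 (iv F17411)) (tt N1852 F13466) (tt N1689 F13467) (tt N2018 (iv F16760)) (tt N2125 (iv F17427)) (tt N1852 F13468) (tt N1595 (iv D3898)) (tt N1852 F13469))
theorem Q1854 : ∀ i, i < 1854 → P i := stepQ 1853 Q1853 (allL N1853 (tt N2122 (iv F17415)) (tt N1597 F13470) (tt N2124 (iv F17422)) (tt N2110 (iv F17390)) (tt N1853 F13471) (tt N1596 (iv D3899)) (tt N1690 F13472) (tt N1601 F13473))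
theorem Q1855 : ∀ i, i < 1855 → P i := stepQ 1854 Q1854 (allL N1854 (tt N1854 F13474) (tt N1598 (iv D3900)) (tt N2083 (iv F17179)) (tt N2020 (iv F16768)) (tt N2126 D5111) (tt N1854 F13475) (tt N1854 F13476) (tt N2119 (iv F17407)))
theorem Q1856 : ∀ i, i < 1856 → P i := stepQ 1855 Q1855 (allL N1855 (tt N1600 F13477) (tt N2126 (iv F17430)) (tt N1599 F13478) (tt N2127 D5112) (tt N1598 (iv D3901)) (tt N2128 D5113) (tt N1855 F13479) (tt N2120 (iv F17410)))
theorem Q1857 : ∀ i, i < 1857 → P i := stepQ 1856 Q1856 (allL N1856 (tt N1601 F13480) (tt N1610 F67467) (tt N2128 (iv F17435)) (tt N2114 (iv F17398)) (tt N1856 F13481) (tt N1599 (iv D3902)) (tt N1609 F13482) (tt N2122 (iv F17418)))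
theorem Q1858 : ∀ i, i < 1858 → P i := stepQ 1857 Q1857 (allL N1857 (tt N2127 (iv F17432)) (tt N1857 F13483) (tt N2115 (iv F17400)) (tt N1600 (iv D3903)) (tt N2023 (iv F16778)) (tt N2129 D5114) (tt N1857 F13484) (tt N2123 (iv F17420)))
theorem Q1859 : ∀ i, i < 1859 → P i := stepQ 1858 Q1858 (allL N1858 (tt N2128 (iv F17434)) (tt N1858 F13485) (tt N1601 F13486) (tt N2129 (iv F17439)) (tt N1858 F13487) (tt N1600 (iv D3904)) (tt N1858 F13488) (tt N2124 (iv F17424)))
theorem Q1860 : ∀ i, i < 1860 → P i := stepQ 1859 Q1859 (allL N1859 (tt N1608 F67159) (tt N1604 (iv D3910)) (tt N2085 F67307) (tt N1609 (iv F67305)) (tt N2084 F67308) (tt N1605 (iv F67275)) (tt N2114 (iv F67309)) (tt N1695 F13508))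
theorem Q1861 : ∀ i, i < 1861 → P i := stepQ 1860 Q1860 (allL N1860 (tt N1606 F13509) (tt N2084 F67244) (tt N1605 F13510) (tt N1860 F13511) (tt N1604 (iv D3911)) (tt N2085 (iv F67284)) (tt N2130 D5126) (tt N1696 F13512))
theorem Q1862 : ∀ i, i < 1862 → P i := stepQ 1861 Q1861 (allL N1861 (tt N1607 F13513) (tt N2114 F67423) (tt N2113 (iv F17396)) (tt N1610 F13514) (tt N2130 (iv F17482)) (tt N2078 F67424) (tt N1604 (iv D3912)) (tt N2131 D5127))
theorem Q1863 : ∀ i, i < 1863 → P i := stepQ 1862 Q1862 (allL N1862 (tt N2130 (iv F17480)) (tt N1640 F13522) (tt N2117 (iv F17402)) (tt N1862 F13523) (tt N1607 F13524) (tt N2073 (iv F67285)) (tt N1606 (iv D3915)) (tt N2132 D5129))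
theorem Q1864 : ∀ i, i < 1864 → P i := stepQ 1863 Q1863 (allL N1863 (tt N2131 (iv F17483)) (tt N1641 F13525) (tt N2118 (iv F17404)) (tt N1611 F13526) (tt N2132 (iv F17491)) (tt N2076 F67427) (tt N1699 F13527) (tt N1607 (iv D3916)))
theorem Q1865 : ∀ i, i < 1865 → P i := stepQ 1864 Q1864 (allL N1864 (tt N1611 F13551) (tt N2122 (iv F67630)) (tt N2043 (iv F16850)) (tt N2131 (iv F17484)) (tt N1864 F13552) (tt N2082 (iv F67574)) (tt N1700 F13553) (tt N1610 (iv D3924)))
theorem Q1866 : ∀ i, i < 1866 → P i := stepQ 1865 Q1865 (allL N1865 (tt N2133 D5149) (tt N1612 (iv D3932)) (tt N1651 F69443) (tt N2134 D5150) (tt N1865 F13581) (tt N1645 (iv F69565)) (tt N1614 F13582) (tt N1643 F69444))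
theorem Q1867 : ∀ i, i < 1867 → P i := stepQ 1866 Q1866 (allL N1866 (tt N1866 F13583) (tt N2134 (iv F17566)) (tt N1866 F13584) (tt N1612 (iv D3933)) (tt N2135 D5151) (tt N1646 (iv F69726)) (tt N1615 F13585) (tt N1644 F69690))
theorem Q1868 : ∀ i, i < 1868 → P i := stepQ 1867 Q1867 (allL N1867 (tt N2136 D5154) (tt N1613 (iv D3935)) (tt N1621 F13590) (tt N2137 D5155) (tt N1649 (iv F69725)) (tt N1614 F13591) (tt N1645 F69642) (tt N1867 F13592))
theorem Q1869 : ∀ i, i < 1869 → P i := stepQ 1868 Q1868 (allL N1868 (tt N1868 F13593) (tt N2137 (iv F17584)) (tt N1617 F13594) (tt N1613 (iv D3936)) (tt N1868 F67248) (tt N1615 F13595) (tt N1646 (iv F69727)) (tt N1868 F13596))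
theorem Q1870 : ∀ i, i < 1870 → P i := stepQ 1869 Q1869 (allL N1869 (tt N1614 (iv D3937)) (tt N1869 F13597) (tt N1623 F13598) (tt N2138 D5157) (tt N1869 F13599) (tt N2136 (iv F17582)) (tt N2133 (iv F17565)) (tt N1869 F13600))
theorem Q1871 : ∀ i, i < 1871 → P i := stepQ 1870 Q1870 (allL N1870 (tt N2138 (iv F17590)) (tt N1615 F13601) (tt N2139 D5158) (tt N1614 (iv D3938)) (tt N2140 D5159) (tt N2137 (iv F17585)) (tt N2134 (iv F17567)) (tt N1870 F13602))
theorem Q1872 : ∀ i, i < 1872 → P i := stepQ 1871 Q1871 (allL N1871 (tt N1871 F13603) (tt N2140 (iv F17596)) (tt N1620 F13604) (tt N1871 F13605) (tt N1615 (iv D3939)) (tt N1871 F67201) (tt N2135 (iv F17571)) (tt N1871 F13606))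
theorem Q1873 : ∀ i, i < 1873 → P i := stepQ 1872 Q1872 (allL N1872 (tt N1639 F66887) (tt N1617 F13613) (tt N2141 D5162) (tt N1616 (iv D3941)) (tt N1872 F66962) (tt N1619 F13614) (tt N1872 F13615) (tt N1872 F13616))
theorem Q1874 : ∀ i, i < 1874 → P i := stepQ 1873 Q1873 (allL N1873 (tt N1619 F13621) (tt N1873 F13622) (tt N2059 F69394) (tt N1618 (iv D3943)) (tt N1642 (iv F66744)) (tt N1639 (iv F66745)) (tt N1873 F13623) (tt N1873 F13624))
theorem Q1875 : ∀ i, i < 1875 → P i := stepQ 1874 Q1874 (allL N1874 (tt N2059 F69380) (tt N2139 (iv F17593)) (tt N1619 (iv D3944)) (tt N1628 F13625) (tt N1630 (iv F66914)) (tt N2141 (iv F17609)) (tt N1955 F69381) (tt N1874 F13626))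
theorem Q1876 : ∀ i, i < 1876 → P i := stepQ 1875 Q1875 (allL N1875 (tt N1621 (iv D3954)) (tt N1631 F13661) (tt N2136 (iv F17581)) (tt N2142 D5181) (tt N2057 (iv F69706)) (tt N1623 F13662) (tt N2050 F69583) (tt N1875 F13663))
theorem Q1877 : ∀ i, i < 1877 → P i := stepQ 1876 Q1876 (allL N1876 (tt N2142 (iv F17679)) (tt N1622 F13664) (tt N2143 D5182) (tt N1621 (iv D3955)) (tt N2144 D5183) (tt N1624 F13665) (tt N2051 F69378) (tt N1876 F13666))
theorem Q1878 : ∀ i, i < 1878 → P i := stepQ 1877 Q1877 (allL N1877 (tt N1628 (iv F67017)) (tt N2144 (iv F17686)) (tt N1627 F13668) (tt N2059 (iv F69248)) (tt N1622 (iv D3956)) (tt N1637 (iv F67006)) (tt N2052 F69183) (tt N1877 F13669))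
theorem Q1879 : ∀ i, i < 1879 → P i := stepQ 1878 Q1878 (allL N1878 (tt N1624 F13670) (tt N1633 F13671) (tt N2145 D5185) (tt N1623 (iv D3957)) (tt N2146 D5186) (tt N2142 (iv F17681)) (tt N2068 (iv F17104)) (tt N1878 F13672))
theorem Q1880 : ∀ i, i < 1880 → P i := stepQ 1879 Q1879 (allL N1879 (tt N2145 (iv F17692)) (tt N1628 F13673) (tt N1624 (iv D3958)) (tt N2139 (iv F17594)) (tt N1632 F67171) (tt N2143 (iv F17684)) (tt N2091 (iv F67323)) (tt N1879 F13674))
theorem Q1881 : ∀ i, i < 1881 → P i := stepQ 1880 Q1880 (allL N1880 (tt N2146 (iv F17694)) (tt N1625 F13675) (tt N1632 F67148) (tt N1880 F13676) (tt N1624 (iv D3959)) (tt N1634 F67149) (tt N2070 (iv F17108)) (tt N1880 F13677))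
theorem Q1882 : ∀ i, i < 1882 → P i := stepQ 1881 Q1881 (allL N1881 (tt N1637 F67162) (tt N2143 (iv F17683)) (tt N1626 (iv D3962)) (tt N2141 (iv F17608)) (tt N1636 F67163) (tt N1628 F13687) (tt N2092 (iv F67314)) (tt N1881 F13688))
theorem Q1883 : ∀ i, i < 1883 → P i := stepQ 1882 Q1882 (allL N1882 (tt N1629 (iv D4004)) (tt N2057 F69753) (tt N1882 F13824) (tt N2147 D5245) (tt N1631 F13825) (tt N1882 F13826) (tt N1953 F69754) (tt N1882 F13827))
theorem Q1884 : ∀ i, i < 1884 → P i := stepQ 1883 Q1883 (allL N1883 (tt N2147 (iv F17875)) (tt N1630 F13828) (tt N2140 (iv F67208)) (tt N1629 (iv D4005)) (tt N2139 F67061) (tt N1883 F13829) (tt N1954 F69646) (tt N1883 F13830))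
theorem Q1885 : ∀ i, i < 1885 → P i := stepQ 1884 Q1884 (allL N1884 (tt N1632 F13834) (tt N2142 (iv F17680)) (tt N2146 (iv F67294)) (tt N1631 (iv D4007)) (tt N2145 (iv F67321)) (tt N1633 F13835) (tt N2089 (iv F17322)) (tt N1884 F13836))
theorem Q1886 : ∀ i, i < 1886 → P i := stepQ 1885 Q1885 (allL N1885 (tt N1634 F13846) (tt N2148 D5254) (tt N1633 (iv D4011)) (tt N1885 F13847) (tt N2149 D5255) (tt N2146 (iv F67295)) (tt N2150 D5256) (tt N1885 F13848))
theorem Q1887 : ∀ i, i < 1887 → P i := stepQ 1886 Q1886 (allL N1886 (tt N1635 F13849) (tt N2146 (iv F17695)) (tt N2149 (iv F17908)) (tt N1886 F13850) (tt N1633 (iv D4012)) (tt N2148 F67442) (tt N2098 (iv F17346)) (tt N1886 F13851))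
theorem Q1888 : ∀ i, i < 1888 → P i := stepQ 1887 Q1887 (allL N1887 (tt N2149 (iv F17907)) (tt N1637 F13852) (tt N1635 F13853) (tt N2151 D5258) (tt N1634 (iv D4013)) (tt N2144 F67157) (tt N2152 D5260) (tt N1887 F13854))
theorem Q1889 : ∀ i, i < 1889 → P i := stepQ 1888 Q1888 (allL N1888 (tt N2150 (iv F17910)) (tt N1638 F13855) (tt N2100 (iv F17350)) (tt N1888 F13856) (tt N2152 (iv F17923)) (tt N2070 (iv F67292)) (tt N1634 (iv D4014)) (tt N2153 D5261))
theorem Q1890 : ∀ i, i < 1890 → P i := stepQ 1889 Q1889 (allL N1889 (tt N2148 (iv F67311)) (tt N1636 F13857) (tt N2144 F67164) (tt N1889 F13858) (tt N2143 (iv F67313)) (tt N1635 (iv D4015)) (tt N2101 (iv F17353)) (tt N1889 F13859))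
theorem Q1891 : ∀ i, i < 1891 → P i := stepQ 1890 Q1890 (allL N1890 (tt N2141 (iv F67027)) (tt N2151 (iv F17915)) (tt N1639 F13890) (tt N1637 (iv D4025)) (tt N1890 F13891) (tt N2059 (iv F69249)) (tt N2063 F69184) (tt N1890 F13892))
theorem Q1892 : ∀ i, i < 1892 → P i := stepQ 1891 Q1891 (allL N1891 (tt N2092 F67154) (tt N2152 (iv F17922)) (tt N1640 F13895) (tt N2063 (iv F69157)) (tt N1638 F13896) (tt N2052 (iv F69154)) (tt N1637 (iv D4027)) (tt N2056 (iv F69159)))
theorem Q1893 : ∀ i, i < 1893 → P i := stepQ 1892 Q1892 (allL N1892 (tt N2096 (iv F67310)) (tt N2153 (iv F17924)) (tt N1641 F13897) (tt N1892 F13898) (tt N2056 F69185) (tt N2049 (iv F69255)) (tt N1892 F13899) (tt N1638 (iv D4028)))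
theorem Q1894 : ∀ i, i < 1894 → P i := stepQ 1893 Q1893 (allL N1893 (tt N2104 F67156) (tt N2132 (iv F17489)) (tt N2056 (iv F69158)) (tt N1893 F13957) (tt N1641 F13958) (tt N2046 (iv F69155)) (tt N1701 F13959) (tt N1640 (iv D4047)))
theorem Q1895 : ∀ i, i < 1895 → P i := stepQ 1894 Q1894 (allL N1894 (tt N1643 (iv D4235)) (tt N1894 F14597) (tt N1653 F14598) (tt N2154 D5543) (tt N1894 F14599) (tt N1647 F14600) (tt N1894 F14601) (tt N2133 (iv F69499)))
theorem Q1896 : ∀ i, i < 1896 → P i := stepQ 1895 Q1895 (allL N1895 (tt N2154 (iv F18862)) (tt N1644 F14602) (tt N2155 D5544) (tt N1643 (iv D4236)) (tt N2156 D5545) (tt N1648 F14603) (tt N1895 F14604) (tt N2134 (iv F69567)))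
theorem Q1897 : ∀ i, i < 1897 → P i := stepQ 1896 Q1896 (allL N1896 (tt N1896 F14605) (tt N2156 (iv F18869)) (tt N1896 F14606) (tt N1896 F14607) (tt N1644 (iv D4237)) (tt N1896 F68133) (tt N1896 F14608) (tt N2135 (iv F69752)))
theorem Q1898 : ∀ i, i < 1898 → P i := stepQ 1897 Q1897 (allL N1897 (tt N1645 (iv D4243)) (tt N1897 F14626) (tt N1656 F14627) (tt N2157 D5554) (tt N1650 F14628) (tt N2133 F69584) (tt N2136 (iv F69707)) (tt N1647 F14629))
theorem Q1899 : ∀ i, i < 1899 → P i := stepQ 1898 Q1898 (allL N1898 (tt N2157 (iv F18902)) (tt N1646 F14630) (tt N2158 D5555) (tt N1645 (iv D4244)) (tt N1898 F68130) (tt N2134 F69647) (tt N2137 F69648) (tt N1648 F14631))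
theorem Q1900 : ∀ i, i < 1900 → P i := stepQ 1899 Q1899 (allL N1899 (tt N1648 F14636) (tt N1899 F14637) (tt N2159 D5558) (tt N1647 (iv D4246)) (tt N1899 F68131) (tt N2154 (iv F18864)) (tt N1899 F14638) (tt N2157 (iv F18904)))
theorem Q1901 : ∀ i, i < 1901 → P i := stepQ 1900 Q1900 (allL N1900 (tt N2159 (iv F18915)) (tt N1900 F14639) (tt N1648 (iv D4247)) (tt N1660 F14640) (tt N1900 F67928) (tt N2155 (iv F18868)) (tt N2160 D5561) (tt N2158 (iv F18907)))
theorem Q1902 : ∀ i, i < 1902 → P i := stepQ 1901 Q1901 (allL N1901 (tt N1649 (iv D4254)) (tt N1901 F14664) (tt N2057 (iv F17025)) (tt N1901 F68142) (tt N2136 F69755) (tt N1901 F14665) (tt N1650 F14666) (tt N1901 F14667))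
theorem Q1903 : ∀ i, i < 1903 → P i := stepQ 1902 Q1902 (allL N1902 (tt N1651 (iv D4266)) (tt N1671 F14704) (tt N2133 (iv F69498)) (tt N2161 D5586) (tt N1902 F14705) (tt N1656 F14706) (tt N2044 F69323) (tt N1653 F14707))
theorem Q1904 : ∀ i, i < 1904 → P i := stepQ 1903 Q1903 (allL N1903 (tt N2161 (iv F19008)) (tt N1652 F14708) (tt N2162 D5587) (tt N1651 (iv D4267)) (tt N2163 D5588) (tt N1657 F14709) (tt N2045 F69197) (tt N1654 F14710))
theorem Q1905 : ∀ i, i < 1905 → P i := stepQ 1904 Q1904 (allL N1904 (tt N1673 F14711) (tt N2163 (iv F19015)) (tt N1904 F14712) (tt N1904 F14713) (tt N1652 (iv D4268)) (tt N1701 F67448) (tt N2046 F69189) (tt N1655 F14714))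
theorem Q1906 : ∀ i, i < 1906 → P i := stepQ 1905 Q1905 (allL N1905 (tt N1654 F14715) (tt N1674 F14716) (tt N2164 D5590) (tt N1653 (iv D4269)) (tt N2165 D5591) (tt N1659 F14717) (tt N1665 F14718) (tt N2161 (iv F19011)))
theorem Q1907 : ∀ i, i < 1907 → P i := stepQ 1906 Q1906 (allL N1906 (tt N2164 (iv F19023)) (tt N1906 F14719) (tt N1654 (iv D4270)) (tt N2155 (iv F18867)) (tt N2166 D5592) (tt N1660 F14720) (tt N2167 D5593) (tt N2162 (iv F19014)))
theorem Q1908 : ∀ i, i < 1908 → P i := stepQ 1907 Q1907 (allL N1907 (tt N2165 (iv F19025)) (tt N1655 F14721) (tt N2166 (iv F19030)) (tt N1907 F14722) (tt N1654 (iv D4271)) (tt N1698 F67447) (tt N1667 F14723) (tt N2163 (iv F19017)))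
theorem Q1909 : ∀ i, i < 1909 → P i := stepQ 1908 Q1908 (allL N1908 (tt N1657 F14729) (tt N1677 F14730) (tt N2168 D5595) (tt N1656 (iv D4273)) (tt N2169 D5596) (tt N2161 (iv F19010)) (tt N2074 (iv F17140)) (tt N1659 F14731))
theorem Q1910 : ∀ i, i < 1910 → P i := stepQ 1909 Q1909 (allL N1909 (tt N2168 (iv F19038)) (tt N1909 F14732) (tt N1657 (iv D4274)) (tt N2158 (iv F18906)) (tt N2170 D5597) (tt N2162 (iv F19013)) (tt N2171 D5598) (tt N1660 F14733))
theorem Q1911 : ∀ i, i < 1911 → P i := stepQ 1910 Q1910 (allL N1910 (tt N2169 (iv F19040)) (tt N1658 F14734) (tt N2170 (iv F19045)) (tt N1663 F14735) (tt N1657 (iv D4275)) (tt N1699 (iv F67585)) (tt N2076 (iv F17145)) (tt N1661 F14736))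
theorem Q1912 : ∀ i, i < 1912 → P i := stepQ 1911 Q1911 (allL N1911 (tt N1660 F14741) (tt N2172 D5600) (tt N1659 (iv D4277)) (tt N2159 (iv F18916)) (tt N2173 D5601) (tt N2164 (iv F19024)) (tt N2174 D5602) (tt N2168 (iv F19039)))
theorem Q1913 : ∀ i, i < 1913 → P i := stepQ 1912 Q1912 (allL N1912 (tt N1661 F14742) (tt N1682 F14743) (tt N2173 (iv F19054)) (tt N1664 F14744) (tt N1659 (iv D4278)) (tt N1697 (iv F67583)) (tt N1669 F14745) (tt N2169 (iv F19043)))
theorem Q1914 : ∀ i, i < 1914 → P i := stepQ 1913 Q1913 (allL N1913 (tt N2173 (iv F19053)) (tt N1913 F14746) (tt N1661 F14747) (tt N1913 F67618) (tt N1660 (iv D4279)) (tt N1684 (iv F67586)) (tt N1675 (iv F67599)) (tt N2170 (iv F19046)))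
theorem Q1915 : ∀ i, i < 1915 → P i := stepQ 1914 Q1914 (allL N1914 (tt N2174 (iv F19055)) (tt N1914 F14748) (tt N1670 F14749) (tt N2160 (iv F18925)) (tt N1675 F67732) (tt N2167 (iv F19033)) (tt N1660 (iv D4280)) (tt N2175 D5607))
theorem Q1916 : ∀ i, i < 1916 → P i := stepQ 1915 Q1915 (allL N1915 (tt N1663 F14756) (tt N1687 F14757) (tt N1915 F67867) (tt N2169 (iv F19042)) (tt N1662 (iv D4283)) (tt N1700 F67706) (tt N2082 (iv F17166)) (tt N1664 F14758))
theorem Q1917 : ∀ i, i < 1917 → P i := stepQ 1916 Q1916 (allL N1916 (tt N1666 F14789) (tt N1696 (iv F67394)) (tt N1665 (iv D4295)) (tt N1916 F14790) (tt N1695 (iv F67395)) (tt N1668 F14791) (tt N2176 D5628) (tt N2084 (iv F17203)))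
theorem Q1918 : ∀ i, i < 1918 → P i := stepQ 1917 Q1917 (allL N1917 (tt N1667 F14792) (tt N1668 (iv F67592)) (tt N1695 F67449) (tt N1917 F14794) (tt N1665 (iv D4296)) (tt N1696 F67444) (tt N2165 (iv F19028)) (tt N2085 (iv F17207)))
theorem Q1919 : ∀ i, i < 1919 → P i := stepQ 1918 Q1918 (allL N1918 (tt N2176 (iv F19128)) (tt N1676 F67454) (tt N2167 (iv F19032)) (tt N1918 F14798) (tt N1685 F67455) (tt N1670 F14799) (tt N1666 (iv D4298)) (tt N2177 D5633))
theorem Q1920 : ∀ i, i < 1920 → P i := stepQ 1919 Q1919 (allL N1919 (tt N1670 F14808) (tt N2165 F67724) (tt N2174 (iv F19056)) (tt N1919 F14809) (tt N1674 F67725) (tt N2176 (iv F19130)) (tt N1668 (iv D4302)) (tt N2178 D5639))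
theorem Q1921 : ∀ i, i < 1921 → P i := stepQ 1920 Q1920 (allL N1920 (tt N2178 (iv F19159)) (tt N1673 F67730) (tt N2175 (iv F19069)) (tt N1920 F14821) (tt N1672 F67731) (tt N2177 (iv F19145)) (tt N2088 (iv F17242)) (tt N1670 (iv D4307)))
theorem Q1922 : ∀ i, i < 1922 → P i := stepQ 1921 Q1921 (allL N1921 (tt N1672 F14864) (tt N2161 (iv F19009)) (tt N2179 D5658) (tt N1671 (iv D4321)) (tt N2178 (iv F67886)) (tt N1677 F14865) (tt N2102 (iv F17356)) (tt N1674 F14866))
theorem Q1923 : ∀ i, i < 1923 → P i := stepQ 1922 Q1922 (allL N1922 (tt N2179 (iv F19216)) (tt N1922 F14867) (tt N1672 (iv D4322)) (tt N1922 F14868) (tt N2175 (iv F67894)) (tt N1678 F14869) (tt N2180 D5661) (tt N1675 F14870))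
theorem Q1924 : ∀ i, i < 1924 → P i := stepQ 1923 Q1923 (allL N1923 (tt N1701 (iv F67296)) (tt N2177 (iv F67620)) (tt N1923 F14874) (tt N1923 F14875) (tt N1680 F14876) (tt N1673 (iv D4324)) (tt N2104 (iv F17366)) (tt N1676 F14877))
theorem Q1925 : ∀ i, i < 1925 → P i := stepQ 1924 Q1924 (allL N1924 (tt N1675 F14878) (tt N2181 D5663) (tt N1674 (iv D4325)) (tt N1924 F14879) (tt N2174 (iv F67888)) (tt N1681 F14880) (tt N2173 F67726) (tt N2179 (iv F19219)))
theorem Q1926 : ∀ i, i < 1926 → P i := stepQ 1925 Q1925 (allL N1925 (tt N1678 F14894) (tt N2182 D5671) (tt N1677 (iv D4330)) (tt N1925 F14895) (tt N2183 D5672) (tt N2179 (iv F19218)) (tt N2184 D5673) (tt N1681 F14896))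
theorem Q1927 : ∀ i, i < 1927 → P i := stepQ 1926 Q1926 (allL N1926 (tt N1679 F14897) (tt N2169 (iv F19041)) (tt N2183 (iv F19263)) (tt N1687 F14898) (tt N1677 (iv D4331)) (tt N2185 D5674) (tt N2107 (iv F17384)) (tt N1682 F14899))
theorem Q1928 : ∀ i, i < 1928 → P i := stepQ 1927 Q1927 (allL N1927 (tt N2183 (iv F19262)) (tt N1927 F14900) (tt N1679 F14901) (tt N2186 D5675) (tt N1678 (iv D4332)) (tt N2187 D5676) (tt N2188 D5677) (tt N1683 F14902))
theorem Q1929 : ∀ i, i < 1929 → P i := stepQ 1928 Q1928 (allL N1928 (tt N2184 (iv F19265)) (tt N1928 F14903) (tt N2109 (iv F17388)) (tt N1928 F14904) (tt N2188 (iv F19278)) (tt N2180 (iv F19228)) (tt N1678 (iv D4333)) (tt N2189 D5678))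
theorem Q1930 : ∀ i, i < 1930 → P i := stepQ 1929 Q1929 (allL N1929 (tt N2185 (iv F19267)) (tt N1680 F14905) (tt N2187 (iv F19275)) (tt N1690 F14906) (tt N2177 (iv F67621)) (tt N1679 (iv D4334)) (tt N2110 (iv F17391)) (tt N1685 F14907))
theorem Q1931 : ∀ i, i < 1931 → P i := stepQ 1930 Q1930 (allL N1930 (tt N1930 F14908) (tt N1681 (iv D4335)) (tt N2172 (iv F19052)) (tt N1930 F14909) (tt N2190 D5679) (tt N2181 (iv F19235)) (tt N2191 D5680) (tt N2182 (iv F19261)))
theorem Q1932 : ∀ i, i < 1932 → P i := stepQ 1931 Q1931 (allL N1931 (tt N1683 F14910) (tt N2190 (iv F19283)) (tt N1682 F14911) (tt N2192 D5681) (tt N1681 (iv D4336)) (tt N2193 D5682) (tt N2194 D5683) (tt N2183 (iv F19264)))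
theorem Q1933 : ∀ i, i < 1933 → P i := stepQ 1932 Q1932 (allL N1932 (tt N1684 F14912) (tt N2191 (iv F19285)) (tt N1697 F14913) (tt N1932 F14914) (tt N2194 (iv F19294)) (tt N2173 F67716) (tt N1681 (iv D4337)) (tt N2195 D5684))
theorem Q1934 : ∀ i, i < 1934 → P i := stepQ 1933 Q1933 (allL N1933 (tt N1685 F14915) (tt N1697 (iv F67582)) (tt N2193 (iv F19291)) (tt N1692 F14916) (tt N2176 (iv F67612)) (tt N1682 (iv D4338)) (tt N1695 F67462) (tt N2185 (iv F19269)))
theorem Q1935 : ∀ i, i < 1935 → P i := stepQ 1934 Q1934 (allL N1934 (tt N2192 (iv F19287)) (tt N1934 F14918) (tt N1693 F14919) (tt N1683 (iv D4339)) (tt N1934 F14920) (tt N2196 D5685) (tt N2197 D5686) (tt N2186 (iv F19273)))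
theorem Q1936 : ∀ i, i < 1936 → P i := stepQ 1935 Q1935 (allL N1935 (tt N2193 (iv F19290)) (tt N1935 F14921) (tt N1685 F14922) (tt N2196 (iv F19300)) (tt N2167 (iv F67619)) (tt N1683 (iv D4340)) (tt N2166 (iv F67608)) (tt N2187 (iv F19276)))
theorem Q1937 : ∀ i, i < 1937 → P i := stepQ 1936 Q1936 (allL N1936 (tt N2194 (iv F19292)) (tt N1936 F14923) (tt N1698 F14924) (tt N2197 (iv F19303)) (tt N1684 F14925) (tt N2166 (iv F67607)) (tt N1683 (iv D4341)) (tt N2198 D5688))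
theorem Q1938 : ∀ i, i < 1938 → P i := stepQ 1937 Q1937 (allL N1937 (tt N2195 (iv F19295)) (tt N1937 F14926) (tt N1699 F14927) (tt N1937 F14928) (tt N2198 (iv F19310)) (tt N2170 F67718) (tt N2189 (iv F19281)) (tt N1684 (iv D4342)))
theorem Q1939 : ∀ i, i < 1939 → P i := stepQ 1938 Q1938 (allL N1938 (tt N1688 F14933) (tt N1938 F68157) (tt N1687 F14934) (tt N2199 D5691) (tt N1686 (iv D4344)) (tt N2200 D5692) (tt N2201 D5693) (tt N1691 F14935))
theorem Q1940 : ∀ i, i < 1940 → P i := stepQ 1939 Q1939 (allL N1939 (tt N1689 F14936) (tt N1939 F68158) (tt N2121 (iv F17412)) (tt N1939 F14937) (tt N2201 (iv F19327)) (tt N1939 F14938) (tt N1686 (iv D4345)) (tt N1939 F14939))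
theorem Q1941 : ∀ i, i < 1941 → P i := stepQ 1940 Q1940 (allL N1940 (tt N1690 F14940) (tt N1700 F67765) (tt N2200 (iv F19323)) (tt N2185 (iv F19268)) (tt N1940 F14941) (tt N1687 (iv D4346)) (tt N2122 (iv F17417)) (tt N1692 F14942))
theorem Q1942 : ∀ i, i < 1942 → P i := stepQ 1941 Q1941 (allL N1941 (tt N2199 (iv F19319)) (tt N1704 F14943) (tt N2186 (iv F19271)) (tt N1688 (iv D4347)) (tt N1941 F14944) (tt N1996 F68703) (tt N1995 (iv F68855)) (tt N1693 F14945))
theorem Q1943 : ∀ i, i < 1943 → P i := stepQ 1942 Q1942 (allL N1942 (tt N2200 (iv F19322)) (tt N1703 (iv F67945)) (tt N1690 F14947) (tt N1996 F68706) (tt N1942 F14948) (tt N1688 (iv D4348)) (tt N1994 (iv F68856)) (tt N1694 F14949))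
theorem Q1944 : ∀ i, i < 1944 → P i := stepQ 1943 Q1943 (allL N1943 (tt N2201 (iv F19326)) (tt N1705 F14950) (tt N2125 (iv F17426)) (tt N1995 F68960) (tt N1689 F14951) (tt N1994 F68961) (tt N1688 (iv D4349)) (tt N1943 F14952))
theorem Q1945 : ∀ i, i < 1945 → P i := stepQ 1944 Q1944 (allL N1944 (tt N1693 F14956) (tt N1944 F68156) (tt N2192 (iv F19288)) (tt N1691 (iv D4351)) (tt N1944 F14957) (tt N2202 D5699) (tt N1944 F14958) (tt N2199 (iv F19321)))
theorem Q1946 : ∀ i, i < 1946 → P i := stepQ 1945 Q1945 (allL N1945 (tt N1694 F14959) (tt N1945 F67943) (tt N1692 F14960) (tt N2202 (iv F19349)) (tt N1945 F14961) (tt N1691 (iv D4352)) (tt N1945 F14962) (tt N2200 (iv F19325)))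
theorem Q1947 : ∀ i, i < 1947 → P i := stepQ 1946 Q1946 (allL N1946 (tt N2202 (iv F19348)) (tt N1702 (iv F67944)) (tt N2196 (iv F19299)) (tt N1694 F14964) (tt N1997 F68707) (tt N1693 (iv D4353)) (tt N1946 F14965) (tt N1996 F68708))
theorem Q1948 : ∀ i, i < 1948 → P i := stepQ 1947 Q1947 (allL N1947 (tt N1698 F14997) (tt N2176 F67553) (tt N2194 (iv F19293)) (tt N1947 F14998) (tt N1697 F14999) (tt N2165 (iv F67603)) (tt N1696 (iv D4365)) (tt N2203 D5716))
theorem Q1949 : ∀ i, i < 1949 → P i := stepQ 1948 Q1948 (allL N1948 (tt N1699 F15000) (tt N2185 F67714) (tt N2195 (iv F19296)) (tt N1700 F15001) (tt N2203 (iv F19400)) (tt N2169 F67715) (tt N2131 (iv F17485)) (tt N1697 (iv D4366)))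
theorem Q1950 : ∀ i, i < 1950 → P i := stepQ 1949 Q1949 (allL N1949 (tt N2203 (iv F19398)) (tt N1701 F15005) (tt N2198 (iv F19309)) (tt N1949 F15006) (tt N1699 F15007) (tt N2163 (iv F67606)) (tt N2132 (iv F17492)) (tt N1698 (iv D4368)))
theorem Q1951 : ∀ i, i < 1951 → P i := stepQ 1950 Q1950 (allL N1950 (tt N1706 (iv D4781)) (tt N1789 F16388) (tt N1719 F16389) (tt N2204 D6237) (tt N1710 F16390) (tt N1827 F69470) (tt N1950 F16391) (tt N1824 (iv F69582)))
theorem Q1952 : ∀ i, i < 1952 → P i := stepQ 1951 Q1951 (allL N1951 (tt N2204 (iv F21136)) (tt N1707 F16392) (tt N2205 D6238) (tt N1706 (iv D4782)) (tt N2206 D6239) (tt N1828 F69532) (tt N1951 F16393) (tt N1825 F69533))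
theorem Q1953 : ∀ i, i < 1953 → P i := stepQ 1952 Q1952 (allL N1952 (tt N1791 F16394) (tt N2206 (iv F21140)) (tt N1836 F69241) (tt N1712 F16395) (tt N1707 (iv D4783)) (tt N2207 D6240) (tt N1952 F16396) (tt N1826 F69242))
theorem Q1954 : ∀ i, i < 1954 → P i := stepQ 1953 Q1953 (allL N1953 (tt N1708 (iv D4789)) (tt N1794 F16418) (tt N1722 F16419) (tt N2208 D6248) (tt N1824 F69705) (tt N1953 F16420) (tt N1882 (iv F69754)) (tt N1710 F16421))
theorem Q1955 : ∀ i, i < 1955 → P i := stepQ 1954 Q1954 (allL N1954 (tt N2208 (iv F21176)) (tt N1709 F16422) (tt N2209 D6249) (tt N1708 (iv D4790)) (tt N2210 D6250) (tt N1954 F16423) (tt N1883 (iv F69646)) (tt N1711 F16424))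
theorem Q1956 : ∀ i, i < 1956 → P i := stepQ 1955 Q1955 (allL N1955 (tt N1796 F16425) (tt N2210 (iv F21184)) (tt N1955 F16426) (tt N1826 F69240) (tt N1709 (iv D4791)) (tt N2211 D6251) (tt N1874 (iv F69381)) (tt N1712 F16427))
theorem Q1957 : ∀ i, i < 1957 → P i := stepQ 1956 Q1956 (allL N1956 (tt N1711 F16428) (tt N1797 F16429) (tt N2212 D6252) (tt N1710 (iv D4792)) (tt N2213 D6253) (tt N1956 F16430) (tt N1956 F16431) (tt N2208 (iv F21179)))
theorem Q1958 : ∀ i, i < 1958 → P i := stepQ 1957 Q1957 (allL N1957 (tt N2212 (iv F21190)) (tt N1957 F16432) (tt N1711 (iv D4793)) (tt N1726 F16433) (tt N2214 D6254) (tt N1957 F16434) (tt N2215 D6255) (tt N2209 (iv F21183)))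
theorem Q1959 : ∀ i, i < 1959 → P i := stepQ 1958 Q1958 (allL N1958 (tt N2213 (iv F21193)) (tt N1712 F16435) (tt N2214 (iv F21197)) (tt N2206 (iv F21141)) (tt N1711 (iv D4794)) (tt N2216 D6256) (tt N1958 F16436) (tt N2210 (iv F21185)))
theorem Q1960 : ∀ i, i < 1960 → P i := stepQ 1959 Q1959 (allL N1959 (tt N1800 F16437) (tt N2216 (iv F21202)) (tt N1959 F16438) (tt N2207 (iv F21144)) (tt N1959 F16439) (tt N1712 (iv D4795)) (tt N1959 F16440) (tt N2211 (iv F21189)))
theorem Q1961 : ∀ i, i < 1961 → P i := stepQ 1960 Q1960 (allL N1960 (tt N1713 (iv D4810)) (tt N1745 F16494) (tt N1834 F69477) (tt N2217 D6277) (tt N1960 F16495) (tt N1751 F69478) (tt N1960 F16496) (tt N1748 F69479))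
theorem Q1962 : ∀ i, i < 1962 → P i := stepQ 1961 Q1961 (allL N1961 (tt N2217 (iv F21277)) (tt N1714 F16497) (tt N2218 D6278) (tt N1713 (iv D4811)) (tt N2219 D6279) (tt N1752 F69553) (tt N1961 F16498) (tt N1749 F69554))
theorem Q1963 : ∀ i, i < 1963 → P i := stepQ 1962 Q1962 (allL N1962 (tt N1747 F16499) (tt N2219 (iv F21281)) (tt N1721 F16500) (tt N1962 F16501) (tt N1714 (iv D4812)) (tt N2220 D6280) (tt N1962 F16502) (tt N1750 (iv F69685)))
theorem Q1964 : ∀ i, i < 1964 → P i := stepQ 1963 Q1963 (allL N1963 (tt N1715 (iv D4815)) (tt N1748 F16511) (tt N1827 F69476) (tt N2221 D6284) (tt N1963 F16512) (tt N1719 F16513) (tt N1729 F16514) (tt N1745 (iv F69593)))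
theorem Q1965 : ∀ i, i < 1965 → P i := stepQ 1964 Q1964 (allL N1964 (tt N2221 (iv F21301)) (tt N1716 F16515) (tt N2222 D6285) (tt N1715 (iv D4816)) (tt N2223 D6286) (tt N1720 F16516) (tt N1730 F16517) (tt N1746 F69558))
theorem Q1966 : ∀ i, i < 1966 → P i := stepQ 1965 Q1965 (allL N1965 (tt N1750 F16518) (tt N2223 (iv F21306)) (tt N1753 F69750) (tt N1965 F16519) (tt N1716 (iv D4817)) (tt N2224 D6287) (tt N1731 F16520) (tt N1747 F69751))
theorem Q1967 : ∀ i, i < 1967 → P i := stepQ 1966 Q1966 (allL N1966 (tt N1717 (iv D4818)) (tt N1751 F16521) (tt N1824 (iv F69581)) (tt N2225 D6288) (tt N1722 F16522) (tt N1745 (iv F69592)) (tt N1966 F16523) (tt N1719 F16524))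
theorem Q1968 : ∀ i, i < 1968 → P i := stepQ 1967 Q1967 (allL N1967 (tt N2225 (iv F21313)) (tt N1718 F16525) (tt N2226 D6289) (tt N1717 (iv D4819)) (tt N2227 D6290) (tt N1746 F69555) (tt N1967 F16526) (tt N1720 F16527))
theorem Q1969 : ∀ i, i < 1969 → P i := stepQ 1968 Q1968 (allL N1968 (tt N1753 F16528) (tt N2227 (iv F21318)) (tt N1750 (iv F69684)) (tt N1724 F16529) (tt N1718 (iv D4820)) (tt N2228 D6291) (tt N1968 F16530) (tt N1721 F16531))
theorem Q1970 : ∀ i, i < 1970 → P i := stepQ 1969 Q1969 (allL N1969 (tt N1720 F16532) (tt N1754 F16533) (tt N2229 D6292) (tt N1719 (iv D4821)) (tt N2230 D6293) (tt N2221 (iv F21303)) (tt N1732 F16534) (tt N2225 (iv F21316)))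
theorem Q1971 : ∀ i, i < 1971 → P i := stepQ 1970 Q1970 (allL N1970 (tt N2229 (iv F21326)) (tt N2218 (iv F21280)) (tt N1720 (iv D4822)) (tt N2205 (iv F21139)) (tt N2231 D6294) (tt N2222 (iv F21305)) (tt N2232 D6295) (tt N2226 (iv F21317)))
theorem Q1972 : ∀ i, i < 1972 → P i := stepQ 1971 Q1971 (allL N1971 (tt N2230 (iv F21327)) (tt N1721 F16535) (tt N2231 (iv F21331)) (tt N1727 F16536) (tt N1720 (iv D4823)) (tt N2233 D6296) (tt N1734 F16537) (tt N2227 (iv F21321)))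
theorem Q1973 : ∀ i, i < 1973 → P i := stepQ 1972 Q1972 (allL N1972 (tt N1757 F16538) (tt N2233 (iv F21333)) (tt N2220 (iv F21285)) (tt N1728 F16539) (tt N2224 (iv F21311)) (tt N1721 (iv D4824)) (tt N1735 F16540) (tt N2228 (iv F21325)))
theorem Q1974 : ∀ i, i < 1974 → P i := stepQ 1973 Q1973 (allL N1973 (tt N1723 F16541) (tt N1758 F16542) (tt N2234 D6297) (tt N1722 (iv D4825)) (tt N2235 D6298) (tt N1973 F16543) (tt N1973 F16544) (tt N1725 F16545))
theorem Q1975 : ∀ i, i < 1975 → P i := stepQ 1974 Q1974 (allL N1974 (tt N2234 (iv F21336)) (tt N1974 F16546) (tt N1723 (iv D4826)) (tt N2209 (iv F21181)) (tt N2236 D6299) (tt N1974 F16547) (tt N2237 D6300) (tt N1726 F16548))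
theorem Q1976 : ∀ i, i < 1976 → P i := stepQ 1975 Q1975 (allL N1975 (tt N2235 (iv F21339)) (tt N1724 F16549) (tt N2236 (iv F21344)) (tt N2227 (iv F21319)) (tt N1723 (iv D4827)) (tt N2238 D6301) (tt N1975 F16550) (tt N1727 F16551))
theorem Q1977 : ∀ i, i < 1977 → P i := stepQ 1976 Q1976 (allL N1976 (tt N1761 F16552) (tt N2238 (iv F21349)) (tt N1976 F16553) (tt N2228 (iv F21323)) (tt N1976 F16554) (tt N1724 (iv D4828)) (tt N1976 F16555) (tt N1728 F16556))
theorem Q1978 : ∀ i, i < 1978 → P i := stepQ 1977 Q1977 (allL N1977 (tt N1726 F16557) (tt N2239 D6302) (tt N1725 (iv D4829)) (tt N2212 (iv F21191)) (tt N2240 D6303) (tt N1977 F16558) (tt N2241 D6304) (tt N2234 (iv F21338)))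
theorem Q1979 : ∀ i, i < 1979 → P i := stepQ 1978 Q1978 (allL N1978 (tt N1727 F16559) (tt N1763 F16560) (tt N2240 (iv F21357)) (tt N2230 (iv F21329)) (tt N1725 (iv D4830)) (tt N2242 D6305) (tt N1737 F16561) (tt N2235 (iv F21342)))
theorem Q1980 : ∀ i, i < 1980 → P i := stepQ 1979 Q1979 (allL N1979 (tt N2240 (iv F21356)) (tt N1979 F16562) (tt N1727 F16563) (tt N2243 D6306) (tt N1726 (iv D4831)) (tt N2244 D6307) (tt N2245 D6308) (tt N2236 (iv F21345)))
theorem Q1981 : ∀ i, i < 1981 → P i := stepQ 1980 Q1980 (allL N1980 (tt N2241 (iv F21358)) (tt N1980 F16564) (tt N1739 F16565) (tt N2215 (iv F21200)) (tt N2245 (iv F21371)) (tt N1980 F16566) (tt N1726 (iv D4832)) (tt N2246 D6309))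
theorem Q1982 : ∀ i, i < 1982 → P i := stepQ 1981 Q1981 (allL N1981 (tt N2242 (iv F21361)) (tt N1728 F16567) (tt N2244 (iv F21367)) (tt N2233 (iv F21334)) (tt N1981 F16568) (tt N1727 (iv D4833)) (tt N1740 F16569) (tt N2238 (iv F21352)))
theorem Q1983 : ∀ i, i < 1983 → P i := stepQ 1982 Q1982 (allL N1982 (tt N1730 F16570) (tt N1766 F16571) (tt N2247 D6310) (tt N1729 (iv D4834)) (tt N2248 D6311) (tt N1732 F16572) (tt N2221 (iv F21304)) (tt N1982 F16573))
theorem Q1984 : ∀ i, i < 1984 → P i := stepQ 1983 Q1983 (allL N1983 (tt N2247 (iv F21375)) (tt N1983 F16574) (tt N1730 (iv D4835)) (tt N1983 F16575) (tt N2249 D6312) (tt N1733 F16576) (tt N2250 D6313) (tt N1983 F16577))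
theorem Q1985 : ∀ i, i < 1985 → P i := stepQ 1984 Q1984 (allL N1984 (tt N2248 (iv F21379)) (tt N1731 F16578) (tt N2249 (iv F21384)) (tt N1984 F16579) (tt N1730 (iv D4836)) (tt N2251 D6314) (tt N2223 (iv F21308)) (tt N1984 F16580))
theorem Q1986 : ∀ i, i < 1986 → P i := stepQ 1985 Q1985 (allL N1985 (tt N1769 F16581) (tt N2251 (iv F21389)) (tt N1985 F16582) (tt N1985 F16583) (tt N1735 F16584) (tt N1731 (iv D4837)) (tt N2224 (iv F21312)) (tt N1985 F16585))
theorem Q1987 : ∀ i, i < 1987 → P i := stepQ 1986 Q1986 (allL N1986 (tt N1733 F16586) (tt N2252 D6315) (tt N1732 (iv D4838)) (tt N1986 F16587) (tt N2253 D6316) (tt N2247 (iv F21377)) (tt N2254 D6317) (tt N1986 F16588))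
theorem Q1988 : ∀ i, i < 1988 → P i := stepQ 1987 Q1987 (allL N1987 (tt N1734 F16589) (tt N1771 F16590) (tt N2253 (iv F21398)) (tt N1737 F16591) (tt N1732 (iv D4839)) (tt N2255 D6318) (tt N2230 (iv F21330)) (tt N1987 F16592))
theorem Q1989 : ∀ i, i < 1989 → P i := stepQ 1988 Q1988 (allL N1988 (tt N2253 (iv F21397)) (tt N1988 F16593) (tt N1734 F16594) (tt N2256 D6319) (tt N1733 (iv D4840)) (tt N2257 D6320) (tt N2258 D6321) (tt N1988 F16595))
theorem Q1990 : ∀ i, i < 1990 → P i := stepQ 1989 Q1989 (allL N1989 (tt N2254 (iv F21400)) (tt N1989 F16596) (tt N2232 (iv F21332)) (tt N1989 F16597) (tt N2258 (iv F21414)) (tt N2250 (iv F21388)) (tt N1733 (iv D4841)) (tt N2259 D6322))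
theorem Q1991 : ∀ i, i < 1991 → P i := stepQ 1990 Q1990 (allL N1990 (tt N2255 (iv F21402)) (tt N1735 F16598) (tt N2257 (iv F21411)) (tt N1740 F16599) (tt N2251 (iv F21391)) (tt N1734 (iv D4842)) (tt N2233 (iv F21335)) (tt N1990 F16600))
theorem Q1992 : ∀ i, i < 1992 → P i := stepQ 1991 Q1991 (allL N1991 (tt N1738 F16601) (tt N1991 F16602) (tt N1737 F16603) (tt N2260 D6323) (tt N1736 (iv D4843)) (tt N2261 D6324) (tt N2262 D6325) (tt N1991 F16604))
theorem Q1993 : ∀ i, i < 1993 → P i := stepQ 1992 Q1992 (allL N1992 (tt N1739 F16605) (tt N1992 F16606) (tt N2241 (iv F21359)) (tt N1992 F16607) (tt N2262 (iv F21429)) (tt N1992 F16608) (tt N1736 (iv D4844)) (tt N2263 D6326))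
theorem Q1994 : ∀ i, i < 1994 → P i := stepQ 1993 Q1993 (allL N1993 (tt N1740 F16609) (tt N1775 F16610) (tt N2261 (iv F21424)) (tt N2255 (iv F21404)) (tt N1993 F16611) (tt N1737 (iv D4845)) (tt N2242 (iv F21364)) (tt N1993 F16612))
theorem Q1995 : ∀ i, i < 1995 → P i := stepQ 1994 Q1994 (allL N1994 (tt N2260 (iv F21418)) (tt N1741 F16613) (tt N2256 (iv F21407)) (tt N1738 (iv D4846)) (tt N1994 F16614) (tt N1943 (iv F68961)) (tt N1942 F68856) (tt N1994 F16615))
theorem Q1996 : ∀ i, i < 1996 → P i := stepQ 1995 Q1995 (allL N1995 (tt N2261 (iv F21422)) (tt N1742 F16616) (tt N1740 F16617) (tt N1943 (iv F68960)) (tt N1995 F16618) (tt N1738 (iv D4847)) (tt N1941 F68855) (tt N1995 F16619))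
theorem Q1997 : ∀ i, i < 1997 → P i := stepQ 1996 Q1996 (allL N1996 (tt N2262 (iv F21427)) (tt N1743 F16620) (tt N2245 (iv F21370)) (tt N1942 (iv F68706)) (tt N1739 F16621) (tt N1941 (iv F68703)) (tt N1738 (iv D4848)) (tt N1946 (iv F68708)))
theorem Q1998 : ∀ i, i < 1998 → P i := stepQ 1997 Q1997 (allL N1997 (tt N2263 (iv F21430)) (tt N1744 F16622) (tt N2246 (iv F21373)) (tt N1997 F16623) (tt N1946 (iv F68707)) (tt N1997 F16624) (tt N1997 F16625) (tt N1739 (iv D4849)))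
theorem Q1999 : ∀ i, i < 1999 → P i := stepQ 1998 Q1998 (allL N1998 (tt N1746 F16692) (tt N2217 (iv F21278)) (tt N2264 D6359) (tt N1745 (iv D4870)) (tt N2265 D6360) (tt N2225 (iv F69623)) (tt N1998 F16693) (tt N2221 (iv F69591)))
theorem Q2000 : ∀ i, i < 2000 → P i := stepQ 1999 Q1999 (allL N1999 (tt N2264 (iv F21543)) (tt N1755 F16694) (tt N1746 (iv D4871)) (tt N1831 F16695) (tt N2266 D6361) (tt N2226 (iv F69420)) (tt N2267 D6362) (tt N2222 (iv F69433)))
theorem Q2001 : ∀ i, i < 2001 → P i := stepQ 2000 Q2000 (allL N2000 (tt N2265 (iv F21545)) (tt N1747 F16696) (tt N2266 (iv F21549)) (tt N2000 F16697) (tt N1746 (iv D4872)) (tt N2268 D6363) (tt N2000 F16698) (tt N2223 (iv F69688)))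
theorem Q2002 : ∀ i, i < 2002 → P i := stepQ 2001 Q2001 (allL N2001 (tt N2220 (iv F21284)) (tt N2268 (iv F21553)) (tt N1757 F16699) (tt N2001 F16700) (tt N2228 F69575) (tt N1747 (iv D4873)) (tt N2001 F16701) (tt N2224 (iv F69701)))
theorem Q2003 : ∀ i, i < 2003 → P i := stepQ 2002 Q2002 (allL N2002 (tt N1749 F16714) (tt N2221 (iv F21302)) (tt N2269 D6368) (tt N1748 (iv D4877)) (tt N2270 D6369) (tt N1754 F16715) (tt N1766 F16716) (tt N2217 (iv F69596)))
theorem Q2004 : ∀ i, i < 2004 → P i := stepQ 2003 Q2003 (allL N2003 (tt N2269 (iv F21571)) (tt N2226 (iv F69418)) (tt N1749 (iv D4878)) (tt N1838 F16717) (tt N2271 D6370) (tt N1755 F16718) (tt N2272 D6371) (tt N2218 (iv F69428)))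
theorem Q2005 : ∀ i, i < 2005 → P i := stepQ 2004 Q2004 (allL N2004 (tt N2270 (iv F21574)) (tt N1750 F16719) (tt N2271 (iv F21577)) (tt N2004 F16720) (tt N1749 (iv D4879)) (tt N2273 D6372) (tt N1768 F16721) (tt N2219 F69552))
theorem Q2006 : ∀ i, i < 2006 → P i := stepQ 2005 Q2005 (allL N2005 (tt N2224 (iv F21309)) (tt N2273 (iv F21581)) (tt N2228 F69573) (tt N2005 F16722) (tt N1757 F16723) (tt N1750 (iv D4880)) (tt N1769 F16724) (tt N2220 (iv F69699)))
theorem Q2007 : ∀ i, i < 2007 → P i := stepQ 2006 Q2006 (allL N2006 (tt N1752 F16725) (tt N2225 (iv F21314)) (tt N2274 D6373) (tt N1751 (iv D4881)) (tt N2275 D6374) (tt N2217 (iv F69595)) (tt N2006 F16726) (tt N1754 F16727))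
theorem Q2008 : ∀ i, i < 2008 → P i := stepQ 2007 Q2007 (allL N2007 (tt N2274 (iv F21585)) (tt N2222 (iv F69431)) (tt N1752 (iv D4882)) (tt N1841 F16728) (tt N2276 D6375) (tt N2218 (iv F69427)) (tt N2277 D6376) (tt N1755 F16729))
theorem Q2009 : ∀ i, i < 2009 → P i := stepQ 2008 Q2008 (allL N2008 (tt N2275 (iv F21588)) (tt N1753 F16730) (tt N2276 (iv F21592)) (tt N1760 F16731) (tt N1752 (iv D4883)) (tt N2278 D6377) (tt N2008 F16732) (tt N1756 F16733))
theorem Q2010 : ∀ i, i < 2010 → P i := stepQ 2009 Q2009 (allL N2009 (tt N2228 (iv F21322)) (tt N2278 (iv F21596)) (tt N2224 (iv F69700)) (tt N1761 F16734) (tt N2220 (iv F69698)) (tt N1753 (iv D4884)) (tt N2009 F16735) (tt N1757 F16736))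
theorem Q2011 : ∀ i, i < 2011 → P i := stepQ 2010 Q2010 (allL N2010 (tt N1755 F16737) (tt N2279 D6378) (tt N1754 (iv D4885)) (tt N1844 F16738) (tt N2280 D6379) (tt N2269 (iv F21573)) (tt N2281 D6380) (tt N2274 (iv F21587)))
theorem Q2012 : ∀ i, i < 2012 → P i := stepQ 2011 Q2011 (allL N2011 (tt N1756 F16739) (tt N2230 (iv F21328)) (tt N2280 (iv F21602)) (tt N1763 F16740) (tt N1754 (iv D4886)) (tt N2282 D6381) (tt N1771 F16741) (tt N2275 (iv F21591)))
theorem Q2013 : ∀ i, i < 2013 → P i := stepQ 2012 Q2012 (allL N2012 (tt N2280 (iv F21601)) (tt N2266 (iv F21548)) (tt N1756 F16742) (tt N2283 D6382) (tt N1755 (iv D4887)) (tt N2284 D6383) (tt N2285 D6384) (tt N2276 (iv F21593)))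
theorem Q2014 : ∀ i, i < 2014 → P i := stepQ 2013 Q2013 (allL N2013 (tt N2281 (iv F21603)) (tt N2267 (iv F21550)) (tt N1773 F16743) (tt N1847 F16744) (tt N2285 (iv F21613)) (tt N2272 (iv F21580)) (tt N1755 (iv D4888)) (tt N2286 D6385))
theorem Q2015 : ∀ i, i < 2015 → P i := stepQ 2014 Q2014 (allL N2014 (tt N2282 (iv F21606)) (tt N1757 F16745) (tt N2284 (iv F21611)) (tt N1765 F16746) (tt N2273 (iv F21583)) (tt N1756 (iv D4889)) (tt N1774 F16747) (tt N2278 (iv F21599)))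
theorem Q2016 : ∀ i, i < 2016 → P i := stepQ 2015 Q2015 (allL N2015 (tt N1759 F16748) (tt N2287 D6386) (tt N1758 (iv D4890)) (tt N1849 F16749) (tt N2288 D6387) (tt N2015 F16750) (tt N2289 D6388) (tt N1762 F16751))
theorem Q2017 : ∀ i, i < 2017 → P i := stepQ 2016 Q2016 (allL N2016 (tt N1760 F16752) (tt N2235 (iv F21340)) (tt N2288 (iv F21621)) (tt N2275 (iv F21589)) (tt N1758 (iv D4891)) (tt N2290 D6389) (tt N2016 F16753) (tt N1763 F16754))
theorem Q2018 : ∀ i, i < 2018 → P i := stepQ 2017 Q2017 (allL N2017 (tt N2288 (iv F21620)) (tt N2017 F16755) (tt N1760 F16756) (tt N2291 D6390) (tt N1759 (iv D4892)) (tt N2292 D6391) (tt N2293 D6392) (tt N1764 F16757))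
theorem Q2019 : ∀ i, i < 2019 → P i := stepQ 2018 Q2018 (allL N2018 (tt N2289 (iv F21623)) (tt N2018 F16758) (tt N2018 F16759) (tt N1852 F16760) (tt N2293 (iv F21641)) (tt N2018 F16761) (tt N1759 (iv D4893)) (tt N2018 F16762))
theorem Q2020 : ∀ i, i < 2020 → P i := stepQ 2019 Q2019 (allL N2019 (tt N2290 (iv F21628)) (tt N1761 F16763) (tt N2292 (iv F21636)) (tt N2278 (iv F21597)) (tt N2019 F16764) (tt N1760 (iv D4894)) (tt N2019 F16765) (tt N1765 F16766))
theorem Q2021 : ∀ i, i < 2021 → P i := stepQ 2020 Q2020 (allL N2020 (tt N2020 F16767) (tt N1762 (iv D4895)) (tt N2239 (iv F21354)) (tt N1854 F16768) (tt N2294 D6393) (tt N2020 F16769) (tt N2020 F16770) (tt N2287 (iv F21619)))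
theorem Q2022 : ∀ i, i < 2022 → P i := stepQ 2021 Q2021 (allL N2021 (tt N1764 F16771) (tt N2294 (iv F21644)) (tt N1763 F16772) (tt N2295 D6394) (tt N1762 (iv D4896)) (tt N2296 D6395) (tt N2021 F16773) (tt N2288 (iv F21622)))
theorem Q2023 : ∀ i, i < 2023 → P i := stepQ 2022 Q2022 (allL N2022 (tt N1765 F16774) (tt N2242 (iv F21362)) (tt N2296 (iv F21650)) (tt N2282 (iv F21607)) (tt N2022 F16775) (tt N1763 (iv D4897)) (tt N1775 F16776) (tt N2290 (iv F21631)))
theorem Q2024 : ∀ i, i < 2024 → P i := stepQ 2023 Q2023 (allL N2023 (tt N2295 (iv F21646)) (tt N2023 F16777) (tt N2283 (iv F21609)) (tt N1764 (iv D4898)) (tt N1857 F16778) (tt N2297 D6396) (tt N2023 F16779) (tt N2291 (iv F21634)))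
theorem Q2025 : ∀ i, i < 2025 → P i := stepQ 2024 Q2024 (allL N2024 (tt N2296 (iv F21649)) (tt N2024 F16780) (tt N1765 F16781) (tt N2297 (iv F21654)) (tt N2024 F16782) (tt N1764 (iv D4899)) (tt N2024 F16783) (tt N2292 (iv F21638)))
theorem Q2026 : ∀ i, i < 2026 → P i := stepQ 2025 Q2025 (allL N2025 (tt N1767 F16784) (tt N2298 D6397) (tt N1766 (iv D4900)) (tt N1776 F16785) (tt N2299 D6398) (tt N1770 F16786) (tt N2300 D6399) (tt N2025 F16787))
theorem Q2027 : ∀ i, i < 2027 → P i := stepQ 2026 Q2026 (allL N2026 (tt N1768 F16788) (tt N2248 (iv F21380)) (tt N2299 (iv F21661)) (tt N2026 F16789) (tt N1766 (iv D4901)) (tt N2301 D6400) (tt N2270 (iv F21576)) (tt N2026 F16790))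
theorem Q2028 : ∀ i, i < 2028 → P i := stepQ 2027 Q2027 (allL N2027 (tt N2299 (iv F21660)) (tt N2027 F16791) (tt N1768 F16792) (tt N2302 D6401) (tt N1767 (iv D4902)) (tt N2303 D6402) (tt N2304 D6403) (tt N2027 F16793))
theorem Q2029 : ∀ i, i < 2029 → P i := stepQ 2028 Q2028 (allL N2028 (tt N2300 (iv F21663)) (tt N2028 F16794) (tt N2272 (iv F21578)) (tt N1779 F16795) (tt N2304 (iv F21679)) (tt N1773 F16796) (tt N1767 (iv D4903)) (tt N2305 D6404))
theorem Q2030 : ∀ i, i < 2030 → P i := stepQ 2029 Q2029 (allL N2029 (tt N2301 (iv F21666)) (tt N1769 F16797) (tt N2303 (iv F21675)) (tt N2029 F16798) (tt N1774 F16799) (tt N1768 (iv D4904)) (tt N2273 (iv F21584)) (tt N2029 F16800))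
theorem Q2031 : ∀ i, i < 2031 → P i := stepQ 2030 Q2030 (allL N2030 (tt N2030 F16801) (tt N1770 (iv D4905)) (tt N2252 (iv F21394)) (tt N1780 F16802) (tt N2306 D6405) (tt N2298 (iv F21658)) (tt N2307 D6406) (tt N2030 F16803))
theorem Q2032 : ∀ i, i < 2032 → P i := stepQ 2031 Q2031 (allL N2031 (tt N1772 F16804) (tt N2306 (iv F21685)) (tt N1771 F16805) (tt N2031 F16806) (tt N1770 (iv D4906)) (tt N2308 D6407) (tt N2309 D6408) (tt N2031 F16807))
theorem Q2033 : ∀ i, i < 2033 → P i := stepQ 2032 Q2032 (allL N2032 (tt N1773 F16808) (tt N2307 (iv F21689)) (tt N2281 (iv F21604)) (tt N1781 F16809) (tt N2309 (iv F21697)) (tt N2300 (iv F21665)) (tt N1770 (iv D4907)) (tt N2310 D6409))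
theorem Q2034 : ∀ i, i < 2034 → P i := stepQ 2033 Q2033 (allL N2033 (tt N1774 F16810) (tt N2255 (iv F21403)) (tt N2308 (iv F21692)) (tt N1775 F16811) (tt N2301 (iv F21668)) (tt N1771 (iv D4908)) (tt N2282 (iv F21608)) (tt N2033 F16812))
theorem Q2035 : ∀ i, i < 2035 → P i := stepQ 2034 Q2034 (allL N2034 (tt N2308 (iv F21691)) (tt N2034 F16813) (tt N1774 F16814) (tt N2034 F16815) (tt N2303 (iv F21676)) (tt N1772 (iv D4909)) (tt N2311 D6410) (tt N2034 F16816))
theorem Q2036 : ∀ i, i < 2036 → P i := stepQ 2035 Q2035 (allL N2035 (tt N2309 (iv F21695)) (tt N2035 F16817) (tt N2285 (iv F21612)) (tt N2035 F16818) (tt N1773 F16819) (tt N2311 (iv F21703)) (tt N1772 (iv D4910)) (tt N2312 D6411))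
theorem Q2037 : ∀ i, i < 2037 → P i := stepQ 2036 Q2036 (allL N2036 (tt N2310 (iv F21698)) (tt N2036 F16820) (tt N2286 (iv F21614)) (tt N1782 F16821) (tt N2312 (iv F21706)) (tt N2305 (iv F21682)) (tt N2036 F16822) (tt N1773 (iv D4911)))
theorem Q2038 : ∀ i, i < 2038 → P i := stepQ 2037 Q2037 (allL N2037 (tt N2037 F16823) (tt N1776 (iv D4912)) (tt N2037 F16824) (tt N2298 (iv F21657)) (tt N2313 D6412) (tt N1780 F16825) (tt N2314 D6413) (tt N2037 F16826))
theorem Q2039 : ∀ i, i < 2039 → P i := stepQ 2038 Q2038 (allL N2038 (tt N1778 F16827) (tt N2313 (iv F21709)) (tt N1777 F16828) (tt N2315 D6414) (tt N1776 (iv D4913)) (tt N2038 F16829) (tt N1816 F67833) (tt N2038 F16830))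
theorem Q2040 : ∀ i, i < 2040 → P i := stepQ 2039 Q2039 (allL N2039 (tt N1779 F16831) (tt N2314 (iv F21714)) (tt N1817 F67573) (tt N2300 (iv F21664)) (tt N1816 (iv F67680)) (tt N1781 F16833) (tt N1776 (iv D4914)) (tt N2316 D6416))
theorem Q2041 : ∀ i, i < 2041 → P i := stepQ 2040 Q2040 (allL N2040 (tt N2315 (iv F21716)) (tt N2040 F16834) (tt N2040 F16835) (tt N1778 (iv D4915)) (tt N2302 (iv F21672)) (tt N2040 F16836) (tt N1798 F67835) (tt N2040 F16837))
theorem Q2042 : ∀ i, i < 2042 → P i := stepQ 2041 Q2041 (allL N2041 (tt N2316 (iv F21724)) (tt N2041 F16842) (tt N1815 F67575) (tt N2305 (iv F21681)) (tt N1814 (iv F67675)) (tt N1782 F16844) (tt N2041 F16845) (tt N1779 (iv D4917)))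
theorem Q2043 : ∀ i, i < 2043 → P i := stepQ 2042 Q2042 (allL N2042 (tt N2042 F16846) (tt N1781 F16847) (tt N2317 D6419) (tt N2307 (iv F21690)) (tt N2042 F16848) (tt N2314 (iv F21715)) (tt N1780 (iv D4918)) (tt N2318 D6420))
theorem Q2044 : ∀ i, i < 2044 → P i := stepQ 2043 Q2043 (allL N2043 (tt N1782 F16849) (tt N2318 (iv F21741)) (tt N1864 F16850) (tt N2310 (iv F21699)) (tt N2043 F16851) (tt N2316 (iv F21726)) (tt N2043 F16852) (tt N1781 (iv D4919)))
theorem Q2045 : ∀ i, i < 2045 → P i := stepQ 2044 Q2044 (allL N2044 (tt N1783 (iv D4951)) (tt N1834 (iv F69317)) (tt N1801 F16946) (tt N2319 D6466) (tt N2044 F16947) (tt N1807 (iv F69315)) (tt N1902 (iv F69323)) (tt N1804 F69220))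
theorem Q2046 : ∀ i, i < 2046 → P i := stepQ 2045 Q2045 (allL N2045 (tt N2319 (iv F21874)) (tt N1784 F16948) (tt N2320 D6467) (tt N1783 (iv D4952)) (tt N2321 D6468) (tt N1808 (iv F69192)) (tt N1903 (iv F69197)) (tt N1805 F69160))
theorem Q2047 : ∀ i, i < 2047 → P i := stepQ 2046 Q2046 (allL N2046 (tt N1836 (iv F69177)) (tt N2321 (iv F21877)) (tt N1791 F16949) (tt N2046 F16950) (tt N1784 (iv D4953)) (tt N1893 F69155) (tt N1904 (iv F69189)) (tt N1806 F69156))
theorem Q2048 : ∀ i, i < 2048 → P i := stepQ 2047 Q2047 (allL N2047 (tt N1785 (iv D4960)) (tt N1827 (iv F69321)) (tt N1804 F16972) (tt N2322 D6478) (tt N2047 F16973) (tt N1789 F16974) (tt N2047 F16975) (tt N1801 (iv F69322)))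
theorem Q2049 : ∀ i, i < 2049 → P i := stepQ 2048 Q2048 (allL N2048 (tt N2322 (iv F21908)) (tt N1786 F16976) (tt N2323 D6479) (tt N1785 (iv D4961)) (tt N2324 D6480) (tt N1790 F16977) (tt N2048 F16978) (tt N1802 (iv F69401)))
theorem Q2050 : ∀ i, i < 2050 → P i := stepQ 2049 Q2049 (allL N2049 (tt N1829 F69253) (tt N2324 (iv F21913)) (tt N1809 F69254) (tt N2049 F16979) (tt N1786 (iv D4962)) (tt N1892 F69255) (tt N2049 F16980) (tt N1803 F69256))
theorem Q2051 : ∀ i, i < 2051 → P i := stepQ 2050 Q2050 (allL N2050 (tt N1787 (iv D4968)) (tt N1824 (iv F69580)) (tt N1807 F16995) (tt N2325 D6489) (tt N1794 F16996) (tt N1801 F69471) (tt N1875 (iv F69583)) (tt N1789 F16997))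
theorem Q2052 : ∀ i, i < 2052 → P i := stepQ 2051 Q2051 (allL N2051 (tt N2325 (iv F21939)) (tt N1788 F16998) (tt N2326 D6490) (tt N1787 (iv D4969)) (tt N2327 D6491) (tt N1802 (iv F69400)) (tt N1876 (iv F69378)) (tt N1790 F16999))
theorem Q2053 : ∀ i, i < 2053 → P i := stepQ 2052 Q2052 (allL N2052 (tt N1826 (iv F69176)) (tt N2327 (iv F21943)) (tt N1806 F69153) (tt N1796 F17000) (tt N1788 (iv D4970)) (tt N1891 F69154) (tt N1877 (iv F69183)) (tt N1791 F17001))
theorem Q2054 : ∀ i, i < 2054 → P i := stepQ 2053 Q2053 (allL N2053 (tt N1790 F17002) (tt N2204 (iv F21137)) (tt N2328 D6493) (tt N1789 (iv D4971)) (tt N2329 D6494) (tt N2322 (iv F21909)) (tt N2053 F17003) (tt N2325 (iv F21940)))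
theorem Q2055 : ∀ i, i < 2055 → P i := stepQ 2054 Q2054 (allL N2054 (tt N2328 (iv F21948)) (tt N2320 (iv F21875)) (tt N1790 (iv D4972)) (tt N1811 F17004) (tt N2330 D6495) (tt N2323 (iv F21912)) (tt N2331 D6496) (tt N2326 (iv F21942)))
theorem Q2056 : ∀ i, i < 2056 → P i := stepQ 2055 Q2055 (allL N2055 (tt N2329 (iv F21950)) (tt N1791 F17005) (tt N2330 (iv F21953)) (tt N1799 F17006) (tt N1790 (iv D4973)) (tt N2332 D6497) (tt N2055 F17007) (tt N2327 (iv F21945)))
theorem Q2057 : ∀ i, i < 2057 → P i := stepQ 2056 Q2056 (allL N2056 (tt N2207 (iv F21143)) (tt N2332 (iv F21956)) (tt N1893 F69158) (tt N1800 F17008) (tt N1892 (iv F69185)) (tt N1791 (iv D4974)) (tt N2056 F17009) (tt N1891 F69159))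
theorem Q2058 : ∀ i, i < 2058 → P i := stepQ 2057 Q2057 (allL N2057 (tt N1792 (iv D4979)) (tt N1882 (iv F69753)) (tt N1901 F17025) (tt N2333 D6504) (tt N1875 F69706) (tt N2057 F17026) (tt N1794 F17027) (tt N2057 F17028))
theorem Q2059 : ∀ i, i < 2059 → P i := stepQ 2058 Q2058 (allL N2058 (tt N2333 (iv F21980)) (tt N1793 F17029) (tt N2058 F67981) (tt N1792 (iv D4980)) (tt N2334 D6506) (tt N2058 F17030) (tt N1795 F17031) (tt N2058 F17032))
theorem Q2060 : ∀ i, i < 2060 → P i := stepQ 2059 Q2059 (allL N2059 (tt N1874 (iv F69380)) (tt N2334 (iv F21987)) (tt N1873 (iv F69394)) (tt N1877 F69248) (tt N1793 (iv D4981)) (tt N1890 F69249) (tt N1796 F17033) (tt N2059 F17034))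
theorem Q2061 : ∀ i, i < 2061 → P i := stepQ 2060 Q2060 (allL N2060 (tt N1795 F17035) (tt N2208 (iv F21177)) (tt N2335 D6508) (tt N1794 (iv D4982)) (tt N2336 D6509) (tt N2060 F17036) (tt N2333 (iv F21982)) (tt N1797 F17037))
theorem Q2062 : ∀ i, i < 2062 → P i := stepQ 2061 Q2061 (allL N2061 (tt N2335 (iv F21993)) (tt N2061 F17038) (tt N1795 (iv D4983)) (tt N1814 F17039) (tt N2337 D6510) (tt N2061 F17040) (tt N2061 F67980) (tt N1798 F17041))
theorem Q2063 : ∀ i, i < 2063 → P i := stepQ 2062 Q2062 (allL N2062 (tt N2336 (iv F21997)) (tt N1796 F17042) (tt N2337 (iv F22000)) (tt N2327 (iv F21944)) (tt N1795 (iv D4984)) (tt N2338 D6512) (tt N2334 (iv F21988)) (tt N1799 F17043))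
theorem Q2064 : ∀ i, i < 2064 → P i := stepQ 2063 Q2063 (allL N2063 (tt N2211 (iv F21186)) (tt N2338 (iv F22005)) (tt N2063 F17044) (tt N1891 F69157) (tt N2063 F17045) (tt N1796 (iv D4985)) (tt N1890 (iv F69184)) (tt N1800 F17046))
theorem Q2065 : ∀ i, i < 2065 → P i := stepQ 2064 Q2064 (allL N2064 (tt N1798 F17047) (tt N2339 D6513) (tt N1797 (iv D4986)) (tt N1816 F17048) (tt N2340 D6514) (tt N2064 F17049) (tt N2315 (iv F67970)) (tt N2335 (iv F21996)))
theorem Q2066 : ∀ i, i < 2066 → P i := stepQ 2065 Q2065 (allL N2065 (tt N1799 F17050) (tt N2213 (iv F21194)) (tt N2340 (iv F22012)) (tt N2329 (iv F21951)) (tt N1797 (iv D4987)) (tt N2341 D6516) (tt N2065 F17051) (tt N2336 (iv F21998)))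
theorem Q2067 : ∀ i, i < 2067 → P i := stepQ 2066 Q2066 (allL N2066 (tt N2340 (iv F22011)) (tt N2066 F17052) (tt N1799 F17053) (tt N2304 F67849) (tt N1798 (iv D4988)) (tt N2342 D6518) (tt N2302 (iv F67971)) (tt N2337 (iv F22001)))
theorem Q2068 : ∀ i, i < 2068 → P i := stepQ 2067 Q2067 (allL N2067 (tt N2341 (iv F22017)) (tt N1800 F17058) (tt N2342 (iv F22023)) (tt N2332 (iv F21957)) (tt N2067 F17059) (tt N1799 (iv D4990)) (tt N2067 F17060) (tt N2338 (iv F22007)))
theorem Q2069 : ∀ i, i < 2069 → P i := stepQ 2068 Q2068 (allL N2068 (tt N1802 F17102) (tt N1830 F17103) (tt N2343 D6537) (tt N1801 (iv D5002)) (tt N2344 D6538) (tt N2325 F69496) (tt N1878 F17104) (tt N2322 F69497))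
theorem Q2070 : ∀ i, i < 2070 → P i := stepQ 2069 Q2069 (allL N2069 (tt N2343 (iv F22091)) (tt N1811 F17105) (tt N1802 (iv D5003)) (tt N2320 (iv F21876)) (tt N2345 D6539) (tt N2326 F69264) (tt N2346 D6540) (tt N2323 F69265))
theorem Q2071 : ∀ i, i < 2071 → P i := stepQ 2070 Q2070 (allL N2070 (tt N2344 (iv F22092)) (tt N1803 F17106) (tt N2345 (iv F22097)) (tt N2070 F17107) (tt N1802 (iv D5004)) (tt N1888 F67292) (tt N1880 F17108) (tt N2324 (iv F69408)))
theorem Q2072 : ∀ i, i < 2072 → P i := stepQ 2071 Q2071 (allL N2071 (tt N1805 F17126) (tt N1837 F17127) (tt N2347 D6546) (tt N1804 (iv D5009)) (tt N2348 D6547) (tt N1810 F17128) (tt N1818 F17129) (tt N2319 (iv F69172)))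
theorem Q2073 : ∀ i, i < 2073 → P i := stepQ 2072 Q2072 (allL N2072 (tt N2347 (iv F22119)) (tt N2326 (iv F69195)) (tt N1805 (iv D5010)) (tt N2323 (iv F21911)) (tt N2349 D6548) (tt N1811 F17130) (tt N2350 D6549) (tt N2320 (iv F69196)))
theorem Q2074 : ∀ i, i < 2074 → P i := stepQ 2073 Q2073 (allL N2073 (tt N2348 (iv F22121)) (tt N1806 F17131) (tt N2349 (iv F22125)) (tt N2073 F17132) (tt N1805 (iv D5011)) (tt N1862 F67285) (tt N1820 F17133) (tt N2321 (iv F69150)))
theorem Q2075 : ∀ i, i < 2075 → P i := stepQ 2074 Q2074 (allL N2074 (tt N1808 F17138) (tt N1840 F17139) (tt N2351 D6551) (tt N1807 (iv D5013)) (tt N2352 D6552) (tt N2319 F69218) (tt N1908 F17140) (tt N1810 F17141))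
theorem Q2076 : ∀ i, i < 2076 → P i := stepQ 2075 Q2075 (allL N2075 (tt N2351 (iv F22132)) (tt N2323 F69266) (tt N1808 (iv D5014)) (tt N2326 (iv F21941)) (tt N2353 D6553) (tt N2320 F69267) (tt N2354 D6554) (tt N1811 F17142))
theorem Q2077 : ∀ i, i < 2077 → P i := stepQ 2076 Q2076 (allL N2076 (tt N2352 (iv F22134)) (tt N1809 F17143) (tt N2353 (iv F22139)) (tt N1815 F17144) (tt N1808 (iv D5015)) (tt N1863 (iv F67427)) (tt N1910 F17145) (tt N1812 F17146))
theorem Q2078 : ∀ i, i < 2078 → P i := stepQ 2077 Q2077 (allL N2077 (tt N1811 F17151) (tt N2355 D6556) (tt N1810 (iv D5017)) (tt N2328 (iv F21949)) (tt N2356 D6557) (tt N2347 (iv F22120)) (tt N2357 D6558) (tt N2351 (iv F22133)))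
theorem Q2079 : ∀ i, i < 2079 → P i := stepQ 2078 Q2078 (allL N2078 (tt N1812 F17152) (tt N1845 F17153) (tt N2356 (iv F22148)) (tt N1817 F17154) (tt N1810 (iv D5018)) (tt N1861 (iv F67424)) (tt N1822 F17155) (tt N2352 (iv F22138)))
theorem Q2080 : ∀ i, i < 2080 → P i := stepQ 2079 Q2079 (allL N2079 (tt N2356 (iv F22147)) (tt N2345 (iv F22096)) (tt N1812 F17156) (tt N2272 (iv F67453)) (tt N1811 (iv D5019)) (tt N1847 (iv F67426)) (tt N1838 (iv F67437)) (tt N2353 (iv F22140)))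
theorem Q2081 : ∀ i, i < 2081 → P i := stepQ 2080 Q2080 (allL N2080 (tt N2357 (iv F22149)) (tt N2346 (iv F22098)) (tt N1823 F17157) (tt N2331 (iv F21955)) (tt N1838 F67594) (tt N2350 (iv F22127)) (tt N1811 (iv D5020)) (tt N2358 D6563))
theorem Q2082 : ∀ i, i < 2082 → P i := stepQ 2081 Q2081 (allL N2081 (tt N1814 F17161) (tt N2359 D6564) (tt N1813 (iv D5022)) (tt N2335 (iv F21994)) (tt N2316 F67839) (tt N2081 F17162) (tt N2081 F67976) (tt N1816 F17163))
theorem Q2083 : ∀ i, i < 2083 → P i := stepQ 2082 Q2082 (allL N2082 (tt N1815 F17164) (tt N1850 F17165) (tt N2316 (iv F67708)) (tt N2352 (iv F22136)) (tt N1813 (iv D5023)) (tt N1864 F67574) (tt N1915 F17166) (tt N1817 F17167))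
theorem Q2084 : ∀ i, i < 2084 → P i := stepQ 2083 Q2083 (allL N2083 (tt N2083 F17178) (tt N1816 (iv D5027)) (tt N1854 F17179) (tt N2339 (iv F22009)) (tt N2314 F67848) (tt N2083 F17180) (tt N2313 (iv F67969)) (tt N2359 (iv F22163)))
theorem Q2085 : ∀ i, i < 2085 → P i := stepQ 2084 Q2084 (allL N2084 (tt N1819 F17200) (tt N1860 (iv F67244)) (tt N1818 (iv D5035)) (tt N2084 F17201) (tt N1859 (iv F67308)) (tt N1821 F17202) (tt N2360 D6584) (tt N1916 F17203))
theorem Q2086 : ∀ i, i < 2086 → P i := stepQ 2085 Q2085 (allL N2085 (tt N1820 F17204) (tt N1821 (iv F67435)) (tt N1859 (iv F67307)) (tt N2085 F17206) (tt N1818 (iv D5036)) (tt N1860 F67284) (tt N2348 (iv F22124)) (tt N1917 F17207))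
theorem Q2087 : ∀ i, i < 2087 → P i := stepQ 2086 Q2086 (allL N2086 (tt N2360 (iv F22224)) (tt N1839 F67378) (tt N2350 (iv F22126)) (tt N2086 F17212) (tt N1848 (iv F67422)) (tt N1823 F17213) (tt N1819 (iv D5038)) (tt N2361 D6589))
theorem Q2088 : ∀ i, i < 2088 → P i := stepQ 2087 Q2087 (allL N2087 (tt N1823 F17225) (tt N2348 F67589) (tt N2357 (iv F22150)) (tt N2087 F17226) (tt N1837 F67590) (tt N2360 (iv F22226)) (tt N1821 (iv D5042)) (tt N2362 D6595))
theorem Q2089 : ∀ i, i < 2089 → P i := stepQ 2088 Q2088 (allL N2088 (tt N2362 (iv F22262)) (tt N1836 F67595) (tt N2358 (iv F22159)) (tt N2088 F17241) (tt N1835 F67596) (tt N2361 (iv F22244)) (tt N1920 F17242) (tt N1823 (iv D5047)))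
theorem Q2090 : ∀ i, i < 2090 → P i := stepQ 2089 Q2089 (allL N2089 (tt N1825 F17320) (tt N2325 F69531) (tt N2363 D6625) (tt N1824 (iv D5069)) (tt N2364 D6626) (tt N1830 F17321) (tt N1884 F17322) (tt N2204 (iv F69579)))
theorem Q2091 : ∀ i, i < 2091 → P i := stepQ 2090 Q2090 (allL N2090 (tt N2363 (iv F22366)) (tt N1838 F17323) (tt N1825 (iv D5070)) (tt N2226 (iv F69419)) (tt N2346 (iv F67488)) (tt N1831 F17324) (tt N2345 (iv F67452)) (tt N2205 (iv F69423)))
theorem Q2092 : ∀ i, i < 2092 → P i := stepQ 2091 Q2091 (allL N2091 (tt N2364 (iv F22368)) (tt N1826 F17325) (tt N2346 (iv F67487)) (tt N2210 (iv F69389)) (tt N1825 (iv D5071)) (tt N2365 D6629) (tt N1879 F67323) (tt N2206 (iv F69390)))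
theorem Q2093 : ∀ i, i < 2093 → P i := stepQ 2092 Q2092 (allL N2092 (tt N1891 (iv F67154)) (tt N2365 (iv F22375)) (tt N1839 F17327) (tt N2211 (iv F69179)) (tt N1833 F17328) (tt N1826 (iv D5072)) (tt N1881 F67314) (tt N2207 (iv F69182)))
theorem Q2094 : ∀ i, i < 2094 → P i := stepQ 2093 Q2093 (allL N2093 (tt N1828 F17330) (tt N2322 F69492) (tt N2366 D6630) (tt N1827 (iv D5073)) (tt N2367 D6631) (tt N2204 (iv F69578)) (tt N2093 F17331) (tt N1830 F17332))
theorem Q2095 : ∀ i, i < 2095 → P i := stepQ 2094 Q2094 (allL N2094 (tt N2366 (iv F22378)) (tt N1841 F17333) (tt N1828 (iv D5074)) (tt N2222 (iv F69432)) (tt N2368 D6632) (tt N2205 (iv F69422)) (tt N2369 D6633) (tt N1831 F17334))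
theorem Q2096 : ∀ i, i < 2096 → P i := stepQ 2095 Q2095 (allL N2095 (tt N2367 (iv F22380)) (tt N1829 F17335) (tt N2368 (iv F22385)) (tt N2095 F17336) (tt N1828 (iv D5075)) (tt N2370 D6634) (tt N2095 F17337) (tt N1832 F17338))
theorem Q2097 : ∀ i, i < 2097 → P i := stepQ 2096 Q2096 (allL N2096 (tt N1892 F67310) (tt N2370 (iv F22389)) (tt N1843 F17339) (tt N2096 F17340) (tt N2207 (iv F69181)) (tt N1829 (iv D5076)) (tt N2096 F17341) (tt N1833 F17342))
theorem Q2098 : ∀ i, i < 2098 → P i := stepQ 2097 Q2097 (allL N2097 (tt N1831 F17343) (tt N2371 D6635) (tt N1830 (iv D5077)) (tt N2264 (iv F21544)) (tt N2372 D6636) (tt N2363 (iv F22367)) (tt N2373 D6637) (tt N2366 (iv F22379)))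
theorem Q2099 : ∀ i, i < 2099 → P i := stepQ 2098 Q2098 (allL N2098 (tt N1832 F17344) (tt N2344 (iv F22093)) (tt N2372 (iv F22395)) (tt N2098 F17345) (tt N1830 (iv D5078)) (tt N2374 D6638) (tt N1886 F17346) (tt N2367 (iv F22383)))
theorem Q2100 : ∀ i, i < 2100 → P i := stepQ 2099 Q2099 (allL N2099 (tt N2372 (iv F22394)) (tt N1846 F17347) (tt N1832 F17348) (tt N2375 D6639) (tt N1831 (iv D5079)) (tt N2376 D6640) (tt N2377 D6641) (tt N2368 (iv F22386)))
theorem Q2101 : ∀ i, i < 2101 → P i := stepQ 2100 Q2100 (allL N2100 (tt N2373 (iv F22396)) (tt N1847 F17349) (tt N1888 F17350) (tt N2267 (iv F21552)) (tt N2377 (iv F22407)) (tt N2345 (iv F67451)) (tt N1831 (iv D5080)) (tt N2378 D6642))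
theorem Q2102 : ∀ i, i < 2102 → P i := stepQ 2101 Q2101 (allL N2101 (tt N2374 (iv F22398)) (tt N1833 F17351) (tt N2376 (iv F22404)) (tt N2101 F17352) (tt N2365 (iv F22376)) (tt N1832 (iv D5081)) (tt N1889 F17353) (tt N2370 (iv F22392)))
theorem Q2103 : ∀ i, i < 2103 → P i := stepQ 2102 Q2102 (allL N2102 (tt N1835 F17354) (tt N2319 F69219) (tt N2379 D6643) (tt N1834 (iv D5082)) (tt N2362 (iv F67723)) (tt N1840 F17355) (tt N1921 F17356) (tt N1837 F17357))
theorem Q2104 : ∀ i, i < 2104 → P i := stepQ 2103 Q2103 (allL N2103 (tt N2379 (iv F22410)) (tt N2205 (iv F69421)) (tt N1835 (iv D5083)) (tt N2218 (iv F69426)) (tt N2358 (iv F67728)) (tt N1841 F17358) (tt N2380 D6646) (tt N1838 F17359))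
theorem Q2105 : ∀ i, i < 2105 → P i := stepQ 2104 Q2104 (allL N2104 (tt N1893 (iv F67156)) (tt N2361 (iv F67541)) (tt N2207 (iv F69180)) (tt N2104 F17364) (tt N1843 F17365) (tt N1836 (iv D5085)) (tt N1923 F17366) (tt N1839 F17367))
theorem Q2106 : ∀ i, i < 2106 → P i := stepQ 2105 Q2105 (allL N2105 (tt N1838 F17368) (tt N2381 D6648) (tt N1837 (iv D5086)) (tt N2269 (iv F21572)) (tt N2357 (iv F67721)) (tt N1844 F17369) (tt N2356 F67588) (tt N2379 (iv F22412)))
theorem Q2107 : ∀ i, i < 2107 → P i := stepQ 2106 Q2106 (allL N2106 (tt N1841 F17380) (tt N2382 D6656) (tt N1840 (iv D5091)) (tt N2274 (iv F21586)) (tt N2383 D6657) (tt N2379 (iv F22411)) (tt N2384 D6658) (tt N1844 F17381))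
theorem Q2108 : ∀ i, i < 2108 → P i := stepQ 2107 Q2107 (allL N2107 (tt N1842 F17382) (tt N2352 (iv F22135)) (tt N2383 (iv F22445)) (tt N1850 F17383) (tt N1840 (iv D5092)) (tt N2385 D6659) (tt N1926 F17384) (tt N1845 F17385))
theorem Q2109 : ∀ i, i < 2109 → P i := stepQ 2108 Q2108 (allL N2108 (tt N2383 (iv F22444)) (tt N2368 (iv F22384)) (tt N1842 F17386) (tt N2386 D6660) (tt N1841 (iv D5093)) (tt N2387 D6661) (tt N2388 D6662) (tt N1846 F17387))
theorem Q2110 : ∀ i, i < 2110 → P i := stepQ 2109 Q2109 (allL N2109 (tt N2384 (iv F22447)) (tt N2369 (iv F22387)) (tt N1928 F17388) (tt N2277 (iv F21595)) (tt N2388 (iv F22458)) (tt N2380 (iv F22420)) (tt N1841 (iv D5094)) (tt N2389 D6663))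
theorem Q2111 : ∀ i, i < 2111 → P i := stepQ 2110 Q2110 (allL N2110 (tt N2385 (iv F22449)) (tt N1843 F17389) (tt N2387 (iv F22455)) (tt N1853 F17390) (tt N2361 F67578) (tt N1842 (iv D5095)) (tt N1929 F17391) (tt N1848 F17392))
theorem Q2112 : ∀ i, i < 2112 → P i := stepQ 2111 Q2111 (allL N2111 (tt N2371 (iv F22393)) (tt N1844 (iv D5096)) (tt N2355 (iv F22146)) (tt N2279 (iv F21600)) (tt N2390 D6664) (tt N2381 (iv F22426)) (tt N2391 D6665) (tt N2382 (iv F22443)))
theorem Q2113 : ∀ i, i < 2113 → P i := stepQ 2112 Q2112 (allL N2112 (tt N1846 F17393) (tt N2390 (iv F22461)) (tt N1845 F17394) (tt N2392 D6666) (tt N1844 (iv D5097)) (tt N2393 D6667) (tt N2394 D6668) (tt N2383 (iv F22446)))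
theorem Q2114 : ∀ i, i < 2114 → P i := stepQ 2113 Q2113 (allL N2113 (tt N1847 F17395) (tt N2391 (iv F22462)) (tt N1861 F17396) (tt N2281 (iv F21605)) (tt N2394 (iv F22469)) (tt N2356 F67579) (tt N1844 (iv D5098)) (tt N2395 D6669))
theorem Q2115 : ∀ i, i < 2115 → P i := stepQ 2114 Q2114 (allL N2114 (tt N1848 F17397) (tt N1861 (iv F67423)) (tt N2393 (iv F22466)) (tt N1856 F17398) (tt N2360 (iv F67450)) (tt N1845 (iv D5099)) (tt N1859 F67309) (tt N2385 (iv F22452)))
theorem Q2116 : ∀ i, i < 2116 → P i := stepQ 2115 Q2115 (allL N2115 (tt N2392 (iv F22463)) (tt N2375 (iv F22401)) (tt N1857 F17400) (tt N1846 (iv D5100)) (tt N2283 (iv F21610)) (tt N2396 D6670) (tt N2397 D6671) (tt N2386 (iv F22454)))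
theorem Q2117 : ∀ i, i < 2117 → P i := stepQ 2116 Q2116 (allL N2116 (tt N2393 (iv F22465)) (tt N2376 (iv F22403)) (tt N1848 F17401) (tt N2396 (iv F22473)) (tt N2350 F67576) (tt N1846 (iv D5101)) (tt N2349 F67577) (tt N2387 (iv F22456)))
theorem Q2118 : ∀ i, i < 2118 → P i := stepQ 2117 Q2117 (allL N2117 (tt N2394 (iv F22467)) (tt N2377 (iv F22405)) (tt N1862 F17402) (tt N2397 (iv F22475)) (tt N1847 F17403) (tt N2349 (iv F67445)) (tt N1846 (iv D5102)) (tt N2398 D6673))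
theorem Q2119 : ∀ i, i < 2119 → P i := stepQ 2118 Q2118 (allL N2118 (tt N2395 (iv F22470)) (tt N2378 (iv F22408)) (tt N1863 F17404) (tt N2286 (iv F21615)) (tt N2398 (iv F22479)) (tt N2353 F67584) (tt N2389 (iv F22460)) (tt N1847 (iv D5103)))
theorem Q2120 : ∀ i, i < 2120 → P i := stepQ 2119 Q2119 (allL N2119 (tt N2119 F17405) (tt N1849 (iv D5104)) (tt N2359 (iv F22161)) (tt N2287 (iv F21617)) (tt N2399 D6674) (tt N2119 F17406) (tt N2400 D6675) (tt N1854 F17407))
theorem Q2121 : ∀ i, i < 2121 → P i := stepQ 2120 Q2120 (allL N2120 (tt N1851 F17408) (tt N2399 (iv F22481)) (tt N1850 F17409) (tt N2401 D6676) (tt N1849 (iv D5105)) (tt N2402 D6677) (tt N2403 D6678) (tt N1855 F17410))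
theorem Q2122 : ∀ i, i < 2122 → P i := stepQ 2121 Q2121 (allL N2121 (tt N1852 F17411) (tt N2400 (iv F22484)) (tt N1939 F17412) (tt N2289 (iv F21625)) (tt N2403 (iv F22495)) (tt N2121 F17413) (tt N1849 (iv D5106)) (tt N2121 F17414))
theorem Q2123 : ∀ i, i < 2123 → P i := stepQ 2122 Q2122 (allL N2122 (tt N1853 F17415) (tt N1864 F67630) (tt N2402 (iv F22490)) (tt N2385 (iv F22450)) (tt N2122 F17416) (tt N1850 (iv D5107)) (tt N1940 F17417) (tt N1856 F17418))
theorem Q2124 : ∀ i, i < 2124 → P i := stepQ 2123 Q2123 (allL N2123 (tt N2401 (iv F22487)) (tt N2123 F17419) (tt N2386 (iv F22453)) (tt N1851 (iv D5108)) (tt N2291 (iv F21633)) (tt N2258 F68847) (tt N2257 (iv F68952)) (tt N1857 F17420))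
theorem Q2125 : ∀ i, i < 2125 → P i := stepQ 2124 Q2124 (allL N2124 (tt N2402 (iv F22489)) (tt N2124 F17421) (tt N1853 F17422) (tt N2258 F68850) (tt N2124 F17423) (tt N1851 (iv D5109)) (tt N2256 (iv F68953)) (tt N1858 F17424))
theorem Q2126 : ∀ i, i < 2126 → P i := stepQ 2125 Q2125 (allL N2125 (tt N2403 (iv F22493)) (tt N2125 F17425) (tt N1943 F17426) (tt N2257 F69070) (tt N1852 F17427) (tt N2256 F69071) (tt N1851 (iv D5110)) (tt N2125 F17428))
theorem Q2127 : ∀ i, i < 2127 → P i := stepQ 2126 Q2126 (allL N2126 (tt N2126 F17429) (tt N1855 F17430) (tt N2314 F67868) (tt N2404 D6682) (tt N1854 (iv D5111)) (tt N2317 F67869) (tt N2126 F17431) (tt N2399 (iv F22482)))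
theorem Q2128 : ∀ i, i < 2128 → P i := stepQ 2127 Q2127 (allL N2127 (tt N1857 F17432) (tt N2404 (iv F22509)) (tt N2392 (iv F22464)) (tt N1855 (iv D5112)) (tt N2295 (iv F21647)) (tt N2405 D6684) (tt N2127 F17433) (tt N2401 (iv F22488)))
theorem Q2129 : ∀ i, i < 2129 → P i := stepQ 2128 Q2128 (allL N2128 (tt N1858 F17434) (tt N2317 (iv F67772)) (tt N1856 F17435) (tt N2405 (iv F22516)) (tt N2128 F17436) (tt N1855 (iv D5113)) (tt N2128 F17437) (tt N2402 (iv F22492)))
theorem Q2130 : ∀ i, i < 2130 → P i := stepQ 2129 Q2129 (allL N2129 (tt N2405 (iv F22515)) (tt N2129 F17438) (tt N2396 (iv F22472)) (tt N1858 F17439) (tt N2259 F68851) (tt N1857 (iv D5114)) (tt N2129 F17440) (tt N2258 F68852))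
theorem Q2131 : ∀ i, i < 2131 → P i := stepQ 2130 Q2130 (allL N2130 (tt N1862 F17480) (tt N2360 F67393) (tt N2394 (iv F22468)) (tt N2130 F17481) (tt N1861 F17482) (tt N2348 (iv F67443)) (tt N1860 (iv D5126)) (tt N2406 D6701))
theorem Q2132 : ∀ i, i < 2132 → P i := stepQ 2131 Q2131 (allL N2131 (tt N1863 F17483) (tt N2385 F67580) (tt N2395 (iv F22471)) (tt N1864 F17484) (tt N2406 (iv F22574)) (tt N2352 F67581) (tt N1948 F17485) (tt N1861 (iv D5127)))
theorem Q2133 : ∀ i, i < 2133 → P i := stepQ 2132 Q2132 (allL N2132 (tt N2406 (iv F22572)) (tt N1893 F17489) (tt N2398 (iv F22478)) (tt N2132 F17490) (tt N1863 F17491) (tt N2321 (iv F69149)) (tt N1949 F17492) (tt N1862 (iv D5129)))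
theorem Q2134 : ∀ i, i < 2134 → P i := stepQ 2133 Q2133 (allL N2133 (tt N1865 (iv D5149)) (tt N2133 F17563) (tt N1902 F69498) (tt N2407 D6728) (tt N2133 F17564) (tt N1897 (iv F69584)) (tt N1869 F17565) (tt N1894 F69499))
theorem Q2135 : ∀ i, i < 2135 → P i := stepQ 2134 Q2134 (allL N2134 (tt N2407 (iv F22671)) (tt N1866 F17566) (tt N2408 D6729) (tt N1865 (iv D5150)) (tt N2409 D6730) (tt N1898 (iv F69647)) (tt N1870 F17567) (tt N1895 F69567))
theorem Q2136 : ∀ i, i < 2136 → P i := stepQ 2135 Q2135 (allL N2135 (tt N2135 F17568) (tt N2409 (iv F22675)) (tt N2135 F17569) (tt N2135 F17570) (tt N1866 (iv D5151)) (tt N2135 F67345) (tt N1871 F17571) (tt N1896 F69752))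
theorem Q2137 : ∀ i, i < 2137 → P i := stepQ 2136 Q2136 (allL N2136 (tt N1867 (iv D5154)) (tt N2136 F17580) (tt N1875 F17581) (tt N2410 D6735) (tt N1901 (iv F69755)) (tt N1869 F17582) (tt N1897 F69707) (tt N2136 F17583))
theorem Q2138 : ∀ i, i < 2138 → P i := stepQ 2137 Q2137 (allL N2137 (tt N2410 (iv F22694)) (tt N1868 F17584) (tt N2411 D6736) (tt N1867 (iv D5155)) (tt N2137 F67398) (tt N1870 F17585) (tt N1898 (iv F69648)) (tt N2137 F17586))
theorem Q2139 : ∀ i, i < 2139 → P i := stepQ 2138 Q2138 (allL N2138 (tt N1870 F17590) (tt N2138 F17591) (tt N2412 D6739) (tt N1869 (iv D5157)) (tt N2413 D6740) (tt N2410 (iv F22696)) (tt N2407 (iv F22673)) (tt N2138 F17592))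
theorem Q2140 : ∀ i, i < 2140 → P i := stepQ 2139 Q2139 (allL N2139 (tt N2412 (iv F22708)) (tt N1874 F17593) (tt N1870 (iv D5158)) (tt N1879 F17594) (tt N1883 (iv F67061)) (tt N2411 (iv F22700)) (tt N2210 F69525) (tt N2139 F17595))
theorem Q2141 : ∀ i, i < 2141 → P i := stepQ 2140 Q2140 (allL N2140 (tt N2413 (iv F22711)) (tt N1871 F17596) (tt N1883 F67208) (tt N2140 F17597) (tt N1870 (iv D5159)) (tt N2140 F67344) (tt N2409 (iv F22677)) (tt N2140 F17598))
theorem Q2142 : ∀ i, i < 2142 → P i := stepQ 2141 Q2141 (allL N2141 (tt N1890 F67027) (tt N2411 (iv F22698)) (tt N1872 (iv D5162)) (tt N1881 F17608) (tt N2141 F67108) (tt N1874 F17609) (tt N2211 F69237) (tt N2141 F17610))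
theorem Q2143 : ∀ i, i < 2143 → P i := stepQ 2142 Q2142 (allL N2142 (tt N1876 F17679) (tt N1884 F17680) (tt N2414 D6771) (tt N1875 (iv D5181)) (tt N2415 D6772) (tt N1878 F17681) (tt N2325 F69522) (tt N2142 F17682))
theorem Q2144 : ∀ i, i < 2144 → P i := stepQ 2143 Q2143 (allL N2143 (tt N2414 (iv F22818)) (tt N1881 F17683) (tt N1876 (iv D5182)) (tt N2411 (iv F22699)) (tt N1889 F67313) (tt N1879 F17684) (tt N2365 (iv F67475)) (tt N2143 F17685))
theorem Q2145 : ∀ i, i < 2145 → P i := stepQ 2144 Q2144 (allL N2144 (tt N2415 (iv F22821)) (tt N1877 F17686) (tt N1889 (iv F67164)) (tt N2334 (iv F69396)) (tt N1876 (iv D5183)) (tt N1887 (iv F67157)) (tt N2327 F69247) (tt N2144 F17687))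
theorem Q2146 : ∀ i, i < 2146 → P i := stepQ 2145 Q2145 (allL N2145 (tt N1879 F17692) (tt N2415 F67320) (tt N1878 (iv D5185)) (tt N2412 (iv F22709)) (tt N1884 F67321) (tt N2414 (iv F22819)) (tt N2364 (iv F67483)) (tt N2145 F17693))
theorem Q2147 : ∀ i, i < 2147 → P i := stepQ 2146 Q2146 (allL N2146 (tt N1880 F17694) (tt N1886 F17695) (tt N1884 F67294) (tt N2146 F17696) (tt N1878 (iv D5186)) (tt N1885 F67295) (tt N2344 (iv F22095)) (tt N2146 F17697))
theorem Q2148 : ∀ i, i < 2148 → P i := stepQ 2147 Q2147 (allL N2147 (tt N1883 F17875) (tt N2333 F69728) (tt N2413 (iv F67352)) (tt N1882 (iv D5245)) (tt N2412 F67209) (tt N2147 F17876) (tt N2208 F69729) (tt N2147 F17877))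
theorem Q2149 : ∀ i, i < 2149 → P i := stepQ 2148 Q2148 (allL N2148 (tt N1889 F67311) (tt N1885 (iv D5254)) (tt N2415 F67315) (tt N2148 F17905) (tt N2414 (iv F67473)) (tt N1886 (iv F67442)) (tt N2374 (iv F67469)) (tt N2148 F17906))
theorem Q2150 : ∀ i, i < 2150 → P i := stepQ 2149 Q2149 (allL N2149 (tt N1887 F17907) (tt N2414 (iv F67472)) (tt N1886 F17908) (tt N2416 D6871) (tt N1885 (iv D5255)) (tt N2415 F67303) (tt N2417 D6873) (tt N2149 F17909))
theorem Q2151 : ∀ i, i < 2151 → P i := stepQ 2150 Q2150 (allL N2150 (tt N1888 F17910) (tt N2374 (iv F67468)) (tt N2373 (iv F22397)) (tt N2150 F17911) (tt N2417 (iv F23129)) (tt N2344 (iv F67456)) (tt N1885 (iv D5256)) (tt N2418 D6874))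
theorem Q2152 : ∀ i, i < 2152 → P i := stepQ 2151 Q2151 (allL N2151 (tt N2416 (iv F23121)) (tt N1890 F17915) (tt N2151 F17916) (tt N1887 (iv D5258)) (tt N2151 F17917) (tt N2334 (iv F69397)) (tt N2338 F69250) (tt N2151 F17918))
theorem Q2153 : ∀ i, i < 2153 → P i := stepQ 2152 Q2152 (allL N2152 (tt N2417 (iv F23128)) (tt N1891 F17922) (tt N2377 (iv F22406)) (tt N2338 (iv F69190)) (tt N1888 F17923) (tt N2327 (iv F69188)) (tt N1887 (iv D5260)) (tt N2332 (iv F69191)))
theorem Q2154 : ∀ i, i < 2154 → P i := stepQ 2153 Q2153 (allL N2153 (tt N2418 (iv F23130)) (tt N1892 F17924) (tt N2378 (iv F22409)) (tt N2153 F17925) (tt N2332 F69257) (tt N2324 (iv F69407)) (tt N2153 F17926) (tt N1888 (iv D5261)))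
theorem Q2155 : ∀ i, i < 2155 → P i := stepQ 2154 Q2154 (allL N2154 (tt N1895 F18862) (tt N2154 F18863) (tt N2419 D7239) (tt N1894 (iv D5543)) (tt N2420 D7240) (tt N1899 F18864) (tt N2154 F18865) (tt N2407 (iv F69613)))
theorem Q2156 : ∀ i, i < 2156 → P i := stepQ 2155 Q2155 (allL N2155 (tt N2419 (iv F24320)) (tt N2155 F18866) (tt N1895 (iv D5544)) (tt N1906 F18867) (tt N2421 D7241) (tt N1900 F18868) (tt N2422 D7242) (tt N2408 (iv F69447)))
theorem Q2157 : ∀ i, i < 2157 → P i := stepQ 2156 Q2156 (allL N2156 (tt N2420 (iv F24323)) (tt N1896 F18869) (tt N2421 (iv F24328)) (tt N2156 F18870) (tt N1895 (iv D5545)) (tt N2156 F67967) (tt N2156 F18871) (tt N2409 (iv F69692)))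
theorem Q2158 : ∀ i, i < 2158 → P i := stepQ 2157 Q2157 (allL N2157 (tt N1898 F18902) (tt N2157 F18903) (tt N2423 D7254) (tt N1897 (iv D5554)) (tt N2157 F68222) (tt N2407 F69708) (tt N2410 F69709) (tt N1899 F18904))
theorem Q2159 : ∀ i, i < 2159 → P i := stepQ 2158 Q2158 (allL N2158 (tt N2423 (iv F24371)) (tt N2158 F18905) (tt N1898 (iv D5555)) (tt N1909 F18906) (tt N2158 F68088) (tt N2408 F69539) (tt N2424 D7257) (tt N1900 F18907))
theorem Q2160 : ∀ i, i < 2160 → P i := stepQ 2159 Q2159 (allL N2159 (tt N1900 F18915) (tt N2425 D7259) (tt N1899 (iv D5558)) (tt N1911 F18916) (tt N2159 F68060) (tt N2419 (iv F24322)) (tt N2426 D7261) (tt N2423 (iv F24373)))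
theorem Q2161 : ∀ i, i < 2161 → P i := stepQ 2160 Q2160 (allL N2160 (tt N2426 (iv F24391)) (tt N2160 F18923) (tt N2160 F18924) (tt N1914 F18925) (tt N2160 F67942) (tt N2422 (iv F24332)) (tt N1900 (iv D5561)) (tt N2427 D7266))
theorem Q2162 : ∀ i, i < 2162 → P i := stepQ 2161 Q2161 (allL N2161 (tt N1903 F19008) (tt N1921 F19009) (tt N2428 D7299) (tt N1902 (iv D5586)) (tt N2429 D7300) (tt N1908 F19010) (tt N2319 F69222) (tt N1905 F19011))
theorem Q2163 : ∀ i, i < 2163 → P i := stepQ 2162 Q2162 (allL N2162 (tt N2428 (iv F24518)) (tt N2162 F19012) (tt N1903 (iv D5587)) (tt N2408 (iv F69446)) (tt N2430 D7301) (tt N1909 F19013) (tt N2431 D7302) (tt N1906 F19014))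
theorem Q2164 : ∀ i, i < 2164 → P i := stepQ 2163 Q2163 (allL N2163 (tt N2429 (iv F24521)) (tt N1904 F19015) (tt N2430 (iv F24526)) (tt N2163 F19016) (tt N1903 (iv D5588)) (tt N1949 F67606) (tt N2321 F69166) (tt N1907 F19017))
theorem Q2165 : ∀ i, i < 2165 → P i := stepQ 2164 Q2164 (allL N2164 (tt N1906 F19023) (tt N2432 D7304) (tt N1905 (iv D5590)) (tt N2419 (iv F24321)) (tt N2433 D7305) (tt N1911 F19024) (tt N2434 D7306) (tt N2428 (iv F24520)))
theorem Q2166 : ∀ i, i < 2166 → P i := stepQ 2165 Q2165 (allL N2165 (tt N1907 F19025) (tt N1919 (iv F67724)) (tt N2433 (iv F24538)) (tt N2165 F19027) (tt N1905 (iv D5591)) (tt N1947 F67603) (tt N1917 F19028) (tt N2429 (iv F24524)))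
theorem Q2167 : ∀ i, i < 2167 → P i := stepQ 2166 Q2166 (allL N2166 (tt N2433 (iv F24537)) (tt N2166 F19029) (tt N1907 F19030) (tt N2435 D7308) (tt N1906 (iv D5592)) (tt N1936 F67607) (tt N1935 F67608) (tt N2430 (iv F24527)))
theorem Q2168 : ∀ i, i < 2168 → P i := stepQ 2167 Q2167 (allL N2167 (tt N2434 (iv F24539)) (tt N2167 F19031) (tt N1918 F19032) (tt N2422 (iv F24331)) (tt N1935 F67619) (tt N1914 F19033) (tt N1906 (iv D5593)) (tt N2436 D7311))
theorem Q2169 : ∀ i, i < 2169 → P i := stepQ 2168 Q2168 (allL N2168 (tt N1909 F19038) (tt N2437 D7312) (tt N1908 (iv D5595)) (tt N2423 (iv F24372)) (tt N2438 D7313) (tt N2428 (iv F24519)) (tt N2439 D7314) (tt N1911 F19039))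
theorem Q2170 : ∀ i, i < 2170 → P i := stepQ 2169 Q2169 (allL N2169 (tt N1910 F19040) (tt N1926 F19041) (tt N2438 (iv F24562)) (tt N1915 F19042) (tt N1908 (iv D5596)) (tt N1948 (iv F67715)) (tt N2352 (iv F22137)) (tt N1912 F19043))
theorem Q2171 : ∀ i, i < 2171 → P i := stepQ 2170 Q2170 (allL N2170 (tt N2438 (iv F24561)) (tt N2170 F19044) (tt N1910 F19045) (tt N2170 F67763) (tt N1909 (iv D5597)) (tt N1937 (iv F67718)) (tt N2440 D7318) (tt N1913 F19046))
theorem Q2172 : ∀ i, i < 2172 → P i := stepQ 2171 Q2171 (allL N2171 (tt N2439 (iv F24564)) (tt N2171 F19047) (tt N2354 (iv F22141)) (tt N2424 (iv F24382)) (tt N2440 (iv F24576)) (tt N2431 (iv F24529)) (tt N1909 (iv D5598)) (tt N2441 D7319))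
theorem Q2173 : ∀ i, i < 2173 → P i := stepQ 2172 Q2172 (allL N2172 (tt N2172 F19051) (tt N1911 (iv D5600)) (tt N1930 F19052) (tt N2425 (iv F24388)) (tt N2442 D7320) (tt N2432 (iv F24536)) (tt N2443 D7321) (tt N2437 (iv F24560)))
theorem Q2174 : ∀ i, i < 2174 → P i := stepQ 2173 Q2173 (allL N2173 (tt N1913 F19053) (tt N2442 (iv F24580)) (tt N1912 F19054) (tt N2173 F67750) (tt N1911 (iv D5601)) (tt N1932 (iv F67716)) (tt N1924 (iv F67726)) (tt N2438 (iv F24563)))
theorem Q2175 : ∀ i, i < 2175 → P i := stepQ 2174 Q2174 (allL N2174 (tt N1914 F19055) (tt N2443 (iv F24583)) (tt N1919 F19056) (tt N2426 (iv F24393)) (tt N1924 F67888) (tt N2434 (iv F24541)) (tt N1911 (iv D5602)) (tt N2444 D7325))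
theorem Q2176 : ∀ i, i < 2176 → P i := stepQ 2175 Q2175 (allL N2175 (tt N2444 (iv F24591)) (tt N2175 F19068) (tt N1920 F19069) (tt N2427 (iv F24408)) (tt N1922 F67894) (tt N2436 (iv F24557)) (tt N2441 (iv F24578)) (tt N1914 (iv D5607)))
theorem Q2177 : ∀ i, i < 2177 → P i := stepQ 2176 Q2176 (allL N2176 (tt N1918 F19128) (tt N1947 (iv F67553)) (tt N2434 (iv F24540)) (tt N2176 F19129) (tt N1933 F67612) (tt N1919 F19130) (tt N1916 (iv D5628)) (tt N2445 D7358))
theorem Q2178 : ∀ i, i < 2178 → P i := stepQ 2177 Q2177 (allL N2177 (tt N2445 (iv F24685)) (tt N1923 F67620) (tt N2436 (iv F24556)) (tt N2177 F19144) (tt N1929 F67621) (tt N1920 F19145) (tt N2361 (iv F22245)) (tt N1918 (iv D5633)))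
theorem Q2179 : ∀ i, i < 2179 → P i := stepQ 2178 Q2178 (allL N2178 (tt N1920 F19159) (tt N2429 F67885) (tt N2444 (iv F24592)) (tt N2178 F19160) (tt N1921 F67886) (tt N2445 (iv F24687)) (tt N2362 (iv F22264)) (tt N1919 (iv D5639)))
theorem Q2180 : ∀ i, i < 2180 → P i := stepQ 2179 Q2179 (allL N2179 (tt N1922 F19216) (tt N2446 D7394) (tt N1921 (iv D5658)) (tt N2179 F19217) (tt N2444 (iv F68024)) (tt N1925 F19218) (tt N2447 D7396) (tt N1924 F19219))
theorem Q2181 : ∀ i, i < 2181 → P i := stepQ 2180 Q2180 (allL N2180 (tt N2447 (iv F24800)) (tt N2180 F19226) (tt N2380 (iv F22419)) (tt N2180 F19227) (tt N2441 (iv F68029)) (tt N1928 F19228) (tt N1922 (iv D5661)) (tt N2440 F67893))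
theorem Q2182 : ∀ i, i < 2182 → P i := stepQ 2181 Q2181 (allL N2181 (tt N2181 F19233) (tt N1924 (iv D5663)) (tt N2432 (iv F24535)) (tt N2181 F19234) (tt N2443 (iv F68026)) (tt N1930 F19235) (tt N2442 F67889) (tt N2446 (iv F24796)))
theorem Q2183 : ∀ i, i < 2183 → P i := stepQ 2182 Q2182 (allL N2182 (tt N2182 F19259) (tt N1925 (iv D5671)) (tt N2437 (iv F24559)) (tt N2182 F19260) (tt N2448 D7412) (tt N2446 (iv F24795)) (tt N2449 D7413) (tt N1930 F19261))
theorem Q2184 : ∀ i, i < 2184 → P i := stepQ 2183 Q2183 (allL N2183 (tt N1927 F19262) (tt N2448 (iv F24854)) (tt N1926 F19263) (tt N2450 D7414) (tt N1925 (iv D5672)) (tt N2451 D7415) (tt N2452 D7416) (tt N1931 F19264))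
theorem Q2185 : ∀ i, i < 2185 → P i := stepQ 2184 Q2184 (allL N2184 (tt N1928 F19265) (tt N2449 (iv F24857)) (tt N2384 (iv F22448)) (tt N2184 F19266) (tt N2452 (iv F24867)) (tt N2447 (iv F24802)) (tt N1925 (iv D5673)) (tt N2453 D7417))
theorem Q2186 : ∀ i, i < 2186 → P i := stepQ 2185 Q2185 (allL N2185 (tt N1929 F19267) (tt N1948 (iv F67714)) (tt N2451 (iv F24864)) (tt N1940 F19268) (tt N2445 (iv F67753)) (tt N1926 (iv D5674)) (tt N2385 (iv F22451)) (tt N1933 F19269))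
theorem Q2187 : ∀ i, i < 2187 → P i := stepQ 2186 Q2186 (allL N2186 (tt N2450 (iv F24859)) (tt N2186 F19270) (tt N1941 F19271) (tt N1927 (iv D5675)) (tt N2186 F19272) (tt N2245 F68625) (tt N2244 F68626) (tt N1934 F19273))
theorem Q2188 : ∀ i, i < 2188 → P i := stepQ 2187 Q2187 (allL N2187 (tt N2451 (iv F24863)) (tt N2187 F19274) (tt N1929 F19275) (tt N2245 (iv F68533)) (tt N2436 (iv F67764)) (tt N1927 (iv D5676)) (tt N2243 F68475) (tt N1935 F19276))
theorem Q2189 : ∀ i, i < 2189 → P i := stepQ 2188 Q2188 (allL N2188 (tt N2452 (iv F24866)) (tt N2188 F19277) (tt N2388 (iv F22457)) (tt N2244 (iv F68532)) (tt N1928 F19278) (tt N2243 F68474) (tt N1927 (iv D5677)) (tt N2454 D7421))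
theorem Q2190 : ∀ i, i < 2190 → P i := stepQ 2189 Q2189 (allL N2189 (tt N2453 (iv F24868)) (tt N2189 F19279) (tt N2389 (iv F22459)) (tt N2189 F19280) (tt N2454 (iv F24881)) (tt N2440 F67880) (tt N1937 F19281) (tt N1928 (iv D5678)))
theorem Q2191 : ∀ i, i < 2191 → P i := stepQ 2190 Q2190 (allL N2190 (tt N2190 F19282) (tt N1931 F19283) (tt N2442 (iv F24581)) (tt N2455 D7422) (tt N1930 (iv D5679)) (tt N2456 D7423) (tt N2457 D7424) (tt N2448 (iv F24855)))
theorem Q2192 : ∀ i, i < 2192 → P i := stepQ 2191 Q2191 (allL N2191 (tt N2191 F19284) (tt N1932 F19285) (tt N2456 F67878) (tt N2191 F19286) (tt N2457 (iv F24890)) (tt N2442 F67879) (tt N1930 (iv D5680)) (tt N2458 D7426))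
theorem Q2193 : ∀ i, i < 2193 → P i := stepQ 2192 Q2192 (allL N2192 (tt N1934 F19287) (tt N2455 (iv F24884)) (tt N1944 F19288) (tt N1931 (iv D5681)) (tt N2192 F19289) (tt N2459 D7427) (tt N2460 D7428) (tt N2450 (iv F24862)))
theorem Q2194 : ∀ i, i < 2194 → P i := stepQ 2193 Q2193 (allL N2193 (tt N1935 F19290) (tt N2456 (iv F24887)) (tt N1933 F19291) (tt N2459 (iv F24898)) (tt N2434 (iv F67754)) (tt N1931 (iv D5682)) (tt N2433 (iv F67740)) (tt N2451 (iv F24865)))
theorem Q2195 : ∀ i, i < 2195 → P i := stepQ 2194 Q2194 (allL N2194 (tt N1936 F19292) (tt N2457 (iv F24889)) (tt N1947 F19293) (tt N2460 (iv F24901)) (tt N1932 F19294) (tt N2433 (iv F67739)) (tt N1931 (iv D5683)) (tt N2461 D7430))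
theorem Q2196 : ∀ i, i < 2196 → P i := stepQ 2195 Q2195 (allL N2195 (tt N1937 F19295) (tt N2458 (iv F24894)) (tt N1948 F19296) (tt N2195 F19297) (tt N2461 (iv F24908)) (tt N2438 F67877) (tt N2453 (iv F24870)) (tt N1932 (iv D5684)))
theorem Q2197 : ∀ i, i < 2197 → P i := stepQ 2196 Q2196 (allL N2196 (tt N2459 (iv F24896)) (tt N2196 F19298) (tt N1946 F19299) (tt N1935 F19300) (tt N2246 F68628) (tt N1934 (iv D5685)) (tt N2435 (iv F67745)) (tt N2245 F68629))
theorem Q2198 : ∀ i, i < 2198 → P i := stepQ 2197 Q2197 (allL N2197 (tt N2460 (iv F24899)) (tt N2197 F19301) (tt N2197 F19302) (tt N1936 F19303) (tt N2197 F19304) (tt N2435 (iv F67744)) (tt N1934 (iv D5686)) (tt N2462 D7433))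
theorem Q2199 : ∀ i, i < 2199 → P i := stepQ 2198 Q2198 (allL N2198 (tt N2461 (iv F24906)) (tt N2198 F19308) (tt N1949 F19309) (tt N2462 (iv F24918)) (tt N1937 F19310) (tt N2430 (iv F67743)) (tt N2454 (iv F24882)) (tt N1936 (iv D5688)))
theorem Q2200 : ∀ i, i < 2200 → P i := stepQ 2199 Q2199 (allL N2199 (tt N1941 F19319) (tt N2199 F68244) (tt N2450 (iv F24860)) (tt N1938 (iv D5691)) (tt N2199 F19320) (tt N2262 F68826) (tt N2261 (iv F68926)) (tt N1944 F19321))
theorem Q2201 : ∀ i, i < 2201 → P i := stepQ 2200 Q2200 (allL N2200 (tt N1942 F19322) (tt N2200 F68100) (tt N1940 F19323) (tt N2262 F68829) (tt N2200 F19324) (tt N1938 (iv D5692)) (tt N2260 (iv F68927)) (tt N1945 F19325))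
theorem Q2202 : ∀ i, i < 2202 → P i := stepQ 2201 Q2201 (allL N2201 (tt N1943 F19326) (tt N2201 F68245) (tt N2403 (iv F22494)) (tt N2261 F69067) (tt N1939 F19327) (tt N2260 F69068) (tt N1938 (iv D5693)) (tt N2201 F19328))
theorem Q2203 : ∀ i, i < 2203 → P i := stepQ 2202 Q2202 (allL N2202 (tt N1946 F19348) (tt N2202 F68099) (tt N2459 (iv F24897)) (tt N1945 F19349) (tt N2263 F68830) (tt N1944 (iv D5699)) (tt N2202 F19350) (tt N2262 F68831))
theorem Q2204 : ∀ i, i < 2204 → P i := stepQ 2203 Q2203 (allL N2203 (tt N1949 F19398) (tt N2445 F67690) (tt N2461 (iv F24907)) (tt N2203 F19399) (tt N1948 F19400) (tt N2429 (iv F67738)) (tt N2406 (iv F22575)) (tt N1947 (iv D5716)))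
theorem Q2205 : ∀ i, i < 2205 → P i := stepQ 2204 Q2204 (allL N2204 (tt N1951 F21136) (tt N2053 F21137) (tt N2463 D8126) (tt N1950 (iv D6237)) (tt N2464 D8127) (tt N2093 F69578) (tt N2204 F21138) (tt N2089 F69579))
theorem Q2206 : ∀ i, i < 2206 → P i := stepQ 2205 Q2205 (allL N2205 (tt N2463 (iv F27235)) (tt N2103 F69421) (tt N1951 (iv D6238)) (tt N1970 F21139) (tt N2465 D8128) (tt N2094 F69422) (tt N2466 D8129) (tt N2090 F69423))
theorem Q2207 : ∀ i, i < 2207 → P i := stepQ 2206 Q2206 (allL N2206 (tt N2464 (iv F27237)) (tt N1952 F21140) (tt N2465 (iv F27241)) (tt N1958 F21141) (tt N1951 (iv D6239)) (tt N2467 D8130) (tt N2206 F21142) (tt N2091 F69390))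
theorem Q2208 : ∀ i, i < 2208 → P i := stepQ 2207 Q2207 (allL N2207 (tt N2056 F21143) (tt N2467 (iv F27244)) (tt N2104 F69180) (tt N1959 F21144) (tt N2096 F69181) (tt N1952 (iv D6240)) (tt N2207 F21145) (tt N2092 F69182))
theorem Q2209 : ∀ i, i < 2209 → P i := stepQ 2208 Q2208 (allL N2208 (tt N1954 F21176) (tt N2060 F21177) (tt N2468 D8141) (tt N1953 (iv D6248)) (tt N2469 D8142) (tt N2208 F21178) (tt N2147 (iv F69729)) (tt N1956 F21179))
theorem Q2210 : ∀ i, i < 2210 → P i := stepQ 2209 Q2209 (allL N2209 (tt N2468 (iv F27287)) (tt N2209 F21180) (tt N1954 (iv D6249)) (tt N1974 F21181) (tt N2470 D8143) (tt N2209 F21182) (tt N2471 D8144) (tt N1957 F21183))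
theorem Q2211 : ∀ i, i < 2211 → P i := stepQ 2210 Q2210 (allL N2210 (tt N2469 (iv F27291)) (tt N1955 F21184) (tt N2470 (iv F27295)) (tt N2091 F69389) (tt N1954 (iv D6250)) (tt N2472 D8145) (tt N2139 (iv F69525)) (tt N1958 F21185))
theorem Q2212 : ∀ i, i < 2212 → P i := stepQ 2211 Q2211 (allL N2211 (tt N2063 F21186) (tt N2472 (iv F27300)) (tt N2211 F21187) (tt N2092 F69179) (tt N2211 F21188) (tt N1955 (iv D6251)) (tt N2141 (iv F69237)) (tt N1959 F21189))
theorem Q2213 : ∀ i, i < 2213 → P i := stepQ 2212 Q2212 (allL N2212 (tt N1957 F21190) (tt N2473 D8146) (tt N1956 (iv D6252)) (tt N1977 F21191) (tt N2474 D8147) (tt N2212 F21192) (tt N2475 D8148) (tt N2468 (iv F27290)))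
theorem Q2214 : ∀ i, i < 2214 → P i := stepQ 2213 Q2213 (allL N2213 (tt N1958 F21193) (tt N2065 F21194) (tt N2474 (iv F27308)) (tt N2464 (iv F27239)) (tt N1956 (iv D6253)) (tt N2476 D8149) (tt N2213 F21195) (tt N2469 (iv F27293)))
theorem Q2215 : ∀ i, i < 2215 → P i := stepQ 2214 Q2214 (allL N2214 (tt N2474 (iv F27307)) (tt N2214 F21196) (tt N1958 F21197) (tt N2477 D8150) (tt N1957 (iv D6254)) (tt N2478 D8151) (tt N2479 D8152) (tt N2470 (iv F27296)))
theorem Q2216 : ∀ i, i < 2216 → P i := stepQ 2215 Q2215 (allL N2215 (tt N2475 (iv F27309)) (tt N2215 F21198) (tt N2215 F21199) (tt N1980 F21200) (tt N2479 (iv F27324)) (tt N2215 F21201) (tt N1957 (iv D6255)) (tt N2480 D8153))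
theorem Q2217 : ∀ i, i < 2217 → P i := stepQ 2216 Q2216 (allL N2216 (tt N2476 (iv F27313)) (tt N1959 F21202) (tt N2478 (iv F27320)) (tt N2467 (iv F27245)) (tt N2216 F21203) (tt N1958 (iv D6256)) (tt N2216 F21204) (tt N2472 (iv F27302)))
theorem Q2218 : ∀ i, i < 2218 → P i := stepQ 2217 Q2217 (allL N2217 (tt N1961 F21277) (tt N1998 F21278) (tt N2481 D8183) (tt N1960 (iv D6277)) (tt N2482 D8184) (tt N2006 F69595) (tt N2217 F21279) (tt N2002 F69596))
theorem Q2219 : ∀ i, i < 2219 → P i := stepQ 2218 Q2218 (allL N2218 (tt N2481 (iv F27433)) (tt N1970 F21280) (tt N1961 (iv D6278)) (tt N2103 F69426) (tt N2483 D8185) (tt N2007 F69427) (tt N2484 D8186) (tt N2003 F69428))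
theorem Q2220 : ∀ i, i < 2220 → P i := stepQ 2219 Q2219 (allL N2219 (tt N2482 (iv F27434)) (tt N1962 F21281) (tt N2483 (iv F27439)) (tt N2219 F21282) (tt N1961 (iv D6279)) (tt N2485 D8187) (tt N2219 F21283) (tt N2004 (iv F69552)))
theorem Q2221 : ∀ i, i < 2221 → P i := stepQ 2220 Q2220 (allL N2220 (tt N2001 F21284) (tt N2485 (iv F27442)) (tt N1972 F21285) (tt N2220 F21286) (tt N2009 F69698) (tt N1962 (iv D6280)) (tt N2220 F21287) (tt N2005 F69699))
theorem Q2222 : ∀ i, i < 2222 → P i := stepQ 2221 Q2221 (allL N2221 (tt N1964 F21301) (tt N2002 F21302) (tt N2486 D8192) (tt N1963 (iv D6284)) (tt N2487 D8193) (tt N1969 F21303) (tt N1982 F21304) (tt N1998 F69591))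
theorem Q2223 : ∀ i, i < 2223 → P i := stepQ 2222 Q2222 (allL N2222 (tt N2486 (iv F27461)) (tt N2007 F69431) (tt N1964 (iv D6285)) (tt N2094 F69432) (tt N2488 D8194) (tt N1970 F21305) (tt N2489 D8195) (tt N1999 F69433))
theorem Q2224 : ∀ i, i < 2224 → P i := stepQ 2223 Q2223 (allL N2223 (tt N2487 (iv F27463)) (tt N1965 F21306) (tt N2488 (iv F27467)) (tt N2223 F21307) (tt N1964 (iv D6286)) (tt N2490 D8196) (tt N1984 F21308) (tt N2000 F69688))
theorem Q2225 : ∀ i, i < 2225 → P i := stepQ 2224 Q2224 (allL N2224 (tt N2005 F21309) (tt N2490 (iv F27470)) (tt N2009 F69700) (tt N2224 F21310) (tt N1972 F21311) (tt N1965 (iv D6287)) (tt N1985 F21312) (tt N2001 F69701))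
theorem Q2226 : ∀ i, i < 2226 → P i := stepQ 2225 Q2225 (allL N2225 (tt N1967 F21313) (tt N2006 F21314) (tt N2491 D8197) (tt N1966 (iv D6288)) (tt N2492 D8198) (tt N1998 F69623) (tt N2225 F21315) (tt N1969 F21316))
theorem Q2227 : ∀ i, i < 2227 → P i := stepQ 2226 Q2226 (allL N2226 (tt N2491 (iv F27474)) (tt N2003 F69418) (tt N1967 (iv D6289)) (tt N2090 F69419) (tt N2493 D8199) (tt N1999 F69420) (tt N2494 D8200) (tt N1970 F21317))
theorem Q2228 : ∀ i, i < 2228 → P i := stepQ 2227 Q2227 (allL N2227 (tt N2492 (iv F27476)) (tt N1968 F21318) (tt N2493 (iv F27481)) (tt N1975 F21319) (tt N1967 (iv D6290)) (tt N2495 D8201) (tt N2227 F21320) (tt N1971 F21321))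
theorem Q2229 : ∀ i, i < 2229 → P i := stepQ 2228 Q2228 (allL N2228 (tt N2009 F21322) (tt N2495 (iv F27484)) (tt N2005 (iv F69573)) (tt N1976 F21323) (tt N2001 (iv F69575)) (tt N1968 (iv D6291)) (tt N2228 F21324) (tt N1972 F21325))
theorem Q2230 : ∀ i, i < 2230 → P i := stepQ 2229 Q2229 (allL N2229 (tt N1970 F21326) (tt N2496 D8202) (tt N1969 (iv D6292)) (tt N2463 (iv F27236)) (tt N2497 D8203) (tt N2486 (iv F27462)) (tt N2498 D8204) (tt N2491 (iv F27475)))
theorem Q2231 : ∀ i, i < 2231 → P i := stepQ 2230 Q2230 (allL N2230 (tt N1971 F21327) (tt N2011 F21328) (tt N2497 (iv F27490)) (tt N1978 F21329) (tt N1969 (iv D6293)) (tt N2499 D8205) (tt N1987 F21330) (tt N2492 (iv F27480)))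
theorem Q2232 : ∀ i, i < 2232 → P i := stepQ 2231 Q2231 (allL N2231 (tt N2497 (iv F27489)) (tt N2483 (iv F27438)) (tt N1971 F21331) (tt N2500 D8206) (tt N1970 (iv D6294)) (tt N2501 D8207) (tt N2502 D8208) (tt N2493 (iv F27482)))
theorem Q2233 : ∀ i, i < 2233 → P i := stepQ 2232 Q2232 (allL N2232 (tt N2498 (iv F27491)) (tt N2484 (iv F27440)) (tt N1989 F21332) (tt N2466 (iv F27243)) (tt N2502 (iv F27500)) (tt N2489 (iv F27469)) (tt N1970 (iv D6295)) (tt N2503 D8209))
theorem Q2234 : ∀ i, i < 2234 → P i := stepQ 2233 Q2233 (allL N2233 (tt N2499 (iv F27493)) (tt N1972 F21333) (tt N2501 (iv F27498)) (tt N1981 F21334) (tt N2490 (iv F27472)) (tt N1971 (iv D6296)) (tt N1990 F21335) (tt N2495 (iv F27487)))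
theorem Q2235 : ∀ i, i < 2235 → P i := stepQ 2234 Q2234 (allL N2234 (tt N1974 F21336) (tt N2504 D8210) (tt N1973 (iv D6297)) (tt N2468 (iv F27288)) (tt N2505 D8211) (tt N2234 F21337) (tt N2506 D8212) (tt N1977 F21338))
theorem Q2236 : ∀ i, i < 2236 → P i := stepQ 2235 Q2235 (allL N2235 (tt N1975 F21339) (tt N2016 F21340) (tt N2505 (iv F27507)) (tt N2492 (iv F27478)) (tt N1973 (iv D6298)) (tt N2507 D8213) (tt N2235 F21341) (tt N1978 F21342))
theorem Q2237 : ∀ i, i < 2237 → P i := stepQ 2236 Q2236 (allL N2236 (tt N2505 (iv F27506)) (tt N2236 F21343) (tt N1975 F21344) (tt N2508 D8214) (tt N1974 (iv D6299)) (tt N2509 D8215) (tt N2510 D8216) (tt N1979 F21345))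
theorem Q2238 : ∀ i, i < 2238 → P i := stepQ 2237 Q2237 (allL N2237 (tt N2506 (iv F27509)) (tt N2237 F21346) (tt N2237 F21347) (tt N2471 (iv F27298)) (tt N2510 (iv F27525)) (tt N2237 F21348) (tt N1974 (iv D6300)) (tt N2511 D8217))
theorem Q2239 : ∀ i, i < 2239 → P i := stepQ 2238 Q2238 (allL N2238 (tt N2507 (iv F27512)) (tt N1976 F21349) (tt N2509 (iv F27520)) (tt N2495 (iv F27485)) (tt N2238 F21350) (tt N1975 (iv D6301)) (tt N2238 F21351) (tt N1981 F21352))
theorem Q2240 : ∀ i, i < 2240 → P i := stepQ 2239 Q2239 (allL N2239 (tt N2239 F21353) (tt N1977 (iv D6302)) (tt N2020 F21354) (tt N2473 (iv F27305)) (tt N2512 D8218) (tt N2239 F21355) (tt N2513 D8219) (tt N2504 (iv F27505)))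
theorem Q2241 : ∀ i, i < 2241 → P i := stepQ 2240 Q2240 (allL N2240 (tt N1979 F21356) (tt N2512 (iv F27531)) (tt N1978 F21357) (tt N2514 D8220) (tt N1977 (iv D6303)) (tt N2515 D8221) (tt N2516 D8222) (tt N2505 (iv F27508)))
theorem Q2242 : ∀ i, i < 2242 → P i := stepQ 2241 Q2241 (allL N2241 (tt N1980 F21358) (tt N2513 (iv F27534)) (tt N1992 F21359) (tt N2475 (iv F27311)) (tt N2516 (iv F27543)) (tt N2241 F21360) (tt N1977 (iv D6304)) (tt N2517 D8223))
theorem Q2243 : ∀ i, i < 2243 → P i := stepQ 2242 Q2242 (allL N2242 (tt N1981 F21361) (tt N2022 F21362) (tt N2515 (iv F27539)) (tt N2499 (iv F27495)) (tt N2242 F21363) (tt N1978 (iv D6305)) (tt N1993 F21364) (tt N2507 (iv F27516)))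
theorem Q2244 : ∀ i, i < 2244 → P i := stepQ 2243 Q2243 (allL N2243 (tt N2514 (iv F27537)) (tt N2243 F21365) (tt N2500 (iv F27497)) (tt N1979 (iv D6306)) (tt N2477 (iv F27318)) (tt N2188 (iv F68474)) (tt N2187 (iv F68475)) (tt N2508 (iv F27518)))
theorem Q2245 : ∀ i, i < 2245 → P i := stepQ 2244 Q2244 (allL N2244 (tt N2515 (iv F27538)) (tt N2244 F21366) (tt N1981 F21367) (tt N2188 F68532) (tt N2244 F21368) (tt N1979 (iv D6307)) (tt N2186 (iv F68626)) (tt N2509 (iv F27522)))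
theorem Q2246 : ∀ i, i < 2246 → P i := stepQ 2245 Q2245 (allL N2245 (tt N2516 (iv F27541)) (tt N2245 F21369) (tt N1996 F21370) (tt N2187 F68533) (tt N1980 F21371) (tt N2186 (iv F68625)) (tt N1979 (iv D6308)) (tt N2196 (iv F68629)))
theorem Q2247 : ∀ i, i < 2247 → P i := stepQ 2246 Q2246 (allL N2246 (tt N2517 (iv F27544)) (tt N2246 F21372) (tt N1997 F21373) (tt N2480 (iv F27327)) (tt N2196 (iv F68628)) (tt N2246 F21374) (tt N2511 (iv F27529)) (tt N1980 (iv D6309)))
theorem Q2248 : ∀ i, i < 2248 → P i := stepQ 2247 Q2247 (allL N2247 (tt N1983 F21375) (tt N2518 D8228) (tt N1982 (iv D6310)) (tt N2247 F21376) (tt N2519 D8229) (tt N1986 F21377) (tt N2520 D8230) (tt N2247 F21378))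
theorem Q2249 : ∀ i, i < 2249 → P i := stepQ 2248 Q2248 (allL N2248 (tt N1984 F21379) (tt N2026 F21380) (tt N2519 (iv F27564)) (tt N2248 F21381) (tt N1982 (iv D6311)) (tt N2521 D8231) (tt N2487 (iv F27466)) (tt N2248 F21382))
theorem Q2250 : ∀ i, i < 2250 → P i := stepQ 2249 Q2249 (allL N2249 (tt N2519 (iv F27563)) (tt N2249 F21383) (tt N1984 F21384) (tt N2522 D8232) (tt N1983 (iv D6312)) (tt N2523 D8233) (tt N2524 D8234) (tt N2249 F21385))
theorem Q2251 : ∀ i, i < 2251 → P i := stepQ 2250 Q2250 (allL N2250 (tt N2520 (iv F27566)) (tt N2250 F21386) (tt N2489 (iv F27468)) (tt N2250 F21387) (tt N2524 (iv F27583)) (tt N1989 F21388) (tt N1983 (iv D6313)) (tt N2525 D8235))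
theorem Q2252 : ∀ i, i < 2252 → P i := stepQ 2251 Q2251 (allL N2251 (tt N2521 (iv F27569)) (tt N1985 F21389) (tt N2523 (iv F27579)) (tt N2251 F21390) (tt N1990 F21391) (tt N1984 (iv D6314)) (tt N2490 (iv F27473)) (tt N2251 F21392))
theorem Q2253 : ∀ i, i < 2253 → P i := stepQ 2252 Q2252 (allL N2252 (tt N2252 F21393) (tt N1986 (iv D6315)) (tt N2030 F21394) (tt N2252 F21395) (tt N2526 D8236) (tt N2518 (iv F27561)) (tt N2527 D8237) (tt N2252 F21396))
theorem Q2254 : ∀ i, i < 2254 → P i := stepQ 2253 Q2253 (allL N2253 (tt N1988 F21397) (tt N2526 (iv F27589)) (tt N1987 F21398) (tt N2528 D8238) (tt N1986 (iv D6316)) (tt N2529 D8239) (tt N2530 D8240) (tt N2253 F21399))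
theorem Q2255 : ∀ i, i < 2255 → P i := stepQ 2254 Q2254 (allL N2254 (tt N1989 F21400) (tt N2527 (iv F27593)) (tt N2498 (iv F27492)) (tt N2254 F21401) (tt N2530 (iv F27603)) (tt N2520 (iv F27568)) (tt N1986 (iv D6317)) (tt N2531 D8241))
theorem Q2256 : ∀ i, i < 2256 → P i := stepQ 2255 Q2255 (allL N2255 (tt N1990 F21402) (tt N2033 F21403) (tt N2529 (iv F27600)) (tt N1993 F21404) (tt N2521 (iv F27572)) (tt N1987 (iv D6318)) (tt N2499 (iv F27496)) (tt N2255 F21405))
theorem Q2257 : ∀ i, i < 2257 → P i := stepQ 2256 Q2256 (allL N2256 (tt N2528 (iv F27595)) (tt N2256 F21406) (tt N1994 F21407) (tt N1988 (iv D6319)) (tt N2256 F21408) (tt N2125 (iv F69071)) (tt N2124 F68953) (tt N2256 F21409))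
theorem Q2258 : ∀ i, i < 2258 → P i := stepQ 2257 Q2257 (allL N2257 (tt N2529 (iv F27599)) (tt N2257 F21410) (tt N1990 F21411) (tt N2125 (iv F69070)) (tt N2523 (iv F27580)) (tt N1988 (iv D6320)) (tt N2123 F68952) (tt N2257 F21412))
theorem Q2259 : ∀ i, i < 2259 → P i := stepQ 2258 Q2258 (allL N2258 (tt N2530 (iv F27602)) (tt N2258 F21413) (tt N2502 (iv F27499)) (tt N2124 (iv F68850)) (tt N1989 F21414) (tt N2123 (iv F68847)) (tt N1988 (iv D6321)) (tt N2129 (iv F68852)))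
theorem Q2260 : ∀ i, i < 2260 → P i := stepQ 2259 Q2259 (allL N2259 (tt N2531 (iv F27604)) (tt N2259 F21415) (tt N2503 (iv F27501)) (tt N2259 F21416) (tt N2129 (iv F68851)) (tt N2525 (iv F27586)) (tt N2259 F21417) (tt N1989 (iv D6322)))
theorem Q2261 : ∀ i, i < 2261 → P i := stepQ 2260 Q2260 (allL N2260 (tt N1994 F21418) (tt N2260 F21419) (tt N2528 (iv F27596)) (tt N1991 (iv D6323)) (tt N2260 F21420) (tt N2201 (iv F69068)) (tt N2200 F68927) (tt N2260 F21421))
theorem Q2262 : ∀ i, i < 2262 → P i := stepQ 2261 Q2261 (allL N2261 (tt N1995 F21422) (tt N2261 F21423) (tt N1993 F21424) (tt N2201 (iv F69067)) (tt N2261 F21425) (tt N1991 (iv D6324)) (tt N2199 F68926) (tt N2261 F21426))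
theorem Q2263 : ∀ i, i < 2263 → P i := stepQ 2262 Q2262 (allL N2262 (tt N1996 F21427) (tt N2262 F21428) (tt N2516 (iv F27542)) (tt N2200 (iv F68829)) (tt N1992 F21429) (tt N2199 (iv F68826)) (tt N1991 (iv D6325)) (tt N2202 (iv F68831)))
theorem Q2264 : ∀ i, i < 2264 → P i := stepQ 2263 Q2263 (allL N2263 (tt N1997 F21430) (tt N2263 F21431) (tt N2517 (iv F27545)) (tt N2263 F21432) (tt N2202 (iv F68830)) (tt N2263 F21433) (tt N2263 F21434) (tt N1992 (iv D6326)))
theorem Q2265 : ∀ i, i < 2265 → P i := stepQ 2264 Q2264 (allL N2264 (tt N1999 F21543) (tt N2532 D8291) (tt N1998 (iv D6359)) (tt N2097 F21544) (tt N2533 D8292) (tt N2491 (iv F69512)) (tt N2534 D8293) (tt N2486 (iv F69557)))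
theorem Q2266 : ∀ i, i < 2266 → P i := stepQ 2265 Q2265 (allL N2265 (tt N2000 F21545) (tt N2482 (iv F27435)) (tt N2533 (iv F27773)) (tt N2265 F21546) (tt N1998 (iv D6360)) (tt N2535 D8294) (tt N2265 F21547) (tt N2487 (iv F69711)))
theorem Q2267 : ∀ i, i < 2267 → P i := stepQ 2266 Q2266 (allL N2266 (tt N2533 (iv F27772)) (tt N2012 F21548) (tt N2000 F21549) (tt N2536 D8295) (tt N1999 (iv D6361)) (tt N2537 D8296) (tt N2538 D8297) (tt N2488 (iv F69560)))
theorem Q2268 : ∀ i, i < 2268 → P i := stepQ 2267 Q2267 (allL N2267 (tt N2534 (iv F27774)) (tt N2013 F21550) (tt N2267 F21551) (tt N2100 F21552) (tt N2538 (iv F27787)) (tt N2494 (iv F69270)) (tt N1999 (iv D6362)) (tt N2539 D8298))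
theorem Q2269 : ∀ i, i < 2269 → P i := stepQ 2268 Q2268 (allL N2268 (tt N2535 (iv F27777)) (tt N2001 F21553) (tt N2537 (iv F27784)) (tt N2268 F21554) (tt N2495 F69461) (tt N2000 (iv D6363)) (tt N2268 F21555) (tt N2490 (iv F69574)))
theorem Q2270 : ∀ i, i < 2270 → P i := stepQ 2269 Q2269 (allL N2269 (tt N2003 F21571) (tt N2540 D8304) (tt N2002 (iv D6368)) (tt N2105 F21572) (tt N2541 D8305) (tt N2010 F21573) (tt N2542 D8306) (tt N2481 (iv F69485)))
theorem Q2271 : ∀ i, i < 2271 → P i := stepQ 2270 Q2270 (allL N2270 (tt N2004 F21574) (tt N2487 (iv F27464)) (tt N2541 (iv F27812)) (tt N2270 F21575) (tt N2002 (iv D6369)) (tt N2543 D8307) (tt N2026 F21576) (tt N2482 F69594))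
theorem Q2272 : ∀ i, i < 2272 → P i := stepQ 2271 Q2271 (allL N2271 (tt N2541 (iv F27811)) (tt N2493 F69424) (tt N2004 F21577) (tt N2544 D8308) (tt N2003 (iv D6370)) (tt N2545 D8309) (tt N2546 D8310) (tt N2483 F69425))
theorem Q2273 : ∀ i, i < 2273 → P i := stepQ 2272 Q2272 (allL N2272 (tt N2542 (iv F27813)) (tt N2494 (iv F69268)) (tt N2028 F21578) (tt N2079 F67453) (tt N2546 (iv F27826)) (tt N2013 F21580) (tt N2003 (iv D6371)) (tt N2547 D8311))
theorem Q2274 : ∀ i, i < 2274 → P i := stepQ 2273 Q2273 (allL N2273 (tt N2543 (iv F27817)) (tt N2005 F21581) (tt N2545 (iv F27823)) (tt N2273 F21582) (tt N2014 F21583) (tt N2004 (iv D6372)) (tt N2029 F21584) (tt N2485 (iv F69572)))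
theorem Q2275 : ∀ i, i < 2275 → P i := stepQ 2274 Q2274 (allL N2274 (tt N2007 F21585) (tt N2548 D8312) (tt N2006 (iv D6373)) (tt N2106 F21586) (tt N2549 D8313) (tt N2481 (iv F69484)) (tt N2550 D8314) (tt N2010 F21587))
theorem Q2276 : ∀ i, i < 2276 → P i := stepQ 2275 Q2275 (allL N2275 (tt N2008 F21588) (tt N2492 (iv F27477)) (tt N2549 (iv F27833)) (tt N2016 F21589) (tt N2006 (iv D6374)) (tt N2551 D8315) (tt N2275 F21590) (tt N2011 F21591))
theorem Q2277 : ∀ i, i < 2277 → P i := stepQ 2276 Q2276 (allL N2276 (tt N2549 (iv F27832)) (tt N2488 (iv F69559)) (tt N2008 F21592) (tt N2552 D8316) (tt N2007 (iv D6375)) (tt N2553 D8317) (tt N2554 D8318) (tt N2012 F21593))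
theorem Q2278 : ∀ i, i < 2278 → P i := stepQ 2277 Q2277 (allL N2277 (tt N2550 (iv F27835)) (tt N2489 F69436) (tt N2277 F21594) (tt N2109 F21595) (tt N2554 (iv F27848)) (tt N2484 F69437) (tt N2007 (iv D6376)) (tt N2555 D8319))
theorem Q2279 : ∀ i, i < 2279 → P i := stepQ 2278 Q2278 (allL N2278 (tt N2551 (iv F27838)) (tt N2009 F21596) (tt N2553 (iv F27845)) (tt N2019 F21597) (tt N2485 F69636) (tt N2008 (iv D6377)) (tt N2278 F21598) (tt N2014 F21599))
theorem Q2280 : ∀ i, i < 2280 → P i := stepQ 2279 Q2279 (allL N2279 (tt N2532 (iv F27770)) (tt N2010 (iv D6378)) (tt N2496 (iv F27488)) (tt N2111 F21600) (tt N2556 D8320) (tt N2540 (iv F27810)) (tt N2557 D8321) (tt N2548 (iv F27831)))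
theorem Q2281 : ∀ i, i < 2281 → P i := stepQ 2280 Q2280 (allL N2280 (tt N2012 F21601) (tt N2556 (iv F27852)) (tt N2011 F21602) (tt N2558 D8322) (tt N2010 (iv D6379)) (tt N2559 D8323) (tt N2560 D8324) (tt N2549 (iv F27834)))
theorem Q2282 : ∀ i, i < 2282 → P i := stepQ 2281 Q2281 (allL N2281 (tt N2013 F21603) (tt N2557 (iv F27853)) (tt N2032 F21604) (tt N2113 F21605) (tt N2560 (iv F27862)) (tt N2542 (iv F27816)) (tt N2010 (iv D6380)) (tt N2561 D8325))
theorem Q2283 : ∀ i, i < 2283 → P i := stepQ 2282 Q2282 (allL N2282 (tt N2014 F21606) (tt N2499 (iv F27494)) (tt N2559 (iv F27859)) (tt N2022 F21607) (tt N2543 (iv F27819)) (tt N2011 (iv D6381)) (tt N2033 F21608) (tt N2551 (iv F27841)))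
theorem Q2284 : ∀ i, i < 2284 → P i := stepQ 2283 Q2283 (allL N2283 (tt N2558 (iv F27855)) (tt N2536 (iv F27780)) (tt N2023 F21609) (tt N2012 (iv D6382)) (tt N2115 F21610) (tt N2562 D8326) (tt N2563 D8327) (tt N2552 (iv F27844)))
theorem Q2285 : ∀ i, i < 2285 → P i := stepQ 2284 Q2284 (allL N2284 (tt N2559 (iv F27858)) (tt N2537 (iv F27783)) (tt N2014 F21611) (tt N2562 (iv F27867)) (tt N2545 (iv F27824)) (tt N2012 (iv D6383)) (tt N2564 D8328) (tt N2553 (iv F27846)))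
theorem Q2286 : ∀ i, i < 2286 → P i := stepQ 2285 Q2285 (allL N2285 (tt N2560 (iv F27860)) (tt N2538 (iv F27785)) (tt N2035 F21612) (tt N2563 (iv F27869)) (tt N2013 F21613) (tt N2564 (iv F27872)) (tt N2012 (iv D6384)) (tt N2565 D8329))
theorem Q2287 : ∀ i, i < 2287 → P i := stepQ 2286 Q2286 (allL N2286 (tt N2561 (iv F27863)) (tt N2539 (iv F27788)) (tt N2036 F21614) (tt N2118 F21615) (tt N2565 (iv F27874)) (tt N2547 (iv F27829)) (tt N2555 (iv F27851)) (tt N2013 (iv D6385)))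
theorem Q2288 : ∀ i, i < 2288 → P i := stepQ 2287 Q2287 (allL N2287 (tt N2287 F21616) (tt N2015 (iv D6386)) (tt N2504 (iv F27503)) (tt N2119 F21617) (tt N2566 D8330) (tt N2287 F21618) (tt N2567 D8331) (tt N2020 F21619))
theorem Q2289 : ∀ i, i < 2289 → P i := stepQ 2288 Q2288 (allL N2288 (tt N2017 F21620) (tt N2566 (iv F27876)) (tt N2016 F21621) (tt N2568 D8332) (tt N2015 (iv D6387)) (tt N2569 D8333) (tt N2570 D8334) (tt N2021 F21622))
theorem Q2290 : ∀ i, i < 2290 → P i := stepQ 2289 Q2289 (allL N2289 (tt N2018 F21623) (tt N2567 (iv F27879)) (tt N2289 F21624) (tt N2121 F21625) (tt N2570 (iv F27892)) (tt N2289 F21626) (tt N2015 (iv D6388)) (tt N2289 F21627))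
theorem Q2291 : ∀ i, i < 2291 → P i := stepQ 2290 Q2290 (allL N2290 (tt N2019 F21628) (tt N2507 (iv F27513)) (tt N2569 (iv F27887)) (tt N2551 (iv F27839)) (tt N2290 F21629) (tt N2016 (iv D6389)) (tt N2290 F21630) (tt N2022 F21631))
theorem Q2292 : ∀ i, i < 2292 → P i := stepQ 2291 Q2291 (allL N2291 (tt N2568 (iv F27883)) (tt N2291 F21632) (tt N2552 (iv F27842)) (tt N2017 (iv D6390)) (tt N2123 F21633) (tt N2524 F68956) (tt N2523 (iv F69069)) (tt N2023 F21634))
theorem Q2293 : ∀ i, i < 2293 → P i := stepQ 2292 Q2292 (allL N2292 (tt N2569 (iv F27886)) (tt N2292 F21635) (tt N2019 F21636) (tt N2524 F69016) (tt N2292 F21637) (tt N2017 (iv D6391)) (tt N2522 (iv F69077)) (tt N2024 F21638))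
theorem Q2294 : ∀ i, i < 2294 → P i := stepQ 2293 Q2293 (allL N2293 (tt N2570 (iv F27890)) (tt N2293 F21639) (tt N2293 F21640) (tt N2523 F69097) (tt N2018 F21641) (tt N2522 F69098) (tt N2017 (iv D6392)) (tt N2293 F21642))
theorem Q2295 : ∀ i, i < 2295 → P i := stepQ 2294 Q2294 (allL N2294 (tt N2294 F21643) (tt N2021 F21644) (tt N2512 (iv F27532)) (tt N2571 D8338) (tt N2020 (iv D6393)) (tt N2572 D8339) (tt N2294 F21645) (tt N2566 (iv F27877)))
theorem Q2296 : ∀ i, i < 2296 → P i := stepQ 2295 Q2295 (allL N2295 (tt N2023 F21646) (tt N2571 (iv F27907)) (tt N2558 (iv F27856)) (tt N2021 (iv D6394)) (tt N2127 F21647) (tt N2573 D8340) (tt N2295 F21648) (tt N2568 (iv F27885)))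
theorem Q2297 : ∀ i, i < 2297 → P i := stepQ 2296 Q2296 (allL N2296 (tt N2024 F21649) (tt N2572 (iv F27911)) (tt N2022 F21650) (tt N2573 (iv F27915)) (tt N2296 F21651) (tt N2021 (iv D6395)) (tt N2296 F21652) (tt N2569 (iv F27889)))
theorem Q2298 : ∀ i, i < 2298 → P i := stepQ 2297 Q2297 (allL N2297 (tt N2573 (iv F27914)) (tt N2297 F21653) (tt N2562 (iv F27866)) (tt N2024 F21654) (tt N2525 F69017) (tt N2023 (iv D6396)) (tt N2297 F21655) (tt N2524 F69018))
theorem Q2299 : ∀ i, i < 2299 → P i := stepQ 2298 Q2298 (allL N2298 (tt N2298 F21656) (tt N2025 (iv D6397)) (tt N2518 (iv F27559)) (tt N2037 F21657) (tt N2574 D8342) (tt N2030 F21658) (tt N2575 D8343) (tt N2298 F21659))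
theorem Q2300 : ∀ i, i < 2300 → P i := stepQ 2299 Q2299 (allL N2299 (tt N2027 F21660) (tt N2574 (iv F27922)) (tt N2026 F21661) (tt N2576 D8344) (tt N2025 (iv D6398)) (tt N2577 D8345) (tt N2578 D8346) (tt N2299 F21662))
theorem Q2301 : ∀ i, i < 2301 → P i := stepQ 2300 Q2300 (allL N2300 (tt N2028 F21663) (tt N2575 (iv F27925)) (tt N2542 (iv F27814)) (tt N2039 F21664) (tt N2578 (iv F27937)) (tt N2032 F21665) (tt N2025 (iv D6399)) (tt N2579 D8347))
theorem Q2302 : ∀ i, i < 2302 → P i := stepQ 2301 Q2301 (allL N2301 (tt N2029 F21666) (tt N2521 (iv F27570)) (tt N2577 (iv F27933)) (tt N2301 F21667) (tt N2033 F21668) (tt N2026 (iv D6400)) (tt N2543 (iv F27820)) (tt N2301 F21669))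
theorem Q2303 : ∀ i, i < 2303 → P i := stepQ 2302 Q2302 (allL N2302 (tt N2576 (iv F27928)) (tt N2302 F21670) (tt N2302 F21671) (tt N2027 (iv D6401)) (tt N2040 F21672) (tt N2580 D8348) (tt N2066 F67971) (tt N2302 F21673))
theorem Q2304 : ∀ i, i < 2304 → P i := stepQ 2303 Q2303 (allL N2303 (tt N2577 (iv F27932)) (tt N2303 F21674) (tt N2029 F21675) (tt N2580 (iv F27944)) (tt N2034 F21676) (tt N2027 (iv D6402)) (tt N2581 D8350) (tt N2303 F21677))
theorem Q2305 : ∀ i, i < 2305 → P i := stepQ 2304 Q2304 (allL N2304 (tt N2578 (iv F27936)) (tt N2304 F21678) (tt N2546 (iv F27825)) (tt N2066 (iv F67849)) (tt N2028 F21679) (tt N2581 (iv F27952)) (tt N2027 (iv D6403)) (tt N2582 D8351))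
theorem Q2306 : ∀ i, i < 2306 → P i := stepQ 2305 Q2305 (allL N2305 (tt N2579 (iv F27938)) (tt N2305 F21680) (tt N2547 (iv F27827)) (tt N2041 F21681) (tt N2582 (iv F27954)) (tt N2036 F21682) (tt N2305 F21683) (tt N2028 (iv D6404)))
theorem Q2307 : ∀ i, i < 2307 → P i := stepQ 2306 Q2306 (allL N2306 (tt N2306 F21684) (tt N2031 F21685) (tt N2526 (iv F27590)) (tt N2306 F21686) (tt N2030 (iv D6405)) (tt N2583 D8352) (tt N2584 D8353) (tt N2306 F21687))
theorem Q2308 : ∀ i, i < 2308 → P i := stepQ 2307 Q2307 (allL N2307 (tt N2307 F21688) (tt N2032 F21689) (tt N2585 D8354) (tt N2042 F21690) (tt N2584 (iv F27963)) (tt N2575 (iv F27927)) (tt N2030 (iv D6406)) (tt N2586 D8355))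
theorem Q2309 : ∀ i, i < 2309 → P i := stepQ 2308 Q2308 (allL N2308 (tt N2034 F21691) (tt N2583 (iv F27957)) (tt N2033 F21692) (tt N2308 F21693) (tt N2577 (iv F27934)) (tt N2031 (iv D6407)) (tt N2587 D8356) (tt N2308 F21694))
theorem Q2310 : ∀ i, i < 2310 → P i := stepQ 2309 Q2309 (allL N2309 (tt N2035 F21695) (tt N2584 (iv F27961)) (tt N2560 (iv F27861)) (tt N2309 F21696) (tt N2032 F21697) (tt N2587 (iv F27971)) (tt N2031 (iv D6408)) (tt N2588 D8357))
theorem Q2311 : ∀ i, i < 2311 → P i := stepQ 2310 Q2310 (allL N2310 (tt N2036 F21698) (tt N2586 (iv F27966)) (tt N2561 (iv F27864)) (tt N2043 F21699) (tt N2588 (iv F27974)) (tt N2579 (iv F27940)) (tt N2310 F21700) (tt N2032 (iv D6409)))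
theorem Q2312 : ∀ i, i < 2312 → P i := stepQ 2311 Q2311 (allL N2311 (tt N2587 (iv F27969)) (tt N2311 F21701) (tt N2564 (iv F27871)) (tt N2311 F21702) (tt N2581 (iv F27951)) (tt N2035 F21703) (tt N2034 (iv D6410)) (tt N2589 D8358))
theorem Q2313 : ∀ i, i < 2313 → P i := stepQ 2312 Q2312 (allL N2312 (tt N2588 (iv F27972)) (tt N2312 F21704) (tt N2565 (iv F27873)) (tt N2312 F21705) (tt N2036 F21706) (tt N2589 (iv F27978)) (tt N2312 F21707) (tt N2035 (iv D6411)))
theorem Q2314 : ∀ i, i < 2314 → P i := stepQ 2313 Q2313 (allL N2313 (tt N2313 F21708) (tt N2038 F21709) (tt N2313 F21710) (tt N2590 D8359) (tt N2037 (iv D6412)) (tt N2313 F21711) (tt N2083 F67969) (tt N2313 F21712))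
theorem Q2315 : ∀ i, i < 2315 → P i := stepQ 2314 Q2314 (allL N2314 (tt N2314 F21713) (tt N2039 F21714) (tt N2126 (iv F67868)) (tt N2575 (iv F27926)) (tt N2083 (iv F67848)) (tt N2042 F21715) (tt N2037 (iv D6413)) (tt N2591 D8362))
theorem Q2316 : ∀ i, i < 2316 → P i := stepQ 2315 Q2315 (allL N2315 (tt N2040 F21716) (tt N2590 (iv F27981)) (tt N2315 F21717) (tt N2038 (iv D6414)) (tt N2576 (iv F27930)) (tt N2315 F21718) (tt N2064 F67970) (tt N2315 F21719))
theorem Q2317 : ∀ i, i < 2317 → P i := stepQ 2316 Q2316 (allL N2316 (tt N2041 F21724) (tt N2591 (iv F27993)) (tt N2082 F67708) (tt N2579 (iv F27939)) (tt N2081 (iv F67839)) (tt N2043 F21726) (tt N2316 F21727) (tt N2039 (iv D6416)))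
theorem Q2318 : ∀ i, i < 2318 → P i := stepQ 2317 Q2317 (allL N2317 (tt N2317 F21736) (tt N2128 F67772) (tt N2042 (iv D6419)) (tt N2592 D8367) (tt N2317 F21738) (tt N2126 (iv F67869)) (tt N2317 F21739) (tt N2593 D8368))
theorem Q2319 : ∀ i, i < 2319 → P i := stepQ 2318 Q2318 (allL N2318 (tt N2318 F21740) (tt N2043 F21741) (tt N2593 (iv F28016)) (tt N2586 (iv F27967)) (tt N2318 F21742) (tt N2591 (iv F27994)) (tt N2318 F21743) (tt N2042 (iv D6420)))
theorem Q2320 : ∀ i, i < 2320 → P i := stepQ 2319 Q2319 (allL N2319 (tt N2045 F21874) (tt N2102 (iv F69219)) (tt N2594 D8433) (tt N2044 (iv D6466)) (tt N2595 D8434) (tt N2074 (iv F69218)) (tt N2161 (iv F69222)) (tt N2071 F69172))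
theorem Q2321 : ∀ i, i < 2321 → P i := stepQ 2320 Q2320 (allL N2320 (tt N2594 (iv F28201)) (tt N2054 F21875) (tt N2045 (iv D6467)) (tt N2069 F21876) (tt N2596 D8435) (tt N2075 (iv F69267)) (tt N2597 D8436) (tt N2072 F69196))
theorem Q2322 : ∀ i, i < 2322 → P i := stepQ 2321 Q2321 (allL N2321 (tt N2595 (iv F28203)) (tt N2046 F21877) (tt N2596 (iv F28206)) (tt N2321 F21878) (tt N2045 (iv D6468)) (tt N2132 F69149) (tt N2163 (iv F69166)) (tt N2073 F69150))
theorem Q2323 : ∀ i, i < 2323 → P i := stepQ 2322 Q2322 (allL N2322 (tt N2048 F21908) (tt N2093 (iv F69492)) (tt N2598 D8449) (tt N2047 (iv D6478)) (tt N2599 D8450) (tt N2053 F21909) (tt N2322 F21910) (tt N2068 (iv F69497)))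
theorem Q2324 : ∀ i, i < 2324 → P i := stepQ 2323 Q2323 (allL N2323 (tt N2598 (iv F28248)) (tt N2075 (iv F69266)) (tt N2048 (iv D6479)) (tt N2072 F21911) (tt N2600 D8451) (tt N2054 F21912) (tt N2601 D8452) (tt N2069 (iv F69265)))
theorem Q2325 : ∀ i, i < 2325 → P i := stepQ 2324 Q2324 (allL N2324 (tt N2599 (iv F28251)) (tt N2049 F21913) (tt N2600 (iv F28254)) (tt N2324 F21914) (tt N2048 (iv D6480)) (tt N2153 F69407) (tt N2324 F21915) (tt N2070 F69408))
theorem Q2326 : ∀ i, i < 2326 → P i := stepQ 2325 Q2325 (allL N2325 (tt N2051 F21939) (tt N2089 (iv F69531)) (tt N2602 D8464) (tt N2050 (iv D6489)) (tt N2603 D8465) (tt N2068 (iv F69496)) (tt N2142 (iv F69522)) (tt N2053 F21940))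
theorem Q2327 : ∀ i, i < 2327 → P i := stepQ 2326 Q2326 (allL N2326 (tt N2602 (iv F28287)) (tt N2072 F69195) (tt N2051 (iv D6490)) (tt N2075 F21941) (tt N2604 D8466) (tt N2069 (iv F69264)) (tt N2605 D8467) (tt N2054 F21942))
theorem Q2328 : ∀ i, i < 2328 → P i := stepQ 2327 Q2327 (allL N2327 (tt N2603 (iv F28290)) (tt N2052 F21943) (tt N2604 (iv F28293)) (tt N2062 F21944) (tt N2051 (iv D6491)) (tt N2152 F69188) (tt N2144 (iv F69247)) (tt N2055 F21945))
theorem Q2329 : ∀ i, i < 2329 → P i := stepQ 2328 Q2328 (allL N2328 (tt N2054 F21948) (tt N2606 D8469) (tt N2053 (iv D6493)) (tt N2077 F21949) (tt N2607 D8470) (tt N2598 (iv F28250)) (tt N2608 D8471) (tt N2602 (iv F28289)))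
theorem Q2330 : ∀ i, i < 2330 → P i := stepQ 2329 Q2329 (allL N2329 (tt N2055 F21950) (tt N2464 (iv F27238)) (tt N2607 (iv F28301)) (tt N2065 F21951) (tt N2053 (iv D6494)) (tt N2609 D8472) (tt N2329 F21952) (tt N2603 (iv F28292)))
theorem Q2331 : ∀ i, i < 2331 → P i := stepQ 2330 Q2330 (allL N2330 (tt N2607 (iv F28300)) (tt N2596 (iv F28205)) (tt N2055 F21953) (tt N2546 F67755) (tt N2054 (iv D6495)) (tt N2610 D8474) (tt N2544 (iv F67891)) (tt N2604 (iv F28294)))
theorem Q2332 : ∀ i, i < 2332 → P i := stepQ 2331 Q2331 (allL N2331 (tt N2608 (iv F28302)) (tt N2597 (iv F28207)) (tt N2331 F21954) (tt N2080 F21955) (tt N2544 (iv F67890)) (tt N2601 (iv F28257)) (tt N2054 (iv D6496)) (tt N2611 D8476))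
theorem Q2333 : ∀ i, i < 2333 → P i := stepQ 2332 Q2332 (allL N2332 (tt N2609 (iv F28305)) (tt N2056 F21956) (tt N2610 (iv F28310)) (tt N2067 F21957) (tt N2153 (iv F69257)) (tt N2055 (iv D6497)) (tt N2332 F21958) (tt N2152 F69191))
theorem Q2334 : ∀ i, i < 2334 → P i := stepQ 2333 Q2333 (allL N2333 (tt N2058 F21980) (tt N2147 (iv F69728)) (tt N2333 F68141) (tt N2057 (iv D6504)) (tt N2612 D8487) (tt N2333 F21981) (tt N2060 F21982) (tt N2333 F21983))
theorem Q2335 : ∀ i, i < 2335 → P i := stepQ 2334 Q2334 (allL N2334 (tt N2612 (iv F28352)) (tt N2059 F21987) (tt N2334 F68146) (tt N2144 F69396) (tt N2058 (iv D6506)) (tt N2151 F69397) (tt N2062 F21988) (tt N2334 F21989))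
theorem Q2336 : ∀ i, i < 2336 → P i := stepQ 2335 Q2335 (allL N2335 (tt N2061 F21993) (tt N2613 D8491) (tt N2060 (iv D6508)) (tt N2081 F21994) (tt N2614 D8492) (tt N2335 F21995) (tt N2335 F68140) (tt N2064 F21996))
theorem Q2337 : ∀ i, i < 2337 → P i := stepQ 2336 Q2336 (allL N2336 (tt N2062 F21997) (tt N2469 (iv F27292)) (tt N2614 (iv F28369)) (tt N2603 (iv F28291)) (tt N2060 (iv D6509)) (tt N2615 D8494) (tt N2612 (iv F28353)) (tt N2065 F21998))
theorem Q2338 : ∀ i, i < 2338 → P i := stepQ 2337 Q2337 (allL N2337 (tt N2614 (iv F28368)) (tt N2337 F21999) (tt N2062 F22000) (tt N2582 F67979) (tt N2061 (iv D6510)) (tt N2616 D8496) (tt N2337 F68145) (tt N2066 F22001))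
theorem Q2339 : ∀ i, i < 2339 → P i := stepQ 2338 Q2338 (allL N2338 (tt N2615 (iv F28374)) (tt N2063 F22005) (tt N2616 (iv F28381)) (tt N2152 F69190) (tt N2338 F22006) (tt N2062 (iv D6512)) (tt N2151 (iv F69250)) (tt N2067 F22007))
theorem Q2340 : ∀ i, i < 2340 → P i := stepQ 2339 Q2339 (allL N2339 (tt N2339 F22008) (tt N2064 (iv D6513)) (tt N2473 (iv F27304)) (tt N2083 F22009) (tt N2617 D8499) (tt N2339 F22010) (tt N2590 (iv F68135)) (tt N2613 (iv F28367)))
theorem Q2341 : ∀ i, i < 2341 → P i := stepQ 2340 Q2340 (allL N2340 (tt N2066 F22011) (tt N2617 (iv F28391)) (tt N2065 F22012) (tt N2578 F67985) (tt N2064 (iv D6514)) (tt N2618 D8502) (tt N2576 (iv F68136)) (tt N2614 (iv F28370)))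
theorem Q2342 : ∀ i, i < 2342 → P i := stepQ 2341 Q2341 (allL N2341 (tt N2067 F22017) (tt N2476 (iv F27314)) (tt N2618 (iv F28399)) (tt N2609 (iv F28306)) (tt N2341 F22018) (tt N2065 (iv D6516)) (tt N2341 F22019) (tt N2615 (iv F28376)))
theorem Q2343 : ∀ i, i < 2343 → P i := stepQ 2342 Q2342 (allL N2342 (tt N2618 (iv F28398)) (tt N2342 F22022) (tt N2067 F22023) (tt N2581 F67986) (tt N2342 F22024) (tt N2066 (iv D6518)) (tt N2580 (iv F68137)) (tt N2616 (iv F28383)))
theorem Q2344 : ∀ i, i < 2344 → P i := stepQ 2343 Q2343 (allL N2343 (tt N2069 F22091) (tt N2619 D8530) (tt N2068 (iv D6537)) (tt N2594 (iv F28202)) (tt N2620 D8531) (tt N2602 F69328) (tt N2621 D8532) (tt N2598 F69329))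
theorem Q2345 : ∀ i, i < 2345 → P i := stepQ 2344 Q2344 (allL N2344 (tt N2070 F22092) (tt N2098 F22093) (tt N2620 (iv F28496)) (tt N2344 F22094) (tt N2068 (iv D6538)) (tt N2150 F67456) (tt N2146 F22095) (tt N2599 (iv F69495)))
theorem Q2346 : ∀ i, i < 2346 → P i := stepQ 2345 Q2345 (allL N2345 (tt N2620 (iv F28495)) (tt N2079 F22096) (tt N2070 F22097) (tt N2494 (iv F69269)) (tt N2069 (iv D6539)) (tt N2100 F67451) (tt N2090 F67452) (tt N2600 (iv F69273)))
theorem Q2347 : ∀ i, i < 2347 → P i := stepQ 2346 Q2346 (allL N2346 (tt N2621 (iv F28497)) (tt N2080 F22098) (tt N2091 F67487) (tt N2597 (iv F28208)) (tt N2090 F67488) (tt N2605 F69213) (tt N2069 (iv D6540)) (tt N2465 (iv F69310)))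
theorem Q2348 : ∀ i, i < 2348 → P i := stepQ 2347 Q2347 (allL N2347 (tt N2072 F22119) (tt N2622 D8543) (tt N2071 (iv D6546)) (tt N2598 (iv F28249)) (tt N2623 D8544) (tt N2077 F22120) (tt N2624 D8545) (tt N2594 (iv F69221)))
theorem Q2349 : ∀ i, i < 2349 → P i := stepQ 2348 Q2348 (allL N2348 (tt N2073 F22121) (tt N2087 (iv F67589)) (tt N2623 (iv F28532)) (tt N2348 F22123) (tt N2071 (iv D6547)) (tt N2130 F67443) (tt N2085 F22124) (tt N2595 (iv F69152)))
theorem Q2350 : ∀ i, i < 2350 → P i := stepQ 2349 Q2349 (allL N2349 (tt N2623 (iv F28531)) (tt N2604 (iv F69161)) (tt N2073 F22125) (tt N2625 D8547) (tt N2072 (iv D6548)) (tt N2117 F67445) (tt N2116 (iv F67577)) (tt N2596 (iv F69165)))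
theorem Q2351 : ∀ i, i < 2351 → P i := stepQ 2350 Q2350 (allL N2350 (tt N2624 (iv F28533)) (tt N2605 (iv F69169)) (tt N2086 F22126) (tt N2601 (iv F28256)) (tt N2116 (iv F67576)) (tt N2080 F22127) (tt N2072 (iv D6549)) (tt N2626 D8550))
theorem Q2352 : ∀ i, i < 2352 → P i := stepQ 2351 Q2351 (allL N2351 (tt N2075 F22132) (tt N2627 D8551) (tt N2074 (iv D6551)) (tt N2602 (iv F28288)) (tt N2628 D8552) (tt N2594 F69316) (tt N2629 D8553) (tt N2077 F22133))
theorem Q2353 : ∀ i, i < 2353 → P i := stepQ 2352 Q2352 (allL N2352 (tt N2076 F22134) (tt N2107 F22135) (tt N2628 (iv F28551)) (tt N2082 F22136) (tt N2074 (iv D6552)) (tt N2131 (iv F67581)) (tt N2169 F22137) (tt N2078 F22138))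
theorem Q2354 : ∀ i, i < 2354 → P i := stepQ 2353 Q2353 (allL N2353 (tt N2628 (iv F28550)) (tt N2600 (iv F69271)) (tt N2076 F22139) (tt N2547 (iv F67617)) (tt N2075 (iv D6553)) (tt N2118 (iv F67584)) (tt N2630 D8557) (tt N2079 F22140))
theorem Q2355 : ∀ i, i < 2355 → P i := stepQ 2354 Q2354 (allL N2354 (tt N2629 (iv F28553)) (tt N2601 F69215) (tt N2171 F22141) (tt N2605 (iv F28295)) (tt N2630 (iv F28565)) (tt N2597 (iv F69294)) (tt N2075 (iv D6554)) (tt N2631 D8558))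
theorem Q2356 : ∀ i, i < 2356 → P i := stepQ 2355 Q2355 (allL N2355 (tt N2619 (iv F28493)) (tt N2077 (iv D6556)) (tt N2111 F22146) (tt N2606 (iv F28299)) (tt N2632 D8559) (tt N2622 (iv F28530)) (tt N2633 D8560) (tt N2627 (iv F28549)))
theorem Q2357 : ∀ i, i < 2357 → P i := stepQ 2356 Q2356 (allL N2356 (tt N2079 F22147) (tt N2632 (iv F28568)) (tt N2078 F22148) (tt N2542 (iv F67609)) (tt N2077 (iv D6557)) (tt N2113 (iv F67579)) (tt N2105 (iv F67588)) (tt N2628 (iv F28552)))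
theorem Q2358 : ∀ i, i < 2358 → P i := stepQ 2357 Q2357 (allL N2357 (tt N2080 F22149) (tt N2633 (iv F28570)) (tt N2087 F22150) (tt N2608 (iv F28304)) (tt N2105 F67721) (tt N2624 (iv F28535)) (tt N2077 (iv D6558)) (tt N2634 D8564))
theorem Q2359 : ∀ i, i < 2359 → P i := stepQ 2358 Q2358 (allL N2358 (tt N2634 (iv F28578)) (tt N2465 (iv F69309)) (tt N2088 F22159) (tt N2611 (iv F28314)) (tt N2103 F67728) (tt N2626 (iv F28547)) (tt N2631 (iv F28567)) (tt N2080 (iv D6563)))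
theorem Q2360 : ∀ i, i < 2360 → P i := stepQ 2359 Q2359 (allL N2359 (tt N2359 F22160) (tt N2081 (iv D6564)) (tt N2119 F22161) (tt N2613 (iv F28365)) (tt N2591 F67975) (tt N2359 F22162) (tt N2359 F68143) (tt N2083 F22163))
theorem Q2361 : ∀ i, i < 2361 → P i := stepQ 2360 Q2360 (allL N2360 (tt N2086 F22224) (tt N2130 (iv F67393)) (tt N2624 (iv F28534)) (tt N2360 F22225) (tt N2114 F67450) (tt N2087 F22226) (tt N2084 (iv D6584)) (tt N2635 D8597))
theorem Q2362 : ∀ i, i < 2362 → P i := stepQ 2361 Q2361 (allL N2361 (tt N2635 (iv F28675)) (tt N2104 F67541) (tt N2626 (iv F28546)) (tt N2361 F22243) (tt N2110 (iv F67578)) (tt N2088 F22244) (tt N2177 F22245) (tt N2086 (iv D6589)))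
theorem Q2363 : ∀ i, i < 2363 → P i := stepQ 2362 Q2362 (allL N2362 (tt N2088 F22262) (tt N2595 F69171) (tt N2634 (iv F28579)) (tt N2362 F22263) (tt N2102 F67723) (tt N2635 (iv F28677)) (tt N2178 F22264) (tt N2087 (iv D6595)))
theorem Q2364 : ∀ i, i < 2364 → P i := stepQ 2363 Q2363 (allL N2363 (tt N2090 F22366) (tt N2636 D8647) (tt N2089 (iv D6625)) (tt N2491 (iv F69511)) (tt N2621 (iv F67643)) (tt N2097 F22367) (tt N2620 (iv F67614)) (tt N2463 (iv F69516)))
theorem Q2365 : ∀ i, i < 2365 → P i := stepQ 2364 Q2364 (allL N2364 (tt N2091 F22368) (tt N2603 F69388) (tt N2621 (iv F67642)) (tt N2469 (iv F69537)) (tt N2089 (iv D6626)) (tt N2637 D8650) (tt N2145 F67483) (tt N2464 (iv F69517)))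
theorem Q2366 : ∀ i, i < 2366 → P i := stepQ 2365 Q2365 (allL N2365 (tt N2637 (iv F28853)) (tt N2092 F22375) (tt N2605 F69178) (tt N2472 (iv F69244)) (tt N2101 F22376) (tt N2091 (iv D6629)) (tt N2143 F67475) (tt N2467 (iv F69246)))
theorem Q2367 : ∀ i, i < 2367 → P i := stepQ 2366 Q2366 (allL N2366 (tt N2094 F22378) (tt N2638 D8655) (tt N2093 (iv D6630)) (tt N2486 (iv F69556)) (tt N2639 D8656) (tt N2463 (iv F69515)) (tt N2640 D8657) (tt N2097 F22379))
theorem Q2368 : ∀ i, i < 2368 → P i := stepQ 2367 Q2367 (allL N2367 (tt N2095 F22380) (tt N2599 (iv F69493)) (tt N2639 (iv F28869)) (tt N2367 F22381) (tt N2093 (iv D6631)) (tt N2641 D8658) (tt N2367 F22382) (tt N2098 F22383))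
theorem Q2369 : ∀ i, i < 2369 → P i := stepQ 2368 Q2368 (allL N2368 (tt N2639 (iv F28868)) (tt N2108 F22384) (tt N2095 F22385) (tt N2642 D8659) (tt N2094 (iv D6632)) (tt N2643 D8660) (tt N2644 D8661) (tt N2099 F22386))
theorem Q2370 : ∀ i, i < 2370 → P i := stepQ 2369 Q2369 (allL N2369 (tt N2640 (iv F28871)) (tt N2109 F22387) (tt N2369 F22388) (tt N2489 F69434) (tt N2644 (iv F28885)) (tt N2466 F69435) (tt N2094 (iv D6633)) (tt N2645 D8662))
theorem Q2371 : ∀ i, i < 2371 → P i := stepQ 2370 Q2370 (allL N2370 (tt N2641 (iv F28873)) (tt N2096 F22389) (tt N2643 (iv F28881)) (tt N2370 F22390) (tt N2467 (iv F69245)) (tt N2095 (iv D6634)) (tt N2370 F22391) (tt N2101 F22392))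
theorem Q2372 : ∀ i, i < 2372 → P i := stepQ 2371 Q2371 (allL N2371 (tt N2111 F22393) (tt N2097 (iv D6635)) (tt N2619 (iv F28494)) (tt N2532 (iv F27771)) (tt N2646 D8663) (tt N2636 (iv F28847)) (tt N2647 D8664) (tt N2638 (iv F28867)))
theorem Q2373 : ∀ i, i < 2373 → P i := stepQ 2372 Q2372 (allL N2372 (tt N2099 F22394) (tt N2646 (iv F28890)) (tt N2098 F22395) (tt N2648 D8665) (tt N2097 (iv D6636)) (tt N2649 D8666) (tt N2650 D8667) (tt N2639 (iv F28870)))
theorem Q2374 : ∀ i, i < 2374 → P i := stepQ 2373 Q2373 (allL N2373 (tt N2100 F22396) (tt N2647 (iv F28892)) (tt N2150 F22397) (tt N2534 (iv F27776)) (tt N2650 (iv F28899)) (tt N2620 (iv F67613)) (tt N2097 (iv D6637)) (tt N2651 D8668))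
theorem Q2375 : ∀ i, i < 2375 → P i := stepQ 2374 Q2374 (allL N2374 (tt N2101 F22398) (tt N2150 F67468) (tt N2649 (iv F28896)) (tt N2374 F22399) (tt N2637 (iv F28854)) (tt N2098 (iv D6638)) (tt N2148 F67469) (tt N2641 (iv F28876)))
theorem Q2376 : ∀ i, i < 2376 → P i := stepQ 2375 Q2375 (allL N2375 (tt N2648 (iv F28893)) (tt N2115 F22401) (tt N2375 F22402) (tt N2099 (iv D6639)) (tt N2536 (iv F27782)) (tt N2652 D8669) (tt N2653 D8670) (tt N2642 (iv F28879)))
theorem Q2377 : ∀ i, i < 2377 → P i := stepQ 2376 Q2376 (allL N2376 (tt N2649 (iv F28895)) (tt N2116 F22403) (tt N2101 F22404) (tt N2652 (iv F28904)) (tt N2605 (iv F69170)) (tt N2099 (iv D6640)) (tt N2604 (iv F69163)) (tt N2643 (iv F28882)))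
theorem Q2378 : ∀ i, i < 2378 → P i := stepQ 2377 Q2377 (allL N2377 (tt N2650 (iv F28897)) (tt N2117 F22405) (tt N2152 F22406) (tt N2653 (iv F28906)) (tt N2100 F22407) (tt N2604 (iv F69162)) (tt N2099 (iv D6641)) (tt N2610 (iv F69168)))
theorem Q2379 : ∀ i, i < 2379 → P i := stepQ 2378 Q2378 (allL N2378 (tt N2651 (iv F28900)) (tt N2118 F22408) (tt N2153 F22409) (tt N2539 (iv F27790)) (tt N2610 F69193) (tt N2600 (iv F69272)) (tt N2645 (iv F28888)) (tt N2100 (iv D6642)))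
theorem Q2380 : ∀ i, i < 2380 → P i := stepQ 2379 Q2379 (allL N2379 (tt N2103 F22410) (tt N2654 D8673) (tt N2102 (iv D6643)) (tt N2481 (iv F69483)) (tt N2634 (iv F67883)) (tt N2106 F22411) (tt N2655 D8675) (tt N2105 F22412))
theorem Q2381 : ∀ i, i < 2381 → P i := stepQ 2380 Q2380 (allL N2380 (tt N2655 (iv F28918)) (tt N2466 F69429) (tt N2180 F22419) (tt N2484 F69430) (tt N2631 (iv F67892)) (tt N2109 F22420) (tt N2103 (iv D6646)) (tt N2630 F67729))
theorem Q2382 : ∀ i, i < 2382 → P i := stepQ 2381 Q2381 (allL N2381 (tt N2636 (iv F28846)) (tt N2105 (iv D6648)) (tt N2622 (iv F28529)) (tt N2540 (iv F27809)) (tt N2633 (iv F67882)) (tt N2111 F22426) (tt N2632 F67719) (tt N2654 (iv F28914)))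
theorem Q2383 : ∀ i, i < 2383 → P i := stepQ 2382 Q2382 (allL N2382 (tt N2638 (iv F28866)) (tt N2106 (iv D6656)) (tt N2627 (iv F28548)) (tt N2548 (iv F27830)) (tt N2656 D8691) (tt N2654 (iv F28913)) (tt N2657 D8692) (tt N2111 F22443))
theorem Q2384 : ∀ i, i < 2384 → P i := stepQ 2383 Q2383 (allL N2383 (tt N2108 F22444) (tt N2656 (iv F28958)) (tt N2107 F22445) (tt N2658 D8693) (tt N2106 (iv D6657)) (tt N2659 D8694) (tt N2660 D8695) (tt N2112 F22446))
theorem Q2385 : ∀ i, i < 2385 → P i := stepQ 2384 Q2384 (allL N2384 (tt N2109 F22447) (tt N2657 (iv F28960)) (tt N2184 F22448) (tt N2550 (iv F27837)) (tt N2660 (iv F28969)) (tt N2655 (iv F28920)) (tt N2106 (iv D6658)) (tt N2661 D8696))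
theorem Q2386 : ∀ i, i < 2386 → P i := stepQ 2385 Q2385 (allL N2385 (tt N2110 F22449) (tt N2131 (iv F67580)) (tt N2659 (iv F28965)) (tt N2122 F22450) (tt N2635 (iv F67611)) (tt N2107 (iv D6659)) (tt N2185 F22451) (tt N2114 F22452))
theorem Q2387 : ∀ i, i < 2387 → P i := stepQ 2386 Q2386 (allL N2386 (tt N2658 (iv F28961)) (tt N2642 (iv F28877)) (tt N2123 F22453) (tt N2108 (iv D6660)) (tt N2552 (iv F27843)) (tt N2502 F68697) (tt N2501 F68698) (tt N2115 F22454))
theorem Q2388 : ∀ i, i < 2388 → P i := stepQ 2387 Q2387 (allL N2387 (tt N2659 (iv F28964)) (tt N2643 (iv F28880)) (tt N2110 F22455) (tt N2502 (iv F68622)) (tt N2626 F67710) (tt N2108 (iv D6661)) (tt N2500 F68530) (tt N2116 F22456))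
theorem Q2389 : ∀ i, i < 2389 → P i := stepQ 2388 Q2388 (allL N2388 (tt N2660 (iv F28967)) (tt N2644 (iv F28883)) (tt N2188 F22457) (tt N2501 (iv F68621)) (tt N2109 F22458) (tt N2500 F68529) (tt N2108 (iv D6662)) (tt N2662 D8700))
theorem Q2390 : ∀ i, i < 2390 → P i := stepQ 2389 Q2389 (allL N2389 (tt N2661 (iv F28970)) (tt N2645 (iv F28886)) (tt N2189 F22459) (tt N2555 (iv F27850)) (tt N2662 (iv F28980)) (tt N2630 F67717) (tt N2118 F22460) (tt N2109 (iv D6663)))
theorem Q2391 : ∀ i, i < 2391 → P i := stepQ 2390 Q2390 (allL N2390 (tt N2646 (iv F28889)) (tt N2112 F22461) (tt N2632 (iv F28569)) (tt N2663 D8701) (tt N2111 (iv D6664)) (tt N2664 D8702) (tt N2665 D8703) (tt N2656 (iv F28959)))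
theorem Q2392 : ∀ i, i < 2392 → P i := stepQ 2391 Q2391 (allL N2391 (tt N2647 (iv F28891)) (tt N2113 F22462) (tt N2664 F67711) (tt N2557 (iv F27854)) (tt N2665 (iv F28985)) (tt N2632 F67712) (tt N2111 (iv D6665)) (tt N2666 D8705))
theorem Q2393 : ∀ i, i < 2393 → P i := stepQ 2392 Q2392 (allL N2392 (tt N2115 F22463) (tt N2663 (iv F28982)) (tt N2127 F22464) (tt N2112 (iv D6666)) (tt N2558 (iv F27857)) (tt N2667 D8706) (tt N2668 D8707) (tt N2658 (iv F28963)))
theorem Q2394 : ∀ i, i < 2394 → P i := stepQ 2393 Q2393 (allL N2393 (tt N2116 F22465) (tt N2664 (iv F28983)) (tt N2114 F22466) (tt N2667 (iv F28990)) (tt N2624 (iv F67610)) (tt N2112 (iv D6667)) (tt N2623 (iv F67601)) (tt N2659 (iv F28966)))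
theorem Q2395 : ∀ i, i < 2395 → P i := stepQ 2394 Q2394 (allL N2394 (tt N2117 F22467) (tt N2665 (iv F28984)) (tt N2130 F22468) (tt N2668 (iv F28993)) (tt N2113 F22469) (tt N2623 (iv F67600)) (tt N2112 (iv D6668)) (tt N2669 D8709))
theorem Q2396 : ∀ i, i < 2396 → P i := stepQ 2395 Q2395 (allL N2395 (tt N2118 F22470) (tt N2666 (iv F28987)) (tt N2131 F22471) (tt N2561 (iv F27865)) (tt N2669 (iv F28999)) (tt N2628 F67713) (tt N2661 (iv F28972)) (tt N2113 (iv D6669)))
theorem Q2397 : ∀ i, i < 2397 → P i := stepQ 2396 Q2396 (allL N2396 (tt N2667 (iv F28988)) (tt N2652 (iv F28902)) (tt N2129 F22472) (tt N2116 F22473) (tt N2503 F68700) (tt N2115 (iv D6670)) (tt N2625 F67709) (tt N2502 F68701))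
theorem Q2398 : ∀ i, i < 2398 → P i := stepQ 2397 Q2397 (allL N2397 (tt N2668 (iv F28991)) (tt N2653 (iv F28905)) (tt N2397 F22474) (tt N2117 F22475) (tt N2563 (iv F27870)) (tt N2625 (iv F67604)) (tt N2115 (iv D6671)) (tt N2670 D8712))
theorem Q2399 : ∀ i, i < 2399 → P i := stepQ 2398 Q2398 (allL N2398 (tt N2669 (iv F28997)) (tt N2610 (iv F69167)) (tt N2132 F22478) (tt N2670 (iv F29005)) (tt N2118 F22479) (tt N2596 (iv F69164)) (tt N2662 (iv F28981)) (tt N2117 (iv D6673)))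
theorem Q2400 : ∀ i, i < 2400 → P i := stepQ 2399 Q2399 (allL N2399 (tt N2399 F22480) (tt N2120 F22481) (tt N2591 F68007) (tt N2671 D8714) (tt N2119 (iv D6674)) (tt N2593 F68008) (tt N2672 D8716) (tt N2126 F22482))
theorem Q2401 : ∀ i, i < 2401 → P i := stepQ 2400 Q2400 (allL N2400 (tt N2400 F22483) (tt N2121 F22484) (tt N2400 F68163) (tt N2567 (iv F27880)) (tt N2672 (iv F29017)) (tt N2400 F22485) (tt N2119 (iv D6675)) (tt N2400 F22486))
theorem Q2402 : ∀ i, i < 2402 → P i := stepQ 2401 Q2401 (allL N2401 (tt N2123 F22487) (tt N2671 (iv F29009)) (tt N2658 (iv F28962)) (tt N2120 (iv D6676)) (tt N2568 (iv F27884)) (tt N2530 F68915) (tt N2529 (iv F69060)) (tt N2127 F22488))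
theorem Q2403 : ∀ i, i < 2403 → P i := stepQ 2402 Q2402 (allL N2402 (tt N2124 F22489) (tt N2593 (iv F67950)) (tt N2122 F22490) (tt N2530 F68918) (tt N2402 F22491) (tt N2120 (iv D6677)) (tt N2528 (iv F69061)) (tt N2128 F22492))
theorem Q2404 : ∀ i, i < 2404 → P i := stepQ 2403 Q2403 (allL N2403 (tt N2125 F22493) (tt N2672 (iv F29016)) (tt N2201 F22494) (tt N2529 F69093) (tt N2121 F22495) (tt N2528 F69094) (tt N2120 (iv D6678)) (tt N2403 F22496))
theorem Q2405 : ∀ i, i < 2405 → P i := stepQ 2404 Q2404 (allL N2404 (tt N2404 F22508) (tt N2127 F22509) (tt N2673 D8724) (tt N2126 (iv D6682)) (tt N2571 (iv F27908)) (tt N2592 F68006) (tt N2404 F22510) (tt N2671 (iv F29010)))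
theorem Q2406 : ∀ i, i < 2406 → P i := stepQ 2405 Q2405 (allL N2405 (tt N2129 F22515) (tt N2592 (iv F67949)) (tt N2667 (iv F28989)) (tt N2128 F22516) (tt N2531 F68919) (tt N2127 (iv D6684)) (tt N2405 F22517) (tt N2530 F68920))
theorem Q2407 : ∀ i, i < 2407 → P i := stepQ 2406 Q2406 (allL N2406 (tt N2132 F22572) (tt N2635 F67552) (tt N2669 (iv F28998)) (tt N2406 F22573) (tt N2131 F22574) (tt N2595 (iv F69151)) (tt N2203 F22575) (tt N2130 (iv D6701)))
theorem Q2408 : ∀ i, i < 2408 → P i := stepQ 2407 Q2407 (allL N2407 (tt N2134 F22671) (tt N2407 F22672) (tt N2674 D8781) (tt N2133 (iv D6728)) (tt N2675 D8782) (tt N2157 (iv F69708)) (tt N2138 F22673) (tt N2154 F69613))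
theorem Q2409 : ∀ i, i < 2409 → P i := stepQ 2408 Q2408 (allL N2408 (tt N2674 (iv F29243)) (tt N2408 F22674) (tt N2134 (iv D6729)) (tt N2162 F69446) (tt N2471 (iv F69568)) (tt N2158 (iv F69539)) (tt N2470 (iv F69538)) (tt N2155 F69447))
theorem Q2410 : ∀ i, i < 2410 → P i := stepQ 2409 Q2409 (allL N2409 (tt N2675 (iv F29244)) (tt N2135 F22675) (tt N2471 F69691) (tt N2409 F22676) (tt N2134 (iv D6730)) (tt N2409 F67515) (tt N2140 F22677) (tt N2156 F69692))
theorem Q2411 : ∀ i, i < 2411 → P i := stepQ 2410 Q2410 (allL N2410 (tt N2137 F22694) (tt N2410 F22695) (tt N2676 D8790) (tt N2136 (iv D6735)) (tt N2410 F67554) (tt N2138 F22696) (tt N2157 (iv F69709)) (tt N2410 F22697))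
theorem Q2412 : ∀ i, i < 2412 → P i := stepQ 2411 Q2411 (allL N2411 (tt N2676 (iv F29271)) (tt N2141 F22698) (tt N2137 (iv D6736)) (tt N2143 F22699) (tt N2411 F67246) (tt N2139 F22700) (tt N2472 F69382) (tt N2411 F22701))
theorem Q2413 : ∀ i, i < 2413 → P i := stepQ 2412 Q2412 (allL N2412 (tt N2139 F22708) (tt N2612 F69644) (tt N2138 (iv D6739)) (tt N2145 F22709) (tt N2147 (iv F67209)) (tt N2676 (iv F29273)) (tt N2469 F69645) (tt N2412 F22710))
theorem Q2414 : ∀ i, i < 2414 → P i := stepQ 2413 Q2413 (allL N2413 (tt N2140 F22711) (tt N2413 F22712) (tt N2147 F67352) (tt N2413 F22713) (tt N2138 (iv D6740)) (tt N2413 F67514) (tt N2675 (iv F29247)) (tt N2413 F22714))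
theorem Q2415 : ∀ i, i < 2415 → P i := stepQ 2414 Q2414 (allL N2414 (tt N2143 F22818) (tt N2149 F67472) (tt N2142 (iv D6771)) (tt N2676 (iv F29272)) (tt N2148 F67473) (tt N2145 F22819) (tt N2637 (iv F67641)) (tt N2414 F22820))
theorem Q2416 : ∀ i, i < 2416 → P i := stepQ 2415 Q2415 (allL N2415 (tt N2144 F22821) (tt N2145 (iv F67320)) (tt N2148 (iv F67315)) (tt N2612 (iv F69541)) (tt N2142 (iv D6772)) (tt N2149 (iv F67303)) (tt N2603 F69395) (tt N2415 F22823))
theorem Q2417 : ∀ i, i < 2417 → P i := stepQ 2416 Q2416 (allL N2416 (tt N2151 F23121) (tt N2676 (iv F67329)) (tt N2416 F23122) (tt N2149 (iv D6871)) (tt N2416 F23123) (tt N2612 (iv F69542)) (tt N2615 F69398) (tt N2416 F23124))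
theorem Q2418 : ∀ i, i < 2418 → P i := stepQ 2417 Q2417 (allL N2417 (tt N2152 F23128) (tt N2637 F67464) (tt N2650 (iv F28898)) (tt N2615 (iv F69261)) (tt N2150 F23129) (tt N2603 (iv F69260)) (tt N2149 (iv D6873)) (tt N2609 (iv F69262)))
theorem Q2419 : ∀ i, i < 2419 → P i := stepQ 2418 Q2418 (allL N2418 (tt N2153 F23130) (tt N2641 (iv F67631)) (tt N2651 (iv F28901)) (tt N2418 F23131) (tt N2609 F69409) (tt N2599 (iv F69494)) (tt N2418 F23132) (tt N2150 (iv D6874)))
theorem Q2420 : ∀ i, i < 2420 → P i := stepQ 2419 Q2419 (allL N2419 (tt N2155 F24320) (tt N2677 D9440) (tt N2154 (iv D7239)) (tt N2164 F24321) (tt N2678 D9441) (tt N2159 F24322) (tt N2679 D9442) (tt N2674 (iv F69507)))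
theorem Q2421 : ∀ i, i < 2421 → P i := stepQ 2420 Q2420 (allL N2420 (tt N2156 F24323) (tt N2420 F24324) (tt N2678 (iv F31331)) (tt N2420 F24325) (tt N2154 (iv D7240)) (tt N2420 F68132) (tt N2420 F24326) (tt N2675 (iv F69715)))
theorem Q2422 : ∀ i, i < 2422 → P i := stepQ 2421 Q2421 (allL N2421 (tt N2678 (iv F31330)) (tt N2421 F24327) (tt N2156 F24328) (tt N2511 (iv F68631)) (tt N2155 (iv D7241)) (tt N2421 F67941) (tt N2480 F68536) (tt N2471 F68537))
theorem Q2423 : ∀ i, i < 2423 → P i := stepQ 2422 Q2422 (allL N2422 (tt N2679 (iv F31332)) (tt N2422 F24329) (tt N2422 F24330) (tt N2167 F24331) (tt N2480 (iv F68477)) (tt N2160 F24332) (tt N2155 (iv D7242)) (tt N2479 F68450))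
theorem Q2424 : ∀ i, i < 2424 → P i := stepQ 2423 Q2423 (allL N2423 (tt N2158 F24371) (tt N2680 D9462) (tt N2157 (iv D7254)) (tt N2168 F24372) (tt N2423 F68196) (tt N2674 F69588) (tt N2681 D9464) (tt N2159 F24373))
theorem Q2425 : ∀ i, i < 2425 → P i := stepQ 2424 Q2424 (allL N2424 (tt N2681 (iv F31408)) (tt N2424 F24381) (tt N2472 F68447) (tt N2171 F24382) (tt N2424 F68205) (tt N2470 F68448) (tt N2158 (iv D7257)) (tt N2478 F68449))
theorem Q2426 : ∀ i, i < 2426 → P i := stepQ 2425 Q2425 (allL N2425 (tt N2425 F24386) (tt N2159 (iv D7259)) (tt N2425 F24387) (tt N2172 F24388) (tt N2425 F68197) (tt N2677 (iv F31329)) (tt N2682 D9471) (tt N2680 (iv F31404)))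
theorem Q2427 : ∀ i, i < 2427 → P i := stepQ 2426 Q2426 (allL N2426 (tt N2160 F24391) (tt N2682 (iv F31430)) (tt N2426 F24392) (tt N2174 F24393) (tt N2426 F68055) (tt N2679 (iv F31335)) (tt N2159 (iv D7261)) (tt N2683 D9475))
theorem Q2428 : ∀ i, i < 2428 → P i := stepQ 2427 Q2427 (allL N2427 (tt N2683 (iv F31440)) (tt N2427 F24406) (tt N2427 F24407) (tt N2175 F24408) (tt N2427 F68056) (tt N2479 F68445) (tt N2478 F68446) (tt N2160 (iv D7266)))
theorem Q2429 : ∀ i, i < 2429 → P i := stepQ 2428 Q2428 (allL N2428 (tt N2162 F24518) (tt N2684 D9524) (tt N2161 (iv D7299)) (tt N2674 (iv F69506)) (tt N2685 D9525) (tt N2168 F24519) (tt N2686 D9526) (tt N2164 F24520))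
theorem Q2430 : ∀ i, i < 2430 → P i := stepQ 2429 Q2429 (allL N2429 (tt N2163 F24521) (tt N2178 (iv F67885)) (tt N2685 (iv F31605)) (tt N2429 F24523) (tt N2161 (iv D7300)) (tt N2203 F67738) (tt N2595 F69175) (tt N2165 F24524))
theorem Q2431 : ∀ i, i < 2431 → P i := stepQ 2430 Q2430 (allL N2430 (tt N2685 (iv F31604)) (tt N2430 F24525) (tt N2163 F24526) (tt N2510 (iv F68630)) (tt N2162 (iv D7301)) (tt N2198 F67743) (tt N2508 F68535) (tt N2166 F24527))
theorem Q2432 : ∀ i, i < 2432 → P i := stepQ 2431 Q2431 (allL N2431 (tt N2686 (iv F31607)) (tt N2431 F24528) (tt N2597 F69445) (tt N2470 F68443) (tt N2508 (iv F68476)) (tt N2171 F24529) (tt N2162 (iv D7302)) (tt N2477 F68444))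
theorem Q2433 : ∀ i, i < 2433 → P i := stepQ 2432 Q2432 (allL N2432 (tt N2432 F24534) (tt N2164 (iv D7304)) (tt N2181 F24535) (tt N2677 (iv F31328)) (tt N2687 D9532) (tt N2172 F24536) (tt N2688 D9533) (tt N2684 (iv F31603)))
theorem Q2434 : ∀ i, i < 2434 → P i := stepQ 2433 Q2433 (allL N2433 (tt N2166 F24537) (tt N2687 (iv F31627)) (tt N2165 F24538) (tt N2689 D9534) (tt N2164 (iv D7305)) (tt N2194 F67739) (tt N2193 F67740) (tt N2685 (iv F31606)))
theorem Q2435 : ∀ i, i < 2435 → P i := stepQ 2434 Q2434 (allL N2434 (tt N2167 F24539) (tt N2688 (iv F31630)) (tt N2176 F24540) (tt N2679 (iv F31334)) (tt N2193 F67754) (tt N2174 F24541) (tt N2164 (iv D7306)) (tt N2690 D9537))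
theorem Q2436 : ∀ i, i < 2436 → P i := stepQ 2435 Q2435 (allL N2435 (tt N2689 (iv F31632)) (tt N2435 F24547) (tt N2435 F24548) (tt N2166 (iv D7308)) (tt N2511 F68709) (tt N2197 F67744) (tt N2196 F67745) (tt N2510 F68710))
theorem Q2437 : ∀ i, i < 2437 → P i := stepQ 2436 Q2436 (allL N2436 (tt N2690 (iv F31640)) (tt N2436 F24555) (tt N2177 F24556) (tt N2479 F68441) (tt N2187 F67764) (tt N2175 F24557) (tt N2477 F68442) (tt N2167 (iv D7311)))
theorem Q2438 : ∀ i, i < 2438 → P i := stepQ 2437 Q2437 (allL N2437 (tt N2437 F24558) (tt N2168 (iv D7312)) (tt N2182 F24559) (tt N2680 (iv F31403)) (tt N2691 D9542) (tt N2684 (iv F31602)) (tt N2692 D9543) (tt N2172 F24560))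
theorem Q2439 : ∀ i, i < 2439 → P i := stepQ 2438 Q2438 (allL N2438 (tt N2170 F24561) (tt N2691 (iv F31656)) (tt N2169 F24562) (tt N2438 F67919) (tt N2168 (iv D7313)) (tt N2195 (iv F67877)) (tt N2693 D9546) (tt N2173 F24563))
theorem Q2440 : ∀ i, i < 2440 → P i := stepQ 2439 Q2439 (allL N2439 (tt N2171 F24564) (tt N2692 (iv F31660)) (tt N2629 (iv F28554)) (tt N2681 (iv F31409)) (tt N2693 (iv F31668)) (tt N2686 (iv F31608)) (tt N2168 (iv D7314)) (tt N2694 D9547))
theorem Q2441 : ∀ i, i < 2441 → P i := stepQ 2440 Q2440 (allL N2440 (tt N2693 (iv F31667)) (tt N2440 F24575) (tt N2630 (iv F28564)) (tt N2440 F67936) (tt N2171 F24576) (tt N2189 (iv F67880)) (tt N2170 (iv D7318)) (tt N2180 (iv F67893)))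
theorem Q2442 : ∀ i, i < 2442 → P i := stepQ 2441 Q2441 (allL N2441 (tt N2694 (iv F31669)) (tt N2441 F24577) (tt N2631 (iv F28566)) (tt N2478 F68439) (tt N2180 F68029) (tt N2477 F68440) (tt N2175 F24578) (tt N2171 (iv D7319)))
theorem Q2443 : ∀ i, i < 2443 → P i := stepQ 2442 Q2442 (allL N2442 (tt N2442 F24579) (tt N2173 F24580) (tt N2190 F24581) (tt N2442 F67920) (tt N2172 (iv D7320)) (tt N2191 (iv F67879)) (tt N2181 (iv F67889)) (tt N2691 (iv F31658)))
theorem Q2444 : ∀ i, i < 2444 → P i := stepQ 2443 Q2443 (allL N2443 (tt N2443 F24582) (tt N2174 F24583) (tt N2687 F68025) (tt N2682 (iv F31431)) (tt N2181 F68026) (tt N2688 (iv F31631)) (tt N2172 (iv D7321)) (tt N2695 D9556))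
theorem Q2445 : ∀ i, i < 2445 → P i := stepQ 2444 Q2444 (allL N2444 (tt N2175 F24591) (tt N2695 (iv F31694)) (tt N2178 F24592) (tt N2683 (iv F31442)) (tt N2179 F68024) (tt N2690 (iv F31642)) (tt N2694 (iv F31670)) (tt N2174 (iv D7325)))
theorem Q2446 : ∀ i, i < 2446 → P i := stepQ 2445 Q2445 (allL N2445 (tt N2177 F24685) (tt N2203 (iv F67690)) (tt N2690 (iv F31641)) (tt N2445 F24686) (tt N2185 F67753) (tt N2178 F24687) (tt N2635 (iv F28678)) (tt N2176 (iv D7358)))
theorem Q2447 : ∀ i, i < 2447 → P i := stepQ 2446 Q2446 (allL N2446 (tt N2446 F24793) (tt N2179 (iv D7394)) (tt N2684 (iv F31601)) (tt N2446 F24794) (tt N2695 (iv F68174)) (tt N2182 F24795) (tt N2696 D9647) (tt N2181 F24796))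
theorem Q2448 : ∀ i, i < 2448 → P i := stepQ 2447 Q2447 (allL N2447 (tt N2180 F24800) (tt N2696 (iv F31961)) (tt N2655 (iv F28919)) (tt N2447 F24801) (tt N2694 (iv F68171)) (tt N2184 F24802) (tt N2179 (iv D7396)) (tt N2693 F68023))
theorem Q2449 : ∀ i, i < 2449 → P i := stepQ 2448 Q2448 (allL N2448 (tt N2448 F24853) (tt N2183 F24854) (tt N2691 (iv F31657)) (tt N2697 D9670) (tt N2182 (iv D7412)) (tt N2698 D9671) (tt N2699 D9672) (tt N2190 F24855))
theorem Q2450 : ∀ i, i < 2450 → P i := stepQ 2449 Q2449 (allL N2449 (tt N2449 F24856) (tt N2184 F24857) (tt N2700 D9673) (tt N2449 F24858) (tt N2699 (iv F32046)) (tt N2696 (iv F31963)) (tt N2182 (iv D7413)) (tt N2701 D9674))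
theorem Q2451 : ∀ i, i < 2451 → P i := stepQ 2450 Q2450 (allL N2450 (tt N2186 F24859) (tt N2697 (iv F32038)) (tt N2199 F24860) (tt N2183 (iv D7414)) (tt N2450 F24861) (tt N2516 F68679) (tt N2515 F68680) (tt N2192 F24862))
theorem Q2452 : ∀ i, i < 2452 → P i := stepQ 2451 Q2451 (allL N2451 (tt N2187 F24863) (tt N2698 (iv F32042)) (tt N2185 F24864) (tt N2516 (iv F68608)) (tt N2690 (iv F67924)) (tt N2183 (iv D7415)) (tt N2514 F68510) (tt N2193 F24865))
theorem Q2453 : ∀ i, i < 2453 → P i := stepQ 2452 Q2452 (allL N2452 (tt N2188 F24866) (tt N2699 (iv F32045)) (tt N2660 (iv F28968)) (tt N2515 (iv F68607)) (tt N2184 F24867) (tt N2514 F68509) (tt N2183 (iv D7416)) (tt N2702 D9678))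
theorem Q2454 : ∀ i, i < 2454 → P i := stepQ 2453 Q2453 (allL N2453 (tt N2189 F24868) (tt N2701 (iv F32049)) (tt N2661 (iv F28971)) (tt N2453 F24869) (tt N2702 (iv F32062)) (tt N2693 F68012) (tt N2195 F24870) (tt N2184 (iv D7417)))
theorem Q2455 : ∀ i, i < 2455 → P i := stepQ 2454 Q2454 (allL N2454 (tt N2702 (iv F32061)) (tt N2454 F24880) (tt N2662 (iv F28979)) (tt N2509 (iv F68627)) (tt N2189 F24881) (tt N2508 F68534) (tt N2198 F24882) (tt N2188 (iv D7421)))
theorem Q2456 : ∀ i, i < 2456 → P i := stepQ 2455 Q2455 (allL N2455 (tt N2455 F24883) (tt N2192 F24884) (tt N2455 F68165) (tt N2190 (iv D7422)) (tt N2455 F24885) (tt N2703 D9685) (tt N2704 D9686) (tt N2697 (iv F32040)))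
theorem Q2457 : ∀ i, i < 2457 → P i := stepQ 2456 Q2456 (allL N2456 (tt N2456 F24886) (tt N2193 F24887) (tt N2191 (iv F67878)) (tt N2703 (iv F32085)) (tt N2688 (iv F67925)) (tt N2190 (iv D7423)) (tt N2687 (iv F67904)) (tt N2698 (iv F32043)))
theorem Q2458 : ∀ i, i < 2458 → P i := stepQ 2457 Q2457 (allL N2457 (tt N2457 F24888) (tt N2194 F24889) (tt N2688 F67851) (tt N2704 (iv F32088)) (tt N2191 F24890) (tt N2687 (iv F67903)) (tt N2190 (iv D7424)) (tt N2705 D9689))
theorem Q2459 : ∀ i, i < 2459 → P i := stepQ 2458 Q2458 (allL N2458 (tt N2458 F24893) (tt N2195 F24894) (tt N2698 F68013) (tt N2458 F24895) (tt N2705 (iv F32098)) (tt N2691 F68014) (tt N2701 (iv F32051)) (tt N2191 (iv D7426)))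
theorem Q2460 : ∀ i, i < 2460 → P i := stepQ 2459 Q2459 (allL N2459 (tt N2196 F24896) (tt N2703 (iv F32084)) (tt N2202 F24897) (tt N2193 F24898) (tt N2517 F68682) (tt N2192 (iv D7427)) (tt N2689 (iv F67906)) (tt N2516 F68683))
theorem Q2461 : ∀ i, i < 2461 → P i := stepQ 2460 Q2460 (allL N2460 (tt N2197 F24899) (tt N2704 (iv F32087)) (tt N2460 F24900) (tt N2194 F24901) (tt N2460 F24902) (tt N2689 (iv F67905)) (tt N2192 (iv D7428)) (tt N2706 D9694))
theorem Q2462 : ∀ i, i < 2462 → P i := stepQ 2461 Q2461 (allL N2461 (tt N2198 F24906) (tt N2705 (iv F32097)) (tt N2203 F24907) (tt N2706 (iv F32114)) (tt N2195 F24908) (tt N2685 (iv F67902)) (tt N2702 (iv F32063)) (tt N2194 (iv D7430)))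
theorem Q2463 : ∀ i, i < 2463 → P i := stepQ 2462 Q2462 (allL N2462 (tt N2706 (iv F32112)) (tt N2462 F24916) (tt N2462 F24917) (tt N2198 F24918) (tt N2462 F24919) (tt N2510 F68704) (tt N2509 F68705) (tt N2197 (iv D7433)))
theorem Q2464 : ∀ i, i < 2464 → P i := stepQ 2463 Q2463 (allL N2463 (tt N2205 F27235) (tt N2707 D10574) (tt N2204 (iv D8126)) (tt N2229 F27236) (tt N2708 D10575) (tt N2366 F69515) (tt N2709 D10576) (tt N2363 F69516))
theorem Q2465 : ∀ i, i < 2465 → P i := stepQ 2464 Q2464 (allL N2464 (tt N2206 F27237) (tt N2329 F27238) (tt N2708 (iv F35058)) (tt N2213 F27239) (tt N2204 (iv D8127)) (tt N2710 D10577) (tt N2464 F27240) (tt N2364 F69517))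
theorem Q2466 : ∀ i, i < 2466 → P i := stepQ 2465 Q2465 (allL N2465 (tt N2708 (iv F35057)) (tt N2358 F69309) (tt N2206 F27241) (tt N2711 D10578) (tt N2205 (iv D8128)) (tt N2712 D10579) (tt N2713 D10580) (tt N2346 F69310))
theorem Q2467 : ∀ i, i < 2467 → P i := stepQ 2466 Q2466 (allL N2466 (tt N2709 (iv F35059)) (tt N2380 (iv F69429)) (tt N2466 F27242) (tt N2232 F27243) (tt N2713 (iv F35070)) (tt N2369 (iv F69435)) (tt N2205 (iv D8129)) (tt N2714 D10581))
theorem Q2468 : ∀ i, i < 2468 → P i := stepQ 2467 Q2467 (allL N2467 (tt N2710 (iv F35062)) (tt N2207 F27244) (tt N2712 (iv F35068)) (tt N2216 F27245) (tt N2370 F69245) (tt N2206 (iv D8130)) (tt N2467 F27246) (tt N2365 F69246))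
theorem Q2469 : ∀ i, i < 2469 → P i := stepQ 2468 Q2468 (allL N2468 (tt N2209 F27287) (tt N2715 D10596) (tt N2208 (iv D8141)) (tt N2234 F27288) (tt N2716 D10597) (tt N2468 F27289) (tt N2717 D10598) (tt N2212 F27290))
theorem Q2470 : ∀ i, i < 2470 → P i := stepQ 2469 Q2469 (allL N2469 (tt N2210 F27291) (tt N2336 F27292) (tt N2716 (iv F35134)) (tt N2364 F69537) (tt N2208 (iv D8142)) (tt N2718 D10599) (tt N2412 (iv F69645)) (tt N2213 F27293))
theorem Q2471 : ∀ i, i < 2471 → P i := stepQ 2470 Q2470 (allL N2470 (tt N2716 (iv F35133)) (tt N2470 F27294) (tt N2210 F27295) (tt N2431 (iv F68443)) (tt N2209 (iv D8143)) (tt N2424 (iv F68448)) (tt N2408 F69538) (tt N2214 F27296))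
theorem Q2472 : ∀ i, i < 2472 → P i := stepQ 2471 Q2471 (allL N2471 (tt N2717 (iv F35136)) (tt N2471 F27297) (tt N2409 (iv F69691)) (tt N2237 F27298) (tt N2408 F69568) (tt N2471 F27299) (tt N2209 (iv D8144)) (tt N2421 (iv F68537)))
theorem Q2473 : ∀ i, i < 2473 → P i := stepQ 2472 Q2472 (allL N2472 (tt N2718 (iv F35139)) (tt N2211 F27300) (tt N2424 (iv F68447)) (tt N2365 F69244) (tt N2472 F27301) (tt N2210 (iv D8145)) (tt N2411 (iv F69382)) (tt N2216 F27302))
theorem Q2474 : ∀ i, i < 2474 → P i := stepQ 2473 Q2473 (allL N2473 (tt N2473 F27303) (tt N2212 (iv D8146)) (tt N2339 F27304) (tt N2239 F27305) (tt N2719 D10604) (tt N2473 F27306) (tt N2720 D10605) (tt N2715 (iv F35132)))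
theorem Q2475 : ∀ i, i < 2475 → P i := stepQ 2474 Q2474 (allL N2474 (tt N2214 F27307) (tt N2719 (iv F35157)) (tt N2213 F27308) (tt N2721 D10606) (tt N2212 (iv D8147)) (tt N2722 D10607) (tt N2723 D10608) (tt N2716 (iv F35135)))
theorem Q2476 : ∀ i, i < 2476 → P i := stepQ 2475 Q2475 (allL N2475 (tt N2215 F27309) (tt N2720 (iv F35160)) (tt N2475 F27310) (tt N2241 F27311) (tt N2723 (iv F35170)) (tt N2475 F27312) (tt N2212 (iv D8148)) (tt N2724 D10609))
theorem Q2477 : ∀ i, i < 2477 → P i := stepQ 2476 Q2476 (allL N2476 (tt N2216 F27313) (tt N2341 F27314) (tt N2722 (iv F35166)) (tt N2710 (iv F35064)) (tt N2476 F27315) (tt N2213 (iv D8149)) (tt N2476 F27316) (tt N2718 (iv F35142)))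
theorem Q2478 : ∀ i, i < 2478 → P i := stepQ 2477 Q2477 (allL N2477 (tt N2721 (iv F35163)) (tt N2477 F27317) (tt N2711 (iv F35066)) (tt N2214 (iv D8150)) (tt N2243 F27318) (tt N2441 (iv F68440)) (tt N2436 (iv F68442)) (tt N2431 (iv F68444)))
theorem Q2479 : ∀ i, i < 2479 → P i := stepQ 2478 Q2478 (allL N2478 (tt N2722 (iv F35165)) (tt N2478 F27319) (tt N2216 F27320) (tt N2441 (iv F68439)) (tt N2478 F27321) (tt N2214 (iv D8151)) (tt N2427 (iv F68446)) (tt N2424 (iv F68449)))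
theorem Q2480 : ∀ i, i < 2480 → P i := stepQ 2479 Q2479 (allL N2479 (tt N2723 (iv F35168)) (tt N2479 F27322) (tt N2479 F27323) (tt N2436 (iv F68441)) (tt N2215 F27324) (tt N2427 (iv F68445)) (tt N2214 (iv D8152)) (tt N2422 (iv F68450)))
theorem Q2481 : ∀ i, i < 2481 → P i := stepQ 2480 Q2480 (allL N2480 (tt N2724 (iv F35171)) (tt N2480 F27325) (tt N2480 F27326) (tt N2246 F27327) (tt N2422 F68477) (tt N2480 F27328) (tt N2421 (iv F68536)) (tt N2215 (iv D8153)))
theorem Q2482 : ∀ i, i < 2482 → P i := stepQ 2481 Q2481 (allL N2481 (tt N2218 F27433) (tt N2725 D10654) (tt N2217 (iv D8183)) (tt N2379 F69483) (tt N2726 D10655) (tt N2274 F69484) (tt N2727 D10656) (tt N2269 F69485))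
theorem Q2483 : ∀ i, i < 2483 → P i := stepQ 2482 Q2482 (allL N2482 (tt N2219 F27434) (tt N2265 F27435) (tt N2726 (iv F35331)) (tt N2482 F27436) (tt N2217 (iv D8184)) (tt N2728 D10657) (tt N2482 F27437) (tt N2270 (iv F69594)))
theorem Q2484 : ∀ i, i < 2484 → P i := stepQ 2483 Q2483 (allL N2483 (tt N2726 (iv F35330)) (tt N2231 F27438) (tt N2219 F27439) (tt N2729 D10658) (tt N2218 (iv D8185)) (tt N2730 D10659) (tt N2731 D10660) (tt N2271 (iv F69425)))
theorem Q2485 : ∀ i, i < 2485 → P i := stepQ 2484 Q2484 (allL N2484 (tt N2727 (iv F35332)) (tt N2232 F27440) (tt N2484 F27441) (tt N2380 (iv F69430)) (tt N2731 (iv F35344)) (tt N2277 (iv F69437)) (tt N2218 (iv D8186)) (tt N2732 D10661))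
theorem Q2486 : ∀ i, i < 2486 → P i := stepQ 2485 Q2485 (allL N2485 (tt N2728 (iv F35334)) (tt N2220 F27442) (tt N2730 (iv F35341)) (tt N2485 F27443) (tt N2278 (iv F69636)) (tt N2219 (iv D8187)) (tt N2485 F27444) (tt N2273 F69572))
theorem Q2487 : ∀ i, i < 2487 → P i := stepQ 2486 Q2486 (allL N2486 (tt N2222 F27461) (tt N2733 D10667) (tt N2221 (iv D8192)) (tt N2366 F69556) (tt N2734 D10668) (tt N2229 F27462) (tt N2735 D10669) (tt N2264 F69557))
theorem Q2488 : ∀ i, i < 2488 → P i := stepQ 2487 Q2487 (allL N2487 (tt N2223 F27463) (tt N2270 F27464) (tt N2734 (iv F35367)) (tt N2487 F27465) (tt N2221 (iv D8193)) (tt N2736 D10670) (tt N2248 F27466) (tt N2265 F69711))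
theorem Q2489 : ∀ i, i < 2489 → P i := stepQ 2488 Q2488 (allL N2488 (tt N2734 (iv F35366)) (tt N2276 F69559) (tt N2223 F27467) (tt N2737 D10671) (tt N2222 (iv D8194)) (tt N2738 D10672) (tt N2739 D10673) (tt N2266 F69560))
theorem Q2490 : ∀ i, i < 2490 → P i := stepQ 2489 Q2489 (allL N2489 (tt N2735 (iv F35368)) (tt N2277 (iv F69436)) (tt N2250 F27468) (tt N2369 (iv F69434)) (tt N2739 (iv F35380)) (tt N2232 F27469) (tt N2222 (iv D8195)) (tt N2740 D10674))
theorem Q2491 : ∀ i, i < 2491 → P i := stepQ 2490 Q2490 (allL N2490 (tt N2736 (iv F35371)) (tt N2224 F27470) (tt N2738 (iv F35377)) (tt N2490 F27471) (tt N2233 F27472) (tt N2223 (iv D8196)) (tt N2251 F27473) (tt N2268 F69574))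
theorem Q2492 : ∀ i, i < 2492 → P i := stepQ 2491 Q2491 (allL N2491 (tt N2226 F27474) (tt N2741 D10675) (tt N2225 (iv D8197)) (tt N2363 F69511) (tt N2742 D10676) (tt N2264 F69512) (tt N2743 D10677) (tt N2229 F27475))
theorem Q2493 : ∀ i, i < 2493 → P i := stepQ 2492 Q2492 (allL N2492 (tt N2227 F27476) (tt N2275 F27477) (tt N2742 (iv F35386)) (tt N2235 F27478) (tt N2225 (iv D8198)) (tt N2744 D10678) (tt N2492 F27479) (tt N2230 F27480))
theorem Q2494 : ∀ i, i < 2494 → P i := stepQ 2493 Q2493 (allL N2493 (tt N2742 (iv F35385)) (tt N2271 (iv F69424)) (tt N2227 F27481) (tt N2745 D10679) (tt N2226 (iv D8199)) (tt N2746 D10680) (tt N2747 D10681) (tt N2231 F27482))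
theorem Q2495 : ∀ i, i < 2495 → P i := stepQ 2494 Q2494 (allL N2494 (tt N2743 (iv F35388)) (tt N2272 F69268) (tt N2494 F27483) (tt N2345 F69269) (tt N2747 (iv F35400)) (tt N2267 F69270) (tt N2226 (iv D8200)) (tt N2748 D10682))
theorem Q2496 : ∀ i, i < 2496 → P i := stepQ 2495 Q2495 (allL N2495 (tt N2744 (iv F35390)) (tt N2228 F27484) (tt N2746 (iv F35397)) (tt N2238 F27485) (tt N2268 (iv F69461)) (tt N2227 (iv D8201)) (tt N2495 F27486) (tt N2233 F27487))
theorem Q2497 : ∀ i, i < 2497 → P i := stepQ 2496 Q2496 (allL N2496 (tt N2725 (iv F35328)) (tt N2229 (iv D8202)) (tt N2279 F27488) (tt N2707 (iv F35056)) (tt N2749 D10683) (tt N2733 (iv F35365)) (tt N2750 D10684) (tt N2741 (iv F35384)))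
theorem Q2498 : ∀ i, i < 2498 → P i := stepQ 2497 Q2497 (allL N2497 (tt N2231 F27489) (tt N2749 (iv F35403)) (tt N2230 F27490) (tt N2751 D10685) (tt N2229 (iv D8203)) (tt N2752 D10686) (tt N2753 D10687) (tt N2742 (iv F35387)))
theorem Q2499 : ∀ i, i < 2499 → P i := stepQ 2498 Q2498 (allL N2498 (tt N2232 F27491) (tt N2750 (iv F35405)) (tt N2254 F27492) (tt N2709 (iv F35061)) (tt N2753 (iv F35412)) (tt N2735 (iv F35370)) (tt N2229 (iv D8204)) (tt N2754 D10688))
theorem Q2500 : ∀ i, i < 2500 → P i := stepQ 2499 Q2499 (allL N2499 (tt N2233 F27493) (tt N2282 F27494) (tt N2752 (iv F35409)) (tt N2242 F27495) (tt N2736 (iv F35374)) (tt N2230 (iv D8205)) (tt N2255 F27496) (tt N2744 (iv F35394)))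
theorem Q2501 : ∀ i, i < 2501 → P i := stepQ 2500 Q2500 (allL N2500 (tt N2751 (iv F35406)) (tt N2729 (iv F35338)) (tt N2243 F27497) (tt N2231 (iv D8206)) (tt N2711 (iv F35067)) (tt N2388 (iv F68529)) (tt N2387 (iv F68530)) (tt N2745 (iv F35396)))
theorem Q2502 : ∀ i, i < 2502 → P i := stepQ 2501 Q2501 (allL N2501 (tt N2752 (iv F35408)) (tt N2730 (iv F35340)) (tt N2233 F27498) (tt N2388 F68621) (tt N2738 (iv F35378)) (tt N2231 (iv D8207)) (tt N2386 (iv F68698)) (tt N2746 (iv F35398)))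
theorem Q2503 : ∀ i, i < 2503 → P i := stepQ 2502 Q2502 (allL N2502 (tt N2753 (iv F35410)) (tt N2731 (iv F35342)) (tt N2258 F27499) (tt N2387 F68622) (tt N2232 F27500) (tt N2386 (iv F68697)) (tt N2231 (iv D8208)) (tt N2396 (iv F68701)))
theorem Q2504 : ∀ i, i < 2504 → P i := stepQ 2503 Q2503 (allL N2503 (tt N2754 (iv F35413)) (tt N2732 (iv F35345)) (tt N2259 F27501) (tt N2714 (iv F35072)) (tt N2396 (iv F68700)) (tt N2740 (iv F35382)) (tt N2748 (iv F35402)) (tt N2232 (iv D8209)))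
theorem Q2505 : ∀ i, i < 2505 → P i := stepQ 2504 Q2504 (allL N2504 (tt N2504 F27502) (tt N2234 (iv D8210)) (tt N2287 F27503) (tt N2715 (iv F35130)) (tt N2755 D10693) (tt N2504 F27504) (tt N2756 D10694) (tt N2239 F27505))
theorem Q2506 : ∀ i, i < 2506 → P i := stepQ 2505 Q2505 (allL N2505 (tt N2236 F27506) (tt N2755 (iv F35423)) (tt N2235 F27507) (tt N2757 D10695) (tt N2234 (iv D8211)) (tt N2758 D10696) (tt N2759 D10697) (tt N2240 F27508))
theorem Q2507 : ∀ i, i < 2507 → P i := stepQ 2506 Q2506 (allL N2506 (tt N2237 F27509) (tt N2756 (iv F35427)) (tt N2506 F27510) (tt N2717 (iv F35137)) (tt N2759 (iv F35437)) (tt N2506 F27511) (tt N2234 (iv D8212)) (tt N2760 D10698))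
theorem Q2508 : ∀ i, i < 2508 → P i := stepQ 2507 Q2507 (allL N2507 (tt N2238 F27512) (tt N2290 F27513) (tt N2758 (iv F35432)) (tt N2744 (iv F35392)) (tt N2507 F27514) (tt N2235 (iv D8213)) (tt N2507 F27515) (tt N2242 F27516))
theorem Q2509 : ∀ i, i < 2509 → P i := stepQ 2508 Q2508 (allL N2508 (tt N2757 (iv F35429)) (tt N2508 F27517) (tt N2745 (iv F35395)) (tt N2236 (iv D8214)) (tt N2431 F68476) (tt N2454 (iv F68534)) (tt N2430 (iv F68535)) (tt N2243 F27518))
theorem Q2510 : ∀ i, i < 2510 → P i := stepQ 2509 Q2509 (allL N2509 (tt N2758 (iv F35431)) (tt N2509 F27519) (tt N2238 F27520) (tt N2454 F68627) (tt N2509 F27521) (tt N2236 (iv D8215)) (tt N2462 (iv F68705)) (tt N2244 F27522))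
theorem Q2511 : ∀ i, i < 2511 → P i := stepQ 2510 Q2510 (allL N2510 (tt N2759 (iv F35435)) (tt N2510 F27523) (tt N2510 F27524) (tt N2430 F68630) (tt N2237 F27525) (tt N2462 (iv F68704)) (tt N2236 (iv D8216)) (tt N2435 (iv F68710)))
theorem Q2512 : ∀ i, i < 2512 → P i := stepQ 2511 Q2511 (allL N2511 (tt N2760 (iv F35438)) (tt N2511 F27526) (tt N2511 F27527) (tt N2421 F68631) (tt N2435 (iv F68709)) (tt N2511 F27528) (tt N2246 F27529) (tt N2237 (iv D8217)))
theorem Q2513 : ∀ i, i < 2513 → P i := stepQ 2512 Q2512 (allL N2512 (tt N2512 F27530) (tt N2240 F27531) (tt N2294 F27532) (tt N2761 D10703) (tt N2239 (iv D8218)) (tt N2762 D10704) (tt N2763 D10705) (tt N2755 (iv F35425)))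
theorem Q2514 : ∀ i, i < 2514 → P i := stepQ 2513 Q2513 (allL N2513 (tt N2513 F27533) (tt N2241 F27534) (tt N2513 F27535) (tt N2720 (iv F35161)) (tt N2763 (iv F35464)) (tt N2513 F27536) (tt N2239 (iv D8219)) (tt N2764 D10706))
theorem Q2515 : ∀ i, i < 2515 → P i := stepQ 2514 Q2514 (allL N2514 (tt N2243 F27537) (tt N2761 (iv F35456)) (tt N2751 (iv F35407)) (tt N2240 (iv D8220)) (tt N2721 (iv F35164)) (tt N2452 (iv F68509)) (tt N2451 (iv F68510)) (tt N2757 (iv F35430)))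
theorem Q2516 : ∀ i, i < 2516 → P i := stepQ 2515 Q2515 (allL N2515 (tt N2244 F27538) (tt N2762 (iv F35458)) (tt N2242 F27539) (tt N2452 F68607) (tt N2515 F27540) (tt N2240 (iv D8221)) (tt N2450 (iv F68680)) (tt N2758 (iv F35434)))
theorem Q2517 : ∀ i, i < 2517 → P i := stepQ 2516 Q2516 (allL N2516 (tt N2245 F27541) (tt N2763 (iv F35462)) (tt N2262 F27542) (tt N2451 F68608) (tt N2241 F27543) (tt N2450 (iv F68679)) (tt N2240 (iv D8222)) (tt N2459 (iv F68683)))
theorem Q2518 : ∀ i, i < 2518 → P i := stepQ 2517 Q2517 (allL N2517 (tt N2246 F27544) (tt N2764 (iv F35466)) (tt N2263 F27545) (tt N2724 (iv F35173)) (tt N2459 (iv F68682)) (tt N2517 F27546) (tt N2760 (iv F35441)) (tt N2241 (iv D8223)))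
theorem Q2519 : ∀ i, i < 2519 → P i := stepQ 2518 Q2518 (allL N2518 (tt N2518 F27558) (tt N2247 (iv D8228)) (tt N2298 F27559) (tt N2518 F27560) (tt N2765 D10716) (tt N2252 F27561) (tt N2766 D10717) (tt N2518 F27562))
theorem Q2520 : ∀ i, i < 2520 → P i := stepQ 2519 Q2519 (allL N2519 (tt N2249 F27563) (tt N2765 (iv F35493)) (tt N2248 F27564) (tt N2767 D10718) (tt N2247 (iv D8229)) (tt N2768 D10719) (tt N2769 D10720) (tt N2519 F27565))
theorem Q2521 : ∀ i, i < 2521 → P i := stepQ 2520 Q2520 (allL N2520 (tt N2250 F27566) (tt N2766 (iv F35497)) (tt N2735 (iv F35369)) (tt N2520 F27567) (tt N2769 (iv F35509)) (tt N2254 F27568) (tt N2247 (iv D8230)) (tt N2770 D10721))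
theorem Q2522 : ∀ i, i < 2522 → P i := stepQ 2521 Q2521 (allL N2521 (tt N2251 F27569) (tt N2301 F27570) (tt N2768 (iv F35505)) (tt N2521 F27571) (tt N2255 F27572) (tt N2248 (iv D8231)) (tt N2736 (iv F35375)) (tt N2521 F27573))
theorem Q2523 : ∀ i, i < 2523 → P i := stepQ 2522 Q2522 (allL N2522 (tt N2767 (iv F35500)) (tt N2522 F27574) (tt N2522 F27575) (tt N2249 (iv D8232)) (tt N2522 F27576) (tt N2293 (iv F69098)) (tt N2292 F69077) (tt N2522 F27577))
theorem Q2524 : ∀ i, i < 2524 → P i := stepQ 2523 Q2523 (allL N2523 (tt N2768 (iv F35504)) (tt N2523 F27578) (tt N2251 F27579) (tt N2293 (iv F69097)) (tt N2257 F27580) (tt N2249 (iv D8233)) (tt N2291 F69069) (tt N2523 F27581))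
theorem Q2525 : ∀ i, i < 2525 → P i := stepQ 2524 Q2524 (allL N2524 (tt N2769 (iv F35508)) (tt N2524 F27582) (tt N2739 (iv F35379)) (tt N2292 (iv F69016)) (tt N2250 F27583) (tt N2291 (iv F68956)) (tt N2249 (iv D8234)) (tt N2297 (iv F69018)))
theorem Q2526 : ∀ i, i < 2526 → P i := stepQ 2525 Q2525 (allL N2525 (tt N2770 (iv F35510)) (tt N2525 F27584) (tt N2740 (iv F35381)) (tt N2525 F27585) (tt N2297 (iv F69017)) (tt N2259 F27586) (tt N2525 F27587) (tt N2250 (iv D8235)))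
theorem Q2527 : ∀ i, i < 2527 → P i := stepQ 2526 Q2526 (allL N2526 (tt N2526 F27588) (tt N2253 F27589) (tt N2306 F27590) (tt N2771 D10726) (tt N2252 (iv D8236)) (tt N2772 D10727) (tt N2773 D10728) (tt N2526 F27591))
theorem Q2528 : ∀ i, i < 2528 → P i := stepQ 2527 Q2527 (allL N2527 (tt N2527 F27592) (tt N2254 F27593) (tt N2774 D10729) (tt N2527 F27594) (tt N2773 (iv F35538)) (tt N2766 (iv F35499)) (tt N2252 (iv D8237)) (tt N2775 D10730))
theorem Q2529 : ∀ i, i < 2529 → P i := stepQ 2528 Q2528 (allL N2528 (tt N2256 F27595) (tt N2771 (iv F35528)) (tt N2260 F27596) (tt N2253 (iv D8238)) (tt N2528 F27597) (tt N2403 (iv F69094)) (tt N2402 F69061) (tt N2528 F27598))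
theorem Q2530 : ∀ i, i < 2530 → P i := stepQ 2529 Q2529 (allL N2529 (tt N2257 F27599) (tt N2772 (iv F35533)) (tt N2255 F27600) (tt N2403 (iv F69093)) (tt N2768 (iv F35506)) (tt N2253 (iv D8239)) (tt N2401 F69060) (tt N2529 F27601))
theorem Q2531 : ∀ i, i < 2531 → P i := stepQ 2530 Q2530 (allL N2530 (tt N2258 F27602) (tt N2773 (iv F35537)) (tt N2753 (iv F35411)) (tt N2402 (iv F68918)) (tt N2254 F27603) (tt N2401 (iv F68915)) (tt N2253 (iv D8240)) (tt N2405 (iv F68920)))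
theorem Q2532 : ∀ i, i < 2532 → P i := stepQ 2531 Q2531 (allL N2531 (tt N2259 F27604) (tt N2775 (iv F35542)) (tt N2754 (iv F35414)) (tt N2531 F27605) (tt N2405 (iv F68919)) (tt N2770 (iv F35512)) (tt N2531 F27606) (tt N2254 (iv D8241)))
theorem Q2533 : ∀ i, i < 2533 → P i := stepQ 2532 Q2532 (allL N2532 (tt N2279 F27770) (tt N2264 (iv D8291)) (tt N2725 (iv F35329)) (tt N2371 F27771) (tt N2776 D10801) (tt N2741 (iv F69599)) (tt N2777 D10802) (tt N2733 (iv F69602)))
theorem Q2534 : ∀ i, i < 2534 → P i := stepQ 2533 Q2533 (allL N2533 (tt N2266 F27772) (tt N2776 (iv F35781)) (tt N2265 F27773) (tt N2778 D10803) (tt N2264 (iv D8292)) (tt N2779 D10804) (tt N2780 D10805) (tt N2734 (iv F69630)))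
theorem Q2535 : ∀ i, i < 2535 → P i := stepQ 2534 Q2534 (allL N2534 (tt N2267 F27774) (tt N2777 (iv F35783)) (tt N2534 F27775) (tt N2373 F27776) (tt N2780 (iv F35792)) (tt N2743 (iv F69347)) (tt N2264 (iv D8293)) (tt N2781 D10806))
theorem Q2536 : ∀ i, i < 2536 → P i := stepQ 2535 Q2535 (allL N2535 (tt N2268 F27777) (tt N2728 (iv F35335)) (tt N2779 (iv F35789)) (tt N2535 F27778) (tt N2744 F69520) (tt N2265 (iv D8294)) (tt N2535 F27779) (tt N2736 (iv F69633)))
theorem Q2537 : ∀ i, i < 2537 → P i := stepQ 2536 Q2536 (allL N2536 (tt N2778 (iv F35785)) (tt N2283 F27780) (tt N2536 F27781) (tt N2266 (iv D8295)) (tt N2375 F27782) (tt N2782 D10807) (tt N2783 D10808) (tt N2737 (iv F69454)))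
theorem Q2538 : ∀ i, i < 2538 → P i := stepQ 2537 Q2537 (allL N2537 (tt N2779 (iv F35788)) (tt N2284 F27783) (tt N2268 F27784) (tt N2782 (iv F35798)) (tt N2746 F69307) (tt N2266 (iv D8296)) (tt N2784 D10809) (tt N2738 (iv F69460)))
theorem Q2539 : ∀ i, i < 2539 → P i := stepQ 2538 Q2538 (allL N2538 (tt N2780 (iv F35790)) (tt N2285 F27785) (tt N2538 F27786) (tt N2783 (iv F35800)) (tt N2267 F27787) (tt N2784 (iv F35804)) (tt N2266 (iv D8297)) (tt N2785 D10810))
theorem Q2540 : ∀ i, i < 2540 → P i := stepQ 2539 Q2539 (allL N2539 (tt N2781 (iv F35793)) (tt N2286 F27788) (tt N2539 F27789) (tt N2378 F27790) (tt N2785 (iv F35807)) (tt N2748 F69280) (tt N2740 F69281) (tt N2267 (iv D8298)))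
theorem Q2541 : ∀ i, i < 2541 → P i := stepQ 2540 Q2540 (allL N2540 (tt N2741 (iv F69597)) (tt N2269 (iv D8304)) (tt N2733 (iv F35364)) (tt N2381 F27809) (tt N2786 D10819) (tt N2279 F27810) (tt N2787 D10820) (tt N2725 (iv F69607)))
theorem Q2542 : ∀ i, i < 2542 → P i := stepQ 2541 Q2541 (allL N2541 (tt N2271 F27811) (tt N2786 (iv F35835)) (tt N2270 F27812) (tt N2788 D10821) (tt N2269 (iv D8305)) (tt N2789 D10822) (tt N2790 D10823) (tt N2726 F69482))
theorem Q2543 : ∀ i, i < 2543 → P i := stepQ 2542 Q2542 (allL N2542 (tt N2272 F27813) (tt N2787 (iv F35836)) (tt N2300 F27814) (tt N2356 F67609) (tt N2790 (iv F35847)) (tt N2281 F27816) (tt N2269 (iv D8306)) (tt N2791 D10824))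
theorem Q2544 : ∀ i, i < 2544 → P i := stepQ 2543 Q2543 (allL N2543 (tt N2273 F27817) (tt N2736 (iv F35372)) (tt N2789 (iv F35843)) (tt N2543 F27818) (tt N2282 F27819) (tt N2270 (iv D8307)) (tt N2301 F27820) (tt N2728 (iv F69632)))
theorem Q2545 : ∀ i, i < 2545 → P i := stepQ 2544 Q2544 (allL N2544 (tt N2788 (iv F35839)) (tt N2745 F69298) (tt N2544 F27821) (tt N2271 (iv D8308)) (tt N2331 F67890) (tt N2792 D10825) (tt N2330 F67891) (tt N2729 F69299))
theorem Q2546 : ∀ i, i < 2546 → P i := stepQ 2545 Q2545 (allL N2545 (tt N2789 (iv F35842)) (tt N2746 F69303) (tt N2273 F27823) (tt N2792 (iv F35853)) (tt N2284 F27824) (tt N2271 (iv D8309)) (tt N2793 D10827) (tt N2730 (iv F69455)))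
theorem Q2547 : ∀ i, i < 2547 → P i := stepQ 2546 Q2546 (allL N2546 (tt N2790 (iv F35845)) (tt N2747 F69274) (tt N2304 F27825) (tt N2330 (iv F67755)) (tt N2272 F27826) (tt N2793 (iv F35858)) (tt N2271 (iv D8310)) (tt N2794 D10828))
theorem Q2548 : ∀ i, i < 2548 → P i := stepQ 2547 Q2547 (allL N2547 (tt N2791 (iv F35848)) (tt N2748 F69275) (tt N2305 F27827) (tt N2353 F67617) (tt N2794 (iv F35860)) (tt N2286 F27829) (tt N2732 F69276) (tt N2272 (iv D8311)))
theorem Q2549 : ∀ i, i < 2549 → P i := stepQ 2548 Q2548 (allL N2548 (tt N2733 (iv F69600)) (tt N2274 (iv D8312)) (tt N2741 (iv F35383)) (tt N2382 F27830) (tt N2795 D10829) (tt N2725 (iv F69606)) (tt N2796 D10830) (tt N2279 F27831))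
theorem Q2550 : ∀ i, i < 2550 → P i := stepQ 2549 Q2549 (allL N2549 (tt N2276 F27832) (tt N2795 (iv F35861)) (tt N2275 F27833) (tt N2797 D10831) (tt N2274 (iv D8313)) (tt N2798 D10832) (tt N2799 D10833) (tt N2280 F27834))
theorem Q2551 : ∀ i, i < 2551 → P i := stepQ 2550 Q2550 (allL N2550 (tt N2277 F27835) (tt N2796 (iv F35863)) (tt N2550 F27836) (tt N2384 F27837) (tt N2799 (iv F35874)) (tt N2727 F69549) (tt N2274 (iv D8314)) (tt N2800 D10834))
theorem Q2552 : ∀ i, i < 2552 → P i := stepQ 2551 Q2551 (allL N2551 (tt N2278 F27838) (tt N2744 (iv F35391)) (tt N2798 (iv F35870)) (tt N2290 F27839) (tt N2728 (iv F69631)) (tt N2275 (iv D8315)) (tt N2551 F27840) (tt N2282 F27841))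
theorem Q2553 : ∀ i, i < 2553 → P i := stepQ 2552 Q2552 (allL N2552 (tt N2797 (iv F35865)) (tt N2737 (iv F69452)) (tt N2291 F27842) (tt N2276 (iv D8316)) (tt N2386 F27843) (tt N2739 F68845) (tt N2738 F68846) (tt N2283 F27844))
theorem Q2554 : ∀ i, i < 2554 → P i := stepQ 2553 Q2553 (allL N2553 (tt N2798 (iv F35869)) (tt N2738 F69561) (tt N2278 F27845) (tt N2739 F68865) (tt N2730 F69562) (tt N2276 (iv D8317)) (tt N2737 F68866) (tt N2284 F27846))
theorem Q2555 : ∀ i, i < 2555 → P i := stepQ 2554 Q2554 (allL N2554 (tt N2799 (iv F35872)) (tt N2739 F69563) (tt N2554 F27847) (tt N2738 F68843) (tt N2277 F27848) (tt N2737 F68844) (tt N2276 (iv D8318)) (tt N2782 F69564))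
theorem Q2556 : ∀ i, i < 2556 → P i := stepQ 2555 Q2555 (allL N2555 (tt N2800 (iv F35875)) (tt N2740 F69289) (tt N2555 F27849) (tt N2389 F27850) (tt N2782 (iv F69440)) (tt N2732 F69290) (tt N2286 F27851) (tt N2277 (iv D8319)))
theorem Q2557 : ∀ i, i < 2557 → P i := stepQ 2556 Q2556 (allL N2556 (tt N2776 (iv F35780)) (tt N2280 F27852) (tt N2749 (iv F35404)) (tt N2801 D10839) (tt N2279 (iv D8320)) (tt N2802 D10840) (tt N2803 D10841) (tt N2795 (iv F35862)))
theorem Q2558 : ∀ i, i < 2558 → P i := stepQ 2557 Q2557 (allL N2557 (tt N2777 (iv F35782)) (tt N2281 F27853) (tt N2804 D10842) (tt N2391 F27854) (tt N2803 (iv F35893)) (tt N2787 (iv F35838)) (tt N2279 (iv D8321)) (tt N2805 D10843))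
theorem Q2559 : ∀ i, i < 2559 → P i := stepQ 2558 Q2558 (allL N2558 (tt N2283 F27855) (tt N2801 (iv F35889)) (tt N2295 F27856) (tt N2280 (iv D8322)) (tt N2392 F27857) (tt N2806 D10844) (tt N2807 D10845) (tt N2797 (iv F35868)))
theorem Q2560 : ∀ i, i < 2560 → P i := stepQ 2559 Q2559 (allL N2559 (tt N2284 F27858) (tt N2802 (iv F35891)) (tt N2282 F27859) (tt N2806 (iv F35899)) (tt N2789 (iv F35844)) (tt N2280 (iv D8323)) (tt N2808 D10846) (tt N2798 (iv F35871)))
theorem Q2561 : ∀ i, i < 2561 → P i := stepQ 2560 Q2560 (allL N2560 (tt N2285 F27860) (tt N2803 (iv F35892)) (tt N2309 F27861) (tt N2807 (iv F35902)) (tt N2281 F27862) (tt N2808 (iv F35906)) (tt N2280 (iv D8324)) (tt N2809 D10847))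
theorem Q2562 : ∀ i, i < 2562 → P i := stepQ 2561 Q2561 (allL N2561 (tt N2286 F27863) (tt N2805 (iv F35895)) (tt N2310 F27864) (tt N2395 F27865) (tt N2809 (iv F35909)) (tt N2791 (iv F35851)) (tt N2800 (iv F35878)) (tt N2281 (iv D8325)))
theorem Q2563 : ∀ i, i < 2563 → P i := stepQ 2562 Q2562 (allL N2562 (tt N2806 (iv F35897)) (tt N2782 (iv F35796)) (tt N2297 F27866) (tt N2284 F27867) (tt N2740 F68867) (tt N2283 (iv D8326)) (tt N2785 F69306) (tt N2739 F68868))
theorem Q2564 : ∀ i, i < 2564 → P i := stepQ 2563 Q2563 (allL N2563 (tt N2807 (iv F35900)) (tt N2783 (iv F35799)) (tt N2563 F27868) (tt N2285 F27869) (tt N2397 F27870) (tt N2785 (iv F69210)) (tt N2283 (iv D8327)) (tt N2784 (iv F69212)))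
theorem Q2565 : ∀ i, i < 2565 → P i := stepQ 2564 Q2564 (allL N2564 (tt N2808 (iv F35904)) (tt N2784 (iv F35802)) (tt N2311 F27871) (tt N2785 F69285) (tt N2793 (iv F35857)) (tt N2285 F27872) (tt N2284 (iv D8328)) (tt N2783 F69286))
theorem Q2566 : ∀ i, i < 2566 → P i := stepQ 2565 Q2565 (allL N2565 (tt N2809 (iv F35907)) (tt N2785 (iv F35805)) (tt N2312 F27873) (tt N2784 F69287) (tt N2286 F27874) (tt N2783 F69288) (tt N2782 (iv F69441)) (tt N2285 (iv D8329)))
theorem Q2567 : ∀ i, i < 2567 → P i := stepQ 2566 Q2566 (allL N2566 (tt N2566 F27875) (tt N2288 F27876) (tt N2755 (iv F35424)) (tt N2810 D10852) (tt N2287 (iv D8330)) (tt N2811 D10853) (tt N2812 D10854) (tt N2294 F27877))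
theorem Q2568 : ∀ i, i < 2568 → P i := stepQ 2567 Q2567 (allL N2567 (tt N2567 F27878) (tt N2289 F27879) (tt N2813 D10855) (tt N2400 F27880) (tt N2812 (iv F35930)) (tt N2567 F27881) (tt N2287 (iv D8331)) (tt N2567 F27882))
theorem Q2569 : ∀ i, i < 2569 → P i := stepQ 2568 Q2568 (allL N2568 (tt N2291 F27883) (tt N2810 (iv F35921)) (tt N2797 (iv F35866)) (tt N2288 (iv D8332)) (tt N2401 F27884) (tt N2769 F69062) (tt N2768 (iv F69091)) (tt N2295 F27885))
theorem Q2570 : ∀ i, i < 2570 → P i := stepQ 2569 Q2569 (allL N2569 (tt N2292 F27886) (tt N2811 (iv F35925)) (tt N2290 F27887) (tt N2769 F69074) (tt N2569 F27888) (tt N2288 (iv D8333)) (tt N2767 (iv F69107)) (tt N2296 F27889))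
theorem Q2571 : ∀ i, i < 2571 → P i := stepQ 2570 Q2570 (allL N2570 (tt N2293 F27890) (tt N2812 (iv F35929)) (tt N2570 F27891) (tt N2768 F69127) (tt N2289 F27892) (tt N2767 F69128) (tt N2288 (iv D8334)) (tt N2570 F27893))
theorem Q2572 : ∀ i, i < 2572 → P i := stepQ 2571 Q2571 (allL N2571 (tt N2571 F27906) (tt N2295 F27907) (tt N2814 D10862) (tt N2294 (iv D8338)) (tt N2404 F27908) (tt N2815 D10863) (tt N2571 F27909) (tt N2810 (iv F35923)))
theorem Q2573 : ∀ i, i < 2573 → P i := stepQ 2572 Q2572 (allL N2572 (tt N2572 F27910) (tt N2296 F27911) (tt N2762 (iv F35459)) (tt N2815 (iv F35963)) (tt N2572 F27912) (tt N2294 (iv D8339)) (tt N2572 F27913) (tt N2811 (iv F35927)))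
theorem Q2574 : ∀ i, i < 2574 → P i := stepQ 2573 Q2573 (allL N2573 (tt N2297 F27914) (tt N2815 (iv F35962)) (tt N2806 (iv F35898)) (tt N2296 F27915) (tt N2770 F69075) (tt N2295 (iv D8340)) (tt N2573 F27916) (tt N2769 F69076))
theorem Q2575 : ∀ i, i < 2575 → P i := stepQ 2574 Q2574 (allL N2574 (tt N2574 F27921) (tt N2299 F27922) (tt N2765 (iv F35494)) (tt N2816 D10865) (tt N2298 (iv D8342)) (tt N2817 D10866) (tt N2818 D10867) (tt N2574 F27923))
theorem Q2576 : ∀ i, i < 2576 → P i := stepQ 2575 Q2575 (allL N2575 (tt N2575 F27924) (tt N2300 F27925) (tt N2819 D10868) (tt N2314 F27926) (tt N2818 (iv F35979)) (tt N2307 F27927) (tt N2298 (iv D8343)) (tt N2820 D10869))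
theorem Q2577 : ∀ i, i < 2577 → P i := stepQ 2576 Q2576 (allL N2576 (tt N2302 F27928) (tt N2816 (iv F35970)) (tt N2576 F27929) (tt N2299 (iv D8344)) (tt N2315 F27930) (tt N2821 D10870) (tt N2340 F68136) (tt N2576 F27931))
theorem Q2578 : ∀ i, i < 2578 → P i := stepQ 2577 Q2577 (allL N2577 (tt N2303 F27932) (tt N2817 (iv F35974)) (tt N2301 F27933) (tt N2821 (iv F35989)) (tt N2308 F27934) (tt N2299 (iv D8345)) (tt N2822 D10872) (tt N2577 F27935))
theorem Q2579 : ∀ i, i < 2579 → P i := stepQ 2578 Q2578 (allL N2578 (tt N2304 F27936) (tt N2818 (iv F35978)) (tt N2790 (iv F35846)) (tt N2340 (iv F67985)) (tt N2300 F27937) (tt N2822 (iv F35997)) (tt N2299 (iv D8346)) (tt N2823 D10873))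
theorem Q2580 : ∀ i, i < 2580 → P i := stepQ 2579 Q2579 (allL N2579 (tt N2305 F27938) (tt N2820 (iv F35983)) (tt N2791 (iv F35849)) (tt N2316 F27939) (tt N2823 (iv F35999)) (tt N2310 F27940) (tt N2579 F27941) (tt N2300 (iv D8347)))
theorem Q2581 : ∀ i, i < 2581 → P i := stepQ 2580 Q2580 (allL N2580 (tt N2821 (iv F35987)) (tt N2580 F27942) (tt N2580 F27943) (tt N2303 F27944) (tt N2580 F27945) (tt N2302 (iv D8348)) (tt N2342 F68137) (tt N2580 F27946))
theorem Q2582 : ∀ i, i < 2582 → P i := stepQ 2581 Q2581 (allL N2581 (tt N2822 (iv F35995)) (tt N2581 F27950) (tt N2793 (iv F35856)) (tt N2342 (iv F67986)) (tt N2311 F27951) (tt N2304 F27952) (tt N2303 (iv D8350)) (tt N2824 D10877))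
theorem Q2583 : ∀ i, i < 2583 → P i := stepQ 2582 Q2582 (allL N2582 (tt N2823 (iv F35998)) (tt N2582 F27953) (tt N2794 (iv F35859)) (tt N2337 (iv F67979)) (tt N2305 F27954) (tt N2824 (iv F36013)) (tt N2582 F27955) (tt N2304 (iv D8351)))
theorem Q2584 : ∀ i, i < 2584 → P i := stepQ 2583 Q2583 (allL N2583 (tt N2583 F27956) (tt N2308 F27957) (tt N2772 (iv F35534)) (tt N2583 F27958) (tt N2817 (iv F35975)) (tt N2306 (iv D8352)) (tt N2825 D10878) (tt N2583 F27959))
theorem Q2585 : ∀ i, i < 2585 → P i := stepQ 2584 Q2584 (allL N2584 (tt N2584 F27960) (tt N2309 F27961) (tt N2826 D10879) (tt N2584 F27962) (tt N2307 F27963) (tt N2825 (iv F36018)) (tt N2306 (iv D8353)) (tt N2827 D10880))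
theorem Q2586 : ∀ i, i < 2586 → P i := stepQ 2585 Q2585 (allL N2585 (tt N2585 F27964) (tt N2804 (iv F35894)) (tt N2307 (iv D8354)) (tt N2828 D10881) (tt N2826 (iv F36020)) (tt N2819 (iv F35981)) (tt N2774 (iv F35540)) (tt N2829 D10882))
theorem Q2587 : ∀ i, i < 2587 → P i := stepQ 2586 Q2586 (allL N2586 (tt N2586 F27965) (tt N2310 F27966) (tt N2829 (iv F36029)) (tt N2318 F27967) (tt N2827 (iv F36024)) (tt N2820 (iv F35985)) (tt N2586 F27968) (tt N2307 (iv D8355)))
theorem Q2588 : ∀ i, i < 2588 → P i := stepQ 2587 Q2587 (allL N2587 (tt N2311 F27969) (tt N2825 (iv F36016)) (tt N2808 (iv F35905)) (tt N2587 F27970) (tt N2822 (iv F35996)) (tt N2309 F27971) (tt N2308 (iv D8356)) (tt N2830 D10883))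
theorem Q2589 : ∀ i, i < 2589 → P i := stepQ 2588 Q2588 (allL N2588 (tt N2312 F27972) (tt N2827 (iv F36022)) (tt N2809 (iv F35908)) (tt N2588 F27973) (tt N2310 F27974) (tt N2830 (iv F36032)) (tt N2588 F27975) (tt N2309 (iv D8357)))
theorem Q2590 : ∀ i, i < 2590 → P i := stepQ 2589 Q2589 (allL N2589 (tt N2830 (iv F36030)) (tt N2589 F27976) (tt N2783 F69302) (tt N2589 F27977) (tt N2824 (iv F36012)) (tt N2312 F27978) (tt N2589 F27979) (tt N2311 (iv D8358)))
theorem Q2591 : ∀ i, i < 2591 → P i := stepQ 2590 Q2590 (allL N2590 (tt N2590 F27980) (tt N2315 F27981) (tt N2831 D10884) (tt N2313 (iv D8359)) (tt N2816 (iv F35971)) (tt N2590 F27982) (tt N2339 F68135) (tt N2590 F27983))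
theorem Q2592 : ∀ i, i < 2592 → P i := stepQ 2591 Q2591 (allL N2591 (tt N2591 F27992) (tt N2316 F27993) (tt N2399 (iv F68007)) (tt N2820 (iv F35984)) (tt N2359 (iv F67975)) (tt N2318 F27994) (tt N2591 F27995) (tt N2314 (iv D8362)))
theorem Q2593 : ∀ i, i < 2593 → P i := stepQ 2592 Q2592 (allL N2592 (tt N2592 F28011) (tt N2405 F67949) (tt N2828 (iv F36027)) (tt N2317 (iv D8367)) (tt N2775 F69065) (tt N2404 (iv F68006)) (tt N2592 F28013) (tt N2773 F69066))
theorem Q2594 : ∀ i, i < 2594 → P i := stepQ 2593 Q2593 (allL N2593 (tt N2593 F28014) (tt N2402 F67950) (tt N2318 F28016) (tt N2773 F69064) (tt N2593 F28017) (tt N2399 (iv F68008)) (tt N2771 (iv F69095)) (tt N2317 (iv D8368)))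
theorem Q2595 : ∀ i, i < 2595 → P i := stepQ 2594 Q2594 (allL N2594 (tt N2320 F28201) (tt N2832 D10986) (tt N2319 (iv D8433)) (tt N2343 F28202) (tt N2833 D10987) (tt N2351 (iv F69316)) (tt N2834 D10988) (tt N2347 F69221))
theorem Q2596 : ∀ i, i < 2596 → P i := stepQ 2595 Q2595 (allL N2595 (tt N2321 F28203) (tt N2362 (iv F69171)) (tt N2833 (iv F36347)) (tt N2595 F28204) (tt N2319 (iv D8434)) (tt N2406 F69151) (tt N2429 (iv F69175)) (tt N2348 F69152))
theorem Q2597 : ∀ i, i < 2597 → P i := stepQ 2596 Q2596 (allL N2596 (tt N2833 (iv F36346)) (tt N2330 F28205) (tt N2321 F28206) (tt N2747 (iv F69203)) (tt N2320 (iv D8435)) (tt N2398 F69164) (tt N2745 (iv F69204)) (tt N2349 F69165))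
theorem Q2598 : ∀ i, i < 2598 → P i := stepQ 2597 Q2597 (allL N2597 (tt N2834 (iv F36348)) (tt N2331 F28207) (tt N2431 (iv F69445)) (tt N2346 F28208) (tt N2745 F69293) (tt N2354 F69294) (tt N2320 (iv D8436)) (tt N2711 F69295))
theorem Q2599 : ∀ i, i < 2599 → P i := stepQ 2598 Q2598 (allL N2598 (tt N2323 F28248) (tt N2835 D11009) (tt N2322 (iv D8449)) (tt N2347 F28249) (tt N2836 D11010) (tt N2328 F28250) (tt N2837 D11011) (tt N2343 (iv F69329)))
theorem Q2600 : ∀ i, i < 2600 → P i := stepQ 2599 Q2599 (allL N2599 (tt N2324 F28251) (tt N2367 F69493) (tt N2836 (iv F36410)) (tt N2599 F28252) (tt N2322 (iv D8450)) (tt N2418 F69494) (tt N2599 F28253) (tt N2344 F69495))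
theorem Q2601 : ∀ i, i < 2601 → P i := stepQ 2600 Q2600 (allL N2600 (tt N2836 (iv F36409)) (tt N2353 F69271) (tt N2324 F28254) (tt N2748 (iv F68751)) (tt N2323 (iv D8451)) (tt N2378 F69272) (tt N2714 F68638) (tt N2345 F69273))
theorem Q2602 : ∀ i, i < 2602 → P i := stepQ 2601 Q2601 (allL N2601 (tt N2837 (iv F36411)) (tt N2354 (iv F69215)) (tt N2601 F28255) (tt N2350 F28256) (tt N2714 (iv F68580)) (tt N2331 F28257) (tt N2323 (iv D8452)) (tt N2713 F68484))
theorem Q2603 : ∀ i, i < 2603 → P i := stepQ 2602 Q2602 (allL N2602 (tt N2326 F28287) (tt N2838 D11031) (tt N2325 (iv D8464)) (tt N2351 F28288) (tt N2839 D11032) (tt N2343 (iv F69328)) (tt N2840 D11033) (tt N2328 F28289))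
theorem Q2604 : ∀ i, i < 2604 → P i := stepQ 2603 Q2603 (allL N2603 (tt N2327 F28290) (tt N2364 (iv F69388)) (tt N2839 (iv F36469)) (tt N2336 F28291) (tt N2325 (iv D8465)) (tt N2417 F69260) (tt N2415 (iv F69395)) (tt N2329 F28292))
theorem Q2605 : ∀ i, i < 2605 → P i := stepQ 2604 Q2604 (allL N2604 (tt N2839 (iv F36468)) (tt N2349 F69161) (tt N2327 F28293) (tt N2794 F67927) (tt N2326 (iv D8466)) (tt N2377 F69162) (tt N2376 F69163) (tt N2330 F28294))
theorem Q2606 : ∀ i, i < 2606 → P i := stepQ 2605 Q2605 (allL N2605 (tt N2840 (iv F36471)) (tt N2350 F69169) (tt N2365 (iv F69178)) (tt N2354 F28295) (tt N2376 F69170) (tt N2346 (iv F69213)) (tt N2326 (iv D8467)) (tt N2712 F68483))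
theorem Q2607 : ∀ i, i < 2607 → P i := stepQ 2606 Q2606 (allL N2606 (tt N2832 (iv F36344)) (tt N2328 (iv D8469)) (tt N2707 (iv F35055)) (tt N2355 F28299) (tt N2841 D11039) (tt N2835 (iv F36408)) (tt N2842 D11040) (tt N2838 (iv F36467)))
theorem Q2608 : ∀ i, i < 2608 → P i := stepQ 2607 Q2607 (allL N2607 (tt N2330 F28300) (tt N2841 (iv F36484)) (tt N2329 F28301) (tt N2790 F67914) (tt N2328 (iv D8470)) (tt N2843 D11042) (tt N2788 (iv F68021)) (tt N2839 (iv F36470)))
theorem Q2609 : ∀ i, i < 2609 → P i := stepQ 2608 Q2608 (allL N2608 (tt N2331 F28302) (tt N2842 (iv F36485)) (tt N2608 F28303) (tt N2357 F28304) (tt N2788 (iv F68020)) (tt N2837 (iv F36414)) (tt N2328 (iv D8471)) (tt N2844 D11044))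
theorem Q2610 : ∀ i, i < 2610 → P i := stepQ 2609 Q2609 (allL N2609 (tt N2332 F28305) (tt N2710 (iv F35063)) (tt N2843 (iv F36491)) (tt N2341 F28306) (tt N2418 (iv F69409)) (tt N2329 (iv D8472)) (tt N2609 F28307) (tt N2417 F69262))
theorem Q2611 : ∀ i, i < 2611 → P i := stepQ 2610 Q2610 (allL N2610 (tt N2843 (iv F36490)) (tt N2398 F69167) (tt N2332 F28310) (tt N2793 F67926) (tt N2378 (iv F69193)) (tt N2330 (iv D8474)) (tt N2792 (iv F68027)) (tt N2377 F69168))
theorem Q2612 : ∀ i, i < 2612 → P i := stepQ 2611 Q2611 (allL N2611 (tt N2844 (iv F36495)) (tt N2711 F69311) (tt N2611 F28313) (tt N2358 F28314) (tt N2729 F69312) (tt N2713 F68479) (tt N2712 F68480) (tt N2331 (iv D8476)))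
theorem Q2613 : ∀ i, i < 2613 → P i := stepQ 2612 Q2612 (allL N2612 (tt N2334 F28352) (tt N2412 (iv F69644)) (tt N2612 F68234) (tt N2415 F69541) (tt N2333 (iv D8487)) (tt N2416 F69542) (tt N2336 F28353) (tt N2612 F28354))
theorem Q2614 : ∀ i, i < 2614 → P i := stepQ 2613 Q2613 (allL N2613 (tt N2613 F28364) (tt N2335 (iv D8491)) (tt N2715 (iv F35129)) (tt N2359 F28365) (tt N2845 D11069) (tt N2613 F28366) (tt N2613 F68231) (tt N2339 F28367))
theorem Q2615 : ∀ i, i < 2615 → P i := stepQ 2614 Q2614 (allL N2614 (tt N2337 F28368) (tt N2845 (iv F36574)) (tt N2336 F28369) (tt N2823 F68139) (tt N2335 (iv D8492)) (tt N2846 D11072) (tt N2614 F68233) (tt N2340 F28370))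
theorem Q2616 : ∀ i, i < 2616 → P i := stepQ 2615 Q2615 (allL N2615 (tt N2338 F28374) (tt N2718 (iv F35140)) (tt N2846 (iv F36584)) (tt N2417 F69261) (tt N2615 F28375) (tt N2336 (iv D8494)) (tt N2416 (iv F69398)) (tt N2341 F28376))
theorem Q2617 : ∀ i, i < 2617 → P i := stepQ 2616 Q2616 (allL N2616 (tt N2846 (iv F36583)) (tt N2616 F28380) (tt N2338 F28381) (tt N2824 F68144) (tt N2616 F28382) (tt N2337 (iv D8496)) (tt N2616 F68235) (tt N2342 F28383))
theorem Q2618 : ∀ i, i < 2618 → P i := stepQ 2617 Q2617 (allL N2617 (tt N2617 F28390) (tt N2340 F28391) (tt N2719 (iv F35158)) (tt N2818 F68148) (tt N2339 (iv D8499)) (tt N2847 D11080) (tt N2816 (iv F68227)) (tt N2845 (iv F36575)))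
theorem Q2619 : ∀ i, i < 2619 → P i := stepQ 2618 Q2618 (allL N2618 (tt N2342 F28398) (tt N2847 (iv F36609)) (tt N2341 F28399) (tt N2822 F68149) (tt N2618 F28400) (tt N2340 (iv D8502)) (tt N2821 (iv F68228)) (tt N2846 (iv F36586)))
theorem Q2620 : ∀ i, i < 2620 → P i := stepQ 2619 Q2619 (allL N2619 (tt N2355 F28493) (tt N2343 (iv D8530)) (tt N2371 F28494) (tt N2832 (iv F36345)) (tt N2848 D11123) (tt N2838 F69472) (tt N2849 D11124) (tt N2835 F69473))
theorem Q2621 : ∀ i, i < 2621 → P i := stepQ 2620 Q2620 (allL N2620 (tt N2345 F28495) (tt N2848 (iv F36747)) (tt N2344 F28496) (tt N2743 (iv F69346)) (tt N2343 (iv D8531)) (tt N2373 F67613) (tt N2363 F67614) (tt N2836 (iv F69327)))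
theorem Q2622 : ∀ i, i < 2622 → P i := stepQ 2621 Q2621 (allL N2621 (tt N2346 F28497) (tt N2849 (iv F36750)) (tt N2364 F67642) (tt N2834 (iv F36349)) (tt N2363 F67643) (tt N2840 F69308) (tt N2343 (iv D8532)) (tt N2708 (iv F69360)))
theorem Q2623 : ∀ i, i < 2623 → P i := stepQ 2622 Q2622 (allL N2622 (tt N2838 (iv F69324)) (tt N2347 (iv D8543)) (tt N2381 F28529) (tt N2835 (iv F36407)) (tt N2850 D11141) (tt N2355 F28530) (tt N2851 D11142) (tt N2832 (iv F69325)))
theorem Q2624 : ∀ i, i < 2624 → P i := stepQ 2623 Q2623 (allL N2623 (tt N2349 F28531) (tt N2850 (iv F36796)) (tt N2348 F28532) (tt N2852 D11143) (tt N2347 (iv D8544)) (tt N2394 F67600) (tt N2393 F67601) (tt N2833 (iv F69174)))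
theorem Q2625 : ∀ i, i < 2625 → P i := stepQ 2624 Q2624 (allL N2624 (tt N2350 F28533) (tt N2851 (iv F36798)) (tt N2360 F28534) (tt N2837 (iv F36413)) (tt N2393 F67610) (tt N2357 F28535) (tt N2347 (iv D8545)) (tt N2853 D11146))
theorem Q2626 : ∀ i, i < 2626 → P i := stepQ 2625 Q2625 (allL N2625 (tt N2852 (iv F36800)) (tt N2794 (iv F69200)) (tt N2625 F28541) (tt N2349 (iv D8547)) (tt N2748 F68853) (tt N2397 F67604) (tt N2396 (iv F67709)) (tt N2747 F68854))
theorem Q2627 : ∀ i, i < 2627 → P i := stepQ 2626 Q2626 (allL N2626 (tt N2853 (iv F36808)) (tt N2712 (iv F69216)) (tt N2361 F28546) (tt N2713 F68470) (tt N2387 (iv F67710)) (tt N2358 F28547) (tt N2711 F68471) (tt N2350 (iv D8550)))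
theorem Q2628 : ∀ i, i < 2628 → P i := stepQ 2627 Q2627 (allL N2627 (tt N2835 F69474) (tt N2351 (iv D8551)) (tt N2382 F28548) (tt N2838 (iv F36466)) (tt N2854 D11151) (tt N2832 F69475) (tt N2855 D11152) (tt N2355 F28549))
theorem Q2629 : ∀ i, i < 2629 → P i := stepQ 2628 Q2628 (allL N2628 (tt N2353 F28550) (tt N2854 (iv F36819)) (tt N2352 F28551) (tt N2791 (iv F67749)) (tt N2351 (iv D8552)) (tt N2395 (iv F67713)) (tt N2856 D11155) (tt N2356 F28552))
theorem Q2630 : ∀ i, i < 2630 → P i := stepQ 2629 Q2629 (allL N2629 (tt N2354 F28553) (tt N2855 (iv F36822)) (tt N2439 F28554) (tt N2840 (iv F36472)) (tt N2856 (iv F36831)) (tt N2834 (iv F69331)) (tt N2351 (iv D8553)) (tt N2857 D11156))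
theorem Q2631 : ∀ i, i < 2631 → P i := stepQ 2630 Q2630 (allL N2630 (tt N2856 (iv F36829)) (tt N2714 F69277) (tt N2440 F28564) (tt N2732 F69278) (tt N2354 F28565) (tt N2389 (iv F67717)) (tt N2353 (iv D8557)) (tt N2380 (iv F67729)))
theorem Q2632 : ∀ i, i < 2632 → P i := stepQ 2631 Q2631 (allL N2631 (tt N2857 (iv F36832)) (tt N2713 F69313) (tt N2441 F28566) (tt N2712 F68468) (tt N2380 F67892) (tt N2711 F68469) (tt N2358 F28567) (tt N2354 (iv D8558)))
theorem Q2633 : ∀ i, i < 2633 → P i := stepQ 2632 Q2632 (allL N2632 (tt N2848 (iv F36746)) (tt N2356 F28568) (tt N2390 F28569) (tt N2787 (iv F67748)) (tt N2355 (iv D8559)) (tt N2391 (iv F67712)) (tt N2381 (iv F67719)) (tt N2854 (iv F36821)))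
theorem Q2634 : ∀ i, i < 2634 → P i := stepQ 2633 Q2633 (allL N2633 (tt N2849 (iv F36749)) (tt N2357 F28570) (tt N2850 F67881) (tt N2842 (iv F36486)) (tt N2381 F67882) (tt N2851 (iv F36799)) (tt N2355 (iv D8560)) (tt N2858 D11165))
theorem Q2635 : ∀ i, i < 2635 → P i := stepQ 2634 Q2634 (allL N2634 (tt N2358 F28578) (tt N2858 (iv F36851)) (tt N2362 F28579) (tt N2844 (iv F36497)) (tt N2379 F67883) (tt N2853 (iv F36810)) (tt N2857 (iv F36834)) (tt N2357 (iv D8564)))
theorem Q2636 : ∀ i, i < 2636 → P i := stepQ 2635 Q2635 (allL N2635 (tt N2361 F28675) (tt N2406 (iv F67552)) (tt N2853 (iv F36809)) (tt N2635 F28676) (tt N2385 F67611) (tt N2362 F28677) (tt N2445 F28678) (tt N2360 (iv D8597)))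
theorem Q2637 : ∀ i, i < 2637 → P i := stepQ 2636 Q2636 (allL N2636 (tt N2381 F28846) (tt N2363 (iv D8647)) (tt N2838 F69480) (tt N2741 (iv F69598)) (tt N2849 (iv F67781)) (tt N2371 F28847) (tt N2848 (iv F67747)) (tt N2707 (iv F69587)))
theorem Q2638 : ∀ i, i < 2638 → P i := stepQ 2637 Q2637 (allL N2637 (tt N2365 F28853) (tt N2417 (iv F67464)) (tt N2840 F69243) (tt N2718 (iv F69391)) (tt N2374 F28854) (tt N2364 (iv D8650)) (tt N2414 F67641) (tt N2710 (iv F69393)))
theorem Q2639 : ∀ i, i < 2639 → P i := stepQ 2638 Q2638 (allL N2638 (tt N2382 F28866) (tt N2366 (iv D8655)) (tt N2835 F69500) (tt N2733 (iv F69601)) (tt N2859 D11286) (tt N2707 (iv F69586)) (tt N2860 D11287) (tt N2371 F28867))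
theorem Q2640 : ∀ i, i < 2640 → P i := stepQ 2639 Q2639 (allL N2639 (tt N2368 F28868) (tt N2859 (iv F37226)) (tt N2367 F28869) (tt N2861 D11288) (tt N2366 (iv D8656)) (tt N2862 D11289) (tt N2863 D11290) (tt N2372 F28870))
theorem Q2641 : ∀ i, i < 2641 → P i := stepQ 2640 Q2640 (allL N2640 (tt N2369 F28871) (tt N2860 (iv F37229)) (tt N2640 F28872) (tt N2735 F69513) (tt N2863 (iv F37238)) (tt N2709 F69514) (tt N2366 (iv D8657)) (tt N2864 D11291))
theorem Q2642 : ∀ i, i < 2642 → P i := stepQ 2641 Q2641 (allL N2641 (tt N2370 F28873) (tt N2418 F67631) (tt N2862 (iv F37234)) (tt N2641 F28874) (tt N2710 (iv F69392)) (tt N2367 (iv D8658)) (tt N2641 F28875) (tt N2374 F28876))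
theorem Q2643 : ∀ i, i < 2643 → P i := stepQ 2642 Q2642 (allL N2642 (tt N2861 (iv F37230)) (tt N2386 F28877) (tt N2642 F28878) (tt N2368 (iv D8659)) (tt N2737 (iv F69453)) (tt N2731 F68837) (tt N2730 F68838) (tt N2375 F28879))
theorem Q2644 : ∀ i, i < 2644 → P i := stepQ 2643 Q2643 (allL N2643 (tt N2862 (iv F37233)) (tt N2387 F28880) (tt N2370 F28881) (tt N2731 (iv F68694)) (tt N2712 (iv F69217)) (tt N2368 (iv D8660)) (tt N2729 F68619) (tt N2376 F28882))
theorem Q2645 : ∀ i, i < 2645 → P i := stepQ 2644 Q2644 (allL N2644 (tt N2863 (iv F37236)) (tt N2388 F28883) (tt N2644 F28884) (tt N2730 (iv F68693)) (tt N2369 F28885) (tt N2729 F68618) (tt N2368 (iv D8661)) (tt N2792 F69304))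
theorem Q2646 : ∀ i, i < 2646 → P i := stepQ 2645 Q2645 (allL N2645 (tt N2864 (iv F37239)) (tt N2389 F28886) (tt N2645 F28887) (tt N2740 F69282) (tt N2792 F69283) (tt N2714 F69284) (tt N2378 F28888) (tt N2369 (iv D8662)))
theorem Q2647 : ∀ i, i < 2647 → P i := stepQ 2646 Q2646 (allL N2646 (tt N2390 F28889) (tt N2372 F28890) (tt N2848 (iv F36748)) (tt N2865 D11296) (tt N2371 (iv D8663)) (tt N2866 D11297) (tt N2867 D11298) (tt N2859 (iv F37227)))
theorem Q2648 : ∀ i, i < 2648 → P i := stepQ 2647 Q2647 (allL N2647 (tt N2391 F28891) (tt N2373 F28892) (tt N2866 (iv F67773)) (tt N2777 (iv F35784)) (tt N2867 (iv F37261)) (tt N2848 (iv F67746)) (tt N2371 (iv D8664)) (tt N2868 D11300))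
theorem Q2649 : ∀ i, i < 2649 → P i := stepQ 2648 Q2648 (allL N2648 (tt N2375 F28893) (tt N2865 (iv F37256)) (tt N2648 F28894) (tt N2372 (iv D8665)) (tt N2778 (iv F35787)) (tt N2869 D11301) (tt N2870 D11302) (tt N2861 (iv F37232)))
theorem Q2650 : ∀ i, i < 2650 → P i := stepQ 2649 Q2649 (allL N2649 (tt N2376 F28895) (tt N2866 (iv F37258)) (tt N2374 F28896) (tt N2869 (iv F37268)) (tt N2840 (iv F69214)) (tt N2372 (iv D8666)) (tt N2839 (iv F69199)) (tt N2862 (iv F37235)))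
theorem Q2651 : ∀ i, i < 2651 → P i := stepQ 2650 Q2650 (allL N2650 (tt N2377 F28897) (tt N2867 (iv F37260)) (tt N2417 F28898) (tt N2870 (iv F37270)) (tt N2373 F28899) (tt N2839 (iv F69198)) (tt N2372 (iv D8667)) (tt N2843 (iv F69205)))
theorem Q2652 : ∀ i, i < 2652 → P i := stepQ 2651 Q2651 (allL N2651 (tt N2378 F28900) (tt N2868 (iv F37265)) (tt N2418 F28901) (tt N2781 (iv F35795)) (tt N2843 F69279) (tt N2836 (iv F69326)) (tt N2864 (iv F37241)) (tt N2373 (iv D8668)))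
theorem Q2653 : ∀ i, i < 2653 → P i := stepQ 2652 Q2652 (allL N2652 (tt N2869 (iv F37266)) (tt N2396 F28902) (tt N2652 F28903) (tt N2376 F28904) (tt N2732 F68840) (tt N2375 (iv D8669)) (tt N2794 (iv F69202)) (tt N2731 F68841))
theorem Q2654 : ∀ i, i < 2654 → P i := stepQ 2653 Q2653 (allL N2653 (tt N2870 (iv F37269)) (tt N2397 F28905) (tt N2824 (iv F69206)) (tt N2377 F28906) (tt N2783 (iv F35801)) (tt N2794 (iv F69201)) (tt N2375 (iv D8670)) (tt N2793 (iv F69208)))
theorem Q2655 : ∀ i, i < 2655 → P i := stepQ 2654 Q2654 (allL N2654 (tt N2707 (iv F69585)) (tt N2379 (iv D8673)) (tt N2832 F69481) (tt N2725 (iv F69605)) (tt N2858 (iv F68018)) (tt N2382 F28913) (tt N2871 D11311) (tt N2381 F28914))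
theorem Q2656 : ∀ i, i < 2656 → P i := stepQ 2655 Q2655 (allL N2655 (tt N2380 F28918) (tt N2871 (iv F37292)) (tt N2447 F28919) (tt N2727 F69486) (tt N2857 (iv F68022)) (tt N2384 F28920) (tt N2379 (iv D8675)) (tt N2856 F67884))
theorem Q2657 : ∀ i, i < 2657 → P i := stepQ 2656 Q2656 (allL N2656 (tt N2859 (iv F37225)) (tt N2383 F28958) (tt N2854 (iv F36820)) (tt N2872 D11334) (tt N2382 (iv D8691)) (tt N2873 D11335) (tt N2874 D11336) (tt N2390 F28959))
theorem Q2658 : ∀ i, i < 2658 → P i := stepQ 2657 Q2657 (allL N2657 (tt N2860 (iv F37228)) (tt N2384 F28960) (tt N2875 D11337) (tt N2796 (iv F35864)) (tt N2874 (iv F37354)) (tt N2871 (iv F37293)) (tt N2382 (iv D8692)) (tt N2876 D11338))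
theorem Q2659 : ∀ i, i < 2659 → P i := stepQ 2658 Q2658 (allL N2658 (tt N2386 F28961) (tt N2872 (iv F37349)) (tt N2401 F28962) (tt N2383 (iv D8693)) (tt N2797 (iv F35867)) (tt N2753 F68820) (tt N2752 F68821) (tt N2392 F28963))
theorem Q2660 : ∀ i, i < 2660 → P i := stepQ 2659 Q2659 (allL N2659 (tt N2387 F28964) (tt N2873 (iv F37351)) (tt N2385 F28965) (tt N2753 (iv F68676)) (tt N2853 (iv F67752)) (tt N2383 (iv D8694)) (tt N2751 F68605) (tt N2393 F28966))
theorem Q2661 : ∀ i, i < 2661 → P i := stepQ 2660 Q2660 (allL N2660 (tt N2388 F28967) (tt N2874 (iv F37353)) (tt N2452 F28968) (tt N2752 (iv F68675)) (tt N2384 F28969) (tt N2751 F68604) (tt N2383 (iv D8695)) (tt N2877 D11342))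
theorem Q2662 : ∀ i, i < 2662 → P i := stepQ 2661 Q2661 (allL N2661 (tt N2389 F28970) (tt N2876 (iv F37356)) (tt N2453 F28971) (tt N2800 (iv F35877)) (tt N2877 (iv F37369)) (tt N2856 F67876) (tt N2395 F28972) (tt N2384 (iv D8696)))
theorem Q2663 : ∀ i, i < 2663 → P i := stepQ 2662 Q2662 (allL N2662 (tt N2877 (iv F37367)) (tt N2792 (iv F69209)) (tt N2454 F28979) (tt N2746 (iv F68699)) (tt N2389 F28980) (tt N2745 F68623) (tt N2398 F28981) (tt N2388 (iv D8700)))
theorem Q2664 : ∀ i, i < 2664 → P i := stepQ 2663 Q2663 (allL N2663 (tt N2865 (iv F37255)) (tt N2392 F28982) (tt N2878 D11348) (tt N2390 (iv D8701)) (tt N2801 (iv F35890)) (tt N2879 D11349) (tt N2880 D11350) (tt N2872 (iv F37350)))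
theorem Q2665 : ∀ i, i < 2665 → P i := stepQ 2664 Q2664 (allL N2664 (tt N2866 (iv F37257)) (tt N2393 F28983) (tt N2391 (iv F67711)) (tt N2879 (iv F37384)) (tt N2851 (iv F67751)) (tt N2390 (iv D8702)) (tt N2850 (iv F67734)) (tt N2873 (iv F37352)))
theorem Q2666 : ∀ i, i < 2666 → P i := stepQ 2665 Q2665 (allL N2665 (tt N2867 (iv F37259)) (tt N2394 F28984) (tt N2851 F67689) (tt N2880 (iv F37386)) (tt N2391 F28985) (tt N2850 (iv F67733)) (tt N2390 (iv D8703)) (tt N2881 D11353))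
theorem Q2667 : ∀ i, i < 2667 → P i := stepQ 2666 Q2666 (allL N2666 (tt N2868 (iv F37264)) (tt N2395 F28987) (tt N2873 F67874) (tt N2805 (iv F35896)) (tt N2881 (iv F37392)) (tt N2854 F67875) (tt N2876 (iv F37357)) (tt N2391 (iv D8705)))
theorem Q2668 : ∀ i, i < 2668 → P i := stepQ 2667 Q2667 (allL N2667 (tt N2396 F28988) (tt N2879 (iv F37383)) (tt N2405 F28989) (tt N2393 F28990) (tt N2754 F68823) (tt N2392 (iv D8706)) (tt N2852 (iv F67736)) (tt N2753 F68824))
theorem Q2669 : ∀ i, i < 2669 → P i := stepQ 2668 Q2668 (allL N2668 (tt N2397 F28991) (tt N2880 (iv F37385)) (tt N2668 F28992) (tt N2394 F28993) (tt N2807 (iv F35903)) (tt N2852 (iv F67735)) (tt N2392 (iv D8707)) (tt N2882 D11358))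
theorem Q2670 : ∀ i, i < 2670 → P i := stepQ 2669 Q2669 (allL N2669 (tt N2398 F28997) (tt N2881 (iv F37391)) (tt N2406 F28998) (tt N2882 (iv F37404)) (tt N2395 F28999) (tt N2833 (iv F69173)) (tt N2877 (iv F37370)) (tt N2394 (iv D8709)))
theorem Q2671 : ∀ i, i < 2671 → P i := stepQ 2670 Q2670 (allL N2670 (tt N2882 (iv F37402)) (tt N2793 (iv F69207)) (tt N2670 F29004) (tt N2398 F29005) (tt N2784 (iv F69211)) (tt N2747 F68848) (tt N2746 F68849) (tt N2397 (iv D8712)))
theorem Q2672 : ∀ i, i < 2672 → P i := stepQ 2671 Q2671 (allL N2671 (tt N2671 F29008) (tt N2401 F29009) (tt N2883 D11362) (tt N2399 (iv D8714)) (tt N2810 (iv F35922)) (tt N2773 F69063) (tt N2772 (iv F69092)) (tt N2404 F29010))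
theorem Q2673 : ∀ i, i < 2673 → P i := stepQ 2672 Q2672 (allL N2672 (tt N2672 F29015) (tt N2403 F29016) (tt N2672 F68251) (tt N2772 F69129) (tt N2400 F29017) (tt N2771 F69130) (tt N2399 (iv D8716)) (tt N2672 F29018))
theorem Q2674 : ∀ i, i < 2674 → P i := stepQ 2673 Q2673 (allL N2673 (tt N2673 F29043) (tt N2878 (iv F37382)) (tt N2404 (iv D8724)) (tt N2819 F68159) (tt N2814 (iv F35960)) (tt N2828 F68160) (tt N2884 D11375) (tt N2883 (iv F37414)))
theorem Q2675 : ∀ i, i < 2675 → P i := stepQ 2674 Q2674 (allL N2674 (tt N2408 F29243) (tt N2885 D11445) (tt N2407 (iv D8781)) (tt N2428 F69506) (tt N2717 (iv F69619)) (tt N2423 (iv F69588)) (tt N2716 (iv F69616)) (tt N2419 F69507))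
theorem Q2676 : ∀ i, i < 2676 → P i := stepQ 2675 Q2675 (allL N2675 (tt N2409 F29244) (tt N2675 F29245) (tt N2717 F69714) (tt N2675 F29246) (tt N2407 (iv D8782)) (tt N2675 F67653) (tt N2413 F29247) (tt N2420 F69715))
theorem Q2677 : ∀ i, i < 2677 → P i := stepQ 2676 Q2676 (allL N2676 (tt N2411 F29271) (tt N2416 F67329) (tt N2410 (iv D8790)) (tt N2414 F29272) (tt N2676 F67396) (tt N2412 F29273) (tt N2718 F69528) (tt N2676 F29274))
theorem Q2678 : ∀ i, i < 2678 → P i := stepQ 2677 Q2677 (allL N2677 (tt N2677 F31326) (tt N2419 (iv D9440)) (tt N2677 F31327) (tt N2432 F31328) (tt N2886 D12298) (tt N2425 F31329) (tt N2887 D12299) (tt N2885 (iv F69618)))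
theorem Q2679 : ∀ i, i < 2679 → P i := stepQ 2678 Q2678 (allL N2678 (tt N2421 F31330) (tt N2886 (iv F40349)) (tt N2420 F31331) (tt N2760 (iv F68687)) (tt N2419 (iv D9441)) (tt N2678 F68085) (tt N2724 F68613) (tt N2717 F68614))
theorem Q2680 : ∀ i, i < 2680 → P i := stepQ 2679 Q2679 (allL N2679 (tt N2422 F31332) (tt N2887 (iv F40352)) (tt N2679 F31333) (tt N2434 F31334) (tt N2724 (iv F68517)) (tt N2426 F31335) (tt N2419 (iv D9442)) (tt N2723 F68466))
theorem Q2681 : ∀ i, i < 2681 → P i := stepQ 2680 Q2680 (allL N2680 (tt N2680 F31401) (tt N2423 (iv D9462)) (tt N2680 F31402) (tt N2437 F31403) (tt N2680 F68276) (tt N2885 F69710) (tt N2888 D12329) (tt N2425 F31404))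
theorem Q2682 : ∀ i, i < 2682 → P i := stepQ 2681 Q2681 (allL N2681 (tt N2424 F31408) (tt N2888 (iv F40447)) (tt N2718 F68463) (tt N2439 F31409) (tt N2681 F68275) (tt N2716 F68464) (tt N2423 (iv D9464)) (tt N2722 F68465))
theorem Q2683 : ∀ i, i < 2683 → P i := stepQ 2682 Q2682 (allL N2682 (tt N2682 F31429) (tt N2426 F31430) (tt N2889 D12341) (tt N2443 F31431) (tt N2682 F68193) (tt N2887 (iv F40354)) (tt N2425 (iv D9471)) (tt N2890 D12342))
theorem Q2684 : ∀ i, i < 2684 → P i := stepQ 2683 Q2683 (allL N2683 (tt N2427 F31440) (tt N2890 (iv F40486)) (tt N2683 F31441) (tt N2444 F31442) (tt N2683 F68194) (tt N2723 F68461) (tt N2722 F68462) (tt N2426 (iv D9475)))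
theorem Q2685 : ∀ i, i < 2685 → P i := stepQ 2684 Q2684 (allL N2684 (tt N2684 F31600) (tt N2428 (iv D9524)) (tt N2446 F31601) (tt N2885 (iv F69617)) (tt N2891 D12410) (tt N2437 F31602) (tt N2892 D12411) (tt N2432 F31603))
theorem Q2686 : ∀ i, i < 2686 → P i := stepQ 2685 Q2685 (allL N2685 (tt N2430 F31604) (tt N2891 (iv F40706)) (tt N2429 F31605) (tt N2759 (iv F68684)) (tt N2428 (iv D9525)) (tt N2461 F67902) (tt N2757 F68610) (tt N2433 F31606))
theorem Q2687 : ∀ i, i < 2687 → P i := stepQ 2686 Q2686 (allL N2686 (tt N2431 F31607) (tt N2892 (iv F40710)) (tt N2834 F69505) (tt N2716 F68459) (tt N2757 (iv F68511)) (tt N2439 F31608) (tt N2428 (iv D9526)) (tt N2721 F68460))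
theorem Q2688 : ∀ i, i < 2688 → P i := stepQ 2687 Q2687 (allL N2687 (tt N2687 F31626) (tt N2433 F31627) (tt N2443 (iv F68025)) (tt N2893 D12420) (tt N2432 (iv D9532)) (tt N2457 F67903) (tt N2456 F67904) (tt N2891 (iv F40708)))
theorem Q2689 : ∀ i, i < 2689 → P i := stepQ 2688 Q2688 (allL N2688 (tt N2688 F31629) (tt N2434 F31630) (tt N2457 (iv F67851)) (tt N2887 (iv F40353)) (tt N2456 F67925) (tt N2443 F31631) (tt N2432 (iv D9533)) (tt N2894 D12424))
theorem Q2690 : ∀ i, i < 2690 → P i := stepQ 2689 Q2689 (allL N2689 (tt N2435 F31632) (tt N2893 (iv F40737)) (tt N2689 F31633) (tt N2433 (iv D9534)) (tt N2760 F68832) (tt N2460 F67905) (tt N2459 F67906) (tt N2759 F68833))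
theorem Q2691 : ∀ i, i < 2691 → P i := stepQ 2690 Q2690 (allL N2690 (tt N2436 F31640) (tt N2894 (iv F40750)) (tt N2445 F31641) (tt N2723 F68457) (tt N2451 F67924) (tt N2444 F31642) (tt N2721 F68458) (tt N2434 (iv D9537)))
theorem Q2692 : ∀ i, i < 2692 → P i := stepQ 2691 Q2691 (allL N2691 (tt N2691 F31655) (tt N2438 F31656) (tt N2448 F31657) (tt N2691 F68076) (tt N2437 (iv D9542)) (tt N2458 (iv F68014)) (tt N2895 D12436) (tt N2442 F31658))
theorem Q2693 : ∀ i, i < 2693 → P i := stepQ 2692 Q2692 (allL N2692 (tt N2692 F31659) (tt N2439 F31660) (tt N2896 D12437) (tt N2888 (iv F40448)) (tt N2895 (iv F40787)) (tt N2892 (iv F40711)) (tt N2437 (iv D9543)) (tt N2897 D12438))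
theorem Q2694 : ∀ i, i < 2694 → P i := stepQ 2693 Q2693 (allL N2693 (tt N2440 F31667) (tt N2895 (iv F40786)) (tt N2856 (iv F36830)) (tt N2693 F68075) (tt N2439 F31668) (tt N2453 (iv F68012)) (tt N2438 (iv D9546)) (tt N2447 (iv F68023)))
theorem Q2695 : ∀ i, i < 2695 → P i := stepQ 2694 Q2694 (allL N2694 (tt N2441 F31669) (tt N2897 (iv F40791)) (tt N2857 (iv F36833)) (tt N2722 F68455) (tt N2447 F68171) (tt N2721 F68456) (tt N2444 F31670) (tt N2439 (iv D9547)))
theorem Q2696 : ∀ i, i < 2696 → P i := stepQ 2695 Q2695 (allL N2695 (tt N2695 F31693) (tt N2444 F31694) (tt N2891 F68173) (tt N2890 (iv F40487)) (tt N2446 F68174) (tt N2894 (iv F40751)) (tt N2897 (iv F40792)) (tt N2443 (iv D9556)))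
theorem Q2697 : ∀ i, i < 2697 → P i := stepQ 2696 Q2696 (allL N2696 (tt N2696 F31960) (tt N2447 F31961) (tt N2898 D12571) (tt N2696 F31962) (tt N2897 (iv F68263)) (tt N2449 F31963) (tt N2446 (iv D9647)) (tt N2895 F68172))
theorem Q2698 : ∀ i, i < 2698 → P i := stepQ 2697 Q2697 (allL N2697 (tt N2697 F32037) (tt N2450 F32038) (tt N2697 F68256) (tt N2448 (iv D9670)) (tt N2697 F32039) (tt N2763 F68812) (tt N2762 F68813) (tt N2455 F32040))
theorem Q2699 : ∀ i, i < 2699 → P i := stepQ 2698 Q2698 (allL N2698 (tt N2698 F32041) (tt N2451 F32042) (tt N2458 (iv F68013)) (tt N2763 (iv F68665)) (tt N2894 (iv F68084)) (tt N2448 (iv D9671)) (tt N2761 F68602) (tt N2456 F32043))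
theorem Q2700 : ∀ i, i < 2700 → P i := stepQ 2699 Q2699 (allL N2699 (tt N2699 F32044) (tt N2452 F32045) (tt N2899 D12604) (tt N2762 (iv F68664)) (tt N2449 F32046) (tt N2761 F68601) (tt N2448 (iv D9672)) (tt N2900 D12605))
theorem Q2701 : ∀ i, i < 2701 → P i := stepQ 2700 Q2700 (allL N2700 (tt N2700 F32047) (tt N2875 (iv F37355)) (tt N2449 (iv D9673)) (tt N2901 D12606) (tt N2899 (iv F41299)) (tt N2898 (iv F41183)) (tt N2896 (iv F40789)) (tt N2902 D12607))
theorem Q2702 : ∀ i, i < 2702 → P i := stepQ 2701 Q2701 (allL N2701 (tt N2701 F32048) (tt N2453 F32049) (tt N2902 (iv F41307)) (tt N2701 F32050) (tt N2900 (iv F41302)) (tt N2895 F68164) (tt N2458 F32051) (tt N2449 (iv D9674)))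
theorem Q2703 : ∀ i, i < 2703 → P i := stepQ 2702 Q2702 (allL N2702 (tt N2454 F32061) (tt N2900 (iv F41301)) (tt N2877 (iv F37368)) (tt N2758 (iv F68681)) (tt N2453 F32062) (tt N2757 F68609) (tt N2461 F32063) (tt N2452 (iv D9678)))
theorem Q2704 : ∀ i, i < 2704 → P i := stepQ 2703 Q2703 (allL N2703 (tt N2703 F32083) (tt N2459 F32084) (tt N2703 F68104) (tt N2456 F32085) (tt N2764 F68815) (tt N2455 (iv D9685)) (tt N2893 (iv F68044)) (tt N2763 F68816))
theorem Q2705 : ∀ i, i < 2705 → P i := stepQ 2704 Q2704 (allL N2704 (tt N2704 F32086) (tt N2460 F32087) (tt N2903 D12622) (tt N2457 F32088) (tt N2704 F32089) (tt N2893 (iv F68043)) (tt N2455 (iv D9686)) (tt N2904 D12623))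
theorem Q2706 : ∀ i, i < 2706 → P i := stepQ 2705 Q2705 (allL N2705 (tt N2705 F32096) (tt N2461 F32097) (tt N2894 F67987) (tt N2904 (iv F41358)) (tt N2458 F32098) (tt N2891 (iv F68041)) (tt N2900 (iv F41303)) (tt N2457 (iv D9689)))
theorem Q2707 : ∀ i, i < 2707 → P i := stepQ 2706 Q2706 (allL N2706 (tt N2462 F32112) (tt N2904 (iv F41357)) (tt N2706 F32113) (tt N2461 F32114) (tt N2706 F32115) (tt N2759 F68827) (tt N2758 F68828) (tt N2460 (iv D9694)))
theorem Q2708 : ∀ i, i < 2708 → P i := stepQ 2707 Q2707 (allL N2707 (tt N2654 F69585) (tt N2463 (iv D10574)) (tt N2606 F35055) (tt N2496 F35056) (tt N2905 D13750) (tt N2638 F69586) (tt N2906 D13751) (tt N2636 F69587))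
theorem Q2709 : ∀ i, i < 2709 → P i := stepQ 2708 Q2708 (allL N2708 (tt N2465 F35057) (tt N2905 (iv F45082)) (tt N2464 F35058) (tt N2907 D13752) (tt N2463 (iv D10575)) (tt N2908 D13753) (tt N2909 D13754) (tt N2621 F69360))
theorem Q2710 : ∀ i, i < 2710 → P i := stepQ 2709 Q2709 (allL N2709 (tt N2466 F35059) (tt N2906 (iv F45084)) (tt N2709 F35060) (tt N2498 F35061) (tt N2909 (iv F45093)) (tt N2640 (iv F69514)) (tt N2463 (iv D10576)) (tt N2910 D13755))
theorem Q2711 : ∀ i, i < 2711 → P i := stepQ 2710 Q2710 (allL N2710 (tt N2467 F35062) (tt N2609 F35063) (tt N2908 (iv F45090)) (tt N2476 F35064) (tt N2641 F69392) (tt N2464 (iv D10577)) (tt N2710 F35065) (tt N2637 F69393))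
theorem Q2712 : ∀ i, i < 2712 → P i := stepQ 2711 Q2711 (allL N2711 (tt N2907 (iv F45086)) (tt N2611 (iv F69311)) (tt N2477 F35066) (tt N2465 (iv D10578)) (tt N2500 F35067) (tt N2631 (iv F68469)) (tt N2626 (iv F68471)) (tt N2597 (iv F69295)))
theorem Q2713 : ∀ i, i < 2713 → P i := stepQ 2712 Q2712 (allL N2712 (tt N2908 (iv F45089)) (tt N2626 F69216) (tt N2467 F35068) (tt N2631 (iv F68468)) (tt N2643 F69217) (tt N2465 (iv D10579)) (tt N2611 (iv F68480)) (tt N2605 (iv F68483)))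
theorem Q2714 : ∀ i, i < 2714 → P i := stepQ 2713 Q2713 (allL N2713 (tt N2909 (iv F45091)) (tt N2631 (iv F69313)) (tt N2713 F35069) (tt N2626 (iv F68470)) (tt N2466 F35070) (tt N2611 (iv F68479)) (tt N2465 (iv D10580)) (tt N2601 (iv F68484)))
theorem Q2715 : ∀ i, i < 2715 → P i := stepQ 2714 Q2714 (allL N2714 (tt N2910 (iv F45094)) (tt N2630 (iv F69277)) (tt N2714 F35071) (tt N2503 F35072) (tt N2601 F68580) (tt N2645 (iv F69284)) (tt N2600 (iv F68638)) (tt N2466 (iv D10581)))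
theorem Q2716 : ∀ i, i < 2716 → P i := stepQ 2715 Q2715 (allL N2715 (tt N2715 F35128) (tt N2468 (iv D10596)) (tt N2613 F35129) (tt N2504 F35130) (tt N2911 D13780) (tt N2715 F35131) (tt N2912 D13781) (tt N2473 F35132))
theorem Q2717 : ∀ i, i < 2717 → P i := stepQ 2716 Q2716 (allL N2716 (tt N2470 F35133) (tt N2911 (iv F45180)) (tt N2469 F35134) (tt N2686 (iv F68459)) (tt N2468 (iv D10597)) (tt N2681 (iv F68464)) (tt N2674 F69616) (tt N2474 F35135))
theorem Q2718 : ∀ i, i < 2718 → P i := stepQ 2717 Q2717 (allL N2717 (tt N2471 F35136) (tt N2912 (iv F45184)) (tt N2675 (iv F69714)) (tt N2506 F35137) (tt N2674 F69619) (tt N2717 F35138) (tt N2468 (iv D10598)) (tt N2678 (iv F68614)))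
theorem Q2719 : ∀ i, i < 2719 → P i := stepQ 2718 Q2718 (allL N2718 (tt N2472 F35139) (tt N2615 F35140) (tt N2681 (iv F68463)) (tt N2637 F69391) (tt N2718 F35141) (tt N2469 (iv D10599)) (tt N2676 (iv F69528)) (tt N2476 F35142))
theorem Q2720 : ∀ i, i < 2720 → P i := stepQ 2719 Q2719 (allL N2719 (tt N2719 F35156) (tt N2474 F35157) (tt N2617 F35158) (tt N2913 D13790) (tt N2473 (iv D10604)) (tt N2914 D13791) (tt N2915 D13792) (tt N2911 (iv F45182)))
theorem Q2721 : ∀ i, i < 2721 → P i := stepQ 2720 Q2720 (allL N2720 (tt N2720 F35159) (tt N2475 F35160) (tt N2916 D13793) (tt N2513 F35161) (tt N2915 (iv F45221)) (tt N2720 F35162) (tt N2473 (iv D10605)) (tt N2917 D13794))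
theorem Q2722 : ∀ i, i < 2722 → P i := stepQ 2721 Q2721 (allL N2721 (tt N2477 F35163) (tt N2913 (iv F45213)) (tt N2907 (iv F45087)) (tt N2474 (iv D10606)) (tt N2514 F35164) (tt N2694 (iv F68456)) (tt N2690 (iv F68458)) (tt N2686 (iv F68460)))
theorem Q2723 : ∀ i, i < 2723 → P i := stepQ 2722 Q2722 (allL N2722 (tt N2478 F35165) (tt N2914 (iv F45216)) (tt N2476 F35166) (tt N2694 (iv F68455)) (tt N2722 F35167) (tt N2474 (iv D10607)) (tt N2683 (iv F68462)) (tt N2681 (iv F68465)))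
theorem Q2724 : ∀ i, i < 2724 → P i := stepQ 2723 Q2723 (allL N2723 (tt N2479 F35168) (tt N2915 (iv F45220)) (tt N2723 F35169) (tt N2690 (iv F68457)) (tt N2475 F35170) (tt N2683 (iv F68461)) (tt N2474 (iv D10608)) (tt N2679 (iv F68466)))
theorem Q2725 : ∀ i, i < 2725 → P i := stepQ 2724 Q2724 (allL N2724 (tt N2480 F35171) (tt N2917 (iv F45228)) (tt N2724 F35172) (tt N2517 F35173) (tt N2679 F68517) (tt N2724 F35174) (tt N2678 (iv F68613)) (tt N2475 (iv D10609)))
theorem Q2726 : ∀ i, i < 2726 → P i := stepQ 2725 Q2725 (allL N2725 (tt N2496 F35328) (tt N2481 (iv D10654)) (tt N2532 F35329) (tt N2654 F69605) (tt N2918 D13860) (tt N2548 F69606) (tt N2919 D13861) (tt N2540 F69607))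
theorem Q2727 : ∀ i, i < 2727 → P i := stepQ 2726 Q2726 (allL N2726 (tt N2483 F35330) (tt N2918 (iv F45443)) (tt N2482 F35331) (tt N2920 D13862) (tt N2481 (iv D10655)) (tt N2921 D13863) (tt N2922 D13864) (tt N2541 (iv F69482)))
theorem Q2728 : ∀ i, i < 2728 → P i := stepQ 2727 Q2727 (allL N2727 (tt N2484 F35332) (tt N2919 (iv F45446)) (tt N2727 F35333) (tt N2655 (iv F69486)) (tt N2922 (iv F45453)) (tt N2550 (iv F69549)) (tt N2481 (iv D10656)) (tt N2923 D13865))
theorem Q2729 : ∀ i, i < 2729 → P i := stepQ 2728 Q2728 (allL N2728 (tt N2485 F35334) (tt N2535 F35335) (tt N2921 (iv F45450)) (tt N2728 F35336) (tt N2551 F69631) (tt N2482 (iv D10657)) (tt N2728 F35337) (tt N2543 F69632))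
theorem Q2730 : ∀ i, i < 2730 → P i := stepQ 2729 Q2729 (allL N2729 (tt N2920 (iv F45447)) (tt N2500 F35338) (tt N2729 F35339) (tt N2483 (iv D10658)) (tt N2611 (iv F69312)) (tt N2644 (iv F68618)) (tt N2643 (iv F68619)) (tt N2544 (iv F69299)))
theorem Q2731 : ∀ i, i < 2731 → P i := stepQ 2730 Q2730 (allL N2730 (tt N2921 (iv F45449)) (tt N2501 F35340) (tt N2485 F35341) (tt N2644 F68693) (tt N2553 (iv F69562)) (tt N2483 (iv D10659)) (tt N2642 (iv F68838)) (tt N2545 F69455))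
theorem Q2732 : ∀ i, i < 2732 → P i := stepQ 2731 Q2731 (allL N2731 (tt N2922 (iv F45451)) (tt N2502 F35342) (tt N2731 F35343) (tt N2643 F68694) (tt N2484 F35344) (tt N2642 (iv F68837)) (tt N2483 (iv D10660)) (tt N2652 (iv F68841)))
theorem Q2733 : ∀ i, i < 2733 → P i := stepQ 2732 Q2732 (allL N2732 (tt N2923 (iv F45454)) (tt N2503 F35345) (tt N2732 F35346) (tt N2630 (iv F69278)) (tt N2652 (iv F68840)) (tt N2555 (iv F69290)) (tt N2547 (iv F69276)) (tt N2484 (iv D10661)))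
theorem Q2734 : ∀ i, i < 2734 → P i := stepQ 2733 Q2733 (allL N2733 (tt N2548 F69600) (tt N2486 (iv D10667)) (tt N2540 F35364) (tt N2638 F69601) (tt N2924 D13878) (tt N2496 F35365) (tt N2925 D13879) (tt N2532 F69602))
theorem Q2735 : ∀ i, i < 2735 → P i := stepQ 2734 Q2734 (allL N2734 (tt N2488 F35366) (tt N2924 (iv F45492)) (tt N2487 F35367) (tt N2926 D13880) (tt N2486 (iv D10668)) (tt N2927 D13881) (tt N2928 D13882) (tt N2533 F69630))
theorem Q2736 : ∀ i, i < 2736 → P i := stepQ 2735 Q2735 (allL N2735 (tt N2489 F35368) (tt N2925 (iv F45494)) (tt N2520 F35369) (tt N2640 (iv F69513)) (tt N2928 (iv F45503)) (tt N2498 F35370) (tt N2486 (iv D10669)) (tt N2929 D13883))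
theorem Q2737 : ∀ i, i < 2737 → P i := stepQ 2736 Q2736 (allL N2736 (tt N2490 F35371) (tt N2543 F35372) (tt N2927 (iv F45499)) (tt N2736 F35373) (tt N2499 F35374) (tt N2487 (iv D10670)) (tt N2521 F35375) (tt N2535 F69633))
theorem Q2738 : ∀ i, i < 2738 → P i := stepQ 2737 Q2737 (allL N2737 (tt N2926 (iv F45496)) (tt N2552 F69452) (tt N2737 F35376) (tt N2488 (iv D10671)) (tt N2642 F69453) (tt N2554 (iv F68844)) (tt N2553 (iv F68866)) (tt N2536 F69454))
theorem Q2739 : ∀ i, i < 2739 → P i := stepQ 2738 Q2738 (allL N2738 (tt N2927 (iv F45498)) (tt N2553 (iv F69561)) (tt N2490 F35377) (tt N2554 (iv F68843)) (tt N2501 F35378) (tt N2488 (iv D10672)) (tt N2552 (iv F68846)) (tt N2537 F69460))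
theorem Q2740 : ∀ i, i < 2740 → P i := stepQ 2739 Q2739 (allL N2739 (tt N2928 (iv F45501)) (tt N2554 (iv F69563)) (tt N2524 F35379) (tt N2553 (iv F68865)) (tt N2489 F35380) (tt N2552 (iv F68845)) (tt N2488 (iv D10673)) (tt N2562 (iv F68868)))
theorem Q2741 : ∀ i, i < 2741 → P i := stepQ 2740 Q2740 (allL N2740 (tt N2929 (iv F45504)) (tt N2555 (iv F69289)) (tt N2525 F35381) (tt N2645 (iv F69282)) (tt N2562 (iv F68867)) (tt N2503 F35382) (tt N2539 (iv F69281)) (tt N2489 (iv D10674)))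
theorem Q2742 : ∀ i, i < 2742 → P i := stepQ 2741 Q2741 (allL N2741 (tt N2540 F69597) (tt N2491 (iv D10675)) (tt N2548 F35383) (tt N2636 F69598) (tt N2930 D13888) (tt N2532 F69599) (tt N2931 D13889) (tt N2496 F35384))
theorem Q2743 : ∀ i, i < 2743 → P i := stepQ 2742 Q2742 (allL N2742 (tt N2493 F35385) (tt N2930 (iv F45515)) (tt N2492 F35386) (tt N2932 D13890) (tt N2491 (iv D10676)) (tt N2933 D13891) (tt N2934 D13892) (tt N2497 F35387))
theorem Q2744 : ∀ i, i < 2744 → P i := stepQ 2743 Q2743 (allL N2743 (tt N2494 F35388) (tt N2931 (iv F45518)) (tt N2743 F35389) (tt N2620 F69346) (tt N2934 (iv F45527)) (tt N2534 F69347) (tt N2491 (iv D10677)) (tt N2935 D13893))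
theorem Q2745 : ∀ i, i < 2745 → P i := stepQ 2744 Q2744 (allL N2744 (tt N2495 F35390) (tt N2551 F35391) (tt N2933 (iv F45523)) (tt N2507 F35392) (tt N2535 (iv F69520)) (tt N2492 (iv D10678)) (tt N2744 F35393) (tt N2499 F35394))
theorem Q2746 : ∀ i, i < 2746 → P i := stepQ 2745 Q2745 (allL N2745 (tt N2932 (iv F45519)) (tt N2544 (iv F69298)) (tt N2508 F35395) (tt N2493 (iv D10679)) (tt N2597 (iv F69293)) (tt N2662 (iv F68623)) (tt N2596 F69204) (tt N2500 F35396))
theorem Q2747 : ∀ i, i < 2747 → P i := stepQ 2746 Q2746 (allL N2746 (tt N2933 (iv F45522)) (tt N2545 (iv F69303)) (tt N2495 F35397) (tt N2662 F68699) (tt N2537 (iv F69307)) (tt N2493 (iv D10680)) (tt N2670 (iv F68849)) (tt N2501 F35398))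
theorem Q2748 : ∀ i, i < 2748 → P i := stepQ 2747 Q2747 (allL N2747 (tt N2934 (iv F45525)) (tt N2546 (iv F69274)) (tt N2747 F35399) (tt N2596 F69203) (tt N2494 F35400) (tt N2670 (iv F68848)) (tt N2493 (iv D10681)) (tt N2625 (iv F68854)))
theorem Q2749 : ∀ i, i < 2749 → P i := stepQ 2748 Q2748 (allL N2748 (tt N2935 (iv F45528)) (tt N2547 (iv F69275)) (tt N2748 F35401) (tt N2600 F68751) (tt N2625 (iv F68853)) (tt N2539 (iv F69280)) (tt N2503 F35402) (tt N2494 (iv D10682)))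
theorem Q2750 : ∀ i, i < 2750 → P i := stepQ 2749 Q2749 (allL N2749 (tt N2918 (iv F45442)) (tt N2497 F35403) (tt N2556 F35404) (tt N2936 D13898) (tt N2496 (iv D10683)) (tt N2937 D13899) (tt N2938 D13900) (tt N2930 (iv F45517)))
theorem Q2751 : ∀ i, i < 2751 → P i := stepQ 2750 Q2750 (allL N2750 (tt N2919 (iv F45445)) (tt N2498 F35405) (tt N2939 D13901) (tt N2906 (iv F45085)) (tt N2938 (iv F45544)) (tt N2925 (iv F45495)) (tt N2496 (iv D10684)) (tt N2940 D13902))
theorem Q2752 : ∀ i, i < 2752 → P i := stepQ 2751 Q2751 (allL N2751 (tt N2500 F35406) (tt N2936 (iv F45540)) (tt N2514 F35407) (tt N2497 (iv D10685)) (tt N2907 (iv F45088)) (tt N2660 (iv F68604)) (tt N2659 (iv F68605)) (tt N2932 (iv F45521)))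
theorem Q2753 : ∀ i, i < 2753 → P i := stepQ 2752 Q2752 (allL N2752 (tt N2501 F35408) (tt N2937 (iv F45541)) (tt N2499 F35409) (tt N2660 F68675) (tt N2927 (iv F45500)) (tt N2497 (iv D10686)) (tt N2658 (iv F68821)) (tt N2933 (iv F45524)))
theorem Q2754 : ∀ i, i < 2754 → P i := stepQ 2753 Q2753 (allL N2753 (tt N2502 F35410) (tt N2938 (iv F45543)) (tt N2530 F35411) (tt N2659 F68676) (tt N2498 F35412) (tt N2658 (iv F68820)) (tt N2497 (iv D10687)) (tt N2667 (iv F68824)))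
theorem Q2755 : ∀ i, i < 2755 → P i := stepQ 2754 Q2754 (allL N2754 (tt N2503 F35413) (tt N2940 (iv F45547)) (tt N2531 F35414) (tt N2910 (iv F45096)) (tt N2667 (iv F68823)) (tt N2929 (iv F45506)) (tt N2935 (iv F45530)) (tt N2498 (iv D10688)))
theorem Q2756 : ∀ i, i < 2756 → P i := stepQ 2755 Q2755 (allL N2755 (tt N2755 F35422) (tt N2505 F35423) (tt N2566 F35424) (tt N2941 D13912) (tt N2504 (iv D10693)) (tt N2942 D13913) (tt N2943 D13914) (tt N2512 F35425))
theorem Q2757 : ∀ i, i < 2757 → P i := stepQ 2756 Q2756 (allL N2756 (tt N2756 F35426) (tt N2506 F35427) (tt N2944 D13915) (tt N2912 (iv F45185)) (tt N2943 (iv F45577)) (tt N2756 F35428) (tt N2504 (iv D10694)) (tt N2945 D13916))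
theorem Q2758 : ∀ i, i < 2758 → P i := stepQ 2757 Q2757 (allL N2757 (tt N2508 F35429) (tt N2941 (iv F45568)) (tt N2932 (iv F45520)) (tt N2505 (iv D10695)) (tt N2686 F68511) (tt N2702 (iv F68609)) (tt N2685 (iv F68610)) (tt N2514 F35430))
theorem Q2759 : ∀ i, i < 2759 → P i := stepQ 2758 Q2758 (allL N2758 (tt N2509 F35431) (tt N2942 (iv F45571)) (tt N2507 F35432) (tt N2702 F68681) (tt N2758 F35433) (tt N2505 (iv D10696)) (tt N2706 (iv F68828)) (tt N2515 F35434))
theorem Q2760 : ∀ i, i < 2760 → P i := stepQ 2759 Q2759 (allL N2759 (tt N2510 F35435) (tt N2943 (iv F45576)) (tt N2759 F35436) (tt N2685 F68684) (tt N2506 F35437) (tt N2706 (iv F68827)) (tt N2505 (iv D10697)) (tt N2689 (iv F68833)))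
theorem Q2761 : ∀ i, i < 2761 → P i := stepQ 2760 Q2760 (allL N2760 (tt N2511 F35438) (tt N2945 (iv F45583)) (tt N2760 F35439) (tt N2678 F68687) (tt N2689 (iv F68832)) (tt N2760 F35440) (tt N2517 F35441) (tt N2506 (iv D10698)))
theorem Q2762 : ∀ i, i < 2762 → P i := stepQ 2761 Q2761 (allL N2761 (tt N2761 F35455) (tt N2514 F35456) (tt N2946 D13926) (tt N2512 (iv D10703)) (tt N2913 (iv F45214)) (tt N2699 (iv F68601)) (tt N2698 (iv F68602)) (tt N2941 (iv F45569)))
theorem Q2763 : ∀ i, i < 2763 → P i := stepQ 2762 Q2762 (allL N2762 (tt N2762 F35457) (tt N2515 F35458) (tt N2572 F35459) (tt N2699 F68664) (tt N2762 F35460) (tt N2512 (iv D10704)) (tt N2697 (iv F68813)) (tt N2942 (iv F45574)))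
theorem Q2764 : ∀ i, i < 2764 → P i := stepQ 2763 Q2763 (allL N2763 (tt N2763 F35461) (tt N2516 F35462) (tt N2763 F35463) (tt N2698 F68665) (tt N2513 F35464) (tt N2697 (iv F68812)) (tt N2512 (iv D10705)) (tt N2703 (iv F68816)))
theorem Q2765 : ∀ i, i < 2765 → P i := stepQ 2764 Q2764 (allL N2764 (tt N2764 F35465) (tt N2517 F35466) (tt N2764 F35467) (tt N2917 (iv F45229)) (tt N2703 (iv F68815)) (tt N2764 F35468) (tt N2945 (iv F45585)) (tt N2513 (iv D10706)))
theorem Q2766 : ∀ i, i < 2766 → P i := stepQ 2765 Q2765 (allL N2765 (tt N2765 F35492) (tt N2519 F35493) (tt N2574 F35494) (tt N2947 D13941) (tt N2518 (iv D10716)) (tt N2948 D13942) (tt N2949 D13943) (tt N2765 F35495))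
theorem Q2767 : ∀ i, i < 2767 → P i := stepQ 2766 Q2766 (allL N2766 (tt N2766 F35496) (tt N2520 F35497) (tt N2950 D13944) (tt N2766 F35498) (tt N2949 (iv F45667)) (tt N2527 F35499) (tt N2518 (iv D10717)) (tt N2951 D13945))
theorem Q2768 : ∀ i, i < 2768 → P i := stepQ 2767 Q2767 (allL N2767 (tt N2522 F35500) (tt N2947 (iv F45657)) (tt N2767 F35501) (tt N2519 (iv D10718)) (tt N2767 F35502) (tt N2570 (iv F69128)) (tt N2569 F69107) (tt N2767 F35503))
theorem Q2769 : ∀ i, i < 2769 → P i := stepQ 2768 Q2768 (allL N2768 (tt N2523 F35504) (tt N2948 (iv F45661)) (tt N2521 F35505) (tt N2570 (iv F69127)) (tt N2529 F35506) (tt N2519 (iv D10719)) (tt N2568 F69091) (tt N2768 F35507))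
theorem Q2770 : ∀ i, i < 2770 → P i := stepQ 2769 Q2769 (allL N2769 (tt N2524 F35508) (tt N2949 (iv F45666)) (tt N2928 (iv F45502)) (tt N2569 (iv F69074)) (tt N2520 F35509) (tt N2568 (iv F69062)) (tt N2519 (iv D10720)) (tt N2573 (iv F69076)))
theorem Q2771 : ∀ i, i < 2771 → P i := stepQ 2770 Q2770 (allL N2770 (tt N2525 F35510) (tt N2951 (iv F45672)) (tt N2929 (iv F45505)) (tt N2770 F35511) (tt N2573 (iv F69075)) (tt N2531 F35512) (tt N2770 F35513) (tt N2520 (iv D10721)))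
theorem Q2772 : ∀ i, i < 2772 → P i := stepQ 2771 Q2771 (allL N2771 (tt N2771 F35527) (tt N2528 F35528) (tt N2771 F35529) (tt N2526 (iv D10726)) (tt N2771 F35530) (tt N2672 (iv F69130)) (tt N2593 F69095) (tt N2771 F35531))
theorem Q2773 : ∀ i, i < 2773 → P i := stepQ 2772 Q2772 (allL N2772 (tt N2772 F35532) (tt N2529 F35533) (tt N2583 F35534) (tt N2672 (iv F69129)) (tt N2948 (iv F45663)) (tt N2526 (iv D10727)) (tt N2671 F69092) (tt N2772 F35535))
theorem Q2774 : ∀ i, i < 2774 → P i := stepQ 2773 Q2773 (allL N2773 (tt N2773 F35536) (tt N2530 F35537) (tt N2952 D13958) (tt N2593 (iv F69064)) (tt N2527 F35538) (tt N2671 (iv F69063)) (tt N2526 (iv D10728)) (tt N2592 (iv F69066)))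
theorem Q2775 : ∀ i, i < 2775 → P i := stepQ 2774 Q2774 (allL N2774 (tt N2774 F35539) (tt N2939 (iv F45545)) (tt N2527 (iv D10729)) (tt N2953 D13960) (tt N2952 (iv F45720)) (tt N2950 (iv F45669)) (tt N2585 F35540) (tt N2954 D13961))
theorem Q2776 : ∀ i, i < 2776 → P i := stepQ 2775 Q2775 (allL N2775 (tt N2775 F35541) (tt N2531 F35542) (tt N2954 (iv F45730)) (tt N2775 F35543) (tt N2592 (iv F69065)) (tt N2951 (iv F45674)) (tt N2775 F35544) (tt N2527 (iv D10730)))
theorem Q2777 : ∀ i, i < 2777 → P i := stepQ 2776 Q2776 (allL N2776 (tt N2556 F35780) (tt N2533 F35781) (tt N2918 (iv F45444)) (tt N2955 D14053) (tt N2532 (iv D10801)) (tt N2956 D14054) (tt N2957 D14055) (tt N2924 (iv F69713)))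
theorem Q2778 : ∀ i, i < 2778 → P i := stepQ 2777 Q2777 (allL N2777 (tt N2557 F35782) (tt N2534 F35783) (tt N2958 D14056) (tt N2647 F35784) (tt N2957 (iv F46038)) (tt N2931 (iv F69510)) (tt N2532 (iv D10802)) (tt N2959 D14057))
theorem Q2779 : ∀ i, i < 2779 → P i := stepQ 2778 Q2778 (allL N2778 (tt N2536 F35785) (tt N2955 (iv F46032)) (tt N2778 F35786) (tt N2533 (iv D10803)) (tt N2648 F35787) (tt N2960 D14058) (tt N2961 D14059) (tt N2926 (iv F69570)))
theorem Q2780 : ∀ i, i < 2780 → P i := stepQ 2779 Q2779 (allL N2779 (tt N2537 F35788) (tt N2956 (iv F46035)) (tt N2535 F35789) (tt N2960 (iv F46046)) (tt N2933 F69373) (tt N2533 (iv D10804)) (tt N2962 D14060) (tt N2927 (iv F69521)))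
theorem Q2781 : ∀ i, i < 2781 → P i := stepQ 2780 Q2780 (allL N2780 (tt N2538 F35790) (tt N2957 (iv F46037)) (tt N2780 F35791) (tt N2961 (iv F46048)) (tt N2534 F35792) (tt N2962 (iv F46052)) (tt N2533 (iv D10805)) (tt N2963 D14061))
theorem Q2782 : ∀ i, i < 2782 → P i := stepQ 2781 Q2781 (allL N2781 (tt N2539 F35793) (tt N2959 (iv F46042)) (tt N2781 F35794) (tt N2651 F35795) (tt N2963 (iv F46055)) (tt N2935 F69344) (tt N2929 F69345) (tt N2534 (iv D10806)))
theorem Q2783 : ∀ i, i < 2783 → P i := stepQ 2782 Q2782 (allL N2782 (tt N2960 (iv F46044)) (tt N2562 F35796) (tt N2782 F35797) (tt N2537 F35798) (tt N2555 F69440) (tt N2536 (iv D10807)) (tt N2565 F69441) (tt N2554 (iv F69564)))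
theorem Q2784 : ∀ i, i < 2784 → P i := stepQ 2783 Q2783 (allL N2783 (tt N2961 (iv F46047)) (tt N2563 F35799) (tt N2589 (iv F69302)) (tt N2538 F35800) (tt N2653 F35801) (tt N2565 (iv F69288)) (tt N2536 (iv D10808)) (tt N2564 (iv F69286)))
theorem Q2785 : ∀ i, i < 2785 → P i := stepQ 2784 Q2784 (allL N2784 (tt N2962 (iv F46050)) (tt N2564 F35802) (tt N2784 F35803) (tt N2565 (iv F69287)) (tt N2670 F69211) (tt N2538 F35804) (tt N2537 (iv D10809)) (tt N2563 F69212))
theorem Q2786 : ∀ i, i < 2786 → P i := stepQ 2785 Q2785 (allL N2785 (tt N2963 (iv F46053)) (tt N2565 F35805) (tt N2785 F35806) (tt N2564 (iv F69285)) (tt N2539 F35807) (tt N2563 F69210) (tt N2562 (iv F69306)) (tt N2538 (iv D10810)))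
theorem Q2787 : ∀ i, i < 2787 → P i := stepQ 2786 Q2786 (allL N2786 (tt N2930 F69603) (tt N2541 F35835) (tt N2924 (iv F45493)) (tt N2964 D14077) (tt N2540 (iv D10819)) (tt N2965 D14078) (tt N2966 D14079) (tt N2918 F69604))
theorem Q2788 : ∀ i, i < 2788 → P i := stepQ 2787 Q2787 (allL N2787 (tt N2931 (iv F69508)) (tt N2542 F35836) (tt N2967 D14080) (tt N2632 F67748) (tt N2966 (iv F46109)) (tt N2557 F35838) (tt N2540 (iv D10820)) (tt N2968 D14081))
theorem Q2789 : ∀ i, i < 2789 → P i := stepQ 2788 Q2788 (allL N2788 (tt N2544 F35839) (tt N2964 (iv F46104)) (tt N2788 F35840) (tt N2541 (iv D10821)) (tt N2608 F68020) (tt N2969 D14082) (tt N2607 F68021) (tt N2920 F69318))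
theorem Q2790 : ∀ i, i < 2790 → P i := stepQ 2789 Q2789 (allL N2789 (tt N2545 F35842) (tt N2965 (iv F46106)) (tt N2543 F35843) (tt N2969 (iv F46117)) (tt N2559 F35844) (tt N2541 (iv D10822)) (tt N2970 D14084) (tt N2921 (iv F69571)))
theorem Q2791 : ∀ i, i < 2791 → P i := stepQ 2790 Q2790 (allL N2790 (tt N2546 F35845) (tt N2966 (iv F46108)) (tt N2578 F35846) (tt N2607 (iv F67914)) (tt N2542 F35847) (tt N2970 (iv F46124)) (tt N2541 (iv D10823)) (tt N2971 D14085))
theorem Q2792 : ∀ i, i < 2792 → P i := stepQ 2791 Q2791 (allL N2791 (tt N2547 F35848) (tt N2968 (iv F46112)) (tt N2579 F35849) (tt N2628 F67749) (tt N2971 (iv F46127)) (tt N2561 F35851) (tt N2923 F69376) (tt N2542 (iv D10824)))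
theorem Q2793 : ∀ i, i < 2793 → P i := stepQ 2792 Q2792 (allL N2792 (tt N2969 (iv F46115)) (tt N2662 F69209) (tt N2792 F35852) (tt N2545 F35853) (tt N2645 (iv F69283)) (tt N2544 (iv D10825)) (tt N2610 F68027) (tt N2644 (iv F69304)))
theorem Q2794 : ∀ i, i < 2794 → P i := stepQ 2793 Q2793 (allL N2793 (tt N2970 (iv F46121)) (tt N2670 F69207) (tt N2581 F35856) (tt N2610 (iv F67926)) (tt N2564 F35857) (tt N2546 F35858) (tt N2545 (iv D10827)) (tt N2653 F69208))
theorem Q2795 : ∀ i, i < 2795 → P i := stepQ 2794 Q2794 (allL N2794 (tt N2971 (iv F46125)) (tt N2625 F69200) (tt N2582 F35859) (tt N2604 (iv F67927)) (tt N2547 F35860) (tt N2653 F69201) (tt N2652 F69202) (tt N2546 (iv D10828)))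
theorem Q2796 : ∀ i, i < 2796 → P i := stepQ 2795 Q2795 (allL N2795 (tt N2924 (iv F69712)) (tt N2549 F35861) (tt N2930 (iv F45516)) (tt N2972 D14091) (tt N2548 (iv D10829)) (tt N2973 D14092) (tt N2974 D14093) (tt N2556 F35862))
theorem Q2797 : ∀ i, i < 2797 → P i := stepQ 2796 Q2796 (allL N2796 (tt N2925 F69676) (tt N2550 F35863) (tt N2975 D14094) (tt N2657 F35864) (tt N2974 (iv F46147)) (tt N2919 F69677) (tt N2548 (iv D10830)) (tt N2976 D14095))
theorem Q2798 : ∀ i, i < 2798 → P i := stepQ 2797 Q2797 (allL N2797 (tt N2552 F35865) (tt N2972 (iv F46141)) (tt N2568 F35866) (tt N2549 (iv D10831)) (tt N2658 F35867) (tt N2928 F68911) (tt N2927 F68912) (tt N2558 F35868))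
theorem Q2799 : ∀ i, i < 2799 → P i := stepQ 2798 Q2798 (allL N2798 (tt N2553 F35869) (tt N2973 (iv F46144)) (tt N2551 F35870) (tt N2928 F68971) (tt N2921 F69637) (tt N2549 (iv D10832)) (tt N2926 F68972) (tt N2559 F35871))
theorem Q2800 : ∀ i, i < 2800 → P i := stepQ 2799 Q2799 (allL N2799 (tt N2554 F35872) (tt N2974 (iv F46146)) (tt N2799 F35873) (tt N2927 F68909) (tt N2550 F35874) (tt N2926 F68910) (tt N2549 (iv D10833)) (tt N2960 F69629))
theorem Q2801 : ∀ i, i < 2801 → P i := stepQ 2800 Q2800 (allL N2800 (tt N2555 F35875) (tt N2976 (iv F46149)) (tt N2800 F35876) (tt N2661 F35877) (tt N2960 (iv F69518)) (tt N2923 F69442) (tt N2561 F35878) (tt N2550 (iv D10834)))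
theorem Q2802 : ∀ i, i < 2802 → P i := stepQ 2801 Q2801 (allL N2801 (tt N2955 (iv F46031)) (tt N2558 F35889) (tt N2977 D14105) (tt N2556 (iv D10839)) (tt N2663 F35890) (tt N2978 D14106) (tt N2979 D14107) (tt N2972 (iv F46143)))
theorem Q2803 : ∀ i, i < 2803 → P i := stepQ 2802 Q2802 (allL N2802 (tt N2956 (iv F46034)) (tt N2559 F35891) (tt N2937 (iv F45542)) (tt N2978 (iv F46183)) (tt N2965 (iv F46107)) (tt N2556 (iv D10840)) (tt N2980 D14108) (tt N2973 (iv F46145)))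
theorem Q2804 : ∀ i, i < 2804 → P i := stepQ 2803 Q2803 (allL N2803 (tt N2957 (iv F46036)) (tt N2560 F35892) (tt N2981 D14109) (tt N2979 (iv F46185)) (tt N2557 F35893) (tt N2980 (iv F46188)) (tt N2556 (iv D10841)) (tt N2982 D14110))
theorem Q2805 : ∀ i, i < 2805 → P i := stepQ 2804 Q2804 (allL N2804 (tt N2958 (iv F46039)) (tt N2585 F35894) (tt N2557 (iv D10842)) (tt N2983 D14111) (tt N2981 (iv F46190)) (tt N2967 (iv F46111)) (tt N2939 (iv F45546)) (tt N2984 D14112))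
theorem Q2806 : ∀ i, i < 2806 → P i := stepQ 2805 Q2805 (allL N2805 (tt N2959 (iv F46041)) (tt N2561 F35895) (tt N2984 (iv F46196)) (tt N2666 F35896) (tt N2982 (iv F46192)) (tt N2968 (iv F46114)) (tt N2976 (iv F46151)) (tt N2557 (iv D10843)))
theorem Q2807 : ∀ i, i < 2807 → P i := stepQ 2806 Q2806 (allL N2806 (tt N2562 F35897) (tt N2978 (iv F46182)) (tt N2573 F35898) (tt N2559 F35899) (tt N2929 F68973) (tt N2558 (iv D10844)) (tt N2963 F69459) (tt N2928 F68974))
theorem Q2808 : ∀ i, i < 2808 → P i := stepQ 2807 Q2807 (allL N2807 (tt N2563 F35900) (tt N2979 (iv F46184)) (tt N2807 F35901) (tt N2560 F35902) (tt N2668 F35903) (tt N2963 (iv F69305)) (tt N2558 (iv D10845)) (tt N2962 (iv F69235)))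
theorem Q2809 : ∀ i, i < 2809 → P i := stepQ 2808 Q2808 (allL N2808 (tt N2564 F35904) (tt N2980 (iv F46187)) (tt N2587 F35905) (tt N2963 F69438) (tt N2970 (iv F46123)) (tt N2560 F35906) (tt N2559 (iv D10846)) (tt N2961 F69439))
theorem Q2810 : ∀ i, i < 2810 → P i := stepQ 2809 Q2809 (allL N2809 (tt N2565 F35907) (tt N2982 (iv F46191)) (tt N2588 F35908) (tt N2962 F69371) (tt N2561 F35909) (tt N2961 F69372) (tt N2960 (iv F69519)) (tt N2560 (iv D10847)))
theorem Q2811 : ∀ i, i < 2811 → P i := stepQ 2810 Q2810 (allL N2810 (tt N2810 F35920) (tt N2568 F35921) (tt N2985 D14119) (tt N2566 (iv D10852)) (tt N2671 F35922) (tt N2949 F69096) (tt N2948 (iv F69126)) (tt N2571 F35923))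
theorem Q2812 : ∀ i, i < 2812 → P i := stepQ 2811 Q2811 (allL N2811 (tt N2811 F35924) (tt N2569 F35925) (tt N2942 (iv F45572)) (tt N2949 F69104) (tt N2811 F35926) (tt N2566 (iv D10853)) (tt N2947 (iv F69133)) (tt N2572 F35927))
theorem Q2813 : ∀ i, i < 2813 → P i := stepQ 2812 Q2812 (allL N2812 (tt N2812 F35928) (tt N2570 F35929) (tt N2986 D14123) (tt N2948 F69143) (tt N2567 F35930) (tt N2947 F69144) (tt N2566 (iv D10854)) (tt N2812 F35931))
theorem Q2814 : ∀ i, i < 2814 → P i := stepQ 2813 Q2813 (allL N2813 (tt N2813 F35932) (tt N2813 F35933) (tt N2567 (iv D10855)) (tt N2813 F68309) (tt N2986 (iv F46236)) (tt N2813 F35934) (tt N2944 (iv F45581)) (tt N2813 F35935))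
theorem Q2815 : ∀ i, i < 2815 → P i := stepQ 2814 Q2814 (allL N2814 (tt N2814 F35959) (tt N2977 (iv F46180)) (tt N2571 (iv D10862)) (tt N2946 (iv F45615)) (tt N2673 F35960) (tt N2987 D14131) (tt N2988 D14132) (tt N2985 (iv F46219)))
theorem Q2816 : ∀ i, i < 2816 → P i := stepQ 2815 Q2815 (allL N2815 (tt N2815 F35961) (tt N2573 F35962) (tt N2987 (iv F46268)) (tt N2572 F35963) (tt N2951 F69105) (tt N2571 (iv D10863)) (tt N2815 F35964) (tt N2949 F69106))
theorem Q2817 : ∀ i, i < 2817 → P i := stepQ 2816 Q2816 (allL N2816 (tt N2816 F35969) (tt N2576 F35970) (tt N2989 D14134) (tt N2574 (iv D10865)) (tt N2590 F35971) (tt N2990 D14135) (tt N2617 F68227) (tt N2816 F35972))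
theorem Q2818 : ∀ i, i < 2818 → P i := stepQ 2817 Q2817 (allL N2817 (tt N2817 F35973) (tt N2577 F35974) (tt N2948 (iv F45662)) (tt N2990 (iv F46283)) (tt N2583 F35975) (tt N2574 (iv D10866)) (tt N2991 D14137) (tt N2817 F35976))
theorem Q2819 : ∀ i, i < 2819 → P i := stepQ 2818 Q2818 (allL N2818 (tt N2818 F35977) (tt N2578 F35978) (tt N2992 D14138) (tt N2617 (iv F68148)) (tt N2575 F35979) (tt N2991 (iv F46293)) (tt N2574 (iv D10867)) (tt N2993 D14139))
theorem Q2820 : ∀ i, i < 2820 → P i := stepQ 2819 Q2819 (allL N2819 (tt N2819 F35980) (tt N2967 (iv F46110)) (tt N2575 (iv D10868)) (tt N2673 (iv F68159)) (tt N2992 (iv F46295)) (tt N2585 F35981) (tt N2950 (iv F45670)) (tt N2994 D14141))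
theorem Q2821 : ∀ i, i < 2821 → P i := stepQ 2820 Q2820 (allL N2820 (tt N2820 F35982) (tt N2579 F35983) (tt N2994 (iv F46304)) (tt N2591 F35984) (tt N2993 (iv F46298)) (tt N2586 F35985) (tt N2820 F35986) (tt N2575 (iv D10869)))
theorem Q2822 : ∀ i, i < 2822 → P i := stepQ 2821 Q2821 (allL N2821 (tt N2580 F35987) (tt N2990 (iv F46282)) (tt N2821 F35988) (tt N2577 F35989) (tt N2821 F35990) (tt N2576 (iv D10870)) (tt N2618 F68228) (tt N2821 F35991))
theorem Q2823 : ∀ i, i < 2823 → P i := stepQ 2822 Q2822 (allL N2822 (tt N2581 F35995) (tt N2991 (iv F46291)) (tt N2970 (iv F46122)) (tt N2618 (iv F68149)) (tt N2587 F35996) (tt N2578 F35997) (tt N2577 (iv D10872)) (tt N2995 D14145))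
theorem Q2824 : ∀ i, i < 2824 → P i := stepQ 2823 Q2823 (allL N2823 (tt N2582 F35998) (tt N2993 (iv F46297)) (tt N2971 (iv F46126)) (tt N2614 (iv F68139)) (tt N2579 F35999) (tt N2995 (iv F46319)) (tt N2823 F36000) (tt N2578 (iv D10873)))
theorem Q2825 : ∀ i, i < 2825 → P i := stepQ 2824 Q2824 (allL N2824 (tt N2995 (iv F46317)) (tt N2824 F36011) (tt N2653 F69206) (tt N2616 (iv F68144)) (tt N2589 F36012) (tt N2582 F36013) (tt N2824 F36014) (tt N2581 (iv D10877)))
theorem Q2826 : ∀ i, i < 2826 → P i := stepQ 2825 Q2825 (allL N2825 (tt N2825 F36015) (tt N2587 F36016) (tt N2996 D14150) (tt N2825 F36017) (tt N2991 (iv F46292)) (tt N2584 F36018) (tt N2583 (iv D10878)) (tt N2997 D14151))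
theorem Q2827 : ∀ i, i < 2827 → P i := stepQ 2826 Q2826 (allL N2826 (tt N2826 F36019) (tt N2981 (iv F46189)) (tt N2584 (iv D10879)) (tt N2998 D14152) (tt N2585 F36020) (tt N2996 (iv F46335)) (tt N2952 (iv F45721)) (tt N2999 D14153))
theorem Q2828 : ∀ i, i < 2828 → P i := stepQ 2827 Q2827 (allL N2827 (tt N2827 F36021) (tt N2588 F36022) (tt N2999 (iv F46344)) (tt N2827 F36023) (tt N2586 F36024) (tt N2997 (iv F46339)) (tt N2827 F36025) (tt N2584 (iv D10880)))
theorem Q2829 : ∀ i, i < 2829 → P i := stepQ 2828 Q2828 (allL N2828 (tt N2828 F36026) (tt N2983 (iv F46193)) (tt N2592 F36027) (tt N2585 (iv D10881)) (tt N2954 F69089) (tt N2673 (iv F68160)) (tt N2953 (iv F45728)) (tt N2952 F69090))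
theorem Q2830 : ∀ i, i < 2830 → P i := stepQ 2829 Q2829 (allL N2829 (tt N2829 F36028) (tt N2984 (iv F46195)) (tt N2586 F36029) (tt N2952 F69087) (tt N2999 (iv F46345)) (tt N2994 (iv F46305)) (tt N2998 (iv F69124)) (tt N2585 (iv D10882)))
theorem Q2831 : ∀ i, i < 2831 → P i := stepQ 2830 Q2830 (allL N2830 (tt N2589 F36030) (tt N2997 (iv F46337)) (tt N2961 F69448) (tt N2830 F36031) (tt N2995 (iv F46318)) (tt N2588 F36032) (tt N2830 F36033) (tt N2587 (iv D10883)))
theorem Q2832 : ∀ i, i < 2832 → P i := stepQ 2831 Q2831 (allL N2831 (tt N2831 F36034) (tt N2831 F36035) (tt N2590 (iv D10884)) (tt N2831 F36036) (tt N2989 (iv F46279)) (tt N2831 F36037) (tt N2916 (iv F68294)) (tt N2831 F36038))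
theorem Q2833 : ∀ i, i < 2833 → P i := stepQ 2832 Q2832 (allL N2832 (tt N2606 F36344) (tt N2594 (iv D10986)) (tt N2654 (iv F69481)) (tt N2619 F36345) (tt N3000 D14299) (tt N2627 (iv F69475)) (tt N3001 D14300) (tt N2622 F69325))
theorem Q2834 : ∀ i, i < 2834 → P i := stepQ 2833 Q2833 (allL N2833 (tt N2596 F36346) (tt N3000 (iv F46786)) (tt N2595 F36347) (tt N2934 (iv F69228)) (tt N2594 (iv D10987)) (tt N2669 F69173) (tt N2932 (iv F69229)) (tt N2623 F69174))
theorem Q2835 : ∀ i, i < 2835 → P i := stepQ 2834 Q2834 (allL N2834 (tt N2597 F36348) (tt N3001 (iv F46788)) (tt N2686 (iv F69505)) (tt N2621 F36349) (tt N2932 F69330) (tt N2629 F69331) (tt N2594 (iv D10988)) (tt N2907 F69332))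
theorem Q2836 : ∀ i, i < 2836 → P i := stepQ 2835 Q2835 (allL N2835 (tt N2627 (iv F69474)) (tt N2598 (iv D11009)) (tt N2638 (iv F69500)) (tt N2622 F36407) (tt N3002 D14331) (tt N2606 F36408) (tt N3003 D14332) (tt N2619 (iv F69473)))
theorem Q2837 : ∀ i, i < 2837 → P i := stepQ 2836 Q2836 (allL N2836 (tt N2600 F36409) (tt N3002 (iv F46877)) (tt N2599 F36410) (tt N2935 (iv F68861)) (tt N2598 (iv D11010)) (tt N2651 F69326) (tt N2910 F68715) (tt N2620 F69327))
theorem Q2838 : ∀ i, i < 2838 → P i := stepQ 2837 Q2837 (allL N2837 (tt N2601 F36411) (tt N3003 (iv F46878)) (tt N2837 F36412) (tt N2624 F36413) (tt N2910 (iv F68632)) (tt N2608 F36414) (tt N2598 (iv D11011)) (tt N2909 F68554))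
theorem Q2839 : ∀ i, i < 2839 → P i := stepQ 2838 Q2838 (allL N2838 (tt N2622 F69324) (tt N2602 (iv D11031)) (tt N2636 (iv F69480)) (tt N2627 F36466) (tt N3004 D14361) (tt N2619 (iv F69472)) (tt N3005 D14362) (tt N2606 F36467))
theorem Q2840 : ∀ i, i < 2840 → P i := stepQ 2839 Q2839 (allL N2839 (tt N2604 F36468) (tt N3004 (iv F46956)) (tt N2603 F36469) (tt N2971 F68059) (tt N2602 (iv D11032)) (tt N2650 F69198) (tt N2649 F69199) (tt N2607 F36470))
theorem Q2841 : ∀ i, i < 2841 → P i := stepQ 2840 Q2840 (allL N2840 (tt N2605 F36471) (tt N3005 (iv F46958)) (tt N2637 (iv F69243)) (tt N2629 F36472) (tt N2649 F69214) (tt N2621 (iv F69308)) (tt N2602 (iv D11033)) (tt N2908 F68550))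
theorem Q2842 : ∀ i, i < 2842 → P i := stepQ 2841 Q2841 (allL N2841 (tt N3000 (iv F46785)) (tt N2607 F36484) (tt N2905 (iv F45083)) (tt N2966 F68057) (tt N2606 (iv D11039)) (tt N3006 D14372) (tt N2964 (iv F68167)) (tt N3004 (iv F46957)))
theorem Q2843 : ∀ i, i < 2843 → P i := stepQ 2842 Q2842 (allL N2842 (tt N3001 (iv F46787)) (tt N2608 F36485) (tt N3007 D14374) (tt N2633 F36486) (tt N2964 (iv F68166)) (tt N3003 (iv F46880)) (tt N2606 (iv D11040)) (tt N3008 D14375))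
theorem Q2844 : ∀ i, i < 2844 → P i := stepQ 2843 Q2843 (allL N2843 (tt N2610 F36490) (tt N3006 (iv F46982)) (tt N2609 F36491) (tt N2970 F68058) (tt N2651 (iv F69279)) (tt N2607 (iv D11042)) (tt N2969 (iv F68169)) (tt N2650 F69205))
theorem Q2845 : ∀ i, i < 2845 → P i := stepQ 2844 Q2844 (allL N2844 (tt N2611 F36495) (tt N3008 (iv F46986)) (tt N2844 F36496) (tt N2634 F36497) (tt N2920 F69319) (tt N2909 F68546) (tt N2908 F68547) (tt N2608 (iv D11044)))
theorem Q2846 : ∀ i, i < 2846 → P i := stepQ 2845 Q2845 (allL N2845 (tt N2845 F36573) (tt N2614 F36574) (tt N2911 (iv F45181)) (tt N2993 F68230) (tt N2613 (iv D11069)) (tt N3009 D14413) (tt N2845 F68297) (tt N2617 F36575))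
theorem Q2847 : ∀ i, i < 2847 → P i := stepQ 2846 Q2846 (allL N2846 (tt N2616 F36583) (tt N3009 (iv F47106)) (tt N2615 F36584) (tt N2995 F68232) (tt N2846 F36585) (tt N2614 (iv D11072)) (tt N2846 F68298) (tt N2618 F36586))
theorem Q2848 : ∀ i, i < 2848 → P i := stepQ 2847 Q2847 (allL N2847 (tt N2847 F36608) (tt N2618 F36609) (tt N2914 (iv F45217)) (tt N2991 F68239) (tt N2847 F36610) (tt N2617 (iv D11080)) (tt N2990 (iv F68295)) (tt N3009 (iv F47108)))
theorem Q2849 : ∀ i, i < 2849 → P i := stepQ 2848 Q2848 (allL N2848 (tt N2632 F36746) (tt N2620 F36747) (tt N2646 F36748) (tt N2931 (iv F69509)) (tt N2619 (iv D11123)) (tt N2647 F67746) (tt N2636 F67747) (tt N3002 (iv F69504)))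
theorem Q2850 : ∀ i, i < 2850 → P i := stepQ 2849 Q2849 (allL N2849 (tt N2633 F36749) (tt N2621 F36750) (tt N3004 F69333) (tt N3001 (iv F46789)) (tt N2636 F67781) (tt N3005 F69334) (tt N2619 (iv D11124)) (tt N2905 (iv F69491)))
theorem Q2851 : ∀ i, i < 2851 → P i := stepQ 2850 Q2850 (allL N2850 (tt N3004 (iv F69223)) (tt N2623 F36796) (tt N2633 (iv F67881)) (tt N3010 D14508) (tt N2622 (iv D11141)) (tt N2665 F67733) (tt N2664 F67734) (tt N3000 (iv F69227)))
theorem Q2852 : ∀ i, i < 2852 → P i := stepQ 2851 Q2851 (allL N2851 (tt N3005 (iv F69230)) (tt N2624 F36798) (tt N2665 (iv F67689)) (tt N3003 (iv F46879)) (tt N2664 F67751) (tt N2633 F36799) (tt N2622 (iv D11142)) (tt N3011 D14512))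
theorem Q2853 : ∀ i, i < 2853 → P i := stepQ 2852 Q2852 (allL N2852 (tt N2625 F36800) (tt N3010 (iv F47396)) (tt N2852 F36801) (tt N2623 (iv D11143)) (tt N2935 F68921) (tt N2668 F67735) (tt N2667 F67736) (tt N2934 F68922))
theorem Q2854 : ∀ i, i < 2854 → P i := stepQ 2853 Q2853 (allL N2853 (tt N2626 F36808) (tt N3011 (iv F47405)) (tt N2635 F36809) (tt N2909 F68505) (tt N2659 F67752) (tt N2634 F36810) (tt N2907 F68506) (tt N2624 (iv D11146)))
theorem Q2855 : ∀ i, i < 2855 → P i := stepQ 2854 Q2854 (allL N2854 (tt N3002 (iv F69501)) (tt N2628 F36819) (tt N2656 F36820) (tt N2968 (iv F67917)) (tt N2627 (iv D11151)) (tt N2666 (iv F67875)) (tt N3012 D14524) (tt N2632 F36821))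
theorem Q2856 : ∀ i, i < 2856 → P i := stepQ 2855 Q2855 (allL N2855 (tt N3003 F69349) (tt N2629 F36822) (tt N3013 D14525) (tt N3005 (iv F46959)) (tt N3012 (iv F47435)) (tt N3001 (iv F69488)) (tt N2627 (iv D11152)) (tt N3014 D14526))
theorem Q2857 : ∀ i, i < 2857 → P i := stepQ 2856 Q2856 (allL N2856 (tt N2630 F36829) (tt N3012 (iv F47434)) (tt N2693 F36830) (tt N2923 F69377) (tt N2629 F36831) (tt N2661 (iv F67876)) (tt N2628 (iv D11155)) (tt N2655 (iv F67884)))
theorem Q2858 : ∀ i, i < 2858 → P i := stepQ 2857 Q2857 (allL N2857 (tt N2631 F36832) (tt N3014 (iv F47438)) (tt N2694 F36833) (tt N2908 F68503) (tt N2655 F68022) (tt N2907 F68504) (tt N2634 F36834) (tt N2629 (iv D11156)))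
theorem Q2859 : ∀ i, i < 2859 → P i := stepQ 2858 Q2858 (allL N2858 (tt N2905 (iv F69490)) (tt N2634 F36851) (tt N3000 F69320) (tt N3008 (iv F46987)) (tt N2654 F68018) (tt N3011 (iv F47406)) (tt N3014 (iv F47439)) (tt N2633 (iv D11165)))
theorem Q2860 : ∀ i, i < 2860 → P i := stepQ 2859 Q2859 (allL N2859 (tt N2656 F37225) (tt N2639 F37226) (tt N3002 (iv F69502)) (tt N3015 D14698) (tt N2638 (iv D11286)) (tt N3016 D14699) (tt N3017 D14700) (tt N2646 F37227))
theorem Q2861 : ∀ i, i < 2861 → P i := stepQ 2860 Q2860 (allL N2860 (tt N2657 F37228) (tt N2640 F37229) (tt N3018 D14701) (tt N2925 F69614) (tt N3017 (iv F47967)) (tt N2906 F69615) (tt N2638 (iv D11287)) (tt N3019 D14702))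
theorem Q2862 : ∀ i, i < 2862 → P i := stepQ 2861 Q2861 (allL N2861 (tt N2642 F37230) (tt N3015 (iv F47960)) (tt N2861 F37231) (tt N2639 (iv D11288)) (tt N2926 (iv F69569)) (tt N2922 F68930) (tt N2921 F68931) (tt N2648 F37232))
theorem Q2863 : ∀ i, i < 2863 → P i := stepQ 2862 Q2862 (allL N2862 (tt N2643 F37233) (tt N3016 (iv F47963)) (tt N2641 F37234) (tt N2922 (iv F68836)) (tt N2908 (iv F69314)) (tt N2639 (iv D11289)) (tt N2920 F68689) (tt N2649 F37235))
theorem Q2864 : ∀ i, i < 2864 → P i := stepQ 2863 Q2863 (allL N2863 (tt N2644 F37236) (tt N3017 (iv F47966)) (tt N2863 F37237) (tt N2921 (iv F68835)) (tt N2640 F37238) (tt N2920 F68688) (tt N2639 (iv D11290)) (tt N2969 F69451))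
theorem Q2865 : ∀ i, i < 2865 → P i := stepQ 2864 Q2864 (allL N2864 (tt N2645 F37239) (tt N3019 (iv F47971)) (tt N2864 F37240) (tt N2929 F69357) (tt N2969 F69358) (tt N2910 F69359) (tt N2651 F37241) (tt N2640 (iv D11291)))
theorem Q2866 : ∀ i, i < 2866 → P i := stepQ 2865 Q2865 (allL N2865 (tt N2663 F37255) (tt N2648 F37256) (tt N3020 D14712) (tt N2646 (iv D11296)) (tt N2955 (iv F46033)) (tt N3021 D14713) (tt N3022 D14714) (tt N3015 (iv F47961)))
theorem Q2867 : ∀ i, i < 2867 → P i := stepQ 2866 Q2866 (allL N2866 (tt N2664 F37257) (tt N2649 F37258) (tt N2647 F67773) (tt N3021 (iv F48005)) (tt N3005 (iv F69231)) (tt N2646 (iv D11297)) (tt N3004 (iv F69225)) (tt N3016 (iv F47964)))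
theorem Q2868 : ∀ i, i < 2868 → P i := stepQ 2867 Q2867 (allL N2867 (tt N2665 F37259) (tt N2650 F37260) (tt N3005 F69348) (tt N3022 (iv F48008)) (tt N2647 F37261) (tt N3004 (iv F69224)) (tt N2646 (iv D11298)) (tt N3006 (iv F69233)))
theorem Q2869 : ∀ i, i < 2869 → P i := stepQ 2868 Q2868 (allL N2868 (tt N2666 F37264) (tt N2651 F37265) (tt N3016 (iv F67951)) (tt N2959 (iv F46043)) (tt N3006 F69364) (tt N3002 (iv F69503)) (tt N3019 (iv F47972)) (tt N2647 (iv D11300)))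
theorem Q2870 : ∀ i, i < 2870 → P i := stepQ 2869 Q2869 (allL N2869 (tt N2652 F37266) (tt N3021 (iv F48004)) (tt N2869 F37267) (tt N2649 F37268) (tt N2923 F68934) (tt N2648 (iv D11301)) (tt N2971 (iv F69297)) (tt N2922 F68935))
theorem Q2871 : ∀ i, i < 2871 → P i := stepQ 2870 Q2870 (allL N2870 (tt N2653 F37269) (tt N3022 (iv F48007)) (tt N2995 (iv F69300)) (tt N2650 F37270) (tt N2961 (iv F46049)) (tt N2971 (iv F69296)) (tt N2648 (iv D11302)) (tt N2970 (iv F69301)))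
theorem Q2872 : ∀ i, i < 2872 → P i := stepQ 2871 Q2871 (allL N2871 (tt N2906 F69608) (tt N2655 F37292) (tt N3023 D14732) (tt N2919 F69609) (tt N3014 (iv F68168)) (tt N2657 F37293) (tt N2654 (iv D11311)) (tt N3012 F68019))
theorem Q2873 : ∀ i, i < 2873 → P i := stepQ 2872 Q2872 (allL N2872 (tt N3015 (iv F47959)) (tt N2658 F37349) (tt N3024 D14761) (tt N2656 (iv D11334)) (tt N2972 (iv F46142)) (tt N2938 F68897) (tt N2937 F68898) (tt N2663 F37350))
theorem Q2874 : ∀ i, i < 2874 → P i := stepQ 2873 Q2873 (allL N2873 (tt N3016 (iv F47962)) (tt N2659 F37351) (tt N2666 (iv F67874)) (tt N2938 (iv F68819)) (tt N3011 (iv F67921)) (tt N2656 (iv D11335)) (tt N2936 F68671) (tt N2664 F37352))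
theorem Q2875 : ∀ i, i < 2875 → P i := stepQ 2874 Q2874 (allL N2874 (tt N3017 (iv F47965)) (tt N2660 F37353) (tt N3025 D14765) (tt N2937 (iv F68818)) (tt N2657 F37354) (tt N2936 F68670) (tt N2656 (iv D11336)) (tt N3026 D14766))
theorem Q2876 : ∀ i, i < 2876 → P i := stepQ 2875 Q2875 (allL N2875 (tt N3018 (iv F47968)) (tt N2700 F37355) (tt N2657 (iv D11337)) (tt N3027 D14767) (tt N3025 (iv F48140)) (tt N3023 (iv F48056)) (tt N3013 (iv F47437)) (tt N3028 D14768))
theorem Q2877 : ∀ i, i < 2877 → P i := stepQ 2876 Q2876 (allL N2876 (tt N3019 (iv F47970)) (tt N2661 F37356) (tt N3028 (iv F48146)) (tt N2976 (iv F46150)) (tt N3026 (iv F48142)) (tt N3012 F68011) (tt N2666 F37357) (tt N2657 (iv D11338)))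
theorem Q2878 : ∀ i, i < 2878 → P i := stepQ 2877 Q2877 (allL N2877 (tt N2662 F37367) (tt N3026 (iv F48141)) (tt N2702 F37368) (tt N2933 (iv F68822)) (tt N2661 F37369) (tt N2932 F68677) (tt N2669 F37370) (tt N2660 (iv D11342)))
theorem Q2879 : ∀ i, i < 2879 → P i := stepQ 2878 Q2878 (allL N2878 (tt N3020 (iv F48001)) (tt N2673 F37382) (tt N2663 (iv D11348)) (tt N2967 F68015) (tt N2977 (iv F46181)) (tt N2983 F68016) (tt N3029 D14780) (tt N3024 (iv F48131)))
theorem Q2880 : ∀ i, i < 2880 → P i := stepQ 2879 Q2879 (allL N2879 (tt N3021 (iv F48003)) (tt N2667 F37383) (tt N2983 (iv F67952)) (tt N2664 F37384) (tt N2940 F68907) (tt N2663 (iv D11349)) (tt N3010 (iv F67896)) (tt N2938 F68908))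
theorem Q2881 : ∀ i, i < 2881 → P i := stepQ 2880 Q2880 (allL N2880 (tt N3022 (iv F48006)) (tt N2668 F37385) (tt N3030 D14783) (tt N2665 F37386) (tt N2979 (iv F46186)) (tt N3010 (iv F67895)) (tt N2663 (iv D11350)) (tt N3031 D14784))
theorem Q2882 : ∀ i, i < 2882 → P i := stepQ 2881 Q2881 (allL N2881 (tt N3006 (iv F69232)) (tt N2669 F37391) (tt N3011 F67850) (tt N3031 (iv F48184)) (tt N2666 F37392) (tt N3000 (iv F69226)) (tt N3026 (iv F48143)) (tt N2665 (iv D11353)))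
theorem Q2883 : ∀ i, i < 2883 → P i := stepQ 2882 Q2882 (allL N2882 (tt N2670 F37402) (tt N3031 (iv F48183)) (tt N2882 F37403) (tt N2669 F37404) (tt N2962 (iv F69234)) (tt N2934 F68916) (tt N2933 F68917) (tt N2668 (iv D11358)))
theorem Q2884 : ∀ i, i < 2884 → P i := stepQ 2883 Q2883 (allL N2883 (tt N2883 F37413) (tt N3024 (iv F48130)) (tt N2671 (iv D11362)) (tt N2994 F68248) (tt N2985 (iv F46218)) (tt N2952 F69088) (tt N2996 (iv F69125)) (tt N2673 F37414))
theorem Q2885 : ∀ i, i < 2885 → P i := stepQ 2884 Q2884 (allL N2884 (tt N2884 F37458) (tt N3029 (iv F48177)) (tt N2884 F37459) (tt N2950 F68246) (tt N2988 (iv F46271)) (tt N2953 F68247) (tt N2673 (iv D11375)) (tt N3032 D14811))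
theorem Q2886 : ∀ i, i < 2886 → P i := stepQ 2885 Q2885 (allL N2885 (tt N2885 F37693) (tt N2674 (iv D11445)) (tt N2885 F37694) (tt N2684 F69617) (tt N2912 (iv F69717)) (tt N2680 (iv F69710)) (tt N2911 (iv F69716)) (tt N2677 F69618))
theorem Q2887 : ∀ i, i < 2887 → P i := stepQ 2886 Q2886 (allL N2886 (tt N2886 F40348) (tt N2678 F40349) (tt N2886 F40350) (tt N2945 (iv F68834)) (tt N2677 (iv D12298)) (tt N2886 F68203) (tt N2917 F68685) (tt N2912 F68686))
theorem Q2888 : ∀ i, i < 2888 → P i := stepQ 2887 Q2887 (allL N2887 (tt N2887 F40351) (tt N2679 F40352) (tt N3033 D16004) (tt N2688 F40353) (tt N2917 (iv F68612)) (tt N2682 F40354) (tt N2677 (iv D12299)) (tt N2915 F68516))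
theorem Q2889 : ∀ i, i < 2889 → P i := stepQ 2888 Q2888 (allL N2888 (tt N2888 F40446) (tt N2681 F40447) (tt N3009 (iv F68611)) (tt N2692 F40448) (tt N2888 F68312) (tt N2911 F68514) (tt N2680 (iv D12329)) (tt N2914 F68515))
theorem Q2890 : ∀ i, i < 2890 → P i := stepQ 2889 Q2889 (allL N2889 (tt N2889 F40482) (tt N2889 F40483) (tt N2682 (iv D12341)) (tt N3034 D16062) (tt N2889 F68267) (tt N3033 (iv F51955)) (tt N2889 F40484) (tt N3035 D16063))
theorem Q2891 : ∀ i, i < 2891 → P i := stepQ 2890 Q2890 (allL N2890 (tt N2890 F40485) (tt N2683 F40486) (tt N3035 (iv F52143)) (tt N2695 F40487) (tt N2890 F68269) (tt N2915 F68512) (tt N2914 F68513) (tt N2682 (iv D12342)))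
theorem Q2892 : ∀ i, i < 2892 → P i := stepQ 2891 Q2891 (allL N2891 (tt N2891 F40705) (tt N2685 F40706) (tt N2695 (iv F68173)) (tt N2943 (iv F68817)) (tt N2684 (iv D12410)) (tt N2705 F68041) (tt N2941 F68667) (tt N2687 F40708))
theorem Q2893 : ∀ i, i < 2893 → P i := stepQ 2892 Q2892 (allL N2892 (tt N2892 F40709) (tt N2686 F40710) (tt N3036 D16155) (tt N2911 F68498) (tt N2941 (iv F68603)) (tt N2692 F40711) (tt N2684 (iv D12411)) (tt N2913 F68499))
theorem Q2894 : ∀ i, i < 2894 → P i := stepQ 2893 Q2893 (allL N2893 (tt N2893 F40736) (tt N2689 F40737) (tt N3034 (iv F68192)) (tt N2687 (iv D12420)) (tt N2945 F68891) (tt N2704 F68043) (tt N2703 F68044) (tt N2943 F68892))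
theorem Q2895 : ∀ i, i < 2895 → P i := stepQ 2894 Q2894 (allL N2894 (tt N2894 F40749) (tt N2690 F40750) (tt N2705 (iv F67987)) (tt N2915 F68496) (tt N2698 F68084) (tt N2695 F40751) (tt N2913 F68497) (tt N2688 (iv D12424)))
theorem Q2896 : ∀ i, i < 2896 → P i := stepQ 2895 Q2895 (allL N2895 (tt N2895 F40785) (tt N2693 F40786) (tt N3037 D16188) (tt N2895 F68200) (tt N2692 F40787) (tt N2701 (iv F68164)) (tt N2691 (iv D12436)) (tt N2696 (iv F68172)))
theorem Q2897 : ∀ i, i < 2897 → P i := stepQ 2896 Q2896 (allL N2896 (tt N2896 F40788) (tt N3013 (iv F47436)) (tt N2692 (iv D12437)) (tt N3038 D16190) (tt N3037 (iv F52540)) (tt N3036 (iv F52435)) (tt N2700 F40789) (tt N3039 D16191))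
theorem Q2898 : ∀ i, i < 2898 → P i := stepQ 2897 Q2897 (allL N2897 (tt N2897 F40790) (tt N2694 F40791) (tt N3039 (iv F52549)) (tt N2914 F68494) (tt N2696 F68263) (tt N2913 F68495) (tt N2695 F40792) (tt N2692 (iv D12438)))
theorem Q2899 : ∀ i, i < 2899 → P i := stepQ 2898 Q2898 (allL N2898 (tt N2898 F41182) (tt N3023 (iv F48055)) (tt N2696 (iv D12571)) (tt N3040 D16362) (tt N3039 (iv F68311)) (tt N2700 F41183) (tt N3036 (iv F52436)) (tt N3037 (iv F68199)))
theorem Q2900 : ∀ i, i < 2900 → P i := stepQ 2899 Q2899 (allL N2899 (tt N2899 F41298) (tt N3025 (iv F48139)) (tt N2699 (iv D12604)) (tt N2987 (iv F68810)) (tt N2700 F41299) (tt N2946 F68662) (tt N3037 (iv F52541)) (tt N3041 D16408))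
theorem Q2901 : ∀ i, i < 2901 → P i := stepQ 2900 Q2900 (allL N2900 (tt N2900 F41300) (tt N2702 F41301) (tt N3041 (iv F53206)) (tt N2942 (iv F68814)) (tt N2701 F41302) (tt N2941 F68666) (tt N2705 F41303) (tt N2699 (iv D12605)))
theorem Q2902 : ∀ i, i < 2902 → P i := stepQ 2901 Q2901 (allL N2901 (tt N2901 F41304) (tt N3027 (iv F48144)) (tt N2901 F41305) (tt N2700 (iv D12606)) (tt N3032 (iv F69059)) (tt N3040 (iv F53049)) (tt N3038 (iv F52547)) (tt N2988 F68888))
theorem Q2903 : ∀ i, i < 2903 → P i := stepQ 2902 Q2902 (allL N2902 (tt N2902 F41306) (tt N3028 (iv F48145)) (tt N2701 F41307) (tt N2988 (iv F68811)) (tt N3041 (iv F53207)) (tt N3037 (iv F68198)) (tt N2946 F68663) (tt N2700 (iv D12607)))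
theorem Q2904 : ∀ i, i < 2904 → P i := stepQ 2903 Q2903 (allL N2903 (tt N2903 F41353) (tt N2903 F41354) (tt N2704 (iv D12622)) (tt N3033 (iv F68202)) (tt N2903 F41355) (tt N3034 (iv F68183)) (tt N2903 F68310) (tt N3042 D16431))
theorem Q2905 : ∀ i, i < 2905 → P i := stepQ 2904 Q2904 (allL N2904 (tt N2904 F41356) (tt N2706 F41357) (tt N3042 (iv F53281)) (tt N2705 F41358) (tt N2904 F41359) (tt N2943 F68889) (tt N2942 F68890) (tt N2704 (iv D12623)))
theorem Q2906 : ∀ i, i < 2906 → P i := stepQ 2905 Q2905 (allL N2905 (tt N2858 F69490) (tt N2708 F45082) (tt N2841 F45083) (tt N3043 D17858) (tt N2707 (iv D13750)) (tt N3044 D17859) (tt N3045 D17860) (tt N2849 F69491))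
theorem Q2907 : ∀ i, i < 2907 → P i := stepQ 2906 Q2906 (allL N2906 (tt N2871 (iv F69608)) (tt N2709 F45084) (tt N3046 D17861) (tt N2750 F45085) (tt N3045 (iv F57941)) (tt N2860 (iv F69615)) (tt N2707 (iv D13751)) (tt N3047 D17862))
theorem Q2908 : ∀ i, i < 2908 → P i := stepQ 2907 Q2907 (allL N2907 (tt N2711 F45086) (tt N3043 (iv F57936)) (tt N2721 F45087) (tt N2708 (iv D13752)) (tt N2751 F45088) (tt N2857 (iv F68504)) (tt N2853 (iv F68506)) (tt N2834 (iv F69332)))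
theorem Q2909 : ∀ i, i < 2909 → P i := stepQ 2908 Q2908 (allL N2908 (tt N2712 F45089) (tt N3044 (iv F57938)) (tt N2710 F45090) (tt N2857 (iv F68503)) (tt N2862 F69314) (tt N2708 (iv D13753)) (tt N2844 (iv F68547)) (tt N2840 (iv F68550)))
theorem Q2910 : ∀ i, i < 2910 → P i := stepQ 2909 Q2909 (allL N2909 (tt N2713 F45091) (tt N3045 (iv F57940)) (tt N2909 F45092) (tt N2853 (iv F68505)) (tt N2709 F45093) (tt N2844 (iv F68546)) (tt N2708 (iv D13754)) (tt N2837 (iv F68554)))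
theorem Q2911 : ∀ i, i < 2911 → P i := stepQ 2910 Q2910 (allL N2910 (tt N2714 F45094) (tt N3047 (iv F57944)) (tt N2910 F45095) (tt N2754 F45096) (tt N2837 F68632) (tt N2864 (iv F69359)) (tt N2836 (iv F68715)) (tt N2709 (iv D13755)))
theorem Q2912 : ∀ i, i < 2912 → P i := stepQ 2911 Q2911 (allL N2911 (tt N2911 F45179) (tt N2716 F45180) (tt N2845 F45181) (tt N2892 (iv F68498)) (tt N2715 (iv D13780)) (tt N2888 (iv F68514)) (tt N2885 F69716) (tt N2719 F45182))
theorem Q2913 : ∀ i, i < 2913 → P i := stepQ 2912 Q2912 (allL N2912 (tt N2912 F45183) (tt N2717 F45184) (tt N2912 F68327) (tt N2756 F45185) (tt N2885 F69717) (tt N2912 F45186) (tt N2715 (iv D13781)) (tt N2886 (iv F68686)))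
theorem Q2914 : ∀ i, i < 2914 → P i := stepQ 2913 Q2913 (allL N2913 (tt N2913 F45212) (tt N2721 F45213) (tt N3048 D17913) (tt N2719 (iv D13790)) (tt N2761 F45214) (tt N2897 (iv F68495)) (tt N2894 (iv F68497)) (tt N2892 (iv F68499)))
theorem Q2915 : ∀ i, i < 2915 → P i := stepQ 2914 Q2914 (allL N2914 (tt N2914 F45215) (tt N2722 F45216) (tt N2847 F45217) (tt N2897 (iv F68494)) (tt N2914 F45218) (tt N2719 (iv D13791)) (tt N2890 (iv F68513)) (tt N2888 (iv F68515)))
theorem Q2916 : ∀ i, i < 2916 → P i := stepQ 2915 Q2915 (allL N2915 (tt N2915 F45219) (tt N2723 F45220) (tt N3049 D17917) (tt N2894 (iv F68496)) (tt N2720 F45221) (tt N2890 (iv F68512)) (tt N2719 (iv D13792)) (tt N2887 (iv F68516)))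
theorem Q2917 : ∀ i, i < 2917 → P i := stepQ 2916 Q2916 (allL N2916 (tt N2916 F45222) (tt N2916 F45223) (tt N2720 (iv D13793)) (tt N2916 F45224) (tt N3049 (iv F58129)) (tt N2916 F45225) (tt N2831 F68294) (tt N3050 D17919))
theorem Q2918 : ∀ i, i < 2918 → P i := stepQ 2917 Q2917 (allL N2917 (tt N2917 F45227) (tt N2724 F45228) (tt N3050 (iv F58136)) (tt N2764 F45229) (tt N2887 F68612) (tt N2917 F45230) (tt N2886 (iv F68685)) (tt N2720 (iv D13794)))
theorem Q2919 : ∀ i, i < 2919 → P i := stepQ 2918 Q2918 (allL N2918 (tt N2749 F45442) (tt N2726 F45443) (tt N2776 F45444) (tt N3051 D18007) (tt N2725 (iv D13860)) (tt N3052 D18008) (tt N3053 D18009) (tt N2786 (iv F69604)))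
theorem Q2920 : ∀ i, i < 2920 → P i := stepQ 2919 Q2919 (allL N2919 (tt N2750 F45445) (tt N2727 F45446) (tt N3054 D18010) (tt N2871 (iv F69609)) (tt N3053 (iv F58424)) (tt N2796 (iv F69677)) (tt N2725 (iv D13861)) (tt N3055 D18011))
theorem Q2921 : ∀ i, i < 2921 → P i := stepQ 2920 Q2920 (allL N2920 (tt N2729 F45447) (tt N3051 (iv F58418)) (tt N2920 F45448) (tt N2726 (iv D13862)) (tt N2844 (iv F69319)) (tt N2863 (iv F68688)) (tt N2862 (iv F68689)) (tt N2788 (iv F69318)))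
theorem Q2922 : ∀ i, i < 2922 → P i := stepQ 2921 Q2921 (allL N2921 (tt N2730 F45449) (tt N3052 (iv F58420)) (tt N2728 F45450) (tt N2863 F68835) (tt N2798 (iv F69637)) (tt N2726 (iv D13863)) (tt N2861 (iv F68931)) (tt N2789 F69571))
theorem Q2923 : ∀ i, i < 2923 → P i := stepQ 2922 Q2922 (allL N2922 (tt N2731 F45451) (tt N3053 (iv F58423)) (tt N2922 F45452) (tt N2862 F68836) (tt N2727 F45453) (tt N2861 (iv F68930)) (tt N2726 (iv D13864)) (tt N2869 (iv F68935)))
theorem Q2924 : ∀ i, i < 2924 → P i := stepQ 2923 Q2923 (allL N2923 (tt N2732 F45454) (tt N3055 (iv F58429)) (tt N2923 F45455) (tt N2856 (iv F69377)) (tt N2869 (iv F68934)) (tt N2800 (iv F69442)) (tt N2791 (iv F69376)) (tt N2727 (iv D13865)))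
theorem Q2925 : ∀ i, i < 2925 → P i := stepQ 2924 Q2924 (allL N2924 (tt N2795 F69712) (tt N2734 F45492) (tt N2786 F45493) (tt N3056 D18031) (tt N2733 (iv D13878)) (tt N3057 D18032) (tt N3058 D18033) (tt N2776 F69713))
theorem Q2926 : ∀ i, i < 2926 → P i := stepQ 2925 Q2925 (allL N2925 (tt N2796 (iv F69676)) (tt N2735 F45494) (tt N3059 D18034) (tt N2860 (iv F69614)) (tt N3058 (iv F58487)) (tt N2750 F45495) (tt N2733 (iv D13879)) (tt N3060 D18035))
theorem Q2927 : ∀ i, i < 2927 → P i := stepQ 2926 Q2926 (allL N2926 (tt N2737 F45496) (tt N3056 (iv F58482)) (tt N2926 F45497) (tt N2734 (iv D13880)) (tt N2861 F69569) (tt N2799 (iv F68910)) (tt N2798 (iv F68972)) (tt N2778 F69570))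
theorem Q2928 : ∀ i, i < 2928 → P i := stepQ 2927 Q2927 (allL N2927 (tt N2738 F45498) (tt N3057 (iv F58483)) (tt N2736 F45499) (tt N2799 (iv F68909)) (tt N2752 F45500) (tt N2734 (iv D13881)) (tt N2797 (iv F68912)) (tt N2779 F69521))
theorem Q2929 : ∀ i, i < 2929 → P i := stepQ 2928 Q2928 (allL N2928 (tt N2739 F45501) (tt N3058 (iv F58486)) (tt N2769 F45502) (tt N2798 (iv F68971)) (tt N2735 F45503) (tt N2797 (iv F68911)) (tt N2734 (iv D13882)) (tt N2806 (iv F68974)))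
theorem Q2930 : ∀ i, i < 2930 → P i := stepQ 2929 Q2929 (allL N2929 (tt N2740 F45504) (tt N3060 (iv F58491)) (tt N2770 F45505) (tt N2864 (iv F69357)) (tt N2806 (iv F68973)) (tt N2754 F45506) (tt N2781 (iv F69345)) (tt N2735 (iv D13883)))
theorem Q2931 : ∀ i, i < 2931 → P i := stepQ 2930 Q2930 (allL N2930 (tt N2786 (iv F69603)) (tt N2742 F45515) (tt N2795 F45516) (tt N3061 D18045) (tt N2741 (iv D13888)) (tt N3062 D18046) (tt N3063 D18047) (tt N2749 F45517))
theorem Q2932 : ∀ i, i < 2932 → P i := stepQ 2931 Q2931 (allL N2931 (tt N2787 F69508) (tt N2743 F45518) (tt N3064 D18048) (tt N2848 F69509) (tt N3063 (iv F58521)) (tt N2777 F69510) (tt N2741 (iv D13889)) (tt N3065 D18049))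
theorem Q2933 : ∀ i, i < 2933 → P i := stepQ 2932 Q2932 (allL N2932 (tt N2745 F45519) (tt N3061 (iv F58515)) (tt N2757 F45520) (tt N2742 (iv D13890)) (tt N2834 (iv F69330)) (tt N2877 (iv F68677)) (tt N2833 F69229) (tt N2751 F45521))
theorem Q2934 : ∀ i, i < 2934 → P i := stepQ 2933 Q2933 (allL N2933 (tt N2746 F45522) (tt N3062 (iv F58517)) (tt N2744 F45523) (tt N2877 F68822) (tt N2779 (iv F69373)) (tt N2742 (iv D13891)) (tt N2882 (iv F68917)) (tt N2752 F45524))
theorem Q2935 : ∀ i, i < 2935 → P i := stepQ 2934 Q2934 (allL N2934 (tt N2747 F45525) (tt N3063 (iv F58520)) (tt N2934 F45526) (tt N2833 F69228) (tt N2743 F45527) (tt N2882 (iv F68916)) (tt N2742 (iv D13892)) (tt N2852 (iv F68922)))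
theorem Q2936 : ∀ i, i < 2936 → P i := stepQ 2935 Q2935 (allL N2935 (tt N2748 F45528) (tt N3065 (iv F58524)) (tt N2935 F45529) (tt N2836 F68861) (tt N2852 (iv F68921)) (tt N2781 (iv F69344)) (tt N2754 F45530) (tt N2743 (iv D13893)))
theorem Q2937 : ∀ i, i < 2937 → P i := stepQ 2936 Q2936 (allL N2936 (tt N3051 (iv F58417)) (tt N2751 F45540) (tt N3066 D18059) (tt N2749 (iv D13898)) (tt N3043 (iv F57937)) (tt N2874 (iv F68670)) (tt N2873 (iv F68671)) (tt N3061 (iv F58516)))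
theorem Q2938 : ∀ i, i < 2938 → P i := stepQ 2937 Q2937 (allL N2937 (tt N3052 (iv F58419)) (tt N2752 F45541) (tt N2802 F45542) (tt N2874 F68818) (tt N3057 (iv F58485)) (tt N2749 (iv D13899)) (tt N2872 (iv F68898)) (tt N3062 (iv F58519)))
theorem Q2939 : ∀ i, i < 2939 → P i := stepQ 2938 Q2938 (allL N2938 (tt N3053 (iv F58422)) (tt N2753 F45543) (tt N3067 D18063) (tt N2873 F68819) (tt N2750 F45544) (tt N2872 (iv F68897)) (tt N2749 (iv D13900)) (tt N2879 (iv F68908)))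
theorem Q2940 : ∀ i, i < 2940 → P i := stepQ 2939 Q2939 (allL N2939 (tt N3054 (iv F58425)) (tt N2774 F45545) (tt N2750 (iv D13901)) (tt N3068 D18065) (tt N3067 (iv F58559)) (tt N3059 (iv F58489)) (tt N2804 F45546) (tt N3069 D18066))
theorem Q2941 : ∀ i, i < 2941 → P i := stepQ 2940 Q2940 (allL N2940 (tt N3055 (iv F58428)) (tt N2754 F45547) (tt N3069 (iv F58566)) (tt N3047 (iv F57945)) (tt N2879 (iv F68907)) (tt N3060 (iv F58492)) (tt N3065 (iv F58525)) (tt N2750 (iv D13902)))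
theorem Q2942 : ∀ i, i < 2942 → P i := stepQ 2941 Q2941 (allL N2941 (tt N2941 F45567) (tt N2757 F45568) (tt N3070 D18077) (tt N2755 (iv D13912)) (tt N2892 F68603) (tt N2900 (iv F68666)) (tt N2891 (iv F68667)) (tt N2761 F45569))
theorem Q2943 : ∀ i, i < 2943 → P i := stepQ 2942 Q2942 (allL N2942 (tt N2942 F45570) (tt N2758 F45571) (tt N2811 F45572) (tt N2900 F68814) (tt N2942 F45573) (tt N2755 (iv D13913)) (tt N2904 (iv F68890)) (tt N2762 F45574))
theorem Q2944 : ∀ i, i < 2944 → P i := stepQ 2943 Q2943 (allL N2943 (tt N2943 F45575) (tt N2759 F45576) (tt N3071 D18081) (tt N2891 F68817) (tt N2756 F45577) (tt N2904 (iv F68889)) (tt N2755 (iv D13914)) (tt N2893 (iv F68892)))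
theorem Q2945 : ∀ i, i < 2945 → P i := stepQ 2944 Q2944 (allL N2944 (tt N2944 F45578) (tt N2944 F45579) (tt N2756 (iv D13915)) (tt N2944 F68343) (tt N3071 (iv F58606)) (tt N2944 F45580) (tt N2813 F45581) (tt N3072 D18084))
theorem Q2946 : ∀ i, i < 2946 → P i := stepQ 2945 Q2945 (allL N2945 (tt N2945 F45582) (tt N2760 F45583) (tt N3072 (iv F58618)) (tt N2886 F68834) (tt N2893 (iv F68891)) (tt N2945 F45584) (tt N2764 F45585) (tt N2756 (iv D13916)))
theorem Q2947 : ∀ i, i < 2947 → P i := stepQ 2946 Q2946 (allL N2946 (tt N2946 F45614) (tt N3066 (iv F58550)) (tt N2761 (iv D13926)) (tt N2814 F45615) (tt N3048 (iv F58115)) (tt N2899 (iv F68662)) (tt N2902 (iv F68663)) (tt N3070 (iv F58592)))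
theorem Q2948 : ∀ i, i < 2948 → P i := stepQ 2947 Q2947 (allL N2947 (tt N2947 F45656) (tt N2767 F45657) (tt N3073 D18114) (tt N2765 (iv D13941)) (tt N2947 F45658) (tt N2812 (iv F69144)) (tt N2811 F69133) (tt N2947 F45659))
theorem Q2949 : ∀ i, i < 2949 → P i := stepQ 2948 Q2948 (allL N2948 (tt N2948 F45660) (tt N2768 F45661) (tt N2817 F45662) (tt N2812 (iv F69143)) (tt N2772 F45663) (tt N2765 (iv D13942)) (tt N2810 F69126) (tt N2948 F45664))
theorem Q2950 : ∀ i, i < 2950 → P i := stepQ 2949 Q2949 (allL N2949 (tt N2949 F45665) (tt N2769 F45666) (tt N3074 D18118) (tt N2811 (iv F69104)) (tt N2766 F45667) (tt N2810 (iv F69096)) (tt N2765 (iv D13943)) (tt N2815 (iv F69106)))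
theorem Q2951 : ∀ i, i < 2951 → P i := stepQ 2950 Q2950 (allL N2950 (tt N2950 F45668) (tt N3059 (iv F58488)) (tt N2766 (iv D13944)) (tt N2884 (iv F68246)) (tt N3074 (iv F58719)) (tt N2774 F45669) (tt N2819 F45670) (tt N3075 D18121))
theorem Q2952 : ∀ i, i < 2952 → P i := stepQ 2951 Q2951 (allL N2951 (tt N2951 F45671) (tt N2770 F45672) (tt N3075 (iv F58730)) (tt N2951 F45673) (tt N2815 (iv F69105)) (tt N2775 F45674) (tt N2951 F45675) (tt N2766 (iv D13945)))
theorem Q2953 : ∀ i, i < 2953 → P i := stepQ 2952 Q2952 (allL N2952 (tt N2952 F45719) (tt N3067 (iv F58558)) (tt N2773 (iv D13958)) (tt N2829 (iv F69087)) (tt N2774 F45720) (tt N2883 (iv F69088)) (tt N2826 F45721) (tt N2828 (iv F69090)))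
theorem Q2954 : ∀ i, i < 2954 → P i := stepQ 2953 Q2953 (allL N2953 (tt N2953 F45726) (tt N3068 (iv F58563)) (tt N2953 F45727) (tt N2774 (iv D13960)) (tt N3076 D18140) (tt N2884 (iv F68247)) (tt N2828 F45728) (tt N3077 D18141))
theorem Q2955 : ∀ i, i < 2955 → P i := stepQ 2954 Q2954 (allL N2954 (tt N2954 F45729) (tt N3069 (iv F58565)) (tt N2775 F45730) (tt N3077 (iv F58800)) (tt N2828 (iv F69089)) (tt N3075 (iv F58731)) (tt N3076 (iv F69101)) (tt N2774 (iv D13961)))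
theorem Q2956 : ∀ i, i < 2956 → P i := stepQ 2955 Q2955 (allL N2955 (tt N2801 F46031) (tt N2778 F46032) (tt N3078 D18262) (tt N2776 (iv D14053)) (tt N2865 F46033) (tt N3079 D18263) (tt N3080 D18264) (tt N3056 (iv F69695)))
theorem Q2957 : ∀ i, i < 2957 → P i := stepQ 2956 Q2956 (allL N2956 (tt N2802 F46034) (tt N2779 F46035) (tt N3052 (iv F58421)) (tt N3079 (iv F59202)) (tt N3062 (iv F69375)) (tt N2776 (iv D14054)) (tt N3081 D18265) (tt N3057 (iv F69635)))
theorem Q2958 : ∀ i, i < 2958 → P i := stepQ 2957 Q2957 (allL N2957 (tt N2803 F46036) (tt N2780 F46037) (tt N3082 D18266) (tt N3080 (iv F59205)) (tt N2777 F46038) (tt N3081 (iv F59209)) (tt N2776 (iv D14055)) (tt N3083 D18267))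
theorem Q2959 : ∀ i, i < 2959 → P i := stepQ 2958 Q2958 (allL N2958 (tt N2804 F46039) (tt N2958 F46040) (tt N2777 (iv D14056)) (tt N3084 D18268) (tt N3082 (iv F59212)) (tt N3064 (iv F69622)) (tt N3054 (iv F58427)) (tt N3085 D18269))
theorem Q2960 : ∀ i, i < 2960 → P i := stepQ 2959 Q2959 (allL N2959 (tt N2805 F46041) (tt N2781 F46042) (tt N3085 (iv F59221)) (tt N2868 F46043) (tt N3083 (iv F59215)) (tt N3065 (iv F69343)) (tt N3060 (iv F69469)) (tt N2777 (iv D14057)))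
theorem Q2961 : ∀ i, i < 2961 → P i := stepQ 2960 Q2960 (allL N2960 (tt N2782 F46044) (tt N3079 (iv F59201)) (tt N2960 F46045) (tt N2779 F46046) (tt N2800 F69518) (tt N2778 (iv D14058)) (tt N2809 F69519) (tt N2799 (iv F69629)))
theorem Q2962 : ∀ i, i < 2962 → P i := stepQ 2961 Q2961 (allL N2961 (tt N2783 F46047) (tt N3080 (iv F59204)) (tt N2830 (iv F69448)) (tt N2780 F46048) (tt N2870 F46049) (tt N2809 (iv F69372)) (tt N2778 (iv D14059)) (tt N2808 (iv F69439)))
theorem Q2963 : ∀ i, i < 2963 → P i := stepQ 2962 Q2962 (allL N2962 (tt N2784 F46050) (tt N3081 (iv F59208)) (tt N2962 F46051) (tt N2809 (iv F69371)) (tt N2882 F69234) (tt N2780 F46052) (tt N2779 (iv D14060)) (tt N2807 F69235))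
theorem Q2964 : ∀ i, i < 2964 → P i := stepQ 2963 Q2963 (allL N2963 (tt N2785 F46053) (tt N3083 (iv F59214)) (tt N2963 F46054) (tt N2808 (iv F69438)) (tt N2781 F46055) (tt N2807 F69305) (tt N2806 (iv F69459)) (tt N2780 (iv D14061)))
theorem Q2965 : ∀ i, i < 2965 → P i := stepQ 2964 Q2964 (allL N2964 (tt N3061 (iv F69340)) (tt N2788 F46104) (tt N3086 D18293) (tt N2786 (iv D14077)) (tt N2842 F68166) (tt N3087 D18294) (tt N2841 F68167) (tt N3051 (iv F69466)))
theorem Q2966 : ∀ i, i < 2966 → P i := stepQ 2965 Q2965 (allL N2965 (tt N3062 (iv F69374)) (tt N2789 F46106) (tt N3057 (iv F58484)) (tt N3087 (iv F59300)) (tt N2802 F46107) (tt N2786 (iv D14078)) (tt N3088 D18296) (tt N3052 (iv F69697)))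
theorem Q2967 : ∀ i, i < 2967 → P i := stepQ 2966 Q2966 (allL N2966 (tt N3063 (iv F69338)) (tt N2790 F46108) (tt N3089 D18297) (tt N2841 (iv F68057)) (tt N2787 F46109) (tt N3088 (iv F59306)) (tt N2786 (iv D14079)) (tt N3090 D18298))
theorem Q2968 : ∀ i, i < 2968 → P i := stepQ 2967 Q2967 (allL N2967 (tt N3064 (iv F69620)) (tt N2819 F46110) (tt N2787 (iv D14080)) (tt N2878 (iv F68015)) (tt N3089 (iv F59308)) (tt N2804 F46111) (tt N3059 (iv F58490)) (tt N3091 D18300))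
theorem Q2969 : ∀ i, i < 2969 → P i := stepQ 2968 Q2968 (allL N2968 (tt N3065 (iv F69342)) (tt N2791 F46112) (tt N3091 (iv F59315)) (tt N2854 F67917) (tt N3090 (iv F59310)) (tt N2805 F46114) (tt N3055 (iv F69464)) (tt N2787 (iv D14081)))
theorem Q2970 : ∀ i, i < 2970 → P i := stepQ 2969 Q2969 (allL N2969 (tt N2792 F46115) (tt N3087 (iv F59299)) (tt N2969 F46116) (tt N2789 F46117) (tt N2864 (iv F69358)) (tt N2788 (iv D14082)) (tt N2843 F68169) (tt N2863 (iv F69451)))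
theorem Q2971 : ∀ i, i < 2971 → P i := stepQ 2970 Q2970 (allL N2970 (tt N2793 F46121) (tt N3088 (iv F59304)) (tt N2822 F46122) (tt N2843 (iv F68058)) (tt N2808 F46123) (tt N2790 F46124) (tt N2789 (iv D14084)) (tt N2870 F69301))
theorem Q2972 : ∀ i, i < 2972 → P i := stepQ 2971 Q2971 (allL N2971 (tt N2794 F46125) (tt N3090 (iv F59309)) (tt N2823 F46126) (tt N2839 (iv F68059)) (tt N2791 F46127) (tt N2870 F69296) (tt N2869 F69297) (tt N2790 (iv D14085)))
theorem Q2973 : ∀ i, i < 2973 → P i := stepQ 2972 Q2972 (allL N2972 (tt N3056 (iv F69693)) (tt N2797 F46141) (tt N3092 D18311) (tt N2795 (iv D14091)) (tt N2872 F46142) (tt N3058 (iv F68969)) (tt N3057 (iv F68896)) (tt N2801 F46143))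
theorem Q2974 : ∀ i, i < 2974 → P i := stepQ 2973 Q2973 (allL N2973 (tt N3057 (iv F69634)) (tt N2798 F46144) (tt N3062 (iv F58518)) (tt N3058 (iv F68968)) (tt N3052 (iv F69696)) (tt N2795 (iv D14092)) (tt N3056 (iv F69005)) (tt N2802 F46145))
theorem Q2975 : ∀ i, i < 2975 → P i := stepQ 2974 Q2974 (allL N2974 (tt N3058 (iv F69702)) (tt N2799 F46146) (tt N3093 D18315) (tt N3057 (iv F68895)) (tt N2796 F46147) (tt N3056 (iv F69004)) (tt N2795 (iv D14093)) (tt N3079 (iv F69628)))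
theorem Q2976 : ∀ i, i < 2976 → P i := stepQ 2975 Q2975 (allL N2975 (tt N3059 (iv F69704)) (tt N2975 F46148) (tt N2796 (iv D14094)) (tt N3094 D18317) (tt N3093 (iv F59361)) (tt N3054 (iv F69703)) (tt N3064 (iv F58523)) (tt N3095 D18318))
theorem Q2977 : ∀ i, i < 2977 → P i := stepQ 2976 Q2976 (allL N2976 (tt N3060 (iv F69467)) (tt N2800 F46149) (tt N3095 (iv F59368)) (tt N2876 F46150) (tt N3079 (iv F69626)) (tt N3055 (iv F69463)) (tt N2805 F46151) (tt N2796 (iv D14095)))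
theorem Q2978 : ∀ i, i < 2978 → P i := stepQ 2977 Q2977 (allL N2977 (tt N3078 (iv F59197)) (tt N2814 F46180) (tt N2801 (iv D14105)) (tt N3066 (iv F58551)) (tt N2878 F46181) (tt N3096 D18329) (tt N3097 D18330) (tt N3092 (iv F59351)))
theorem Q2979 : ∀ i, i < 2979 → P i := stepQ 2978 Q2978 (allL N2978 (tt N3079 (iv F59200)) (tt N2806 F46182) (tt N3096 (iv F59404)) (tt N2802 F46183) (tt N3060 (iv F68965)) (tt N2801 (iv D14106)) (tt N3083 (iv F69458)) (tt N3058 (iv F68970)))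
theorem Q2980 : ∀ i, i < 2980 → P i := stepQ 2979 Q2979 (allL N2979 (tt N3080 (iv F59203)) (tt N2807 F46184) (tt N3098 D18333) (tt N2803 F46185) (tt N2880 F46186) (tt N3083 (iv F69457)) (tt N2801 (iv D14107)) (tt N3081 (iv F69370)))
theorem Q2981 : ∀ i, i < 2981 → P i := stepQ 2980 Q2980 (allL N2980 (tt N3081 (iv F59207)) (tt N2808 F46187) (tt N3099 D18335) (tt N3083 (iv F69456)) (tt N3088 (iv F59305)) (tt N2803 F46188) (tt N2802 (iv D14108)) (tt N3080 (iv F69450)))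
theorem Q2982 : ∀ i, i < 2982 → P i := stepQ 2981 Q2981 (allL N2981 (tt N3082 (iv F59210)) (tt N2826 F46189) (tt N2803 (iv D14109)) (tt N3100 D18337) (tt N2804 F46190) (tt N3099 (iv F59418)) (tt N3067 (iv F58560)) (tt N3101 D18338))
theorem Q2983 : ∀ i, i < 2983 → P i := stepQ 2982 Q2982 (allL N2982 (tt N3083 (iv F59213)) (tt N2809 F46191) (tt N3101 (iv F59423)) (tt N3081 (iv F69368)) (tt N2805 F46192) (tt N3080 (iv F69449)) (tt N3079 (iv F69627)) (tt N2803 (iv D14110)))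
theorem Q2984 : ∀ i, i < 2984 → P i := stepQ 2983 Q2983 (allL N2983 (tt N3084 (iv F59216)) (tt N2828 F46193) (tt N2879 F67952) (tt N2804 (iv D14111)) (tt N3069 (iv F68964)) (tt N2878 (iv F68016)) (tt N3068 (iv F58564)) (tt N3067 (iv F68906)))
theorem Q2985 : ∀ i, i < 2985 → P i := stepQ 2984 Q2984 (allL N2984 (tt N3085 (iv F59219)) (tt N2829 F46195) (tt N2805 F46196) (tt N3067 (iv F68904)) (tt N3101 (iv F59424)) (tt N3091 (iv F59316)) (tt N3100 (iv F69134)) (tt N2804 (iv D14112)))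
theorem Q2986 : ∀ i, i < 2986 → P i := stepQ 2985 Q2985 (allL N2985 (tt N2985 F46217) (tt N3092 (iv F59349)) (tt N2810 (iv D14119)) (tt N3070 (iv F58591)) (tt N2883 F46218) (tt N3074 (iv F69102)) (tt N3102 D18346) (tt N2814 F46219))
theorem Q2987 : ∀ i, i < 2987 → P i := stepQ 2986 Q2986 (allL N2986 (tt N2986 F46234) (tt N2986 F46235) (tt N2812 (iv D14123)) (tt N3103 D18351) (tt N2813 F46236) (tt N3073 (iv F69145)) (tt N3071 (iv F58607)) (tt N2986 F46237))
theorem Q2988 : ∀ i, i < 2988 → P i := stepQ 2987 Q2987 (allL N2987 (tt N2987 F46267) (tt N3096 (iv F59403)) (tt N2815 F46268) (tt N2899 F68810) (tt N3075 (iv F69100)) (tt N2814 (iv D14131)) (tt N3104 D18360) (tt N3074 (iv F69103)))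
theorem Q2989 : ∀ i, i < 2989 → P i := stepQ 2988 Q2988 (allL N2988 (tt N2988 F46269) (tt N3097 (iv F59405)) (tt N2988 F46270) (tt N2902 F68811) (tt N2884 F46271) (tt N3104 (iv F59500)) (tt N2814 (iv D14132)) (tt N2901 (iv F68888)))
theorem Q2990 : ∀ i, i < 2990 → P i := stepQ 2989 Q2989 (allL N2989 (tt N2989 F46277) (tt N2989 F46278) (tt N2816 (iv D14134)) (tt N3073 (iv F58703)) (tt N2831 F46279) (tt N3103 (iv F69147)) (tt N3049 (iv F68323)) (tt N2989 F46280))
theorem Q2991 : ∀ i, i < 2991 → P i := stepQ 2990 Q2990 (allL N2990 (tt N2990 F46281) (tt N2821 F46282) (tt N3103 (iv F69146)) (tt N2817 F46283) (tt N2990 F46284) (tt N2816 (iv D14135)) (tt N2847 F68295) (tt N2990 F46285))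
theorem Q2992 : ∀ i, i < 2992 → P i := stepQ 2991 Q2991 (allL N2991 (tt N2991 F46290) (tt N2822 F46291) (tt N3102 (iv F69139)) (tt N2847 (iv F68239)) (tt N2825 F46292) (tt N2818 F46293) (tt N2817 (iv D14137)) (tt N3105 D18368))
theorem Q2993 : ∀ i, i < 2993 → P i := stepQ 2992 Q2992 (allL N2992 (tt N2992 F46294) (tt N3089 (iv F59307)) (tt N2818 (iv D14138)) (tt N3048 (iv F68252)) (tt N2819 F46295) (tt N3102 (iv F69141)) (tt N3074 (iv F58720)) (tt N3106 D18370))
theorem Q2994 : ∀ i, i < 2994 → P i := stepQ 2993 Q2993 (allL N2993 (tt N2993 F46296) (tt N2823 F46297) (tt N3106 (iv F59534)) (tt N2845 (iv F68230)) (tt N2820 F46298) (tt N3105 (iv F59530)) (tt N2993 F46299) (tt N2818 (iv D14139)))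
theorem Q2995 : ∀ i, i < 2995 → P i := stepQ 2994 Q2994 (allL N2994 (tt N2994 F46303) (tt N3091 (iv F59314)) (tt N2820 F46304) (tt N2883 (iv F68248)) (tt N3106 (iv F59535)) (tt N2829 F46305) (tt N3107 D18373) (tt N2819 (iv D14141)))
theorem Q2996 : ∀ i, i < 2996 → P i := stepQ 2995 Q2995 (allL N2995 (tt N2824 F46317) (tt N3105 (iv F59528)) (tt N2870 F69300) (tt N2846 (iv F68232)) (tt N2830 F46318) (tt N2823 F46319) (tt N2995 F46320) (tt N2822 (iv D14145)))
theorem Q2997 : ∀ i, i < 2997 → P i := stepQ 2996 Q2996 (allL N2996 (tt N2996 F46334) (tt N3099 (iv F59417)) (tt N2825 (iv D14150)) (tt N3107 (iv F69136)) (tt N3102 (iv F69140)) (tt N2826 F46335) (tt N2883 F69125) (tt N3108 D18384))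
theorem Q2998 : ∀ i, i < 2998 → P i := stepQ 2997 Q2997 (allL N2997 (tt N2997 F46336) (tt N2830 F46337) (tt N3108 (iv F59579)) (tt N2997 F46338) (tt N3105 (iv F59529)) (tt N2827 F46339) (tt N2997 F46340) (tt N2825 (iv D14151)))
theorem Q2999 : ∀ i, i < 2999 → P i := stepQ 2998 Q2998 (allL N2998 (tt N2998 F46341) (tt N3100 (iv F59421)) (tt N2998 F46342) (tt N2826 (iv D14152)) (tt N3077 (iv F69099)) (tt N3107 (iv F69137)) (tt N2829 F69124) (tt N3076 (iv F69132)))
theorem Q3000 : ∀ i, i < 3000 → P i := stepQ 2999 Q2999 (allL N2999 (tt N2999 F46343) (tt N3101 (iv F59422)) (tt N2827 F46344) (tt N3076 (iv F69131)) (tt N2829 F46345) (tt N3108 (iv F59580)) (tt N3077 (iv F69135)) (tt N2826 (iv D14153)))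
theorem Q3001 : ∀ i, i < 3001 → P i := stepQ 3000 Q3000 (allL N3000 (tt N2841 F46785) (tt N2833 F46786) (tt N2858 (iv F69320)) (tt N3063 (iv F69339)) (tt N2832 (iv D14299)) (tt N2881 F69226) (tt N3061 (iv F69341)) (tt N2850 F69227))
theorem Q3002 : ∀ i, i < 3002 → P i := stepQ 3001 Q3001 (allL N3001 (tt N2842 F46787) (tt N2834 F46788) (tt N3109 D18588) (tt N2849 F46789) (tt N3061 F69487) (tt N2855 F69488) (tt N2832 (iv D14300)) (tt N3043 F69489))
theorem Q3003 : ∀ i, i < 3003 → P i := stepQ 3002 Q3002 (allL N3002 (tt N2854 F69501) (tt N2836 F46877) (tt N2859 F69502) (tt N3065 (iv F68966)) (tt N2835 (iv D14331)) (tt N2868 F69503) (tt N3047 (iv F68712)) (tt N2848 F69504))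
theorem Q3004 : ∀ i, i < 3004 → P i := stepQ 3003 Q3003 (allL N3003 (tt N2855 (iv F69349)) (tt N2837 F46878) (tt N3110 D18632) (tt N2851 F46879) (tt N3047 (iv F68711)) (tt N2842 F46880) (tt N2835 (iv D14332)) (tt N3045 (iv F68553)))
theorem Q3005 : ∀ i, i < 3005 → P i := stepQ 3004 Q3004 (allL N3004 (tt N2850 F69223) (tt N2839 F46956) (tt N2849 (iv F69333)) (tt N3090 (iv F68069)) (tt N2838 (iv D14361)) (tt N2867 F69224) (tt N2866 F69225) (tt N2841 F46957))
theorem Q3006 : ∀ i, i < 3006 → P i := stepQ 3005 Q3005 (allL N3005 (tt N2851 F69230) (tt N2840 F46958) (tt N2867 (iv F69348)) (tt N2855 F46959) (tt N2866 F69231) (tt N2849 (iv F69334)) (tt N2838 (iv D14362)) (tt N3044 (iv F68542)))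
theorem Q3007 : ∀ i, i < 3007 → P i := stepQ 3006 Q3006 (allL N3006 (tt N2881 F69232) (tt N2843 F46982) (tt N3044 (iv F57939)) (tt N3088 (iv F68068)) (tt N2868 (iv F69364)) (tt N2841 (iv D14372)) (tt N3087 (iv F68258)) (tt N2867 F69233))
theorem Q3008 : ∀ i, i < 3008 → P i := stepQ 3007 Q3007 (allL N3007 (tt N3109 (iv F60198)) (tt N3007 F46985) (tt N2842 (iv D14374)) (tt N3111 D18690) (tt N3086 (iv F68257)) (tt N3110 (iv F60323)) (tt N3046 (iv F57943)) (tt N3112 D18691))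
theorem Q3009 : ∀ i, i < 3009 → P i := stepQ 3008 Q3008 (allL N3008 (tt N3043 (iv F69361)) (tt N2844 F46986) (tt N3112 (iv F60478)) (tt N2858 F46987) (tt N3051 (iv F69465)) (tt N3045 (iv F68552)) (tt N3044 (iv F68541)) (tt N2842 (iv D14375)))
theorem Q3010 : ∀ i, i < 3010 → P i := stepQ 3009 Q3009 (allL N3009 (tt N3009 F47105) (tt N2846 F47106) (tt N2888 F68611) (tt N3105 (iv F68255)) (tt N3009 F47107) (tt N2845 (iv D14413)) (tt N3009 F68326) (tt N2847 F47108))
theorem Q3011 : ∀ i, i < 3011 → P i := stepQ 3010 Q3010 (allL N3010 (tt N3090 (iv F69335)) (tt N2852 F47396) (tt N3111 (iv F68054)) (tt N2850 (iv D14508)) (tt N3065 (iv F68967)) (tt N2880 F67895) (tt N2879 F67896) (tt N3063 (iv F68925)))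
theorem Q3012 : ∀ i, i < 3012 → P i := stepQ 3011 Q3011 (allL N3011 (tt N3044 (iv F69350)) (tt N2853 F47405) (tt N2881 (iv F67850)) (tt N3045 (iv F68551)) (tt N2873 F67921) (tt N2858 F47406) (tt N3043 (iv F68501)) (tt N2851 (iv D14512)))
theorem Q3013 : ∀ i, i < 3013 → P i := stepQ 3012 Q3012 (allL N3012 (tt N3047 (iv F69354)) (tt N2856 F47434) (tt N3113 D18890) (tt N3055 (iv F69462)) (tt N2855 F47435) (tt N2876 (iv F68011)) (tt N2854 (iv D14524)) (tt N2871 (iv F68019)))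
theorem Q3014 : ∀ i, i < 3014 → P i := stepQ 3013 Q3013 (allL N3013 (tt N3110 (iv F69352)) (tt N2896 F47436) (tt N2855 (iv D14525)) (tt N3114 D18892) (tt N3113 (iv F61081)) (tt N3109 (iv F69611)) (tt N2875 F47437) (tt N3115 D18893))
theorem Q3015 : ∀ i, i < 3015 → P i := stepQ 3014 Q3014 (allL N3014 (tt N3045 (iv F69356)) (tt N2857 F47438) (tt N3115 (iv F61089)) (tt N3044 (iv F68540)) (tt N2871 F68168) (tt N3043 (iv F68500)) (tt N2858 F47439) (tt N2855 (iv D14526)))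
theorem Q3016 : ∀ i, i < 3016 → P i := stepQ 3015 Q3015 (allL N3015 (tt N2872 F47959) (tt N2861 F47960) (tt N3116 D19114) (tt N2859 (iv D14698)) (tt N3056 (iv F69694)) (tt N3053 (iv F68902)) (tt N3052 (iv F68894)) (tt N2865 F47961))
theorem Q3017 : ∀ i, i < 3017 → P i := stepQ 3016 Q3016 (allL N3016 (tt N2873 F47962) (tt N2862 F47963) (tt N2868 F67951) (tt N3053 (iv F68901)) (tt N3044 (iv F69351)) (tt N2859 (iv D14699)) (tt N3051 (iv F68669)) (tt N2866 F47964))
theorem Q3018 : ∀ i, i < 3018 → P i := stepQ 3017 Q3017 (allL N3017 (tt N2874 F47965) (tt N2863 F47966) (tt N3117 D19118) (tt N3052 (iv F68893)) (tt N2860 F47967) (tt N3051 (iv F68668)) (tt N2859 (iv D14700)) (tt N3087 (iv F69367)))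
theorem Q3019 : ∀ i, i < 3019 → P i := stepQ 3018 Q3018 (allL N3018 (tt N2875 F47968) (tt N3018 F47969) (tt N2860 (iv D14701)) (tt N3118 D19120) (tt N3117 (iv F61764)) (tt N3046 (iv F69625)) (tt N3110 (iv F69353)) (tt N3119 D19121))
theorem Q3020 : ∀ i, i < 3020 → P i := stepQ 3019 Q3019 (allL N3019 (tt N2876 F47970) (tt N2864 F47971) (tt N3119 (iv F61773)) (tt N3060 (iv F69468)) (tt N3087 (iv F69366)) (tt N3047 (iv F69355)) (tt N2868 F47972) (tt N2860 (iv D14702)))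
theorem Q3021 : ∀ i, i < 3021 → P i := stepQ 3020 Q3020 (allL N3020 (tt N2878 F48001) (tt N3020 F48002) (tt N2865 (iv D14712)) (tt N3064 (iv F69621)) (tt N3078 (iv F59199)) (tt N3084 (iv F68115)) (tt N3094 (iv F69821)) (tt N3116 (iv F61751)))
theorem Q3022 : ∀ i, i < 3022 → P i := stepQ 3021 Q3021 (allL N3021 (tt N2879 F48003) (tt N2869 F48004) (tt N3084 (iv F68114)) (tt N2866 F48005) (tt N3055 (iv F68963)) (tt N2865 (iv D14713)) (tt N3090 (iv F69337)) (tt N3053 (iv F68903)))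
theorem Q3023 : ∀ i, i < 3023 → P i := stepQ 3022 Q3022 (allL N3022 (tt N2880 F48006) (tt N2870 F48007) (tt N3114 (iv F69819)) (tt N2867 F48008) (tt N3080 (iv F59206)) (tt N3090 (iv F69336)) (tt N2865 (iv D14714)) (tt N3088 (iv F69363)))
theorem Q3024 : ∀ i, i < 3024 → P i := stepQ 3023 Q3023 (allL N3023 (tt N3046 (iv F69624)) (tt N2898 F48055) (tt N2871 (iv D14732)) (tt N3120 D19160) (tt N3115 (iv F68260)) (tt N2875 F48056) (tt N3109 (iv F69612)) (tt N3113 (iv F68072)))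
theorem Q3025 : ∀ i, i < 3025 → P i := stepQ 3024 Q3024 (allL N3024 (tt N3116 (iv F61749)) (tt N2883 F48130) (tt N2872 (iv D14761)) (tt N3091 (iv F68067)) (tt N3092 (iv F59350)) (tt N3067 (iv F68905)) (tt N3099 (iv F69138)) (tt N2878 F48131))
theorem Q3026 : ∀ i, i < 3026 → P i := stepQ 3025 Q3025 (allL N3025 (tt N3117 (iv F61762)) (tt N2899 F48139) (tt N2874 (iv D14765)) (tt N3096 (iv F68885)) (tt N2875 F48140) (tt N3066 (iv F68660)) (tt N3113 (iv F61082)) (tt N3121 D19206))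
theorem Q3027 : ∀ i, i < 3027 → P i := stepQ 3026 Q3026 (allL N3026 (tt N3087 (iv F69365)) (tt N2877 F48141) (tt N3121 (iv F61992)) (tt N3062 (iv F68899)) (tt N2876 F48142) (tt N3061 (iv F68673)) (tt N2881 F48143) (tt N2874 (iv D14766)))
theorem Q3028 : ∀ i, i < 3028 → P i := stepQ 3027 Q3027 (allL N3027 (tt N3118 (iv F61769)) (tt N2901 F48144) (tt N3094 (iv F59366)) (tt N2875 (iv D14767)) (tt N3122 D19207) (tt N3120 (iv F61881)) (tt N3114 (iv F61087)) (tt N3097 (iv F68887)))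
theorem Q3029 : ∀ i, i < 3029 → P i := stepQ 3028 Q3028 (allL N3028 (tt N3119 (iv F61771)) (tt N2902 F48145) (tt N2876 F48146) (tt N3097 (iv F68886)) (tt N3121 (iv F61993)) (tt N3113 (iv F68071)) (tt N3066 (iv F68661)) (tt N2875 (iv D14768)))
theorem Q3030 : ∀ i, i < 3030 → P i := stepQ 3029 Q3029 (allL N3029 (tt N3094 (iv F69820)) (tt N2884 F48177) (tt N3118 (iv F69822)) (tt N3059 (iv F68066)) (tt N3097 (iv F59406)) (tt N3068 (iv F68117)) (tt N2878 (iv D14780)) (tt N3122 (iv F69086)))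
theorem Q3031 : ∀ i, i < 3031 → P i := stepQ 3030 Q3030 (allL N3030 (tt N3114 (iv F69818)) (tt N3030 F48182) (tt N2880 (iv D14783)) (tt N3110 (iv F68077)) (tt N3098 (iv F59413)) (tt N3111 (iv F68030)) (tt N3118 (iv F69823)) (tt N3123 D19229))
theorem Q3032 : ∀ i, i < 3032 → P i := stepQ 3031 Q3031 (allL N3031 (tt N3088 (iv F69362)) (tt N2882 F48183) (tt N3123 (iv F62048)) (tt N2881 F48184) (tt N3081 (iv F69369)) (tt N3063 (iv F68924)) (tt N3062 (iv F68900)) (tt N2880 (iv D14784)))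
theorem Q3033 : ∀ i, i < 3033 → P i := stepQ 3032 Q3032 (allL N3032 (tt N3032 F48256) (tt N3122 (iv F69085)) (tt N3032 F48257) (tt N3075 (iv F68253)) (tt N2901 F69059) (tt N3077 (iv F68283)) (tt N3108 (iv F69142)) (tt N2884 (iv D14811)))
theorem Q3034 : ∀ i, i < 3034 → P i := stepQ 3033 Q3033 (allL N3033 (tt N3033 F51953) (tt N3033 F51954) (tt N2887 (iv D16004)) (tt N2903 F68202) (tt N3050 F69802) (tt N2889 F51955) (tt N3033 F51956) (tt N3049 (iv F69801)))
theorem Q3035 : ∀ i, i < 3035 → P i := stepQ 3034 Q3034 (allL N3034 (tt N3034 F52137) (tt N3034 F52138) (tt N2893 F68192) (tt N2889 (iv D16062)) (tt N3072 (iv F69799)) (tt N2903 F68183) (tt N3034 F52140) (tt N3071 F69797))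
theorem Q3036 : ∀ i, i < 3036 → P i := stepQ 3035 Q3035 (allL N3035 (tt N3035 F52141) (tt N3035 F52142) (tt N2890 F52143) (tt N3071 (iv F69798)) (tt N3035 F68268) (tt N3049 F69800) (tt N3103 F69148) (tt N2889 (iv D16063)))
theorem Q3037 : ∀ i, i < 3037 → P i := stepQ 3036 Q3036 (allL N3036 (tt N3036 F52434) (tt N3109 (iv F69610)) (tt N2892 (iv D16155)) (tt N3106 (iv F69803)) (tt N3070 F69804) (tt N2896 F52435) (tt N2898 F52436) (tt N3048 F69807))
theorem Q3038 : ∀ i, i < 3038 → P i := stepQ 3037 Q3037 (allL N3037 (tt N3037 F52539) (tt N3113 (iv F61080)) (tt N2895 (iv D16188)) (tt N3104 F69825) (tt N2896 F52540) (tt N2902 F68198) (tt N2899 F52541) (tt N2898 F68199))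
theorem Q3039 : ∀ i, i < 3039 → P i := stepQ 3038 Q3038 (allL N3038 (tt N3038 F52546) (tt N3114 (iv F61086)) (tt N3105 (iv F69816)) (tt N2896 (iv D16190)) (tt N3108 (iv F69817)) (tt N3106 F69805) (tt N2901 F52547) (tt N3102 F69815))
theorem Q3040 : ∀ i, i < 3040 → P i := stepQ 3039 Q3039 (allL N3039 (tt N3039 F52548) (tt N3115 (iv F61088)) (tt N2897 F52549) (tt N3102 (iv F69813)) (tt N2898 F68311) (tt N3048 (iv F69808)) (tt N3070 F69812) (tt N2896 (iv D16191)))
theorem Q3041 : ∀ i, i < 3041 → P i := stepQ 3040 Q3040 (allL N3040 (tt N3040 F53047) (tt N3120 (iv F61880)) (tt N3040 F53048) (tt N2898 (iv D16362)) (tt N3107 F69814) (tt N2901 F53049) (tt N3106 F69806) (tt N3104 (iv F69824)))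
theorem Q3042 : ∀ i, i < 3042 → P i := stepQ 3041 Q3041 (allL N3041 (tt N3041 F53205) (tt N3121 (iv F61991)) (tt N2900 F53206) (tt N3074 F69810) (tt N2902 F53207) (tt N3070 (iv F69811)) (tt N3048 (iv F69809)) (tt N2899 (iv D16408)))
theorem Q3043 : ∀ i, i < 3043 → P i := stepQ 3042 Q3042 (allL N3042 (tt N3042 F53279) (tt N3042 F53280) (tt N2904 F53281) (tt N3049 (iv F69795)) (tt N3042 F53282) (tt N3071 (iv F69796)) (tt N3073 F69794) (tt N2903 (iv D16431)))
theorem Q3044 : ∀ i, i < 3044 → P i := stepQ 3043 Q3043 (allL N3043 (tt N3008 F69361) (tt N2907 F57936) (tt N3124 D20586) (tt N2905 (iv D17858)) (tt N2936 F57937) (tt N3014 F68500) (tt N3011 F68501) (tt N3001 (iv F69489)))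
theorem Q3045 : ∀ i, i < 3045 → P i := stepQ 3044 Q3044 (allL N3044 (tt N3011 F69350) (tt N2908 F57938) (tt N3006 F57939) (tt N3014 F68540) (tt N3016 F69351) (tt N2905 (iv D17859)) (tt N3008 F68541) (tt N3005 F68542))
theorem Q3046 : ∀ i, i < 3046 → P i := stepQ 3045 Q3045 (allL N3045 (tt N3014 F69356) (tt N2909 F57940) (tt N3125 D20587) (tt N3011 F68551) (tt N2906 F57941) (tt N3008 F68552) (tt N2905 (iv D17860)) (tt N3003 F68553))
theorem Q3047 : ∀ i, i < 3047 → P i := stepQ 3046 Q3046 (allL N3046 (tt N3023 F69624) (tt N3046 F57942) (tt N2906 (iv D17861)) (tt N3126 D20588) (tt N3125 (iv F69836)) (tt N3018 F69625) (tt N3007 F57943) (tt N3127 D20589))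
theorem Q3048 : ∀ i, i < 3048 → P i := stepQ 3047 Q3047 (allL N3047 (tt N3012 F69354) (tt N2910 F57944) (tt N3127 (iv F69847)) (tt N2940 F57945) (tt N3003 F68711) (tt N3019 F69355) (tt N3002 F68712) (tt N2906 (iv D17862)))
theorem Q3049 : ∀ i, i < 3049 → P i := stepQ 3048 Q3048 (allL N3048 (tt N3048 F58113) (tt N3124 (iv F69827)) (tt N2913 (iv D17913)) (tt N2992 F68252) (tt N2946 F58115) (tt N3039 F69808) (tt N3041 F69809) (tt N3036 (iv F69807)))
theorem Q3050 : ∀ i, i < 3050 → P i := stepQ 3049 Q3049 (allL N3049 (tt N3049 F58127) (tt N3049 F58128) (tt N2915 (iv D17917)) (tt N3042 F69795) (tt N2916 F58129) (tt N3035 (iv F69800)) (tt N2989 F68323) (tt N3033 F69801))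
theorem Q3051 : ∀ i, i < 3051 → P i := stepQ 3050 Q3050 (allL N3050 (tt N3050 F58134) (tt N3050 F58135) (tt N2917 F58136) (tt N3050 F58137) (tt N3033 (iv F69802)) (tt N3050 F58138) (tt N3050 F68324) (tt N2916 (iv D17919)))
theorem Q3052 : ∀ i, i < 3052 → P i := stepQ 3051 Q3051 (allL N3051 (tt N2936 F58417) (tt N2920 F58418) (tt N3128 D20590) (tt N2918 (iv D18007)) (tt N3008 F69465) (tt N3017 F68668) (tt N3016 F68669) (tt N2964 F69466))
theorem Q3053 : ∀ i, i < 3053 → P i := stepQ 3052 Q3052 (allL N3052 (tt N2937 F58419) (tt N2921 F58420) (tt N2956 F58421) (tt N3017 F68893) (tt N2973 F69696) (tt N2918 (iv D18008)) (tt N3015 F68894) (tt N2965 F69697))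
theorem Q3054 : ∀ i, i < 3054 → P i := stepQ 3053 Q3053 (allL N3053 (tt N2938 F58422) (tt N2922 F58423) (tt N3129 D20591) (tt N3016 F68901) (tt N2919 F58424) (tt N3015 F68902) (tt N2918 (iv D18009)) (tt N3021 F68903))
theorem Q3055 : ∀ i, i < 3055 → P i := stepQ 3054 Q3054 (allL N3054 (tt N2939 F58425) (tt N3054 F58426) (tt N2919 (iv D18010)) (tt N3130 D20592) (tt N3129 (iv F69861)) (tt N2975 F69703) (tt N2958 F58427) (tt N3131 D20593))
theorem Q3056 : ∀ i, i < 3056 → P i := stepQ 3055 Q3055 (allL N3055 (tt N2940 F58428) (tt N2923 F58429) (tt N3131 (iv F69872)) (tt N3012 F69462) (tt N3021 F68963) (tt N2976 F69463) (tt N2968 F69464) (tt N2919 (iv D18011)))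
theorem Q3057 : ∀ i, i < 3057 → P i := stepQ 3056 Q3056 (allL N3056 (tt N2972 F69693) (tt N2926 F58482) (tt N3132 D20594) (tt N2924 (iv D18031)) (tt N3015 F69694) (tt N2974 F69004) (tt N2973 F69005) (tt N2955 F69695))
theorem Q3058 : ∀ i, i < 3058 → P i := stepQ 3057 Q3057 (allL N3057 (tt N2973 F69634) (tt N2927 F58483) (tt N2965 F58484) (tt N2974 F68895) (tt N2937 F58485) (tt N2924 (iv D18032)) (tt N2972 F68896) (tt N2956 F69635))
theorem Q3059 : ∀ i, i < 3059 → P i := stepQ 3058 Q3058 (allL N3058 (tt N2974 F69702) (tt N2928 F58486) (tt N3133 D20595) (tt N2973 F68968) (tt N2925 F58487) (tt N2972 F68969) (tt N2924 (iv D18033)) (tt N2978 F68970))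
theorem Q3060 : ∀ i, i < 3060 → P i := stepQ 3059 Q3059 (allL N3059 (tt N2975 F69704) (tt N2950 F58488) (tt N2925 (iv D18034)) (tt N3029 F68066) (tt N3133 (iv F69885)) (tt N2939 F58489) (tt N2967 F58490) (tt N3134 D20596))
theorem Q3061 : ∀ i, i < 3061 → P i := stepQ 3060 Q3060 (allL N3060 (tt N2976 F69467) (tt N2929 F58491) (tt N3134 (iv F69891)) (tt N3019 F69468) (tt N2978 F68965) (tt N2940 F58492) (tt N2959 F69469) (tt N2925 (iv D18035)))
theorem Q3062 : ∀ i, i < 3062 → P i := stepQ 3061 Q3061 (allL N3061 (tt N2964 F69340) (tt N2932 F58515) (tt N3135 D20597) (tt N2930 (iv D18045)) (tt N3001 (iv F69487)) (tt N3026 F68673) (tt N3000 F69341) (tt N2936 F58516))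
theorem Q3063 : ∀ i, i < 3063 → P i := stepQ 3062 Q3062 (allL N3062 (tt N2965 F69374) (tt N2933 F58517) (tt N2973 F58518) (tt N3026 F68899) (tt N2956 F69375) (tt N2930 (iv D18046)) (tt N3031 F68900) (tt N2937 F58519))
theorem Q3064 : ∀ i, i < 3064 → P i := stepQ 3063 Q3063 (allL N3063 (tt N2966 F69338) (tt N2934 F58520) (tt N3136 D20598) (tt N3000 F69339) (tt N2931 F58521) (tt N3031 F68924) (tt N2930 (iv D18047)) (tt N3010 F68925))
theorem Q3065 : ∀ i, i < 3065 → P i := stepQ 3064 Q3064 (allL N3064 (tt N2967 F69620) (tt N3064 F58522) (tt N2931 (iv D18048)) (tt N3020 F69621) (tt N3136 (iv F69905)) (tt N2958 F69622) (tt N2975 F58523) (tt N3137 D20599))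
theorem Q3066 : ∀ i, i < 3066 → P i := stepQ 3065 Q3065 (allL N3065 (tt N2968 F69342) (tt N2935 F58524) (tt N3137 (iv F69911)) (tt N3002 F68966) (tt N3010 F68967) (tt N2959 F69343) (tt N2940 F58525) (tt N2931 (iv D18049)))
theorem Q3067 : ∀ i, i < 3067 → P i := stepQ 3066 Q3066 (allL N3066 (tt N3128 (iv F69851)) (tt N2946 F58550) (tt N2936 (iv D18059)) (tt N2977 F58551) (tt N3124 (iv F69829)) (tt N3025 F68660) (tt N3028 F68661) (tt N3135 (iv F69901)))
theorem Q3068 : ∀ i, i < 3068 → P i := stepQ 3067 Q3067 (allL N3067 (tt N3129 (iv F69858)) (tt N2952 F58558) (tt N2938 (iv D18063)) (tt N2984 F68904) (tt N2939 F58559) (tt N3024 F68905) (tt N2981 F58560) (tt N2983 F68906))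
theorem Q3069 : ∀ i, i < 3069 → P i := stepQ 3068 Q3068 (allL N3068 (tt N3130 (iv F69865)) (tt N2953 F58563) (tt N3126 (iv F69842)) (tt N2939 (iv D18065)) (tt N3138 D20600) (tt N3029 F68117) (tt N2983 F58564) (tt N3139 D20601))
theorem Q3070 : ∀ i, i < 3070 → P i := stepQ 3069 Q3069 (allL N3069 (tt N3131 (iv F69870)) (tt N2954 F58565) (tt N2940 F58566) (tt N3139 (iv F69920)) (tt N2983 F68964) (tt N3134 (iv F69894)) (tt N3138 (iv F69917)) (tt N2939 (iv D18066)))
theorem Q3071 : ∀ i, i < 3071 → P i := stepQ 3070 Q3070 (allL N3070 (tt N3070 F58590) (tt N3135 (iv F69896)) (tt N2941 (iv D18077)) (tt N2985 F58591) (tt N3036 (iv F69804)) (tt N3041 F69811) (tt N3039 (iv F69812)) (tt N2946 F58592))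
theorem Q3072 : ∀ i, i < 3072 → P i := stepQ 3071 Q3071 (allL N3071 (tt N3071 F58604) (tt N3071 F58605) (tt N2943 (iv D18081)) (tt N3035 F69798) (tt N2944 F58606) (tt N3042 F69796) (tt N2986 F58607) (tt N3034 (iv F69797)))
theorem Q3073 : ∀ i, i < 3073 → P i := stepQ 3072 Q3072 (allL N3072 (tt N3072 F58616) (tt N3072 F58617) (tt N2945 F58618) (tt N3072 F68413) (tt N3034 F69799) (tt N3072 F58619) (tt N3072 F58620) (tt N2944 (iv D18084)))
theorem Q3074 : ∀ i, i < 3074 → P i := stepQ 3073 Q3073 (allL N3073 (tt N3073 F58701) (tt N3073 F58702) (tt N2947 (iv D18114)) (tt N2989 F58703) (tt N3073 F58704) (tt N2986 F69145) (tt N3042 (iv F69794)) (tt N3073 F58705))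
theorem Q3075 : ∀ i, i < 3075 → P i := stepQ 3074 Q3074 (allL N3074 (tt N3074 F58718) (tt N3133 (iv F69883)) (tt N2949 (iv D18118)) (tt N3041 (iv F69810)) (tt N2950 F58719) (tt N2985 F69102) (tt N2992 F58720) (tt N2987 F69103))
theorem Q3076 : ∀ i, i < 3076 → P i := stepQ 3075 Q3075 (allL N3075 (tt N3075 F58729) (tt N3134 (iv F69890)) (tt N2951 F58730) (tt N3032 F68253) (tt N2987 F69100) (tt N2954 F58731) (tt N3140 D20602) (tt N2950 (iv D18121)))
theorem Q3077 : ∀ i, i < 3077 → P i := stepQ 3076 Q3076 (allL N3076 (tt N3076 F58795) (tt N3138 (iv F69915)) (tt N3076 F58796) (tt N2999 F69131) (tt N2953 (iv D18140)) (tt N3140 (iv F69928)) (tt N2954 F69101) (tt N2998 F69132))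
theorem Q3078 : ∀ i, i < 3078 → P i := stepQ 3077 Q3077 (allL N3077 (tt N3077 F58798) (tt N3139 (iv F69919)) (tt N3077 F58799) (tt N2954 F58800) (tt N2998 F69099) (tt N3032 F68283) (tt N2999 F69135) (tt N2953 (iv D18141)))
theorem Q3079 : ∀ i, i < 3079 → P i := stepQ 3078 Q3078 (allL N3078 (tt N2977 F59197) (tt N3078 F59198) (tt N2955 (iv D18262)) (tt N3128 (iv F69853)) (tt N3020 F59199) (tt N3141 D20603) (tt N3142 D20604) (tt N3132 (iv F69881)))
theorem Q3080 : ∀ i, i < 3080 → P i := stepQ 3079 Q3079 (allL N3079 (tt N2978 F59200) (tt N2960 F59201) (tt N3141 (iv F69932)) (tt N2956 F59202) (tt N2976 F69626) (tt N2955 (iv D18263)) (tt N2982 F69627) (tt N2974 F69628))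
theorem Q3081 : ∀ i, i < 3081 → P i := stepQ 3080 Q3080 (allL N3080 (tt N2979 F59203) (tt N2961 F59204) (tt N3143 D20605) (tt N2957 F59205) (tt N3022 F59206) (tt N2982 F69449) (tt N2955 (iv D18264)) (tt N2980 F69450))
theorem Q3082 : ∀ i, i < 3082 → P i := stepQ 3081 Q3081 (allL N3081 (tt N2980 F59207) (tt N2962 F59208) (tt N3144 D20606) (tt N2982 F69368) (tt N3031 F69369) (tt N2957 F59209) (tt N2956 (iv D18265)) (tt N2979 F69370))
theorem Q3083 : ∀ i, i < 3083 → P i := stepQ 3082 Q3082 (allL N3082 (tt N2981 F59210) (tt N3082 F59211) (tt N2957 (iv D18266)) (tt N3145 D20607) (tt N2958 F59212) (tt N3144 (iv F69951)) (tt N3129 (iv F69863)) (tt N3146 D20608))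
theorem Q3084 : ∀ i, i < 3084 → P i := stepQ 3083 Q3083 (allL N3083 (tt N2982 F59213) (tt N2963 F59214) (tt N3146 (iv F69959)) (tt N2980 F69456) (tt N2959 F59215) (tt N2979 F69457) (tt N2978 F69458) (tt N2957 (iv D18267)))
theorem Q3085 : ∀ i, i < 3085 → P i := stepQ 3084 Q3084 (allL N3084 (tt N2983 F59216) (tt N3084 F59217) (tt N3021 F68114) (tt N2958 (iv D18268)) (tt N3131 (iv F69873)) (tt N3020 F68115) (tt N3130 (iv F69869)) (tt N3129 (iv F69864)))
theorem Q3086 : ∀ i, i < 3086 → P i := stepQ 3085 Q3085 (allL N3085 (tt N2984 F59219) (tt N3085 F59220) (tt N2959 F59221) (tt N3129 (iv F69860)) (tt N3146 (iv F69960)) (tt N3137 (iv F69914)) (tt N3145 (iv F69956)) (tt N2958 (iv D18269)))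
theorem Q3087 : ∀ i, i < 3087 → P i := stepQ 3086 Q3086 (allL N3086 (tt N3135 (iv F69895)) (tt N3086 F59297) (tt N2964 (iv D18293)) (tt N3132 (iv F69877)) (tt N3007 F68257) (tt N3147 D20609) (tt N3125 (iv F69838)) (tt N3128 (iv F69857)))
theorem Q3088 : ∀ i, i < 3088 → P i := stepQ 3087 Q3087 (allL N3087 (tt N3026 F69365) (tt N2969 F59299) (tt N3147 (iv F69964)) (tt N2965 F59300) (tt N3019 F69366) (tt N2964 (iv D18294)) (tt N3006 F68258) (tt N3017 F69367))
theorem Q3089 : ∀ i, i < 3089 → P i := stepQ 3088 Q3088 (allL N3088 (tt N3031 F69362) (tt N2970 F59304) (tt N3148 D20610) (tt N3006 F68068) (tt N2980 F59305) (tt N2966 F59306) (tt N2965 (iv D18296)) (tt N3022 F69363))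
theorem Q3090 : ∀ i, i < 3090 → P i := stepQ 3089 Q3089 (allL N3089 (tt N3136 (iv F69902)) (tt N2992 F59307) (tt N2966 (iv D18297)) (tt N3124 (iv F69828)) (tt N2967 F59308) (tt N3148 (iv F69973)) (tt N3133 (iv F69887)) (tt N3149 D20611))
theorem Q3091 : ∀ i, i < 3091 → P i := stepQ 3090 Q3090 (allL N3090 (tt N3010 F69335) (tt N2971 F59309) (tt N3149 (iv F69978)) (tt N3004 F68069) (tt N2968 F59310) (tt N3022 F69336) (tt N3021 F69337) (tt N2966 (iv D18298)))
theorem Q3092 : ∀ i, i < 3092 → P i := stepQ 3091 Q3091 (allL N3091 (tt N3137 (iv F69909)) (tt N2994 F59314) (tt N2968 F59315) (tt N3024 F68067) (tt N3149 (iv F69980)) (tt N2984 F59316) (tt N3150 D20612) (tt N2967 (iv D18300)))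
theorem Q3093 : ∀ i, i < 3093 → P i := stepQ 3092 Q3092 (allL N3092 (tt N3132 (iv F69875)) (tt N2985 F59349) (tt N2972 (iv D18311)) (tt N3135 (iv F69897)) (tt N3024 F59350) (tt N3133 (iv F69886)) (tt N3148 (iv F69974)) (tt N2977 F59351))
theorem Q3094 : ∀ i, i < 3094 → P i := stepQ 3093 Q3093 (allL N3093 (tt N3133 (iv F69882)) (tt N3093 F59360) (tt N2974 (iv D18315)) (tt N3147 (iv F69965)) (tt N2975 F59361) (tt N3132 (iv F69879)) (tt N3136 (iv F69907)) (tt N3141 (iv F69935)))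
theorem Q3095 : ∀ i, i < 3095 → P i := stepQ 3094 Q3094 (allL N3094 (tt N3029 F69820) (tt N3094 F59365) (tt N3027 F59366) (tt N2975 (iv D18317)) (tt N3142 (iv F69939)) (tt N3130 (iv F69868)) (tt N3020 F69821) (tt N3151 D20613))
theorem Q3096 : ∀ i, i < 3096 → P i := stepQ 3095 Q3095 (allL N3095 (tt N3134 (iv F69889)) (tt N3095 F59367) (tt N2976 F59368) (tt N3151 (iv F69990)) (tt N3141 (iv F69934)) (tt N3131 (iv F69874)) (tt N3152 D20614) (tt N2975 (iv D18318)))
theorem Q3097 : ∀ i, i < 3097 → P i := stepQ 3096 Q3096 (allL N3096 (tt N3141 (iv F69930)) (tt N2987 F59403) (tt N2978 F59404) (tt N3025 F68885) (tt N3134 (iv F69893)) (tt N2977 (iv D18329)) (tt N3153 D20615) (tt N3133 (iv F69888)))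
theorem Q3098 : ∀ i, i < 3098 → P i := stepQ 3097 Q3097 (allL N3097 (tt N3142 (iv F69936)) (tt N2988 F59405) (tt N3151 (iv F69989)) (tt N3028 F68886) (tt N3029 F59406) (tt N3153 (iv F69998)) (tt N2977 (iv D18330)) (tt N3027 F68887))
theorem Q3099 : ∀ i, i < 3099 → P i := stepQ 3098 Q3098 (allL N3098 (tt N3143 (iv F69942)) (tt N3098 F59412) (tt N2979 (iv D18333)) (tt N3152 (iv F69995)) (tt N3030 F59413) (tt N3146 (iv F69961)) (tt N3151 (iv F69992)) (tt N3144 (iv F69953)))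
theorem Q3100 : ∀ i, i < 3100 → P i := stepQ 3099 Q3099 (allL N3099 (tt N3144 (iv F69948)) (tt N2996 F59417) (tt N2980 (iv D18335)) (tt N3150 (iv F69984)) (tt N3148 (iv F69972)) (tt N2981 F59418) (tt N3024 F69138) (tt N3143 (iv F69947)))
theorem Q3101 : ∀ i, i < 3101 → P i := stepQ 3100 Q3100 (allL N3100 (tt N3145 (iv F69954)) (tt N2998 F59421) (tt N3152 (iv F69994)) (tt N2981 (iv D18337)) (tt N3139 (iv F69921)) (tt N3150 (iv F69986)) (tt N2984 F69134) (tt N3138 F69918))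
theorem Q3102 : ∀ i, i < 3102 → P i := stepQ 3101 Q3101 (allL N3101 (tt N3146 (iv F69957)) (tt N2999 F59422) (tt N2982 F59423) (tt N3138 (iv F69916)) (tt N2984 F59424) (tt N3143 (iv F69945)) (tt N3139 (iv F69923)) (tt N2981 (iv D18338)))
theorem Q3103 : ∀ i, i < 3103 → P i := stepQ 3102 Q3102 (allL N3102 (tt N3102 F59445) (tt N3148 (iv F69970)) (tt N2991 F69139) (tt N3039 F69813) (tt N2996 F69140) (tt N2992 F69141) (tt N2985 (iv D18346)) (tt N3038 (iv F69815)))
theorem Q3104 : ∀ i, i < 3104 → P i := stepQ 3103 Q3103 (allL N3103 (tt N3103 F59465) (tt N3103 F59466) (tt N2990 F69146) (tt N2986 (iv D18351)) (tt N3103 F68432) (tt N2989 F69147) (tt N3035 (iv F69148)) (tt N3103 F59467))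
theorem Q3105 : ∀ i, i < 3105 → P i := stepQ 3104 Q3104 (allL N3104 (tt N3104 F59498) (tt N3153 (iv F69996)) (tt N3104 F59499) (tt N3037 (iv F69825)) (tt N3140 (iv F69927)) (tt N2988 F59500) (tt N2987 (iv D18360)) (tt N3040 F69824))
theorem Q3106 : ∀ i, i < 3106 → P i := stepQ 3105 Q3105 (allL N3105 (tt N3105 F59527) (tt N2995 F59528) (tt N3038 F69816) (tt N3009 F68255) (tt N2997 F59529) (tt N2993 F59530) (tt N3105 F59531) (tt N2991 (iv D18368)))
theorem Q3107 : ∀ i, i < 3107 → P i := stepQ 3106 Q3106 (allL N3106 (tt N3106 F59533) (tt N3149 (iv F69977)) (tt N2993 F59534) (tt N3036 F69803) (tt N2994 F59535) (tt N3038 (iv F69805)) (tt N3040 (iv F69806)) (tt N2992 (iv D18370)))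
theorem Q3108 : ∀ i, i < 3108 → P i := stepQ 3107 Q3107 (allL N3107 (tt N3107 F59542) (tt N3150 (iv F69983)) (tt N3107 F59543) (tt N2996 F69136) (tt N3040 (iv F69814)) (tt N2998 F69137) (tt N2994 (iv D18373)) (tt N3140 (iv F69929)))
theorem Q3109 : ∀ i, i < 3109 → P i := stepQ 3108 Q3108 (allL N3108 (tt N3108 F59578) (tt N3143 (iv F69943)) (tt N2997 F59579) (tt N3140 (iv F69926)) (tt N3038 F69817) (tt N2999 F59580) (tt N3032 F69142) (tt N2996 (iv D18384)))
theorem Q3110 : ∀ i, i < 3110 → P i := stepQ 3109 Q3109 (allL N3109 (tt N3007 F60198) (tt N3036 F69610) (tt N3001 (iv D18588)) (tt N3149 (iv F69979)) (tt N3135 (iv F69898)) (tt N3013 F69611) (tt N3023 F69612) (tt N3124 (iv F69832)))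
theorem Q3111 : ∀ i, i < 3111 → P i := stepQ 3110 Q3110 (allL N3110 (tt N3013 F69352) (tt N3110 F60322) (tt N3003 (iv D18632)) (tt N3030 F68077) (tt N3127 (iv F69848)) (tt N3007 F60323) (tt N3018 F69353) (tt N3125 (iv F69839)))
theorem Q3112 : ∀ i, i < 3112 → P i := stepQ 3111 Q3111 (allL N3111 (tt N3149 (iv F69976)) (tt N3111 F60475) (tt N3010 F68054) (tt N3007 (iv D18690)) (tt N3137 (iv F69913)) (tt N3030 F68030) (tt N3126 (iv F69844)) (tt N3136 (iv F69908)))
theorem Q3113 : ∀ i, i < 3113 → P i := stepQ 3112 Q3112 (allL N3112 (tt N3124 (iv F69826)) (tt N3112 F60477) (tt N3008 F60478) (tt N3136 (iv F69904)) (tt N3128 (iv F69854)) (tt N3125 (iv F69837)) (tt N3147 (iv F69967)) (tt N3007 (iv D18691)))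
theorem Q3114 : ∀ i, i < 3114 → P i := stepQ 3113 Q3113 (allL N3113 (tt N3127 (iv F69845)) (tt N3037 F61080) (tt N3012 (iv D18890)) (tt N3153 (iv F69997)) (tt N3013 F61081) (tt N3028 F68071) (tt N3025 F61082) (tt N3023 F68072))
theorem Q3115 : ∀ i, i < 3115 → P i := stepQ 3114 Q3114 (allL N3114 (tt N3030 F69818) (tt N3038 F61086) (tt N3022 F69819) (tt N3013 (iv D18892)) (tt N3143 (iv F69944)) (tt N3149 (iv F69981)) (tt N3027 F61087) (tt N3148 (iv F69975)))
theorem Q3116 : ∀ i, i < 3116 → P i := stepQ 3115 Q3115 (allL N3115 (tt N3125 (iv F69833)) (tt N3039 F61088) (tt N3014 F61089) (tt N3148 (iv F69971)) (tt N3023 F68260) (tt N3124 (iv F69830)) (tt N3135 (iv F69900)) (tt N3013 (iv D18893)))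
theorem Q3117 : ∀ i, i < 3117 → P i := stepQ 3116 Q3116 (allL N3116 (tt N3024 F61749) (tt N3116 F61750) (tt N3015 (iv D19114)) (tt N3137 (iv F69912)) (tt N3132 (iv F69878)) (tt N3129 (iv F69862)) (tt N3144 (iv F69952)) (tt N3020 F61751))
theorem Q3118 : ∀ i, i < 3118 → P i := stepQ 3117 Q3117 (allL N3117 (tt N3025 F61762) (tt N3117 F61763) (tt N3017 (iv D19118)) (tt N3141 (iv F69933)) (tt N3018 F61764) (tt N3128 (iv F69855)) (tt N3127 F69850) (tt N3147 (iv F69968)))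
theorem Q3119 : ∀ i, i < 3119 → P i := stepQ 3118 Q3118 (allL N3118 (tt N3027 F61769) (tt N3118 F61770) (tt N3029 F69822) (tt N3018 (iv D19120)) (tt N3151 (iv F69991)) (tt N3126 (iv F69843)) (tt N3030 F69823) (tt N3142 (iv F69940)))
theorem Q3120 : ∀ i, i < 3120 → P i := stepQ 3119 Q3119 (allL N3119 (tt N3028 F61771) (tt N3119 F61772) (tt N3019 F61773) (tt N3142 (iv F69938)) (tt N3147 (iv F69966)) (tt N3127 (iv F69849)) (tt N3128 (iv F69856)) (tt N3018 (iv D19121)))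
theorem Q3121 : ∀ i, i < 3121 → P i := stepQ 3120 Q3120 (allL N3120 (tt N3126 (iv F69840)) (tt N3040 F61880) (tt N3130 (iv F69867)) (tt N3023 (iv D19160)) (tt N3150 (iv F69985)) (tt N3027 F61881) (tt N3149 F69982) (tt N3153 (iv F69999)))
theorem Q3122 : ∀ i, i < 3122 → P i := stepQ 3121 Q3121 (allL N3121 (tt N3147 (iv F69962)) (tt N3041 F61991) (tt N3026 F61992) (tt N3133 (iv F69884)) (tt N3028 F61993) (tt N3135 (iv F69899)) (tt N3124 (iv F69831)) (tt N3025 (iv D19206)))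
theorem Q3123 : ∀ i, i < 3123 → P i := stepQ 3122 Q3122 (allL N3122 (tt N3151 (iv F69987)) (tt N3032 F69085) (tt N3142 (iv F69941)) (tt N3134 (iv F69892)) (tt N3027 (iv D19207)) (tt N3139 (iv F69922)) (tt N3143 (iv F69946)) (tt N3029 F69086))
theorem Q3124 : ∀ i, i < 3124 → P i := stepQ 3123 Q3123 (allL N3123 (tt N3148 (iv F69969)) (tt N3123 F62047) (tt N3031 F62048) (tt N3125 (iv F69835)) (tt N3144 (iv F69950)) (tt N3136 (iv F69906)) (tt N3132 (iv F69880)) (tt N3030 (iv D19229)))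
theorem Q3125 : ∀ i, i < 3125 → P i := stepQ 3124 Q3124 (allL N3124 (tt N3112 F69826) (tt N3048 F69827) (tt N3043 (iv D20586)) (tt N3089 F69828) (tt N3066 F69829) (tt N3115 F69830) (tt N3121 F69831) (tt N3109 F69832))
theorem Q3126 : ∀ i, i < 3126 → P i := stepQ 3125 Q3125 (allL N3125 (tt N3115 F69833) (tt N3125 F69834) (tt N3045 (iv D20587)) (tt N3123 F69835) (tt N3046 F69836) (tt N3112 F69837) (tt N3086 F69838) (tt N3110 F69839))
theorem Q3127 : ∀ i, i < 3127 → P i := stepQ 3126 Q3126 (allL N3126 (tt N3120 F69840) (tt N3126 F69841) (tt N3068 F69842) (tt N3046 (iv D20588)) (tt N3154 D20616) (tt N3118 F69843) (tt N3111 F69844) (tt N3155 D20617))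
theorem Q3128 : ∀ i, i < 3128 → P i := stepQ 3127 Q3127 (allL N3127 (tt N3113 F69845) (tt N3127 F69846) (tt N3047 F69847) (tt N3155 (iv F70010)) (tt N3110 F69848) (tt N3119 F69849) (tt N3117 (iv F69850)) (tt N3046 (iv D20589)))
theorem Q3129 : ∀ i, i < 3129 → P i := stepQ 3128 Q3128 (allL N3128 (tt N3066 F69851) (tt N3128 F69852) (tt N3051 (iv D20590)) (tt N3078 F69853) (tt N3112 F69854) (tt N3117 F69855) (tt N3119 F69856) (tt N3086 F69857))
theorem Q3130 : ∀ i, i < 3130 → P i := stepQ 3129 Q3129 (allL N3129 (tt N3067 F69858) (tt N3129 F69859) (tt N3053 (iv D20591)) (tt N3085 F69860) (tt N3054 F69861) (tt N3116 F69862) (tt N3082 F69863) (tt N3084 F69864))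
theorem Q3131 : ∀ i, i < 3131 → P i := stepQ 3130 Q3130 (allL N3130 (tt N3068 F69865) (tt N3130 F69866) (tt N3120 F69867) (tt N3054 (iv D20592)) (tt N3156 D20618) (tt N3094 F69868) (tt N3084 F69869) (tt N3157 D20619))
theorem Q3132 : ∀ i, i < 3132 → P i := stepQ 3131 Q3131 (allL N3131 (tt N3069 F69870) (tt N3131 F69871) (tt N3055 F69872) (tt N3157 (iv F70024)) (tt N3084 F69873) (tt N3095 F69874) (tt N3156 (iv F70019)) (tt N3054 (iv D20593)))
theorem Q3133 : ∀ i, i < 3133 → P i := stepQ 3132 Q3132 (allL N3132 (tt N3092 F69875) (tt N3132 F69876) (tt N3056 (iv D20594)) (tt N3086 F69877) (tt N3116 F69878) (tt N3093 F69879) (tt N3123 F69880) (tt N3078 F69881))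
theorem Q3134 : ∀ i, i < 3134 → P i := stepQ 3133 Q3133 (allL N3133 (tt N3093 F69882) (tt N3074 F69883) (tt N3058 (iv D20595)) (tt N3121 F69884) (tt N3059 F69885) (tt N3092 F69886) (tt N3089 F69887) (tt N3096 F69888))
theorem Q3135 : ∀ i, i < 3135 → P i := stepQ 3134 Q3134 (allL N3134 (tt N3095 F69889) (tt N3075 F69890) (tt N3060 F69891) (tt N3122 F69892) (tt N3096 F69893) (tt N3069 F69894) (tt N3158 D20620) (tt N3059 (iv D20596)))
theorem Q3136 : ∀ i, i < 3136 → P i := stepQ 3135 Q3135 (allL N3135 (tt N3086 F69895) (tt N3070 F69896) (tt N3061 (iv D20597)) (tt N3092 F69897) (tt N3109 F69898) (tt N3121 F69899) (tt N3115 F69900) (tt N3066 F69901))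
theorem Q3137 : ∀ i, i < 3137 → P i := stepQ 3136 Q3136 (allL N3136 (tt N3089 F69902) (tt N3136 F69903) (tt N3063 (iv D20598)) (tt N3112 F69904) (tt N3064 F69905) (tt N3123 F69906) (tt N3093 F69907) (tt N3111 F69908))
theorem Q3138 : ∀ i, i < 3138 → P i := stepQ 3137 Q3137 (allL N3137 (tt N3091 F69909) (tt N3137 F69910) (tt N3065 F69911) (tt N3116 F69912) (tt N3111 F69913) (tt N3085 F69914) (tt N3154 (iv F70004)) (tt N3064 (iv D20599)))
theorem Q3139 : ∀ i, i < 3139 → P i := stepQ 3138 Q3138 (allL N3138 (tt N3156 (iv F70014)) (tt N3076 F69915) (tt N3154 (iv F70002)) (tt N3101 F69916) (tt N3068 (iv D20600)) (tt N3158 (iv F70033)) (tt N3069 F69917) (tt N3100 (iv F69918)))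
theorem Q3140 : ∀ i, i < 3140 → P i := stepQ 3139 Q3139 (allL N3139 (tt N3157 (iv F70021)) (tt N3077 F69919) (tt N3155 (iv F70009)) (tt N3069 F69920) (tt N3100 F69921) (tt N3122 F69922) (tt N3101 F69923) (tt N3068 (iv D20601)))
theorem Q3141 : ∀ i, i < 3141 → P i := stepQ 3140 Q3140 (allL N3140 (tt N3140 F69924) (tt N3158 (iv F70029)) (tt N3140 F69925) (tt N3108 F69926) (tt N3104 F69927) (tt N3076 F69928) (tt N3075 (iv D20602)) (tt N3107 F69929))
theorem Q3142 : ∀ i, i < 3142 → P i := stepQ 3141 Q3141 (allL N3141 (tt N3096 F69930) (tt N3141 F69931) (tt N3079 F69932) (tt N3117 F69933) (tt N3095 F69934) (tt N3078 (iv D20603)) (tt N3155 (iv F70013)) (tt N3093 F69935))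
theorem Q3143 : ∀ i, i < 3143 → P i := stepQ 3142 Q3142 (allL N3142 (tt N3097 F69936) (tt N3142 F69937) (tt N3122 F69941) (tt N3119 F69938) (tt N3094 F69939) (tt N3155 (iv F70012)) (tt N3078 (iv D20604)) (tt N3118 F69940))
theorem Q3144 : ∀ i, i < 3144 → P i := stepQ 3143 Q3143 (allL N3143 (tt N3098 F69942) (tt N3108 F69943) (tt N3080 (iv D20605)) (tt N3158 (iv F70031)) (tt N3114 F69944) (tt N3101 F69945) (tt N3122 F69946) (tt N3099 F69947))
theorem Q3145 : ∀ i, i < 3145 → P i := stepQ 3144 Q3144 (allL N3144 (tt N3099 F69948) (tt N3144 F69949) (tt N3081 (iv D20606)) (tt N3154 (iv F70003)) (tt N3123 F69950) (tt N3082 F69951) (tt N3116 F69952) (tt N3098 F69953))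
theorem Q3146 : ∀ i, i < 3146 → P i := stepQ 3145 Q3145 (allL N3145 (tt N3100 F69954) (tt N3145 F69955) (tt N3158 (iv F70030)) (tt N3082 (iv D20607)) (tt N3157 (iv F70025)) (tt N3154 F70005) (tt N3085 F69956) (tt N3156 F70020))
theorem Q3147 : ∀ i, i < 3147 → P i := stepQ 3146 Q3146 (allL N3146 (tt N3101 F69957) (tt N3146 F69958) (tt N3083 F69959) (tt N3156 (iv F70017)) (tt N3085 F69960) (tt N3098 F69961) (tt N3157 (iv F70027)) (tt N3082 (iv D20608)))
theorem Q3148 : ∀ i, i < 3148 → P i := stepQ 3147 Q3147 (allL N3147 (tt N3121 F69962) (tt N3147 F69963) (tt N3087 F69964) (tt N3093 F69965) (tt N3119 F69966) (tt N3086 (iv D20609)) (tt N3112 F69967) (tt N3117 F69968))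
theorem Q3149 : ∀ i, i < 3149 → P i := stepQ 3148 Q3148 (allL N3148 (tt N3123 F69969) (tt N3102 F69970) (tt N3088 (iv D20610)) (tt N3115 F69971) (tt N3099 F69972) (tt N3089 F69973) (tt N3092 F69974) (tt N3114 F69975))
theorem Q3150 : ∀ i, i < 3150 → P i := stepQ 3149 Q3149 (allL N3149 (tt N3111 F69976) (tt N3106 F69977) (tt N3090 F69978) (tt N3109 F69979) (tt N3091 F69980) (tt N3114 F69981) (tt N3120 (iv F69982)) (tt N3089 (iv D20611)))
theorem Q3151 : ∀ i, i < 3151 → P i := stepQ 3150 Q3150 (allL N3150 (tt N3154 (iv F70000)) (tt N3107 F69983) (tt N3156 (iv F70016)) (tt N3099 F69984) (tt N3120 F69985) (tt N3100 F69986) (tt N3091 (iv D20612)) (tt N3158 (iv F70034)))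
theorem Q3152 : ∀ i, i < 3152 → P i := stepQ 3151 Q3151 (allL N3151 (tt N3122 F69987) (tt N3151 F69988) (tt N3097 F69989) (tt N3095 F69990) (tt N3118 F69991) (tt N3157 (iv F70026)) (tt N3098 F69992) (tt N3094 (iv D20613)))
theorem Q3153 : ∀ i, i < 3153 → P i := stepQ 3152 Q3152 (allL N3152 (tt N3158 (iv F70028)) (tt N3152 F69993) (tt N3100 F69994) (tt N3098 F69995) (tt N3155 (iv F70011)) (tt N3156 (iv F70018)) (tt N3095 (iv D20614)) (tt N3154 F70006))
theorem Q3154 : ∀ i, i < 3154 → P i := stepQ 3153 Q3153 (allL N3153 (tt N3155 (iv F70007)) (tt N3104 F69996) (tt N3157 (iv F70023)) (tt N3113 F69997) (tt N3158 (iv F70032)) (tt N3097 F69998) (tt N3096 (iv D20615)) (tt N3120 F69999))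
theorem Q3155 : ∀ i, i < 3155 → P i := stepQ 3154 Q3154 (allL N3154 (tt N3150 F70000) (tt N3154 F70001) (tt N3138 F70002) (tt N3144 F70003) (tt N3126 (iv D20616)) (tt N3145 (iv F70005)) (tt N3137 F70004) (tt N3152 (iv F70006)))
theorem Q3156 : ∀ i, i < 3156 → P i := stepQ 3155 Q3155 (allL N3155 (tt N3153 F70007) (tt N3155 F70008) (tt N3139 F70009) (tt N3127 F70010) (tt N3152 F70011) (tt N3142 F70012) (tt N3141 F70013) (tt N3126 (iv D20617)))
theorem Q3157 : ∀ i, i < 3157 → P i := stepQ 3156 Q3156 (allL N3156 (tt N3138 F70014) (tt N3156 F70015) (tt N3150 F70016) (tt N3146 F70017) (tt N3130 (iv D20618)) (tt N3152 F70018) (tt N3131 F70019) (tt N3145 (iv F70020)))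
theorem Q3158 : ∀ i, i < 3158 → P i := stepQ 3157 Q3157 (allL N3157 (tt N3139 F70021) (tt N3157 F70022) (tt N3153 F70023) (tt N3131 F70024) (tt N3145 F70025) (tt N3151 F70026) (tt N3146 F70027) (tt N3130 (iv D20619)))
theorem Q3159 : ∀ i, i < 3159 → P i := stepQ 3158 Q3158 (allL N3158 (tt N3152 F70028) (tt N3140 F70029) (tt N3145 F70030) (tt N3143 F70031) (tt N3153 F70032) (tt N3138 F70033) (tt N3134 (iv D20620)) (tt N3150 F70034))

theorem closedN : ∀ i, i < N → P i := Q3159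

end Cfsg.Agent.Helper17.FiR2TC
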